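import Mathlib.AlgebraicGeometry.Fiber
import Mathlib.AlgebraicGeometry.Stalk
import Mathlib.AlgebraicGeometry.ResidueField
import Mathlib.RingTheory.KrullDimension.Basic
import Mathlib.RingTheory.LocalRing.Quotient

/-!
# The local ring of a fibre

For `f : X ⟶ Y`, `x : X`, `y = f x`, `B = 𝒪_{X,x}`, `A = 𝒪_{Y,y}` and `I = 𝔪_A B` (`fiberIdeal f x`):

* `specToFiber f x : Spec (B ⧸ I) ⟶ f.fiber y`, the canonical morphism;
* `fiberStalkToQuot f x : 𝒪_{X_y, x} ⟶ B ⧸ I`, a surjective ring homomorphism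
  (`fiberStalkToQuot_surjective`);
* `ringKrullDim_quot_le_fiberStalk`: `dim B ⧸ I ≤ dim 𝒪_{X_y,x}`.
-/

set_option autoImplicit false

open CategoryTheory CategoryTheory.Limits AlgebraicGeometry

universe u

namespace Groth.Agent.Lib.Helper6

variable {X Y : Scheme.{u}} (f : X ⟶ Y) (x : X)

/-- The ideal `𝔪_y 𝒪_{X,x}` of the local ring of `X` at `x`, where `y = f x`. -/
noncomputable def fiberIdeal : Ideal (X.presheaf.stalk x) :=
  (IsLocalRing.maximalIdeal (Y.presheaf.stalk (f.base x))).map (f.stalkMap x).hom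

lemma fiberIdeal_le_maximalIdeal :
    fiberIdeal f x ≤ IsLocalRing.maximalIdeal (X.presheaf.stalk x) :=
  ((IsLocalRing.local_hom_TFAE (f.stalkMap x).hom).out 0 2).mp
    (inferInstance : IsLocalHom (f.stalkMap x).hom)

lemma fiberIdeal_ne_top : fiberIdeal f x ≠ ⊤ := fun h =>
  (inferInstance : (IsLocalRing.maximalIdeal (X.presheaf.stalk x)).IsMaximal).ne_top
    (top_le_iff.mp (h ▸ fiberIdeal_le_maximalIdeal f x))

instance : Nontrivial (X.presheaf.stalk x ⧸ fiberIdeal f x) :=
  Ideal.Quotient.nontrivial_iff.mpr (fiberIdeal_ne_top f x)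

instance : IsLocalRing (X.presheaf.stalk x ⧸ fiberIdeal f x) :=
  IsLocalRing.of_surjective' (Ideal.Quotient.mk (fiberIdeal f x)) Ideal.Quotient.mk_surjective

/-- The quotient `𝒪_{X,x} ⧸ 𝔪_y 𝒪_{X,x}` as a commutative ring object. -/
noncomputable abbrev fiberQuotRing : CommRingCat.{u} :=
  CommRingCat.of (X.presheaf.stalk x ⧸ fiberIdeal f x)

instance : IsLocalRing (fiberQuotRing f x) :=
  inferInstanceAs (IsLocalRing (X.presheaf.stalk x ⧸ fiberIdeal f x))

/-- The quotient map `𝒪_{X,x} ⟶ 𝒪_{X,x} ⧸ 𝔪_y 𝒪_{X,x}`. -/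
noncomputable def fiberQuot : X.presheaf.stalk x ⟶ fiberQuotRing f x :=
  CommRingCat.ofHom (Ideal.Quotient.mk (fiberIdeal f x))

lemma fiberQuot_surjective : Function.Surjective (fiberQuot f x).hom :=
  Ideal.Quotient.mk_surjective

instance : IsLocalHom (fiberQuot f x).hom :=
  IsLocalHom.of_surjective (Ideal.Quotient.mk (fiberIdeal f x)) Ideal.Quotient.mk_surjective

/-- The map `κ(y) ⟶ 𝒪_{X,x} ⧸ 𝔪_y 𝒪_{X,x}`. -/
noncomputable def residueToFiberQuot : Y.residueField (f.base x) ⟶ fiberQuotRing f x :=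
  CommRingCat.ofHom (Ideal.quotientMap (fiberIdeal f x) (f.stalkMap x).hom Ideal.le_comap_map)

lemma residue_residueToFiberQuot :
    Y.residue (f.base x) ≫ residueToFiberQuot f x = f.stalkMap x ≫ fiberQuot f x := by
  ext a
  rfl

/-- `Spec (𝒪_{X,x} ⧸ 𝔪_y 𝒪_{X,x}) ⟶ X`. -/
noncomputable def specQuotToX : Spec (fiberQuotRing f x) ⟶ X :=
  Spec.map (fiberQuot f x) ≫ X.fromSpecStalk x

lemma specQuotToX_comp :
    specQuotToX f x ≫ f =
      Spec.map (residueToFiberQuot f x) ≫ Y.fromSpecResidueField (f.base x) := by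
  rw [specQuotToX, Category.assoc, ← Scheme.SpecMap_stalkMap_fromSpecStalk,
    Scheme.fromSpecResidueField, ← Spec.map_comp_assoc, ← Spec.map_comp_assoc,
    residue_residueToFiberQuot]

/-- The canonical morphism `Spec (𝒪_{X,x} ⧸ 𝔪_y 𝒪_{X,x}) ⟶ X_y`. -/
noncomputable def specToFiber : Spec (fiberQuotRing f x) ⟶ f.fiber (f.base x) :=
  pullback.lift (specQuotToX f x) (Spec.map (residueToFiberQuot f x)) (specQuotToX_comp f x)

lemma specToFiber_fiberι : specToFiber f x ≫ f.fiberι (f.base x) = specQuotToX f x :=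
  pullback.lift_fst _ _ _

lemma specQuotToX_closedPoint :
    (specQuotToX f x).base (IsLocalRing.closedPoint (fiberQuotRing f x)) = x := by
  rw [specQuotToX, Scheme.Hom.comp_base, TopCat.comp_app]
  erw [Spec_closedPoint]
  exact Scheme.fromSpecStalk_closedPoint

lemma specToFiber_closedPoint :
    (specToFiber f x).base (IsLocalRing.closedPoint (fiberQuotRing f x)) = f.asFiber x := by
  apply (f.fiberι (f.base x)).isEmbedding.injective
  rw [Scheme.Hom.fiberι_asFiber]
  have := specQuotToX_closedPoint f x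
  rw [← specToFiber_fiberι] at this
  exact this

lemma stalkClosedPointTo_specQuotToX_surjective :
    Function.Surjective (Scheme.stalkClosedPointTo (specQuotToX f x)).hom := by
  have h : (⟨(specQuotToX f x).base (IsLocalRing.closedPoint (fiberQuotRing f x)),
        Scheme.stalkClosedPointTo (specQuotToX f x), inferInstance⟩ :
      Σ x', { g : X.presheaf.stalk x' ⟶ fiberQuotRing f x // IsLocalHom g.hom }) =
      ⟨x, fiberQuot f x, inferInstance⟩ :=
    (SpecToEquivOfLocalRing X (fiberQuotRing f x)).right_inv ⟨x, fiberQuot f x, inferInstance⟩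
  obtain ⟨h₁, h₂⟩ := SpecToEquivOfLocalRing_eq_iff.mp h
  dsimp only at h₂
  rw [h₂]
  exact (fiberQuot_surjective f x).comp
    (ConcreteCategory.bijective_of_isIso (X.presheaf.stalkCongr _).hom).2

/-- The canonical ring homomorphism `𝒪_{X_y, x'} ⟶ 𝒪_{X,x} ⧸ 𝔪_y 𝒪_{X,x}`, where `x'` is the image
of the closed point under `specToFiber` (which is `f.asFiber x`). -/
noncomputable def fiberStalkToQuot' :
    (f.fiber (f.base x)).presheaf.stalk
      ((specToFiber f x).base (IsLocalRing.closedPoint (fiberQuotRing f x))) ⟶ fiberQuotRing f x :=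
  Scheme.stalkClosedPointTo (specToFiber f x)

lemma fiberStalkToQuot'_surjective : Function.Surjective (fiberStalkToQuot' f x).hom := by
  have h1 : Function.Surjective
      (Scheme.stalkClosedPointTo (specToFiber f x ≫ f.fiberι (f.base x))).hom := by
    rw [specToFiber_fiberι]
    exact stalkClosedPointTo_specQuotToX_surjective f x
  rw [Scheme.stalkClosedPointTo_comp] at h1
  exact Function.Surjective.of_comp h1

/-- `dim 𝒪_{X,x} ⧸ 𝔪_y 𝒪_{X,x} ≤ dim 𝒪_{X_y,x}`. -/
theorem ringKrullDim_quot_le_fiberStalk :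
    ringKrullDim (X.presheaf.stalk x ⧸ fiberIdeal f x) ≤
      ringKrullDim ((f.fiber (f.base x)).presheaf.stalk (f.asFiber x)) := by
  have h := ringKrullDim_le_of_surjective (fiberStalkToQuot' f x).hom
    (fiberStalkToQuot'_surjective f x)
  rw [specToFiber_closedPoint] at h
  exact h

end Groth.Agent.Lib.Helper6
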