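import Mathlib
import Groth.Agent.Lib.Helper6.FiberStalk

/-!
# The local ring of a fibre is `𝒪_{X,x} ⧸ 𝔪_y 𝒪_{X,x}`

* `fiberStalkToQuot'_injective`, `fiberStalkToQuot'_bijective`;
* `fiberStalkEquiv f x : 𝒪_{X_y,x} ≃+* 𝒪_{X,x} ⧸ 𝔪_y 𝒪_{X,x}`.
-/

set_option autoImplicit false

open CategoryTheory CategoryTheory.Limits AlgebraicGeometry

universe u

namespace Groth.Agent.Lib.Helper6

/-- A morphism from the spectrum of a local ring sending the closed point to `x` factors through
`Spec 𝒪_{X,x}`. -/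
lemma exists_factor_fromSpecStalk {X : Scheme.{u}} {R : CommRingCat.{u}} [IsLocalRing R]
    (g : Spec R ⟶ X) (x : X) (hx : g (IsLocalRing.closedPoint R) = x) :
    ∃ ψ : X.presheaf.stalk x ⟶ R, g = Spec.map ψ ≫ X.fromSpecStalk x := by
  subst hx
  exact ⟨Scheme.stalkClosedPointTo g, (Scheme.Spec_stalkClosedPointTo_fromSpecStalk g).symm⟩

variable {X Y : Scheme.{u}} (f : X ⟶ Y) (x : X)

theorem fiberStalkToQuot'_injective : Function.Injective (fiberStalkToQuot' f x).hom := by
  have hjt : Spec.map (fiberStalkToQuot' f x) ≫ (f.fiber (f.base x)).fromSpecStalk _ =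
      specToFiber f x := Scheme.Spec_stalkClosedPointTo_fromSpecStalk (specToFiber f x)
  have hjx : ((f.fiber (f.base x)).fromSpecStalk
      ((specToFiber f x).base (IsLocalRing.closedPoint (fiberQuotRing f x))) ≫
        f.fiberι (f.base x)) (IsLocalRing.closedPoint _) = x :=
    (congrArg (f.fiberι (f.base x))
      (Scheme.fromSpecStalk_closedPoint (X := f.fiber (f.base x)))).trans
      ((congrArg (f.fiberι (f.base x)) (specToFiber_closedPoint f x)).trans (f.fiberι_asFiber x))
  obtain ⟨ψ, hψ⟩ := exists_factor_fromSpecStalk _ x hjx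
  obtain ⟨c, hc⟩ : ∃ c : Y.residueField (f.base x) ⟶ (f.fiber (f.base x)).presheaf.stalk
        ((specToFiber f x).base (IsLocalRing.closedPoint (fiberQuotRing f x))),
      (f.fiber (f.base x)).fromSpecStalk _ ≫ f.fiberToSpecResidueField (f.base x) = Spec.map c :=
    ⟨Spec.preimage _, (Spec.map_preimage _).symm⟩
  have hrel : f.stalkMap x ≫ ψ = Y.residue (f.base x) ≫ c := by
    apply Spec.map_injective
    rw [← cancel_mono (Y.fromSpecStalk (f.base x))]
    calc Spec.map (f.stalkMap x ≫ ψ) ≫ Y.fromSpecStalk (f.base x)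
        = Spec.map ψ ≫ Spec.map (f.stalkMap x) ≫ Y.fromSpecStalk (f.base x) := by
          rw [Spec.map_comp, Category.assoc]
      _ = Spec.map ψ ≫ X.fromSpecStalk x ≫ f := by rw [Scheme.SpecMap_stalkMap_fromSpecStalk]
      _ = ((f.fiber (f.base x)).fromSpecStalk _ ≫ f.fiberι (f.base x)) ≫ f := by
          rw [hψ, Category.assoc]
      _ = (f.fiber (f.base x)).fromSpecStalk _ ≫ f.fiberToSpecResidueField (f.base x) ≫
            Y.fromSpecResidueField (f.base x) := by rw [Category.assoc, Scheme.Hom.fiber_fac]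
      _ = Spec.map c ≫ Spec.map (Y.residue (f.base x)) ≫ Y.fromSpecStalk (f.base x) := by
          rw [← Category.assoc, hc]; rfl
      _ = Spec.map (Y.residue (f.base x) ≫ c) ≫ Y.fromSpecStalk (f.base x) := by
          rw [Spec.map_comp, Category.assoc]
  have hkill : ∀ b ∈ fiberIdeal f x, ψ.hom b = 0 := by
    have hle : fiberIdeal f x ≤ RingHom.ker ψ.hom := by
      refine Ideal.map_le_iff_le_comap.mpr ?_
      intro a ha
      rw [Ideal.mem_comap, RingHom.mem_ker]
      have h1 : ψ.hom ((f.stalkMap x).hom a) = c.hom ((Y.residue (f.base x)).hom a) :=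
        congrArg (fun g => g.hom a) hrel
      rw [h1]
      have h2 : (Y.residue (f.base x)).hom a = 0 := (IsLocalRing.residue_eq_zero_iff a).mpr ha
      rw [h2, map_zero]
    exact fun b hb => hle hb
  let ψbar : fiberQuotRing f x ⟶ (f.fiber (f.base x)).presheaf.stalk
      ((specToFiber f x).base (IsLocalRing.closedPoint (fiberQuotRing f x))) :=
    CommRingCat.ofHom (Ideal.Quotient.lift (fiberIdeal f x) ψ.hom hkill)
  have hψbar : fiberQuot f x ≫ ψbar = ψ := by
    ext b
    rfl
  have hres : residueToFiberQuot f x ≫ ψbar = c := by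
    ext k
    obtain ⟨a, rfl⟩ := Ideal.Quotient.mk_surjective k
    have e1 : (residueToFiberQuot f x).hom ((Y.residue (f.base x)).hom a) =
        (fiberQuot f x).hom ((f.stalkMap x).hom a) :=
      congrArg (fun g => g.hom a) (residue_residueToFiberQuot f x)
    have e2 : ψ.hom ((f.stalkMap x).hom a) = c.hom ((Y.residue (f.base x)).hom a) :=
      congrArg (fun g => g.hom a) hrel
    have e3 : ψbar.hom ((fiberQuot f x).hom ((f.stalkMap x).hom a)) =
        ψ.hom ((f.stalkMap x).hom a) := congrArg (fun g => g.hom ((f.stalkMap x).hom a)) hψbar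
    change ψbar.hom ((residueToFiberQuot f x).hom ((Y.residue (f.base x)).hom a)) =
      c.hom ((Y.residue (f.base x)).hom a)
    rw [e1, e3, e2]
  have hst : Spec.map ψbar ≫ specToFiber f x = (f.fiber (f.base x)).fromSpecStalk _ := by
    apply pullback.hom_ext
    · change (Spec.map ψbar ≫ specToFiber f x) ≫ f.fiberι (f.base x) =
        (f.fiber (f.base x)).fromSpecStalk _ ≫ f.fiberι (f.base x)
      rw [Category.assoc, specToFiber_fiberι, specQuotToX, ← Category.assoc, ← Spec.map_comp,
        hψbar, hψ]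
    · change (Spec.map ψbar ≫ specToFiber f x) ≫ f.fiberToSpecResidueField (f.base x) =
        (f.fiber (f.base x)).fromSpecStalk _ ≫ f.fiberToSpecResidueField (f.base x)
      have h1 : specToFiber f x ≫ f.fiberToSpecResidueField (f.base x) =
          Spec.map (residueToFiberQuot f x) := pullback.lift_snd _ _ _
      rw [hc, Category.assoc, h1, ← Spec.map_comp, hres]
  have h1 : Spec.map ψbar ≫ Spec.map (fiberStalkToQuot' f x) = 𝟙 _ := by
    rw [← cancel_mono ((f.fiber (f.base x)).fromSpecStalk _), Category.assoc, hjt, hst,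
      Category.id_comp]
  rw [← Spec.map_comp, ← Spec.map_id] at h1
  have h2 : fiberStalkToQuot' f x ≫ ψbar = 𝟙 _ := Spec.map_injective h1
  intro a b hab
  have ha : ψbar.hom ((fiberStalkToQuot' f x).hom a) = a := congrArg (fun g => g.hom a) h2
  have hb : ψbar.hom ((fiberStalkToQuot' f x).hom b) = b := congrArg (fun g => g.hom b) h2
  rw [← ha, ← hb, hab]

theorem fiberStalkToQuot'_bijective : Function.Bijective (fiberStalkToQuot' f x).hom :=
  ⟨fiberStalkToQuot'_injective f x, fiberStalkToQuot'_surjective f x⟩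

/-- The local ring of the fibre at `x` is isomorphic to `𝒪_{X,x} ⧸ 𝔪_y 𝒪_{X,x}`. -/
theorem nonempty_fiberStalk_ringEquiv :
    Nonempty ((f.fiber (f.base x)).presheaf.stalk (f.asFiber x) ≃+*
      (X.presheaf.stalk x ⧸ fiberIdeal f x)) := by
  have key : ∀ (w : f.fiber (f.base x)) (_ : w = f.asFiber x)
      (g : (f.fiber (f.base x)).presheaf.stalk w ⟶ fiberQuotRing f x),
      Function.Bijective g.hom →
      Nonempty ((f.fiber (f.base x)).presheaf.stalk (f.asFiber x) ≃+*
        (X.presheaf.stalk x ⧸ fiberIdeal f x)) := by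
    rintro w rfl g hg
    exact ⟨RingEquiv.ofBijective g.hom hg⟩
  exact key _ (specToFiber_closedPoint f x) _ (fiberStalkToQuot'_bijective f x)

/-- A ring isomorphism `𝒪_{X_y,x} ≃+* 𝒪_{X,x} ⧸ 𝔪_y 𝒪_{X,x}`. -/
noncomputable def fiberStalkEquiv :
    (f.fiber (f.base x)).presheaf.stalk (f.asFiber x) ≃+* (X.presheaf.stalk x ⧸ fiberIdeal f x) :=
  (nonempty_fiberStalk_ringEquiv f x).some

end Groth.Agent.Lib.Helper6
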