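import Mathlib

/-!
# A dimension inequality for local homomorphisms that are surjective on spectra

* `ringKrullDim_quotient_span_singleton_succ_le`: `dim R/(x) + 1 ≤ dim R` if `x` avoids all minimal
  primes of `R`.
* `ringKrullDim_le_of_comap_surjective`: if `φ : A → C` is a homomorphism of Noetherian local rings
  which is surjective on spectra and such that the maximal ideal of `C` is the only prime over
  the maximal ideal of `A`, then `dim A ≤ dim C`.
* `length_add_coheight_last_le`: `p.length + coheight p.last ≤ coheight p.head`.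
-/

set_option autoImplicit false
universe u

namespace Groth.Agent.Lib.Helper6.OpenDim

open IsLocalRing Pointwise

/-- `dim R/(x) + 1 ≤ dim R` if `x` avoids all minimal primes. -/
lemma ringKrullDim_quotient_span_singleton_succ_le {R : Type*} [CommRing R] {x : R}
    (hn : ∀ p ∈ minimalPrimes R, x ∉ p) :
    ringKrullDim (R ⧸ Ideal.span {x}) + 1 ≤ ringKrullDim R := by
  have h : Ideal.span {x} = x • (⊤ : Ideal R) := by simp [← Submodule.ideal_span_singleton_smul]
  rw [ringKrullDim_eq_of_ringEquiv (Ideal.quotientEquivAlgOfEq R h).toRingEquiv,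
    ← Module.supportDim_quotient_eq_ringKrullDim, ← Module.supportDim_self_eq_ringKrullDim]
  apply Module.supportDim_quotSMulTop_succ_le_of_notMem_minimalPrimes
  intro p hp
  have : Module.annihilator R R = ⊥ :=
    Module.annihilator_eq_bot.mpr
      ((faithfulSMul_iff_algebraMap_injective R R).mpr fun {a₁ a₂} a ↦ a)
  rw [this] at hp
  exact hn p hp

lemma le_of_add_one_le_succ (x : WithBot ℕ∞) (n : ℕ)
    (h : x + 1 ≤ ((n + 1 : ℕ) : WithBot ℕ∞)) : x ≤ n := by
  induction x using WithBot.recBotCoe with
  | bot => exact bot_le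
  | coe e =>
    have h' : ((e + 1 : ℕ∞) : WithBot ℕ∞) ≤ (((n + 1 : ℕ) : ℕ∞) : WithBot ℕ∞) := by
      exact_mod_cast h
    rw [WithBot.coe_le_coe] at h'
    have h'' : e ≤ n := by
      have : e + 1 ≤ (n : ℕ∞) + 1 := by exact_mod_cast h'
      exact (ENat.add_le_add_iff_right (by simp)).mp this
    exact_mod_cast h''

lemma length_add_coheight_last_le {α : Type*} [Preorder α] (p : LTSeries α) :
    (p.length : ℕ∞) + Order.coheight p.last ≤ Order.coheight p.head := by
  rcases eq_or_ne (Order.coheight p.last) ⊤ with h | h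
  · have := Order.coheight_anti (LTSeries.head_le_last p)
    rw [h, top_le_iff] at this
    rw [this]; exact le_top
  · obtain ⟨n, hn⟩ := ENat.ne_top_iff_exists.mp h
    obtain ⟨q, hq, hl⟩ := Order.exists_series_of_coheight_eq_coe p.last hn.symm
    have := Order.length_le_coheight_head (p := p.smash q hq.symm)
    rw [← hn]
    simpa [hl] using this

theorem ringKrullDim_le_of_comap_surjective_aux (n : ℕ) :
    ∀ (A C : Type u) [CommRing A] [CommRing C] [IsNoetherianRing A] [IsNoetherianRing C]
      [IsLocalRing A] [IsLocalRing C] (φ : A →+* C),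
      (∀ p : Ideal A, p.IsPrime → ∃ q : Ideal C, q.IsPrime ∧ q.comap φ = p) →
      (∀ q : Ideal C, q.IsPrime → q.comap φ = maximalIdeal A → q = maximalIdeal C) →
      ringKrullDim C ≤ n → ringKrullDim A ≤ n := by
  induction n with
  | zero =>
    intro A C _ _ _ _ _ _ φ hsurj hfib hC
    have hC0 : Ring.KrullDimLE 0 C := Ring.krullDimLE_iff.mpr hC
    rw [← Ring.krullDimLE_iff]
    refine Ring.KrullDimLE.mk₀ fun p hp => ?_
    obtain ⟨q, hq, rfl⟩ := hsurj p hp
    obtain ⟨q', hq', hq'm⟩ := hsurj (maximalIdeal A) inferInstance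
    have h1 : q = maximalIdeal C := Ring.KrullDimLE.eq_maximalIdeal_of_isPrime q
    have h2 : q' = maximalIdeal C := Ring.KrullDimLE.eq_maximalIdeal_of_isPrime q'
    rw [h1, ← h2, hq'm]
    infer_instance
  | succ n ih =>
    intro A C _ _ _ _ _ _ φ hsurj hfib hC
    have hloc : (maximalIdeal C).comap φ = maximalIdeal A := by
      obtain ⟨q', hq', hq'm⟩ := hsurj (maximalIdeal A) inferInstance
      rw [← hfib q' hq' hq'm]; exact hq'm
    by_cases hmin : maximalIdeal C ∈ minimalPrimes C
    · have hC0 : ringKrullDim C ≤ (n : ℕ) := by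
        have : Ring.KrullDimLE 0 C := Ring.KrullDimLE.mk₀ fun Q hQ => by
          have hle : Q ≤ maximalIdeal C := le_maximalIdeal hQ.ne_top
          have hge : maximalIdeal C ≤ Q := hmin.2 ⟨hQ, bot_le⟩ hle
          rw [le_antisymm hle hge]; infer_instance
        exact (Ring.krullDimLE_iff.mp this).trans (by exact_mod_cast Nat.zero_le n)
      exact (ih A C φ hsurj hfib hC0).trans (by exact_mod_cast Nat.le_succ n)
    · have hfin : (minimalPrimes C).Finite := minimalPrimes.finite_of_isNoetherianRing C
      have hex : ∃ a ∈ maximalIdeal A, ∀ Q ∈ minimalPrimes C, φ a ∉ Q := by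
        by_contra hcon
        push Not at hcon
        have hsub : ((maximalIdeal A : Ideal A) : Set A) ⊆
            ⋃ Q ∈ (↑hfin.toFinset : Set (Ideal C)), ((Q.comap φ : Ideal A) : Set A) := by
          intro a ha
          obtain ⟨Q, hQ, haQ⟩ := hcon a ha
          exact Set.mem_biUnion (by simpa using hQ) haQ
        obtain ⟨Q, hQ, hle⟩ := (Ideal.subset_union_prime (f := fun Q : Ideal C => Q.comap φ)
          (maximalIdeal C) (maximalIdeal C) (fun Q hQ _ _ => by
            have : Q.IsPrime := ((hfin.mem_toFinset).mp hQ).1.1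
            exact Ideal.comap_isPrime φ Q)).mp hsub
        have hQm : Q ∈ minimalPrimes C := hfin.mem_toFinset.mp hQ
        have hQp : Q.IsPrime := hQm.1.1
        have hQc : (Q.comap φ).IsPrime := Ideal.comap_isPrime φ Q
        have : Q.comap φ = maximalIdeal A :=
          le_antisymm (le_maximalIdeal hQc.ne_top) hle
        exact hmin (hfib Q hQp this ▸ hQm)
      obtain ⟨a, ha, haQ⟩ := hex
      have hIJ : Ideal.span {a} ≤ (Ideal.span {φ a}).comap φ := by
        rw [Ideal.span_singleton_le_iff_mem, Ideal.mem_comap]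
        exact Ideal.subset_span (Set.mem_singleton _)
      have hIm : Ideal.span {a} ≤ maximalIdeal A := (Ideal.span_singleton_le_iff_mem _).mpr ha
      have hφa : φ a ∈ maximalIdeal C := by
        have : a ∈ (maximalIdeal C).comap φ := hloc ▸ ha
        exact this
      have hJm : Ideal.span {φ a} ≤ maximalIdeal C := (Ideal.span_singleton_le_iff_mem _).mpr hφa
      have hIne : Ideal.span {a} ≠ ⊤ := fun h =>
        (inferInstance : (maximalIdeal A).IsMaximal).ne_top (top_le_iff.mp (h ▸ hIm))
      have hJne : Ideal.span {φ a} ≠ ⊤ := fun h =>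
        (inferInstance : (maximalIdeal C).IsMaximal).ne_top (top_le_iff.mp (h ▸ hJm))
      have : Nontrivial (A ⧸ Ideal.span {a}) := Ideal.Quotient.nontrivial_iff.mpr hIne
      have : Nontrivial (C ⧸ Ideal.span {φ a}) := Ideal.Quotient.nontrivial_iff.mpr hJne
      have : IsLocalRing (A ⧸ Ideal.span {a}) :=
        IsLocalRing.of_surjective' (Ideal.Quotient.mk _) Ideal.Quotient.mk_surjective
      have : IsLocalRing (C ⧸ Ideal.span {φ a}) :=
        IsLocalRing.of_surjective' (Ideal.Quotient.mk _) Ideal.Quotient.mk_surjective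
      have hcomm : (Ideal.quotientMap (Ideal.span {φ a}) φ hIJ).comp
          (Ideal.Quotient.mk (Ideal.span {a})) = (Ideal.Quotient.mk (Ideal.span {φ a})).comp φ :=
        Ideal.quotientMap_comp_mk hIJ
      have hmA : (maximalIdeal (A ⧸ Ideal.span {a})).comap (Ideal.Quotient.mk _) =
          maximalIdeal A := by
        have : IsLocalHom (Ideal.Quotient.mk (Ideal.span {a})) :=
          IsLocalHom.of_surjective _ Ideal.Quotient.mk_surjective
        exact ((IsLocalRing.local_hom_TFAE (Ideal.Quotient.mk (Ideal.span {a}))).out 0 4).mp this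
      have hmC : (maximalIdeal (C ⧸ Ideal.span {φ a})).comap (Ideal.Quotient.mk _) =
          maximalIdeal C := by
        have : IsLocalHom (Ideal.Quotient.mk (Ideal.span {φ a})) :=
          IsLocalHom.of_surjective _ Ideal.Quotient.mk_surjective
        exact ((IsLocalRing.local_hom_TFAE (Ideal.Quotient.mk (Ideal.span {φ a}))).out 0 4).mp this
      have hsurj' : ∀ p : Ideal (A ⧸ Ideal.span {a}), p.IsPrime →
          ∃ q : Ideal (C ⧸ Ideal.span {φ a}), q.IsPrime ∧
            q.comap (Ideal.quotientMap (Ideal.span {φ a}) φ hIJ) = p := by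
        intro p hp
        obtain ⟨Q, hQ, hQp⟩ := hsurj (p.comap (Ideal.Quotient.mk _)) (Ideal.comap_isPrime _ _)
        have hJQ : Ideal.span {φ a} ≤ Q := by
          rw [Ideal.span_singleton_le_iff_mem]
          have h1 : a ∈ p.comap (Ideal.Quotient.mk (Ideal.span {a})) := by
            rw [Ideal.mem_comap]
            have h0 : Ideal.Quotient.mk (Ideal.span {a}) a = 0 :=
              Ideal.Quotient.eq_zero_iff_mem.mpr (Ideal.subset_span (Set.mem_singleton a))
            rw [h0]; exact p.zero_mem
          rw [← hQp] at h1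
          exact h1
        have hker : RingHom.ker (Ideal.Quotient.mk (Ideal.span {φ a})) ≤ Q := by
          rw [Ideal.mk_ker]; exact hJQ
        have hQ' : (Q.map (Ideal.Quotient.mk (Ideal.span {φ a}))).IsPrime :=
          Ideal.map_isPrime_of_surjective Ideal.Quotient.mk_surjective hker
        have hcm : (Q.map (Ideal.Quotient.mk (Ideal.span {φ a}))).comap
            (Ideal.Quotient.mk (Ideal.span {φ a})) = Q := by
          rw [Ideal.comap_map_of_surjective _ Ideal.Quotient.mk_surjective,
            ← RingHom.ker_eq_comap_bot]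
          exact sup_eq_left.mpr hker
        refine ⟨_, hQ', ?_⟩
        apply Ideal.comap_injective_of_surjective (Ideal.Quotient.mk (Ideal.span {a}))
          Ideal.Quotient.mk_surjective
        rw [Ideal.comap_comap, hcomm, ← Ideal.comap_comap, hcm, hQp]
      have hfib' : ∀ q : Ideal (C ⧸ Ideal.span {φ a}), q.IsPrime →
          q.comap (Ideal.quotientMap (Ideal.span {φ a}) φ hIJ) =
            maximalIdeal (A ⧸ Ideal.span {a}) → q = maximalIdeal (C ⧸ Ideal.span {φ a}) := by
        intro q hq hqm
        have h1 : (q.comap (Ideal.Quotient.mk (Ideal.span {φ a}))).comap φ = maximalIdeal A := by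
          rw [Ideal.comap_comap, ← hcomm, ← Ideal.comap_comap, hqm, hmA]
        have h2 := hfib _ (Ideal.comap_isPrime _ _) h1
        apply Ideal.comap_injective_of_surjective (Ideal.Quotient.mk (Ideal.span {φ a}))
          Ideal.Quotient.mk_surjective
        rw [h2, hmC]
      have hdC : ringKrullDim (C ⧸ Ideal.span {φ a}) ≤ n := by
        have h1 := ringKrullDim_quotient_span_singleton_succ_le (x := φ a) haQ
        exact le_of_add_one_le_succ _ n (h1.trans hC)
      have hdA := ih (A ⧸ Ideal.span {a}) (C ⧸ Ideal.span {φ a}) _ hsurj' hfib' hdC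
      rw [← IsLocalRing.maximalIdeal_height_eq_ringKrullDim]
      refine (Ideal.height_le_ringKrullDim_quotient_add_one ha).trans ?_
      have : ringKrullDim (A ⧸ Ideal.span {a}) + 1 ≤ (n : WithBot ℕ∞) + 1 := by gcongr
      exact this.trans (by exact_mod_cast le_rfl)

/-- If `φ : A → C` is a homomorphism of Noetherian local rings which is surjective on spectra and
such that the maximal ideal of `C` is the only prime lying over the maximal ideal of `A`, then
`dim A ≤ dim C`. -/
theorem ringKrullDim_le_of_comap_surjective {A C : Type u} [CommRing A] [CommRing C]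
    [IsNoetherianRing A] [IsNoetherianRing C] [IsLocalRing A] [IsLocalRing C] (φ : A →+* C)
    (hsurj : ∀ p : Ideal A, p.IsPrime → ∃ q : Ideal C, q.IsPrime ∧ q.comap φ = p)
    (hfib : ∀ q : Ideal C, q.IsPrime → q.comap φ = maximalIdeal A → q = maximalIdeal C) :
    ringKrullDim A ≤ ringKrullDim C := by
  have h1 : ringKrullDim C ≠ ⊤ := ringKrullDim_ne_top
  have h2 : ringKrullDim C ≠ ⊥ := ringKrullDim_ne_bot
  obtain ⟨e, he⟩ := WithBot.ne_bot_iff_exists.mp h2
  have he' : e ≠ ⊤ := by
    intro h
    rw [h] at he
    exact h1 he.symm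
  obtain ⟨n, hn⟩ := ENat.ne_top_iff_exists.mp he'
  have hC : ringKrullDim C = (n : WithBot ℕ∞) := by rw [← he, ← hn]; rfl
  rw [hC]
  exact ringKrullDim_le_of_comap_surjective_aux n A C φ hsurj hfib hC.le

end Groth.Agent.Lib.Helper6.OpenDim
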