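import Mathlib
import Groth.Prelude.Def_EGA43
import Groth.Agent.Lib.Helper6.OpenDimAlg
import Groth.Agent.Lib.Helper6.FiberStalk

/-!
# Openness at a point and dimension of local rings

* `exists_specializes_of_isOpenAt`: if `f : X ⟶ Y` (with `X` locally Noetherian) is open at `z`, every
  generization of `f z` lifts to a generization of `z`.
* `ringKrullDim_stalk_le_of_isOpenAt`: if moreover `z` is a maximal point of its fibre then
  `dim 𝒪_{Y,f z} ≤ dim 𝒪_{X,z}`.
* `ringKrullDim_stalk_le_add_fiber`: `dim 𝒪_{X,x} ≤ dim 𝒪_{Y,f x} + dim 𝒪_{X_y,x}`.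
-/

set_option autoImplicit false
universe u
open CategoryTheory AlgebraicGeometry TopologicalSpace

namespace Groth.Agent.Lib.Helper6.OpenDim

lemma exists_specializes_of_mem_closure_range {T X : Type*} [TopologicalSpace T]
    [TopologicalSpace X] [NoetherianSpace T] [QuasiSober T] (ι : T → X) (hι : Continuous ι) (z : X)
    (hz : z ∈ closure (Set.range ι)) : ∃ t : T, ι t ⤳ z := by
  have hfin : Finite (irreducibleComponents T) :=
    NoetherianSpace.finite_irreducibleComponents.to_subtype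
  have hgen : ∀ Z : irreducibleComponents T, ∃ ξ : T, IsGenericPoint ξ (Z : Set T) := fun Z =>
    ⟨_, Z.2.1.isGenericPoint_genericPoint (isClosed_of_mem_irreducibleComponents _ Z.2)⟩
  choose ξ hξ using hgen
  have hsub : Set.range ι ⊆ ⋃ Z : irreducibleComponents T, closure {ι (ξ Z)} := by
    rintro _ ⟨t, rfl⟩
    have hZ := irreducibleComponent_mem_irreducibleComponents t
    refine Set.mem_iUnion.mpr ⟨⟨_, hZ⟩, ?_⟩
    have h1 : ξ ⟨_, hZ⟩ ⤳ t := (hξ ⟨_, hZ⟩).specializes mem_irreducibleComponent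
    exact specializes_iff_mem_closure.mp (h1.map hι)
  have hcl : IsClosed (⋃ Z : irreducibleComponents T, closure {ι (ξ Z)}) :=
    isClosed_iUnion_of_finite fun _ => isClosed_closure
  obtain ⟨Z, hZ⟩ := Set.mem_iUnion.mp (closure_minimal hsub hcl hz)
  exact ⟨ξ Z, specializes_iff_mem_closure.mpr hZ⟩

lemma exists_specializes_of_isOpenAt_noeth {X Y : Scheme.{u}} (f : X ⟶ Y) [NoetherianSpace X]
    (z : X) (hz : EGA43.IsOpenAt f.base z) (y' : Y) (hy' : y' ⤳ f.base z) :
    ∃ z' : X, z' ⤳ z ∧ f.base z' = y' := by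
  have hN : NoetherianSpace (f.fiber y') := (f.fiberι y').isEmbedding.isInducing.noetherianSpace
  have hcl : z ∈ closure (Set.range (f.fiberι y')) := by
    rw [Scheme.Hom.range_fiberι, mem_closure_iff]
    intro o ho hzo
    have h1 : f.base '' o ∈ nhds (f.base z) := hz o (ho.mem_nhds hzo)
    obtain ⟨w, hwo, hw⟩ := mem_of_mem_nhds (hy' h1)
    exact ⟨w, hwo, hw⟩
  obtain ⟨t, ht⟩ := exists_specializes_of_mem_closure_range _ (f.fiberι y').continuous z hcl
  refine ⟨_, ht, ?_⟩
  have h2 : (f.fiberι y') t ∈ Set.range (f.fiberι y') := ⟨t, rfl⟩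
  rw [Scheme.Hom.range_fiberι] at h2
  exact h2

lemma exists_specializes_of_isOpenAt_aux {X Y : Scheme.{u}} [IsLocallyNoetherian X] (f : X ⟶ Y)
    (z : X) (hz : EGA43.IsOpenAt f.base z) (y' : Y) (hy' : y' ⤳ f.base z)
    (U : X.Opens) (hU : IsAffineOpen U) (hzU : z ∈ U) :
    ∃ z' : X, z' ⤳ z ∧ f.base z' = y' := by
  have : IsNoetherianRing Γ(X, U) := IsLocallyNoetherian.component_noetherian ⟨U, hU⟩
  have h1 : NoetherianSpace U.toScheme := noetherianSpace_of_isAffineOpen U hU
  have hopen : EGA43.IsOpenAt (U.ι ≫ f).base (⟨z, hzU⟩ : U.toScheme) := by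
    intro N hN
    have h2 : U.ι.base '' N ∈ nhds (U.ι.base ⟨z, hzU⟩) :=
      (U.ι.isOpenEmbedding.image_mem_nhds).mpr hN
    have h3 := hz _ h2
    rw [← Set.image_comp] at h3
    exact h3
  obtain ⟨z'', hz'', hfz''⟩ := exists_specializes_of_isOpenAt_noeth (U.ι ≫ f) ⟨z, hzU⟩ hopen y' hy'
  exact ⟨U.ι.base z'', hz''.map U.ι.continuous, hfz''⟩

/-- If `f` is open at `z` then every generization of `f z` lifts to a generization of `z`. -/
lemma exists_specializes_of_isOpenAt {X Y : Scheme.{u}} [IsLocallyNoetherian X] (f : X ⟶ Y)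
    (z : X) (hz : EGA43.IsOpenAt f.base z) (y' : Y) (hy' : y' ⤳ f.base z) :
    ∃ z' : X, z' ⤳ z ∧ f.base z' = y' := by
  obtain ⟨_, ⟨U, hU, rfl⟩, hzU, -⟩ := X.isBasis_affineOpens.exists_subset_of_mem_open
    (Set.mem_univ z) isOpen_univ
  exact exists_specializes_of_isOpenAt_aux f z hz y' hy' U hU hzU

/-- If `f` is open at `z` then `Spec 𝒪_{X,z} ⟶ Spec 𝒪_{Y,f z}` is surjective. -/
lemma exists_comap_eq_of_isOpenAt {X Y : Scheme.{u}} [IsLocallyNoetherian X] (f : X ⟶ Y) (z : X)
    (hz : EGA43.IsOpenAt f.base z) (p : Ideal (Y.presheaf.stalk (f.base z))) (hp : p.IsPrime) :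
    ∃ q : Ideal (X.presheaf.stalk z), q.IsPrime ∧ q.comap (f.stalkMap z).hom = p := by
  let P : Spec (Y.presheaf.stalk (f.base z)) := ⟨p, hp⟩
  have hy' : (Y.fromSpecStalk (f.base z)) P ⤳ f.base z := by
    have : (Y.fromSpecStalk (f.base z)) P ∈ Set.range (Y.fromSpecStalk (f.base z)) := ⟨P, rfl⟩
    rw [Scheme.range_fromSpecStalk] at this
    exact this
  obtain ⟨z', hz', hfz'⟩ := exists_specializes_of_isOpenAt f z hz _ hy'
  have hz'r : z' ∈ Set.range (X.fromSpecStalk z) := by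
    rw [Scheme.range_fromSpecStalk]; exact hz'
  obtain ⟨Q, rfl⟩ := hz'r
  have h1 : (Spec.map (f.stalkMap z) ≫ Y.fromSpecStalk (f.base z)) Q =
      (X.fromSpecStalk z ≫ f) Q := by
    rw [Scheme.SpecMap_stalkMap_fromSpecStalk]
  rw [Scheme.Hom.comp_apply, Scheme.Hom.comp_apply] at h1
  have h2 : Spec.map (f.stalkMap z) Q = P :=
    (Y.fromSpecStalk (f.base z)).isEmbedding.injective (h1.trans hfz')
  exact ⟨Q.asIdeal, Q.isPrime, congrArg PrimeSpectrum.asIdeal h2⟩

/-- If `z` has no proper generization in its fibre then the maximal ideal of `𝒪_{X,z}` is the only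
prime lying over the maximal ideal of `𝒪_{Y,f z}`. -/
lemma eq_maximalIdeal_of_comap_eq {X Y : Scheme.{u}} (f : X ⟶ Y) (z : X)
    (hmax : ∀ z' : X, z' ⤳ z → f.base z' = f.base z → z' = z)
    (q : Ideal (X.presheaf.stalk z)) (hq : q.IsPrime)
    (hqm : q.comap (f.stalkMap z).hom = IsLocalRing.maximalIdeal (Y.presheaf.stalk (f.base z))) :
    q = IsLocalRing.maximalIdeal (X.presheaf.stalk z) := by
  let Q : Spec (X.presheaf.stalk z) := ⟨q, hq⟩
  have hz' : (X.fromSpecStalk z) Q ⤳ z := by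
    have : (X.fromSpecStalk z) Q ∈ Set.range (X.fromSpecStalk z) := ⟨Q, rfl⟩
    rw [Scheme.range_fromSpecStalk] at this
    exact this
  have h1 : (Spec.map (f.stalkMap z) ≫ Y.fromSpecStalk (f.base z)) Q =
      (X.fromSpecStalk z ≫ f) Q := by
    rw [Scheme.SpecMap_stalkMap_fromSpecStalk]
  rw [Scheme.Hom.comp_apply, Scheme.Hom.comp_apply] at h1
  have h2 : Spec.map (f.stalkMap z) Q = IsLocalRing.closedPoint (Y.presheaf.stalk (f.base z)) :=
    PrimeSpectrum.ext hqm
  rw [h2, Scheme.fromSpecStalk_closedPoint] at h1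
  have h3 : (X.fromSpecStalk z) Q = z := hmax _ hz' h1.symm
  have h4 : Q = IsLocalRing.closedPoint (X.presheaf.stalk z) := by
    apply (X.fromSpecStalk z).isEmbedding.injective
    rw [h3, Scheme.fromSpecStalk_closedPoint]
  exact congrArg PrimeSpectrum.asIdeal h4

/-- If `f` is open at `z` and `z` is a maximal point of its fibre, then
`dim 𝒪_{Y,f z} ≤ dim 𝒪_{X,z}`. -/
theorem ringKrullDim_stalk_le_of_isOpenAt {X Y : Scheme.{u}} [IsLocallyNoetherian X]
    [IsLocallyNoetherian Y] (f : X ⟶ Y) (z : X) (hz : EGA43.IsOpenAt f.base z)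
    (hmax : ∀ z' : X, z' ⤳ z → f.base z' = f.base z → z' = z) :
    ringKrullDim (Y.presheaf.stalk (f.base z)) ≤ ringKrullDim (X.presheaf.stalk z) :=
  ringKrullDim_le_of_comap_surjective (f.stalkMap z).hom
    (exists_comap_eq_of_isOpenAt f z hz) (eq_maximalIdeal_of_comap_eq f z hmax)

/-- `dim 𝒪_{X,x} ≤ dim 𝒪_{Y,f x} + dim 𝒪_{X_y,x}`. -/
theorem ringKrullDim_stalk_le_add_fiber {X Y : Scheme.{u}} [IsLocallyNoetherian X]
    [IsLocallyNoetherian Y] (f : X ⟶ Y) (x : X) :
    ringKrullDim (X.presheaf.stalk x) ≤ ringKrullDim (Y.presheaf.stalk (f.base x)) +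
      ringKrullDim ((f.fiber (f.base x)).presheaf.stalk (f.asFiber x)) := by
  have hloc : IsLocalHom (f.stalkMap x).hom := inferInstance
  let _ : Algebra (Y.presheaf.stalk (f.base x)) (X.presheaf.stalk x) :=
    (f.stalkMap x).hom.toAlgebra
  have hcm : (IsLocalRing.maximalIdeal (X.presheaf.stalk x)).comap (f.stalkMap x).hom =
      IsLocalRing.maximalIdeal (Y.presheaf.stalk (f.base x)) :=
    ((IsLocalRing.local_hom_TFAE (f.stalkMap x).hom).out 0 4).mp hloc
  have hlo : (IsLocalRing.maximalIdeal (X.presheaf.stalk x)).LiesOver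
      (IsLocalRing.maximalIdeal (Y.presheaf.stalk (f.base x))) := ⟨hcm.symm⟩
  have h := Ideal.height_le_height_add_of_liesOver
    (IsLocalRing.maximalIdeal (Y.presheaf.stalk (f.base x)))
    (IsLocalRing.maximalIdeal (X.presheaf.stalk x))
  have hprime : ((IsLocalRing.maximalIdeal (X.presheaf.stalk x)).map
      (Ideal.Quotient.mk (fiberIdeal f x))).IsPrime :=
    Ideal.map_isPrime_of_surjective Ideal.Quotient.mk_surjective
      (by rw [Ideal.mk_ker]; exact fiberIdeal_le_maximalIdeal f x)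
  have h2 : (((IsLocalRing.maximalIdeal (X.presheaf.stalk x)).map
      (Ideal.Quotient.mk (fiberIdeal f x))).height : WithBot ℕ∞) ≤
      ringKrullDim (X.presheaf.stalk x ⧸ fiberIdeal f x) :=
    Ideal.height_le_ringKrullDim_of_ne_top hprime.ne_top
  have h3 := ringKrullDim_quot_le_fiberStalk f x
  rw [← IsLocalRing.maximalIdeal_height_eq_ringKrullDim,
    ← IsLocalRing.maximalIdeal_height_eq_ringKrullDim (R := Y.presheaf.stalk (f.base x))]
  calc ((IsLocalRing.maximalIdeal (X.presheaf.stalk x)).height : WithBot ℕ∞)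
      ≤ (((IsLocalRing.maximalIdeal (Y.presheaf.stalk (f.base x))).height +
          ((IsLocalRing.maximalIdeal (X.presheaf.stalk x)).map
            (Ideal.Quotient.mk (fiberIdeal f x))).height : ℕ∞) : WithBot ℕ∞) := by
        exact_mod_cast h
    _ = ((IsLocalRing.maximalIdeal (Y.presheaf.stalk (f.base x))).height : WithBot ℕ∞) +
          (((IsLocalRing.maximalIdeal (X.presheaf.stalk x)).map
            (Ideal.Quotient.mk (fiberIdeal f x))).height : WithBot ℕ∞) := by
        push_cast; rfl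
    _ ≤ _ := by gcongr; exact h2.trans h3

end Groth.Agent.Lib.Helper6.OpenDim
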