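import Mathlib

/-!
Helper6: the product of a geometrically reduced scheme over a field with an arbitrary reduced
scheme is reduced (no noetherian hypothesis).
-/

set_option autoImplicit false

namespace Groth.Agent.Lib.Helper6.GeomReducedProd

universe u

open TensorProduct CategoryTheory CategoryTheory.Limits AlgebraicGeometry

theorem isReduced_tensor {k A R : Type u} [Field k] [CommRing A] [CommRing R] [Algebra k A]
    [Algebra k R]
    (hA : ∀ (K : Type u) [Field K] [Algebra k K], IsReduced (K ⊗[k] A)) [IsReduced R] :
    IsReduced (R ⊗[k] A) := by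
  classical
  let b := Module.Free.chooseBasis k A
  refine ⟨fun x hx => ?_⟩
  apply (Algebra.TensorProduct.basis R b).repr.injective
  ext i
  rw [map_zero, Finsupp.zero_apply]
  apply IsReduced.eq_zero
  rw [← mem_nilradical, nilradical_eq_sInf, Ideal.mem_sInf]
  intro p hp
  haveI : p.IsPrime := hp
  let φ : R ⊗[k] A →ₐ[k] p.ResidueField ⊗[k] A :=
    Algebra.TensorProduct.map (IsScalarTower.toAlgHom k R p.ResidueField) (AlgHom.id k A)
  have hφx : φ x = 0 := by
    haveI := hA p.ResidueField
    exact IsReduced.eq_zero _ (hx.map φ)
  have hcoord : ∀ y : R ⊗[k] A, (Algebra.TensorProduct.basis p.ResidueField b).repr (φ y) i =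
      algebraMap R p.ResidueField ((Algebra.TensorProduct.basis R b).repr y i) := by
    intro y
    induction y using TensorProduct.induction_on with
    | zero => simp
    | tmul r a =>
      simp only [φ, Algebra.TensorProduct.map_tmul, Algebra.TensorProduct.basis_repr_tmul,
        Finsupp.smul_apply, Finsupp.mapRange_apply, smul_eq_mul, map_mul, AlgHom.id_apply,
        IsScalarTower.coe_toAlgHom']
      rw [← IsScalarTower.algebraMap_apply k R p.ResidueField]
    | add y z hy hz => simp only [map_add, Finsupp.add_apply, hy, hz]
  have h0 := hcoord x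
  rw [hφx, map_zero, Finsupp.zero_apply] at h0
  exact Ideal.algebraMap_residueField_eq_zero.mp h0.symm

/-- geometric reducedness is inherited by open subschemes of the source -/
theorem geometricallyReduced_comp_of_isOpenImmersion {U X Y : Scheme.{u}} (j : U ⟶ X) (f : X ⟶ Y)
    [IsOpenImmersion j] [GeometricallyReduced f] : GeometricallyReduced (j ≫ f) := by
  refine ⟨(geometrically_iff_of_isClosedUnderIsomorphisms).mpr fun K _ y => ?_⟩
  haveI : IsReduced (pullback f y) :=
    pullback_of_geometrically (GeometricallyReduced.geometrically_isReduced (f := f)) K y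
  haveI : IsReduced (pullback j (pullback.fst f y)) :=
    isReduced_of_isOpenImmersion (pullback.snd j (pullback.fst f y))
  exact isReduced_of_isOpenImmersion (pullbackRightPullbackFstIso f y j).inv

theorem isReduced_pullback_Spec {k : Type u} [Field k] (A R : CommRingCat.{u})
    (f : Spec A ⟶ Spec (CommRingCat.of k)) (g : Spec R ⟶ Spec (CommRingCat.of k))
    [GeometricallyReduced f] [IsReduced (Spec R)] : IsReduced (pullback f g) := by
  obtain ⟨φ, rfl⟩ := Spec.map_surjective f
  obtain ⟨ψ, rfl⟩ := Spec.map_surjective g
  algebraize [φ.hom, ψ.hom]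
  haveI hR : _root_.IsReduced R := (affine_isReduced_iff R).mp inferInstance
  have hA : ∀ (K : Type u) [Field K] [Algebra k K], _root_.IsReduced (K ⊗[k] A) := by
    intro K _ _
    have h1 : IsReduced (pullback (Spec.map (CommRingCat.ofHom (algebraMap k K))) (Spec.map φ)) :=
      pullback_of_geometrically'
        (GeometricallyReduced.geometrically_isReduced (f := Spec.map φ)) K _
    have h2 : IsReduced (Spec (CommRingCat.of (K ⊗[k] A))) :=
      isReduced_of_isOpenImmersion (pullbackSpecIso k K A).inv
    exact (affine_isReduced_iff _).mp h2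
  haveI h3 : _root_.IsReduced (R ⊗[k] A) := isReduced_tensor hA
  haveI h4 : _root_.IsReduced (A ⊗[k] R) :=
    isReduced_of_injective (Algebra.TensorProduct.comm k A R).toRingEquiv.toRingHom
      (Algebra.TensorProduct.comm k A R).injective
  haveI h5 : IsReduced (Spec (CommRingCat.of (A ⊗[k] R))) := inferInstance
  exact isReduced_of_isOpenImmersion (pullbackSpecIso k A R).hom

theorem isReduced_pullback {k : Type u} [Field k] {X S : Scheme.{u}}
    (f : X ⟶ Spec (CommRingCat.of k)) (g : S ⟶ Spec (CommRingCat.of k)) [GeometricallyReduced f]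
    [AlgebraicGeometry.IsReduced S] : AlgebraicGeometry.IsReduced (pullback f g) := by
  refine @IsReduced.of_openCover _
    (Scheme.Pullback.openCoverOfLeftRight X.affineCover S.affineCover f g) ?_
  rintro ⟨i, j⟩
  have hj1 : IsOpenImmersion (X.affineCover.f i) := inferInstance
  have hj2 : IsOpenImmersion (S.affineCover.f j) := inferInstance
  have hg : GeometricallyReduced (X.affineCover.f i ≫ f) :=
    geometricallyReduced_comp_of_isOpenImmersion _ _
  have hr : IsReduced (S.affineCover.X j) := isReduced_of_isOpenImmersion (S.affineCover.f j)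
  exact @isReduced_pullback_Spec k _ (X.affineOpenCover.X i) (S.affineOpenCover.X j)
    (X.affineCover.f i ≫ f) (S.affineCover.f j ≫ g) hg hr

theorem geometricallyReduced_pullback {k : Type u} [Field k] {X Y : Scheme.{u}}
    (f : X ⟶ Spec (CommRingCat.of k)) (g : Y ⟶ Spec (CommRingCat.of k)) [GeometricallyReduced f]
    [GeometricallyReduced g] : GeometricallyReduced (pullback.fst f g ≫ f) := by
  refine ⟨(geometrically_iff_of_isClosedUnderIsomorphisms).mpr fun K _ y => ?_⟩
  haveI : IsReduced (pullback g y) :=
    pullback_of_geometrically (GeometricallyReduced.geometrically_isReduced (f := g)) K y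
  haveI : IsReduced (pullback f (pullback.fst g y ≫ g)) := isReduced_pullback f _
  rw [pullback.condition]
  exact isReduced_of_isOpenImmersion (pullbackAssoc f g g y).hom

end Groth.Agent.Lib.Helper6.GeomReducedProd
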