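import Mathlib
import Groth.Prelude.Def_CAlgX

/-!
Base change of quasi-regular sequences whose quotient is flat over the base.

Plan: if `f` is quasi-regular in `B` with `J = (f)`, then `J^n/J^(n+1)` is a free `B/J`-module on the
monomials of degree `n`; hence every `B/J^n` is flat over `A` (extension of flat modules). Flatness of
`B/J^n` makes `0 → J^n/J^(n+1) → B/J^(n+1) → B/J^n → 0` stay exact after tensoring with `A'`, and this
gives quasi-regularity of the images in `A' ⊗ B`.
-/

set_option autoImplicit false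
universe u

namespace Groth.Agent.Lib.Helper6.QRegBC

open TensorProduct

section Chase

variable {A : Type*} [CommRing A]

theorem comm_sq {A : Type*} [CommSemiring A] {M N P Q : Type*} [AddCommMonoid M]
    [AddCommMonoid N] [AddCommMonoid P]
    [AddCommMonoid Q] [Module A M] [Module A N] [Module A P] [Module A Q]
    (a : M →ₗ[A] P) (b : N →ₗ[A] Q) (x : M ⊗[A] N) :
    (a.rTensor Q) ((b.lTensor M) x) = (b.lTensor P) ((a.rTensor N) x) := by
  rw [← LinearMap.comp_apply, ← LinearMap.comp_apply, LinearMap.rTensor_comp_lTensor,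
    LinearMap.lTensor_comp_rTensor]

/-- If `0 → X → Y → Z → 0` is exact with `Z` flat then `Q ⊗ X → Q ⊗ Y` is injective for all `Q`. -/
theorem lTensor_injective_of_flat_coker {X Y Z : Type*} [AddCommGroup X] [AddCommGroup Y]
    [AddCommGroup Z] [Module A X] [Module A Y] [Module A Z]
    (i : X →ₗ[A] Y) (p : Y →ₗ[A] Z) (hi : Function.Injective i) (hp : Function.Surjective p)
    (hex : Function.Exact i p) [Module.Flat A Z] (Q : Type*) [AddCommGroup Q] [Module A Q] :
    Function.Injective (i.lTensor Q) := by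
  rw [injective_iff_map_eq_zero]
  intro t ht
  obtain ⟨ρ, hρ⟩ : ∃ ρ : (Q →₀ A) →ₗ[A] Q, Function.Surjective ρ :=
    ⟨Finsupp.linearCombination A (id : Q → Q), Finsupp.linearCombination_id_surjective A Q⟩
  have hκ : Function.Injective (LinearMap.ker ρ).subtype := Submodule.subtype_injective _
  have hκρ : Function.Exact (LinearMap.ker ρ).subtype ρ := LinearMap.exact_subtype_ker_map ρ
  obtain ⟨l, hl⟩ := LinearMap.rTensor_surjective X hρ t
  have h1 : (ρ.rTensor Y) ((i.lTensor (Q →₀ A)) l) = 0 := by
    rw [comm_sq, hl, ht]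
  obtain ⟨k, hk⟩ := (rTensor_exact (M := LinearMap.ker ρ) Y hκρ hρ _).1 h1
  have h2 : (p.lTensor (LinearMap.ker ρ)) k = 0 := by
    apply Module.Flat.rTensor_preserves_injective_linearMap (M := Z) _ hκ
    rw [map_zero, comm_sq, hk, ← LinearMap.comp_apply, ← LinearMap.lTensor_comp,
      hex.linearMap_comp_eq_zero, LinearMap.lTensor_zero, LinearMap.zero_apply]
  obtain ⟨k', hk'⟩ := (lTensor_exact (LinearMap.ker ρ) hex hp _).1 h2
  have h3 : ((LinearMap.ker ρ).subtype.rTensor X) k' = l := by
    apply Module.Flat.lTensor_preserves_injective_linearMap (M := Q →₀ A) i hi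
    rw [← comm_sq, hk', hk]
  rw [← hl, ← h3, ← LinearMap.comp_apply, ← LinearMap.rTensor_comp,
    hκρ.linearMap_comp_eq_zero, LinearMap.rTensor_zero, LinearMap.zero_apply]

/-- An extension of flat modules is flat. -/
theorem flat_of_exact {X Y Z : Type*} [AddCommGroup X] [AddCommGroup Y]
    [AddCommGroup Z] [Module A X] [Module A Y] [Module A Z]
    (i : X →ₗ[A] Y) (p : Y →ₗ[A] Z) (hi : Function.Injective i) (hp : Function.Surjective p)
    (hex : Function.Exact i p) [Module.Flat A X] [Module.Flat A Z] : Module.Flat A Y := by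
  rw [Module.Flat.iff_rTensor_injective']
  intro I
  rw [injective_iff_map_eq_zero]
  intro t ht
  have hc : Function.Injective (I.subtype.rTensor Z) :=
    Module.Flat.rTensor_preserves_injective_linearMap _ (Submodule.subtype_injective I)
  have ha : Function.Injective (I.subtype.rTensor X) :=
    Module.Flat.rTensor_preserves_injective_linearMap _ (Submodule.subtype_injective I)
  have h1 : (p.lTensor I) t = 0 := by
    apply hc
    rw [map_zero, comm_sq, ht, map_zero]
  obtain ⟨s, hs⟩ := (lTensor_exact I hex hp t).1 h1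
  have h2 : (I.subtype.rTensor X) s = 0 := by
    apply lTensor_injective_of_flat_coker i p hi hp hex A
    rw [map_zero, ← comm_sq, hs, ht]
  have h3 : s = 0 := ha (by rw [h2, map_zero])
  rw [← hs, h3, map_zero]

end Chase

section QR

variable {B : Type u} [CommRing B] {c : ℕ} (f : Fin c → B)

/-- The monomial `f^d`. -/
noncomputable def mon (d : Fin c →₀ ℕ) : B := d.prod fun i e => f i ^ e

theorem eval_monomial' (d : Fin c →₀ ℕ) (b : B) :
    MvPolynomial.eval f (MvPolynomial.monomial d b) = b * mon f d := by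
  rw [MvPolynomial.eval_monomial]
  rfl

theorem pow_eq_span_mon (n : ℕ) :
    Ideal.span (Set.range f) ^ n =
      Ideal.span ((fun d => mon f d) '' {d | Finsupp.degree d = n}) := by
  have h1 : Ideal.span (Set.range f) = Ideal.map (MvPolynomial.eval f)
      (Ideal.span (Set.range (MvPolynomial.X : Fin c → MvPolynomial (Fin c) B))) := by
    rw [Ideal.map_span, ← Set.range_comp]
    congr 2
    funext i
    exact (MvPolynomial.eval_X i).symm
  rw [h1, ← Ideal.map_pow]
  rw [show Ideal.span (Set.range (MvPolynomial.X : Fin c → MvPolynomial (Fin c) B)) ^ n = _ from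
    MvPolynomial.pow_idealOfVars_eq_span (σ := Fin c) (R := B) n]
  rw [Ideal.map_span, ← Set.image_comp]
  congr 1
  apply Set.image_congr'
  intro d
  show MvPolynomial.eval f (MvPolynomial.monomial d 1) = mon f d
  rw [eval_monomial', one_mul]

theorem mon_mem {n : ℕ} (d : Fin c →₀ ℕ) (hd : Finsupp.degree d = n) :
    mon f d ∈ Ideal.span (Set.range f) ^ n := by
  rw [pow_eq_span_mon f n]
  exact Ideal.subset_span ⟨d, hd, rfl⟩

/-- Exponent vectors of total degree `n`. -/
abbrev Idx (c n : ℕ) : Type := {d : Fin c →₀ ℕ // Finsupp.degree d = n}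

/-- Multiplication by the monomial `f^d`, as a map `B/J → B/J^(n+1)`. -/
noncomputable def thetaD (n : ℕ) (d : Idx c n) :
    (B ⧸ Ideal.span (Set.range f)) →ₗ[B] (B ⧸ Ideal.span (Set.range f) ^ (n + 1)) :=
  Submodule.mapQ (Ideal.span (Set.range f)) (Ideal.span (Set.range f) ^ (n + 1))
    (LinearMap.mulRight B (mon f d.1)) (by
      intro x hx
      rw [Submodule.mem_comap, LinearMap.mulRight_apply, pow_succ']
      exact Ideal.mul_mem_mul hx (mon_mem f d.1 d.2))

theorem thetaD_mk (n : ℕ) (d : Idx c n) (b : B) :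
    thetaD f n d (Submodule.Quotient.mk b) = Submodule.Quotient.mk (b * mon f d.1) := rfl

noncomputable def ThetaB (n : ℕ) :
    (Idx c n →₀ (B ⧸ Ideal.span (Set.range f))) →ₗ[B] (B ⧸ Ideal.span (Set.range f) ^ (n + 1)) :=
  Finsupp.lsum ℕ (thetaD f n)

theorem ThetaB_single (n : ℕ) (d : Idx c n) (x : B ⧸ Ideal.span (Set.range f)) :
    ThetaB f n (Finsupp.single d x) = thetaD f n d x := by
  unfold ThetaB
  rw [Finsupp.lsum_single]

noncomputable def piN (n : ℕ) :
    (B ⧸ Ideal.span (Set.range f) ^ (n + 1)) →ₗ[B] (B ⧸ Ideal.span (Set.range f) ^ n) :=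
  Submodule.mapQ (Ideal.span (Set.range f) ^ (n + 1)) (Ideal.span (Set.range f) ^ n) LinearMap.id
    (by
      intro x hx
      exact Ideal.pow_le_pow_right (Nat.le_succ n) hx)

theorem piN_mk (n : ℕ) (b : B) :
    piN f n (Submodule.Quotient.mk b) = Submodule.Quotient.mk b := rfl

theorem piN_surjective (n : ℕ) : Function.Surjective (piN f n) := by
  intro y
  obtain ⟨b, rfl⟩ := Submodule.Quotient.mk_surjective _ y
  exact ⟨Submodule.Quotient.mk b, rfl⟩

theorem ThetaB_piN_exact (n : ℕ) : Function.Exact (ThetaB f n) (piN f n) := by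
  intro y
  constructor
  · intro hy
    obtain ⟨b, rfl⟩ := Submodule.Quotient.mk_surjective _ y
    rw [piN_mk, Submodule.Quotient.mk_eq_zero, pow_eq_span_mon f n] at hy
    have hle : Ideal.span ((fun d => mon f d) '' {d | Finsupp.degree d = n}) ≤
        Submodule.comap (Submodule.mkQ (Ideal.span (Set.range f) ^ (n + 1)))
          (LinearMap.range (ThetaB f n)) := by
      apply Ideal.span_le.2
      rintro _ ⟨d, hd, rfl⟩
      refine LinearMap.mem_range.2
        ⟨Finsupp.single (⟨d, hd⟩ : Idx c n) (Submodule.Quotient.mk 1), ?_⟩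
      show ThetaB f n (Finsupp.single (⟨d, hd⟩ : Idx c n) (Submodule.Quotient.mk 1)) =
        Submodule.Quotient.mk (mon f d)
      rw [ThetaB_single, thetaD_mk, one_mul]
    exact LinearMap.mem_range.1 (hle hy)
  · rintro ⟨v, rfl⟩
    induction v using Finsupp.induction_linear with
    | zero => rw [map_zero, map_zero]
    | add v w hv hw => rw [map_add, map_add, hv, hw, add_zero]
    | single d x =>
      obtain ⟨b, rfl⟩ := Submodule.Quotient.mk_surjective _ x
      rw [ThetaB_single, thetaD_mk, piN_mk, Submodule.Quotient.mk_eq_zero]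
      exact Ideal.mul_mem_left _ _ (mon_mem f d.1 d.2)

theorem ThetaB_injective (hq : CAlgX.IsQuasiRegular f) (n : ℕ) :
    Function.Injective (ThetaB f n) := by
  rw [injective_iff_map_eq_zero]
  intro v hv
  classical
  obtain ⟨b, hb⟩ : ∃ b : Idx c n → B,
      ∀ d, (Submodule.Quotient.mk (b d) : B ⧸ Ideal.span (Set.range f)) = v d :=
    ⟨fun d => Function.surjInv (Submodule.Quotient.mk_surjective _) (v d),
      fun d => Function.surjInv_eq _ _⟩
  obtain ⟨P, hPdef⟩ : ∃ P : MvPolynomial (Fin c) B,
      P = ∑ d ∈ v.support, MvPolynomial.monomial d.1 (b d) := ⟨_, rfl⟩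
  have hPhom : P.IsHomogeneous n := by
    rw [hPdef]
    exact MvPolynomial.IsHomogeneous.sum _ _ _
      fun d _ => MvPolynomial.isHomogeneous_monomial _ d.2
  have hTh : ThetaB f n v =
      Submodule.mkQ (Ideal.span (Set.range f) ^ (n + 1)) (MvPolynomial.eval f P) := by
    unfold ThetaB
    rw [Finsupp.lsum_apply, Finsupp.sum, hPdef, map_sum, map_sum]
    apply Finset.sum_congr rfl
    intro d _
    rw [← hb d, thetaD_mk, eval_monomial', Submodule.mkQ_apply]
  have hPev : MvPolynomial.eval f P ∈ Ideal.span (Set.range f) ^ (n + 1) :=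
    (Submodule.Quotient.mk_eq_zero _).1 (hTh.symm.trans hv)
  have hco := hq n P hPhom hPev
  ext d
  rw [Finsupp.zero_apply]
  by_contra hne
  have hd : d ∈ v.support := Finsupp.mem_support_iff.2 hne
  have hc : MvPolynomial.coeff d.1 P = b d := by
    rw [hPdef, MvPolynomial.coeff_sum, Finset.sum_eq_single d, MvPolynomial.coeff_monomial,
      if_pos rfl]
    · intro d' _ hne'
      rw [MvPolynomial.coeff_monomial, if_neg]
      intro h
      exact hne' (Subtype.ext h)
    · intro h
      exact absurd hd h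
  apply hne
  rw [← hb d, Submodule.Quotient.mk_eq_zero, ← hc]
  exact hco d.1

variable (A : Type u) [CommRing A] [Algebra A B]

theorem flat_quot_pow (hflat : Module.Flat A (B ⧸ Ideal.span (Set.range f)))
    (hq : CAlgX.IsQuasiRegular f) :
    ∀ n : ℕ, Module.Flat A (B ⧸ Ideal.span (Set.range f) ^ n) := by
  intro n
  induction n with
  | zero =>
    haveI : Subsingleton (B ⧸ Ideal.span (Set.range f) ^ 0) := by
      apply Ideal.Quotient.subsingleton_iff.2
      rw [pow_zero, Ideal.one_eq_top]
    haveI := Module.Free.of_subsingleton A (B ⧸ Ideal.span (Set.range f) ^ 0)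
    infer_instance
  | succ n ih =>
    classical
    haveI : Module.Flat A (Idx c n →₀ (B ⧸ Ideal.span (Set.range f))) :=
      Module.Flat.of_linearEquiv
        (finsuppLEquivDirectSum A (B ⧸ Ideal.span (Set.range f)) (Idx c n))
    exact flat_of_exact ((ThetaB f n).restrictScalars A) ((piN f n).restrictScalars A)
      (ThetaB_injective f hq n) (piN_surjective f n) (ThetaB_piN_exact f n)

end QR

section BC

variable (A : Type u) [CommRing A] {B : Type u} [CommRing B] [Algebra A B]
  (A' : Type u) [CommRing A'] [Algebra A A']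

theorem lTensor_mulRight (z : B) (x : A' ⊗[A] B) :
    (LinearMap.lTensor A' (LinearMap.mulRight A z)) x = x * ((1 : A') ⊗ₜ[A] z) := by
  induction x using TensorProduct.induction_on with
  | zero => rw [map_zero, zero_mul]
  | tmul a b =>
    rw [LinearMap.lTensor_tmul, LinearMap.mulRight_apply, Algebra.TensorProduct.tmul_mul_tmul,
      mul_one]
  | add x y hx hy => rw [map_add, add_mul, hx, hy]

theorem lTensor_mkQ_eq_zero_iff (I : Ideal B) (x : A' ⊗[A] B) :
    (LinearMap.lTensor A' ((Submodule.mkQ I).restrictScalars A)) x = 0 ↔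
      x ∈ Ideal.map (Algebra.TensorProduct.includeRight : B →ₐ[A] A' ⊗[A] B) I := by
  have hker := Algebra.TensorProduct.lTensor_ker (A := A') (Ideal.Quotient.mkₐ A I)
    (Ideal.Quotient.mkₐ_surjective A I)
  have hk2 : RingHom.ker (Ideal.Quotient.mkₐ A I) = I := by
    ext y
    rw [RingHom.mem_ker]
    exact Ideal.Quotient.eq_zero_iff_mem
  rw [hk2] at hker
  have hcomp : ∀ y : A' ⊗[A] B,
      (Algebra.TensorProduct.map (AlgHom.id A A') (Ideal.Quotient.mkₐ A I)) y =
        (LinearMap.lTensor A' ((Submodule.mkQ I).restrictScalars A)) y := by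
    intro y
    induction y using TensorProduct.induction_on with
    | zero => exact (map_zero _).trans (map_zero _).symm
    | tmul a b => rfl
    | add y z hy hz =>
      exact (map_add _ y z).trans ((congrArg₂ (· + ·) hy hz).trans (map_add _ y z).symm)
  constructor
  · intro h
    rw [← hker, RingHom.mem_ker]
    exact (hcomp x).trans h
  · intro h
    rw [← hker, RingHom.mem_ker] at h
    exact (hcomp x).symm.trans h

variable {c : ℕ} (f : Fin c → B) (n : ℕ)

theorem one_tmul_mon (d : Fin c →₀ ℕ) :
    ((1 : A') ⊗ₜ[A] mon f d : A' ⊗[A] B) =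
      ∏ i ∈ d.support, ((1 : A') ⊗ₜ[A] f i : A' ⊗[A] B) ^ d i := by
  have h := map_prod (Algebra.TensorProduct.includeRight : B →ₐ[A] A' ⊗[A] B)
    (fun i => f i ^ d i) d.support
  simp only [map_pow, Algebra.TensorProduct.includeRight_apply] at h
  exact h

/-- The coefficient-wise reduction map `B → ⊕_{|d|=n} B/J` into the `d`-th summand. -/
noncomputable def sigmaD (d : Fin c →₀ ℕ) :
    B →ₗ[A] (Idx c n →₀ (B ⧸ Ideal.span (Set.range f))) :=
  if h : Finsupp.degree d = n then
    (Finsupp.lsingle (⟨d, h⟩ : Idx c n) :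
      (B ⧸ Ideal.span (Set.range f)) →ₗ[A] (Idx c n →₀ (B ⧸ Ideal.span (Set.range f)))).comp
      ((Submodule.mkQ (Ideal.span (Set.range f))).restrictScalars A)
  else 0

theorem sigmaD_apply (d : Fin c →₀ ℕ) (hd : Finsupp.degree d = n) (b : B) :
    sigmaD A f n d b = Finsupp.single (⟨d, hd⟩ : Idx c n) (Submodule.Quotient.mk b) := by
  unfold sigmaD
  rw [dif_pos hd, LinearMap.comp_apply, LinearMap.restrictScalars_apply, Submodule.mkQ_apply,
    Finsupp.lsingle_apply]

theorem Theta_sigmaD (d : Fin c →₀ ℕ) (hd : Finsupp.degree d = n) :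
    ((ThetaB f n).restrictScalars A).comp (sigmaD A f n d) =
      ((Submodule.mkQ (Ideal.span (Set.range f) ^ (n + 1))).restrictScalars A).comp
        (LinearMap.mulRight A (mon f d)) := by
  apply LinearMap.ext
  intro b
  rw [LinearMap.comp_apply, LinearMap.comp_apply, LinearMap.restrictScalars_apply,
    LinearMap.restrictScalars_apply, sigmaD_apply A f n d hd, ThetaB_single, thetaD_mk,
    LinearMap.mulRight_apply, Submodule.mkQ_apply]

theorem lapply_sigmaD (d : Fin c →₀ ℕ) (hd : Finsupp.degree d = n) (e : Fin c →₀ ℕ)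
    (he : Finsupp.degree e = n) :
    ((Finsupp.lapply (⟨e, he⟩ : Idx c n) :
      (Idx c n →₀ (B ⧸ Ideal.span (Set.range f))) →ₗ[A] (B ⧸ Ideal.span (Set.range f))).comp
        (sigmaD A f n d)) =
      if d = e then (Submodule.mkQ (Ideal.span (Set.range f))).restrictScalars A else 0 := by
  apply LinearMap.ext
  intro b
  rw [LinearMap.comp_apply, sigmaD_apply A f n d hd, Finsupp.lapply_apply, Finsupp.single_apply]
  by_cases h : d = e
  · subst h
    rw [if_pos rfl, if_pos rfl, LinearMap.restrictScalars_apply, Submodule.mkQ_apply]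
  · rw [if_neg (fun h' => h (congrArg Subtype.val h')), if_neg h, LinearMap.zero_apply]

end BC

theorem main272 (A B A' : Type u) [CommRing A] [CommRing B]
    [CommRing A'] [Algebra A B] [Algebra A A'] (r : ℕ) (f : Fin r → B)
    (hflat : Module.Flat A (B ⧸ Ideal.span (Set.range f))) (hq : CAlgX.IsQuasiRegular f) :
    CAlgX.IsQuasiRegular (fun i => ((1 : A') ⊗ₜ[A] f i : TensorProduct A A' B)) := by
  intro n P hP hev e
  classical
  have hJ' : Ideal.span (Set.range (fun i => ((1 : A') ⊗ₜ[A] f i : TensorProduct A A' B))) =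
      Ideal.map (Algebra.TensorProduct.includeRight : B →ₐ[A] A' ⊗[A] B)
        (Ideal.span (Set.range f)) := by
    rw [Ideal.map_span, ← Set.range_comp]
    rfl
  rw [hJ'] at hev ⊢
  rw [← Ideal.map_pow, ← lTensor_mkQ_eq_zero_iff] at hev
  rw [← lTensor_mkQ_eq_zero_iff]
  have hdeg : ∀ d ∈ P.support, Finsupp.degree d = n := by
    intro d hd
    rw [Finsupp.degree_eq_weight_one]
    exact hP (MvPolynomial.mem_support_iff.1 hd)
  by_cases he : e ∈ P.support
  swap
  · rw [MvPolynomial.notMem_support_iff.1 he, map_zero]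
  obtain ⟨τ, hτ⟩ : ∃ τ : A' ⊗[A] (Idx r n →₀ (B ⧸ Ideal.span (Set.range f))),
      τ = ∑ d ∈ P.support, (LinearMap.lTensor A' (sigmaD A f n d)) (P.coeff d) := ⟨_, rfl⟩
  have hτ0 : (LinearMap.lTensor A' ((ThetaB f n).restrictScalars A)) τ = 0 := by
    rw [hτ, map_sum]
    refine Eq.trans ?_ hev
    rw [MvPolynomial.eval_eq, map_sum]
    apply Finset.sum_congr rfl
    intro d hd
    rw [← LinearMap.comp_apply, ← LinearMap.lTensor_comp, Theta_sigmaD A f n d (hdeg d hd),
      LinearMap.lTensor_comp, LinearMap.comp_apply, lTensor_mulRight, one_tmul_mon]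
  haveI hfl := flat_quot_pow f A hflat hq n
  have hinj : Function.Injective (LinearMap.lTensor A' ((ThetaB f n).restrictScalars A)) :=
    lTensor_injective_of_flat_coker ((ThetaB f n).restrictScalars A)
      ((piN f n).restrictScalars A) (ThetaB_injective f hq n) (piN_surjective f n)
      (ThetaB_piN_exact f n) A'
  have hτz : τ = 0 := hinj (by rw [hτ0, map_zero])
  have key := congrArg (LinearMap.lTensor A'
    (Finsupp.lapply (⟨e, hdeg e he⟩ : Idx r n) :
      (Idx r n →₀ (B ⧸ Ideal.span (Set.range f))) →ₗ[A] (B ⧸ Ideal.span (Set.range f)))) hτz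
  rw [map_zero, hτ, map_sum, Finset.sum_eq_single e] at key
  · rw [← LinearMap.comp_apply, ← LinearMap.lTensor_comp,
      lapply_sigmaD A f n e (hdeg e he) e (hdeg e he), if_pos rfl] at key
    exact key
  · intro d hd hne
    rw [← LinearMap.comp_apply, ← LinearMap.lTensor_comp,
      lapply_sigmaD A f n d (hdeg d hd) e (hdeg e he), if_neg hne, LinearMap.lTensor_zero,
      LinearMap.zero_apply]
  · intro h
    exact absurd he h

end Groth.Agent.Lib.Helper6.QRegBC
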