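import Mathlib
import Groth.Prelude.Def_CohB1

/-!
# Global functions on projective space

`Γ(P^n_R, O) = R`: the structure morphism `P^n_R ⟶ Spec R` induces an isomorphism on global
sections.  The proof restricts a global section to the standard charts `D₊(X i)`, uses the
compatibility on `D₊(X i * X j)` and a coefficient comparison of homogeneous polynomials.
-/

set_option autoImplicit false

namespace Groth.Agent.Lib.Helper6.ProjSpaceGamma

open AlgebraicGeometry CategoryTheory HomogeneousLocalization MvPolynomial

universe u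
variable (n : ℕ) (R : Type u) [CommRing R]

theorem hX (i : Fin (n + 1)) :
    (X i : MvPolynomial (Fin (n + 1)) R) ∈ CohB1.polyGrading n R 1 :=
  MvPolynomial.isHomogeneous_X R i

/-- Core algebra: a homogeneous `f` of degree `k` such that `f / X i ^ k` extends over all the
other charts is `c * X i ^ k`. -/
theorem core (i : Fin (n + 1)) (k : ℕ) (f : MvPolynomial (Fin (n + 1)) R)
    (hf : f.IsHomogeneous k)
    (H : ∀ j, j ≠ i → ∃ (l : ℕ) (g : MvPolynomial (Fin (n + 1)) R),
      X j ^ l * f = X i ^ k * g) :
    f = monomial (Finsupp.single i k) (coeff (Finsupp.single i k) f) := by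
  classical
  ext m
  rw [coeff_monomial]
  split_ifs with h
  · rw [h]
  · by_cases hd : m.degree = k
    · have hsplit : m.degree = m i + (m.erase i).degree := by
        have h1 := congrArg Finsupp.degree (Finsupp.single_add_erase i m)
        rw [map_add, Finsupp.degree_single] at h1
        exact h1.symm
      by_cases hk : k ≤ m i
      · exfalso
        apply h
        have h0 : (m.erase i).degree = 0 := by omega
        rw [Finsupp.degree_eq_zero_iff] at h0
        have hmi : m i = k := by omega
        have h1 := Finsupp.single_add_erase i m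
        rw [h0, add_zero, hmi] at h1
        exact h1
      · push_neg at hk
        have hne : m.erase i ≠ 0 := by
          intro h0
          rw [h0, map_zero] at hsplit
          omega
        obtain ⟨j, hj⟩ := DFunLike.ne_iff.1 hne
        have hji : j ≠ i := by
          rintro rfl
          exact hj (by simp)
        obtain ⟨l, g, hg⟩ := H j hji
        have h1 := congrArg (coeff (Finsupp.single j l + m)) hg
        rw [X_pow_eq_monomial, X_pow_eq_monomial, coeff_monomial_mul, coeff_monomial_mul',
          one_mul] at h1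
        have hnle : ¬ (Finsupp.single i k ≤ Finsupp.single j l + m) := by
          intro hle
          have h2 : (Finsupp.single i k) i ≤ (Finsupp.single j l + m) i := hle i
          rw [Finsupp.single_eq_same, Finsupp.add_apply, Finsupp.single_apply, if_neg hji,
            zero_add] at h2
          omega
        rw [h1, if_neg hnle]
    · exact hf.coeff_eq_zero hd

theorem irrelevant_le :
    (HomogeneousIdeal.irrelevant (CohB1.polyGrading n R)).toIdeal ≤
      Ideal.span (Set.range (X : Fin (n + 1) → MvPolynomial (Fin (n + 1)) R)) := by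
  rw [HomogeneousIdeal.toIdeal_irrelevant_le]
  intro i hi g hg
  have hg' : g.IsHomogeneous i := hg
  change g ∈ Ideal.span (Set.range (X : Fin (n + 1) → MvPolynomial (Fin (n + 1)) R))
  rw [← Set.image_univ, mem_ideal_span_X_image]
  intro m hm
  by_contra hcon
  push_neg at hcon
  have hm0 : m = 0 := by
    ext j
    simpa using hcon j (Set.mem_univ j)
  rw [mem_support_iff] at hm
  apply hm
  apply hg'.coeff_eq_zero
  rw [hm0, map_zero]
  omega

/-- The structure map `R → A_{(y)}`. -/
noncomputable def psi (y : MvPolynomial (Fin (n + 1)) R) :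
    R →+* Away (CohB1.polyGrading n R) y :=
  (fromZeroRingHom (CohB1.polyGrading n R) _).comp (algebraMap R (CohB1.polyGrading n R 0))

theorem psi_val (y : MvPolynomial (Fin (n + 1)) R) (c : R) :
    (psi n R y c).val = Localization.mk (C c) 1 := rfl

theorem psi_eq (y : MvPolynomial (Fin (n + 1)) R) (c : R) :
    psi n R y c = fromZeroRingHom (CohB1.polyGrading n R) _
      (algebraMap R (CohB1.polyGrading n R 0) c) := rfl

theorem psi_injective (y : MvPolynomial (Fin (n + 1)) R) (hy : IsRegular y) :
    Function.Injective (psi n R y) := by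
  intro c1 c2 h
  have h' := congrArg HomogeneousLocalization.val h
  rw [psi_val, psi_val, Localization.mk_eq_mk_iff, Localization.r_iff_exists] at h'
  obtain ⟨⟨u, k, rfl⟩, hu⟩ := h'
  simp only [OneMemClass.coe_one, one_mul] at hu
  exact C_injective _ _ ((hy.pow k).left hu)

/-- The standard chart `D₊(X i) ⟶ P^n`. -/
noncomputable abbrev chart (i : Fin (n + 1)) :
    Spec (CommRingCat.of (Away (CohB1.polyGrading n R) (X i))) ⟶
      Proj (CohB1.polyGrading n R) :=
  Proj.awayι (CohB1.polyGrading n R) (X i) (hX n R i) one_pos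

/-- Restriction of global sections to the chart `D₊(X i)`. -/
noncomputable def rho (i : Fin (n + 1)) :
    Γ(Proj (CohB1.polyGrading n R), ⊤) ⟶
      CommRingCat.of (Away (CohB1.polyGrading n R) (X i)) :=
  (chart n R i).appTop ≫ (Scheme.ΓSpecIso _).hom

theorem compat (i j : Fin (n + 1)) :
    rho n R i ≫ CommRingCat.ofHom (awayMap (CohB1.polyGrading n R) (hX n R j)
      (rfl : (X i * X j : MvPolynomial (Fin (n + 1)) R) = X i * X j)) =
    rho n R j ≫ CommRingCat.ofHom (awayMap (CohB1.polyGrading n R) (hX n R i)
      (mul_comm (X i : MvPolynomial (Fin (n + 1)) R) (X j))) := by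
  have h1 := Proj.SpecMap_awayMap_awayι (CohB1.polyGrading n R) (hX n R i) one_pos (hX n R j)
    (rfl : (X i * X j : MvPolynomial (Fin (n + 1)) R) = X i * X j)
  have h2 := Proj.SpecMap_awayMap_awayι (CohB1.polyGrading n R) (hX n R j) one_pos (hX n R i)
    (mul_comm (X i : MvPolynomial (Fin (n + 1)) R) (X j))
  have h := h1.trans h2.symm
  have h' := congrArg Scheme.Hom.appTop h
  rw [Scheme.Hom.comp_appTop, Scheme.Hom.comp_appTop] at h'
  unfold rho
  rw [Category.assoc, Category.assoc, ← Scheme.ΓSpecIso_naturality,
    ← Scheme.ΓSpecIso_naturality, ← Category.assoc, ← Category.assoc]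
  exact congrArg (· ≫ (Scheme.ΓSpecIso _).hom) h'

theorem chart_const (s : Γ(Proj (CohB1.polyGrading n R), ⊤)) (i : Fin (n + 1)) :
    ∃ c : R, (rho n R i).hom s = psi n R (X i) c := by
  obtain ⟨k, f, hfk, hfs⟩ :=
    Away.mk_surjective (CohB1.polyGrading n R) (hX n R i) ((rho n R i).hom s)
  have hfk' : f.IsHomogeneous k := by
    have h1 : f ∈ CohB1.polyGrading n R (k • 1) := hfk
    rw [smul_eq_mul, mul_one] at h1
    exact h1
  have H : ∀ j, j ≠ i → ∃ (l : ℕ) (g : MvPolynomial (Fin (n + 1)) R),
      X j ^ l * f = X i ^ k * g := by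
    intro j _
    obtain ⟨l, g, hgl, hgs⟩ :=
      Away.mk_surjective (CohB1.polyGrading n R) (hX n R j) ((rho n R j).hom s)
    refine ⟨l, g, ?_⟩
    have hc : awayMap (CohB1.polyGrading n R) (hX n R j)
        (rfl : (X i * X j : MvPolynomial (Fin (n + 1)) R) = X i * X j) ((rho n R i).hom s) =
        awayMap (CohB1.polyGrading n R) (hX n R i)
          (mul_comm (X i : MvPolynomial (Fin (n + 1)) R) (X j)) ((rho n R j).hom s) :=
      congrArg (fun φ => φ.hom s) (compat n R i j)
    rw [← hfs, ← hgs, awayMap_mk, awayMap_mk] at hc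
    have hv := congrArg HomogeneousLocalization.val hc
    rw [Away.val_mk, Away.val_mk, Localization.mk_eq_mk_iff, Localization.r_iff_exists] at hv
    obtain ⟨⟨u, t, rfl⟩, hu⟩ := hv
    have hreg : IsRegular ((X i * X j : MvPolynomial (Fin (n + 1)) R) ^ t *
        (X i ^ l * X j ^ k)) :=
      ((isRegular_X.mul isRegular_X).pow t).mul ((isRegular_X.pow l).mul (isRegular_X.pow k))
    have key : ((X i * X j : MvPolynomial (Fin (n + 1)) R) ^ t * (X i ^ l * X j ^ k)) *
        (X j ^ l * f) = ((X i * X j) ^ t * (X i ^ l * X j ^ k)) * (X i ^ k * g) := by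
      calc ((X i * X j : MvPolynomial (Fin (n + 1)) R) ^ t * (X i ^ l * X j ^ k)) *
            (X j ^ l * f)
          = (X i * X j) ^ t * ((X i * X j) ^ l * (f * X j ^ k)) := by ring
        _ = (X i * X j) ^ t * ((X i * X j) ^ k * (g * X i ^ l)) := hu
        _ = _ := by ring
    exact hreg.left key
  have hcore := core n R i k f hfk' H
  refine ⟨coeff (Finsupp.single i k) f, ?_⟩
  rw [← hfs]
  apply HomogeneousLocalization.val_injective
  rw [psi_val, Away.val_mk, Localization.mk_eq_mk_iff, Localization.r_iff_exists]
  refine ⟨1, ?_⟩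
  simp only [OneMemClass.coe_one, one_mul]
  rw [mul_comm (X i ^ k), C_mul_X_pow_eq_monomial]
  exact hcore

/-- The structure morphism, with source written as `Proj`. -/
noncomputable def toSpec' : Proj (CohB1.polyGrading n R) ⟶ Spec (CommRingCat.of R) :=
  Proj.toSpecZero (CohB1.polyGrading n R) ≫
    Spec.map (CommRingCat.ofHom (algebraMap R (CohB1.polyGrading n R 0)))

theorem chart_toSpec (i : Fin (n + 1)) :
    chart n R i ≫ toSpec' n R = Spec.map (CommRingCat.ofHom (psi n R (X i))) := by
  change Proj.awayι _ _ _ _ ≫ (Proj.toSpecZero (CohB1.polyGrading n R) ≫ Spec.map _) = _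
  rw [Proj.awayι_toSpecZero_assoc, ← Spec.map_comp]
  rfl

theorem rho_T (i : Fin (n + 1)) :
    (Scheme.ΓSpecIso (CommRingCat.of R)).inv ≫ (toSpec' n R).appTop ≫ rho n R i =
      CommRingCat.ofHom (psi n R (X i)) := by
  unfold rho
  rw [← Category.assoc (toSpec' n R).appTop, ← Scheme.Hom.comp_appTop, chart_toSpec,
    Scheme.ΓSpecIso_naturality, Iso.inv_hom_id_assoc]

theorem isIso_toSpec' : IsIso (toSpec' n R).appTop := by
  classical
  have hT : ∀ (i : Fin (n + 1)) (c : R),
      (rho n R i).hom ((toSpec' n R).appTop.hom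
        ((Scheme.ΓSpecIso (CommRingCat.of R)).inv.hom c)) = psi n R (X i) c := by
    intro i c
    exact congrArg (fun φ => φ.hom c) (rho_T n R i)
  have hbij : Function.Bijective
      ((Scheme.ΓSpecIso (CommRingCat.of R)).inv ≫ (toSpec' n R).appTop).hom := by
    constructor
    · intro c c' h
      have h0 : (toSpec' n R).appTop.hom ((Scheme.ΓSpecIso (CommRingCat.of R)).inv.hom c) =
          (toSpec' n R).appTop.hom ((Scheme.ΓSpecIso (CommRingCat.of R)).inv.hom c') := h
      have h1 := congrArg (rho n R 0).hom h0
      rw [hT, hT] at h1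
      exact psi_injective n R (X 0) isRegular_X h1
    · intro s
      choose c hc using chart_const n R s
      have hcc : ∀ i, c i = c 0 := by
        intro i
        have hcomp : awayMap (CohB1.polyGrading n R) (hX n R i)
            (rfl : (X 0 * X i : MvPolynomial (Fin (n + 1)) R) = X 0 * X i)
              ((rho n R 0).hom s) =
            awayMap (CohB1.polyGrading n R) (hX n R 0)
              (mul_comm (X 0 : MvPolynomial (Fin (n + 1)) R) (X i)) ((rho n R i).hom s) :=
          congrArg (fun φ => φ.hom s) (compat n R 0 i)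
        rw [hc, hc, psi_eq, psi_eq, awayMap_fromZeroRingHom, awayMap_fromZeroRingHom,
          ← psi_eq, ← psi_eq] at hcomp
        exact (psi_injective n R (X 0 * X i) (isRegular_X.mul isRegular_X) hcomp).symm
      refine ⟨c 0, ?_⟩
      apply Scheme.OpenCover.ext_elem _ _
        (Proj.affineOpenCoverOfIrrelevantLESpan (CohB1.polyGrading n R) X (hX n R)
          (fun _ => one_pos) (irrelevant_le n R)).openCover
      intro (i : Fin (n + 1))
      have h1 : (rho n R i).hom ((toSpec' n R).appTop.hom
          ((Scheme.ΓSpecIso (CommRingCat.of R)).inv.hom (c 0))) = (rho n R i).hom s := by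
        rw [hT, hc, hcc i]
      have hinj : Function.Injective
          (Scheme.ΓSpecIso (CommRingCat.of (Away (CohB1.polyGrading n R) (X i)))).hom.hom :=
        (ConcreteCategory.bijective_of_isIso (Scheme.ΓSpecIso _).hom).1
      exact hinj h1
  have hiso : IsIso ((Scheme.ΓSpecIso (CommRingCat.of R)).inv ≫ (toSpec' n R).appTop) :=
    (ConcreteCategory.isIso_iff_bijective _).2 hbij
  exact IsIso.of_isIso_comp_left (Scheme.ΓSpecIso (CommRingCat.of R)).inv (toSpec' n R).appTop

theorem main : IsIso (CohB1.ProjSpace.toSpec n R).appTop :=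
  isIso_toSpec' n R

end Groth.Agent.Lib.Helper6.ProjSpaceGamma
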