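import Mathlib

/-!
# Basic facts on `Proj` of a graded ring (helper6)

Points of `Proj` from ordinary primes (via the homogeneous core), emptiness criteria, and a
degree estimate for powers of the irrelevant ideal.
-/

set_option autoImplicit false
universe u
open CategoryTheory AlgebraicGeometry

namespace Groth.Agent.Lib.Helper6

section
variable {A σ : Type*} [CommRing A] [SetLike σ A] [AddSubgroupClass σ A]
  (𝒜 : ℕ → σ) [GradedRing 𝒜]

/-- A prime ideal not containing the irrelevant ideal gives a point of the projective spectrum,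
namely its homogeneous core. -/
def projPointOfPrime (p : Ideal A) [hp : p.IsPrime]
    (h : ¬ (HomogeneousIdeal.irrelevant 𝒜).toIdeal ≤ p) : ProjectiveSpectrum 𝒜 where
  asHomogeneousIdeal := p.homogeneousCore 𝒜
  isPrime := hp.homogeneousCore
  not_irrelevant_le hle := h fun _ hx => Ideal.toIdeal_homogeneousCore_le 𝒜 p (hle hx)

lemma projPointOfPrime_le (p : Ideal A) [p.IsPrime]
    (h : ¬ (HomogeneousIdeal.irrelevant 𝒜).toIdeal ≤ p) :
    (projPointOfPrime 𝒜 p h).asHomogeneousIdeal.toIdeal ≤ p :=
  Ideal.toIdeal_homogeneousCore_le 𝒜 p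

lemma mem_projPointOfPrime_of_homogeneous (p : Ideal A) [p.IsPrime]
    (h : ¬ (HomogeneousIdeal.irrelevant 𝒜).toIdeal ≤ p) {x : A}
    (hx : SetLike.IsHomogeneousElem 𝒜 x) (hxp : x ∈ p) :
    x ∈ (projPointOfPrime 𝒜 p h).asHomogeneousIdeal :=
  Ideal.mem_homogeneousCore_of_homogeneous_of_mem hx hxp

/-- The projective spectrum is empty iff every prime contains the irrelevant ideal. -/
lemma isEmpty_projectiveSpectrum_iff_le_nilradical :
    IsEmpty (ProjectiveSpectrum 𝒜) ↔
      (HomogeneousIdeal.irrelevant 𝒜).toIdeal ≤ nilradical A := by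
  constructor
  · intro h
    rw [nilradical_eq_sInf]
    refine le_sInf fun p (hp : p.IsPrime) => ?_
    by_contra hle
    exact h.false (projPointOfPrime 𝒜 p hle)
  · intro h
    refine ⟨fun x => x.not_irrelevant_le fun a ha => ?_⟩
    exact nilradical_le_prime x.asHomogeneousIdeal.toIdeal (h ha)

end

end Groth.Agent.Lib.Helper6
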