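import Mathlib
import Groth.Agent.Lib.Helper6.ProjBasic

/-!
# Functoriality of `Proj`: local structure of `Proj.map` (helper6)
-/

set_option autoImplicit false
universe u
open CategoryTheory CategoryTheory.Limits AlgebraicGeometry HomogeneousLocalization

namespace Groth.Agent.Lib.Helper6

section
variable {A σ : Type u} [CommRing A] [SetLike σ A] [AddSubgroupClass σ A]
  (𝒜 : ℕ → σ) [GradedRing 𝒜]

/-- Every point of `Proj` lies in `D₊(s)` for some homogeneous `s` of positive degree. -/
lemma exists_homogeneous_mem_basicOpen (x : Proj 𝒜) :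
    ∃ (i : ℕ) (_ : 0 < i) (s : A), s ∈ 𝒜 i ∧ x ∈ Proj.basicOpen 𝒜 s := by
  have h := x.not_irrelevant_le
  rw [HomogeneousIdeal.irrelevant_le] at h
  push Not at h
  obtain ⟨i, hi, hle⟩ := h
  obtain ⟨s, hs, hsx⟩ := SetLike.not_le_iff_exists.1 hle
  exact ⟨i, hi, s, hs, hsx⟩

/-- An element of the irrelevant ideal which is not nilpotent is nonzero at some point of `Proj`. -/
lemma exists_mem_basicOpen_of_not_isNilpotent {b : A}
    (hb : b ∈ (HomogeneousIdeal.irrelevant 𝒜).toIdeal) (hnil : ¬ IsNilpotent b) :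
    ∃ y : Proj 𝒜, y ∈ Proj.basicOpen 𝒜 b := by
  rw [← mem_nilradical, nilradical_eq_sInf, Ideal.mem_sInf] at hnil
  push Not at hnil
  obtain ⟨q, hq, hbq⟩ := hnil
  have : q.IsPrime := hq
  have hle : ¬ (HomogeneousIdeal.irrelevant 𝒜).toIdeal ≤ q := fun h => hbq (h hb)
  exact ⟨projPointOfPrime 𝒜 q hle, fun h => hbq (projPointOfPrime_le 𝒜 q hle h)⟩

end

section
variable {A B σ τ : Type u} [CommRing A] [SetLike σ A] [AddSubgroupClass σ A]
  [CommRing B] [SetLike τ B] [AddSubgroupClass τ B]
  {𝒜 : ℕ → σ} {ℬ : ℕ → τ} [GradedRing 𝒜] [GradedRing ℬ]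
  (φ : 𝒜 →+*ᵍ ℬ) (hφ : HomogeneousIdeal.irrelevant ℬ ≤ (HomogeneousIdeal.irrelevant 𝒜).map φ)

/-- A surjective graded ring map induces surjections on degree-zero localisations. -/
lemma awayMap_surjective (hsurj : Function.Surjective φ) {d : ℕ} {s : A} (hs : s ∈ 𝒜 d) :
    Function.Surjective (Away.map φ s) := by
  intro y
  obtain ⟨n, b, hb, rfl⟩ := Away.mk_surjective ℬ (Graded.map_mem φ hs) y
  obtain ⟨a, rfl⟩ := hsurj b
  refine ⟨.mk 𝒜 hs n (DirectSum.decompose 𝒜 a (n • d)) (SetLike.coe_mem _), ?_⟩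
  rw [Away.map_mk]
  congr 1
  rw [GradedRingHom.map_directSumDecompose]
  exact DirectSum.decompose_of_mem_same ℬ hb

/-- The square expressing `Proj.map` over a basic open is a pullback. -/
lemma isPullback_awayι_map {i : ℕ} (hi : 0 < i) (s : A) (hs : s ∈ 𝒜 i) :
    IsPullback (Spec.map (CommRingCat.ofHom (Away.map φ s)))
      (Proj.awayι ℬ (φ s) (Graded.map_mem φ hs) hi) (Proj.awayι 𝒜 s hs hi) (Proj.map φ hφ) := by
  refine IsOpenImmersion.isPullback _ _ _ _ (Proj.awayι_comp_map φ hφ hi s hs) ?_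
  rw [Proj.opensRange_awayι, Proj.opensRange_awayι, Proj.map_preimage_basicOpen]

/-- A graded ring hom maps the irrelevant ideal into the irrelevant ideal. -/
lemma map_mem_irrelevant {a : A} (ha : a ∈ (HomogeneousIdeal.irrelevant 𝒜).toIdeal) :
    φ a ∈ (HomogeneousIdeal.irrelevant ℬ).toIdeal := by
  change φ a ∈ HomogeneousIdeal.irrelevant ℬ
  change a ∈ HomogeneousIdeal.irrelevant 𝒜 at ha
  rw [HomogeneousIdeal.mem_irrelevant_iff, GradedRing.proj_apply] at ha ⊢
  rw [← φ.map_directSumDecompose, ha, map_zero]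

/-- For a surjective graded ring hom with nil kernel, `Proj.map` is surjective on points. -/
lemma proj_map_base_surjective (hsurj : Function.Surjective φ)
    (hker : ∀ a : A, φ a = 0 → IsNilpotent a) :
    Function.Surjective (Proj.map φ hφ).base := by
  intro x
  have hkx : RingHom.ker φ ≤ x.asHomogeneousIdeal.toIdeal := fun a ha =>
    nilradical_le_prime _ (mem_nilradical.2 (hker a ((RingHom.mem_ker).1 ha)))
  have hcm : Ideal.comap φ (Ideal.map φ x.asHomogeneousIdeal.toIdeal) =
      x.asHomogeneousIdeal.toIdeal := by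
    rw [Ideal.comap_map_of_surjective φ hsurj]
    exact sup_eq_left.2 hkx
  let y : ProjectiveSpectrum ℬ :=
    { asHomogeneousIdeal := x.asHomogeneousIdeal.map φ
      isPrime := Ideal.map_isPrime_of_surjective hsurj hkx
      not_irrelevant_le := fun hle => x.not_irrelevant_le fun a ha => by
        have h2 : φ a ∈ Ideal.map φ x.asHomogeneousIdeal.toIdeal := hle (map_mem_irrelevant φ ha)
        have h3 : a ∈ Ideal.comap φ (Ideal.map φ x.asHomogeneousIdeal.toIdeal) := h2
        rw [hcm] at h3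
        exact h3 }
  refine ⟨y, ?_⟩
  apply ProjectiveSpectrum.ext
  apply HomogeneousIdeal.toIdeal_injective
  exact hcm

/-- A property of morphisms which is Zariski-local on the target holds for `Proj.map φ` as soon
as it holds for all the induced maps on the standard affine charts. -/
lemma proj_map_of_forall_away (P : MorphismProperty Scheme.{u}) [IsZariskiLocalAtTarget P]
    (H : ∀ (i : ℕ) (_ : 0 < i) (s : A) (_ : s ∈ 𝒜 i),
      P (Spec.map (CommRingCat.ofHom (Away.map φ s)))) :
    P (Proj.map φ hφ) := by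
  refine IsZariskiLocalAtTarget.of_openCover (P := P)
    (Proj.affineOpenCover 𝒜).openCover fun i => ?_
  let j : Σ i : PNat, 𝒜 i := i
  have sq := isPullback_awayι_map φ hφ j.1.2 j.2.1 j.2.2
  have h3 : P (sq.flip.isoPullback.hom ≫ pullback.snd _ _) := by
    rw [sq.flip.isoPullback_hom_snd]
    exact H _ j.1.2 _ j.2.2
  exact (P.cancel_left_of_respectsIso sq.flip.isoPullback.hom _).1 h3

end

end Groth.Agent.Lib.Helper6
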