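import Mathlib
import Groth.Agent.Lib.Helper6.ProjMap

/-!
# Reducedness and irreducibility of `Proj` (helper6)
-/

set_option autoImplicit false
universe u
open CategoryTheory CategoryTheory.Limits AlgebraicGeometry HomogeneousLocalization

namespace Groth.Agent.Lib.Helper6

section
variable {A σ : Type u} [CommRing A] [SetLike σ A] [AddSubgroupClass σ A]
  (𝒜 : ℕ → σ) [GradedRing 𝒜]

/-- If the irrelevant ideal has no nonzero nilpotents, the degree-zero localisations at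
homogeneous elements of positive degree are reduced. -/
lemma isReduced_away
    (hred : ∀ f ∈ (HomogeneousIdeal.irrelevant 𝒜).toIdeal, IsNilpotent f → f = 0)
    {d : ℕ} (hd : 0 < d) {f : A} (hf : f ∈ 𝒜 d) : IsReduced (Away 𝒜 f) := by
  refine ⟨fun x hx => ?_⟩
  obtain ⟨n, a, ha, rfl⟩ := Away.mk_surjective 𝒜 hf x
  obtain ⟨m, hm⟩ := hx
  have h1 : (Localization.mk a ⟨f ^ n, n, rfl⟩ : Localization.Away f) ^ m = 0 := by
    have := congrArg HomogeneousLocalization.val hm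
    rwa [val_pow, Away.val_mk, val_zero] at this
  rw [Localization.mk_pow, Localization.mk_eq_mk', IsLocalization.mk'_eq_zero_iff] at h1
  obtain ⟨⟨_, k, rfl⟩, hk⟩ := h1
  have hk' : f ^ k * a ^ m = 0 := hk
  have hnil : IsNilpotent (f * a) := by
    refine ⟨k + m, ?_⟩
    calc (f * a) ^ (k + m) = (f ^ k * a ^ m) * (f ^ m * a ^ k) := by ring
      _ = 0 := by rw [hk', zero_mul]
  have hfa : f * a = 0 :=
    hred _ (Ideal.mul_mem_right _ _ (HomogeneousIdeal.mem_irrelevant_of_mem 𝒜 hd hf)) hnil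
  apply HomogeneousLocalization.val_injective
  rw [Away.val_mk, val_zero, Localization.mk_eq_mk', IsLocalization.mk'_eq_zero_iff]
  exact ⟨⟨f, 1, pow_one f⟩, hfa⟩

/-- `Proj` of an essentially reduced graded ring is reduced. -/
lemma proj_isReduced
    (hred : ∀ f ∈ (HomogeneousIdeal.irrelevant 𝒜).toIdeal, IsNilpotent f → f = 0) :
    AlgebraicGeometry.IsReduced (Proj 𝒜) := by
  have : ∀ i, AlgebraicGeometry.IsReduced ((Proj.affineOpenCover 𝒜).openCover.X i) := by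
    intro i
    let j : Σ i : PNat, 𝒜 i := i
    have : _root_.IsReduced (Away 𝒜 (j.2 : A)) := isReduced_away 𝒜 hred j.1.2 j.2.2
    change AlgebraicGeometry.IsReduced (Spec (.of (Away 𝒜 (j.2 : A))))
    infer_instance
  exact IsReduced.of_openCover _ (Proj.affineOpenCover 𝒜).openCover

/-- Irreducibility criterion: in an essentially reduced graded ring whose irrelevant ideal is
nonzero and has no zero divisors, `Proj` is irreducible. -/
lemma proj_irreducibleSpace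
    (hred : ∀ f ∈ (HomogeneousIdeal.irrelevant 𝒜).toIdeal, IsNilpotent f → f = 0)
    (hne : ∃ f ∈ (HomogeneousIdeal.irrelevant 𝒜).toIdeal, f ≠ 0)
    (hdom : ∀ f ∈ (HomogeneousIdeal.irrelevant 𝒜).toIdeal,
      ∀ g ∈ (HomogeneousIdeal.irrelevant 𝒜).toIdeal, f * g = 0 → f = 0 ∨ g = 0) :
    IrreducibleSpace (Proj 𝒜) := by
  have key : ∀ (U : Set (Proj 𝒜)), IsOpen U → ∀ x ∈ U,
      ∃ a ∈ (HomogeneousIdeal.irrelevant 𝒜).toIdeal, a ≠ 0 ∧
        ((Proj.basicOpen 𝒜 a : Set (Proj 𝒜)) ⊆ U) := by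
    intro U hU x hxU
    have hb : ∀ {U : TopologicalSpace.Opens (Proj 𝒜)} {x : Proj 𝒜}, x ∈ U →
        ∃ U' ∈ Set.range (Proj.basicOpen 𝒜), x ∈ U' ∧ U' ≤ U :=
      TopologicalSpace.Opens.isBasis_iff_nbhd.1 (Proj.isBasis_basicOpen 𝒜)
    obtain ⟨_, ⟨a, rfl⟩, hxa, haU⟩ := @hb ⟨U, hU⟩ x hxU
    obtain ⟨i, hi, s, hs, hxs⟩ := exists_homogeneous_mem_basicOpen 𝒜 x
    have hasx : a * s ∉ x.asHomogeneousIdeal.toIdeal := fun h =>
      (x.isPrime.mem_or_mem h).elim hxa hxs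
    refine ⟨a * s, Ideal.mul_mem_left _ _ (HomogeneousIdeal.mem_irrelevant_of_mem 𝒜 hi hs),
      fun h0 => hasx (h0 ▸ zero_mem _), ?_⟩
    rw [Proj.basicOpen_mul]
    exact fun y hy => haU hy.1
  obtain ⟨f, hf, hf0⟩ := hne
  have hnonempty : Nonempty (Proj 𝒜) := by
    obtain ⟨y, -⟩ := exists_mem_basicOpen_of_not_isNilpotent 𝒜 hf (fun h => hf0 (hred f hf h))
    exact ⟨y⟩
  refine @IrreducibleSpace.mk _ _ ⟨?_⟩ hnonempty
  rintro U V hU hV ⟨x, -, hxU⟩ ⟨y, -, hyV⟩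
  obtain ⟨a, ha, ha0, haU⟩ := key U hU x hxU
  obtain ⟨b, hb, hb0, hbV⟩ := key V hV y hyV
  have hab : a * b ≠ 0 := fun h => (hdom a ha b hb h).elim ha0 hb0
  have habm : a * b ∈ (HomogeneousIdeal.irrelevant 𝒜).toIdeal := Ideal.mul_mem_left _ _ hb
  obtain ⟨z, hz⟩ := exists_mem_basicOpen_of_not_isNilpotent 𝒜 habm
    (fun h => hab (hred _ habm h))
  rw [Proj.basicOpen_mul] at hz
  exact ⟨z, Set.mem_univ _, haU hz.1, hbV hz.2⟩

end

end Groth.Agent.Lib.Helper6
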