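import Mathlib
import Groth.Agent.Lib.Helper3.SubschemeStalk

/-!
# Ideals of Noetherian factorial local rings whose associated primes have height one

* `exists_generator_of_ass_height_one`: in a Noetherian factorial domain, a nonzero ideal `J` all of
  whose associated primes (of `A ⧸ J`) have height one is principal (induction on `DvdNotUnit`).
* `height_eq_one_of_mem_associatedPrimes`: transfer of "no embedded points + maximal points of
  codimension one" for a closed subscheme to the associated primes of the stalk ideal.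
* `exists_stalk_generator`: the stalk ideal is generated by one nonzerodivisor.
-/

set_option autoImplicit false
universe u
open CategoryTheory CategoryTheory.Limits AlgebraicGeometry TopologicalSpace

namespace Groth.Agent.Lib.Helper6.UFDCartier

theorem mem_colon_mk {A : Type*} [CommRing A] (J : Ideal A) (a y : A) :
    a ∈ (⊥ : Submodule A (A ⧸ J)).colon {Ideal.Quotient.mk J y} ↔ a * y ∈ J := by
  rw [Submodule.mem_colon_singleton, Submodule.mem_bot, ← Ideal.Quotient.eq_zero_iff_mem, map_mul]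
  rfl

section Algebra

variable {A : Type*} [CommRing A] [IsDomain A] [IsNoetherianRing A] [UniqueFactorizationMonoid A]

theorem exists_generator_of_ass_height_one (a : A) :
    a ≠ 0 → ∀ J : Ideal A, a ∈ J →
      (∀ P ∈ associatedPrimes A (A ⧸ J), P.height = 1) → ∃ g : A, g ≠ 0 ∧ J = Ideal.span {g} := by
  induction a using (wellFounded_dvdNotUnit (α := A)).induction with
  | _ a ih => ?_
  intro ha J haJ hJ
  by_cases htop : J = ⊤
  · exact ⟨1, one_ne_zero, by rw [htop, Ideal.span_singleton_one]⟩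
  haveI : Nontrivial (A ⧸ J) := Ideal.Quotient.nontrivial_iff.mpr htop
  obtain ⟨P, hP⟩ := associatedPrimes.nonempty A (A ⧸ J)
  have hPh : P.height = 1 := hJ P hP
  haveI hPprime : P.IsPrime := hP.isPrime
  obtain ⟨π, hπP, hπ⟩ :=
    Ideal.IsPrime.exists_mem_prime_of_ne_bot hPprime (Ideal.ne_bot_of_height_eq_one hPh)
  have hPeq : P = Ideal.span {π} := Ideal.eq_span_singleton_of_height_eq_one hPh hπP hπ
  have hJP : J ≤ P := by
    obtain ⟨-, ybar, hy⟩ := isAssociatedPrime_iff.mp (AssociatedPrimes.mem_iff.mp hP)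
    obtain ⟨y, rfl⟩ := Ideal.Quotient.mk_surjective ybar
    intro j hj
    rw [hy, mem_colon_mk]
    exact J.mul_mem_right _ hj
  have hdiv : ∀ b ∈ J, π ∣ b := by
    intro b hb
    have : b ∈ Ideal.span {π} := by rw [← hPeq]; exact hJP hb
    exact Ideal.mem_span_singleton.mp this
  obtain ⟨a', ha'⟩ := hdiv a haJ
  have ha'0 : a' ≠ 0 := by
    rintro rfl
    exact ha (by rw [ha', mul_zero])
  have hdvd : DvdNotUnit a' a := ⟨ha'0, π, hπ.not_isUnit, by rw [ha', mul_comm]⟩
  set J' : Ideal A := Submodule.comap (LinearMap.mulLeft A π) J with hJ'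
  have hmemJ' : ∀ b, b ∈ J' ↔ π * b ∈ J := fun b => Iff.rfl
  have ha'J' : a' ∈ J' := (hmemJ' a').mpr (ha' ▸ haJ)
  have hass : ∀ Q ∈ associatedPrimes A (A ⧸ J'), Q.height = 1 := by
    intro Q hQ
    apply hJ Q
    let f : (A ⧸ J') →ₗ[A] (A ⧸ J) := Submodule.mapQ J' J (LinearMap.mulLeft A π) le_rfl
    have hf : Function.Injective f := by
      rw [injective_iff_map_eq_zero]
      intro c hc
      obtain ⟨b, rfl⟩ := Submodule.Quotient.mk_surjective J' c
      rw [Submodule.mapQ_apply, Submodule.Quotient.mk_eq_zero] at hc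
      rw [Submodule.Quotient.mk_eq_zero]
      exact hc
    exact associatedPrimes.subset_of_injective hf hQ
  obtain ⟨g', hg'0, hg'⟩ := ih a' hdvd ha'0 J' ha'J' hass
  refine ⟨π * g', mul_ne_zero hπ.ne_zero hg'0, ?_⟩
  apply le_antisymm
  · intro b hb
    obtain ⟨c, rfl⟩ := hdiv b hb
    have hc : c ∈ J' := (hmemJ' c).mpr hb
    rw [hg'] at hc
    obtain ⟨d, rfl⟩ := Ideal.mem_span_singleton.mp hc
    exact Ideal.mem_span_singleton.mpr ⟨d, by ring⟩
  · rw [Ideal.span_singleton_le_iff_mem]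
    have : g' ∈ J' := by rw [hg']; exact Ideal.mem_span_singleton_self g'
    exact (hmemJ' g').mp this

end Algebra

section Geometry

variable {X : Scheme.{u}}

/-- The point of an affine open corresponding to a prime of its ring of sections. -/
theorem exists_point_of_prime {U : X.Opens} (hU : IsAffineOpen U) (p : Ideal Γ(X, U))
    [hp : p.IsPrime] :
    ∃ (z : X) (hz : z ∈ U), (hU.primeIdealOf ⟨z, hz⟩).asIdeal = p := by
  let q : PrimeSpectrum Γ(X, U) := ⟨p, hp⟩
  have hzU : hU.fromSpec q ∈ U := by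
    have : hU.fromSpec q ∈ Set.range hU.fromSpec := ⟨q, rfl⟩
    rw [hU.range_fromSpec] at this
    exact this
  have hzq : hU.primeIdealOf ⟨hU.fromSpec q, hzU⟩ = q := by
    apply hU.fromSpec.isOpenEmbedding.injective
    rw [hU.fromSpec_primeIdealOf ⟨hU.fromSpec q, hzU⟩]
  exact ⟨hU.fromSpec q, hzU, by rw [hzq]⟩

theorem isNoetherianRing_stalk [IsLocallyNoetherian X] (x : X) (U : X.affineOpens) (hxU : x ∈ U.1) :
    IsNoetherianRing (X.presheaf.stalk x) := by
  haveI hNoeth : IsNoetherianRing Γ(X, U.1) := IsLocallyNoetherian.component_noetherian U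
  letI algA : Algebra Γ(X, U.1) (X.presheaf.stalk x) :=
    TopCat.Presheaf.algebra_section_stalk X.presheaf (U := U.1) ⟨x, hxU⟩
  haveI hlocA : IsLocalization.AtPrime (X.presheaf.stalk x) (U.2.primeIdealOf ⟨x, hxU⟩).asIdeal :=
    U.2.isLocalization_stalk ⟨x, hxU⟩
  exact IsLocalization.isNoetherianRing (U.2.primeIdealOf ⟨x, hxU⟩).asIdeal.primeCompl _ hNoeth

theorem height_eq_one_of_mem_associatedPrimes [IsLocallyNoetherian X] (𝓘 : X.IdealSheafData)
    (h1 : ∀ z : ↥𝓘.subscheme,
      IsAssociatedPrime (IsLocalRing.maximalIdeal ↑(𝓘.subscheme.presheaf.stalk z))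
        ↑(𝓘.subscheme.presheaf.stalk z) → ∀ z' : ↥𝓘.subscheme, z' ⤳ z → z' = z)
    (h2 : ∀ z : ↥𝓘.subscheme, (∀ z' : ↥𝓘.subscheme, z' ⤳ z → z' = z) →
      ringKrullDim (X.presheaf.stalk (𝓘.subschemeι z)) = 1)
    (x : X) (U : X.affineOpens) (hxU : x ∈ U.1)
    (P : Ideal (X.presheaf.stalk x))
    (hP : P ∈ associatedPrimes (X.presheaf.stalk x)
      ((X.presheaf.stalk x) ⧸ (𝓘.ideal U).map (X.presheaf.germ U.1 x hxU).hom)) :
    P.height = 1 := by
  have hU : IsAffineOpen U.1 := U.2
  haveI hNoeth : IsNoetherianRing Γ(X, U.1) := IsLocallyNoetherian.component_noetherian U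
  haveI hNoethA : IsNoetherianRing (X.presheaf.stalk x) := isNoetherianRing_stalk x U hxU
  letI algA : Algebra Γ(X, U.1) (X.presheaf.stalk x) :=
    TopCat.Presheaf.algebra_section_stalk X.presheaf (U := U.1) ⟨x, hxU⟩
  haveI hlocA : IsLocalization.AtPrime (X.presheaf.stalk x) (hU.primeIdealOf ⟨x, hxU⟩).asIdeal :=
    hU.isLocalization_stalk ⟨x, hxU⟩
  set m := hU.primeIdealOf ⟨x, hxU⟩ with hm
  set φ : Γ(X, U.1) →+* X.presheaf.stalk x := (X.presheaf.germ U.1 x hxU).hom with hφ
  set I := 𝓘.ideal U with hI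
  -- unpack the associated prime
  obtain ⟨hPprime, ybar, hPy⟩ := isAssociatedPrime_iff.mp (AssociatedPrimes.mem_iff.mp hP)
  obtain ⟨y, rfl⟩ := Ideal.Quotient.mk_surjective ybar
  have hmemP : ∀ a : X.presheaf.stalk x, a ∈ P ↔ a * y ∈ I.map φ := by
    intro a
    rw [hPy, mem_colon_mk]
  obtain ⟨⟨y', s⟩, hys⟩ := IsLocalization.surj m.asIdeal.primeCompl y
  change y * φ s.1 = φ y' at hys
  have hsunit : IsUnit (φ s.1) := IsLocalization.map_units (X.presheaf.stalk x) s
  have hmemP' : ∀ a : X.presheaf.stalk x, a ∈ P ↔ a * φ y' ∈ I.map φ := by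
    intro a
    rw [hmemP a, ← hys, ← mul_assoc]
    exact (Ideal.mul_unit_mem_iff_mem _ hsunit).symm
  -- the contracted prime
  set p : Ideal Γ(X, U.1) := P.comap φ with hp
  haveI hpprime : p.IsPrime := Ideal.IsPrime.comap φ
  have hmemp : ∀ r : Γ(X, U.1), r ∈ p ↔ ∃ v ∈ m.asIdeal.primeCompl, v * (r * y') ∈ I := by
    intro r
    rw [hp, Ideal.mem_comap, hmemP', ← map_mul]
    exact IsLocalization.algebraMap_mem_map_algebraMap_iff m.asIdeal.primeCompl
      (X.presheaf.stalk x) I (r * y')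
  have hpm : p ≤ m.asIdeal := by
    intro r hr
    by_contra hrm
    have hu : IsUnit (φ r) :=
      IsLocalization.map_units (X.presheaf.stalk x) (⟨r, hrm⟩ : m.asIdeal.primeCompl)
    exact hPprime.ne_top (Ideal.eq_top_of_isUnit_mem _ hr hu)
  have hIp : I ≤ p := by
    intro r hr
    rw [hmemp]
    exact ⟨1, Submonoid.one_mem _, by rw [one_mul]; exact I.mul_mem_right _ hr⟩
  -- the corresponding point of the closed subscheme
  obtain ⟨zX, hzU, hzp⟩ := exists_point_of_prime hU p
  have hzsupp : zX ∈ 𝓘.support :=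
    (Groth.Agent.Lib.Helper3.mem_support_iff_le_primeIdealOf 𝓘 U zX hzU).mpr
      (hIp.trans (le_of_eq hzp.symm))
  obtain ⟨z, rfl⟩ : ∃ z, 𝓘.subschemeι z = zX := by
    have : zX ∈ Set.range 𝓘.subschemeι := by rw [𝓘.range_subschemeι]; exact hzsupp
    exact this
  letI algB : Algebra Γ(X, U.1) (X.presheaf.stalk (𝓘.subschemeι z)) :=
    TopCat.Presheaf.algebra_section_stalk X.presheaf (U := U.1) ⟨𝓘.subschemeι z, hzU⟩
  haveI hlocB : IsLocalization.AtPrime (X.presheaf.stalk (𝓘.subschemeι z))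
      (hU.primeIdealOf ⟨𝓘.subschemeι z, hzU⟩).asIdeal := hU.isLocalization_stalk ⟨_, hzU⟩
  set q := hU.primeIdealOf ⟨𝓘.subschemeι z, hzU⟩ with hq
  set φ' : Γ(X, U.1) →+* X.presheaf.stalk (𝓘.subschemeι z) :=
    (X.presheaf.germ U.1 (𝓘.subschemeι z) hzU).hom with hφ'
  set ψ : X.presheaf.stalk (𝓘.subschemeι z) →+* 𝓘.subscheme.presheaf.stalk z :=
    (𝓘.subschemeι.stalkMap z).hom with hψ
  haveI hlocψ : IsLocalHom ψ := (inferInstance : IsLocalHom (𝓘.subschemeι.stalkMap z).hom)
  have hker : RingHom.ker ψ = I.map φ' :=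
    Groth.Agent.Lib.Helper3.ker_stalkMap_subschemeι 𝓘 U z hzU
  have hsurj : Function.Surjective ψ :=
    Groth.Agent.Lib.Helper3.stalkMap_subschemeι_surjective 𝓘 z
  have hass : IsAssociatedPrime (IsLocalRing.maximalIdeal ↑(𝓘.subscheme.presheaf.stalk z))
      ↑(𝓘.subscheme.presheaf.stalk z) := by
    have hcolon : (⊥ : Submodule (𝓘.subscheme.presheaf.stalk z)
        (𝓘.subscheme.presheaf.stalk z)).colon {ψ (φ' y')} =
        IsLocalRing.maximalIdeal (𝓘.subscheme.presheaf.stalk z) := by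
      ext c
      obtain ⟨b, rfl⟩ := hsurj c
      obtain ⟨⟨b', t⟩, hbt⟩ := IsLocalization.surj q.asIdeal.primeCompl b
      change b * φ' t.1 = φ' b' at hbt
      have htunit : IsUnit (φ' t.1) :=
        IsLocalization.map_units (X.presheaf.stalk (𝓘.subschemeι z)) t
      rw [Submodule.mem_colon_singleton, Submodule.mem_bot, smul_eq_mul, ← map_mul,
        ← RingHom.mem_ker, hker]
      have e1 : b * φ' y' ∈ I.map φ' ↔ ∃ u ∈ q.asIdeal.primeCompl, u * (b' * y') ∈ I := by
        rw [← IsLocalization.algebraMap_mem_map_algebraMap_iff q.asIdeal.primeCompl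
          (X.presheaf.stalk (𝓘.subschemeι z)) I (b' * y')]
        change _ ↔ φ' (b' * y') ∈ I.map φ'
        rw [map_mul, ← hbt, mul_right_comm]
        exact (Ideal.mul_unit_mem_iff_mem _ htunit).symm
      have e2 : ψ b ∈ IsLocalRing.maximalIdeal (𝓘.subscheme.presheaf.stalk z) ↔ b' ∈ p := by
        rw [IsLocalRing.mem_maximalIdeal, mem_nonunits_iff, isUnit_map_iff ψ b, ← hzp,
          ← IsLocalization.AtPrime.to_map_mem_maximal_iff (X.presheaf.stalk (𝓘.subschemeι z))
            q.asIdeal b']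
        change _ ↔ φ' b' ∈ _
        rw [← hbt, IsLocalRing.mem_maximalIdeal, mem_nonunits_iff]
        exact not_congr ⟨fun h => h.mul htunit, fun h => (IsUnit.mul_iff.mp h).1⟩
      rw [e1, e2]
      constructor
      · rintro ⟨u, hu, huI⟩
        have h3 : u * b' ∈ p := by
          rw [hmemp]
          exact ⟨1, Submonoid.one_mem _, by rw [one_mul, mul_assoc]; exact huI⟩
        have hup : u ∉ p := by rw [← hzp]; exact hu
        exact (hpprime.mem_or_mem h3).resolve_left hup
      · intro hb'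
        obtain ⟨v, hv, hvI⟩ := (hmemp b').mp hb'
        refine ⟨v, ?_, hvI⟩
        intro hvq
        have hvp : v ∈ p := by rw [← hzp]; exact hvq
        exact hv (hpm hvp)
    refine ⟨inferInstance, ψ (φ' y'), ?_⟩
    rw [hcolon, Ideal.IsPrime.radical inferInstance]
  have hdim : ringKrullDim (X.presheaf.stalk (𝓘.subschemeι z)) = 1 := h2 z (h1 z hass)
  have hq1 : q.asIdeal.height = 1 := by
    have := IsLocalization.AtPrime.ringKrullDim_eq_height q.asIdeal
      (X.presheaf.stalk (𝓘.subschemeι z))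
    rw [hdim] at this
    exact_mod_cast this.symm
  have hund : (P.under Γ(X, U.1)).height = P.height :=
    IsLocalization.height_under m.asIdeal.primeCompl P
  rw [← hund]
  change p.height = 1
  rw [← hzp]
  exact hq1

theorem exists_stalk_generator [IsLocallyNoetherian X] (𝓘 : X.IdealSheafData)
    (h1 : ∀ z : ↥𝓘.subscheme,
      IsAssociatedPrime (IsLocalRing.maximalIdeal ↑(𝓘.subscheme.presheaf.stalk z))
        ↑(𝓘.subscheme.presheaf.stalk z) → ∀ z' : ↥𝓘.subscheme, z' ⤳ z → z' = z)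
    (h2 : ∀ z : ↥𝓘.subscheme, (∀ z' : ↥𝓘.subscheme, z' ⤳ z → z' = z) →
      ringKrullDim (X.presheaf.stalk (𝓘.subschemeι z)) = 1)
    (x : X) (hdom : IsDomain (X.presheaf.stalk x))
    (hufd : UniqueFactorizationMonoid (X.presheaf.stalk x))
    (U : X.affineOpens) (hxU : x ∈ U.1) :
    ∃ g : X.presheaf.stalk x, g ∈ nonZeroDivisors (X.presheaf.stalk x) ∧
      (𝓘.ideal U).map (X.presheaf.germ U.1 x hxU).hom = Ideal.span {g} := by
  haveI hNoethA : IsNoetherianRing (X.presheaf.stalk x) := isNoetherianRing_stalk x U hxU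
  have hht := height_eq_one_of_mem_associatedPrimes 𝓘 h1 h2 x U hxU
  set IA := (𝓘.ideal U).map (X.presheaf.germ U.1 x hxU).hom with hIA
  have hne : IA ≠ ⊥ := by
    intro hbot
    have hmem : (⊥ : Ideal (X.presheaf.stalk x)) ∈
        associatedPrimes (X.presheaf.stalk x) ((X.presheaf.stalk x) ⧸ IA) := by
      rw [AssociatedPrimes.mem_iff, isAssociatedPrime_iff]
      refine ⟨Ideal.isPrime_bot, Ideal.Quotient.mk IA 1, ?_⟩
      ext a
      rw [mem_colon_mk, mul_one, hbot]
    have := hht ⊥ hmem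
    rw [Ideal.height_bot] at this
    exact zero_ne_one this
  obtain ⟨a, haIA, ha0⟩ := Submodule.exists_mem_ne_zero_of_ne_bot hne
  obtain ⟨g, hg0, hg⟩ := exists_generator_of_ass_height_one a ha0 IA haIA hht
  exact ⟨g, mem_nonZeroDivisors_of_ne_zero hg0, hg⟩

end Geometry

end Groth.Agent.Lib.Helper6.UFDCartier
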