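import Mathlib.AlgebraicGeometry.IdealSheaf.Functorial
import Mathlib.AlgebraicGeometry.Morphisms.ClosedImmersion

/-!
# Inverse image of ideal sheaves: explicit description on affines, multiplicativity
-/

universe u

open CategoryTheory CategoryTheory.Limits AlgebraicGeometry

namespace Groth.Agent.Lib.Helper6.IdealComap

open AlgebraicGeometry.Scheme AlgebraicGeometry.Scheme.IdealSheafData

variable {X Y : Scheme.{u}}

/-- comap along a bijective ring hom preserves products -/
theorem ideal_comap_mul_of_bijective {R S : Type*} [CommRing R] [CommRing S] (φ : R →+* S)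
    (hφ : Function.Bijective φ) (I J : Ideal S) :
    (I * J).comap φ = I.comap φ * J.comap φ := by
  have h1 : ((I.comap φ * J.comap φ).map φ).comap φ = I.comap φ * J.comap φ :=
    Ideal.comap_map_of_bijective φ hφ
  rw [← h1, Ideal.map_mul, Ideal.map_comap_of_surjective φ hφ.2,
    Ideal.map_comap_of_surjective φ hφ.2]

theorem comap_mul_of_isOpenImmersion (j : X ⟶ Y) [IsOpenImmersion j]
    (K₁ K₂ : Y.IdealSheafData) :
    (K₁ * K₂).comap j = K₁.comap j * K₂.comap j := by
  apply IdealSheafData.ext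
  funext U
  rw [ideal_mul, Pi.mul_apply, ideal_comap_of_isOpenImmersion, ideal_comap_of_isOpenImmersion,
    ideal_comap_of_isOpenImmersion, ideal_mul, Pi.mul_apply]
  exact ideal_comap_mul_of_bijective _
    (ConcreteCategory.bijective_of_isIso (j.appIso U).inv) _ _

theorem ideal_eq_of_comap_ι_eq {I J : X.IdealSheafData} (U : X.affineOpens)
    (h : I.comap U.1.ι = J.comap U.1.ι) : I.ideal U = J.ideal U := by
  have : IsAffine (U.1 : Scheme) := U.2
  have hI := ideal_comap_of_isOpenImmersion I U.1.ι ⟨⊤, isAffineOpen_top _⟩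
  have hJ := ideal_comap_of_isOpenImmersion J U.1.ι ⟨⊤, isAffineOpen_top _⟩
  rw [h] at hI
  have hW : (⟨U.1.ι ''ᵁ ⊤, (isAffineOpen_top _).image_of_isOpenImmersion U.1.ι⟩ :
      X.affineOpens) = U := Subtype.ext U.1.ι_image_top
  have := Ideal.comap_injective_of_surjective _
    (ConcreteCategory.bijective_of_isIso (U.1.ι.appIso ⊤).inv).2 (hI.symm.trans hJ)
  have aux : ∀ W : X.affineOpens, W = U → I.ideal W = J.ideal W → I.ideal U = J.ideal U := by
    rintro W rfl h
    exact h
  exact aux _ hW this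

theorem ext_of_comap_ι_eq {I J : X.IdealSheafData} {ι : Type*} (U : ι → X.affineOpens)
    (hU : ⨆ i, (U i).1 = ⊤) (h : ∀ i, I.comap (U i).1.ι = J.comap (U i).1.ι) : I = J :=
  ext_of_iSup_eq_top U hU (fun i => ideal_eq_of_comap_ι_eq (U i) (h i))

/-- On affine schemes the inverse image ideal is the extended ideal. -/
theorem ideal_comap_of_isAffine [IsAffine X] [IsAffine Y] (f : X ⟶ Y) (K : Y.IdealSheafData) :
    (K.comap f).ideal ⟨⊤, isAffineOpen_top X⟩ =
      (K.ideal ⟨⊤, isAffineOpen_top Y⟩).map f.appTop.hom := by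
  apply le_antisymm
  · have h1 : K.comap f ≤ ofIdealTop ((K.ideal ⟨⊤, isAffineOpen_top Y⟩).map f.appTop.hom) := by
      rw [← le_map_iff_comap_le]
      apply le_of_isAffine
      rw [ideal_map_of_isAffineHom]
      change K.ideal ⟨⊤, isAffineOpen_top Y⟩ ≤ Ideal.comap f.appTop.hom
        ((ofIdealTop ((K.ideal ⟨⊤, isAffineOpen_top Y⟩).map f.appTop.hom)).ideal
          ⟨⊤, isAffineOpen_top X⟩)
      rw [show (ofIdealTop ((K.ideal ⟨⊤, isAffineOpen_top Y⟩).map f.appTop.hom)).ideal
          ⟨⊤, isAffineOpen_top X⟩ = (K.ideal ⟨⊤, isAffineOpen_top Y⟩).map f.appTop.hom from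
        (equivOfIsAffine (X := X)).right_inv _]
      exact Ideal.le_comap_map
    have h2 := h1 ⟨⊤, isAffineOpen_top X⟩
    rwa [show (ofIdealTop ((K.ideal ⟨⊤, isAffineOpen_top Y⟩).map f.appTop.hom)).ideal
          ⟨⊤, isAffineOpen_top X⟩ = (K.ideal ⟨⊤, isAffineOpen_top Y⟩).map f.appTop.hom from
        (equivOfIsAffine (X := X)).right_inv _] at h2
  · rw [Ideal.map_le_iff_le_comap]
    have := le_map_comap K f ⟨⊤, isAffineOpen_top Y⟩
    rw [ideal_map_of_isAffineHom] at this
    exact this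

theorem comap_mul_of_isAffine [IsAffine X] [IsAffine Y] (f : X ⟶ Y) (K₁ K₂ : Y.IdealSheafData) :
    (K₁ * K₂).comap f = K₁.comap f * K₂.comap f := by
  apply IdealSheafData.ext_of_isAffine
  rw [ideal_comap_of_isAffine, ideal_mul, Pi.mul_apply, ideal_mul, Pi.mul_apply,
    ideal_comap_of_isAffine, ideal_comap_of_isAffine, Ideal.map_mul]

/-- The inverse image of a product of ideal sheaves is the product of the inverse images. -/
theorem comap_mul (f : X ⟶ Y) (K₁ K₂ : Y.IdealSheafData) :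
    (K₁ * K₂).comap f = K₁.comap f * K₂.comap f := by
  apply ext_of_comap_ι_eq
    (fun p : {p : X.affineOpens × Y.affineOpens // p.1.1 ≤ f ⁻¹ᵁ p.2.1} => p.1.1)
  · rw [eq_top_iff]
    intro x _
    obtain ⟨V, hV, hxV, -⟩ := TopologicalSpace.Opens.isBasis_iff_nbhd.mp Y.isBasis_affineOpens
      (show f x ∈ (⊤ : Y.Opens) from trivial)
    obtain ⟨U, hU, hxU, hUV⟩ := TopologicalSpace.Opens.isBasis_iff_nbhd.mp X.isBasis_affineOpens
      (show x ∈ f ⁻¹ᵁ V from hxV)
    exact TopologicalSpace.Opens.mem_iSup.mpr ⟨⟨(⟨U, hU⟩, ⟨V, hV⟩), hUV⟩, hxU⟩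
  · rintro ⟨⟨U, V⟩, hUV⟩
    dsimp only
    have key : ∀ K : Y.IdealSheafData,
        (K.comap f).comap U.1.ι = (K.comap V.1.ι).comap (f.resLE V.1 U.1 hUV) := by
      intro K
      rw [← comap_comp, ← comap_comp, Scheme.Hom.resLE_comp_ι]
    have : IsAffine (U.1 : Scheme) := U.2
    have : IsAffine (V.1 : Scheme) := V.2
    rw [key (K₁ * K₂), comap_mul_of_isOpenImmersion V.1.ι, comap_mul_of_isAffine, ← key K₁,
      ← key K₂, comap_mul_of_isOpenImmersion U.1.ι]

theorem comap_pow (f : X ⟶ Y) (K : Y.IdealSheafData) (n : ℕ) :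
    (K ^ n).comap f = K.comap f ^ n := by
  induction n with
  | zero => rw [pow_zero, pow_zero, one_eq_top, comap_top, one_eq_top]
  | succ n ih => rw [pow_succ, pow_succ, comap_mul, ih]

end Groth.Agent.Lib.Helper6.IdealComap
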