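import Mathlib
import Groth.Agent.Lib.Helper12.FibreRes
import Groth.Agent.Lib.Helper12.ClosedSub
import Groth.Agent.Lib.Helper7.RedLib

/-!
# Helper library (helper6): lifting an integral curve along a surjective closed morphism of
schemes locally of finite type over a field
-/

set_option autoImplicit false
set_option linter.style.haveILetI false
universe u
open AlgebraicGeometry CategoryTheory Opposite Limits

namespace Groth.Agent.Lib.Helper6.CurveLift

open Groth.Agent.Lib.Helper12 Groth.Agent.Lib.Helper12.SchemeDimFT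
  Groth.Agent.Lib.Helper12.FibreRes Groth.Agent.Lib.Helper12.ClosedSub

attribute [local instance] Curv2.resAlgebra

theorem closure_generic {X : Scheme.{u}} (C : X.IdealSheafData) [IsIntegral C.subscheme] :
    closure ({C.subschemeι (genericPoint C.subscheme)} : Set X) = (C.support : Set X) := by
  have h1 : IsGenericPoint (C.subschemeι (genericPoint C.subscheme))
      (closure (C.subschemeι '' Set.univ)) :=
    (genericPoint_spec C.subscheme).image C.subschemeι.continuous
  rw [Set.image_univ, Scheme.IdealSheafData.range_subschemeι] at h1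
  rw [h1.def]
  exact C.support.isClosed.closure_eq

theorem main (k : Type u) [Field k] {X Y : Scheme.{u}} (q : X ⟶ Spec (CommRingCat.of k))
    [LocallyOfFiniteType q] (f : Y ⟶ X) [LocallyOfFiniteType f] [Surjective f]
    (hcl : IsClosedMap f.base)
    (C : X.IdealSheafData) [IsIntegral C.subscheme]
    (hC : topologicalKrullDim (C.support : Set X) = 1) :
    ∃ C' : Y.IdealSheafData, IsIntegral C'.subscheme ∧
      topologicalKrullDim (C'.support : Set Y) = 1 ∧
      f.base '' (C'.support : Set Y) = (C.support : Set X) := by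
  letI : X.Over (Spec (CommRingCat.of k)) := ⟨q⟩
  letI : Y.Over (Spec (CommRingCat.of k)) := ⟨f ≫ q⟩
  haveI : LocallyOfFiniteType (X ↘ Spec (CommRingCat.of k)) := ‹LocallyOfFiniteType q›
  haveI : LocallyOfFiniteType (Y ↘ Spec (CommRingCat.of k)) :=
    inferInstanceAs (LocallyOfFiniteType (f ≫ q))
  obtain ⟨η, hη⟩ : ∃ η : X, η = C.subschemeι (genericPoint C.subscheme) := ⟨_, rfl⟩
  have hclos : closure ({η} : Set X) = (C.support : Set X) := by
    rw [hη]; exact closure_generic C
  -- `tr η = 1`
  have h1 := topologicalKrullDim_closure_singleton k X η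
  rw [hclos, hC] at h1
  have htrη : tr k X η = 1 := by
    have : ((1 : ℕ) : WithBot ℕ∞) = ((tr k X η : ℕ) : WithBot ℕ∞) := by
      rw [← h1]; rfl
    exact_mod_cast this.symm
  -- a closed point of the fibre
  letI ovF : (f.fiber η).Over (Spec (CommRingCat.of (X.residueField η))) :=
    ⟨f.fiberToSpecResidueField η⟩
  haveI : LocallyOfFiniteType ((f.fiber η) ↘ Spec (CommRingCat.of (X.residueField η))) :=
    locallyOfFiniteType_fiberToSpecResidueField f η
  obtain ⟨y₀, hy₀⟩ := f.surjective η
  have hy₀' : y₀ ∈ Set.range (f.fiberι η) := by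
    rw [f.range_fiberι η]; exact hy₀
  obtain ⟨z₀, -⟩ := hy₀'
  obtain ⟨z, -, hz⟩ := exists_isClosed_mem_of_isLocallyClosed (X.residueField η) (f.fiber η)
    Set.univ isOpen_univ.isLocallyClosed ⟨z₀, trivial⟩
  have hz0 := tr_eq_zero_of_isClosed (X.residueField η) (f.fiber η) z hz
  have hadd := tr_fiber_add k q f η z
  obtain ⟨y', hy'⟩ : ∃ y' : Y, y' = f.fiberι η z := ⟨_, rfl⟩
  have hfy' : f y' = η := by
    have : y' ∈ Set.range (f.fiberι η) := ⟨z, hy'.symm⟩
    rw [f.range_fiberι η] at this
    exact this
  have htry' : tr k Y y' = 1 := by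
    rw [hy']; omega
  have h2 := topologicalKrullDim_closure_singleton k Y y'
  rw [htry'] at h2
  refine ⟨Scheme.IdealSheafData.vanishingIdeal ⟨closure {y'}, isClosed_closure⟩, ?_, ?_, ?_⟩
  · haveI : IsReduced (clSub Y y') := Groth.Agent.Lib.Helper7.isReduced_vanishingIdeal_subscheme _
    exact (isIntegral_of_irreducibleSpace_of_isReduced (clSub Y y') : IsIntegral (clSub Y y'))
  · rw [Scheme.IdealSheafData.coe_support_vanishingIdeal]
    exact h2
  · rw [Scheme.IdealSheafData.coe_support_vanishingIdeal]
    change f.base '' closure {y'} = _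
    rw [← hcl.closure_image_eq_of_continuous f.continuous, Set.image_singleton]
    change closure {f y'} = _
    rw [hfy', hclos]

end Groth.Agent.Lib.Helper6.CurveLift
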