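import Mathlib

/-!
# Connectedness of `Spec B[1/π]` for a local ring `B` with `π` regular and `B/π` reduced
-/

set_option autoImplicit false

namespace Groth.Agent.Lib.Helper6.OpenConn

lemma eq_zero_or_one_of_isIdempotentElem {B : Type*} [CommRing B] [IsLocalRing B] (e : B)
    (he : IsIdempotentElem e) : e = 0 ∨ e = 1 := by
  have h0 : e * (1 - e) = 0 := by
    have : e * e = e := he
    rw [mul_sub, mul_one, this, sub_self]
  rcases IsLocalRing.isUnit_or_isUnit_one_sub_self e with h | h
  · right
    have h1 : 1 - e = 0 := h.mul_right_eq_zero.mp h0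
    exact (sub_eq_zero.mp h1).symm
  · left
    rw [mul_comm] at h0
    exact h.mul_right_eq_zero.mp h0

variable {B : Type*} [CommRing B] [IsLocalRing B] (π : B)
  (hreg : ∀ b : B, π * b = 0 → b = 0) (hred : IsReduced (B ⧸ Ideal.span {π}))
  (L : Type*) [CommRing L] [Algebra B L] [IsLocalization.Away π L]

omit [IsLocalRing B] in
include hreg in
lemma algebraMap_injective_away : Function.Injective (algebraMap B L) := by
  apply IsLocalization.injective L (M := Submonoid.powers π)
  intro c hc
  obtain ⟨n, rfl⟩ := hc
  rw [mem_nonZeroDivisors_iff_right]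
  intro b hb
  change b * π ^ n = 0 at hb
  induction n generalizing b with
  | zero => simpa using hb
  | succ n ih =>
    rw [pow_succ, ← mul_assoc] at hb
    rw [mul_comm] at hb
    exact ih _ (hreg _ hb)

include hreg hred in
lemma mem_range_of_isIdempotentElem (e : L) (he : IsIdempotentElem e) :
    ∀ (n : ℕ) (c : B), e * algebraMap B L π ^ n = algebraMap B L c → ∃ c' : B, e = algebraMap B L c' := by
  have hinj := algebraMap_injective_away π hreg L
  have hrad : (Ideal.span {π}).IsRadical := (Ideal.isRadical_iff_quotient_reduced _).mpr hred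
  have hunit : IsUnit (algebraMap B L π) := IsLocalization.Away.algebraMap_isUnit π
  intro n
  induction n with
  | zero => intro c hc; exact ⟨c, by simpa using hc⟩
  | succ n ih =>
    intro c hc
    have hee : e * e = e := he
    have h1 : algebraMap B L (c * c) = algebraMap B L (c * π ^ (n + 1)) := by
      rw [map_mul, map_mul, map_pow, ← hc]
      calc e * algebraMap B L π ^ (n + 1) * (e * algebraMap B L π ^ (n + 1))
          = (e * e) * algebraMap B L π ^ (n + 1) * algebraMap B L π ^ (n + 1) := by ring
        _ = e * algebraMap B L π ^ (n + 1) * algebraMap B L π ^ (n + 1) := by rw [hee]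
    have h2 : c * c = c * π ^ (n + 1) := hinj h1
    have h3 : c ^ 2 ∈ Ideal.span {π} := by
      rw [pow_two, h2, pow_succ, ← mul_assoc]
      exact Ideal.mul_mem_left _ _ (Ideal.mem_span_singleton_self π)
    have h4 : c ∈ Ideal.span {π} := hrad ⟨2, h3⟩
    obtain ⟨c', rfl⟩ := Ideal.mem_span_singleton'.mp h4
    apply ih c'
    have h5 : e * algebraMap B L π ^ n * algebraMap B L π = algebraMap B L c' * algebraMap B L π := by
      rw [← map_mul, ← hc]; ring
    exact hunit.mul_left_injective h5

include hreg hred in
lemma eq_zero_or_one_of_isIdempotentElem_away (e : L) (he : IsIdempotentElem e) :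
    e = 0 ∨ e = 1 := by
  have hinj := algebraMap_injective_away π hreg L
  obtain ⟨n, c, hc⟩ := IsLocalization.Away.surj π e
  obtain ⟨c', rfl⟩ := mem_range_of_isIdempotentElem π hreg hred L e he n c hc
  have hc' : IsIdempotentElem c' := by
    apply hinj
    rw [map_mul]
    exact he
  rcases eq_zero_or_one_of_isIdempotentElem c' hc' with h | h
  · left; rw [h, map_zero]
  · right; rw [h, map_one]

include hreg hred in
theorem preconnectedSpace_away : PreconnectedSpace (PrimeSpectrum L) := by
  rw [preconnectedSpace_iff_clopen]
  intro s hs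
  obtain ⟨e, he, rfl⟩ := PrimeSpectrum.isClopen_iff.mp hs
  rcases eq_zero_or_one_of_isIdempotentElem_away π hreg hred L e he with h | h
  · left; rw [h]; simp
  · right; rw [h]; simp

end Groth.Agent.Lib.Helper6.OpenConn
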