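import Mathlib
import Groth.Prelude.Def_PP16
import Groth.Prelude.Def_DiffOp

/-!
Helper6: the universal property of `P^n(M) = P^n_{B/A} ⊗_B M`: differential operators of order at
most `n` from `M` to `N` are the maps factoring uniquely through `d^n_M` by a `B`-linear map.
-/

set_option autoImplicit false

namespace Groth.Agent.Lib.Helper6.PPDiffOp

universe u

open TensorProduct PP16

variable (n : ℕ) {A : Type u} (B : Type u) [CommRing A] [CommRing B] [Algebra A B]
  {M N : Type u} [AddCommGroup M] [Module A M] [Module B M] [IsScalarTower A B M]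
  [AddCommGroup N] [Module A N] [Module B N] [IsScalarTower A B N]

/-- `b ⊗ c ↦ (m ↦ b • D (c • m))`. -/
noncomputable def Lam (D : M →ₗ[A] N) : B ⊗[A] B →ₗ[A] (M →ₗ[A] N) :=
  TensorProduct.lift (LinearMap.mk₂ A
    (fun b c => ((LinearMap.lsmul B N b).restrictScalars A) ∘ₗ D ∘ₗ
      ((LinearMap.lsmul B M c).restrictScalars A))
    (fun b₁ b₂ c => LinearMap.ext fun m => by
      show (b₁ + b₂) • D (c • m) = b₁ • D (c • m) + b₂ • D (c • m)
      rw [add_smul])
    (fun a b c => LinearMap.ext fun m => by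
      show (a • b) • D (c • m) = a • (b • D (c • m))
      rw [smul_assoc])
    (fun b c₁ c₂ => LinearMap.ext fun m => by
      show b • D ((c₁ + c₂) • m) = b • D (c₁ • m) + b • D (c₂ • m)
      rw [add_smul, map_add, smul_add])
    (fun a b c => LinearMap.ext fun m => by
      show b • D ((a • c) • m) = a • (b • D (c • m))
      rw [smul_assoc, map_smul, smul_comm]))

lemma Lam_tmul (D : M →ₗ[A] N) (b c : B) (m : M) : Lam B D (b ⊗ₜ c) m = b • D (c • m) := rfl

lemma Lam_mul_delta (D : M →ₗ[A] N) (c : B) (t : B ⊗[A] B) :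
    Lam B D (t * ((1 : B) ⊗ₜ[A] c - c ⊗ₜ[A] (1 : B))) =
      Lam B (Diff16.commutator A B M N D c) t := by
  induction t using TensorProduct.induction_on with
  | zero => rw [zero_mul, map_zero, map_zero]
  | tmul x y =>
    ext m
    rw [mul_sub, Algebra.TensorProduct.tmul_mul_tmul, Algebra.TensorProduct.tmul_mul_tmul,
      mul_one, mul_one, map_sub, LinearMap.sub_apply, Lam_tmul, Lam_tmul, Lam_tmul]
    show x • D ((y * c) • m) - (x * c) • D (y • m) = x • (D (c • (y • m)) - c • D (y • m))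
    rw [smul_sub, mul_comm y c, mul_smul, mul_smul]
  | add t₁ t₂ h₁ h₂ => rw [add_mul, map_add, h₁, h₂, map_add]

lemma Lam_of_linear (D : M →ₗ[A] N) (hD : ∀ (b : B) (m : M), D (b • m) = b • D m)
    (t : B ⊗[A] B) (m : M) :
    Lam B D t m = (Algebra.TensorProduct.lmul' A t) • D m := by
  induction t using TensorProduct.induction_on with
  | zero => simp
  | tmul x y => rw [Lam_tmul, hD, Algebra.TensorProduct.lmul'_apply_tmul, mul_smul]
  | add t₁ t₂ h₁ h₂ => rw [map_add, LinearMap.add_apply, h₁, h₂, map_add, add_smul]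

lemma Lam_right_mul (D : M →ₗ[A] N) (b : B) (t : B ⊗[A] B) (m : M) :
    Lam B D (((1 : B) ⊗ₜ[A] b) * t) m = Lam B D t (b • m) := by
  induction t using TensorProduct.induction_on with
  | zero => simp
  | tmul x y =>
    rw [Algebra.TensorProduct.tmul_mul_tmul, one_mul, Lam_tmul, Lam_tmul, mul_comm, mul_smul]
  | add t₁ t₂ h₁ h₂ => rw [mul_add, map_add, LinearMap.add_apply, h₁, h₂, map_add,
      LinearMap.add_apply]

lemma Lam_left_mul (D : M →ₗ[A] N) (b : B) (t : B ⊗[A] B) (m : M) :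
    Lam B D ((b ⊗ₜ[A] (1 : B)) * t) m = b • Lam B D t m := by
  induction t using TensorProduct.induction_on with
  | zero => simp
  | tmul x y =>
    rw [Algebra.TensorProduct.tmul_mul_tmul, one_mul, Lam_tmul, Lam_tmul, mul_smul]
  | add t₁ t₂ h₁ h₂ => rw [mul_add, map_add, LinearMap.add_apply, h₁, h₂, map_add,
      LinearMap.add_apply, smul_add]

theorem Lam_eq_zero_of_mem_pow : ∀ (j : ℕ) (D : M →ₗ[A] N), Diff16.IsDiffOpLE A B M N j D →
    ∀ t ∈ KaehlerDifferential.ideal A B ^ (j + 1), Lam B D t = 0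
  | 0, D, hD, t, ht => by
    rw [zero_add, pow_one] at ht
    ext m
    rw [Lam_of_linear B D hD, show Algebra.TensorProduct.lmul' A t = 0 from ht, zero_smul]
    rfl
  | j + 1, D, hD, t, ht => by
    rw [pow_succ] at ht
    refine Submodule.mul_induction_on ht (fun t₁ ht₁ i hi => ?_)
      (fun x y hx hy => by rw [map_add, hx, hy, add_zero])
    rw [← KaehlerDifferential.span_range_eq_ideal] at hi
    revert t₁
    refine Submodule.span_induction
      (p := fun i _ => ∀ t₁ ∈ KaehlerDifferential.ideal A B ^ (j + 1), Lam B D (t₁ * i) = 0)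
      ?_ ?_ ?_ ?_ hi
    · rintro _ ⟨c, rfl⟩ t₁ ht₁
      rw [Lam_mul_delta]
      exact Lam_eq_zero_of_mem_pow j _ (hD c) t₁ ht₁
    · intro t₁ _
      rw [mul_zero, map_zero]
    · intro x y _ _ hx hy t₁ ht₁
      rw [mul_add, map_add, hx t₁ ht₁, hy t₁ ht₁, add_zero]
    · intro s x _ hx t₁ ht₁
      rw [smul_eq_mul, ← mul_assoc]
      exact hx (t₁ * s) (Ideal.mul_mem_right _ _ ht₁)

section forward

variable (D : M →ₗ[A] N) (hD : Diff16.IsDiffOpLE A B M N n D)

/-- `Lam` descended to `P^n`. -/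
noncomputable def Lbar : P n A B →ₗ[A] (M →ₗ[A] N) :=
  (Submodule.liftQ ((KaehlerDifferential.ideal A B ^ (n + 1)).restrictScalars A) (Lam B D)
    (fun t ht => LinearMap.mem_ker.mpr (Lam_eq_zero_of_mem_pow B n D hD t ht))) ∘ₗ
    (Submodule.Quotient.restrictScalarsEquiv A
      (KaehlerDifferential.ideal A B ^ (n + 1))).symm.toLinearMap

lemma Lbar_mk (t : B ⊗[A] B) :
    Lbar n B D hD (Ideal.Quotient.mk (KaehlerDifferential.ideal A B ^ (n + 1)) t) = Lam B D t := by
  unfold Lbar
  rw [LinearMap.comp_apply, LinearEquiv.coe_coe]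
  have : (Ideal.Quotient.mk (KaehlerDifferential.ideal A B ^ (n + 1)) t) =
      Submodule.Quotient.mk t := rfl
  rw [this, Submodule.Quotient.restrictScalarsEquiv_symm_mk, Submodule.liftQ_apply]

end forward

/-- the identity, as a ring isomorphism from `P^n` to its synonym -/
noncomputable def toPr : P n A B ≃+* Pr n A B := RingEquiv.refl _

lemma smul_toPr (b : B) (q : Pr n A B) : b • q = toPr n B (dn n A B b) * q := by
  rw [Algebra.smul_def]; rfl

lemma P_smul_Pr (p : P n A B) (q : Pr n A B) : p • q = toPr n B p * q := rfl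

section forward

variable (D : M →ₗ[A] N) (hD : Diff16.IsDiffOpLE A B M N n D)

noncomputable def uOf : PM n A B M →+ N :=
  TensorProduct.liftAddHom
    ((LinearMap.toAddMonoidHom' : (M →ₗ[A] N) →+ (M →+ N)).comp
      (Lbar n B D hD).toAddMonoidHom : Pr n A B →+ M →+ N)
    (by
      intro b p m
      obtain ⟨p, rfl⟩ := (toPr n B).surjective p
      obtain ⟨t, rfl⟩ := Ideal.Quotient.mk_surjective
        (I := KaehlerDifferential.ideal A B ^ (n + 1)) p
      rw [smul_toPr, ← map_mul]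
      show Lbar n B D hD (Ideal.Quotient.mk _ ((1 : B) ⊗ₜ[A] b) * Ideal.Quotient.mk _ t) m =
        Lbar n B D hD (Ideal.Quotient.mk _ t) (b • m)
      rw [← map_mul, Lbar_mk, Lbar_mk, Lam_right_mul])

lemma uOf_tmul (t : B ⊗[A] B) (m : M) :
    uOf n B D hD (toPr n B (Ideal.Quotient.mk (KaehlerDifferential.ideal A B ^ (n + 1)) t)
      ⊗ₜ[B] m) = Lam B D t m := by
  show Lbar n B D hD (Ideal.Quotient.mk _ t) m = _
  rw [Lbar_mk]

end forward

/-- the class of `x ⊗ y` tensor `m` is `x • d^n_M (y • m)` -/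
lemma mk_tmul_eq (x y : B) (m : M) :
    (toPr n B (Ideal.Quotient.mk (KaehlerDifferential.ideal A B ^ (n + 1)) (x ⊗ₜ[A] y))
      ⊗ₜ[B] m) = algebraMap B (P n A B) x • dM n A B M (y • m) := by
  have hd : dM n A B M (y • m) = (1 : Pr n A B) ⊗ₜ[B] (y • m) := rfl
  rw [hd, ← TensorProduct.smul_tmul, TensorProduct.smul_tmul', P_smul_Pr, smul_toPr, mul_one,
    ← map_mul]
  congr 2
  show Ideal.Quotient.mk _ (x ⊗ₜ[A] y) =
    Ideal.Quotient.mk _ (x ⊗ₜ[A] (1 : B)) * Ideal.Quotient.mk _ ((1 : B) ⊗ₜ[A] y)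
  rw [← map_mul, Algebra.TensorProduct.tmul_mul_tmul, mul_one, one_mul]

theorem factor_ext (u u' : PM n A B M →+ N)
    (h1 : ∀ (b : B) (t : PM n A B M), u (algebraMap B (P n A B) b • t) = b • u t)
    (h1' : ∀ (b : B) (t : PM n A B M), u' (algebraMap B (P n A B) b • t) = b • u' t)
    (h2 : ∀ m : M, u (dM n A B M m) = u' (dM n A B M m)) : u = u' := by
  refine AddMonoidHom.ext fun τ => ?_
  induction τ using TensorProduct.induction_on with
  | zero => rw [map_zero, map_zero]
  | tmul p m =>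
    obtain ⟨p, rfl⟩ := (toPr n B).surjective p
    obtain ⟨t, rfl⟩ := Ideal.Quotient.mk_surjective
      (I := KaehlerDifferential.ideal A B ^ (n + 1)) p
    induction t using TensorProduct.induction_on with
    | zero => rw [map_zero, map_zero, zero_tmul, map_zero, map_zero]
    | tmul x y => rw [mk_tmul_eq, h1, h1', h2]
    | add t₁ t₂ h₁ h₂ => rw [map_add, map_add, add_tmul, map_add, map_add, h₁, h₂]
  | add τ₁ τ₂ h₁ h₂ => rw [map_add, map_add, h₁, h₂]

theorem existsUnique_of_isDiffOpLE (D : M →ₗ[A] N) (hD : Diff16.IsDiffOpLE A B M N n D) :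
    ∃! u : PM n A B M →+ N,
      (∀ (b : B) (t : PM n A B M), u (algebraMap B (P n A B) b • t) = b • u t) ∧
        ∀ m : M, u (dM n A B M m) = D m := by
  have hlin : ∀ (b : B) (t : PM n A B M),
      uOf n B D hD (algebraMap B (P n A B) b • t) = b • uOf n B D hD t := by
    intro b τ
    induction τ using TensorProduct.induction_on with
    | zero => rw [smul_zero, map_zero, smul_zero]
    | tmul p m =>
      obtain ⟨p, rfl⟩ := (toPr n B).surjective p
      obtain ⟨t, rfl⟩ := Ideal.Quotient.mk_surjective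
        (I := KaehlerDifferential.ideal A B ^ (n + 1)) p
      have : algebraMap B (P n A B) b •
          (toPr n B (Ideal.Quotient.mk (KaehlerDifferential.ideal A B ^ (n + 1)) t) ⊗ₜ[B] m) =
          (toPr n B (Ideal.Quotient.mk (KaehlerDifferential.ideal A B ^ (n + 1))
            ((b ⊗ₜ[A] (1 : B)) * t)) ⊗ₜ[B] m) := by
        rw [TensorProduct.smul_tmul', P_smul_Pr, ← map_mul]
        congr 2
      rw [this, uOf_tmul, uOf_tmul, Lam_left_mul]
    | add τ₁ τ₂ h₁ h₂ => rw [smul_add, map_add, h₁, h₂, map_add, smul_add]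
  have hd : ∀ m : M, uOf n B D hD (dM n A B M m) = D m := by
    intro m
    have : dM n A B M m =
        (toPr n B (Ideal.Quotient.mk (KaehlerDifferential.ideal A B ^ (n + 1))
          ((1 : B) ⊗ₜ[A] (1 : B))) ⊗ₜ[B] m) := by
      rw [← Algebra.TensorProduct.one_def, map_one, map_one]
      rfl
    rw [this, uOf_tmul, Lam_tmul, one_smul, one_smul]
  refine ⟨uOf n B D hD, ⟨hlin, hd⟩, ?_⟩
  rintro u' ⟨h1', h2'⟩
  exact factor_ext n B u' _ h1' hlin (fun m => by rw [h2', hd])

section backward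

variable (u : PM n A B M →+ N)
  (h1 : ∀ (b : B) (t : PM n A B M), u (algebraMap B (P n A B) b • t) = b • u t)

/-- the operator `m ↦ u (p ⊗ m)` -/
noncomputable def Dp (p : P n A B) : M →ₗ[A] N where
  toFun m := u (toPr n B p ⊗ₜ[B] m)
  map_add' m m' := by rw [tmul_add, map_add]
  map_smul' a m := by
    rw [RingHom.id_apply, ← algebraMap_smul B a m, ← TensorProduct.smul_tmul,
      ← algebraMap_smul B a (u (toPr n B p ⊗ₜ[B] m)), ← h1, TensorProduct.smul_tmul']
    congr 2
    rw [smul_toPr, P_smul_Pr, AlgHom.commutes, ← IsScalarTower.algebraMap_apply A B (P n A B)]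

lemma Dp_apply (p : P n A B) (m : M) : Dp n B u h1 p m = u (toPr n B p ⊗ₜ[B] m) := rfl

lemma commutator_Dp (p : P n A B) (c : B) :
    Diff16.commutator A B M N (Dp n B u h1 p) c =
      Dp n B u h1 (p * (dn n A B c - algebraMap B (P n A B) c)) := by
  ext m
  show u (toPr n B p ⊗ₜ[B] (c • m)) - c • u (toPr n B p ⊗ₜ[B] m) =
    u (toPr n B (p * (dn n A B c - algebraMap B (P n A B) c)) ⊗ₜ[B] m)
  have e1 : toPr n B p ⊗ₜ[B] (c • m) = toPr n B (dn n A B c * p) ⊗ₜ[B] m := by
    rw [← TensorProduct.smul_tmul, smul_toPr, ← map_mul]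
  have e2 : c • u (toPr n B p ⊗ₜ[B] m) =
      u (toPr n B (algebraMap B (P n A B) c * p) ⊗ₜ[B] m) := by
    rw [← h1, TensorProduct.smul_tmul', P_smul_Pr, ← map_mul]
  have e3 : dn n A B c * p - algebraMap B (P n A B) c * p =
      p * (dn n A B c - algebraMap B (P n A B) c) := by ring
  rw [e1, e2, ← map_sub, ← sub_tmul, ← map_sub, e3]

lemma delta_mem_augIdeal (c : B) :
    dn n A B c - algebraMap B (P n A B) c ∈ augIdeal n A B := by
  have : dn n A B c - algebraMap B (P n A B) c =
      Ideal.Quotient.mk _ ((1 : B) ⊗ₜ[A] c - c ⊗ₜ[A] (1 : B)) := by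
    rw [map_sub]; rfl
  rw [this]
  exact Ideal.mem_map_of_mem _ (KaehlerDifferential.one_smul_sub_smul_one_mem_ideal A c)

theorem isDiffOpLE_Dp : ∀ (j : ℕ) (p : P n A B),
    (∀ q ∈ augIdeal n A B ^ (j + 1), p * q = 0) →
      Diff16.IsDiffOpLE A B M N j (Dp n B u h1 p)
  | 0, p, hp => by
    intro b m
    have hc := commutator_Dp n B u h1 p b
    rw [hp _ ((pow_one (augIdeal n A B)).symm ▸ delta_mem_augIdeal n B b)] at hc
    have h0 := LinearMap.congr_fun hc m
    have h3 : Dp n B u h1 0 m = 0 := by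
      rw [Dp_apply, map_zero, zero_tmul, map_zero]
    rw [h3] at h0
    exact sub_eq_zero.mp h0
  | j + 1, p, hp => by
    intro b
    rw [commutator_Dp]
    apply isDiffOpLE_Dp j
    intro q hq
    rw [mul_assoc]
    apply hp
    rw [pow_succ' (augIdeal n A B) (j + 1)]
    exact Ideal.mul_mem_mul (delta_mem_augIdeal n B b) hq

include h1 in
theorem isDiffOpLE_of_factor (D : M →ₗ[A] N) (h2 : ∀ m : M, u (dM n A B M m) = D m) :
    Diff16.IsDiffOpLE A B M N n D := by
  have hD : D = Dp n B u h1 1 := by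
    ext m
    rw [← h2, Dp_apply, map_one]
    rfl
  rw [hD]
  apply isDiffOpLE_Dp
  intro q hq
  have : augIdeal n A B ^ (n + 1) = ⊥ := by
    unfold augIdeal
    rw [← Ideal.map_pow, Ideal.map_quotient_self]
  rw [this] at hq
  rw [(Ideal.mem_bot.mp hq), mul_zero]

end backward

end Groth.Agent.Lib.Helper6.PPDiffOp
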