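import Mathlib

/-! Continuous algebra maps out of a power series ring in finitely many variables. -/

namespace Groth.Agent.Lib.Helper6.PowerSeriesAdic

open MvPowerSeries

variable {A : Type*} [CommRing A] {n : ℕ}

theorem mem_span_X_pow_aux (N : ℕ) : ∀ (k : ℕ), k ≤ n → ∀ (f : MvPowerSeries (Fin n) A),
    (∀ d : Fin n →₀ ℕ, (∀ i : Fin n, i.val < k → d i < N) → coeff d f = 0) →
    f ∈ Ideal.span (Set.range fun i : Fin n => (X i : MvPowerSeries (Fin n) A) ^ N) := by
  intro k
  induction k with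
  | zero =>
    intro _ f hf
    have : f = 0 := by
      ext d
      rw [hf d (fun i hi => absurd hi (Nat.not_lt_zero _))]; simp
    rw [this]; exact Submodule.zero_mem _
  | succ k ih =>
    intro hk f hf
    classical
    let j : Fin n := ⟨k, hk⟩
    let f' : MvPowerSeries (Fin n) A := fun d => if d j < N then 0 else coeff d f
    let f'' : MvPowerSeries (Fin n) A := fun d => if d j < N then coeff d f else 0
    have hsum : f = f' + f'' := by
      ext d
      rw [map_add]
      show coeff d f = (if d j < N then 0 else coeff d f) + (if d j < N then coeff d f else 0)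
      split_ifs <;> simp
    rw [hsum]
    apply Submodule.add_mem
    · have hdvd : (X j : MvPowerSeries (Fin n) A) ^ N ∣ f' := by
        rw [X_pow_dvd_iff]
        intro m hm
        show (if m j < N then 0 else coeff m f) = 0
        rw [if_pos hm]
      obtain ⟨g, hg⟩ := hdvd
      rw [hg]
      exact Ideal.mul_mem_right _ _ (Ideal.subset_span ⟨j, rfl⟩)
    · apply ih (Nat.le_of_succ_le hk)
      intro d hd
      show (if d j < N then coeff d f else 0) = 0
      split_ifs with h
      · apply hf d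
        intro i hi
        rcases Nat.lt_succ_iff_lt_or_eq.mp hi with h1 | h1
        · exact hd i h1
        · have : i = j := Fin.ext h1
          rw [this]; exact h
      · rfl

theorem mem_ker_pow_of_coeff_eq_zero (N : ℕ) (f : MvPowerSeries (Fin n) A)
    (hf : ∀ d : Fin n →₀ ℕ, (∀ i, d i < N) → coeff d f = 0) :
    f ∈ (RingHom.ker (constantCoeff : MvPowerSeries (Fin n) A →+* A)) ^ N := by
  have h1 := mem_span_X_pow_aux N n le_rfl f (fun d hd => hf d (fun i => hd i i.isLt))
  refine (Ideal.span_le.mpr ?_) h1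
  rintro _ ⟨i, rfl⟩
  exact Ideal.pow_mem_pow (by simp [RingHom.mem_ker]) N

theorem ker_constantCoeff_le_span_X :
    RingHom.ker (constantCoeff : MvPowerSeries (Fin n) A →+* A) ≤
      Ideal.span (Set.range fun i : Fin n => (X i : MvPowerSeries (Fin n) A)) := by
  intro f hf
  have h1 := mem_span_X_pow_aux (A := A) 1 n le_rfl f (fun d hd => by
    have hd0 : d = 0 := by
      ext i
      have := hd i i.isLt
      simp only [Finsupp.coe_zero, Pi.zero_apply]
      omega
    rw [hd0]
    exact hf)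
  simpa using h1

variable {E : Type*} [CommRing E] [Algebra A E]

theorem exists_algHom_of_isNilpotent (z : Fin n → E) (hz : ∀ i, IsNilpotent (z i)) :
    ∃ g : MvPowerSeries (Fin n) A →ₐ[A] E, ∀ i, g (X i) = z i := by
  let _ : UniformSpace A := ⊥
  have : DiscreteUniformity A := ⟨rfl⟩
  let _ : UniformSpace E := ⊥
  have : DiscreteUniformity E := ⟨rfl⟩
  have : ContinuousSMul A E := ⟨continuous_of_discreteTopology⟩
  have ha : MvPowerSeries.HasEval z := by
    refine ⟨fun i => ?_, ?_⟩
    · obtain ⟨N, hN⟩ := hz i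
      unfold IsTopologicallyNilpotent
      apply tendsto_atTop_of_eventually_const (i₀ := N)
      intro k hk
      obtain ⟨j, rfl⟩ := Nat.exists_eq_add_of_le hk
      rw [pow_add, hN, zero_mul]
    · rw [Filter.cofinite_eq_bot]; exact Filter.tendsto_bot
  refine ⟨MvPowerSeries.aeval ha, fun i => ?_⟩
  have := MvPowerSeries.aeval_coe ha (MvPolynomial.X i : MvPolynomial (Fin n) A)
  simpa using this

/-- An algebra map sending the variables to nilpotents kills a power of `𝔞B + (T)`
if a power of `𝔞` dies in `E`. -/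
theorem kills_pow_of_isNilpotent (𝔞 : Ideal A) (hE : ∃ k : ℕ, (𝔞 ^ k).map (algebraMap A E) = ⊥)
    (g : MvPowerSeries (Fin n) A →ₐ[A] E) (hg : ∀ i, IsNilpotent (g (X i))) :
    ∃ m : ℕ, ∀ x ∈ (𝔞.map (MvPowerSeries.C : A →+* MvPowerSeries (Fin n) A) ⊔
        RingHom.ker (MvPowerSeries.constantCoeff : MvPowerSeries (Fin n) A →+* A)) ^ m,
      g x = 0 := by
  obtain ⟨k, hk⟩ := hE
  set Q : Ideal E := Ideal.span (Set.range fun i : Fin n => g (X i)) with hQ
  have hQfg : Q.FG := Submodule.fg_span (Set.finite_range _)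
  have hQnil : Q ≤ (⊥ : Ideal E).radical := by
    rw [hQ, Ideal.span_le]
    rintro _ ⟨i, rfl⟩
    obtain ⟨N, hN⟩ := hg i
    exact ⟨N, by rw [hN]; exact Submodule.zero_mem _⟩
  obtain ⟨M, hM⟩ := Ideal.exists_pow_le_of_le_radical_of_fg hQnil hQfg
  have h1 : (𝔞.map (MvPowerSeries.C : A →+* MvPowerSeries (Fin n) A) ⊔
      RingHom.ker (MvPowerSeries.constantCoeff : MvPowerSeries (Fin n) A →+* A)).map g ≤
      𝔞.map (algebraMap A E) ⊔ Q := by
    rw [Ideal.map_sup]
    apply sup_le_sup
    · rw [Ideal.map_le_iff_le_comap, Ideal.map_le_iff_le_comap]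
      intro a ha
      rw [Ideal.mem_comap, Ideal.mem_comap]
      have : g (C a) = algebraMap A E a := g.commutes a
      rw [this]; exact Ideal.mem_map_of_mem _ ha
    · refine (Ideal.map_mono ker_constantCoeff_le_span_X).trans ?_
      rw [Ideal.map_span, hQ]
      apply Ideal.span_mono
      rintro _ ⟨_, ⟨i, rfl⟩, rfl⟩
      exact ⟨i, rfl⟩
  refine ⟨k + M, fun x hx => ?_⟩
  have h2 : ((𝔞.map (MvPowerSeries.C : A →+* MvPowerSeries (Fin n) A) ⊔
      RingHom.ker (MvPowerSeries.constantCoeff : MvPowerSeries (Fin n) A →+* A)) ^ (k + M)).map g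
      ≤ ⊥ := by
    rw [Ideal.map_pow]
    refine (Ideal.pow_right_mono h1 _).trans ?_
    refine Ideal.sup_pow_add_le_pow_sup_pow.trans ?_
    rw [← Ideal.map_pow, hk]
    exact sup_le bot_le hM
  have := h2 (Ideal.mem_map_of_mem g hx)
  simpa using this

/-- Two algebra maps killing a power of `(T)`-containing ideal and agreeing on the variables
agree. -/
theorem algHom_ext_of_kills (I : Ideal (MvPowerSeries (Fin n) A))
    (hI : RingHom.ker (MvPowerSeries.constantCoeff : MvPowerSeries (Fin n) A →+* A) ≤ I)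
    (g₁ g₂ : MvPowerSeries (Fin n) A →ₐ[A] E)
    (h₁ : ∃ m : ℕ, ∀ x ∈ I ^ m, g₁ x = 0) (h₂ : ∃ m : ℕ, ∀ x ∈ I ^ m, g₂ x = 0)
    (h : ∀ i, g₁ (X i) = g₂ (X i)) : g₁ = g₂ := by
  obtain ⟨m₁, hm₁⟩ := h₁
  obtain ⟨m₂, hm₂⟩ := h₂
  have hpoly : g₁.comp (MvPolynomial.coeToMvPowerSeries.algHom A) =
      g₂.comp (MvPolynomial.coeToMvPowerSeries.algHom A) := by
    apply MvPolynomial.algHom_ext
    intro i
    simpa using h i
  ext f
  set N := max m₁ m₂ with hN
  let d₀ : Fin n →₀ ℕ := Finsupp.equivFunOnFinite.symm (fun _ => N)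
  let p : MvPolynomial (Fin n) A := trunc' A d₀ f
  have hr : f - (p : MvPowerSeries (Fin n) A) ∈
      (RingHom.ker (constantCoeff : MvPowerSeries (Fin n) A →+* A)) ^ N := by
    apply mem_ker_pow_of_coeff_eq_zero
    intro d hd
    rw [map_sub, MvPolynomial.coeff_coe, coeff_trunc', if_pos, sub_self]
    intro i
    exact (hd i).le
  have hrI : f - (p : MvPowerSeries (Fin n) A) ∈ I ^ N := Ideal.pow_right_mono hI N hr
  have e₁ : g₁ (f - (p : MvPowerSeries (Fin n) A)) = 0 :=
    hm₁ _ (Ideal.pow_le_pow_right (le_max_left _ _) hrI)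
  have e₂ : g₂ (f - (p : MvPowerSeries (Fin n) A)) = 0 :=
    hm₂ _ (Ideal.pow_le_pow_right (le_max_right _ _) hrI)
  have e₃ : g₁ (p : MvPowerSeries (Fin n) A) = g₂ (p : MvPowerSeries (Fin n) A) :=
    AlgHom.congr_fun hpoly p
  rw [map_sub, sub_eq_zero] at e₁ e₂
  rw [e₁, e₂, e₃]

end Groth.Agent.Lib.Helper6.PowerSeriesAdic
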