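import Groth.Prelude.Def_FSch3
import Groth.Agent.Lib.Helper6.IdealComap

/-!
# The ideal sheaf of an ideal on `Spec`
-/

universe u

open CategoryTheory CategoryTheory.Limits AlgebraicGeometry

namespace Groth.Agent.Lib.Helper6.IdealSpec

open AlgebraicGeometry.Scheme AlgebraicGeometry.Scheme.IdealSheafData
open Groth.Agent.Lib.Helper6.IdealComap

theorem idealSpec_ideal (R : Type u) [CommRing R] (𝔞 : Ideal R) :
    (FSch.idealSpec R 𝔞).ideal ⟨⊤, isAffineOpen_top _⟩ =
      𝔞.comap (Scheme.ΓSpecIso (CommRingCat.of R)).hom.hom := by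
  unfold FSch.idealSpec
  rw [Scheme.Hom.ker_apply]
  ext x
  rw [RingHom.mem_ker, Ideal.mem_comap]
  have nat := Scheme.ΓSpecIso_naturality (CommRingCat.ofHom (Ideal.Quotient.mk 𝔞))
  have h1 : (Scheme.ΓSpecIso (CommRingCat.of (R ⧸ 𝔞))).hom.hom
      (((Spec.map (CommRingCat.ofHom (Ideal.Quotient.mk 𝔞))).appTop).hom x) =
      Ideal.Quotient.mk 𝔞 ((Scheme.ΓSpecIso (CommRingCat.of R)).hom.hom x) :=
    congrArg (fun φ => φ.hom x) nat
  have inj : Function.Injective (Scheme.ΓSpecIso (CommRingCat.of (R ⧸ 𝔞))).hom.hom :=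
    (ConcreteCategory.bijective_of_isIso (Scheme.ΓSpecIso (CommRingCat.of (R ⧸ 𝔞))).hom).1
  rw [← Ideal.Quotient.eq_zero_iff_mem, ← h1, map_eq_zero_iff _ inj]
  rfl

theorem comap_idealSpec (A B : Type u) [CommRing A] [CommRing B] (φ : B →+* A) (𝔟 : Ideal B) :
    (FSch.idealSpec B 𝔟).comap (Spec.map (CommRingCat.ofHom φ)) =
      FSch.idealSpec A (𝔟.map φ) := by
  apply IdealSheafData.ext_of_isAffine
  rw [ideal_comap_of_isAffine, idealSpec_ideal, idealSpec_ideal]
  have hA : Function.Bijective (Scheme.ΓSpecIso (CommRingCat.of A)).hom.hom :=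
    ConcreteCategory.bijective_of_isIso (Scheme.ΓSpecIso (CommRingCat.of A)).hom
  have hB : Function.Bijective (Scheme.ΓSpecIso (CommRingCat.of B)).hom.hom :=
    ConcreteCategory.bijective_of_isIso (Scheme.ΓSpecIso (CommRingCat.of B)).hom
  have nat : (Scheme.ΓSpecIso (CommRingCat.of A)).hom.hom.comp
      (Spec.map (CommRingCat.ofHom φ)).appTop.hom =
      φ.comp (Scheme.ΓSpecIso (CommRingCat.of B)).hom.hom :=
    congrArg CommRingCat.Hom.hom (Scheme.ΓSpecIso_naturality (CommRingCat.ofHom φ))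
  rw [← Ideal.comap_map_of_bijective _ hA
    (I := ((𝔟.comap (Scheme.ΓSpecIso (CommRingCat.of B)).hom.hom).map
      (Spec.map (CommRingCat.ofHom φ)).appTop.hom)), Ideal.map_map, nat, ← Ideal.map_map,
    Ideal.map_comap_of_surjective _ hB.2]

end Groth.Agent.Lib.Helper6.IdealSpec
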