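import Groth.Prelude.Def_FSch3
import Groth.Agent.Lib.Helper6.IdealSpec

/-!
# Systems of closed subschemes cut out by the powers of an ideal sheaf are formal and adic
-/

universe u

open CategoryTheory CategoryTheory.Limits AlgebraicGeometry

namespace Groth.Agent.Lib.Helper6.SysAdic

open AlgebraicGeometry.Scheme AlgebraicGeometry.Scheme.IdealSheafData
open Groth.Agent.Lib.Helper6.IdealComap Groth.Agent.Lib.Helper6.IdealSpec

theorem ker_eq_comap_of_comp_eq {W Z X : Scheme.{u}} (a : W ⟶ Z) (i : Z ⟶ X) (b : W ⟶ X)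
    (h : a ≫ i = b) [IsClosedImmersion i] [IsClosedImmersion b] :
    a.ker = b.ker.comap i := by
  subst h
  rw [← ker_fst_of_isClosedImmersion (a ≫ i) i]
  have sq : IsPullback a (𝟙 W) i (a ≫ i) := by
    have := (IsPullback.id_vert a).paste_horiz (IsKernelPair.id_of_mono i)
    simpa using this
  conv_lhs => rw [← sq.isoPullback_hom_fst]
  exact Scheme.Hom.ker_comp_of_isIso _ _

theorem surjective_of_support_le {W Z X : Scheme.{u}} (a : W ⟶ Z) (i : Z ⟶ X) (b : W ⟶ X)
    (h : a ≫ i = b) [IsClosedImmersion i] [IsClosedImmersion b]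
    (hs : (i.ker.support : Set X) ⊆ b.ker.support) : Function.Surjective a.base := by
  subst h
  intro z
  have h1 : i.base z ∈ ((a ≫ i).ker.support : Set X) :=
    hs (Scheme.Hom.range_subset_ker_support i ⟨z, rfl⟩)
  rw [Scheme.Hom.support_ker, (a ≫ i).isClosedEmbedding.isClosed_range.closure_eq] at h1
  obtain ⟨w, hw⟩ := h1
  refine ⟨w, i.isClosedEmbedding.injective ?_⟩
  simpa using hw

theorem ideal_comap_pow_of_bijective {R S : Type*} [CommRing R] [CommRing S] (φ : R →+* S)
    (hφ : Function.Bijective φ) (I : Ideal S) (k : ℕ) :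
    (I ^ k).comap φ = I.comap φ ^ k := by
  induction k with
  | zero => rw [pow_zero, pow_zero, Ideal.one_eq_top, Ideal.comap_top, Ideal.one_eq_top]
  | succ k ih => rw [pow_succ, pow_succ, ideal_comap_mul_of_bijective φ hφ, ih]

theorem idealSpec_pow (R : Type u) [CommRing R] (𝔞 : Ideal R) (k : ℕ) :
    FSch.idealSpec R (𝔞 ^ k) = FSch.idealSpec R 𝔞 ^ k := by
  apply IdealSheafData.ext_of_isAffine
  rw [ideal_pow, Pi.pow_apply, idealSpec_ideal, idealSpec_ideal,
    ideal_comap_pow_of_bijective _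
      (ConcreteCategory.bijective_of_isIso (Scheme.ΓSpecIso (CommRingCat.of R)).hom)]

/-- A system of closed subschemes of `X` cut out by the successive powers of an ideal sheaf
is formal and adic. -/
theorem isFormal_isAdic_of_powers (𝔛 : FSch.Sys.{u}) {X : Scheme.{u}} (𝓘 : X.IdealSheafData)
    (p : ∀ n, 𝔛.X n ⟶ X) [hp : ∀ n, IsClosedImmersion (p n)]
    (hι : ∀ n, 𝔛.ι n ≫ p (n + 1) = p n) (hker : ∀ n, (p n).ker = 𝓘 ^ (n + 1)) :
    𝔛.IsFormal ∧ 𝔛.IsAdic := by
  have htoX : ∀ n, 𝔛.toX n ≫ p n = p 0 := by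
    intro n
    induction n with
    | zero => exact Category.id_comp _
    | succ n ih =>
      change (𝔛.toX n ≫ 𝔛.ι n) ≫ p (n + 1) = p 0
      rw [Category.assoc, hι, ih]
  constructor
  · intro n
    constructor
    · have : IsClosedImmersion (𝔛.ι n ≫ p (n + 1)) := by rw [hι]; infer_instance
      exact IsClosedImmersion.of_comp_isClosedImmersion (𝔛.ι n) (p (n + 1))
    · apply surjective_of_support_le (𝔛.ι n) (p (n + 1)) (p n) (hι n)
      rw [hker, hker, support_pow_succ, support_pow_succ]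
  · intro n
    rw [ker_eq_comap_of_comp_eq (𝔛.ι n) (p (n + 1)) (p n) (hι n),
      ker_eq_comap_of_comp_eq (𝔛.toX (n + 1)) (p (n + 1)) (p 0) (htoX (n + 1)), hker, hker,
      comap_pow, comap_pow, ← pow_mul]
    simp

end Groth.Agent.Lib.Helper6.SysAdic
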