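import Mathlib
import Groth.Prelude.Def_AlgSp3
import Groth.Agent.Lib.Helper16.AffRep
import Groth.Agent.Lib.Helper16.RepSpace
import Groth.Agent.Lib.Helper12.AffLim

/-!
# Helper library (helper6): cofiltered limits of algebraic spaces with affine transition maps

Let `(X_j)` be a cofiltered system of algebraic spaces with affine transition morphisms, indexed by a category with a
terminal object `t`, and let `X` be its limit in sheaves.  For a scheme `U₀` with a map `h_{U₀} ⟶ X_t`, the fibre
products `U_j = U₀ ×_{X_t} X_j` are schemes affine over `U₀`, they form a cofiltered system of schemes with affine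
transition maps, its limit `U` exists in schemes, and `h_U = h_{U₀} ×_{X_t} X` (`LimChart`, `nonempty_limChart`).
Consequences: the projections of the limit are representable and affine, and the limit is an algebraic space.
-/

set_option autoImplicit false
universe u
open CategoryTheory CategoryTheory.Limits AlgebraicGeometry
open AlgSp Groth.Agent.Lib.Helper16

namespace Groth.Agent.Lib.Helper6.LimSp

variable {S : Scheme.{u}}

/-- Limits commute with pullbacks, in the form needed here: a system of pullback squares over a diagram with a terminal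
object gives a pullback square of limits. -/
theorem isPullback_of_limit {J : Type*} [Category J] {C : Type*} [Category C] {t : J} (ht : IsTerminal t)
    {D' P : J ⥤ C} (α : P ⟶ D') {Z : C} (g : Z ⟶ D'.obj t) (q : ∀ j, P.obj j ⟶ Z)
    (hq : ∀ {j k : J} (m : j ⟶ k), P.map m ≫ q k = q j)
    (sq : ∀ j, IsPullback (α.app j) (q j) (D'.map (ht.from j)) g)
    {c' : Cone D'} (hc' : IsLimit c') {cP : Cone P} (hcP : IsLimit cP) :
    IsPullback (hc'.lift ⟨cP.pt, cP.π ≫ α⟩) (cP.π.app t ≫ q t) (c'.π.app t) g := by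
  have hπ : ∀ j, c'.π.app j ≫ D'.map (ht.from j) = c'.π.app t := fun j => c'.w (ht.from j)
  have hqt : ∀ j, cP.π.app j ≫ q j = cP.π.app t ≫ q t := fun j => by
    rw [← hq (ht.from j), ← Category.assoc, cP.w]
  have hfac : ∀ j, hc'.lift ⟨cP.pt, cP.π ≫ α⟩ ≫ c'.π.app j = cP.π.app j ≫ α.app j := fun j =>
    hc'.fac ⟨cP.pt, cP.π ≫ α⟩ j
  have hid : D'.map (ht.from t) = 𝟙 _ := by
    rw [ht.hom_ext (ht.from t) (𝟙 t), D'.map_id]
  have hw : hc'.lift ⟨cP.pt, cP.π ≫ α⟩ ≫ c'.π.app t = (cP.π.app t ≫ q t) ≫ g := by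
    rw [hfac, Category.assoc, ← (sq t).w, hid, Category.comp_id]
  have hcond : ∀ (s : PullbackCone (c'.π.app t) g) (j : J),
      (s.fst ≫ c'.π.app j) ≫ D'.map (ht.from j) = s.snd ≫ g := fun s j => by
    rw [Category.assoc, hπ j, s.condition]
  let u : ∀ (s : PullbackCone (c'.π.app t) g) (j : J), s.pt ⟶ P.obj j := fun s j =>
    (sq j).lift (s.fst ≫ c'.π.app j) s.snd (hcond s j)
  have hu1 : ∀ s j, u s j ≫ α.app j = s.fst ≫ c'.π.app j := fun s j => (sq j).lift_fst _ _ _
  have hu2 : ∀ s j, u s j ≫ q j = s.snd := fun s j => (sq j).lift_snd _ _ _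
  have hunat : ∀ s {j k : J} (m : j ⟶ k), u s j ≫ P.map m = u s k := fun s {j k} m => by
    apply (sq k).hom_ext
    · rw [Category.assoc, α.naturality m, ← Category.assoc, hu1, Category.assoc, c'.w m, hu1]
    · rw [Category.assoc, hq m, hu2, hu2]
  let coneP : ∀ _ : PullbackCone (c'.π.app t) g, Cone P := fun s =>
    { pt := s.pt
      π := { app := fun j => u s j
             naturality := fun j k m => by
               exact (Category.id_comp (u s k)).trans (hunat s m).symm } }
  refine IsPullback.of_isLimit (c := PullbackCone.mk _ _ hw)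
    (PullbackCone.IsLimit.mk hw (fun s => hcP.lift (coneP s)) (fun s => ?_) (fun s => ?_)
      (fun s m h1 h2 => ?_))
  · apply hc'.hom_ext
    intro j
    rw [Category.assoc, hfac, ← Category.assoc, hcP.fac]
    exact hu1 s j
  · rw [← Category.assoc, hcP.fac]
    exact hu2 s t
  · apply hcP.hom_ext
    intro j
    rw [hcP.fac]
    show m ≫ cP.π.app j = u s j
    apply (sq j).hom_ext
    · rw [Category.assoc, ← hfac, ← Category.assoc, h1, hu1]
    · rw [Category.assoc, hqt, h2, hu2]

/-- The chart of the limit attached to a chart `g` of the terminal stage: the system of base changes of `g` to all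
stages, as a diagram of schemes with affine transition maps, with its limit. -/
structure LimChart {J : Type u} [SmallCategory J] {t : J} (ht : IsTerminal t) (D : J ⥤ Sp S) (c : Cone D)
    {U₀ : Over S} (g : (yon S).obj U₀ ⟶ D.obj t) where
  /-- the diagram of base changes -/
  E : J ⥤ Over S
  /-- the projections to the chart -/
  p : ∀ j, E.obj j ⟶ U₀
  hp : ∀ {j k : J} (m : j ⟶ k), E.map m ≫ p k = p j
  /-- the maps to the stages -/
  α : E ⋙ yon S ⟶ D
  sq : ∀ j, IsPullback (α.app j) ((yon S).map (p j)) (D.map (ht.from j)) g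
  aff : ∀ {j k : J} (m : j ⟶ k), IsAffineHom (E.map m).left
  affp : ∀ j, IsAffineHom (p j).left
  /-- the limit cone -/
  cE : Cone E
  hcE : IsLimit cE
  hc₀ : IsLimit ((Over.forget S).mapCone cE)
  affπ : ∀ j, IsAffineHom (cE.π.app j).left
  /-- the map from the limit chart to the limit -/
  fst : (yon S).obj cE.pt ⟶ c.pt
  hfst : ∀ j, fst ≫ c.π.app j = (yon S).map (cE.π.app j) ≫ α.app j
  sqlim : IsPullback fst ((yon S).map (cE.π.app t ≫ p t)) (c.π.app t) g

theorem nonempty_limChart {J : Type u} [SmallCategory J] [IsCofiltered J] {t : J} (ht : IsTerminal t)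
    (D : J ⥤ Sp S) (hD : ∀ j, IsAlgSpace (D.obj j)) (hDa : ∀ (i j : J) (φ : i ⟶ j), IsAffineMor (D.map φ))
    (c : Cone D) (hc : IsLimit c) {U₀ : Over S} (g : (yon S).obj U₀ ⟶ D.obj t) :
    Nonempty (LimChart ht D c g) := by
  have hrep : ∀ j, RepWith @IsAffineHom (D.map (ht.from j)) := fun j =>
    repWith_isAffineHom_of_isAffineMor (hD j) (hD t) _ (hDa _ _ _)
  choose V p a sq using fun j => (hrep j).rep g
  have haffp : ∀ j, IsAffineHom (p j).left := fun j => (hrep j).property g (a j) (p j) (sq j)
  have hcomp : ∀ {j k : J} (m : j ⟶ k), (a j ≫ D.map m) ≫ D.map (ht.from k) = (yon S).map (p j) ≫ g :=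
    fun {j k} m => by
      rw [Category.assoc, ← D.map_comp, ht.hom_ext (m ≫ ht.from k) (ht.from j), (sq j).w]
  have hτ : ∀ {j k : J} (m : j ⟶ k), ∃ τ : V j ⟶ V k,
      (yon S).map τ ≫ a k = a j ≫ D.map m ∧ τ ≫ p k = p j := fun {j k} m => by
    obtain ⟨τ, hτ⟩ := (yon S).map_surjective ((sq k).lift (a j ≫ D.map m) ((yon S).map (p j)) (hcomp m))
    refine ⟨τ, by rw [hτ, (sq k).lift_fst], ?_⟩
    apply (yon S).map_injective
    rw [Functor.map_comp, hτ, (sq k).lift_snd]
  choose τ hτa hτp using @hτ
  have hτext : ∀ {j k : J} (m : j ⟶ k) (σ : V j ⟶ V k),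
      (yon S).map σ ≫ a k = a j ≫ D.map m → σ ≫ p k = p j → σ = τ m := fun {j k} m σ h1 h2 => by
    apply (yon S).map_injective
    apply (sq k).hom_ext
    · rw [h1, hτa]
    · rw [← Functor.map_comp, ← Functor.map_comp, h2, hτp]
  have hτid : ∀ j, τ (𝟙 j) = 𝟙 (V j) := fun j => by
    symm
    apply hτext
    · simp
    · rw [Category.id_comp]
  have hτcomp : ∀ {j k l : J} (m : j ⟶ k) (n : k ⟶ l), τ (m ≫ n) = τ m ≫ τ n := fun {j k l} m n => by
    symm
    apply hτext
    · rw [Functor.map_comp, Category.assoc, hτa, ← Category.assoc, hτa, Category.assoc, ← D.map_comp]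
    · rw [Category.assoc, hτp, hτp]
  let E : J ⥤ Over S :=
    { obj := V
      map := fun m => τ m
      map_id := hτid
      map_comp := fun m n => hτcomp m n }
  let α : E ⋙ yon S ⟶ D :=
    { app := fun j => a j
      naturality := fun j k m => hτa m }
  have haff : ∀ {j k : J} (m : j ⟶ k), IsAffineHom (τ m).left := fun {j k} m => by
    have h1 : (τ m).left ≫ (p k).left = (p j).left := congrArg CommaMorphism.left (hτp m)
    have := haffp k
    have h2 : IsAffineHom ((τ m).left ≫ (p k).left) := by rw [h1]; exact haffp j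
    exact IsAffineHom.of_comp (τ m).left (p k).left
  have : ∀ {i j : J} (f : i ⟶ j), IsAffineHom ((E ⋙ Over.forget S).map f) := fun f => haff f
  obtain ⟨c₀, hc₀, hc₀aff⟩ := Groth.Agent.Lib.Helper12.AffLim.exists_limit (E ⋙ Over.forget S)
  let π₀ : ∀ j, c₀.pt ⟶ (V j).left := fun j => c₀.π.app j
  have hπ₀ : ∀ {j k : J} (m : j ⟶ k), π₀ j ≫ (τ m).left = π₀ k := fun m => c₀.w m
  have hstr : ∀ j, π₀ j ≫ (V j).hom = π₀ t ≫ (V t).hom := fun j => by
    rw [← hπ₀ (ht.from j), Category.assoc, Over.w (τ (ht.from j))]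
  let cE : Cone E :=
    { pt := Over.mk (π₀ t ≫ (V t).hom)
      π := { app := fun j => Over.homMk (π₀ j) (hstr j)
             naturality := fun j k m => by
               apply Over.OverMorphism.ext
               exact (Category.id_comp (π₀ k)).trans (hπ₀ m).symm } }
  let hcE : IsLimit cE :=
    { lift := fun s => Over.homMk (hc₀.lift ((Over.forget S).mapCone s)) (by
        have h1 : hc₀.lift ((Over.forget S).mapCone s) ≫ π₀ t = (s.π.app t).left :=
          hc₀.fac ((Over.forget S).mapCone s) t
        show hc₀.lift ((Over.forget S).mapCone s) ≫ π₀ t ≫ (V t).hom = s.pt.hom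
        rw [← Category.assoc, h1]
        exact Over.w (s.π.app t))
      fac := fun s j => by
        apply Over.OverMorphism.ext
        exact hc₀.fac ((Over.forget S).mapCone s) j
      uniq := fun s m hm => by
        apply Over.OverMorphism.ext
        apply hc₀.hom_ext
        intro j
        exact (congrArg CommaMorphism.left (hm j)).trans (hc₀.fac ((Over.forget S).mapCone s) j).symm }
  have hq : ∀ {j k : J} (m : j ⟶ k), (E ⋙ yon S).map m ≫ (yon S).map (p k) = (yon S).map (p j) :=
    fun {j k} m => by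
      rw [Functor.comp_map, ← Functor.map_comp]
      exact congrArg (yon S).map (hτp m)
  have hlim := isPullback_of_limit ht α g (fun j => (yon S).map (p j)) hq sq hc
    (isLimitOfPreserves (yon S) hcE)
  refine ⟨{ E := E, p := p, hp := fun m => hτp m, α := α, sq := sq, aff := fun m => haff m, affp := haffp,
            cE := cE, hcE := hcE, hc₀ := hc₀, affπ := fun j => hc₀aff j,
            fst := hc.lift ⟨(yon S).obj cE.pt, ((yon S).mapCone cE).π ≫ α⟩,
            hfst := fun j => hc.fac _ j, sqlim := ?_ }⟩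
  rw [Functor.map_comp]
  exact hlim

/-- The projection from a cofiltered limit with affine transition maps to the terminal stage is representable. -/
theorem representable_π_terminal {J : Type u} [SmallCategory J] [IsCofiltered J] {t : J} (ht : IsTerminal t)
    (D : J ⥤ Sp S) (hD : ∀ j, IsAlgSpace (D.obj j)) (hDa : ∀ (i j : J) (φ : i ⟶ j), IsAffineMor (D.map φ))
    (c : Cone D) (hc : IsLimit c) : Representable (c.π.app t) := by
  intro U₀ g
  obtain ⟨L⟩ := nonempty_limChart ht D hD hDa c hc g
  exact ⟨L.cE.pt, L.cE.π.app t ≫ L.p t, L.fst, L.sqlim⟩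

/-- The projection from a cofiltered limit with affine transition maps to the terminal stage is affine. -/
theorem isAffineMor_π_terminal {J : Type u} [SmallCategory J] [IsCofiltered J] {t : J} (ht : IsTerminal t)
    (D : J ⥤ Sp S) (hD : ∀ j, IsAlgSpace (D.obj j)) (hDa : ∀ (i j : J) (φ : i ⟶ j), IsAffineMor (D.map φ))
    (c : Cone D) (hc : IsLimit c) : IsAffineMor (c.π.app t) := by
  intro Z hZ g
  obtain ⟨L⟩ := nonempty_limChart ht D hD hDa c hc g
  refine ⟨L.cE.pt, L.cE.π.app t ≫ L.p t, L.fst, L.sqlim, ?_⟩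
  have h1 := L.affπ t
  have h2 := L.affp t
  have : IsAffine Z.left := hZ
  have h3 : IsAffineHom ((L.cE.π.app t).left ≫ (L.p t).left) := inferInstance
  exact isAffine_of_isAffineHom ((L.cE.π.app t).left ≫ (L.p t).left)

/-- The data of the over category of an index: the restricted diagram, cone, and the fact that it is still a limit. -/
theorem isLimit_whisker_over {I : Type u} [SmallCategory I] [IsCofiltered I] (D : I ⥤ Sp S) (c : Cone D)
    (hc : IsLimit c) (i₀ : I) : Nonempty (IsLimit (c.whisker (Over.forget i₀))) :=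
  ⟨(Functor.Initial.isLimitWhiskerEquiv (Over.forget i₀) c).symm hc⟩

theorem main10004 (S : Scheme.{u}) {I : Type u} [SmallCategory I] [IsCofiltered I]
    (D : I ⥤ AlgSp.Sp S) (hD : ∀ i, AlgSp.IsAlgSpace (D.obj i))
    (hDa : ∀ (i j : I) (φ : i ⟶ j), AlgSp.IsAffineMor (D.map φ))
    (c : Cone D) (hc : IsLimit c) :
    AlgSp.IsAlgSpace c.pt ∧ ∀ i, AlgSp.IsAffineMor (c.π.app i) := by
  have key : ∀ i₀ : I, Representable (c.π.app i₀) ∧ IsAffineMor (c.π.app i₀) := fun i₀ => by
    obtain ⟨hc'⟩ := isLimit_whisker_over D c hc i₀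
    exact ⟨representable_π_terminal (Over.mkIdTerminal (X := i₀)) (Over.forget i₀ ⋙ D) (fun j => hD j.left)
        (fun i j φ => hDa _ _ φ.left) (c.whisker (Over.forget i₀)) hc',
      isAffineMor_π_terminal (Over.mkIdTerminal (X := i₀)) (Over.forget i₀ ⋙ D) (fun j => hD j.left)
        (fun i j φ => hDa _ _ φ.left) (c.whisker (Over.forget i₀)) hc'⟩
  obtain ⟨i₀⟩ := IsCofiltered.nonempty (C := I)
  exact ⟨isAlgSpace_of_representable (hD i₀) (c.π.app i₀) (key i₀).1, fun i => (key i).2⟩

end Groth.Agent.Lib.Helper6.LimSp
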