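import Mathlib
import Groth.Agent.Lib.Helper6.LimSp
import Groth.Agent.Lib.Helper16.FppfLocal2

/-!
# Helper library (helper6): morphisms of cofiltered systems of algebraic spaces and their limits

For a morphism `τ : (X_j) ⟶ (Y_j)` of systems (indexed by a category with terminal object) with every `τ_j` representable
and affine, with limits `X`, `Y` and the induced `g : X ⟶ Y`, and a scheme `Z` with a map `z : h_Z ⟶ Y`, the fibre products
`W_j = Z ×_{Y_j} X_j` form a system of schemes with affine transition maps whose limit `W` satisfies `h_W = h_Z ×_Y X`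
(`LimChart₂`, `nonempty_limChart₂`).  Application: a limit of closed immersions is a closed immersion.
-/

set_option autoImplicit false
universe u
open CategoryTheory CategoryTheory.Limits AlgebraicGeometry
open AlgSp Groth.Agent.Lib.Helper16

namespace Groth.Agent.Lib.Helper6.LimSp

variable {S : Scheme.{u}}

/-- Limits commute with pullbacks, second form: a system of pullback squares along a natural transformation gives a
pullback square of limits. -/
theorem isPullback_of_limit₂ {J : Type*} [Category J] {C : Type*} [Category C] {t : J} (ht : IsTerminal t)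
    {D₁ D₂ P : J ⥤ C} (τ : D₁ ⟶ D₂) (α : P ⟶ D₁) {Z : C}
    {c₁ : Cone D₁} (hc₁ : IsLimit c₁) {c₂ : Cone D₂} (hc₂ : IsLimit c₂) (g : c₁.pt ⟶ c₂.pt)
    (hg : ∀ j, g ≫ c₂.π.app j = c₁.π.app j ≫ τ.app j) (z : Z ⟶ c₂.pt) (q : ∀ j, P.obj j ⟶ Z)
    (hq : ∀ {j k : J} (m : j ⟶ k), P.map m ≫ q k = q j)
    (sq : ∀ j, IsPullback (α.app j) (q j) (τ.app j) (z ≫ c₂.π.app j))
    {cP : Cone P} (hcP : IsLimit cP) :
    IsPullback (hc₁.lift ⟨cP.pt, cP.π ≫ α⟩) (cP.π.app t ≫ q t) g z := by
  have hqt : ∀ j, cP.π.app j ≫ q j = cP.π.app t ≫ q t := fun j => by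
    rw [← hq (ht.from j), ← Category.assoc, cP.w]
  have hfac : ∀ j, hc₁.lift ⟨cP.pt, cP.π ≫ α⟩ ≫ c₁.π.app j = cP.π.app j ≫ α.app j := fun j =>
    hc₁.fac ⟨cP.pt, cP.π ≫ α⟩ j
  have hw : hc₁.lift ⟨cP.pt, cP.π ≫ α⟩ ≫ g = (cP.π.app t ≫ q t) ≫ z := by
    apply hc₂.hom_ext
    intro j
    rw [Category.assoc, hg, ← Category.assoc, hfac, Category.assoc, (sq j).w, ← Category.assoc, hqt,
      Category.assoc, Category.assoc, Category.assoc]
  have hcond : ∀ (s : PullbackCone g z) (j : J),
      (s.fst ≫ c₁.π.app j) ≫ τ.app j = s.snd ≫ z ≫ c₂.π.app j := fun s j => by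
    rw [Category.assoc, ← hg, ← Category.assoc, s.condition, Category.assoc]
  let u : ∀ (s : PullbackCone g z) (j : J), s.pt ⟶ P.obj j := fun s j =>
    (sq j).lift (s.fst ≫ c₁.π.app j) s.snd (hcond s j)
  have hu1 : ∀ s j, u s j ≫ α.app j = s.fst ≫ c₁.π.app j := fun s j => (sq j).lift_fst _ _ _
  have hu2 : ∀ s j, u s j ≫ q j = s.snd := fun s j => (sq j).lift_snd _ _ _
  have hunat : ∀ s {j k : J} (m : j ⟶ k), u s j ≫ P.map m = u s k := fun s {j k} m => by
    apply (sq k).hom_ext
    · rw [Category.assoc, α.naturality m, ← Category.assoc, hu1, Category.assoc, c₁.w m, hu1]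
    · rw [Category.assoc, hq m, hu2, hu2]
  let coneP : ∀ _ : PullbackCone g z, Cone P := fun s =>
    { pt := s.pt
      π := { app := fun j => u s j
             naturality := fun j k m => (Category.id_comp (u s k)).trans (hunat s m).symm } }
  refine IsPullback.of_isLimit (c := PullbackCone.mk _ _ hw)
    (PullbackCone.IsLimit.mk hw (fun s => hcP.lift (coneP s)) (fun s => ?_) (fun s => ?_)
      (fun s m h1 h2 => ?_))
  · apply hc₁.hom_ext
    intro j
    rw [Category.assoc, hfac, ← Category.assoc, hcP.fac]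
    exact hu1 s j
  · rw [← Category.assoc, hcP.fac]
    exact hu2 s t
  · apply hcP.hom_ext
    intro j
    rw [hcP.fac]
    show m ≫ cP.π.app j = u s j
    apply (sq j).hom_ext
    · rw [Category.assoc, ← hfac, ← Category.assoc, h1, hu1]
    · rw [Category.assoc, hqt, h2, hu2]

/-- The chart of the base change of a limit of a morphism of systems. -/
structure LimChart₂ {J : Type u} [SmallCategory J] {t : J} (ht : IsTerminal t) {D₁ D₂ : J ⥤ Sp S} (τ : D₁ ⟶ D₂)
    (c₁ : Cone D₁) (c₂ : Cone D₂) (g : c₁.pt ⟶ c₂.pt) {Z : Over S} (z : (yon S).obj Z ⟶ c₂.pt) where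
  /-- the diagram of base changes -/
  E : J ⥤ Over S
  /-- the projections to the test scheme -/
  p : ∀ j, E.obj j ⟶ Z
  hp : ∀ {j k : J} (m : j ⟶ k), E.map m ≫ p k = p j
  /-- the maps to the stages -/
  α : E ⋙ yon S ⟶ D₁
  sq : ∀ j, IsPullback (α.app j) ((yon S).map (p j)) (τ.app j) (z ≫ c₂.π.app j)
  aff : ∀ {j k : J} (m : j ⟶ k), IsAffineHom (E.map m).left
  affp : ∀ j, IsAffineHom (p j).left
  /-- the limit cone -/
  cE : Cone E
  hcE : IsLimit cE
  hc₀ : IsLimit ((Over.forget S).mapCone cE)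
  affπ : ∀ j, IsAffineHom (cE.π.app j).left
  /-- the map from the limit chart to the limit -/
  fst : (yon S).obj cE.pt ⟶ c₁.pt
  hfst : ∀ j, fst ≫ c₁.π.app j = (yon S).map (cE.π.app j) ≫ α.app j
  sqlim : IsPullback fst ((yon S).map (cE.π.app t ≫ p t)) g z

theorem nonempty_limChart₂ {J : Type u} [SmallCategory J] [IsCofiltered J] {t : J} (ht : IsTerminal t)
    {D₁ D₂ : J ⥤ Sp S} (τ : D₁ ⟶ D₂) (hτ : ∀ j, RepWith @IsAffineHom (τ.app j))
    (c₁ : Cone D₁) (hc₁ : IsLimit c₁) (c₂ : Cone D₂) (hc₂ : IsLimit c₂) (g : c₁.pt ⟶ c₂.pt)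
    (hg : ∀ j, g ≫ c₂.π.app j = c₁.π.app j ≫ τ.app j) {Z : Over S} (z : (yon S).obj Z ⟶ c₂.pt) :
    Nonempty (LimChart₂ ht τ c₁ c₂ g z) := by
  choose V p a sq using fun j => (hτ j).rep (z ≫ c₂.π.app j)
  have haffp : ∀ j, IsAffineHom (p j).left := fun j => (hτ j).property _ (a j) (p j) (sq j)
  have hcomp : ∀ {j k : J} (m : j ⟶ k),
      (a j ≫ D₁.map m) ≫ τ.app k = (yon S).map (p j) ≫ z ≫ c₂.π.app k :=
    fun {j k} m => by
      rw [Category.assoc, τ.naturality m, ← Category.assoc, (sq j).w, Category.assoc, Category.assoc,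
        c₂.w m]
  have hτ' : ∀ {j k : J} (m : j ⟶ k), ∃ σ : V j ⟶ V k,
      (yon S).map σ ≫ a k = a j ≫ D₁.map m ∧ σ ≫ p k = p j := fun {j k} m => by
    obtain ⟨σ, hσ⟩ := (yon S).map_surjective ((sq k).lift (a j ≫ D₁.map m) ((yon S).map (p j)) (hcomp m))
    refine ⟨σ, by rw [hσ, (sq k).lift_fst], ?_⟩
    apply (yon S).map_injective
    rw [Functor.map_comp, hσ, (sq k).lift_snd]
  choose σ hσa hσp using @hτ'
  have hσext : ∀ {j k : J} (m : j ⟶ k) (ρ : V j ⟶ V k),
      (yon S).map ρ ≫ a k = a j ≫ D₁.map m → ρ ≫ p k = p j → ρ = σ m := fun {j k} m ρ h1 h2 => by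
    apply (yon S).map_injective
    apply (sq k).hom_ext
    · rw [h1, hσa]
    · rw [← Functor.map_comp, ← Functor.map_comp, h2, hσp]
  have hσid : ∀ j, σ (𝟙 j) = 𝟙 (V j) := fun j => by
    symm
    apply hσext
    · simp
    · rw [Category.id_comp]
  have hσcomp : ∀ {j k l : J} (m : j ⟶ k) (n : k ⟶ l), σ (m ≫ n) = σ m ≫ σ n := fun {j k l} m n => by
    symm
    apply hσext
    · rw [Functor.map_comp, Category.assoc, hσa, ← Category.assoc, hσa, Category.assoc, ← D₁.map_comp]
    · rw [Category.assoc, hσp, hσp]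
  let E : J ⥤ Over S :=
    { obj := V
      map := fun m => σ m
      map_id := hσid
      map_comp := fun m n => hσcomp m n }
  let α : E ⋙ yon S ⟶ D₁ :=
    { app := fun j => a j
      naturality := fun j k m => hσa m }
  have haff : ∀ {j k : J} (m : j ⟶ k), IsAffineHom (σ m).left := fun {j k} m => by
    have h1 : (σ m).left ≫ (p k).left = (p j).left := congrArg CommaMorphism.left (hσp m)
    have := haffp k
    have h2 : IsAffineHom ((σ m).left ≫ (p k).left) := by rw [h1]; exact haffp j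
    exact IsAffineHom.of_comp (σ m).left (p k).left
  have : ∀ {i j : J} (f : i ⟶ j), IsAffineHom ((E ⋙ Over.forget S).map f) := fun f => haff f
  obtain ⟨c₀, hc₀, hc₀aff⟩ := Groth.Agent.Lib.Helper12.AffLim.exists_limit (E ⋙ Over.forget S)
  let π₀ : ∀ j, c₀.pt ⟶ (V j).left := fun j => c₀.π.app j
  have hπ₀ : ∀ {j k : J} (m : j ⟶ k), π₀ j ≫ (σ m).left = π₀ k := fun m => c₀.w m
  have hstr : ∀ j, π₀ j ≫ (V j).hom = π₀ t ≫ (V t).hom := fun j => by
    rw [← hπ₀ (ht.from j), Category.assoc, Over.w (σ (ht.from j))]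
  let cE : Cone E :=
    { pt := Over.mk (π₀ t ≫ (V t).hom)
      π := { app := fun j => Over.homMk (π₀ j) (hstr j)
             naturality := fun j k m => by
               apply Over.OverMorphism.ext
               exact (Category.id_comp (π₀ k)).trans (hπ₀ m).symm } }
  let hcE : IsLimit cE :=
    { lift := fun s => Over.homMk (hc₀.lift ((Over.forget S).mapCone s)) (by
        have h1 : hc₀.lift ((Over.forget S).mapCone s) ≫ π₀ t = (s.π.app t).left :=
          hc₀.fac ((Over.forget S).mapCone s) t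
        show hc₀.lift ((Over.forget S).mapCone s) ≫ π₀ t ≫ (V t).hom = s.pt.hom
        rw [← Category.assoc, h1]
        exact Over.w (s.π.app t))
      fac := fun s j => by
        apply Over.OverMorphism.ext
        exact hc₀.fac ((Over.forget S).mapCone s) j
      uniq := fun s m hm => by
        apply Over.OverMorphism.ext
        apply hc₀.hom_ext
        intro j
        exact (congrArg CommaMorphism.left (hm j)).trans (hc₀.fac ((Over.forget S).mapCone s) j).symm }
  have hq : ∀ {j k : J} (m : j ⟶ k), (E ⋙ yon S).map m ≫ (yon S).map (p k) = (yon S).map (p j) :=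
    fun {j k} m => by
      rw [Functor.comp_map, ← Functor.map_comp]
      exact congrArg (yon S).map (hσp m)
  have hlim := isPullback_of_limit₂ ht τ α hc₁ hc₂ g hg z (fun j => (yon S).map (p j)) hq sq
    (isLimitOfPreserves (yon S) hcE)
  refine ⟨{ E := E, p := p, hp := fun m => hσp m, α := α, sq := sq, aff := fun m => haff m, affp := haffp,
            cE := cE, hcE := hcE, hc₀ := hc₀, affπ := fun j => hc₀aff j,
            fst := hc₁.lift ⟨(yon S).obj cE.pt, ((yon S).mapCone cE).π ≫ α⟩,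
            hfst := fun j => hc₁.fac _ j, sqlim := ?_ }⟩
  rw [Functor.map_comp]
  exact hlim

/-- In a cofiltered limit of affine schemes all of which are closed subschemes of the terminal stage, the projection to the
terminal stage is a closed immersion. -/
theorem isClosedImmersion_π_of_isLimit {J : Type u} [Category.{u} J] [IsCofiltered J] {t : J} (ht : IsTerminal t)
    (D : J ⥤ Scheme.{u}) (c : Cone D) (hc : IsLimit c) (haff : ∀ j, IsAffine (D.obj j))
    (hci : ∀ j, IsClosedImmersion (D.map (ht.from j))) : IsClosedImmersion (c.π.app t) := by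
  have hcaff : IsAffine c.pt := Scheme.isAffine_of_isLimit c hc
  refine @IsClosedImmersion.of_surjective_of_isAffine c.pt (D.obj t) hcaff (haff t) (c.π.app t) ?_
  intro s
  obtain ⟨j, sj, rfl⟩ := exists_appTop_π_eq_of_isAffine_of_isLimit D c hc s
  have := hci j
  obtain ⟨st, rfl⟩ := (IsClosedImmersion.isAffine_surjective_of_isAffine (D.map (ht.from j))).2 sj
  refine ⟨st, ?_⟩
  rw [← c.w (ht.from j), Scheme.Hom.comp_appTop, CommRingCat.comp_apply]

theorem main10055 (S : Scheme.{u}) {I : Type u} [SmallCategory I] [IsCofiltered I]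
    (DX DY : I ⥤ AlgSp.Sp S) (hDX : ∀ i, AlgSp.IsAlgSpace (DX.obj i)) (hDY : ∀ i, AlgSp.IsAlgSpace (DY.obj i))
    (hXa : ∀ (i j : I) (φ : i ⟶ j), AlgSp.IsAffineMor (DX.map φ)) (hYa : ∀ (i j : I) (φ : i ⟶ j), AlgSp.IsAffineMor (DY.map φ))
    (τ : DX ⟶ DY) (hτ : ∀ i, AlgSp.RepWith @IsClosedImmersion (τ.app i))
    (cX : Cone DX) (hcX : IsLimit cX) (cY : Cone DY) (hcY : IsLimit cY)
    (g : cX.pt ⟶ cY.pt) (hg : ∀ i, g ≫ cY.π.app i = cX.π.app i ≫ τ.app i) :
    AlgSp.RepWith @IsClosedImmersion g := by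
  have hX : IsAlgSpace cX.pt := (main10004 S DX hDX hXa cX hcX).1
  have hY : IsAlgSpace cY.pt := (main10004 S DY hDY hYa cY hcY).1
  refine repWith_of_affWith hX hY g ?_
  intro Z hZ z
  have hZaff : IsAffine Z.left := hZ
  obtain ⟨i₀⟩ := IsCofiltered.nonempty (C := I)
  obtain ⟨hcX'⟩ := isLimit_whisker_over DX cX hcX i₀
  obtain ⟨hcY'⟩ := isLimit_whisker_over DY cY hcY i₀
  have hle : (@IsClosedImmersion : MorphismProperty Scheme.{u}) ≤ @IsAffineHom := fun _ _ f hf => by
    have : IsClosedImmersion f := hf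
    exact (inferInstance : IsAffineHom f)
  have hτaff : ∀ j : Over i₀, RepWith @IsAffineHom ((Functor.whiskerLeft (Over.forget i₀) τ).app j) := fun j =>
    repWith_mono hle _ (hτ j.left)
  obtain ⟨L⟩ := nonempty_limChart₂ (Over.mkIdTerminal (X := i₀)) (Functor.whiskerLeft (Over.forget i₀) τ) hτaff
    (cX.whisker (Over.forget i₀)) hcX' (cY.whisker (Over.forget i₀)) hcY' g (fun j => hg j.left) z
  have hci : ∀ j : Over i₀, IsClosedImmersion (L.p j).left := fun j =>
    (hτ j.left).property _ (L.α.app j) (L.p j) (L.sq j)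
  have haffW : ∀ j : Over i₀, IsAffine ((L.E ⋙ Over.forget S).obj j) := fun j => by
    have h1 : IsAffineHom (L.p j).left := L.affp j
    show IsAffine (L.E.obj j).left
    exact isAffine_of_isAffineHom (L.p j).left
  have htr : ∀ j : Over i₀, IsClosedImmersion ((L.E ⋙ Over.forget S).map ((Over.mkIdTerminal (X := i₀)).from j)) :=
    fun j => by
      have h1 : (L.E.map ((Over.mkIdTerminal (X := i₀)).from j)).left ≫ (L.p (Over.mk (𝟙 i₀))).left =
          (L.p j).left := congrArg CommaMorphism.left (L.hp ((Over.mkIdTerminal (X := i₀)).from j))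
      have h2 : IsClosedImmersion (L.p (Over.mk (𝟙 i₀))).left := hci _
      have h3 : IsClosedImmersion ((L.E.map ((Over.mkIdTerminal (X := i₀)).from j)).left ≫
          (L.p (Over.mk (𝟙 i₀))).left) := by rw [h1]; exact hci j
      exact IsClosedImmersion.of_comp_isClosedImmersion (L.E.map ((Over.mkIdTerminal (X := i₀)).from j)).left
        (L.p (Over.mk (𝟙 i₀))).left
  have hπci : IsClosedImmersion (L.cE.π.app (Over.mk (𝟙 i₀))).left :=
    isClosedImmersion_π_of_isLimit (Over.mkIdTerminal (X := i₀)) (L.E ⋙ Over.forget S)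
      ((Over.forget S).mapCone L.cE) L.hc₀ haffW htr
  have h2 : IsClosedImmersion (L.p (Over.mk (𝟙 i₀))).left := hci _
  have h4 : IsClosedImmersion ((L.cE.π.app (Over.mk (𝟙 i₀))).left ≫ (L.p (Over.mk (𝟙 i₀))).left) :=
    inferInstance
  refine ⟨L.cE.pt, L.cE.π.app (Over.mk (𝟙 i₀)) ≫ L.p (Over.mk (𝟙 i₀)), L.fst, L.sqlim, ?_, h4⟩
  have h5 : IsAffineHom ((L.cE.π.app (Over.mk (𝟙 i₀))).left ≫ (L.p (Over.mk (𝟙 i₀))).left) := inferInstance
  exact isAffine_of_isAffineHom ((L.cE.π.app (Over.mk (𝟙 i₀))).left ≫ (L.p (Over.mk (𝟙 i₀))).left)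

end Groth.Agent.Lib.Helper6.LimSp
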