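import Mathlib
import Groth.Agent.Lib.Helper6.LimSp
import Groth.Agent.Lib.Helper16.DenseFin3
import Groth.Agent.Lib.Helper16.Descent
import Groth.Agent.Lib.Helper17.AlgSpLocP
import Groth.Agent.Lib.Helper12.LimReduced
import Groth.Agent.Lib.Helper1.FpqcDescent

/-!
# Helper library (helper6): closed immersions into a cofiltered limit of algebraic spaces

* `LimChart.sqstage`: the limit chart is the base change of each stage chart;
* `representable_π`: projections of a cofiltered limit with affine transition maps are representable;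
* `exists_surjective_stage`: a closed subscheme of finite type of a limit of affine schemes is a closed subscheme of
  all small enough stages;
* `main10009`.
-/

set_option autoImplicit false
universe u
open CategoryTheory CategoryTheory.Limits AlgebraicGeometry
open AlgSp Groth.Agent.Lib.Helper16

namespace Groth.Agent.Lib.Helper6.LimSp

variable {S : Scheme.{u}}

theorem LimChart.sqstage {J : Type u} [SmallCategory J] {t : J} {ht : IsTerminal t} {D : J ⥤ Sp S} {c : Cone D}
    {U₀ : Over S} {g : (yon S).obj U₀ ⟶ D.obj t} (L : LimChart ht D c g) (j : J) :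
    IsPullback L.fst ((yon S).map (L.cE.π.app j)) (c.π.app j) (L.α.app j) := by
  have h1 : L.cE.π.app j ≫ L.p j = L.cE.π.app t ≫ L.p t := by
    rw [← L.hp (ht.from j), ← Category.assoc, L.cE.w]
  have h2 : c.π.app j ≫ D.map (ht.from j) = c.π.app t := c.w (ht.from j)
  have s : IsPullback L.fst ((yon S).map (L.cE.π.app j) ≫ (yon S).map (L.p j))
      (c.π.app j ≫ D.map (ht.from j)) g := by
    rw [← Functor.map_comp, h1, h2]
    exact L.sqlim
  exact IsPullback.of_bot s (L.hfst j) (L.sq j)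

theorem representable_π {I : Type u} [SmallCategory I] [IsCofiltered I]
    (D : I ⥤ Sp S) (hD : ∀ i, IsAlgSpace (D.obj i)) (hDa : ∀ (i j : I) (φ : i ⟶ j), IsAffineMor (D.map φ))
    (c : Cone D) (hc : IsLimit c) (i₀ : I) : Representable (c.π.app i₀) := by
  obtain ⟨hc'⟩ := isLimit_whisker_over D c hc i₀
  exact representable_π_terminal (Over.mkIdTerminal (X := i₀)) (Over.forget i₀ ⋙ D) (fun j => hD j.left)
    (fun i j φ => hDa _ _ φ.left) (c.whisker (Over.forget i₀)) hc'

/-- A closed subscheme of a cofiltered limit of affine schemes which is of finite type over the terminal stage is a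
closed subscheme of all small enough stages: the maps on global sections are surjective. -/
theorem exists_surjective_stage {J : Type u} [Category.{u} J] [IsCofiltered J] {t : J} (ht : IsTerminal t)
    (D : J ⥤ Scheme.{u}) (c : Cone D) (hc : IsLimit c) (haff : ∀ j, IsAffine (D.obj j))
    {V : Scheme.{u}} [IsAffine V] (v : V ⟶ c.pt) (hv : Function.Surjective v.appTop)
    (hft : LocallyOfFiniteType (v ≫ c.π.app t)) :
    ∃ j₀ : J, ∀ (j : J) (_ : j ⟶ j₀), Function.Surjective (v ≫ c.π.app j).appTop := by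
  classical
  have hcaff : IsAffine c.pt := Scheme.isAffine_of_isLimit c hc
  let φ : ∀ j, Γ(D.obj j, ⊤) →+* Γ(V, ⊤) := fun j => (v ≫ c.π.app j).appTop.hom
  have hφ : ∀ {k' k : J} (m : k' ⟶ k) (a : Γ(D.obj k, ⊤)), φ k' ((D.map m).appTop a) = φ k a := by
    intro k' k m a
    have h1 : (v ≫ c.π.app k).appTop = (D.map m).appTop ≫ (v ≫ c.π.app k').appTop := by
      rw [← Scheme.Hom.comp_appTop, Category.assoc, c.w m]
    exact (congrArg (fun f => f.hom a) h1).symm
  have hfin : RingHom.FiniteType (φ t) :=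
    (HasRingHomProperty.iff_of_isAffine (P := @LocallyOfFiniteType)).1 hft
  letI : Algebra Γ(D.obj t, ⊤) Γ(V, ⊤) := (φ t).toAlgebra
  obtain ⟨s, hs⟩ := (show Algebra.FiniteType Γ(D.obj t, ⊤) Γ(V, ⊤) from hfin).out
  have hex : ∀ x ∈ s, ∃ k, ∃ a : Γ(D.obj k, ⊤), φ k a = x := by
    intro x _
    obtain ⟨a, rfl⟩ := hv x
    obtain ⟨k, ak, rfl⟩ := exists_appTop_π_eq_of_isAffine_of_isLimit D c hc a
    exact ⟨k, ak, rfl⟩
  have hstab : ∀ (x : Γ(V, ⊤)) {k k' : J} (_ : k' ⟶ k),
      (∃ a : Γ(D.obj k, ⊤), φ k a = x) → ∃ a : Γ(D.obj k', ⊤), φ k' a = x := by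
    rintro x k k' m ⟨a, ha⟩
    exact ⟨(D.map m).appTop a, by rw [hφ m a, ha]⟩
  obtain ⟨j₀, hj₀⟩ := Groth.Agent.Lib.Helper12.LimReduced.exists_forall_of_finset s
    (fun x k => ∃ a : Γ(D.obj k, ⊤), φ k a = x) hstab hex
  refine ⟨j₀, fun j m y => ?_⟩
  have hrange : ∀ y ∈ Algebra.adjoin Γ(D.obj t, ⊤) (s : Set Γ(V, ⊤)), y ∈ (φ j).range := by
    intro y hy
    refine Algebra.adjoin_induction (p := fun y _ => y ∈ (φ j).range) ?_ ?_ ?_ ?_ hy
    · intro x hx
      exact hstab x m (hj₀ x hx)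
    · intro r
      exact ⟨(D.map (ht.from j)).appTop r, by rw [hφ (ht.from j) r]; rfl⟩
    · intro x y _ _ hx hy
      exact add_mem hx hy
    · intro x y _ _ hx hy
      exact mul_mem hx hy
  have hy : y ∈ Algebra.adjoin Γ(D.obj t, ⊤) (s : Set Γ(V, ⊤)) := by rw [hs]; exact Algebra.mem_top
  obtain ⟨a, ha⟩ := hrange y hy
  exact ⟨a, ha⟩

theorem main10009 (S : Scheme.{u}) {I : Type u} [SmallCategory I] [IsCofiltered I]
    (B : AlgSp.Space S) (D : I ⥤ AlgSp.Sp S) (hD : ∀ i, AlgSp.IsAlgSpace (D.obj i))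
    (t : D ⟶ (Functor.const I).obj B.obj)
    (hDa : ∀ (i j : I) (φ : i ⟶ j), AlgSp.IsAffineMor (D.map φ))
    (c : Cone D) (hc : IsLimit c)
    (hqc : ∀ i, AlgSp.IsQuasiCompactSp (D.obj i))
    (Y : AlgSp.Space S) (y : Y.obj ⟶ c.pt) (hy : AlgSp.RepWith @IsClosedImmersion y) (i₁ : I)
    (hYB : AlgSp.LocP @LocallyOfFiniteType (y ≫ c.π.app i₁ ≫ t.app i₁)) :
    ∃ i₀ : I, ∀ (i : I) (_ : i ⟶ i₀), AlgSp.RepWith @IsClosedImmersion (y ≫ c.π.app i) := by
  -- cancellation
  have hlft : LocP @LocallyOfFiniteType (y ≫ c.π.app i₁) :=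
    Groth.Agent.Lib.Helper17.locP_of_comp_cancel etLocalST_locallyOfFiniteType
      (fun A B C m w h => by
        have : LocallyOfFiniteType (m ≫ w) := h
        exact locallyOfFiniteType_of_comp m w)
      B.property (y ≫ c.π.app i₁) (t.app i₁) (by rw [Category.assoc]; exact hYB)
  obtain ⟨U₀, g, hU₀aff, hget, hgsurj⟩ := DenseFin.exists_affine_chart_of_isQuasiCompactSp (hqc i₁)
  obtain ⟨hc'⟩ := isLimit_whisker_over D c hc i₁
  obtain ⟨L⟩ := nonempty_limChart (Over.mkIdTerminal (X := i₁)) (Over.forget i₁ ⋙ D) (fun j => hD j.left)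
    (fun i j φ => hDa _ _ φ.left) (c.whisker (Over.forget i₁)) hc' g
  have hLfstE : RepWith @Etale L.fst := (RepWith @Etale).of_isPullback L.sqlim.flip hget
  -- the closed subscheme of the limit chart
  obtain ⟨V, v, fstV, sqV⟩ := hy.rep L.fst
  have hvci : IsClosedImmersion v.left := hy.property _ _ _ sqV
  have hfstVE : RepWith @Etale fstV := (RepWith @Etale).of_isPullback sqV.flip hLfstE
  have hUaff : IsAffine L.cE.pt.left := by
    have h1 : IsAffineHom (L.cE.π.app (Over.mk (𝟙 i₁))).left := L.affπ _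
    have h2 : IsAffineHom (L.p (Over.mk (𝟙 i₁))).left := L.affp _
    have h3 : IsAffineHom ((L.cE.π.app (Over.mk (𝟙 i₁))).left ≫ (L.p (Over.mk (𝟙 i₁))).left) := inferInstance
    exact isAffine_of_isAffineHom ((L.cE.π.app (Over.mk (𝟙 i₁))).left ≫ (L.p (Over.mk (𝟙 i₁))).left)
  have hVaff : IsAffine V.left := isAffine_of_isAffineHom v.left
  have hvsurj : Function.Surjective v.left.appTop :=
    (IsClosedImmersion.isAffine_surjective_of_isAffine v.left).2
  -- finite type over the chart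
  have hcomm : fstV ≫ (y ≫ c.π.app i₁) =
      (yon S).map (v ≫ L.cE.π.app (Over.mk (𝟙 i₁)) ≫ L.p (Over.mk (𝟙 i₁))) ≫ g := by
    rw [← Category.assoc, sqV.w, Category.assoc, Functor.map_comp, Category.assoc]
    congr 1
    exact L.sqlim.w
  have hft0 : LocallyOfFiniteType (v ≫ L.cE.π.app (Over.mk (𝟙 i₁)) ≫ L.p (Over.mk (𝟙 i₁))).left :=
    hlft fstV g _ hfstVE hget hcomm
  have hft : LocallyOfFiniteType (v.left ≫ (L.cE.π.app (Over.mk (𝟙 i₁))).left) := by
    have h1 : LocallyOfFiniteType ((v.left ≫ (L.cE.π.app (Over.mk (𝟙 i₁))).left) ≫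
        (L.p (Over.mk (𝟙 i₁))).left) := by
      rw [Category.assoc]; exact hft0
    exact locallyOfFiniteType_of_comp _ (L.p (Over.mk (𝟙 i₁))).left
  have haffW : ∀ j : Over i₁, IsAffine ((L.E ⋙ Over.forget S).obj j) := fun j => by
    have h1 : IsAffineHom (L.p j).left := L.affp j
    show IsAffine (L.E.obj j).left
    exact isAffine_of_isAffineHom (L.p j).left
  obtain ⟨j₀, hj₀⟩ := exists_surjective_stage (Over.mkIdTerminal (X := i₁)) (L.E ⋙ Over.forget S)
    ((Over.forget S).mapCone L.cE) L.hc₀ haffW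
    (v.left : V.left ⟶ ((Over.forget S).mapCone L.cE).pt) hvsurj hft
  refine ⟨j₀.left, fun i φ => ?_⟩
  -- the index as an object over `i₁`
  obtain ⟨j, m, rfl⟩ : ∃ (j : Over i₁) (_ : j ⟶ j₀), j.left = i :=
    ⟨Over.mk (φ ≫ j₀.hom), Over.homMk φ rfl, rfl⟩
  have hci : IsClosedImmersion (v ≫ L.cE.π.app j).left := by
    have := haffW j
    exact @IsClosedImmersion.of_surjective_of_isAffine V.left (L.E.obj j).left hVaff (haffW j)
      (v.left ≫ (L.cE.π.app j).left) (hj₀ j m)
  have hrep : Representable (y ≫ c.π.app j.left) :=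
    (yon S).relativelyRepresentable.comp_mem _ _ hy.rep (representable_π D hD hDa c hc j.left)
  have sq : IsPullback fstV ((yon S).map (v ≫ L.cE.π.app j)) (y ≫ c.π.app j.left) (L.α.app j) := by
    rw [Functor.map_comp]
    exact sqV.paste_vert (L.sqstage j)
  exact repWith_of_chart_of_descends (y ≫ c.π.app j.left) hrep
    (L.α.app j : (yon S).obj (L.E.obj j) ⟶ D.obj j.left)
    ((RepWith @Etale).of_isPullback (L.sq j).flip hget)
    ((RepWith @Surjective).of_isPullback (L.sq j).flip hgsurj) fstV (v ≫ L.cE.π.app j) sq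
    @IsClosedImmersion hci

end Groth.Agent.Lib.Helper6.LimSp
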