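import Mathlib
import Groth.Agent.Lib.Helper6.LimSp2
import Groth.Agent.Lib.Helper6.LimSp3
import Groth.Agent.Lib.Helper17.AlgSpUnram
import Groth.Agent.Lib.Helper12.FibreDominant
import Groth.Agent.Lib.Helper16.FpqcMono
import Groth.Agent.Lib.Helper16.FpqcCover

/-!
# Helper library (helper6): a limit of closed immersions which is of finite presentation is eventually constant

* `exists_isIso_stage`: for a cofiltered system of closed subschemes of an affine scheme whose limit is of finite
  presentation over the terminal stage, the projections from the limit are eventually isomorphisms;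
* `main10011`.
-/

set_option autoImplicit false
universe u
open CategoryTheory CategoryTheory.Limits AlgebraicGeometry
open AlgSp Groth.Agent.Lib.Helper16

namespace Groth.Agent.Lib.Helper6.LimSp

variable {S : Scheme.{u}}

theorem exists_isIso_stage {J : Type u} [Category.{u} J] [IsCofiltered J] {t : J} (ht : IsTerminal t)
    (D : J ⥤ Scheme.{u}) (c : Cone D) (hc : IsLimit c) (haff : ∀ j, IsAffine (D.obj j))
    (hci : ∀ j, IsClosedImmersion (D.map (ht.from j)))
    (hfp : LocallyOfFinitePresentation (c.π.app t)) :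
    ∃ j₀ : J, ∀ (j : J) (_ : j ⟶ j₀), IsIso (c.π.app j) := by
  classical
  have hcaff : IsAffine c.pt := Scheme.isAffine_of_isLimit c hc
  let π : ∀ j, c.pt ⟶ D.obj j := fun j => c.π.app j
  have hπw : ∀ {j k : J} (m : j ⟶ k), π j ≫ D.map m = π k := fun m => c.w m
  have hπt : IsClosedImmersion (π t) := isClosedImmersion_π_of_isLimit ht D c hc haff hci
  have hafft := haff t
  have hψsurj : Function.Surjective (π t).appTop :=
    (IsClosedImmersion.isAffine_surjective_of_isAffine (π t)).2
  have hψfp : RingHom.FinitePresentation (π t).appTop.hom :=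
    (HasRingHomProperty.iff_of_isAffine (P := @LocallyOfFinitePresentation)).1 hfp
  letI : Algebra Γ(D.obj t, ⊤) Γ(c.pt, ⊤) := (π t).appTop.hom.toAlgebra
  have hfpA : Algebra.FinitePresentation Γ(D.obj t, ⊤) Γ(c.pt, ⊤) := hψfp
  have hker : (RingHom.ker (Algebra.ofId Γ(D.obj t, ⊤) Γ(c.pt, ⊤)).toRingHom).FG :=
    Algebra.FinitePresentation.ker_fG_of_surjective (Algebra.ofId _ _) (fun y => hψsurj y)
  obtain ⟨G, hG⟩ := hker
  have hGker : ∀ x ∈ G, (π t).appTop x = 0 := fun x hx => by
    have h1 : x ∈ RingHom.ker (Algebra.ofId Γ(D.obj t, ⊤) Γ(c.pt, ⊤)).toRingHom := by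
      rw [← hG]; exact Ideal.subset_span hx
    exact RingHom.mem_ker.1 h1
  have hex : ∀ x ∈ G, ∃ k, (D.map (ht.from k)).appTop x = 0 := fun x hx => by
    obtain ⟨k, f, hk⟩ := exists_appTop_map_eq_zero_of_isAffine_of_isLimit D c hc t x (hGker x hx)
    rw [ht.hom_ext f (ht.from k)] at hk
    exact ⟨k, hk⟩
  have hstab : ∀ (x : Γ(D.obj t, ⊤)) {k k' : J} (_ : k' ⟶ k),
      (D.map (ht.from k)).appTop x = 0 → (D.map (ht.from k')).appTop x = 0 := by
    intro x k k' m hk
    have h1 : D.map (ht.from k') = D.map m ≫ D.map (ht.from k) := by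
      rw [← D.map_comp, ht.hom_ext (m ≫ ht.from k) (ht.from k')]
    rw [h1, Scheme.Hom.comp_appTop, CommRingCat.comp_apply, hk, map_zero]
  obtain ⟨j₀, hj₀⟩ := Groth.Agent.Lib.Helper12.LimReduced.exists_forall_of_finset G
    (fun x k => (D.map (ht.from k)).appTop x = 0) hstab hex
  refine ⟨j₀, fun j m => ?_⟩
  have hGj : ∀ x ∈ G, (D.map (ht.from j)).appTop x = 0 := fun x hx => hstab x m (hj₀ x hx)
  have hkerle : ∀ x : Γ(D.obj t, ⊤), (π t).appTop x = 0 → (D.map (ht.from j)).appTop x = 0 := by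
    intro x hx
    have hxmem : x ∈ Ideal.span (G : Set Γ(D.obj t, ⊤)) := by
      rw [hG]; exact RingHom.mem_ker.2 hx
    have hle : Ideal.span (G : Set Γ(D.obj t, ⊤)) ≤ RingHom.ker (D.map (ht.from j)).appTop.hom :=
      Ideal.span_le.2 (fun y hy => RingHom.mem_ker.2 (hGj y hy))
    exact RingHom.mem_ker.1 (hle hxmem)
  have hcij := hci j
  have hρsurj : Function.Surjective (D.map (ht.from j)).appTop :=
    (IsClosedImmersion.isAffine_surjective_of_isAffine (D.map (ht.from j))).2
  have hπj : IsClosedImmersion (π j) := by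
    have h1 : IsClosedImmersion (π j ≫ D.map (ht.from j)) := by rw [hπw]; exact hπt
    exact IsClosedImmersion.of_comp_isClosedImmersion (π j) (D.map (ht.from j))
  have hinj : Function.Injective (π j).appTop := by
    refine (injective_iff_map_eq_zero (π j).appTop.hom).2 (fun z hz => ?_)
    obtain ⟨x, rfl⟩ := hρsurj z
    have h2 : (π t).appTop x = 0 := by
      rw [← hπw (ht.from j), Scheme.Hom.comp_appTop, CommRingCat.comp_apply]
      exact hz
    exact hkerle x h2
  have haffj := haff j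
  exact (IsClosedImmersion.isIso_of_injective_of_isAffine hinj : IsIso (π j))

theorem main10011 (S : Scheme.{u}) {I : Type u} [SmallCategory I] [IsCofiltered I]
    (B : AlgSp.Space S) (D : I ⥤ AlgSp.Sp S) (hD : ∀ i, AlgSp.IsAlgSpace (D.obj i))
    (t : D ⟶ (Functor.const I).obj B.obj)
    (hDc : ∀ (i j : I) (φ : i ⟶ j), AlgSp.RepWith @IsClosedImmersion (D.map φ))
    (c : Cone D) (hc : IsLimit c)
    (hqc : ∀ i, AlgSp.IsQuasiCompactSp (D.obj i)) (hft : ∀ i, AlgSp.LocP @LocallyOfFiniteType (t.app i)) (i₁ : I)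
    (hX : AlgSp.LocP @LocallyOfFinitePresentation (c.π.app i₁ ≫ t.app i₁)) :
    ∃ i₀ : I, ∀ (i : I) (_ : i ⟶ i₀), IsIso (c.π.app i) := by
  have hle : (@IsClosedImmersion : MorphismProperty Scheme.{u}) ≤ @IsAffineHom := fun _ _ f hf => by
    have : IsClosedImmersion f := hf
    exact (inferInstance : IsAffineHom f)
  have hDa : ∀ (i j : I) (φ : i ⟶ j), IsAffineMor (D.map φ) := fun i j φ =>
    isAffineMor_of_repWith_le_isAffineHom hle _ (hDc i j φ)
  have hlfp : LocP @LocallyOfFinitePresentation (c.π.app i₁) :=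
    Groth.Agent.Lib.Helper17.locP_of_comp_cancel' etLocalST_locallyOfFinitePresentation
      (fun A B C m w hw h => by
        have h1 : LocallyOfFiniteType w := hw
        have h2 : LocallyOfFinitePresentation (m ≫ w) := h
        exact Groth.Agent.Lib.Helper12.FibreDominant.locallyOfFinitePresentation_of_comp m w)
      B.property (c.π.app i₁) (t.app i₁) hX (hft i₁)
  obtain ⟨U₀, g, hU₀aff, hget, hgsurj⟩ := DenseFin.exists_affine_chart_of_isQuasiCompactSp (hqc i₁)
  obtain ⟨hc'⟩ := isLimit_whisker_over D c hc i₁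
  obtain ⟨L⟩ := nonempty_limChart (Over.mkIdTerminal (X := i₁)) (Over.forget i₁ ⋙ D) (fun j => hD j.left)
    (fun i j φ => hDa _ _ φ.left) (c.whisker (Over.forget i₁)) hc' g
  have hLfstE : RepWith @Etale L.fst := (RepWith @Etale).of_isPullback L.sqlim.flip hget
  have hpci : ∀ j : Over i₁, IsClosedImmersion (L.p j).left := fun j =>
    (hDc j.left i₁ ((Over.mkIdTerminal (X := i₁)).from j).left).property _ (L.α.app j) (L.p j) (L.sq j)
  have hlfpU : LocallyOfFinitePresentation (L.cE.π.app (Over.mk (𝟙 i₁)) ≫ L.p (Over.mk (𝟙 i₁))).left :=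
    hlfp L.fst g _ hLfstE hget L.sqlim.w
  have hlfpπ : LocallyOfFinitePresentation (L.cE.π.app (Over.mk (𝟙 i₁))).left := by
    have h1 : LocallyOfFinitePresentation ((L.cE.π.app (Over.mk (𝟙 i₁))).left ≫
        (L.p (Over.mk (𝟙 i₁))).left) := hlfpU
    have h2 : IsClosedImmersion (L.p (Over.mk (𝟙 i₁))).left := hpci _
    have h3 : LocallyOfFiniteType (L.p (Over.mk (𝟙 i₁))).left := inferInstance
    exact Groth.Agent.Lib.Helper12.FibreDominant.locallyOfFinitePresentation_of_comp _
      (L.p (Over.mk (𝟙 i₁))).left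
  have haffW : ∀ j : Over i₁, IsAffine ((L.E ⋙ Over.forget S).obj j) := fun j => by
    have h1 : IsAffineHom (L.p j).left := L.affp j
    show IsAffine (L.E.obj j).left
    exact isAffine_of_isAffineHom (L.p j).left
  have htr : ∀ j : Over i₁, IsClosedImmersion ((L.E ⋙ Over.forget S).map ((Over.mkIdTerminal (X := i₁)).from j)) :=
    fun j => by
      have h1 : (L.E.map ((Over.mkIdTerminal (X := i₁)).from j)).left ≫ (L.p (Over.mk (𝟙 i₁))).left =
          (L.p j).left := congrArg CommaMorphism.left (L.hp ((Over.mkIdTerminal (X := i₁)).from j))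
      have h2 : IsClosedImmersion (L.p (Over.mk (𝟙 i₁))).left := hpci _
      have h3 : IsClosedImmersion ((L.E.map ((Over.mkIdTerminal (X := i₁)).from j)).left ≫
          (L.p (Over.mk (𝟙 i₁))).left) := by rw [h1]; exact hpci j
      exact IsClosedImmersion.of_comp_isClosedImmersion (L.E.map ((Over.mkIdTerminal (X := i₁)).from j)).left
        (L.p (Over.mk (𝟙 i₁))).left
  obtain ⟨j₀, hj₀⟩ := exists_isIso_stage (Over.mkIdTerminal (X := i₁)) (L.E ⋙ Over.forget S)
    ((Over.forget S).mapCone L.cE) L.hc₀ haffW htr hlfpπ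
  refine ⟨j₀.left, fun i φ => ?_⟩
  obtain ⟨j, m, rfl⟩ : ∃ (j : Over i₁) (_ : j ⟶ j₀), j.left = i :=
    ⟨Over.mk (φ ≫ j₀.hom), Over.homMk φ rfl, rfl⟩
  have hiso : IsIso ((Over.forget S).map (L.cE.π.app j)) := hj₀ j m
  have hiso' : IsIso (L.cE.π.app j) := isIso_of_reflects_iso (L.cE.π.app j) (Over.forget S)
  have hXsp : IsAlgSpace c.pt := (main10004 S D hD hDa c hc).1
  exact isIso_of_fpqcRefines (hD j.left) (fun _ : PUnit.{u + 1} => (yon S).obj (L.E.obj j))
    (fun _ => IsAlgSpace.yon_obj _) (fun _ => (L.α.app j : (yon S).obj (L.E.obj j) ⟶ D.obj j.left))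
    (fpqcRefines_chart (hD j.left) (L.α.app j : (yon S).obj (L.E.obj j) ⟶ D.obj j.left)
      ((RepWith @Etale).of_isPullback (L.sq j).flip hget)
      ((RepWith @Surjective).of_isPullback (L.sq j).flip hgsurj))
    hXsp (c.π.app j.left) (fun _ => (yon S).obj L.cE.pt) (fun _ => IsAlgSpace.yon_obj _)
    (fun _ => (yon S).map (L.cE.π.app j)) (fun _ => L.fst) (fun _ => L.sqstage j) (fun _ => inferInstance)

end Groth.Agent.Lib.Helper6.LimSp
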