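import Mathlib
import Groth.Agent.Lib.Helper6.LimSp4
import Groth.Agent.Lib.Helper17.AlgSpAffSep
import Groth.Agent.Lib.Helper17.AlgSpLocP
import Groth.Agent.Lib.Helper16.Diagonal
import Groth.Agent.Lib.Helper16.FibreProduct
import Groth.Agent.Lib.Helper16.LocPGen
import Groth.Agent.Lib.Helper16.SmoothLocalST

/-!
# Helper library (helper6): a monomorphism into a limit is a monomorphism into a stage

* `isPullback_kerPair`: the kernel pair of `a` inside the kernel pair of `a ≫ g` is the base change of the diagonal of `g`;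
* `kerPairFunctor`, `kerPairCone`, `kerPairConeIsLimit`: the system of kernel pairs of a jointly monic family;
* `mono_stage`, `main10012`.
-/

set_option autoImplicit false
universe u
open CategoryTheory CategoryTheory.Limits AlgebraicGeometry
open AlgSp Groth.Agent.Lib.Helper16

namespace Groth.Agent.Lib.Helper6.LimSp

section General

variable {C : Type*} [Category C]

/-- The kernel pair of `a` maps to the kernel pair of `a' = a ≫ g` as the base change of the diagonal of `g`. -/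
theorem isPullback_kerPair {Y T T' K K' G : C} (a : Y ⟶ T) (g : T ⟶ T') (a' : Y ⟶ T') (h : a ≫ g = a')
    {p1 p2 : K ⟶ Y} (hK : IsPullback p1 p2 a a) {q1 q2 : K' ⟶ Y} (hK' : IsPullback q1 q2 a' a')
    {r1 r2 : G ⟶ T} (hG : IsPullback r1 r2 g g) (δ : T ⟶ G) (hδ1 : δ ≫ r1 = 𝟙 T) (hδ2 : δ ≫ r2 = 𝟙 T)
    (k : K ⟶ K') (hk1 : k ≫ q1 = p1) (hk2 : k ≫ q2 = p2)
    (l : K' ⟶ G) (hl1 : l ≫ r1 = q1 ≫ a) (hl2 : l ≫ r2 = q2 ≫ a) :
    IsPullback (p1 ≫ a) k δ l := by
  have comm : (p1 ≫ a) ≫ δ = k ≫ l := by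
    apply hG.hom_ext
    · rw [Category.assoc, hδ1, Category.comp_id, Category.assoc, hl1, ← Category.assoc, hk1]
    · rw [Category.assoc, hδ2, Category.comp_id, Category.assoc, hl2, ← Category.assoc, hk2, hK.w]
  have key : ∀ s : PullbackCone δ l, s.fst = s.snd ≫ q1 ≫ a ∧ s.fst = s.snd ≫ q2 ≫ a := fun s => by
    constructor
    · calc s.fst = (s.fst ≫ δ) ≫ r1 := by rw [Category.assoc, hδ1, Category.comp_id]
        _ = (s.snd ≫ l) ≫ r1 := by rw [s.condition]
        _ = _ := by rw [Category.assoc, hl1]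
    · calc s.fst = (s.fst ≫ δ) ≫ r2 := by rw [Category.assoc, hδ2, Category.comp_id]
        _ = (s.snd ≫ l) ≫ r2 := by rw [s.condition]
        _ = _ := by rw [Category.assoc, hl2]
  have hw : ∀ s : PullbackCone δ l, (s.snd ≫ q1) ≫ a = (s.snd ≫ q2) ≫ a := fun s => by
    rw [Category.assoc, Category.assoc, ← (key s).1, ← (key s).2]
  refine ⟨⟨comm⟩, ⟨PullbackCone.IsLimit.mk comm
    (fun s => hK.lift (s.snd ≫ q1) (s.snd ≫ q2) (hw s)) ?_ ?_ ?_⟩⟩
  · intro s
    rw [← Category.assoc, hK.lift_fst, Category.assoc]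
    exact (key s).1.symm
  · intro s
    apply hK'.hom_ext
    · rw [Category.assoc, hk1, hK.lift_fst]
    · rw [Category.assoc, hk2, hK.lift_snd]
  · intro s m hm1 hm2
    apply hK.hom_ext
    · rw [hK.lift_fst, ← hm2, Category.assoc, hk1]
    · rw [hK.lift_snd, ← hm2, Category.assoc, hk2]

variable [HasPullbacks C]

theorem kp_lift_id {Y T : C} (f : Y ⟶ T) (w : pullback.fst f f ≫ f = pullback.snd f f ≫ f) :
    pullback.lift (pullback.fst f f) (pullback.snd f f) w = 𝟙 (pullback f f) := by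
  apply pullback.hom_ext
  · rw [pullback.lift_fst, Category.id_comp]
  · rw [pullback.lift_snd, Category.id_comp]

theorem kp_lift_comp {Y T T' T'' : C} (f : Y ⟶ T) (g : Y ⟶ T') (h : Y ⟶ T'')
    (w1 : pullback.fst f f ≫ h = pullback.snd f f ≫ h) (w2 : pullback.fst f f ≫ g = pullback.snd f f ≫ g)
    (w3 : pullback.fst g g ≫ h = pullback.snd g g ≫ h) :
    pullback.lift (pullback.fst f f) (pullback.snd f f) w1 =
      pullback.lift (pullback.fst f f) (pullback.snd f f) w2 ≫
        pullback.lift (pullback.fst g g) (pullback.snd g g) w3 := by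
  apply pullback.hom_ext
  · rw [pullback.lift_fst, Category.assoc, pullback.lift_fst, pullback.lift_fst]
  · rw [pullback.lift_snd, Category.assoc, pullback.lift_snd, pullback.lift_snd]

variable {I : Type*} [Category I] (D : I ⥤ C) {Y : C} (yi : ∀ i, Y ⟶ D.obj i)
    (hyi : ∀ ⦃i j : I⦄ (φ : i ⟶ j), yi i ≫ D.map φ = yi j)

/-- The functor of kernel pairs of a compatible family of maps out of a fixed object. -/
noncomputable def kerPairFunctor : I ⥤ C where
  obj i := pullback (yi i) (yi i)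
  map {i j} φ := pullback.lift (pullback.fst (yi i) (yi i)) (pullback.snd (yi i) (yi i))
    (by rw [← hyi φ, pullback.condition_assoc])
  map_id i := kp_lift_id _ _
  map_comp φ ψ := kp_lift_comp _ _ _ _ _ _

noncomputable def kpFst (j : I) : (kerPairFunctor D yi hyi).obj j ⟶ Y := pullback.fst (yi j) (yi j)

noncomputable def kpSnd (j : I) : (kerPairFunctor D yi hyi).obj j ⟶ Y := pullback.snd (yi j) (yi j)

noncomputable def kpDiag (j : I) : Y ⟶ (kerPairFunctor D yi hyi).obj j := pullback.diagonal (yi j)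

theorem kp_isPullback (j : I) : IsPullback (kpFst D yi hyi j) (kpSnd D yi hyi j) (yi j) (yi j) :=
  IsPullback.of_hasPullback (yi j) (yi j)

theorem kpDiag_fst (j : I) : kpDiag D yi hyi j ≫ kpFst D yi hyi j = 𝟙 Y := pullback.diagonal_fst (yi j)

theorem kpDiag_snd (j : I) : kpDiag D yi hyi j ≫ kpSnd D yi hyi j = 𝟙 Y := pullback.diagonal_snd (yi j)

theorem kp_map_fst ⦃i j : I⦄ (φ : i ⟶ j) :
    (kerPairFunctor D yi hyi).map φ ≫ kpFst D yi hyi j = kpFst D yi hyi i :=
  pullback.lift_fst _ _ _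

theorem kp_map_snd ⦃i j : I⦄ (φ : i ⟶ j) :
    (kerPairFunctor D yi hyi).map φ ≫ kpSnd D yi hyi j = kpSnd D yi hyi i :=
  pullback.lift_snd _ _ _

theorem kp_hom_ext {j : I} {T : C} {a b : T ⟶ (kerPairFunctor D yi hyi).obj j}
    (h1 : a ≫ kpFst D yi hyi j = b ≫ kpFst D yi hyi j) (h2 : a ≫ kpSnd D yi hyi j = b ≫ kpSnd D yi hyi j) :
    a = b :=
  (kp_isPullback D yi hyi j).hom_ext h1 h2

theorem kp_condition (j : I) : kpFst D yi hyi j ≫ yi j = kpSnd D yi hyi j ≫ yi j :=
  (kp_isPullback D yi hyi j).w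

theorem kpDiag_isIso_iff (j : I) : IsIso (kpDiag D yi hyi j) ↔ Mono (yi j) :=
  pullback.isIso_diagonal_iff (yi j)

theorem kp_uniq (j : I) {T : C} (m : T ⟶ Y) (x : T ⟶ (kerPairFunctor D yi hyi).obj j)
    (h : m ≫ kpDiag D yi hyi j = x) : m = x ≫ kpFst D yi hyi j := by
  rw [← h, Category.assoc, kpDiag_fst, Category.comp_id]

/-- A compatible family of maps into the kernel pairs of a jointly monic family factors through the diagonals. -/
theorem kerPair_exists_lift [IsCofiltered I]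
    (hmono : ∀ ⦃T : C⦄ (a b : T ⟶ Y), (∀ i, a ≫ yi i = b ≫ yi i) → a = b) (i₁ : I)
    {T : C} (σ : ∀ j, T ⟶ (kerPairFunctor D yi hyi).obj j)
    (hσ : ∀ ⦃j k : I⦄ (φ : k ⟶ j), σ k ≫ (kerPairFunctor D yi hyi).map φ = σ j) (j : I) :
    σ j = (σ i₁ ≫ kpFst D yi hyi i₁) ≫ kpDiag D yi hyi j := by
  have h1 : ∀ ⦃j k : I⦄ (φ : k ⟶ j), σ j ≫ kpFst D yi hyi j = σ k ≫ kpFst D yi hyi k :=
    fun j k φ => by rw [← hσ φ, Category.assoc, kp_map_fst]
  have h2 : ∀ ⦃j k : I⦄ (φ : k ⟶ j), σ j ≫ kpSnd D yi hyi j = σ k ≫ kpSnd D yi hyi k :=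
    fun j k φ => by rw [← hσ φ, Category.assoc, kp_map_snd]
  have h1' : ∀ j k : I, σ j ≫ kpFst D yi hyi j = σ k ≫ kpFst D yi hyi k := fun j k =>
    (h1 (IsCofiltered.minToLeft j k)).trans (h1 (IsCofiltered.minToRight j k)).symm
  have h2' : ∀ j k : I, σ j ≫ kpSnd D yi hyi j = σ k ≫ kpSnd D yi hyi k := fun j k =>
    (h2 (IsCofiltered.minToLeft j k)).trans (h2 (IsCofiltered.minToRight j k)).symm
  have hab : σ i₁ ≫ kpFst D yi hyi i₁ = σ i₁ ≫ kpSnd D yi hyi i₁ := by
    apply hmono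
    intro i
    rw [h1' i₁ i, h2' i₁ i, Category.assoc, Category.assoc, kp_condition]
  apply kp_hom_ext
  · rw [Category.assoc, kpDiag_fst, Category.comp_id]
    exact h1' j i₁
  · rw [Category.assoc, kpDiag_snd, Category.comp_id, hab]
    exact h2' j i₁

/-- The cone of diagonals over the functor of kernel pairs. -/
noncomputable def kerPairCone : Cone (kerPairFunctor D yi hyi) where
  pt := Y
  π :=
    { app := fun i => kpDiag D yi hyi i
      naturality := fun i j φ => by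
        have h : kpDiag D yi hyi j = kpDiag D yi hyi i ≫ (kerPairFunctor D yi hyi).map φ := by
          apply kp_hom_ext
          · rw [Category.assoc, kp_map_fst, kpDiag_fst, kpDiag_fst]
          · rw [Category.assoc, kp_map_snd, kpDiag_snd, kpDiag_snd]
        exact (Category.id_comp _).trans h }

/-- For a jointly monic family over a cofiltered category, the cone of diagonals is a limit cone. -/
noncomputable def kerPairConeIsLimit [IsCofiltered I]
    (hmono : ∀ ⦃T : C⦄ (a b : T ⟶ Y), (∀ i, a ≫ yi i = b ≫ yi i) → a = b) (i₁ : I) :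
    IsLimit (kerPairCone D yi hyi) where
  lift s := s.π.app i₁ ≫ kpFst D yi hyi i₁
  fac s j := (kerPair_exists_lift D yi hyi hmono i₁ (T := s.pt) (fun j => s.π.app j) (fun j k φ => s.w φ) j).symm
  uniq s m hm := kp_uniq D yi hyi i₁ m (s.π.app i₁) (hm i₁)

end General

variable {S : Scheme.{u}}

/-- A jointly monic compatible family of locally finite type maps from a quasi-compact algebraic space into a cofiltered
system of quasi-separated algebraic spaces with affine transition maps is eventually monic. -/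
theorem mono_stage (S : Scheme.{u}) [QuasiSeparatedSpace S] {I : Type u} [SmallCategory I] [IsCofiltered I]
    (D : I ⥤ AlgSp.Sp S) (hD : ∀ i, AlgSp.IsAlgSpace (D.obj i))
    (hDa : ∀ (i j : I) (φ : i ⟶ j), AlgSp.IsAffineMor (D.map φ))
    (hqs : ∀ i, AlgSp.IsQuasiSeparatedSp (D.obj i))
    (Y : AlgSp.Space S) (hYqc : AlgSp.IsQuasiCompactSp Y.obj) (yi : ∀ i, Y.obj ⟶ D.obj i)
    (hyi : ∀ ⦃i j : I⦄ (φ : i ⟶ j), yi i ≫ D.map φ = yi j)
    (hmono : ∀ ⦃T : Sp S⦄ (a b : T ⟶ Y.obj), (∀ i, a ≫ yi i = b ≫ yi i) → a = b)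
    (hlft : ∀ i, LocP @LocallyOfFiniteType (yi i)) (i₁ : I) :
    ∃ i₀ : I, ∀ (i : I) (_ : i ⟶ i₀), Mono (yi i) := by
  have hDsep : ∀ ⦃i j : I⦄ (φ : i ⟶ j), RepWith @IsClosedImmersion (pullback.diagonal (D.map φ)) :=
    fun i j φ => Groth.Agent.Lib.Helper17.isSeparatedMor_of_isAffineMor (hD i).diag (hDa i j φ)
  have hDc' : ∀ (i j : I) (φ : i ⟶ j), RepWith @IsClosedImmersion ((kerPairFunctor D yi hyi).map φ) :=
    fun i j φ => by
      have hG := IsPullback.of_hasPullback (D.map φ) (D.map φ)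
      have hw : (kpFst D yi hyi j ≫ yi i) ≫ D.map φ = (kpSnd D yi hyi j ≫ yi i) ≫ D.map φ := by
        rw [Category.assoc, Category.assoc, hyi φ, kp_condition]
      have sq := isPullback_kerPair (yi i) (D.map φ) (yi j) (hyi φ) (kp_isPullback D yi hyi i)
        (kp_isPullback D yi hyi j) hG (pullback.diagonal (D.map φ)) (pullback.diagonal_fst _)
        (pullback.diagonal_snd _) ((kerPairFunctor D yi hyi).map φ)
        (kp_map_fst D yi hyi φ) (kp_map_snd D yi hyi φ)
        (hG.lift (kpFst D yi hyi j ≫ yi i) (kpSnd D yi hyi j ≫ yi i) hw)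
        (hG.lift_fst _ _ _) (hG.lift_snd _ _ _)
      exact (RepWith @IsClosedImmersion).of_isPullback sq (hDsep φ)
  have hD' : ∀ i, IsAlgSpace ((kerPairFunctor D yi hyi).obj i) := fun i =>
    isAlgSpace_of_isPullback Y.property (hD i).diag Y.property (kp_isPullback D yi hyi i)
  have hqc' : ∀ i, IsQuasiCompactSp ((kerPairFunctor D yi hyi).obj i) := fun i =>
    isQuasiCompactSp_of_isPullback (kp_isPullback D yi hyi i) hYqc hYqc (hqs i)
  let t' : kerPairFunctor D yi hyi ⟶ (Functor.const I).obj Y.obj :=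
    { app := fun i => kpFst D yi hyi i
      naturality := fun i j φ => (kp_map_fst D yi hyi φ).trans (Category.comp_id _).symm }
  have hft' : ∀ i, LocP @LocallyOfFiniteType (t'.app i) := fun i =>
    locP_of_isPullback etLocalST_locallyOfFiniteType Y.property (hD i)
      (kp_isPullback D yi hyi i).flip (hlft i)
  have hid : LocP @LocallyOfFinitePresentation (𝟙 Y.obj) :=
    locP_mono (fun _ _ f hf => by
      have : Etale f := hf
      exact (inferInstance : LocallyOfFinitePresentation f)) (locP_etale_id Y.property)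
  have hX' : LocP @LocallyOfFinitePresentation ((kerPairCone D yi hyi).π.app i₁ ≫ t'.app i₁) :=
    (congrArg (fun f : Y.obj ⟶ Y.obj => LocP @LocallyOfFinitePresentation f) (kpDiag_fst D yi hyi i₁)).mpr hid
  obtain ⟨i₀, hi₀⟩ := main10011 S Y (kerPairFunctor D yi hyi) hD' t' hDc' (kerPairCone D yi hyi)
    (kerPairConeIsLimit D yi hyi hmono i₁) hqc' hft' i₁ hX'
  refine ⟨i₀, fun i φ => ?_⟩
  have h : IsIso (kpDiag D yi hyi i) := hi₀ i φ
  exact (kpDiag_isIso_iff D yi hyi i).1 h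

theorem main10012 (S : Scheme.{u}) [QuasiSeparatedSpace S] {I : Type u} [SmallCategory I] [IsCofiltered I]
    (B : AlgSp.Space S) (D : I ⥤ AlgSp.Sp S) (hD : ∀ i, AlgSp.IsAlgSpace (D.obj i))
    (t : D ⟶ (Functor.const I).obj B.obj)
    (hDa : ∀ (i j : I) (φ : i ⟶ j), AlgSp.IsAffineMor (D.map φ))
    (c : Cone D) (hc : IsLimit c)
    (hqs : ∀ i, AlgSp.IsQuasiSeparatedSp (D.obj i))
    (Y : AlgSp.Space S) (hYqc : AlgSp.IsQuasiCompactSp Y.obj) (y : Y.obj ⟶ c.pt) [Mono y] (i₁ : I)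
    (hYB : AlgSp.LocP @LocallyOfFiniteType (y ≫ c.π.app i₁ ≫ t.app i₁)) :
    ∃ i₀ : I, ∀ (i : I) (_ : i ⟶ i₀), Mono (y ≫ c.π.app i) := by
  let π : ∀ j, c.pt ⟶ D.obj j := fun j => c.π.app j
  have hπw : ∀ ⦃j k : I⦄ (φ : k ⟶ j), π k ≫ D.map φ = π j := fun j k φ => c.w φ
  let τ : ∀ j, D.obj j ⟶ B.obj := fun j => t.app j
  have hτ : ∀ ⦃j k : I⦄ (φ : k ⟶ j), D.map φ ≫ τ j = τ k := fun j k φ =>
    (t.naturality φ).trans (Category.comp_id _)
  have h1 : ∀ ⦃j k : I⦄ (φ : k ⟶ j), π k ≫ τ k = π j ≫ τ j := fun j k φ => by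
    rw [← hπw φ, Category.assoc, hτ φ]
  have hconn : ∀ i, π i ≫ τ i = π i₁ ≫ τ i₁ := fun i =>
    (h1 (IsCofiltered.minToLeft i i₁)).symm.trans (h1 (IsCofiltered.minToRight i i₁))
  have hlft : ∀ i, LocP @LocallyOfFiniteType (y ≫ π i) := fun i => by
    have h2 : LocP @LocallyOfFiniteType ((y ≫ π i) ≫ τ i) := by
      rw [Category.assoc, hconn i]
      exact hYB
    exact Groth.Agent.Lib.Helper17.locP_of_comp_cancel etLocalST_locallyOfFiniteType
      (fun A B C m w h => by
        have h1 : LocallyOfFiniteType (m ≫ w) := h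
        exact locallyOfFiniteType_of_comp m w) B.property (y ≫ π i) (τ i) h2
  have hmono : ∀ ⦃T : Sp S⦄ (a b : T ⟶ Y.obj), (∀ i, a ≫ (y ≫ π i) = b ≫ (y ≫ π i)) → a = b :=
    fun T a b h => by
      rw [← cancel_mono y]
      apply hc.hom_ext
      intro i
      have := h i
      rw [← Category.assoc, ← Category.assoc] at this
      exact this
  have hyi : ∀ ⦃i j : I⦄ (φ : i ⟶ j), (y ≫ π i) ≫ D.map φ = y ≫ π j := fun i j φ => by
    rw [Category.assoc, hπw φ]
  exact mono_stage S D hD hDa hqs Y hYqc (fun i => y ≫ π i) hyi hmono hlft i₁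

end Groth.Agent.Lib.Helper6.LimSp
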