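import Mathlib
import Groth.Agent.Lib.Helper6.LimSp5
import Groth.Agent.Lib.Helper16.QuasiCompactMor
import Groth.Agent.Lib.Helper16.DenseFin3
import Groth.Agent.Lib.Helper16.LocPInst
import Groth.Agent.Lib.Helper16.SmoothEt

/-!
# Helper library (helper6): descending source-and-target local properties along limits of algebraic spaces

* `paste_lift₁`, `paste_lift₂`, `P_of_base_sq`: pasting lemmas for pullback squares;
* `descend_locP`: a property `P` of morphisms of schemes, etale local on source and target, which descends along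
  cofiltered limits of affine schemes (for base changes of morphisms of finite presentation), descends along
  cofiltered limits of algebraic spaces with affine transition maps.
-/

set_option autoImplicit false
universe u
open CategoryTheory CategoryTheory.Limits AlgebraicGeometry
open AlgSp Groth.Agent.Lib.Helper16

namespace Groth.Agent.Lib.Helper6.LimSp

section General

variable {C : Type*} [Category C]

/-- A chart of the base change, from a chart of the base: the induced square is a pullback. -/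
theorem paste_lift₁ {Y Y₀ B' B₀ V V' : C} {pY : Y ⟶ Y₀} {qY : Y ⟶ B'} {b₀ : Y₀ ⟶ B₀} {π : B' ⟶ B₀}
    (hY : IsPullback pY qY b₀ π) {α : V ⟶ B'} {vp : V ⟶ V'} {v' : V' ⟶ Y₀}
    (sqL : IsPullback α vp π (v' ≫ b₀)) :
    ∃ b : V ⟶ Y, b ≫ qY = α ∧ IsPullback b vp pY v' := by
  have w : (vp ≫ v') ≫ b₀ = α ≫ π := by
    rw [Category.assoc]; exact sqL.w.symm
  refine ⟨hY.lift (vp ≫ v') α w, hY.lift_snd _ _ _, ?_⟩
  have big : IsPullback vp (hY.lift (vp ≫ v') α w ≫ qY) (v' ≫ b₀) π := by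
    rw [hY.lift_snd]; exact sqL.flip
  exact (IsPullback.of_bot big (hY.lift_fst _ _ _).symm hY).flip

/-- A chart of the base change of a morphism, from a chart diagram of the morphism. -/
theorem paste_lift₂ {X X₀ Y Y₀ U U₀ V V' : C} {pX : X ⟶ X₀} {f : X ⟶ Y} {f₀ : X₀ ⟶ Y₀} {pY : Y ⟶ Y₀}
    (hX : IsPullback pX f f₀ pY) {b : V ⟶ Y} {vp : V ⟶ V'} {v' : V' ⟶ Y₀} (sqB : IsPullback b vp pY v')
    {up : U ⟶ U₀} {hV : U ⟶ V} {h' : U₀ ⟶ V'} (sqA : IsPullback up hV h' vp)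
    (a₀ : U₀ ⟶ X₀) (hcomm : a₀ ≫ f₀ = h' ≫ v') :
    ∃ a : U ⟶ X, a ≫ f = hV ≫ b ∧ IsPullback a up pX a₀ := by
  have w : (up ≫ a₀) ≫ f₀ = (hV ≫ b) ≫ pY := by
    simp only [Category.assoc]
    rw [hcomm, sqB.w, reassoc_of% sqA.w]
  refine ⟨hX.lift (up ≫ a₀) (hV ≫ b) w, hX.lift_snd _ _ _, ?_⟩
  have big : IsPullback up (hX.lift (up ≫ a₀) (hV ≫ b) w ≫ f) (a₀ ≫ f₀) pY := by
    rw [hX.lift_snd, hcomm]
    exact sqA.paste_vert sqB.flip
  exact (IsPullback.of_bot big (hX.lift_fst _ _ _).symm hX).flip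

/-- Transport of a base change stable property between a pullback and a pullback along a factorization. -/
theorem P_of_base_sq (P : MorphismProperty C) [P.IsStableUnderBaseChange]
    {Xi Yi X₀ Y₀ U V : C} {pX : Xi ⟶ X₀} {fi : Xi ⟶ Yi} {f₀ : X₀ ⟶ Y₀} {pY : Yi ⟶ Y₀}
    (hX : IsPullback pX fi f₀ pY) {fst : U ⟶ X₀} {snd : U ⟶ V} {q : V ⟶ Y₀} (sq : IsPullback fst snd f₀ q)
    (ρ : V ⟶ Yi) (hρ : ρ ≫ pY = q) (hfi : P fi) : P snd := by
  subst hρ
  have w : fst ≫ f₀ = (snd ≫ ρ) ≫ pY := by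
    rw [Category.assoc]; exact sq.w
  have big : IsPullback (hX.lift fst (snd ≫ ρ) w ≫ pX) snd f₀ (ρ ≫ pY) := by
    rw [hX.lift_fst]; exact sq
  have left := IsPullback.of_right big (hX.lift_snd _ _ _) hX
  exact MorphismProperty.of_isPullback (P := P) left hfi

end General

variable {S : Scheme.{u}}

/-- Descent of a source-and-target etale local property along a cofiltered limit of algebraic spaces with affine
transition maps, from the corresponding statement for affine schemes. -/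
theorem descend_locP {P : MorphismProperty Scheme.{u}} (hP : EtLocalST P)
    (hdesc : ∀ {J : Type u} [SmallCategory J] [IsCofiltered J] (E : J ⥤ Scheme.{u}) (cE : Cone E)
      (_ : IsLimit cE) (_ : ∀ (i j : J) (f : i ⟶ j), IsAffineHom (E.map f)) (j₀ : J)
      (_ : IsAffine (E.obj j₀)) {X₀ Y₀ : Scheme.{u}} (f₀ : X₀ ⟶ Y₀) (g₀ : Y₀ ⟶ E.obj j₀)
      (_ : IsAffine X₀) (_ : IsAffine Y₀) (_ : LocallyOfFinitePresentation f₀)
      {X Y : Scheme.{u}} (f : X ⟶ Y) (g : Y ⟶ cE.pt) (qY : Y ⟶ Y₀) (qX : X ⟶ X₀)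
      (_ : IsPullback qY g g₀ (cE.π.app j₀)) (_ : IsPullback qX f f₀ qY), P f →
      ∃ (i : J) (φ : i ⟶ j₀) (Xi Yi : Scheme.{u}) (fi : Xi ⟶ Yi) (gi : Yi ⟶ E.obj i) (pY : Yi ⟶ Y₀)
        (pX : Xi ⟶ X₀), IsPullback pY gi g₀ (E.map φ) ∧ IsPullback pX fi f₀ pY ∧ P fi)
    [QuasiSeparatedSpace S] {I : Type u} [SmallCategory I] [IsCofiltered I]
    (D : I ⥤ AlgSp.Sp S) (hD : ∀ i, AlgSp.IsAlgSpace (D.obj i))
    (hDa : ∀ (i j : I) (φ : i ⟶ j), AlgSp.IsAffineMor (D.map φ))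
    (c : Cone D) (hc : IsLimit c) (i₀ : I)
    (X₀ Y₀ : AlgSp.Space S) (f₀ : X₀.obj ⟶ Y₀.obj) (b₀ : Y₀.obj ⟶ D.obj i₀)
    (hXqc : AlgSp.IsQuasiCompactSp X₀.obj)
    (hYqc : AlgSp.IsQuasiCompactSp Y₀.obj) (hYqs : AlgSp.IsQuasiSeparatedSp Y₀.obj)
    (X Y : AlgSp.Sp S) (f : X ⟶ Y) (pY : Y ⟶ Y₀.obj) (qY : Y ⟶ c.pt)
    (hY : IsPullback pY qY b₀ (c.π.app i₀)) (pX : X ⟶ X₀.obj) (hX : IsPullback pX f f₀ pY)
    (hf : AlgSp.LocP P f) (hf₀ : AlgSp.LocP @LocallyOfFinitePresentation f₀) :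
    ∃ (i : I) (φ : i ⟶ i₀), ∀ (Xi Yi : AlgSp.Sp S) (fi : Xi ⟶ Yi) (pYi : Yi ⟶ Y₀.obj) (qYi : Yi ⟶ D.obj i)
      (_ : IsPullback pYi qYi b₀ (D.map φ)) (pXi : Xi ⟶ X₀.obj) (_ : IsPullback pXi fi f₀ pYi),
      AlgSp.LocP P fi := by
  have hPbc : P.IsStableUnderBaseChange := hP.baseChange
  -- charts of `Y₀` and of `X₀ ×_{Y₀} V₀`
  obtain ⟨V₀, v, hV₀aff, hve, hvs⟩ := DenseFin.exists_affine_chart_of_isQuasiCompactSp hYqc
  have hV₀aff' : IsAffine V₀.left := hV₀aff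
  have sqW := IsPullback.of_hasPullback f₀ v
  have hV₀qc : IsQuasiCompactSp ((yon S).obj V₀) := isQuasiCompactSp_yon_of_compactSpace V₀
  have hW₀qc : IsQuasiCompactSp (pullback f₀ v) := isQuasiCompactSp_of_isPullback sqW hXqc hV₀qc hYqs
  obtain ⟨U₀, u, hU₀aff, hue, hus⟩ := DenseFin.exists_affine_chart_of_isQuasiCompactSp hW₀qc
  have hU₀aff' : IsAffine U₀.left := hU₀aff
  obtain ⟨h₀, hh₀⟩ : ∃ h₀ : U₀ ⟶ V₀, (yon S).map h₀ = u ≫ pullback.snd f₀ v := (yon S).map_surjective _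
  obtain ⟨a₀, ha₀⟩ : ∃ a₀ : (yon S).obj U₀ ⟶ X₀.obj, a₀ = u ≫ pullback.fst f₀ v := ⟨_, rfl⟩
  have ha₀e : RepWith @Etale a₀ := by
    rw [ha₀]
    exact (RepWith @Etale).comp_mem _ _ hue ((RepWith @Etale).of_isPullback sqW.flip hve)
  have ha₀s : RepWith @Surjective a₀ := by
    rw [ha₀]
    exact (RepWith @Surjective).comp_mem _ _ hus ((RepWith @Surjective).of_isPullback sqW.flip hvs)
  have hcomm₀ : a₀ ≫ f₀ = (yon S).map h₀ ≫ v := by
    rw [ha₀, hh₀, Category.assoc, Category.assoc, pullback.condition]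
  have hlfp : LocallyOfFinitePresentation h₀.left := hf₀ a₀ v h₀ ha₀e hve hcomm₀
  -- the system of charts of the stages
  obtain ⟨hc'⟩ := isLimit_whisker_over D c hc i₀
  have ht : IsTerminal (Over.mk (𝟙 i₀)) := Over.mkIdTerminal (X := i₀)
  obtain ⟨L⟩ := nonempty_limChart ht (Over.forget i₀ ⋙ D) (fun j => hD j.left)
    (fun i j φ => hDa _ _ φ.left) (c.whisker (Over.forget i₀)) hc' (v ≫ b₀)
  have hfrom : ∀ j : Over i₀, (ht.from j).left = j.hom := fun j =>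
    (Category.comp_id _).symm.trans (Over.w (ht.from j))
  have hisoD : IsIso ((Over.forget i₀ ⋙ D).map (ht.from (Over.mk (𝟙 i₀)))) := by
    rw [ht.hom_ext (ht.from (Over.mk (𝟙 i₀))) (𝟙 _)]
    infer_instance
  have hpt : IsIso (L.p (Over.mk (𝟙 i₀))) := by
    have : IsIso ((yon S).map (L.p (Over.mk (𝟙 i₀)))) :=
      IsPullback.isIso_snd_of_isIso (L.sq (Over.mk (𝟙 i₀))) hisoD
    exact isIso_of_reflects_iso (L.p (Over.mk (𝟙 i₀))) (yon S)
  have hptl : IsIso (L.p (Over.mk (𝟙 i₀))).left :=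
    inferInstanceAs (IsIso ((Over.forget S).map (L.p (Over.mk (𝟙 i₀)))))
  obtain ⟨g₀s, hg₁, hg₂⟩ : ∃ g₀s : V₀.left ⟶ (L.E.obj (Over.mk (𝟙 i₀))).left,
      (L.p (Over.mk (𝟙 i₀))).left ≫ g₀s = 𝟙 _ ∧ g₀s ≫ (L.p (Over.mk (𝟙 i₀))).left = 𝟙 _ :=
    ⟨inv (L.p (Over.mk (𝟙 i₀))).left, IsIso.hom_inv_id _, IsIso.inv_hom_id _⟩
  have hg₀iso : IsIso g₀s := ⟨⟨(L.p (Over.mk (𝟙 i₀))).left, hg₂, hg₁⟩⟩
  -- the limit stage
  obtain ⟨pinf, hpinf⟩ : ∃ pinf : L.cE.pt ⟶ V₀,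
      pinf = L.cE.π.app (Over.mk (𝟙 i₀)) ≫ L.p (Over.mk (𝟙 i₀)) := ⟨_, rfl⟩
  have sqlim' : IsPullback L.fst ((yon S).map pinf) (c.π.app i₀) (v ≫ b₀) := by
    rw [hpinf]; exact L.sqlim
  have hpinfl : pinf.left ≫ g₀s = (L.cE.π.app (Over.mk (𝟙 i₀))).left := by
    rw [hpinf, Over.comp_left, Category.assoc, hg₁, Category.comp_id]
  obtain ⟨binf, -, sqBinf⟩ := paste_lift₁ hY sqlim'
  have sqAinf := (IsPullback.of_hasPullback h₀ pinf).map (yon S)
  obtain ⟨ainf, hainf, sqainf⟩ := paste_lift₂ hX sqBinf sqAinf a₀ hcomm₀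
  have hPinf : P (pullback.snd h₀ pinf).left :=
    hf ainf binf (pullback.snd h₀ pinf) ((RepWith @Etale).of_isPullback sqainf.flip ha₀e)
      ((RepWith @Etale).of_isPullback sqBinf.flip hve) hainf
  -- descent for schemes
  have hVt_aff : IsAffine ((L.E ⋙ Over.forget S).obj (Over.mk (𝟙 i₀))) := by
    have h1 : IsAffineHom (L.p (Over.mk (𝟙 i₀))).left := L.affp _
    show IsAffine (L.E.obj (Over.mk (𝟙 i₀))).left
    exact isAffine_of_isAffineHom (L.p (Over.mk (𝟙 i₀))).left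
  have hYs : IsPullback pinf.left (𝟙 L.cE.pt.left) g₀s (L.cE.π.app (Over.mk (𝟙 i₀))).left :=
    IsPullback.of_vert_isIso ⟨hpinfl.trans (Category.id_comp _).symm⟩
  have hXs : IsPullback (pullback.fst h₀ pinf).left (pullback.snd h₀ pinf).left h₀.left pinf.left :=
    isPullback_left_forget h₀ pinf
  obtain ⟨j, φ, Xi, Yi, fi, gi, pYs, pXs, hYj, hXj, hPfi⟩ :=
    hdesc (L.E ⋙ Over.forget S) ((Over.forget S).mapCone L.cE) L.hc₀ (fun i j f => L.aff f) (Over.mk (𝟙 i₀))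
      hVt_aff h₀.left g₀s hU₀aff' hV₀aff' hlfp
      (pullback.snd h₀ pinf).left (𝟙 L.cE.pt.left) pinf.left (pullback.fst h₀ pinf).left hYs hXs hPinf
  have hpj : (L.E.map φ).left ≫ (L.p (Over.mk (𝟙 i₀))).left = (L.p j).left :=
    congrArg CommaMorphism.left (L.hp φ)
  have w : (L.p j).left ≫ g₀s = 𝟙 (L.E.obj j).left ≫ (L.E.map φ).left := by
    rw [← hpj, Category.assoc, hg₁, Category.comp_id, Category.id_comp]
  have hρ : hYj.lift (L.p j).left (𝟙 (L.E.obj j).left) w ≫ pYs = (L.p j).left := hYj.lift_fst _ _ _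
  have hPj : P (pullback.snd h₀ (L.p j)).left :=
    P_of_base_sq P hXj (isPullback_left_forget h₀ (L.p j)) _ hρ hPfi
  -- the stage `j`
  refine ⟨j.left, j.hom, ?_⟩
  intro Xi' Yi' fi' pYi qYi hYi pXi hXi
  have sqLj : IsPullback (L.α.app j : (yon S).obj (L.E.obj j) ⟶ D.obj j.left) ((yon S).map (L.p j))
      (D.map j.hom) (v ≫ b₀) := by
    have h := L.sq j
    have e : (Over.forget i₀ ⋙ D).map (ht.from j) = D.map j.hom := congrArg (fun m => D.map m) (hfrom j)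
    rw [e] at h
    exact h
  obtain ⟨bj, -, sqBj⟩ := paste_lift₁ hYi sqLj
  have sqAj := (IsPullback.of_hasPullback h₀ (L.p j)).map (yon S)
  obtain ⟨aj, haj, sqaj⟩ := paste_lift₂ hXi sqBj sqAj a₀ hcomm₀
  exact locP_of_chart hP fi' aj bj (pullback.snd h₀ (L.p j))
    ((RepWith @Etale).of_isPullback sqaj.flip ha₀e) ((RepWith @Surjective).of_isPullback sqaj.flip ha₀s)
    ((RepWith @Etale).of_isPullback sqBj.flip hve) haj hPj

end Groth.Agent.Lib.Helper6.LimSp
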