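import Mathlib
import Groth.Agent.Lib.Helper6.LimSp6
import Groth.Agent.Lib.Helper12.ApproxOver
import Groth.Agent.Lib.Helper12.FpDescAff
import Groth.Agent.S2581
import Groth.Agent.S9192

/-!
# Helper library (helper6): finitely presented models of etale coverings of affine schemes

* `exists_etale_model_aux`: an etale surjective morphism of affine schemes to a cofiltered limit of affine schemes is
  the base change of an etale surjective morphism of affine schemes to a stage;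
* `exists_etale_model_of_limit`: the same for a limit of qcqs schemes with affine transition maps, affine limit;
* `exists_etale_model`: an etale surjective morphism `U ⟶ T` of affine schemes, `T` over a quasi-separated base `S`,
  is the base change of an etale surjective morphism `V' ⟶ Z` of affine schemes with `Z` of finite presentation
  over `S`.
-/

set_option autoImplicit false
universe u
open CategoryTheory CategoryTheory.Limits AlgebraicGeometry

namespace Groth.Agent.Lib.Helper6.LimSp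

section SchemeLevel

theorem exists_etale_model_aux {J : Type u} [SmallCategory J] [IsCofiltered J] (D : J ⥤ Scheme.{u}) (c : Cone D)
    (hc : IsLimit c) (haffD : ∀ j, IsAffine (D.obj j)) {U₀ : Scheme.{u}} (hU : IsAffine U₀) (u : U₀ ⟶ c.pt)
    (hue : Etale u) (hus : Surjective u) :
    ∃ (j : J) (V' : Scheme.{u}) (v : V' ⟶ D.obj j) (w : U₀ ⟶ V'),
      IsAffine V' ∧ Etale v ∧ Surjective v ∧ IsPullback w u v (c.π.app j) := by
  have : ∀ j, IsAffine (D.obj j) := haffD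
  have : IsAffine U₀ := hU
  have : Etale u := hue
  have : Surjective u := hus
  have hDaff : ∀ (i j : J) (f : i ⟶ j), IsAffineHom (D.map f) := fun i j f => inferInstance
  have : LocallyOfFinitePresentation u := inferInstance
  obtain ⟨j₁, U₁, h₁, g₁, hh₁, hU₁, sq₁⟩ :=
    Groth.Agent.Lib.Helper12.FpDescAff.exists_descend_of_isAffine D c hc u
  have : IsAffine U₁ := hU₁
  have : LocallyOfFinitePresentation h₁ := hh₁
  have hY : IsPullback (c.π.app j₁) (𝟙 c.pt) (𝟙 (D.obj j₁)) (c.π.app j₁) := by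
    obtain ⟨π₁, hπ₁⟩ : ∃ π₁ : c.pt ⟶ D.obj j₁, π₁ = c.π.app j₁ := ⟨_, rfl⟩
    have hY : IsPullback π₁ (𝟙 c.pt) (𝟙 (D.obj j₁)) π₁ := IsPullback.of_vert_isIso ⟨by simp⟩
    subst hπ₁
    exact hY
  -- etale at a stage
  obtain ⟨j₂, φ₂, X₂, Y₂, f₂, g₂, pY₂, pX₂, hY₂, hX₂, hf₂⟩ :=
    Groth.Agent.S9192.result D c hc j₁ h₁ (𝟙 (D.obj j₁)) u (𝟙 c.pt) (c.π.app j₁) g₁ hY sq₁
  have hg₂ : IsIso g₂ := hY₂.isIso_snd_of_isIso
  have big₂ : IsPullback pX₂ (f₂ ≫ g₂) h₁ (D.map φ₂) := by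
    have := hX₂.paste_vert hY₂
    rwa [Category.comp_id] at this
  have he₂ : Etale (f₂ ≫ g₂) := by
    have := hf₂
    infer_instance
  -- surjective at a stage
  have hqc₁ : QuasiCompact (h₁ ≫ 𝟙 (D.obj j₁)) := by rw [Category.comp_id]; infer_instance
  have hqs₁ : QuasiSeparated (h₁ ≫ 𝟙 (D.obj j₁)) := by rw [Category.comp_id]; infer_instance
  have hfp₁ : LocallyOfFinitePresentation (h₁ ≫ 𝟙 (D.obj j₁)) := by rw [Category.comp_id]; infer_instance
  obtain ⟨j₃, φ₃, X₃, Y₃, f₃, g₃, pY₃, pX₃, hY₃, hX₃, hf₃⟩ :=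
    Groth.Agent.S2581.result D c hc j₁ h₁ (𝟙 (D.obj j₁)) u (𝟙 c.pt) (c.π.app j₁) g₁ hY sq₁
  have hg₃ : IsIso g₃ := hY₃.isIso_snd_of_isIso
  have big₃ : IsPullback pX₃ (f₃ ≫ g₃) h₁ (D.map φ₃) := by
    have := hX₃.paste_vert hY₃
    rwa [Category.comp_id] at this
  have hs₃ : Surjective (f₃ ≫ g₃) := by
    have := hf₃
    infer_instance
  -- a common stage
  obtain ⟨j₄, a₂, a₃, hcomm⟩ := IsCofiltered.cospan φ₂ φ₃
  have sq₄ := IsPullback.of_hasPullback h₁ (D.map (a₂ ≫ φ₂))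
  have hve : Etale (pullback.snd h₁ (D.map (a₂ ≫ φ₂))) :=
    P_of_base_sq @Etale big₂ sq₄ (D.map a₂) (D.map_comp a₂ φ₂).symm he₂
  have hvs : Surjective (pullback.snd h₁ (D.map (a₂ ≫ φ₂))) :=
    P_of_base_sq @Surjective big₃ sq₄ (D.map a₃) (by rw [← D.map_comp, hcomm]) hs₃
  have hw : g₁ ≫ h₁ = (u ≫ c.π.app j₄) ≫ D.map (a₂ ≫ φ₂) := by
    rw [Category.assoc, c.w, sq₁.w]
  refine ⟨j₄, pullback h₁ (D.map (a₂ ≫ φ₂)), pullback.snd _ _, pullback.lift g₁ (u ≫ c.π.app j₄) hw,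
    inferInstance, hve, hvs, ?_⟩
  refine IsPullback.of_right ?_ (pullback.lift_snd _ _ _) sq₄
  rw [pullback.lift_fst, c.w]
  exact sq₁

theorem exists_etale_model_of_limit {I : Type u} [SmallCategory I] [IsCofiltered I] (D₀ : I ⥤ Scheme.{u})
    (c₀ : Cone D₀) (hc₀ : IsLimit c₀) (haff : ∀ (i j : I) (f : i ⟶ j), IsAffineHom (D₀.map f))
    (hcomp : ∀ i, CompactSpace (D₀.obj i)) (hqs : ∀ i, QuasiSeparatedSpace (D₀.obj i)) (hT : IsAffine c₀.pt)
    {U₀ : Scheme.{u}} (hU : IsAffine U₀) (u : U₀ ⟶ c₀.pt) (hue : Etale u) (hus : Surjective u) :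
    ∃ (i : I) (V' : Scheme.{u}) (v : V' ⟶ D₀.obj i) (w : U₀ ⟶ V'),
      IsAffine (D₀.obj i) ∧ IsAffine V' ∧ Etale v ∧ Surjective v ∧ IsPullback w u v (c₀.π.app i) := by
  have h1 : ∀ {i j : I} (f : i ⟶ j), IsAffineHom (D₀.map f) := fun f => haff _ _ f
  have h2 : ∀ i, CompactSpace (D₀.obj i) := hcomp
  have h3 : ∀ i, QuasiSeparatedSpace (D₀.obj i) := hqs
  have h4 : IsAffine c₀.pt := hT
  obtain ⟨l₀, hl₀⟩ := Scheme.exists_isAffine_of_isLimit D₀ c₀ hc₀
  have hl₀' : IsAffine (D₀.obj l₀) := hl₀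
  have haffD : ∀ j : Over l₀, IsAffine ((Over.forget l₀ ⋙ D₀).obj j) := fun j => by
    have : IsAffineHom (D₀.map j.hom) := haff _ _ j.hom
    exact isAffine_of_isAffineHom (D₀.map j.hom)
  obtain ⟨j, V', v, w, hV', hve, hvs, sq⟩ := exists_etale_model_aux (Over.forget l₀ ⋙ D₀)
    (c₀.whisker (Over.forget l₀)) ((Functor.Initial.isLimitWhiskerEquiv (Over.forget l₀) c₀).symm hc₀) haffD hU u
    hue hus
  exact ⟨j.left, V', v, w, haffD j, hV', hve, hvs, sq⟩

theorem exists_etale_model {S : Scheme.{u}} [QuasiSeparatedSpace S] {T₀ U₀ : Scheme.{u}} (tS : T₀ ⟶ S)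
    (hT : IsAffine T₀) (hU : IsAffine U₀) (u : U₀ ⟶ T₀) (hue : Etale u) (hus : Surjective u) :
    ∃ (Z V' : Scheme.{u}) (zS : Z ⟶ S) (z : T₀ ⟶ Z) (v : V' ⟶ Z) (w : U₀ ⟶ V'),
      z ≫ zS = tS ∧ IsAffine Z ∧ IsAffine V' ∧ LocallyOfFinitePresentation zS ∧ Etale v ∧ Surjective v ∧
      IsPullback w u v z := by
  have : IsAffine T₀ := hT
  obtain ⟨Λ, iΛ1, iΛ2, iΛ3, DT, π, -, hlim, hprops, haff⟩ :=
    Groth.Agent.Lib.Helper12.ApproxOver.exists_approx_over tS
  have : IsCofiltered Λᵒᵖ := inferInstance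
  obtain ⟨i, V', v, w, hZ, hV', hve, hvs, sq⟩ := exists_etale_model_of_limit (DT ⋙ Over.forget S)
    ((Over.forget S).mapCone ({ pt := Over.mk tS, π := π } : Cone DT)) hlim (fun i j f => haff i j f)
    (fun i => (hprops i).2.2.2.1) (fun i => (hprops i).2.2.2.2) hT hU u hue hus
  exact ⟨(DT.obj i).left, V', (DT.obj i).hom, (π.app i).left, v, w, Over.w (π.app i), hZ, hV', (hprops i).1, hve, hvs,
    sq⟩

end SchemeLevel

end Groth.Agent.Lib.Helper6.LimSp
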