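import Mathlib
import Groth.Agent.Lib.Helper6.LimSp3
import Groth.Agent.Lib.Helper16.MonoDescent
import Groth.Agent.Lib.Helper16.Diagonal
import Groth.Agent.Lib.Helper16.QuasiCompactMor
import Groth.Agent.Lib.Helper5.SheafGrpQuot

/-!
# Helper library (helper6): morphisms from a limit of algebraic spaces to a scheme locally of finite presentation

* `over_exists_hom_eq`, `over_exists_factor`: Mathlib's results on morphisms from a cofiltered limit of schemes to a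
  scheme locally of finite type / presentation, for diagrams in `Over S`;
* `hom_descends_chart`, `hom_descends_terminal`: a morphism from the limit of a cofiltered system of quasi-compact
  and quasi-separated algebraic spaces with affine transition maps to a scheme locally of finite presentation over
  the base factors through a stage.
-/

set_option autoImplicit false
universe u
open CategoryTheory CategoryTheory.Limits AlgebraicGeometry
open AlgSp Groth.Agent.Lib.Helper16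

namespace Groth.Agent.Lib.Helper6.LimSp

variable {S : Scheme.{u}}

theorem over_exists_hom_eq {J : Type u} [SmallCategory J] [IsCofiltered J] (E : J ⥤ Over S) (cE : Cone E)
    (hc₀ : IsLimit ((Over.forget S).mapCone cE)) (haff : ∀ {j k : J} (m : j ⟶ k), IsAffineHom (E.map m).left)
    (hcomp : ∀ j, CompactSpace ↥(E.obj j).left) (Z : Over S) (hZ : LocallyOfFiniteType Z.hom)
    {i : J} (a b : E.obj i ⟶ Z) (hab : cE.π.app i ≫ a = cE.π.app i ≫ b) :
    ∃ (k : J) (m : k ⟶ i), E.map m ≫ a = E.map m ≫ b := by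
  have h1 : ∀ {j k : J} (m : j ⟶ k), IsAffineHom ((E ⋙ Over.forget S).map m) := fun m => haff m
  have h2 : ∀ j, CompactSpace ↥((E ⋙ Over.forget S).obj j) := fun j => hcomp j
  have h3 : LocallyOfFiniteType Z.hom := hZ
  obtain ⟨k, m, hk⟩ := Scheme.exists_hom_comp_eq_comp_of_locallyOfFiniteType (E ⋙ Over.forget S)
    { app := fun j => (E.obj j).hom } Z.hom _ hc₀ a.left b.left (Over.w a).symm (Over.w b).symm
    congr($(hab).left)
  exact ⟨k, m, Over.OverMorphism.ext hk⟩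

theorem over_exists_factor {J : Type u} [SmallCategory J] [IsCofiltered J] (E : J ⥤ Over S) (cE : Cone E)
    (hc₀ : IsLimit ((Over.forget S).mapCone cE)) (haff : ∀ {j k : J} (m : j ⟶ k), IsAffineHom (E.map m).left)
    (hcomp : ∀ j, CompactSpace ↥(E.obj j).left) (hqs : ∀ j, QuasiSeparatedSpace ↥(E.obj j).left) (Z : Over S)
    (hZ : LocallyOfFinitePresentation Z.hom) (a : cE.pt ⟶ Z) :
    ∃ (i : J) (g : E.obj i ⟶ Z), cE.π.app i ≫ g = a := by
  have h1 : ∀ {j k : J} (m : j ⟶ k), IsAffineHom ((E ⋙ Over.forget S).map m) := fun m => haff m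
  have h2 : ∀ j, CompactSpace ↥((E ⋙ Over.forget S).obj j) := fun j => hcomp j
  have h2' : ∀ j, QuasiSeparatedSpace ↥((E ⋙ Over.forget S).obj j) := fun j => hqs j
  have h3 : LocallyOfFinitePresentation Z.hom := hZ
  obtain ⟨i, g, hg1, hg2⟩ := Scheme.exists_π_app_comp_eq_of_locallyOfFinitePresentation (E ⋙ Over.forget S)
    { app := fun j => (E.obj j).hom } Z.hom _ hc₀ a.left (by ext j; simp)
  exact ⟨i, Over.homMk g hg2, Over.OverMorphism.ext hg1⟩

/-- Descent of a morphism to a scheme locally of finite type along the charts of a limit: if the morphism is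
defined on the chart of the terminal stage, it descends to a stage. -/
theorem hom_descends_chart [QuasiSeparatedSpace ↥S] {J : Type u} [SmallCategory J] [IsCofiltered J] {t : J}
    (ht : IsTerminal t) (D : J ⥤ Sp S) (hD : ∀ j, IsAlgSpace (D.obj j))
    (hDa : ∀ (i j : J) (φ : i ⟶ j), IsAffineMor (D.map φ)) (c : Cone D) (hc : IsLimit c)
    (hqs : IsQuasiSeparatedSp (D.obj t)) {U₀ : Over S} (hU₀ : CompactSpace ↥U₀.left)
    (g : (yon S).obj U₀ ⟶ D.obj t) (hge : RepWith @Etale g) (hgs : RepWith @Surjective g)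
    (L : LimChart ht D c g) (Z : Over S) (hZ : LocallyOfFiniteType Z.hom) (ψ : c.pt ⟶ (yon S).obj Z)
    (ζ₀ : U₀ ⟶ Z) (hζ : (yon S).map (L.cE.π.app t ≫ L.p t ≫ ζ₀) = L.fst ≫ ψ) :
    ∃ (k : J) (ψk : D.obj k ⟶ (yon S).obj Z), c.π.app k ≫ ψk = ψ := by
  have : CompactSpace ↥U₀.left := hU₀
  -- kernel pair of the chart
  obtain ⟨R₀, pr₂, pr₁', sqR⟩ := hge.rep g
  obtain ⟨pr₁, rfl⟩ := (yon S).map_surjective pr₁'
  have hR₀qc : IsQuasiCompactSp ((yon S).obj R₀) :=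
    isQuasiCompactSp_of_isPullback sqR (isQuasiCompactSp_yon_of_compactSpace U₀)
      (isQuasiCompactSp_yon_of_compactSpace U₀) hqs
  have hR₀ : CompactSpace ↥R₀.left := compactSpace_of_isQuasiCompactSp_yon R₀ hR₀qc
  obtain ⟨gR, hgR⟩ : ∃ gR : (yon S).obj R₀ ⟶ D.obj t, gR = (yon S).map pr₁ ≫ g := ⟨_, rfl⟩
  obtain ⟨LR⟩ := nonempty_limChart ht D hD hDa c hc gR
  have hLRcomp : ∀ j, CompactSpace ↥(LR.E.obj j).left := fun j => by
    have h1 : IsAffineHom (LR.p j).left := LR.affp j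
    exact QuasiCompact.compactSpace_of_compactSpace (LR.p j).left
  have key : ∀ (pr : R₀ ⟶ U₀), (yon S).map pr ≫ g = gR →
      (yon S).map (LR.cE.π.app t ≫ LR.p t ≫ pr ≫ ζ₀) = LR.fst ≫ ψ := by
    intro pr hpr
    have hw : LR.fst ≫ c.π.app t = (yon S).map (LR.cE.π.app t ≫ LR.p t ≫ pr) ≫ g :=
      calc LR.fst ≫ c.π.app t = (yon S).map (LR.cE.π.app t ≫ LR.p t) ≫ gR := LR.sqlim.w
        _ = (yon S).map (LR.cE.π.app t ≫ LR.p t) ≫ (yon S).map pr ≫ g := by rw [hpr]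
        _ = (yon S).map (LR.cE.π.app t ≫ LR.p t ≫ pr) ≫ g := by
          simp only [Functor.map_comp, Category.assoc]
    obtain ⟨σ, hσ1, hσ2⟩ : ∃ σ : (yon S).obj LR.cE.pt ⟶ (yon S).obj L.cE.pt, σ ≫ L.fst = LR.fst ∧
        σ ≫ (yon S).map (L.cE.π.app t ≫ L.p t) = (yon S).map (LR.cE.π.app t ≫ LR.p t ≫ pr) :=
      ⟨L.sqlim.lift _ _ hw, L.sqlim.lift_fst _ _ _, L.sqlim.lift_snd _ _ _⟩
    calc (yon S).map (LR.cE.π.app t ≫ LR.p t ≫ pr ≫ ζ₀)
        = (yon S).map (LR.cE.π.app t ≫ LR.p t ≫ pr) ≫ (yon S).map ζ₀ := by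
          simp only [Functor.map_comp, Category.assoc]
      _ = (σ ≫ (yon S).map (L.cE.π.app t ≫ L.p t)) ≫ (yon S).map ζ₀ := by rw [hσ2]
      _ = σ ≫ (yon S).map (L.cE.π.app t ≫ L.p t ≫ ζ₀) := by
          simp only [Functor.map_comp, Category.assoc]
      _ = σ ≫ L.fst ≫ ψ := by rw [hζ]
      _ = LR.fst ≫ ψ := by rw [← Category.assoc, hσ1]
  have hab : LR.cE.π.app t ≫ (LR.p t ≫ pr₁ ≫ ζ₀) = LR.cE.π.app t ≫ (LR.p t ≫ pr₂ ≫ ζ₀) := by
    apply (yon S).map_injective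
    rw [key pr₁ hgR.symm, key pr₂ (by rw [hgR]; exact sqR.w.symm)]
  obtain ⟨k, m, hk⟩ := over_exists_hom_eq LR.E LR.cE LR.hc₀ (fun {j k} m => LR.aff m) hLRcomp Z hZ _ _ hab
  have hk' : LR.p k ≫ pr₁ ≫ ζ₀ = LR.p k ≫ pr₂ ≫ ζ₀ := by
    rw [← LR.hp m]
    simp only [Category.assoc]
    exact hk
  -- clean versions of the chart maps at `k`
  obtain ⟨ak, hakE, hakS, hakw, hakfst⟩ : ∃ ak : (yon S).obj (L.E.obj k) ⟶ D.obj k, RepWith @Etale ak ∧
      RepWith @Surjective ak ∧ ak ≫ D.map (ht.from k) = (yon S).map (L.p k) ≫ g ∧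
      L.fst ≫ c.π.app k = (yon S).map (L.cE.π.app k) ≫ ak :=
    ⟨L.α.app k, (RepWith @Etale).of_isPullback (L.sq k).flip hge,
      (RepWith @Surjective).of_isPullback (L.sq k).flip hgs, (L.sq k).w, L.hfst k⟩
  obtain ⟨aRk, sqRk⟩ : ∃ aRk : (yon S).obj (LR.E.obj k) ⟶ D.obj k,
      IsPullback aRk ((yon S).map (LR.p k)) (D.map (ht.from k)) gR := ⟨LR.α.app k, LR.sq k⟩
  have hepi : Epi ak := epi_of_etale_surjective _ hakE hakS
  have heff : EffectiveEpi ak := Helper5.SheafGrpQuot.effectiveEpi_of_epi (AlgSp.J S) _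
  have hdesc : ∀ {W : Sp S} (x y : W ⟶ (yon S).obj (L.E.obj k)), x ≫ ak = y ≫ ak →
      x ≫ (yon S).map (L.p k ≫ ζ₀) = y ≫ (yon S).map (L.p k ≫ ζ₀) := by
    intro W x y hxy
    have hxy' : x ≫ ak ≫ D.map (ht.from k) = y ≫ ak ≫ D.map (ht.from k) := by
      rw [← Category.assoc, hxy, Category.assoc]
    have hx0 : (x ≫ (yon S).map (L.p k)) ≫ g = (y ≫ (yon S).map (L.p k)) ≫ g := by
      rw [Category.assoc, Category.assoc, ← hakw]
      exact hxy'
    obtain ⟨r, hr1, hr2⟩ : ∃ r : W ⟶ (yon S).obj R₀, r ≫ (yon S).map pr₁ = x ≫ (yon S).map (L.p k) ∧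
        r ≫ (yon S).map pr₂ = y ≫ (yon S).map (L.p k) :=
      ⟨sqR.lift _ _ hx0, sqR.lift_fst _ _ _, sqR.lift_snd _ _ _⟩
    have hs0 : (x ≫ ak) ≫ D.map (ht.from k) = r ≫ gR :=
      calc (x ≫ ak) ≫ D.map (ht.from k) = x ≫ ((yon S).map (L.p k) ≫ g) := by rw [Category.assoc, hakw]
        _ = (x ≫ (yon S).map (L.p k)) ≫ g := (Category.assoc _ _ _).symm
        _ = (r ≫ (yon S).map pr₁) ≫ g := by rw [hr1]
        _ = r ≫ gR := by rw [hgR, Category.assoc]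
    obtain ⟨s, -, hs2⟩ : ∃ s : W ⟶ (yon S).obj (LR.E.obj k), s ≫ aRk = x ≫ ak ∧
        s ≫ (yon S).map (LR.p k) = r :=
      ⟨sqRk.lift _ _ hs0, sqRk.lift_fst _ _ _, sqRk.lift_snd _ _ _⟩
    calc x ≫ (yon S).map (L.p k ≫ ζ₀) = (x ≫ (yon S).map (L.p k)) ≫ (yon S).map ζ₀ := by
          simp only [Functor.map_comp, Category.assoc]
      _ = (r ≫ (yon S).map pr₁) ≫ (yon S).map ζ₀ := by rw [hr1]
      _ = ((s ≫ (yon S).map (LR.p k)) ≫ (yon S).map pr₁) ≫ (yon S).map ζ₀ := by rw [hs2]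
      _ = s ≫ (yon S).map (LR.p k ≫ pr₁ ≫ ζ₀) := by simp only [Functor.map_comp, Category.assoc]
      _ = s ≫ (yon S).map (LR.p k ≫ pr₂ ≫ ζ₀) := by rw [hk']
      _ = ((s ≫ (yon S).map (LR.p k)) ≫ (yon S).map pr₂) ≫ (yon S).map ζ₀ := by
          simp only [Functor.map_comp, Category.assoc]
      _ = (r ≫ (yon S).map pr₂) ≫ (yon S).map ζ₀ := by rw [hs2]
      _ = (y ≫ (yon S).map (L.p k)) ≫ (yon S).map ζ₀ := by rw [hr2]
      _ = y ≫ (yon S).map (L.p k ≫ ζ₀) := by simp only [Functor.map_comp, Category.assoc]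
  obtain ⟨ψk, hψk⟩ : ∃ ψk : D.obj k ⟶ (yon S).obj Z, ak ≫ ψk = (yon S).map (L.p k ≫ ζ₀) :=
    ⟨EffectiveEpi.desc ak ((yon S).map (L.p k ≫ ζ₀)) (fun g₁ g₂ h => hdesc g₁ g₂ h), EffectiveEpi.fac _ _ _⟩
  have hfstE : RepWith @Etale L.fst := (RepWith @Etale).of_isPullback L.sqlim.flip hge
  have hfstS : RepWith @Surjective L.fst := (RepWith @Surjective).of_isPullback L.sqlim.flip hgs
  have hepi' : Epi L.fst := epi_of_etale_surjective _ hfstE hfstS
  have h1 : L.cE.π.app k ≫ L.p k = L.cE.π.app t ≫ L.p t := by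
    rw [← L.hp (ht.from k), ← Category.assoc, L.cE.w]
  have h1' : L.cE.π.app k ≫ L.p k ≫ ζ₀ = L.cE.π.app t ≫ L.p t ≫ ζ₀ := by
    rw [← Category.assoc, h1, Category.assoc]
  refine ⟨k, ψk, ?_⟩
  rw [← cancel_epi L.fst]
  calc L.fst ≫ c.π.app k ≫ ψk = (L.fst ≫ c.π.app k) ≫ ψk := (Category.assoc _ _ _).symm
    _ = ((yon S).map (L.cE.π.app k) ≫ ak) ≫ ψk := by rw [hakfst]
    _ = (yon S).map (L.cE.π.app k) ≫ (yon S).map (L.p k ≫ ζ₀) := by rw [Category.assoc, hψk]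
    _ = (yon S).map (L.cE.π.app t ≫ L.p t ≫ ζ₀) := by rw [← Functor.map_comp, h1']
    _ = L.fst ≫ ψ := hζ

/-- A morphism from the limit of a cofiltered system (with terminal stage) of quasi-separated algebraic spaces with
affine transition maps, the terminal stage being quasi-compact, to a scheme locally of finite presentation over the
base factors through a stage. -/
theorem hom_descends_terminal [QuasiSeparatedSpace ↥S] {J : Type u} [SmallCategory J] [IsCofiltered J] {t : J}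
    (ht : IsTerminal t) (D : J ⥤ Sp S) (hD : ∀ j, IsAlgSpace (D.obj j))
    (hDa : ∀ (i j : J) (φ : i ⟶ j), IsAffineMor (D.map φ)) (c : Cone D) (hc : IsLimit c)
    (hqc : IsQuasiCompactSp (D.obj t)) (hqs : ∀ j, IsQuasiSeparatedSp (D.obj j))
    (Z : Over S) (hZ : LocallyOfFinitePresentation Z.hom) (ψ : c.pt ⟶ (yon S).obj Z) :
    ∃ (k : J) (ψk : D.obj k ⟶ (yon S).obj Z), c.π.app k ≫ ψk = ψ := by
  have hZ' : LocallyOfFinitePresentation Z.hom := hZ
  obtain ⟨U₀, g, hU₀aff, hge, hgs⟩ := DenseFin.exists_affine_chart_of_isQuasiCompactSp hqc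
  have hU₀aff' : IsAffine U₀.left := hU₀aff
  obtain ⟨L⟩ := nonempty_limChart ht D hD hDa c hc g
  have hEaff : ∀ j, IsAffine (L.E.obj j).left := fun j => by
    have h1 : IsAffineHom (L.p j).left := L.affp j
    exact isAffine_of_isAffineHom (L.p j).left
  obtain ⟨ζ, hζ⟩ := (yon S).map_surjective (L.fst ≫ ψ)
  obtain ⟨j₁, ζ₁, hζ₁⟩ := over_exists_factor L.E L.cE L.hc₀ (fun {j k} m => L.aff m)
    (fun j => by have := hEaff j; infer_instance) (fun j => by have := hEaff j; infer_instance) Z hZ ζ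
  -- rebase at `j₁`
  obtain ⟨hc'⟩ := isLimit_whisker_over D c hc j₁
  obtain ⟨g', hg'e, hg's, sqst⟩ : ∃ g' : (yon S).obj (L.E.obj j₁) ⟶ D.obj j₁, RepWith @Etale g' ∧
      RepWith @Surjective g' ∧ IsPullback L.fst ((yon S).map (L.cE.π.app j₁)) (c.π.app j₁) g' :=
    ⟨L.α.app j₁, (RepWith @Etale).of_isPullback (L.sq j₁).flip hge,
      (RepWith @Surjective).of_isPullback (L.sq j₁).flip hgs, L.sqstage j₁⟩
  obtain ⟨L'⟩ := nonempty_limChart (Over.mkIdTerminal (X := j₁)) (Over.forget j₁ ⋙ D) (fun j => hD j.left)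
    (fun i j φ => hDa _ _ φ.left) (c.whisker (Over.forget j₁)) hc' g'
  obtain ⟨ι, hι1, hι2⟩ : ∃ ι : (yon S).obj L'.cE.pt ⟶ (yon S).obj L.cE.pt, ι ≫ L.fst = L'.fst ∧
      ι ≫ (yon S).map (L.cE.π.app j₁) =
        (yon S).map (L'.cE.π.app (Over.mk (𝟙 j₁)) ≫ L'.p (Over.mk (𝟙 j₁))) :=
    ⟨sqst.lift _ _ L'.sqlim.w, sqst.lift_fst _ _ _, sqst.lift_snd _ _ _⟩
  have hζ' : (yon S).map (L'.cE.π.app (Over.mk (𝟙 j₁)) ≫ L'.p (Over.mk (𝟙 j₁)) ≫ ζ₁) = L'.fst ≫ ψ :=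
    calc (yon S).map (L'.cE.π.app (Over.mk (𝟙 j₁)) ≫ L'.p (Over.mk (𝟙 j₁)) ≫ ζ₁)
        = (yon S).map (L'.cE.π.app (Over.mk (𝟙 j₁)) ≫ L'.p (Over.mk (𝟙 j₁))) ≫ (yon S).map ζ₁ := by
          simp only [Functor.map_comp, Category.assoc]
      _ = (ι ≫ (yon S).map (L.cE.π.app j₁)) ≫ (yon S).map ζ₁ := by rw [hι2]
      _ = ι ≫ (yon S).map (L.cE.π.app j₁ ≫ ζ₁) := by simp only [Functor.map_comp, Category.assoc]
      _ = ι ≫ L.fst ≫ ψ := by rw [hζ₁, hζ]
      _ = L'.fst ≫ ψ := by rw [← Category.assoc, hι1]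
  have hcompE : CompactSpace ↥(L.E.obj j₁).left := by have := hEaff j₁; infer_instance
  have hZft : LocallyOfFiniteType Z.hom := inferInstance
  obtain ⟨k', ψk, hk⟩ := hom_descends_chart (Over.mkIdTerminal (X := j₁)) (Over.forget j₁ ⋙ D)
    (fun j => hD j.left) (fun i j φ => hDa _ _ φ.left) (c.whisker (Over.forget j₁)) hc' (hqs j₁) hcompE g' hg'e hg's
    L' Z hZft ψ ζ₁ hζ'
  exact ⟨k'.left, ψk, hk⟩

end Groth.Agent.Lib.Helper6.LimSp
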