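import Mathlib
import Groth.Agent.Lib.Helper6.LimSp6
import Groth.Agent.Lib.Helper16.Charts
import Groth.Agent.Lib.Helper16.Points

/-!
# Helper library (helper6): descent along limits of algebraic spaces, chart level and monotone versions

* `exists_charts`: compatible affine charts of a morphism of quasi-compact algebraic spaces;
* `descend_core`: the chart-level descent statement, for all small enough stages;
* `descend_locP'`: descent of source-and-target local properties, for all small enough stages;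
* `descend_surjective`: descent of surjectivity;
* `combine₂`: two eventually true statements are eventually true together.
-/

set_option autoImplicit false
universe u
open CategoryTheory CategoryTheory.Limits AlgebraicGeometry
open AlgSp Groth.Agent.Lib.Helper16

namespace Groth.Agent.Lib.Helper6.LimSp

variable {S : Scheme.{u}}

/-- Two statements which hold at all small enough stages hold together at all small enough stages. -/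
theorem combine₂ {I : Type*} [Category I] [IsCofiltered I] {i₀ : I} (R₁ R₂ : ∀ i' : I, (i' ⟶ i₀) → Prop)
    (h₁ : ∃ (i : I) (φ : i ⟶ i₀), ∀ (i' : I) (ψ : i' ⟶ i), R₁ i' (ψ ≫ φ))
    (h₂ : ∃ (i : I) (φ : i ⟶ i₀), ∀ (i' : I) (ψ : i' ⟶ i), R₂ i' (ψ ≫ φ)) :
    ∃ (i : I) (φ : i ⟶ i₀), ∀ (i' : I) (ψ : i' ⟶ i), R₁ i' (ψ ≫ φ) ∧ R₂ i' (ψ ≫ φ) := by
  obtain ⟨i₁, φ₁, H₁⟩ := h₁
  obtain ⟨i₂, φ₂, H₂⟩ := h₂
  obtain ⟨i, ψ₁, ψ₂, e⟩ := IsCofiltered.cospan φ₁ φ₂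
  refine ⟨i, ψ₁ ≫ φ₁, fun i' ψ => ⟨?_, ?_⟩⟩
  · have := H₁ i' (ψ ≫ ψ₁)
    rwa [Category.assoc] at this
  · have := H₂ i' (ψ ≫ ψ₂)
    rw [Category.assoc, ← e] at this
    exact this

/-- Compatible affine charts of a morphism of quasi-compact algebraic spaces. -/
theorem exists_charts [QuasiSeparatedSpace S] {X₀ Y₀ : Sp S} (f₀ : X₀ ⟶ Y₀)
    (hXqc : IsQuasiCompactSp X₀) (hYqc : IsQuasiCompactSp Y₀) (hYqs : IsQuasiSeparatedSp Y₀) :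
    ∃ (V₀ U₀ : Over S) (v : (yon S).obj V₀ ⟶ Y₀) (u : (yon S).obj U₀ ⟶ pullback f₀ v) (h₀ : U₀ ⟶ V₀),
      IsAffine V₀.left ∧ IsAffine U₀.left ∧ RepWith @Etale v ∧ RepWith @Surjective v ∧
        RepWith @Etale u ∧ RepWith @Surjective u ∧ (yon S).map h₀ = u ≫ pullback.snd f₀ v := by
  obtain ⟨V₀, v, hV₀aff, hve, hvs⟩ := DenseFin.exists_affine_chart_of_isQuasiCompactSp hYqc
  have hV₀aff' : IsAffine V₀.left := hV₀aff
  have sqW := IsPullback.of_hasPullback f₀ v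
  have hV₀qc : IsQuasiCompactSp ((yon S).obj V₀) := isQuasiCompactSp_yon_of_compactSpace V₀
  have hW₀qc : IsQuasiCompactSp (pullback f₀ v) := isQuasiCompactSp_of_isPullback sqW hXqc hV₀qc hYqs
  obtain ⟨U₀, u, hU₀aff, hue, hus⟩ := DenseFin.exists_affine_chart_of_isQuasiCompactSp hW₀qc
  obtain ⟨h₀, hh₀⟩ : ∃ h₀ : U₀ ⟶ V₀, (yon S).map h₀ = u ≫ pullback.snd f₀ v := (yon S).map_surjective _
  exact ⟨V₀, U₀, v, u, h₀, hV₀aff, hU₀aff, hve, hvs, hue, hus, hh₀⟩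

/-- The composite chart of the source. -/
theorem charts_source {X₀ Y₀ : Sp S} (f₀ : X₀ ⟶ Y₀) {V₀ U₀ : Over S} (v : (yon S).obj V₀ ⟶ Y₀)
    (u : (yon S).obj U₀ ⟶ pullback f₀ v) (h₀ : U₀ ⟶ V₀) (hve : RepWith @Etale v) (hvs : RepWith @Surjective v)
    (hue : RepWith @Etale u) (hus : RepWith @Surjective u) (hh₀ : (yon S).map h₀ = u ≫ pullback.snd f₀ v) :
    RepWith @Etale (u ≫ pullback.fst f₀ v) ∧ RepWith @Surjective (u ≫ pullback.fst f₀ v) ∧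
      (u ≫ pullback.fst f₀ v) ≫ f₀ = (yon S).map h₀ ≫ v := by
  have sqW := IsPullback.of_hasPullback f₀ v
  refine ⟨(RepWith @Etale).comp_mem _ _ hue ((RepWith @Etale).of_isPullback sqW.flip hve),
    (RepWith @Surjective).comp_mem _ _ hus ((RepWith @Surjective).of_isPullback sqW.flip hvs), ?_⟩
  rw [hh₀, Category.assoc, Category.assoc, pullback.condition]

/-- Chart level descent along a cofiltered limit of algebraic spaces with affine transition maps: if the chart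
morphism over the limit has `P`, then the chart morphisms over all small enough stages have `P`. -/
theorem descend_core {P Q : MorphismProperty Scheme.{u}} [P.IsStableUnderBaseChange]
    (hdesc : ∀ {J : Type u} [SmallCategory J] [IsCofiltered J] (E : J ⥤ Scheme.{u}) (cE : Cone E)
      (_ : IsLimit cE) (_ : ∀ (i j : J) (f : i ⟶ j), IsAffineHom (E.map f)) (j₀ : J)
      (_ : IsAffine (E.obj j₀)) {X₀ Y₀ : Scheme.{u}} (f₀ : X₀ ⟶ Y₀) (g₀ : Y₀ ⟶ E.obj j₀) (_ : IsIso g₀)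
      (_ : IsAffine X₀) (_ : IsAffine Y₀) (_ : Q f₀)
      {X Y : Scheme.{u}} (f : X ⟶ Y) (g : Y ⟶ cE.pt) (qY : Y ⟶ Y₀) (qX : X ⟶ X₀)
      (_ : IsPullback qY g g₀ (cE.π.app j₀)) (_ : IsPullback qX f f₀ qY), P f →
      ∃ (i : J) (φ : i ⟶ j₀) (Xi Yi : Scheme.{u}) (fi : Xi ⟶ Yi) (gi : Yi ⟶ E.obj i) (pY : Yi ⟶ Y₀)
        (pX : Xi ⟶ X₀), IsPullback pY gi g₀ (E.map φ) ∧ IsPullback pX fi f₀ pY ∧ P fi)
    {I : Type u} [SmallCategory I] [IsCofiltered I]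
    (D : I ⥤ AlgSp.Sp S) (hD : ∀ i, AlgSp.IsAlgSpace (D.obj i))
    (hDa : ∀ (i j : I) (φ : i ⟶ j), AlgSp.IsAffineMor (D.map φ))
    (c : Cone D) (hc : IsLimit c) (i₀ : I)
    {X₀ Y₀ : Sp S} (f₀ : X₀ ⟶ Y₀) (b₀ : Y₀ ⟶ D.obj i₀)
    {V₀ U₀ : Over S} (hV₀aff' : IsAffine V₀.left) (hU₀aff' : IsAffine U₀.left)
    (v : (yon S).obj V₀ ⟶ Y₀) (a₀ : (yon S).obj U₀ ⟶ X₀) (h₀ : U₀ ⟶ V₀)
    (hcomm₀ : a₀ ≫ f₀ = (yon S).map h₀ ≫ v) (hQ : Q h₀.left)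
    {X Y : Sp S} (f : X ⟶ Y) (pY : Y ⟶ Y₀) (qY : Y ⟶ c.pt)
    (hY : IsPullback pY qY b₀ (c.π.app i₀)) (pX : X ⟶ X₀) (hX : IsPullback pX f f₀ pY)
    (hlim : ∀ {U V : Over S} (a : (yon S).obj U ⟶ X) (b : (yon S).obj V ⟶ Y) (h : U ⟶ V) (up : U ⟶ U₀)
      (vp : V ⟶ V₀), IsPullback a ((yon S).map up) pX a₀ → IsPullback b ((yon S).map vp) pY v →
      IsPullback ((yon S).map up) ((yon S).map h) ((yon S).map h₀) ((yon S).map vp) →
      a ≫ f = (yon S).map h ≫ b → P h.left) :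
    ∃ (i : I) (φ : i ⟶ i₀), ∀ (i' : I) (ψ : i' ⟶ i) (Xi Yi : AlgSp.Sp S) (fi : Xi ⟶ Yi) (pYi : Yi ⟶ Y₀)
      (qYi : Yi ⟶ D.obj i') (_ : IsPullback pYi qYi b₀ (D.map (ψ ≫ φ))) (pXi : Xi ⟶ X₀)
      (_ : IsPullback pXi fi f₀ pYi),
      ∃ (U V : Over S) (a : (yon S).obj U ⟶ Xi) (b : (yon S).obj V ⟶ Yi) (h : U ⟶ V) (up : U ⟶ U₀)
        (vp : V ⟶ V₀), IsPullback a ((yon S).map up) pXi a₀ ∧ IsPullback b ((yon S).map vp) pYi v ∧
          a ≫ fi = (yon S).map h ≫ b ∧ P h.left := by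
  -- the system of charts of the stages
  obtain ⟨hc'⟩ := isLimit_whisker_over D c hc i₀
  have ht : IsTerminal (Over.mk (𝟙 i₀)) := Over.mkIdTerminal (X := i₀)
  obtain ⟨L⟩ := nonempty_limChart ht (Over.forget i₀ ⋙ D) (fun j => hD j.left)
    (fun i j φ => hDa _ _ φ.left) (c.whisker (Over.forget i₀)) hc' (v ≫ b₀)
  have hfrom : ∀ j : Over i₀, (ht.from j).left = j.hom := fun j =>
    (Category.comp_id _).symm.trans (Over.w (ht.from j))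
  have hisoD : IsIso ((Over.forget i₀ ⋙ D).map (ht.from (Over.mk (𝟙 i₀)))) := by
    rw [ht.hom_ext (ht.from (Over.mk (𝟙 i₀))) (𝟙 _)]
    infer_instance
  have hpt : IsIso (L.p (Over.mk (𝟙 i₀))) := by
    have : IsIso ((yon S).map (L.p (Over.mk (𝟙 i₀)))) :=
      IsPullback.isIso_snd_of_isIso (L.sq (Over.mk (𝟙 i₀))) hisoD
    exact isIso_of_reflects_iso (L.p (Over.mk (𝟙 i₀))) (yon S)
  have hptl : IsIso (L.p (Over.mk (𝟙 i₀))).left :=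
    inferInstanceAs (IsIso ((Over.forget S).map (L.p (Over.mk (𝟙 i₀)))))
  obtain ⟨g₀s, hg₁, hg₂⟩ : ∃ g₀s : V₀.left ⟶ (L.E.obj (Over.mk (𝟙 i₀))).left,
      (L.p (Over.mk (𝟙 i₀))).left ≫ g₀s = 𝟙 _ ∧ g₀s ≫ (L.p (Over.mk (𝟙 i₀))).left = 𝟙 _ :=
    ⟨inv (L.p (Over.mk (𝟙 i₀))).left, IsIso.hom_inv_id _, IsIso.inv_hom_id _⟩
  have hg₀iso : IsIso g₀s := ⟨⟨(L.p (Over.mk (𝟙 i₀))).left, hg₂, hg₁⟩⟩
  -- the limit stage
  obtain ⟨pinf, hpinf⟩ : ∃ pinf : L.cE.pt ⟶ V₀,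
      pinf = L.cE.π.app (Over.mk (𝟙 i₀)) ≫ L.p (Over.mk (𝟙 i₀)) := ⟨_, rfl⟩
  have sqlim' : IsPullback L.fst ((yon S).map pinf) (c.π.app i₀) (v ≫ b₀) := by
    rw [hpinf]; exact L.sqlim
  have hpinfl : pinf.left ≫ g₀s = (L.cE.π.app (Over.mk (𝟙 i₀))).left := by
    rw [hpinf, Over.comp_left, Category.assoc, hg₁, Category.comp_id]
  obtain ⟨binf, -, sqBinf⟩ := paste_lift₁ hY sqlim'
  have sqAinf := (IsPullback.of_hasPullback h₀ pinf).map (yon S)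
  obtain ⟨ainf, hainf, sqainf⟩ := paste_lift₂ hX sqBinf sqAinf a₀ hcomm₀
  have hPinf : P (pullback.snd h₀ pinf).left :=
    hlim ainf binf (pullback.snd h₀ pinf) (pullback.fst h₀ pinf) pinf sqainf sqBinf sqAinf hainf
  -- descent for schemes
  have hVt_aff : IsAffine ((L.E ⋙ Over.forget S).obj (Over.mk (𝟙 i₀))) := by
    have h1 : IsAffineHom (L.p (Over.mk (𝟙 i₀))).left := L.affp _
    show IsAffine (L.E.obj (Over.mk (𝟙 i₀))).left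
    exact isAffine_of_isAffineHom (L.p (Over.mk (𝟙 i₀))).left
  have hYs : IsPullback pinf.left (𝟙 L.cE.pt.left) g₀s (L.cE.π.app (Over.mk (𝟙 i₀))).left :=
    IsPullback.of_vert_isIso ⟨hpinfl.trans (Category.id_comp _).symm⟩
  have hXs : IsPullback (pullback.fst h₀ pinf).left (pullback.snd h₀ pinf).left h₀.left pinf.left :=
    isPullback_left_forget h₀ pinf
  obtain ⟨j, φ, Xi, Yi, fi, gi, pYs, pXs, hYj, hXj, hPfi⟩ :=
    hdesc (L.E ⋙ Over.forget S) ((Over.forget S).mapCone L.cE) L.hc₀ (fun i j f => L.aff f) (Over.mk (𝟙 i₀))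
      hVt_aff h₀.left g₀s hg₀iso hU₀aff' hV₀aff' hQ
      (pullback.snd h₀ pinf).left (𝟙 L.cE.pt.left) pinf.left (pullback.fst h₀ pinf).left hYs hXs hPinf
  have hpj : (L.E.map φ).left ≫ (L.p (Over.mk (𝟙 i₀))).left = (L.p j).left :=
    congrArg CommaMorphism.left (L.hp φ)
  have w : (L.p j).left ≫ g₀s = 𝟙 (L.E.obj j).left ≫ (L.E.map φ).left := by
    rw [← hpj, Category.assoc, hg₁, Category.comp_id, Category.id_comp]
  have hρ : hYj.lift (L.p j).left (𝟙 (L.E.obj j).left) w ≫ pYs = (L.p j).left := hYj.lift_fst _ _ _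
  have hPj : P (pullback.snd h₀ (L.p j)).left :=
    P_of_base_sq P hXj (isPullback_left_forget h₀ (L.p j)) _ hρ hPfi
  -- the stages below `j`
  refine ⟨j.left, j.hom, ?_⟩
  intro i' ψ Xi' Yi' fi' pYi qYi hYi pXi hXi
  obtain ⟨j', m, hj'⟩ : ∃ (j' : Over i₀) (_ : j' ⟶ j), j' = Over.mk (ψ ≫ j.hom) :=
    ⟨Over.mk (ψ ≫ j.hom), Over.homMk ψ rfl, rfl⟩
  subst hj'
  have hPj' : P (pullback.snd h₀ (L.p (Over.mk (ψ ≫ j.hom)))).left :=
    P_of_base_sq P (isPullback_left_forget h₀ (L.p j))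
      (isPullback_left_forget h₀ (L.p (Over.mk (ψ ≫ j.hom)))) (L.E.map m).left
      (congrArg CommaMorphism.left (L.hp m)) hPj
  have sqLj : IsPullback (L.α.app (Over.mk (ψ ≫ j.hom)) :
        (yon S).obj (L.E.obj (Over.mk (ψ ≫ j.hom))) ⟶ D.obj i')
      ((yon S).map (L.p (Over.mk (ψ ≫ j.hom)))) (D.map (ψ ≫ j.hom)) (v ≫ b₀) := by
    have h := L.sq (Over.mk (ψ ≫ j.hom))
    have e : (Over.forget i₀ ⋙ D).map (ht.from (Over.mk (ψ ≫ j.hom))) = D.map (ψ ≫ j.hom) :=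
      congrArg (fun m => D.map m) (hfrom (Over.mk (ψ ≫ j.hom)))
    rw [e] at h
    exact h
  obtain ⟨bj, -, sqBj⟩ := paste_lift₁ hYi sqLj
  have sqAj := (IsPullback.of_hasPullback h₀ (L.p (Over.mk (ψ ≫ j.hom)))).map (yon S)
  obtain ⟨aj, haj, sqaj⟩ := paste_lift₂ hXi sqBj sqAj a₀ hcomm₀
  exact ⟨_, _, aj, bj, pullback.snd h₀ (L.p (Over.mk (ψ ≫ j.hom))),
    pullback.fst h₀ (L.p (Over.mk (ψ ≫ j.hom))), L.p (Over.mk (ψ ≫ j.hom)), sqaj, sqBj, haj, hPj'⟩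

/-- Descent of a source-and-target etale local property, for all small enough stages. -/
theorem descend_locP' {P Q : MorphismProperty Scheme.{u}} (hP : EtLocalST P)
    (hdesc : ∀ {J : Type u} [SmallCategory J] [IsCofiltered J] (E : J ⥤ Scheme.{u}) (cE : Cone E)
      (_ : IsLimit cE) (_ : ∀ (i j : J) (f : i ⟶ j), IsAffineHom (E.map f)) (j₀ : J)
      (_ : IsAffine (E.obj j₀)) {X₀ Y₀ : Scheme.{u}} (f₀ : X₀ ⟶ Y₀) (g₀ : Y₀ ⟶ E.obj j₀) (_ : IsIso g₀)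
      (_ : IsAffine X₀) (_ : IsAffine Y₀) (_ : Q f₀)
      {X Y : Scheme.{u}} (f : X ⟶ Y) (g : Y ⟶ cE.pt) (qY : Y ⟶ Y₀) (qX : X ⟶ X₀)
      (_ : IsPullback qY g g₀ (cE.π.app j₀)) (_ : IsPullback qX f f₀ qY), P f →
      ∃ (i : J) (φ : i ⟶ j₀) (Xi Yi : Scheme.{u}) (fi : Xi ⟶ Yi) (gi : Yi ⟶ E.obj i) (pY : Yi ⟶ Y₀)
        (pX : Xi ⟶ X₀), IsPullback pY gi g₀ (E.map φ) ∧ IsPullback pX fi f₀ pY ∧ P fi)
    [QuasiSeparatedSpace S] {I : Type u} [SmallCategory I] [IsCofiltered I]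
    (D : I ⥤ AlgSp.Sp S) (hD : ∀ i, AlgSp.IsAlgSpace (D.obj i))
    (hDa : ∀ (i j : I) (φ : i ⟶ j), AlgSp.IsAffineMor (D.map φ))
    (c : Cone D) (hc : IsLimit c) (i₀ : I)
    {X₀ Y₀ : Sp S} (f₀ : X₀ ⟶ Y₀) (b₀ : Y₀ ⟶ D.obj i₀)
    (hXqc : IsQuasiCompactSp X₀) (hYqc : IsQuasiCompactSp Y₀) (hYqs : IsQuasiSeparatedSp Y₀)
    {X Y : Sp S} (f : X ⟶ Y) (pY : Y ⟶ Y₀) (qY : Y ⟶ c.pt)
    (hY : IsPullback pY qY b₀ (c.π.app i₀)) (pX : X ⟶ X₀) (hX : IsPullback pX f f₀ pY)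
    (hf : LocP P f) (hf₀ : LocP Q f₀) :
    ∃ (i : I) (φ : i ⟶ i₀), ∀ (i' : I) (ψ : i' ⟶ i) (Xi Yi : AlgSp.Sp S) (fi : Xi ⟶ Yi) (pYi : Yi ⟶ Y₀)
      (qYi : Yi ⟶ D.obj i') (_ : IsPullback pYi qYi b₀ (D.map (ψ ≫ φ))) (pXi : Xi ⟶ X₀)
      (_ : IsPullback pXi fi f₀ pYi), LocP P fi := by
  have hPbc : P.IsStableUnderBaseChange := hP.baseChange
  obtain ⟨V₀, U₀, v, u, h₀, hV₀, hU₀, hve, hvs, hue, hus, hh₀⟩ := exists_charts f₀ hXqc hYqc hYqs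
  obtain ⟨ha₀e, ha₀s, hcomm₀⟩ := charts_source f₀ v u h₀ hve hvs hue hus hh₀
  have hQh : Q h₀.left := hf₀ _ v h₀ ha₀e hve hcomm₀
  obtain ⟨i, φ, H⟩ := descend_core (P := P) (Q := Q) hdesc D hD hDa c hc i₀ f₀ b₀ hV₀ hU₀ v
    (u ≫ pullback.fst f₀ v) h₀ hcomm₀ hQh f pY qY hY pX hX
    (fun a b h up vp sqa sqB _ hcomm => hf a b h ((RepWith @Etale).of_isPullback sqa.flip ha₀e)
      ((RepWith @Etale).of_isPullback sqB.flip hve) hcomm)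
  refine ⟨i, φ, fun i' ψ Xi Yi fi pYi qYi hYi pXi hXi => ?_⟩
  obtain ⟨U, V, a, b, h, up, vp, sqa, sqB, hcomm, hPh⟩ := H i' ψ Xi Yi fi pYi qYi hYi pXi hXi
  exact locP_of_chart hP fi a b h ((RepWith @Etale).of_isPullback sqa.flip ha₀e)
    ((RepWith @Surjective).of_isPullback sqa.flip ha₀s) ((RepWith @Etale).of_isPullback sqB.flip hve) hcomm hPh

/-- Descent of surjectivity, for all small enough stages. -/
theorem descend_surjective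
    (hdesc : ∀ {J : Type u} [SmallCategory J] [IsCofiltered J] (E : J ⥤ Scheme.{u}) (cE : Cone E)
      (_ : IsLimit cE) (_ : ∀ (i j : J) (f : i ⟶ j), IsAffineHom (E.map f)) (j₀ : J)
      (_ : IsAffine (E.obj j₀)) {X₀ Y₀ : Scheme.{u}} (f₀ : X₀ ⟶ Y₀) (g₀ : Y₀ ⟶ E.obj j₀) (_ : IsIso g₀)
      (_ : IsAffine X₀) (_ : IsAffine Y₀) (_ : LocallyOfFinitePresentation f₀)
      {X Y : Scheme.{u}} (f : X ⟶ Y) (g : Y ⟶ cE.pt) (qY : Y ⟶ Y₀) (qX : X ⟶ X₀)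
      (_ : IsPullback qY g g₀ (cE.π.app j₀)) (_ : IsPullback qX f f₀ qY), Surjective f →
      ∃ (i : J) (φ : i ⟶ j₀) (Xi Yi : Scheme.{u}) (fi : Xi ⟶ Yi) (gi : Yi ⟶ E.obj i) (pY : Yi ⟶ Y₀)
        (pX : Xi ⟶ X₀), IsPullback pY gi g₀ (E.map φ) ∧ IsPullback pX fi f₀ pY ∧ Surjective fi)
    [QuasiSeparatedSpace S] {I : Type u} [SmallCategory I] [IsCofiltered I]
    (D : I ⥤ AlgSp.Sp S) (hD : ∀ i, AlgSp.IsAlgSpace (D.obj i))
    (hDa : ∀ (i j : I) (φ : i ⟶ j), AlgSp.IsAffineMor (D.map φ))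
    (c : Cone D) (hc : IsLimit c) (i₀ : I)
    {X₀ Y₀ : Sp S} (f₀ : X₀ ⟶ Y₀) (b₀ : Y₀ ⟶ D.obj i₀)
    (hXqc : IsQuasiCompactSp X₀) (hYqc : IsQuasiCompactSp Y₀) (hYqs : IsQuasiSeparatedSp Y₀)
    {X Y : Sp S} (f : X ⟶ Y) (pY : Y ⟶ Y₀) (qY : Y ⟶ c.pt)
    (hY : IsPullback pY qY b₀ (c.π.app i₀)) (pX : X ⟶ X₀) (hX : IsPullback pX f f₀ pY)
    (hf : IsSurjectiveMor f) (hf₀ : LocP @LocallyOfFinitePresentation f₀) :
    ∃ (i : I) (φ : i ⟶ i₀), ∀ (i' : I) (ψ : i' ⟶ i) (Xi Yi : AlgSp.Sp S) (fi : Xi ⟶ Yi) (pYi : Yi ⟶ Y₀)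
      (qYi : Yi ⟶ D.obj i') (_ : IsPullback pYi qYi b₀ (D.map (ψ ≫ φ))) (pXi : Xi ⟶ X₀)
      (_ : IsPullback pXi fi f₀ pYi), IsSurjectiveMor fi := by
  obtain ⟨V₀, U₀, v, u, h₀, hV₀, hU₀, hve, hvs, hue, hus, hh₀⟩ := exists_charts f₀ hXqc hYqc hYqs
  obtain ⟨ha₀e, ha₀s, hcomm₀⟩ := charts_source f₀ v u h₀ hve hvs hue hus hh₀
  have hQh : LocallyOfFinitePresentation h₀.left := hf₀ _ v h₀ ha₀e hve hcomm₀
  have sqW := IsPullback.of_hasPullback f₀ v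
  obtain ⟨i, φ, H⟩ := descend_core (P := @Surjective) (Q := @LocallyOfFinitePresentation) hdesc D hD hDa c hc i₀
    f₀ b₀ hV₀ hU₀ v (u ≫ pullback.fst f₀ v) h₀ hcomm₀ hQh f pY qY hY pX hX
    (fun {U V} a b h up vp sqa sqB sqA hcomm => by
      refine ⟨fun y => ?_⟩
      obtain ⟨x, hx⟩ := hf (Points.ofPt b y)
      have e1 : Points.map f₀ (Points.map pX x) = Points.ofPt (b ≫ pY) y := by
        rw [← Points.map_comp, hX.w, Points.map_comp, hx]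
        rfl
      have e2 : Points.ofPt (b ≫ pY) y = Points.map v (Points.ofScheme V₀ (vp.left y)) := by
        rw [sqB.w, ofPt_yon_map_comp, Points.ofPt_eq_map_ofScheme]
      obtain ⟨w₀, hw1, hw2⟩ := exists_point_of_isPullback sqW (Points.map pX x)
        (Points.ofScheme V₀ (vp.left y)) (e1.trans e2)
      obtain ⟨u₀, hu₀⟩ := ofPt_surjective_of_surjective u hus w₀
      have e3 : Points.ofPt ((yon S).map vp) y = Points.ofScheme V₀ (vp.left y) := by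
        rw [Points.ofPt_eq_map_ofScheme, map_yon_map_ofScheme]
      have e4 : Points.ofPt ((yon S).map h₀) u₀ = Points.ofScheme V₀ (vp.left y) := by
        rw [hh₀]
        exact (congrArg (Points.map (pullback.snd f₀ v)) hu₀).trans hw2
      obtain ⟨z, -, hz⟩ := exists_point_of_isPullback_yon_yon sqA u₀ y (e4.trans e3.symm)
      exact ⟨z, hz⟩)
  refine ⟨i, φ, fun i' ψ Xi Yi fi pYi qYi hYi pXi hXi => ?_⟩
  obtain ⟨U, V, a, b, h, up, vp, sqa, sqB, hcomm, hPh⟩ := H i' ψ Xi Yi fi pYi qYi hYi pXi hXi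
  have hbs : RepWith @Surjective b := (RepWith @Surjective).of_isPullback sqB.flip hvs
  intro y'
  obtain ⟨t, rfl⟩ := ofPt_surjective_of_surjective b hbs y'
  obtain ⟨z, rfl⟩ := hPh.surj t
  exact ⟨Points.ofPt a z, by rw [Points.map_ofPt, hcomm, ofPt_yon_map_comp]⟩

end Groth.Agent.Lib.Helper6.LimSp
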