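import Groth.Agent.Lib.Helper6.ThickAlgSpN

/-!
# Helper library (helper6): deformation along a finite order thickening of the base for algebraic spaces, II
(isomorphisms, open immersions, monomorphisms, finite locally free and finite morphisms)
-/

set_option autoImplicit false
universe u
open CategoryTheory CategoryTheory.Limits AlgebraicGeometry AlgSp

namespace Groth.Agent.Lib.Helper6.ThickAlgSp

open Groth.Agent.Lib.Helper16

section cat

variable {C : Type*} [Category C] [HasPullbacks C] {X X' Y Y' : C} (iX : X ⟶ X') (iY : Y ⟶ Y')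
  (f : X ⟶ Y) (f' : X' ⟶ Y')

theorem isPullback_diag_map_cat (hpb : IsPullback iX f f' iY) (w : iX ≫ f' = f ≫ iY) :
    IsPullback (pullback.map f f f' f' iX iX iY w.symm w.symm) (pullback.fst f f) (pullback.fst f' f') iX := by
  have h1 : IsPullback (pullback.snd f f) (pullback.fst f f) f f :=
    (IsPullback.of_hasPullback f f).flip
  have hbig : IsPullback (pullback.snd f f ≫ iX) (pullback.fst f f) f' (f ≫ iY) :=
    h1.paste_horiz hpb
  have h2 : IsPullback (pullback.snd f' f') (pullback.fst f' f') f' f' :=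
    (IsPullback.of_hasPullback f' f').flip
  have e1 : pullback.map f f f' f' iX iX iY w.symm w.symm ≫ pullback.snd f' f' = pullback.snd f f ≫ iX :=
    pullback.lift_snd _ _ _
  have hbig' : IsPullback (pullback.map f f f' f' iX iX iY w.symm w.symm ≫ pullback.snd f' f')
      (pullback.fst f f) f' (iX ≫ f') := by
    rw [e1, w]
    exact hbig
  exact IsPullback.of_right hbig' (pullback.lift_fst _ _ _) h2

theorem diag_map_comm (w : iX ≫ f' = f ≫ iY) :
    iX ≫ pullback.diagonal f' =
      pullback.diagonal f ≫ pullback.map f f f' f' iX iX iY w.symm w.symm := by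
  have e1 : pullback.map f f f' f' iX iX iY w.symm w.symm ≫ pullback.fst f' f' =
      pullback.fst f f ≫ iX := pullback.lift_fst _ _ _
  have e2 : pullback.map f f f' f' iX iX iY w.symm w.symm ≫ pullback.snd f' f' =
      pullback.snd f f ≫ iX := pullback.lift_snd _ _ _
  apply pullback.hom_ext
  · rw [Category.assoc, Category.assoc, e1, pullback.diagonal_fst, Category.comp_id,
      pullback.diagonal_fst_assoc]
  · rw [Category.assoc, Category.assoc, e2, pullback.diagonal_snd, Category.comp_id,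
      pullback.diagonal_snd_assoc]

end cat

variable {S : Scheme.{u}}

theorem etale_le_unram : (@Etale : MorphismProperty Scheme.{u}) ≤
    (@LocallyOfFiniteType ⊓ @FormallyUnramified : MorphismProperty Scheme.{u}) :=
  fun _ _ g hg => by
    have : Etale g := hg
    exact ⟨(inferInstance : LocallyOfFiniteType g), (inferInstance : FormallyUnramified g)⟩

theorem mono_of_repWith_isOpenImmersion {X Y : Sp S} (f : X ⟶ Y) (ho : RepWith @IsOpenImmersion f) :
    Mono f :=
  mono_of_repWith (P := @IsOpenImmersion)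
    (fun _ _ g hg => by
      have : IsOpenImmersion g := hg
      exact MorphismProperty.monomorphisms.infer_property g) f ho

theorem locP_etale_of_repWith_isOpenImmersion {X Y : Sp S} (f : X ⟶ Y) (ho : RepWith @IsOpenImmersion f) :
    LocP @Etale f :=
  locP_of_repWith @Etale @IsOpenImmersion
    (fun A B C m i hm hi => by
      have : IsOpenImmersion i := hi
      exact etLocalST_etale.postcomp m i inferInstance hm) f ho

theorem isSurjectiveMor_of_isIso {X Y : Sp S} (f : X ⟶ Y) [IsIso f] : IsSurjectiveMor f := by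
  show Function.Surjective (Points.map f)
  intro y
  refine ⟨Points.map (inv f) y, ?_⟩
  rw [← Points.map_comp, IsIso.inv_hom_id, Points.map_id]

/-- Isomorphisms deform along finite order thickenings of the base (source flat over the base). -/
theorem isIso_of_finThick {X X' Y Y' B B' : Sp S} (hX : IsAlgSpace X) (hX' : IsAlgSpace X')
    (hY : IsAlgSpace Y) (hY' : IsAlgSpace Y') (hB' : IsAlgSpace B')
    (iX : X ⟶ X') (iY : Y ⟶ Y') (iB : B ⟶ B')
    (f : X ⟶ Y) (f' : X' ⟶ Y') (g : Y ⟶ B) (g' : Y' ⟶ B')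
    (hcX : IsPullback iX (f ≫ g) (f' ≫ g') iB) (hcY : IsPullback iY g g' iB)
    (w : iX ≫ f' = f ≫ iY) (hB : IsFinThickMor iB) (hflat : LocP @Flat (f' ≫ g')) [IsIso f] :
    IsIso f' := by
  have sqX : IsPullback iX f f' iY := IsPullback.of_bot hcX w hcY
  obtain ⟨T⟩ := nonempty_chartTowerN hX' hY' hB' iX iY iB f f' g g' hcX hcY w hB hflat
  obtain ⟨N, hBt, -⟩ := hB
  have hiX : IsThickMor iX := (RepWith (S := S) thick).of_isPullback hcX.flip hBt
  have hiY : IsThickMor iY := (RepWith (S := S) thick).of_isPullback hcY.flip hBt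
  obtain ⟨tSurj, -, -, tInj, -⟩ := Thick.topological_iff_of_thick hX hX' hY hY' iX iY f f' hiX hiY w
  have ho : RepWith @IsOpenImmersion f := by
    haveI : (RepWith (S := S) @IsOpenImmersion).RespectsIso :=
      MorphismProperty.IsStableUnderBaseChange.respectsIso
    exact (RepWith (S := S) @IsOpenImmersion).of_isIso f
  have hE' : LocP @Etale f' :=
    (T.locP_iff etLocalST_etale hX' hY' sqX T.etale_m').1 (locP_etale_of_repWith_isOpenImmersion f ho)
  have hU' : LocP (@LocallyOfFiniteType ⊓ @FormallyUnramified) f' := locP_mono etale_le_unram hE'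
  have hinj' : IsUnivInjectiveMor f' := tInj.1 (UnramMono.isUnivInjectiveMor_of_mono f)
  haveI : Mono f' := UnramMono.mono_of_locP_unramified_of_univInjective hX' hY' f' hU' hinj'
  exact isIso_of_etale_mono_surjective hX' f' ((isEtaleMor_iff_locP_etale hY' f').2 hE')
    (tSurj.1 (isSurjectiveMor_of_isIso f))

/-- Monomorphisms deform along finite order thickenings of the base (source flat over the base). -/
theorem mono_of_finThick {X X' Y Y' B B' : Sp S} (hX : IsAlgSpace X) (hX' : IsAlgSpace X')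
    (hY : IsAlgSpace Y) (hY' : IsAlgSpace Y') (hB' : IsAlgSpace B')
    (iX : X ⟶ X') (iY : Y ⟶ Y') (iB : B ⟶ B')
    (f : X ⟶ Y) (f' : X' ⟶ Y') (g : Y ⟶ B) (g' : Y' ⟶ B')
    (hcX : IsPullback iX (f ≫ g) (f' ≫ g') iB) (hcY : IsPullback iY g g' iB)
    (w : iX ≫ f' = f ≫ iY) (hB : IsFinThickMor iB) (hflat : LocP @Flat (f' ≫ g')) [Mono f] :
    Mono f' := by
  have sqX : IsPullback iX f f' iY := IsPullback.of_bot hcX w hcY
  have hZ : IsAlgSpace (pullback f f) :=
    isAlgSpace_of_isPullback hX hY.diag hX (IsPullback.of_hasPullback f f)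
  have hZ' : IsAlgSpace (pullback f' f') :=
    isAlgSpace_of_isPullback hX' hY'.diag hX' (IsPullback.of_hasPullback f' f')
  have hT := isPullback_diag_map_cat iX iY f f' sqX w
  have hcZ : IsPullback (pullback.map f f f' f' iX iX iY w.symm w.symm) (pullback.fst f f ≫ f ≫ g)
      (pullback.fst f' f' ≫ f' ≫ g') iB := hT.paste_vert hcX
  have hΔ : pullback.diagonal f ≫ (pullback.fst f f ≫ f ≫ g) = f ≫ g := by
    rw [pullback.diagonal_fst_assoc]
  have hΔ' : pullback.diagonal f' ≫ (pullback.fst f' f' ≫ f' ≫ g') = f' ≫ g' := by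
    rw [pullback.diagonal_fst_assoc]
  have hcX' : IsPullback iX (pullback.diagonal f ≫ (pullback.fst f f ≫ f ≫ g))
      (pullback.diagonal f' ≫ (pullback.fst f' f' ≫ f' ≫ g')) iB := by
    rw [hΔ, hΔ']
    exact hcX
  have hflat' : LocP @Flat (pullback.diagonal f' ≫ (pullback.fst f' f' ≫ f' ≫ g')) := by
    rw [hΔ']
    exact hflat
  have wΔ := diag_map_comm iX iY f f' w
  haveI : IsIso (pullback.diagonal f) := (pullback.isIso_diagonal_iff f).2 inferInstance
  haveI : IsIso (pullback.diagonal f') :=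
    isIso_of_finThick hX hX' hZ hZ' hB' iX (pullback.map f f f' f' iX iX iY w.symm w.symm) iB
      (pullback.diagonal f) (pullback.diagonal f') (pullback.fst f f ≫ f ≫ g)
      (pullback.fst f' f' ≫ f' ≫ g') hcX' hcZ wΔ hB hflat'
  exact (pullback.isIso_diagonal_iff f').1 inferInstance

/-- The degree of a finite locally free morphism deforms along a thickening. -/
theorem repWith_finLocFreeOfDeg_of_thick {X X' Y Y' : Sp S} (iX : X ⟶ X') (iY : Y ⟶ Y')
    (f : X ⟶ Y) (f' : X' ⟶ Y') (sqX : IsPullback iX f f' iY) (hiY : IsThickMor iY) (d : ℕ)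
    (hf : RepWith (finLocFreeOfDeg d) f) (hf0' : RepWith finLocFree f') :
    RepWith (finLocFreeOfDeg d) f' := by
  refine ⟨hf0'.rep, fun T₁ M t fst snd sq => ?_⟩
  have hsnd : IsFinite snd.left ∧ Flat snd.left ∧ LocallyOfFinitePresentation snd.left :=
    hf0'.property t fst snd sq
  show Mor2.IsFinLocFreeOfDeg d snd.left
  refine ⟨hsnd, fun y => ?_⟩
  obtain ⟨T₀, j, t₀, sqT⟩ := hiY.rep t
  have hj : thick j.left := hiY.property _ _ _ sqT
  obtain ⟨M₀, s₀, fst₀, sq₀⟩ := hf.rep t₀
  have hs₀ : Mor2.IsFinLocFree s₀.left ∧ ∀ y, s₀.left.finrank y = d := hf.property _ _ _ sq₀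
  have hbig : IsPullback (fst₀ ≫ iX) ((yon S).map s₀) f' (t₀ ≫ iY) := sq₀.paste_horiz sqX
  have hc : (fst₀ ≫ iX) ≫ f' = ((yon S).map s₀ ≫ (yon S).map j) ≫ t :=
    hbig.w.trans (by rw [sqT.w, Category.assoc])
  obtain ⟨r, hr⟩ := (yon S).map_surjective (sq.lift _ _ hc)
  have hr1 : (yon S).map r ≫ fst = fst₀ ≫ iX := by rw [hr]; exact sq.lift_fst _ _ _
  have hr2 : (yon S).map r ≫ (yon S).map snd = (yon S).map s₀ ≫ (yon S).map j := by
    rw [hr]; exact sq.lift_snd _ _ _
  have hbig' : IsPullback ((yon S).map r ≫ fst) ((yon S).map s₀) f' ((yon S).map j ≫ t) := by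
    rw [hr1, ← sqT.w]; exact hbig
  have hleft : IsPullback ((yon S).map r) ((yon S).map s₀) ((yon S).map snd) ((yon S).map j) :=
    IsPullback.of_right hbig' hr2 sq
  have hsch : IsPullback r.left s₀.left snd.left j.left := isPullback_left_of_yon hleft
  haveI : Surjective j.left := hj.2
  obtain ⟨y₀, rfl⟩ := j.left.surjective y
  haveI : Flat snd.left := hsnd.2.1
  haveI : IsFinite snd.left := hsnd.1
  rw [← Scheme.Hom.finrank_of_isPullback r.left s₀.left snd.left j.left hsch y₀]
  exact hs₀.2 y₀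

/-- **S10597**. -/
theorem main10597 {X X' Y Y' B B' : AlgSp.Space S} (iX : X ⟶ X') (iY : Y ⟶ Y') (iB : B ⟶ B')
    (f : X ⟶ Y) (f' : X' ⟶ Y') (g : Y ⟶ B) (g' : Y' ⟶ B')
    (hcX : IsPullback iX.hom (f ≫ g).hom (f' ≫ g').hom iB.hom) (hcY : IsPullback iY.hom g.hom g'.hom iB.hom)
    (w : iX ≫ f' = f ≫ iY)
    (hB : AlgSp.IsFinThickMor iB.hom) (hflat : AlgSp.LocP @Flat (f' ≫ g').hom) :
    (IsIso f.hom ↔ IsIso f'.hom) ∧
    (AlgSp.RepWith @IsOpenImmersion f.hom ↔ AlgSp.RepWith @IsOpenImmersion f'.hom) ∧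
    (Mono f.hom ↔ Mono f'.hom) ∧
    (AlgSp.IsFinLocFreeMor f.hom ↔ AlgSp.IsFinLocFreeMor f'.hom) ∧
    (∀ d : ℕ, AlgSp.IsFinLocFreeOfDegMor d f.hom ↔ AlgSp.IsFinLocFreeOfDegMor d f'.hom) := by
  have hw : iX.hom ≫ f'.hom = f.hom ≫ iY.hom := congrArg (fun t => t.hom) w
  have sqX : IsPullback iX.hom f.hom f'.hom iY.hom := IsPullback.of_bot hcX hw hcY
  obtain ⟨T⟩ := nonempty_chartTowerN X'.property Y'.property B'.property iX.hom iY.hom iB.hom f.hom f'.hom
    g.hom g'.hom hcX hcY hw hB hflat
  have hX := X.property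
  have hX' := X'.property
  have hY := Y.property
  have hY' := Y'.property
  have hB' := B'.property
  have hBt : IsThickMor iB.hom := by
    obtain ⟨N, h, -⟩ := hB
    exact h
  have hiX : IsThickMor iX.hom := (RepWith (S := S) thick).of_isPullback hcX.flip hBt
  have hiY : IsThickMor iY.hom := (RepWith (S := S) thick).of_isPullback hcY.flip hBt
  obtain ⟨-, -, tUc, -, -⟩ :=
    Thick.topological_iff_of_thick hX hX' hY hY' iX.hom iY.hom f.hom f'.hom hiX hiY hw
  have tSep := (Thick.separated_iff_of_thick hX hX' hY hY' iX.hom iY.hom f.hom f'.hom hiX hiY hw).1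
  have iffE := T.locP_iff etLocalST_etale hX' hY' sqX T.etale_m'
  have iffQ := T.locP_iff etLocalST_locallyQuasiFinite hX' hY' sqX T.lqf_m'
  have iffF := T.locP_iff etLocalST_flat hX' hY' sqX T.flat_m'
  have iffP := T.locP_iff etLocalST_locallyOfFinitePresentation hX' hY' sqX T.lfp_m'
  have hiso : IsIso f.hom → IsIso f'.hom := by
    intro hi
    haveI := hi
    exact isIso_of_finThick hX hX' hY hY' hB' iX.hom iY.hom iB.hom f.hom f'.hom g.hom g'.hom hcX hcY hw hB hflat
  have hmono : Mono f.hom → Mono f'.hom := by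
    intro hm
    haveI := hm
    exact mono_of_finThick hX hX' hY hY' hB' iX.hom iY.hom iB.hom f.hom f'.hom g.hom g'.hom hcX hcY hw hB hflat
  have hopen : RepWith @IsOpenImmersion f.hom → RepWith @IsOpenImmersion f'.hom := by
    intro ho
    haveI := hmono (mono_of_repWith_isOpenImmersion f.hom ho)
    exact repWith_isOpenImmersion_of_etale_mono hX' hY' f'.hom
      (iffE.1 (locP_etale_of_repWith_isOpenImmersion f.hom ho))
  have hfin : RepWith finLocFree f.hom → RepWith finLocFree f'.hom := by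
    intro hf
    have hF : RepWith @IsFinite f.hom := repWith_mono (fun _ _ g hg => by
      have hg' : IsFinite g ∧ Flat g ∧ LocallyOfFinitePresentation g := hg
      exact hg'.1) f.hom hf
    have hlq : LocP (@LocallyQuasiFinite ⊓ @LocallyOfFiniteType) f.hom :=
      locP_of_repWith _ @IsFinite (fun A B C m i hm hi => by
        have : IsFinite i := hi
        exact etLocalST_locallyQuasiFinite.precomp m i hm ⟨inferInstance, inferInstance⟩) f.hom hF
    have hfl : LocP @Flat f.hom :=
      locP_of_repWith @Flat finLocFree (fun A B C m i hm hi => by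
        have hi' : IsFinite i ∧ Flat i ∧ LocallyOfFinitePresentation i := hi
        exact etLocalST_flat.precomp m i hm hi'.2.1) f.hom hf
    have hlp : LocP @LocallyOfFinitePresentation f.hom :=
      locP_of_repWith @LocallyOfFinitePresentation finLocFree (fun A B C m i hm hi => by
        have hi' : IsFinite i ∧ Flat i ∧ LocallyOfFinitePresentation i := hi
        exact etLocalST_locallyOfFinitePresentation.precomp m i hm hi'.2.2) f.hom hf
    have hsep : IsSeparatedMor f.hom := isSeparatedMor_of_repWith (P := @IsFinite)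
      (fun _ _ g hg => by
        have : IsFinite g := hg
        exact (inferInstance : IsSeparated g)) hX f.hom hF
    have huc : IsUnivClosedMor f.hom := (repWith_universallyClosed_iff f.hom hF.rep).1
      (repWith_mono (fun _ _ g hg => by
        have : IsFinite g := hg
        exact (inferInstance : UniversallyClosed g)) f.hom hF)
    have hF' : RepWith @IsFinite f'.hom :=
      repWith_isFinite_of hX' hY' f'.hom (iffQ.1 hlq) (tSep.1 hsep) (tUc.1 huc)
    refine ⟨hF'.rep, fun T₁ M t fst snd sq => ?_⟩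
    show IsFinite snd.left ∧ Flat snd.left ∧ LocallyOfFinitePresentation snd.left
    exact ⟨hF'.property t fst snd sq,
      locP_yon_map (locP_of_isPullback etLocalST_flat hX' hY' sq (iffF.1 hfl)),
      locP_yon_map (locP_of_isPullback etLocalST_locallyOfFinitePresentation hX' hY' sq (iffP.1 hlp))⟩
  have hdeg : ∀ d : ℕ, RepWith (finLocFreeOfDeg d) f.hom → RepWith (finLocFreeOfDeg d) f'.hom := by
    intro d hf
    have hf0 : RepWith finLocFree f.hom := repWith_mono (fun _ _ g hg => by
      have hg' : Mor2.IsFinLocFree g ∧ ∀ y, g.finrank y = d := hg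
      exact hg'.1) f.hom hf
    exact repWith_finLocFreeOfDeg_of_thick iX.hom iY.hom f.hom f'.hom sqX hiY d hf (hfin hf0)
  exact ⟨⟨hiso, fun h => by haveI := h; exact sqX.isIso_snd_of_isIso⟩,
    ⟨hopen, fun h => (RepWith (S := S) @IsOpenImmersion).of_isPullback sqX h⟩,
    ⟨hmono, fun h => by haveI := h; exact sqX.mono_snd_of_mono⟩,
    ⟨hfin, fun h => (RepWith (S := S) finLocFree).of_isPullback sqX h⟩,
    fun d => ⟨hdeg d, fun h => (RepWith (S := S) (finLocFreeOfDeg d)).of_isPullback sqX h⟩⟩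

/-- **S10610**. -/
theorem main10610 {X X' Y Y' B B' : AlgSp.Space S} (iX : X ⟶ X') (iY : Y ⟶ Y') (iB : B ⟶ B')
    (f : X ⟶ Y) (f' : X' ⟶ Y') (g : Y ⟶ B) (g' : Y' ⟶ B')
    (hcX : IsPullback iX.hom (f ≫ g).hom (f' ≫ g').hom iB.hom) (hcY : IsPullback iY.hom g.hom g'.hom iB.hom)
    (w : iX ≫ f' = f ≫ iY)
    (hB : AlgSp.IsFinThickMor iB.hom) (hflat : AlgSp.LocP @Flat (f' ≫ g').hom) :
    (AlgSp.IsFiniteMor f.hom ↔ AlgSp.IsFiniteMor f'.hom) := by
  have hw : iX.hom ≫ f'.hom = f.hom ≫ iY.hom := congrArg (fun t => t.hom) w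
  have sqX : IsPullback iX.hom f.hom f'.hom iY.hom := IsPullback.of_bot hcX hw hcY
  obtain ⟨T⟩ := nonempty_chartTowerN X'.property Y'.property B'.property iX.hom iY.hom iB.hom f.hom f'.hom
    g.hom g'.hom hcX hcY hw hB hflat
  have hX := X.property
  have hX' := X'.property
  have hY := Y.property
  have hY' := Y'.property
  have hBt : IsThickMor iB.hom := by
    obtain ⟨N, h, -⟩ := hB
    exact h
  have hiX : IsThickMor iX.hom := (RepWith (S := S) thick).of_isPullback hcX.flip hBt
  have hiY : IsThickMor iY.hom := (RepWith (S := S) thick).of_isPullback hcY.flip hBt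
  obtain ⟨-, -, tUc, -, -⟩ :=
    Thick.topological_iff_of_thick hX hX' hY hY' iX.hom iY.hom f.hom f'.hom hiX hiY hw
  have tSep := (Thick.separated_iff_of_thick hX hX' hY hY' iX.hom iY.hom f.hom f'.hom hiX hiY hw).1
  have iffQ := T.locP_iff etLocalST_locallyQuasiFinite hX' hY' sqX T.lqf_m'
  constructor
  · intro hf
    exact isFiniteMor_of_repWith f'.hom
      (repWith_isFinite_of hX' hY' f'.hom (iffQ.1 (locP_lqf_of_isFiniteMor f.hom hf))
        (tSep.1 (isSeparatedMor_of_isFiniteMor hX f.hom hf))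
        (tUc.1 (isUnivClosedMor_of_isFiniteMor f.hom hf)))
  · intro hf'
    exact Groth.Agent.Lib.Helper17.affP_of_isPullback (Q := @IsFinite) sqX hf'

end Groth.Agent.Lib.Helper6.ThickAlgSp
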