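import Mathlib
import Groth.Agent.Lib.Helper6.LimSp7
import Groth.Agent.Lib.Helper6.ThickAlgSpN2
import Groth.Agent.Lib.Helper16.UnivInj
import Groth.Agent.Lib.Helper16.UnramMono
import Groth.Agent.Lib.Helper16.FpqcMono
import Groth.Agent.Lib.Helper16.DiagLfp
import Groth.Agent.S2581
import Groth.Agent.S9192
import Groth.Agent.S9188

/-!
# Helper library (helper6): descent of surjective, universally injective, iso- and monomorphisms along limits of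
algebraic spaces

* `isPullback_kernelPair_map`: the kernel pair of a base change is the base change of the kernel pair;
* `descend_univInjective`: via surjectivity of the diagonal;
* `main10015`, `main10016`, `main10021`, `main10022`.
-/

set_option autoImplicit false
universe u
open CategoryTheory CategoryTheory.Limits AlgebraicGeometry
open AlgSp Groth.Agent.Lib.Helper16

namespace Groth.Agent.Lib.Helper6.LimSp

section General

variable {C : Type*} [Category C] [HasPullbacks C]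

/-- For `X' = X ×_Y Y'`, the kernel pair of `X' ⟶ Y'` is the base change of the kernel pair of `X ⟶ Y`. -/
theorem isPullback_kernelPair_map {X' X Y' Y : C} {p₁ : X' ⟶ X} {q : X' ⟶ Y'} {f : X ⟶ Y} {y : Y' ⟶ Y}
    (sq : IsPullback p₁ q f y) (μ : pullback q q ⟶ pullback f f)
    (hm1 : μ ≫ pullback.fst f f = pullback.fst q q ≫ p₁)
    (hm2 : μ ≫ pullback.snd f f = pullback.snd q q ≫ p₁) :
    IsPullback μ (pullback.fst q q ≫ q) (pullback.fst f f ≫ f) y := by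
  have k1 : ∀ {Q : C} (t : Q ⟶ pullback q q), (t ≫ pullback.fst q q) ≫ p₁ = (t ≫ μ) ≫ pullback.fst f f :=
    fun t => by rw [Category.assoc, Category.assoc, hm1]
  have k2 : ∀ {Q : C} (t : Q ⟶ pullback q q), (t ≫ pullback.snd q q) ≫ p₁ = (t ≫ μ) ≫ pullback.snd f f :=
    fun t => by rw [Category.assoc, Category.assoc, hm2]
  refine isPullback_of_exists_lift ?_ ?_ ?_
  · simp only [Category.assoc]
    rw [reassoc_of% hm1, sq.w]
  · intro Q a b h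
    have h₁ : (a ≫ pullback.fst f f) ≫ f = b ≫ y := by
      rw [Category.assoc]; exact h
    have h₂ : (a ≫ pullback.snd f f) ≫ f = b ≫ y := by
      rw [Category.assoc, ← pullback.condition]; exact h
    refine ⟨pullback.lift (sq.lift (a ≫ pullback.fst f f) b h₁) (sq.lift (a ≫ pullback.snd f f) b h₂)
      (by rw [sq.lift_snd, sq.lift_snd]), ?_, ?_⟩
    · apply pullback.hom_ext
      · rw [← k1, pullback.lift_fst, sq.lift_fst]
      · rw [← k2, pullback.lift_snd, sq.lift_fst]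
    · rw [← Category.assoc, pullback.lift_fst, sq.lift_snd]
  · intro Q l l' e1 e2
    apply pullback.hom_ext
    · apply sq.hom_ext
      · rw [k1 l, k1 l', e1]
      · rw [Category.assoc, Category.assoc]; exact e2
    · apply sq.hom_ext
      · rw [k2 l, k2 l', e1]
      · rw [Category.assoc, Category.assoc, ← pullback.condition]; exact e2

end General

variable {S : Scheme.{u}}

/-- The statement "every base change to the stage `i'` along `χ` has `R`". -/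
def StageAll {I : Type u} [SmallCategory I] (D : I ⥤ AlgSp.Sp S) {i₀ : I} {X₀ Y₀ : Sp S} (f₀ : X₀ ⟶ Y₀)
    (b₀ : Y₀ ⟶ D.obj i₀) (R : MorphismProperty (Sp S)) (i' : I) (χ : i' ⟶ i₀) : Prop :=
  ∀ (Xi Yi : AlgSp.Sp S) (fi : Xi ⟶ Yi) (pYi : Yi ⟶ Y₀) (qYi : Yi ⟶ D.obj i')
    (_ : IsPullback pYi qYi b₀ (D.map χ)) (pXi : Xi ⟶ X₀) (_ : IsPullback pXi fi f₀ pYi), R fi

theorem stageAll_of_eventually {I : Type u} [SmallCategory I] (D : I ⥤ AlgSp.Sp S) {i₀ : I} {X₀ Y₀ : Sp S}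
    (f₀ : X₀ ⟶ Y₀) (b₀ : Y₀ ⟶ D.obj i₀) (R : MorphismProperty (Sp S))
    (h : ∃ (i : I) (φ : i ⟶ i₀), ∀ (i' : I) (ψ : i' ⟶ i), StageAll D f₀ b₀ R i' (ψ ≫ φ)) :
    ∃ (i : I) (φ : i ⟶ i₀), StageAll D f₀ b₀ R i φ := by
  obtain ⟨i, φ, H⟩ := h
  refine ⟨i, φ, ?_⟩
  have := H i (𝟙 i)
  rwa [Category.id_comp] at this

/-! ### The descent statements for schemes, in the form used by `descend_core` -/

theorem hdesc_surjective {J : Type u} [SmallCategory J] [IsCofiltered J] (E : J ⥤ Scheme.{u}) (cE : Cone E)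
    (hcE : IsLimit cE) (haff : ∀ (i j : J) (f : i ⟶ j), IsAffineHom (E.map f)) (j₀ : J)
    (hj₀ : IsAffine (E.obj j₀)) {X₀ Y₀ : Scheme.{u}} (f₀ : X₀ ⟶ Y₀) (g₀ : Y₀ ⟶ E.obj j₀) (hg₀ : IsIso g₀)
    (hX₀ : IsAffine X₀) (hY₀ : IsAffine Y₀) (hlfp : LocallyOfFinitePresentation f₀)
    {X Y : Scheme.{u}} (f : X ⟶ Y) (g : Y ⟶ cE.pt) (qY : Y ⟶ Y₀) (qX : X ⟶ X₀)
    (hY : IsPullback qY g g₀ (cE.π.app j₀)) (hX : IsPullback qX f f₀ qY) (hf : Surjective f) :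
    ∃ (i : J) (φ : i ⟶ j₀) (Xi Yi : Scheme.{u}) (fi : Xi ⟶ Yi) (gi : Yi ⟶ E.obj i) (pY : Yi ⟶ Y₀)
      (pX : Xi ⟶ X₀), IsPullback pY gi g₀ (E.map φ) ∧ IsPullback pX fi f₀ pY ∧ Surjective fi := by
  haveI := haff
  haveI := hj₀
  haveI := hg₀
  haveI := hX₀
  haveI := hY₀
  haveI := hlfp
  haveI := hf
  exact Groth.Agent.S2581.result E cE hcE j₀ f₀ g₀ f g qY qX hY hX

theorem hdesc_etale {J : Type u} [SmallCategory J] [IsCofiltered J] (E : J ⥤ Scheme.{u}) (cE : Cone E)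
    (hcE : IsLimit cE) (haff : ∀ (i j : J) (f : i ⟶ j), IsAffineHom (E.map f)) (j₀ : J)
    (hj₀ : IsAffine (E.obj j₀)) {X₀ Y₀ : Scheme.{u}} (f₀ : X₀ ⟶ Y₀) (g₀ : Y₀ ⟶ E.obj j₀) (_ : IsIso g₀)
    (hX₀ : IsAffine X₀) (hY₀ : IsAffine Y₀) (hlfp : LocallyOfFinitePresentation f₀)
    {X Y : Scheme.{u}} (f : X ⟶ Y) (g : Y ⟶ cE.pt) (qY : Y ⟶ Y₀) (qX : X ⟶ X₀)
    (hY : IsPullback qY g g₀ (cE.π.app j₀)) (hX : IsPullback qX f f₀ qY) (hf : Etale f) :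
    ∃ (i : J) (φ : i ⟶ j₀) (Xi Yi : Scheme.{u}) (fi : Xi ⟶ Yi) (gi : Yi ⟶ E.obj i) (pY : Yi ⟶ Y₀)
      (pX : Xi ⟶ X₀), IsPullback pY gi g₀ (E.map φ) ∧ IsPullback pX fi f₀ pY ∧ Etale fi := by
  haveI := haff
  haveI := hj₀
  haveI := hX₀
  haveI := hY₀
  haveI := hlfp
  haveI := hf
  exact Groth.Agent.S9192.result E cE hcE j₀ f₀ g₀ f g qY qX hY hX

theorem hdesc_unramified {J : Type u} [SmallCategory J] [IsCofiltered J] (E : J ⥤ Scheme.{u}) (cE : Cone E)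
    (hcE : IsLimit cE) (haff : ∀ (i j : J) (f : i ⟶ j), IsAffineHom (E.map f)) (j₀ : J)
    (hj₀ : IsAffine (E.obj j₀)) {X₀ Y₀ : Scheme.{u}} (f₀ : X₀ ⟶ Y₀) (g₀ : Y₀ ⟶ E.obj j₀) (_ : IsIso g₀)
    (hX₀ : IsAffine X₀) (hY₀ : IsAffine Y₀) (hlft : LocallyOfFiniteType f₀)
    {X Y : Scheme.{u}} (f : X ⟶ Y) (g : Y ⟶ cE.pt) (qY : Y ⟶ Y₀) (qX : X ⟶ X₀)
    (hY : IsPullback qY g g₀ (cE.π.app j₀)) (hX : IsPullback qX f f₀ qY)
    (hf : (@LocallyOfFiniteType ⊓ @FormallyUnramified : MorphismProperty Scheme.{u}) f) :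
    ∃ (i : J) (φ : i ⟶ j₀) (Xi Yi : Scheme.{u}) (fi : Xi ⟶ Yi) (gi : Yi ⟶ E.obj i) (pY : Yi ⟶ Y₀)
      (pX : Xi ⟶ X₀), IsPullback pY gi g₀ (E.map φ) ∧ IsPullback pX fi f₀ pY ∧
        (@LocallyOfFiniteType ⊓ @FormallyUnramified : MorphismProperty Scheme.{u}) fi := by
  haveI := haff
  haveI := hj₀
  haveI := hX₀
  haveI := hY₀
  haveI := hlft
  have hf' : LocallyOfFiniteType f ∧ FormallyUnramified f := hf
  haveI := hf'.2
  obtain ⟨i, φ, Xi, Yi, fi, gi, pY, pX, h1, h2, h3⟩ := Groth.Agent.S9188.result E cE hcE j₀ f₀ g₀ f g qY qX hY hX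
  have h4 : LocallyOfFiniteType fi := MorphismProperty.of_isPullback (P := @LocallyOfFiniteType) h2 hlft
  exact ⟨i, φ, Xi, Yi, fi, gi, pY, pX, h1, h2, (⟨h4, h3⟩ : LocallyOfFiniteType fi ∧ FormallyUnramified fi)⟩

/-! ### Universally injective morphisms -/

/-- Descent of universal injectivity, for all small enough stages. -/
theorem descend_univInjective (S : Scheme.{u}) [QuasiSeparatedSpace S] {I : Type u} [SmallCategory I]
    [IsCofiltered I]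
    (D : I ⥤ AlgSp.Sp S) (hD : ∀ i, AlgSp.IsAlgSpace (D.obj i))
    (hDa : ∀ (i j : I) (φ : i ⟶ j), AlgSp.IsAffineMor (D.map φ))
    (c : Cone D) (hc : IsLimit c) (i₀ : I)
    (X₀ Y₀ : AlgSp.Space S) (f₀ : X₀.obj ⟶ Y₀.obj) (b₀ : Y₀.obj ⟶ D.obj i₀)
    (hXqc : AlgSp.IsQuasiCompactSp X₀.obj) (hXqs : AlgSp.IsQuasiSeparatedSp X₀.obj)
    (hYqs : AlgSp.IsQuasiSeparatedSp Y₀.obj)
    (X Y : AlgSp.Sp S) (f : X ⟶ Y) (pY : Y ⟶ Y₀.obj) (qY : Y ⟶ c.pt)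
    (hY : IsPullback pY qY b₀ (c.π.app i₀)) (pX : X ⟶ X₀.obj) (hX : IsPullback pX f f₀ pY)
    (hf : AlgSp.IsUnivInjectiveMor f) (hf₀ : AlgSp.LocP @LocallyOfFiniteType f₀) :
    ∃ (i : I) (φ : i ⟶ i₀), ∀ (i' : I) (ψ : i' ⟶ i), StageAll D f₀ b₀ IsUnivInjectiveMor i' (ψ ≫ φ) := by
  have hcpt : IsAlgSpace c.pt := (main10004 S D hD hDa c hc).1
  have hYalg : IsAlgSpace Y := isAlgSpace_of_isPullback Y₀.property (hD i₀).diag hcpt hY
  have hXalg : IsAlgSpace X := isAlgSpace_of_isPullback X₀.property Y₀.property.diag hYalg hX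
  have hΔ : IsSurjectiveMor (pullback.diagonal f) :=
    (injOnFieldPoints_iff_diagonal_surjective hXalg.diag f).1
      ((isUnivInjectiveMor_iff_injOnFieldPoints hXalg.diag f).2 hf)
  have hK₀alg : IsAlgSpace (pullback f₀ f₀) :=
    isAlgSpace_of_isPullback X₀.property Y₀.property.diag X₀.property (IsPullback.of_hasPullback f₀ f₀)
  have hK₀qc : IsQuasiCompactSp (pullback f₀ f₀) :=
    isQuasiCompactSp_of_isPullback (IsPullback.of_hasPullback f₀ f₀) hXqc hXqc hYqs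
  have hK₀qs : IsQuasiSeparatedSp (pullback f₀ f₀) :=
    repWith_diag_of_isPullback (IsPullback.of_hasPullback f₀ f₀) hXqs hXqs
  have hΔ₀ : LocP @LocallyOfFinitePresentation (pullback.diagonal f₀) := by
    have h := repWith_lfp_diagonal X₀.property Y₀.property f₀ hf₀
    exact (locP_iff_repWith etLocalST_locallyOfFinitePresentation X₀.property hK₀alg _ h.rep).2 h
  have hX' := isPullback_diagonal_of_isPullback hX
  have hY' := (isPullback_kernelPair_map hX (pullback.map f f f₀ f₀ pX pX pY hX.w.symm hX.w.symm)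
    (pullback.lift_fst _ _ _) (pullback.lift_snd _ _ _)).paste_vert hY
  obtain ⟨i, φ, H⟩ := descend_surjective @hdesc_surjective D hD hDa c hc i₀ (pullback.diagonal f₀)
    ((pullback.fst f₀ f₀ ≫ f₀) ≫ b₀) hXqc hK₀qc hK₀qs (pullback.diagonal f) _ _ hY' pX hX' hΔ hΔ₀
  refine ⟨i, φ, fun i' ψ Xi Yi fi pYi qYi hYi pXi hXi => ?_⟩
  have hYialg : IsAlgSpace Yi := isAlgSpace_of_isPullback Y₀.property (hD i₀).diag (hD i') hYi
  have hXialg : IsAlgSpace Xi := isAlgSpace_of_isPullback X₀.property Y₀.property.diag hYialg hXi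
  have hXi' := isPullback_diagonal_of_isPullback hXi
  have hYi' := (isPullback_kernelPair_map hXi (pullback.map fi fi f₀ f₀ pXi pXi pYi hXi.w.symm hXi.w.symm)
    (pullback.lift_fst _ _ _) (pullback.lift_snd _ _ _)).paste_vert hYi
  have hs : IsSurjectiveMor (pullback.diagonal fi) :=
    H i' ψ Xi (pullback fi fi) (pullback.diagonal fi) _ _ hYi' pXi hXi'
  exact (isUnivInjectiveMor_iff_injOnFieldPoints hXialg.diag fi).1
    ((injOnFieldPoints_iff_diagonal_surjective hXialg.diag fi).2 hs)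

theorem main10015 (S : Scheme.{u}) [QuasiSeparatedSpace S] {I : Type u} [SmallCategory I] [IsCofiltered I]
    (D : I ⥤ AlgSp.Sp S) (hD : ∀ i, AlgSp.IsAlgSpace (D.obj i))
    (hDa : ∀ (i j : I) (φ : i ⟶ j), AlgSp.IsAffineMor (D.map φ))
    (c : Cone D) (hc : IsLimit c) (i₀ : I)
    (X₀ Y₀ : AlgSp.Space S) (f₀ : X₀.obj ⟶ Y₀.obj) (b₀ : Y₀.obj ⟶ D.obj i₀)
    (hXqc : AlgSp.IsQuasiCompactSp X₀.obj)
    (hYqc : AlgSp.IsQuasiCompactSp Y₀.obj) (hYqs : AlgSp.IsQuasiSeparatedSp Y₀.obj)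
    (X Y : AlgSp.Sp S) (f : X ⟶ Y) (pY : Y ⟶ Y₀.obj) (qY : Y ⟶ c.pt)
    (hY : IsPullback pY qY b₀ (c.π.app i₀)) (pX : X ⟶ X₀.obj) (hX : IsPullback pX f f₀ pY)
    (hf : AlgSp.IsSurjectiveMor f) (hf₀ : AlgSp.LocP @LocallyOfFinitePresentation f₀) :
    ∃ (i : I) (φ : i ⟶ i₀), ∀ (Xi Yi : AlgSp.Sp S) (fi : Xi ⟶ Yi) (pYi : Yi ⟶ Y₀.obj) (qYi : Yi ⟶ D.obj i)
      (_ : IsPullback pYi qYi b₀ (D.map φ)) (pXi : Xi ⟶ X₀.obj) (_ : IsPullback pXi fi f₀ pYi),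
      AlgSp.IsSurjectiveMor fi :=
  stageAll_of_eventually D f₀ b₀ IsSurjectiveMor
    (descend_surjective @hdesc_surjective D hD hDa c hc i₀ f₀ b₀ hXqc hYqc hYqs f pY qY hY pX hX hf hf₀)

theorem main10016 (S : Scheme.{u}) [QuasiSeparatedSpace S] {I : Type u} [SmallCategory I] [IsCofiltered I]
    (D : I ⥤ AlgSp.Sp S) (hD : ∀ i, AlgSp.IsAlgSpace (D.obj i))
    (hDa : ∀ (i j : I) (φ : i ⟶ j), AlgSp.IsAffineMor (D.map φ))
    (c : Cone D) (hc : IsLimit c) (i₀ : I)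
    (X₀ Y₀ : AlgSp.Space S) (f₀ : X₀.obj ⟶ Y₀.obj) (b₀ : Y₀.obj ⟶ D.obj i₀)
    (hXqc : AlgSp.IsQuasiCompactSp X₀.obj) (hXqs : AlgSp.IsQuasiSeparatedSp X₀.obj)
    (hYqs : AlgSp.IsQuasiSeparatedSp Y₀.obj)
    (X Y : AlgSp.Sp S) (f : X ⟶ Y) (pY : Y ⟶ Y₀.obj) (qY : Y ⟶ c.pt)
    (hY : IsPullback pY qY b₀ (c.π.app i₀)) (pX : X ⟶ X₀.obj) (hX : IsPullback pX f f₀ pY)
    (hf : AlgSp.IsUnivInjectiveMor f) (hf₀ : AlgSp.LocP @LocallyOfFiniteType f₀) :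
    ∃ (i : I) (φ : i ⟶ i₀), ∀ (Xi Yi : AlgSp.Sp S) (fi : Xi ⟶ Yi) (pYi : Yi ⟶ Y₀.obj) (qYi : Yi ⟶ D.obj i)
      (_ : IsPullback pYi qYi b₀ (D.map φ)) (pXi : Xi ⟶ X₀.obj) (_ : IsPullback pXi fi f₀ pYi),
      AlgSp.IsUnivInjectiveMor fi :=
  stageAll_of_eventually D f₀ b₀ IsUnivInjectiveMor
    (descend_univInjective S D hD hDa c hc i₀ X₀ Y₀ f₀ b₀ hXqc hXqs hYqs X Y f pY qY hY pX hX hf hf₀)

theorem etale_le_unramified :
    (@Etale : MorphismProperty Scheme.{u}) ≤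
      (@LocallyOfFiniteType ⊓ @FormallyUnramified : MorphismProperty Scheme.{u}) := fun _ _ g hg => by
  have : Etale g := hg
  exact (⟨inferInstance, inferInstance⟩ : LocallyOfFiniteType g ∧ FormallyUnramified g)

theorem main10021 (S : Scheme.{u}) [QuasiSeparatedSpace S] {I : Type u} [SmallCategory I] [IsCofiltered I]
    (D : I ⥤ AlgSp.Sp S) (hD : ∀ i, AlgSp.IsAlgSpace (D.obj i))
    (hDa : ∀ (i j : I) (φ : i ⟶ j), AlgSp.IsAffineMor (D.map φ))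
    (c : Cone D) (hc : IsLimit c) (i₀ : I)
    (X₀ Y₀ : AlgSp.Space S) (f₀ : X₀.obj ⟶ Y₀.obj) (b₀ : Y₀.obj ⟶ D.obj i₀)
    (hXqc : AlgSp.IsQuasiCompactSp X₀.obj) (hXqs : AlgSp.IsQuasiSeparatedSp X₀.obj)
    (hYqc : AlgSp.IsQuasiCompactSp Y₀.obj) (hYqs : AlgSp.IsQuasiSeparatedSp Y₀.obj)
    (X Y : AlgSp.Sp S) (f : X ⟶ Y) (pY : Y ⟶ Y₀.obj) (qY : Y ⟶ c.pt)
    (hY : IsPullback pY qY b₀ (c.π.app i₀)) (pX : X ⟶ X₀.obj) (hX : IsPullback pX f f₀ pY)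
    [IsIso f] (hf₀ : AlgSp.LocP @LocallyOfFinitePresentation f₀) :
    ∃ (i : I) (φ : i ⟶ i₀), ∀ (Xi Yi : AlgSp.Sp S) (fi : Xi ⟶ Yi) (pYi : Yi ⟶ Y₀.obj) (qYi : Yi ⟶ D.obj i)
      (_ : IsPullback pYi qYi b₀ (D.map φ)) (pXi : Xi ⟶ X₀.obj) (_ : IsPullback pXi fi f₀ pYi),
      IsIso fi := by
  have hcpt : IsAlgSpace c.pt := (main10004 S D hD hDa c hc).1
  have hYalg : IsAlgSpace Y := isAlgSpace_of_isPullback Y₀.property (hD i₀).diag hcpt hY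
  have hlft₀ : LocP @LocallyOfFiniteType f₀ := locP_mono (fun _ _ g hg => by
    have : LocallyOfFinitePresentation g := hg
    exact (inferInstance : LocallyOfFiniteType g)) hf₀
  have h₁ := descend_locP' etLocalST_etale @hdesc_etale D hD hDa c hc i₀ f₀ b₀ hXqc hYqc hYqs f pY qY hY pX hX
    ((isEtaleMor_iff_locP_etale hYalg f).1 (isEtaleMor_of_isIso f)) hf₀
  have h₂ := descend_surjective @hdesc_surjective D hD hDa c hc i₀ f₀ b₀ hXqc hYqc hYqs f pY qY hY pX hX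
    (Groth.Agent.Lib.Helper6.ThickAlgSp.isSurjectiveMor_of_isIso f) hf₀
  have h₃ := descend_univInjective S D hD hDa c hc i₀ X₀ Y₀ f₀ b₀ hXqc hXqs hYqs X Y f pY qY hY pX hX
    (UnramMono.isUnivInjectiveMor_of_mono f) hlft₀
  obtain ⟨i, φ, H⟩ := combine₂
    (fun i' χ => StageAll D f₀ b₀ (LocP @Etale) i' χ ∧ StageAll D f₀ b₀ IsSurjectiveMor i' χ)
    (StageAll D f₀ b₀ IsUnivInjectiveMor)
    (combine₂ (StageAll D f₀ b₀ (LocP @Etale)) (StageAll D f₀ b₀ IsSurjectiveMor) h₁ h₂) h₃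
  refine ⟨i, φ, fun Xi Yi fi pYi qYi hYi pXi hXi => ?_⟩
  have hYi' : IsPullback pYi qYi b₀ (D.map (𝟙 i ≫ φ)) := by rw [Category.id_comp]; exact hYi
  obtain ⟨⟨he, hs⟩, hu⟩ := H i (𝟙 i)
  have hYialg : IsAlgSpace Yi := isAlgSpace_of_isPullback Y₀.property (hD i₀).diag (hD i) hYi
  have hXialg : IsAlgSpace Xi := isAlgSpace_of_isPullback X₀.property Y₀.property.diag hYialg hXi
  have hfie : LocP @Etale fi := he Xi Yi fi pYi qYi hYi' pXi hXi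
  have hmono : Mono fi := UnramMono.mono_of_locP_unramified_of_univInjective hXialg hYialg fi
    (locP_mono etale_le_unramified hfie) (hu Xi Yi fi pYi qYi hYi' pXi hXi)
  exact isIso_of_etale_mono_surjective hXialg fi ((isEtaleMor_iff_locP_etale hYialg fi).2 hfie)
    (hs Xi Yi fi pYi qYi hYi' pXi hXi)

theorem main10022 (S : Scheme.{u}) [QuasiSeparatedSpace S] {I : Type u} [SmallCategory I] [IsCofiltered I]
    (D : I ⥤ AlgSp.Sp S) (hD : ∀ i, AlgSp.IsAlgSpace (D.obj i))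
    (hDa : ∀ (i j : I) (φ : i ⟶ j), AlgSp.IsAffineMor (D.map φ))
    (c : Cone D) (hc : IsLimit c) (i₀ : I)
    (X₀ Y₀ : AlgSp.Space S) (f₀ : X₀.obj ⟶ Y₀.obj) (b₀ : Y₀.obj ⟶ D.obj i₀)
    (hXqc : AlgSp.IsQuasiCompactSp X₀.obj) (hXqs : AlgSp.IsQuasiSeparatedSp X₀.obj)
    (hYqc : AlgSp.IsQuasiCompactSp Y₀.obj) (hYqs : AlgSp.IsQuasiSeparatedSp Y₀.obj)
    (X Y : AlgSp.Sp S) (f : X ⟶ Y) (pY : Y ⟶ Y₀.obj) (qY : Y ⟶ c.pt)
    (hY : IsPullback pY qY b₀ (c.π.app i₀)) (pX : X ⟶ X₀.obj) (hX : IsPullback pX f f₀ pY)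
    [Mono f] (hf₀ : AlgSp.LocP @LocallyOfFiniteType f₀) :
    ∃ (i : I) (φ : i ⟶ i₀), ∀ (Xi Yi : AlgSp.Sp S) (fi : Xi ⟶ Yi) (pYi : Yi ⟶ Y₀.obj) (qYi : Yi ⟶ D.obj i)
      (_ : IsPullback pYi qYi b₀ (D.map φ)) (pXi : Xi ⟶ X₀.obj) (_ : IsPullback pXi fi f₀ pYi),
      Mono fi := by
  have hcpt : IsAlgSpace c.pt := (main10004 S D hD hDa c hc).1
  have hYalg : IsAlgSpace Y := isAlgSpace_of_isPullback Y₀.property (hD i₀).diag hcpt hY
  have hXalg : IsAlgSpace X := isAlgSpace_of_isPullback X₀.property Y₀.property.diag hYalg hX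
  have hlftf : LocP @LocallyOfFiniteType f :=
    locP_of_isPullback etLocalST_locallyOfFiniteType X₀.property Y₀.property hX hf₀
  have hunr : LocP (@LocallyOfFiniteType ⊓ @FormallyUnramified) f :=
    UnramMono.locP_unramified_of_mono_lft hXalg hYalg f hlftf
  have h₁ := descend_locP' etLocalST_unramified @hdesc_unramified D hD hDa c hc i₀ f₀ b₀ hXqc hYqc hYqs f pY qY
    hY pX hX hunr hf₀
  have h₃ := descend_univInjective S D hD hDa c hc i₀ X₀ Y₀ f₀ b₀ hXqc hXqs hYqs X Y f pY qY hY pX hX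
    (UnramMono.isUnivInjectiveMor_of_mono f) hf₀
  obtain ⟨i, φ, H⟩ := combine₂ (StageAll D f₀ b₀ (LocP (@LocallyOfFiniteType ⊓ @FormallyUnramified)))
    (StageAll D f₀ b₀ IsUnivInjectiveMor) h₁ h₃
  refine ⟨i, φ, fun Xi Yi fi pYi qYi hYi pXi hXi => ?_⟩
  have hYi' : IsPullback pYi qYi b₀ (D.map (𝟙 i ≫ φ)) := by rw [Category.id_comp]; exact hYi
  obtain ⟨hun, hu⟩ := H i (𝟙 i)
  have hYialg : IsAlgSpace Yi := isAlgSpace_of_isPullback Y₀.property (hD i₀).diag (hD i) hYi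
  have hXialg : IsAlgSpace Xi := isAlgSpace_of_isPullback X₀.property Y₀.property.diag hYialg hXi
  exact UnramMono.mono_of_locP_unramified_of_univInjective hXialg hYialg fi
    (hun Xi Yi fi pYi qYi hYi' pXi hXi) (hu Xi Yi fi pYi qYi hYi' pXi hXi)

end Groth.Agent.Lib.Helper6.LimSp
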