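import Mathlib
import Groth.Agent.Lib.Helper6.LimSp8
import Groth.Agent.Lib.Helper6.LimSp13
import Groth.Agent.Lib.Helper6.LimSp14
import Groth.Agent.Lib.Helper16.AffDescLocal
import Groth.Agent.Lib.Helper16.FpqcCover
import Groth.Agent.Lib.Helper16.AffRep
import Groth.Agent.Lib.Helper17.AlgSpUnram
import Groth.Agent.S12442

/-!
# Helper library (helper6): a limit of algebraic spaces which is an affine scheme

* `isQuasiSeparatedSp_iff_terminal`, `isQuasiSeparatedSp_of_isQuasiSeparatedMor`;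
* `affine_stage_terminal`, `main10006`: if the limit of a cofiltered system of quasi-compact and quasi-separated
  algebraic spaces with affine transition maps is an affine scheme, so is some stage.
-/

set_option autoImplicit false
universe u
open CategoryTheory CategoryTheory.Limits AlgebraicGeometry
open AlgSp Groth.Agent.Lib.Helper16

namespace Groth.Agent.Lib.Helper6.LimSp

variable {S : Scheme.{u}}

theorem isQuasiSeparatedSp_iff_terminal (X : Sp S) :
    IsQuasiSeparatedSp X ↔ IsQuasiSeparatedMor (terminal.from X) := by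
  have h : Limits.diag X ≫ (prodIsoPullback X X).hom = pullback.diagonal (terminal.from X) := by
    apply pullback.hom_ext
    · rw [Category.assoc, prodIsoPullback_hom_fst, pullback.diagonal_fst]
      exact prod.lift_fst _ _
    · rw [Category.assoc, prodIsoPullback_hom_snd, pullback.diagonal_snd]
      exact prod.lift_snd _ _
  show RepWith @QuasiCompact (Limits.diag X) ↔ RepWith @QuasiCompact (pullback.diagonal (terminal.from X))
  rw [← h]
  exact (MorphismProperty.cancel_right_of_respectsIso (RepWith @QuasiCompact) _ _).symm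

theorem isQuasiSeparatedSp_of_isQuasiSeparatedMor {P X : Sp S} (f : P ⟶ X) (hf : IsQuasiSeparatedMor f)
    (hX : IsQuasiSeparatedSp X) : IsQuasiSeparatedSp P := by
  rw [isQuasiSeparatedSp_iff_terminal] at hX ⊢
  rw [← terminal.comp_from f]
  exact (RepWith (S := S) @QuasiCompact).diagonal.comp_mem f (terminal.from X) hf hX

theorem isQuasiSeparatedSp_yon_of_isAffine (W : Over S) (hW : IsAffine W.left) :
    IsQuasiSeparatedSp ((yon S).obj W) := by
  have : IsAffine W.left := hW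
  exact (repWith_diag_yon_iff @QuasiCompact W).2 inferInstance

/-- If the limit of a cofiltered system (with terminal stage) of quasi-compact and quasi-separated algebraic spaces
with affine transition maps is an affine scheme, so is some stage. -/
theorem affine_stage_terminal [QuasiSeparatedSpace ↥S] {J : Type u} [SmallCategory J] [IsCofiltered J] {t : J}
    (ht : IsTerminal t) (D : J ⥤ Sp S) (hD : ∀ j, IsAlgSpace (D.obj j))
    (hDa : ∀ (i j : J) (φ : i ⟶ j), IsAffineMor (D.map φ))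
    (hqc : ∀ j, IsQuasiCompactSp (D.obj j)) (hqs : ∀ j, IsQuasiSeparatedSp (D.obj j))
    (c : Cone D) (hc : IsLimit c) (T : Over S) (hT : IsAffine T.left) (e : (yon S).obj T ≅ c.pt) :
    ∃ (i : J) (T' : Over S), IsAffine T'.left ∧ Nonempty ((yon S).obj T' ≅ D.obj i) := by
  -- the chart of the limit
  obtain ⟨U₀, g, hU₀aff, hge, hgs⟩ := DenseFin.exists_affine_chart_of_isQuasiCompactSp (hqc t)
  have hU₀aff' : IsAffine U₀.left := hU₀aff
  obtain ⟨L⟩ := nonempty_limChart ht D hD hDa c hc g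
  have hEaff : ∀ j, IsAffine (L.E.obj j).left := fun j => by
    have h1 : IsAffineHom (L.p j).left := L.affp j
    exact isAffine_of_isAffineHom (L.p j).left
  have hEcomp : ∀ j, CompactSpace ↥(L.E.obj j).left := fun j => by have := hEaff j; infer_instance
  have hEqs : ∀ j, QuasiSeparatedSpace ↥(L.E.obj j).left := fun j => by have := hEaff j; infer_instance
  have hUaff : IsAffine L.cE.pt.left := by
    have h1 : IsAffineHom (L.cE.π.app t).left := L.affπ t
    have := hEaff t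
    exact isAffine_of_isAffineHom (L.cE.π.app t).left
  have hfstE : RepWith @Etale L.fst := (RepWith @Etale).of_isPullback L.sqlim.flip hge
  have hfstS : RepWith @Surjective L.fst := (RepWith @Surjective).of_isPullback L.sqlim.flip hgs
  obtain ⟨a, hanat, hasq, hafst, hast⟩ : ∃ a : ∀ j, (yon S).obj (L.E.obj j) ⟶ D.obj j,
      (∀ {j k : J} (m : j ⟶ k), (yon S).map (L.E.map m) ≫ a k = a j ≫ D.map m) ∧
      (∀ j, IsPullback (a j) ((yon S).map (L.p j)) (D.map (ht.from j)) g) ∧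
      (∀ j, L.fst ≫ c.π.app j = (yon S).map (L.cE.π.app j) ≫ a j) ∧
      (∀ j, IsPullback L.fst ((yon S).map (L.cE.π.app j)) (c.π.app j) (a j)) :=
    ⟨fun j => L.α.app j, fun m => L.α.naturality m, fun j => L.sq j, fun j => L.hfst j, fun j => L.sqstage j⟩
  have hajE : ∀ j, RepWith @Etale (a j) := fun j => (RepWith @Etale).of_isPullback (hasq j).flip hge
  -- the etale covering `U ⟶ T`
  obtain ⟨u, hu⟩ := (yon S).map_surjective (L.fst ≫ e.inv)
  have hue : Etale u.left := (repWith_yon_map_iff @Etale u).1 (by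
    rw [hu]
    exact (MorphismProperty.cancel_right_of_respectsIso (RepWith (S := S) @Etale) L.fst e.inv).2 hfstE)
  have hus : Surjective u.left := (repWith_yon_map_iff @Surjective u).1 (by
    rw [hu]
    exact (MorphismProperty.cancel_right_of_respectsIso (RepWith (S := S) @Surjective) L.fst e.inv).2 hfstS)
  -- a finitely presented model
  obtain ⟨Z₀, V₀, zS, z₀, v₀, w₀, hzS, hZaff, hVaff, hzlfp, hve, hvs, sqA₀⟩ :=
    exists_etale_model (S := S) T.hom hT hUaff u.left hue hus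
  have : IsAffine Z₀ := hZaff
  have : IsAffine V₀ := hVaff
  have : LocallyOfFinitePresentation zS := hzlfp
  have : Etale v₀ := hve
  have : Surjective v₀ := hvs
  have hw₀ : w₀ ≫ v₀ ≫ zS = L.cE.pt.hom := by
    rw [← Category.assoc, sqA₀.w, Category.assoc, hzS]
    exact Over.w u
  obtain ⟨Z, V', z, v, w, hZl, hV'l, hzl, hvl, hwl, hZhom, hV'hom⟩ : ∃ (Z V' : Over S) (z : T ⟶ Z) (v : V' ⟶ Z)
      (w : L.cE.pt ⟶ V'), Z.left = Z₀ ∧ V'.left = V₀ ∧ HEq z.left z₀ ∧ HEq v.left v₀ ∧ HEq w.left w₀ ∧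
      HEq Z.hom zS ∧ HEq V'.hom (v₀ ≫ zS) :=
    ⟨Over.mk zS, Over.mk (v₀ ≫ zS), Over.homMk z₀ hzS, Over.homMk v₀ rfl, Over.homMk w₀ hw₀, rfl, rfl, HEq.rfl,
      HEq.rfl, HEq.rfl, HEq.rfl, HEq.rfl⟩
  subst hZl hV'l
  have hzl' : z.left = z₀ := eq_of_heq hzl
  have hvl' : v.left = v₀ := eq_of_heq hvl
  have hwl' : w.left = w₀ := eq_of_heq hwl
  have hZhom' : Z.hom = zS := eq_of_heq hZhom
  have hV'hom' : V'.hom = v₀ ≫ zS := eq_of_heq hV'hom
  subst hzl' hvl' hwl' hZhom'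
  have hV'lfp : LocallyOfFinitePresentation V'.hom := by rw [hV'hom']; infer_instance
  have sqA : IsPullback w u v z := IsPullback.of_map (Over.forget S) (Over.OverMorphism.ext sqA₀.w) sqA₀
  have sqA' : IsPullback ((yon S).map w) ((yon S).map u) ((yon S).map v) ((yon S).map z) := sqA.map (yon S)
  have hvE : RepWith @Etale ((yon S).map v) := (repWith_yon_map_iff _ _).2 hve
  have hvS : RepWith @Surjective ((yon S).map v) := (repWith_yon_map_iff _ _).2 hvs
  obtain ⟨ψ, hψ⟩ : ∃ ψ : c.pt ⟶ (yon S).obj Z, ψ = e.inv ≫ (yon S).map z := ⟨_, rfl⟩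
  have sqA'' : IsPullback ((yon S).map w) L.fst ((yon S).map v) ψ :=
    IsPullback.of_iso sqA' (Iso.refl _) (Iso.refl _) e (Iso.refl _) (by simp) (by rw [hu]; simp) (by simp)
      (by simp [hψ])
  -- the morphism to `Z` descends to a stage
  obtain ⟨k, ψk, hψk⟩ := hom_descends_terminal ht D hD hDa c hc (hqc t) hqs Z hzlfp ψ
  -- the morphism to `V'` descends to a stage
  obtain ⟨j', ω', hω'⟩ := over_exists_factor L.E L.cE L.hc₀ (fun {j k} m => L.aff m) hEcomp hEqs V' hV'lfp w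
  obtain ⟨j'', m₁, m₂, -⟩ : ∃ (j'' : J) (m₁ : j'' ⟶ k) (m₂ : j'' ⟶ j'), True :=
    ⟨IsCofiltered.min k j', IsCofiltered.minToLeft k j', IsCofiltered.minToRight k j', trivial⟩
  obtain ⟨ψ'', hψ''⟩ : ∃ ψ'' : D.obj j'' ⟶ (yon S).obj Z, c.π.app j'' ≫ ψ'' = ψ :=
    ⟨D.map m₁ ≫ ψk, by rw [← Category.assoc, c.w, hψk]⟩
  obtain ⟨ω'', hω''⟩ : ∃ ω'' : L.E.obj j'' ⟶ V', L.cE.π.app j'' ≫ ω'' = w :=
    ⟨L.E.map m₂ ≫ ω', by rw [← Category.assoc, L.cE.w, hω']⟩
  obtain ⟨ζ'', hζ''⟩ := (yon S).map_surjective (a j'' ≫ ψ'')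
  have hab : L.cE.π.app j'' ≫ (ω'' ≫ v) = L.cE.π.app j'' ≫ ζ'' := by
    apply (yon S).map_injective
    calc (yon S).map (L.cE.π.app j'' ≫ ω'' ≫ v) = (yon S).map (w ≫ v) := by rw [← Category.assoc, hω'']
      _ = (yon S).map (u ≫ z) := by rw [sqA.w]
      _ = L.fst ≫ ψ := by rw [Functor.map_comp, hu, hψ, Category.assoc]
      _ = (L.fst ≫ c.π.app j'') ≫ ψ'' := by rw [Category.assoc, hψ'']
      _ = ((yon S).map (L.cE.π.app j'') ≫ a j'') ≫ ψ'' := by rw [hafst j'']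
      _ = (yon S).map (L.cE.π.app j'' ≫ ζ'') := by rw [Functor.map_comp, hζ'', Category.assoc]
  have hZft : LocallyOfFiniteType Z.hom := inferInstance
  obtain ⟨j₂, m, hm⟩ := over_exists_hom_eq L.E L.cE L.hc₀ (fun {j k} m => L.aff m) hEcomp Z hZft _ _ hab
  obtain ⟨ω, hω⟩ : ∃ ω : L.E.obj j₂ ⟶ V', ω = L.E.map m ≫ ω'' := ⟨_, rfl⟩
  obtain ⟨ψ₂, hψ₂⟩ : ∃ ψ₂ : D.obj j₂ ⟶ (yon S).obj Z, ψ₂ = D.map m ≫ ψ'' := ⟨_, rfl⟩
  have F1 : c.π.app j₂ ≫ ψ₂ = ψ := by rw [hψ₂, ← Category.assoc, c.w, hψ'']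
  have F2 : L.cE.π.app j₂ ≫ ω = w := by rw [hω, ← Category.assoc, L.cE.w, hω'']
  have F3 : a j₂ ≫ ψ₂ = (yon S).map ω ≫ (yon S).map v :=
    calc a j₂ ≫ ψ₂ = (a j₂ ≫ D.map m) ≫ ψ'' := by rw [hψ₂, Category.assoc]
      _ = ((yon S).map (L.E.map m) ≫ a j'') ≫ ψ'' := by rw [hanat m]
      _ = (yon S).map (L.E.map m) ≫ (yon S).map ζ'' := by rw [Category.assoc, hζ'']
      _ = (yon S).map (L.E.map m ≫ ω'' ≫ v) := by rw [← Functor.map_comp, hm]
      _ = (yon S).map ω ≫ (yon S).map v := by rw [hω, ← Functor.map_comp, Category.assoc]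
  -- the two etale coverings of the stage `j₂`
  obtain ⟨P, b₀, sndP, sqP⟩ : ∃ (P : Sp S) (b₀ : P ⟶ D.obj j₂) (sndP : P ⟶ (yon S).obj V'),
      IsPullback b₀ sndP ψ₂ ((yon S).map v) := ⟨_, _, _, IsPullback.of_hasPullback ψ₂ ((yon S).map v)⟩
  have hP : IsAlgSpace P :=
    isAlgSpace_of_isPullback (hD j₂) (IsAlgSpace.yon_obj Z).diag (IsAlgSpace.yon_obj V') sqP
  obtain ⟨θ, hθ1, hθ2⟩ : ∃ θ : (yon S).obj (L.E.obj j₂) ⟶ P, θ ≫ b₀ = a j₂ ∧ θ ≫ sndP = (yon S).map ω :=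
    ⟨sqP.lift _ _ F3, sqP.lift_fst _ _ _, sqP.lift_snd _ _ _⟩
  have hZqs : IsQuasiSeparatedSp ((yon S).obj Z) := isQuasiSeparatedSp_yon_of_isAffine Z hZaff
  have hV'comp : CompactSpace ↥V'.left := inferInstance
  have hPqc : IsQuasiCompactSp P :=
    isQuasiCompactSp_of_isPullback sqP (hqc j₂) (isQuasiCompactSp_yon_of_compactSpace V') hZqs
  have hvQ : IsQuasiSeparatedMor ((yon S).map v) := (isQuasiSeparatedMor_yon_map_iff v).2 inferInstance
  have hPqs : IsQuasiSeparatedSp P :=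
    isQuasiSeparatedSp_of_isQuasiSeparatedMor b₀
      ((RepWith (S := S) @QuasiCompact).diagonal.of_isPullback sqP.flip hvQ) (hqs j₂)
  have hXcomp : CompactSpace ↥(L.E.obj j₂).left := hEcomp j₂
  have hXqc : IsQuasiCompactSp ((yon S).obj (L.E.obj j₂)) := isQuasiCompactSp_yon_of_compactSpace _
  have hXqs : IsQuasiSeparatedSp ((yon S).obj (L.E.obj j₂)) := isQuasiSeparatedSp_yon_of_isAffine _ (hEaff j₂)
  obtain ⟨π₂, hπ₂⟩ : ∃ π₂ : L.cE.pt ⟶ L.E.obj j₂, π₂ = L.cE.π.app j₂ := ⟨_, rfl⟩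
  have hafst₂ : L.fst ≫ c.π.app j₂ = (yon S).map π₂ ≫ a j₂ := by rw [hπ₂]; exact hafst j₂
  have hast₂ : IsPullback L.fst ((yon S).map π₂) (c.π.app j₂) (a j₂) := by rw [hπ₂]; exact hast j₂
  have F2' : π₂ ≫ ω = w := by rw [hπ₂]; exact F2
  obtain ⟨pY, hpY⟩ : ∃ pY : (yon S).obj L.cE.pt ⟶ P, pY = (yon S).map π₂ ≫ θ := ⟨_, rfl⟩
  have hbig : IsPullback (pY ≫ sndP) L.fst ((yon S).map v) (c.π.app j₂ ≫ ψ₂) := by
    have h1 : pY ≫ sndP = (yon S).map w := by rw [hpY, Category.assoc, hθ2, ← Functor.map_comp, F2']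
    rw [h1, F1]
    exact sqA''
  have hYsq : IsPullback pY L.fst b₀ (c.π.app j₂) :=
    IsPullback.of_right hbig (by rw [hpY, Category.assoc, hθ1]; exact hafst₂.symm) sqP.flip
  have hXsq : IsPullback ((yon S).map π₂) (𝟙 ((yon S).obj L.cE.pt)) θ pY := by
    refine IsPullback.of_bot ?_ (by rw [hpY, Category.id_comp]) hYsq
    rw [Category.id_comp, hθ1]
    exact hast₂.flip
  have hb₀E : RepWith @Etale b₀ := (RepWith @Etale).of_isPullback sqP.flip hvE
  have hθlfp : LocP @LocallyOfFinitePresentation θ := by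
    refine Groth.Agent.Lib.Helper17.locP_of_comp_cancel' (Q := @LocallyOfFiniteType)
      etLocalST_locallyOfFinitePresentation (fun A B C m w hw h => ?_) (hD j₂) θ b₀ ?_ ?_
    · have : LocallyOfFiniteType w := hw
      have : LocallyOfFinitePresentation (m ≫ w) := h
      exact Groth.Agent.S12442.result m w
    · rw [hθ1]
      exact locP_of_repWith_etale etLocalST_locallyOfFinitePresentation (IsAlgSpace.yon_obj _) (hD j₂) _
        (hajE j₂)
    · exact locP_of_repWith_etale etLocalST_locallyOfFiniteType hP (hD j₂) _ hb₀E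
  -- the isomorphism descends to a stage
  obtain ⟨i, φ, H⟩ := main10021 S D hD hDa c hc j₂ ⟨(yon S).obj (L.E.obj j₂), IsAlgSpace.yon_obj _⟩ ⟨P, hP⟩ θ b₀
    hXqc hXqs hPqc hPqs ((yon S).obj L.cE.pt) ((yon S).obj L.cE.pt) (𝟙 _) pY L.fst hYsq
    ((yon S).map π₂) hXsq hθlfp
  obtain ⟨Yi, pYi, qYi, sqYi⟩ : ∃ (Yi : Sp S) (pYi : Yi ⟶ P) (qYi : Yi ⟶ D.obj i),
      IsPullback pYi qYi b₀ (D.map φ) := ⟨_, _, _, IsPullback.of_hasPullback b₀ (D.map φ)⟩
  have hwi : ((yon S).map (L.E.map φ) ≫ θ) ≫ b₀ = a i ≫ D.map φ := by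
    rw [Category.assoc, hθ1]
    exact hanat φ
  obtain ⟨fi, hfi1, hfi2⟩ : ∃ fi : (yon S).obj (L.E.obj i) ⟶ Yi, fi ≫ pYi = (yon S).map (L.E.map φ) ≫ θ ∧
      fi ≫ qYi = a i := ⟨sqYi.lift _ _ hwi, sqYi.lift_fst _ _ _, sqYi.lift_snd _ _ _⟩
  have sqmap : IsPullback ((yon S).map (L.E.map φ)) (a i) (a j₂) (D.map φ) := by
    refine IsPullback.of_right ?_ (hanat φ) (hasq j₂).flip
    rw [← Functor.map_comp, L.hp φ, ← D.map_comp, ht.hom_ext (φ ≫ ht.from j₂) (ht.from i)]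
    exact (hasq i).flip
  have hXi : IsPullback ((yon S).map (L.E.map φ)) fi θ pYi := by
    refine IsPullback.of_bot ?_ hfi1.symm sqYi
    rw [hfi2, hθ1]
    exact sqmap
  have hiso : IsIso fi := H _ _ fi pYi qYi sqYi ((yon S).map (L.E.map φ)) hXi
  have sq1 : IsPullback (pYi ≫ sndP) qYi ((yon S).map v) (D.map φ ≫ ψ₂) := sqYi.paste_horiz sqP.flip
  have sq2 : IsPullback (fi ≫ pYi ≫ sndP) (a i) ((yon S).map v) (D.map φ ≫ ψ₂) :=
    IsPullback.of_iso sq1 (asIso fi).symm (Iso.refl _) (Iso.refl _) (Iso.refl _) (by simp) (by simp [← hfi2])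
      (by simp) (by simp)
  obtain ⟨q', hq'⟩ := (yon S).map_surjective (fi ≫ pYi ≫ sndP)
  have hq'aff : IsAffineMor ((yon S).map q') := by
    have := hEaff i
    exact isAffineMor_of_repWith_le_isAffineHom le_rfl _
      ((repWith_yon_map_iff @IsAffineHom q').2 inferInstance)
  -- fpqc descent of affineness
  have href := fpqcRefines_chart (IsAlgSpace.yon_obj Z) ((yon S).map v) hvE hvS
  have hψaff : IsAffineMor (D.map φ ≫ ψ₂) :=
    isAffineMor_of_fpqcRefines (IsAlgSpace.yon_obj Z) (fun _ : PUnit.{u + 1} => (yon S).obj V')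
      (fun _ => (yon S).map v) href (hD i) (D.map φ ≫ ψ₂) (fun _ => (yon S).obj (L.E.obj i))
      (fun _ => (yon S).map q') (fun _ => a i)
      (fun _ => by
        show IsPullback (a i) ((yon S).map q') (D.map φ ≫ ψ₂) ((yon S).map v)
        rw [hq']
        exact sq2.flip) (fun _ => hq'aff)
  obtain ⟨T₀, i₀, fst₀, sq₀, hT₀⟩ := hψaff hZaff (𝟙 _)
  have : IsIso fst₀ := sq₀.isIso_fst_of_isIso
  exact ⟨i, T₀, hT₀, ⟨asIso fst₀⟩⟩

theorem main10006 (S : Scheme.{u}) [QuasiSeparatedSpace S] {I : Type u} [SmallCategory I] [IsCofiltered I]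
    (D : I ⥤ AlgSp.Sp S) (hD : ∀ i, AlgSp.IsAlgSpace (D.obj i))
    (hDa : ∀ (i j : I) (φ : i ⟶ j), AlgSp.IsAffineMor (D.map φ))
    (hqc : ∀ i, AlgSp.IsQuasiCompactSp (D.obj i)) (hqs : ∀ i, AlgSp.IsQuasiSeparatedSp (D.obj i))
    (c : Cone D) (hc : IsLimit c)
    (T : Over S) (hT : IsAffine T.left) (e : (AlgSp.yon S).obj T ≅ c.pt) :
    ∃ (i : I) (T' : Over S), IsAffine T'.left ∧ Nonempty ((AlgSp.yon S).obj T' ≅ D.obj i) := by
  obtain ⟨i₀⟩ := IsCofiltered.nonempty (C := I)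
  obtain ⟨hc'⟩ := isLimit_whisker_over D c hc i₀
  obtain ⟨i, T', hT', ⟨ε⟩⟩ := affine_stage_terminal (Over.mkIdTerminal (X := i₀)) (Over.forget i₀ ⋙ D)
    (fun j => hD j.left) (fun i j φ => hDa _ _ φ.left) (fun j => hqc j.left) (fun j => hqs j.left)
    (c.whisker (Over.forget i₀)) hc' T hT e
  exact ⟨i.left, T', hT', ⟨ε⟩⟩

end Groth.Agent.Lib.Helper6.LimSp
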