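import Mathlib
import Groth.Agent.Lib.Helper6.LimSp4
import Groth.Agent.Lib.Helper16.QcOpen
import Groth.Agent.Lib.Helper16.DenseFin3
import Groth.Agent.Lib.Helper15.OpenLocus

/-!
# Helper library (helper6): quasi-compact opens of a limit of algebraic spaces come from a stage

* `exists_isPullback_of_openImm_of_range_eq`: two open subspaces, one the inverse image of the other on points, fit
  in a pullback square;
* `isQuasiCompactSp_openSub_image`: the image of a quasi-compact open of an etale chart is a quasi-compact open subspace;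
* `main10086`.
-/

set_option autoImplicit false
universe u
open CategoryTheory CategoryTheory.Limits AlgebraicGeometry Topology
open AlgSp Groth.Agent.Lib.Helper16 Groth.Agent.Lib.Helper15

namespace Groth.Agent.Lib.Helper6.LimSp

variable {S : Scheme.{u}}

/-- Two open subspaces, one the inverse image of the other on points, fit in a pullback square. -/
theorem exists_isPullback_of_openImm_of_range_eq {X X' Y Y' : Sp S} (j : X' ⟶ X)
    (hj : RepWith @IsOpenImmersion j) (j' : Y' ⟶ Y) (hj' : RepWith @IsOpenImmersion j') (f : Y ⟶ X)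
    (h : Set.range (Points.map j') = Points.map f ⁻¹' Set.range (Points.map j)) :
    ∃ q : Y' ⟶ X', IsPullback j' q f j := by
  have hm : Mono j := mono_of_repWith_isOpenImmersion j hj
  have hm' : Mono j' := mono_of_repWith_isOpenImmersion j' hj'
  obtain ⟨q, hq⟩ := exists_factor_of_range_subset j hj (j' ≫ f) (by
    rintro _ ⟨y', rfl⟩
    have h1 : Points.map j' y' ∈ Set.range (Points.map j') := ⟨y', rfl⟩
    rw [h] at h1
    rw [Points.map_comp]
    exact h1)
  refine ⟨q, isPullback_of_exists_lift hq.symm ?_ ?_⟩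
  · intro Q a b hab
    obtain ⟨l, hl⟩ := exists_factor_of_range_subset j' hj' a (by
      rintro _ ⟨w, rfl⟩
      have h1 : Points.map f (Points.map a w) ∈ Set.range (Points.map j) := by
        rw [← Points.map_comp, hab, Points.map_comp]
        exact ⟨_, rfl⟩
      have h2 : Points.map a w ∈ Points.map f ⁻¹' Set.range (Points.map j) := h1
      rw [← h] at h2
      exact h2)
    refine ⟨l, hl, ?_⟩
    rw [← cancel_mono j, Category.assoc, hq, ← Category.assoc, hl, hab]
  · intro Q l l' h1 _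
    rw [← cancel_mono j']
    exact h1

/-- The open subspace given by the image of a quasi-compact open of an etale chart is quasi-compact. -/
theorem isQuasiCompactSp_openSub_image {X : Sp S} {U₀ : Over S} (a₀ : (yon S).obj U₀ ⟶ X)
    (hae : RepWith @Etale a₀) (O : U₀.left.Opens) (hO : IsCompact (O : Set ↥U₀.left)) :
    IsQuasiCompactSp (openSub X (Points.ofPt a₀ '' (O : Set ↥U₀.left))) := by
  obtain ⟨A, hAdef⟩ : ∃ A : Set (Points X), A = Points.ofPt a₀ '' (O : Set ↥U₀.left) := ⟨_, rfl⟩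
  rw [← hAdef]
  have hre : RepWith @Etale ((yon S).map (overOpenι U₀ O) ≫ a₀) := repWith_etale_restrict a₀ hae O
  obtain ⟨q, hq⟩ := (exists_factor_openSub_iff A
    ((yon S).map (overOpenι U₀ O) ≫ a₀)).2 (fun t => by
      rw [hAdef, ofPt_restrict]
      have h1 : O.ι t ∈ Set.range O.ι := ⟨t, rfl⟩
      rw [Scheme.Opens.range_ι] at h1
      exact ⟨_, h1, rfl⟩)
  have hqe : RepWith @Etale q :=
    repWith_of_comp_mono _ q (openSubι X A) (by rw [hq]; exact hre)
  have hqs : RepWith @Surjective q := by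
    rw [repWith_surjective_iff q hqe.1]
    intro x'
    have hmem : Points.map (openSubι X A) x' ∈ A := by
      have h1 : Points.map (openSubι X A) x' ∈ Set.range (Points.map (openSubι X A)) := ⟨x', rfl⟩
      rwa [range_map_openSubι A] at h1
    obtain ⟨o, ho, hox⟩ := (Set.ext_iff.1 hAdef _).1 hmem
    obtain ⟨w, rfl⟩ : o ∈ Set.range O.ι := by rw [Scheme.Opens.range_ι]; exact ho
    refine ⟨Points.ofScheme (overOpen U₀ O) w, ?_⟩
    apply points_map_injective_of_mono (openSubι X A)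
    rw [← Points.map_comp, hq, ← Points.ofPt_eq_map_ofScheme, ofPt_restrict]
    exact hox
  have : CompactSpace ↥(overOpen U₀ O).left := compactSpace_overOpen O hO
  exact ⟨overOpen U₀ O, q, hqe, hqs, this⟩

theorem main10086 (S : Scheme.{u}) [QuasiSeparatedSpace ↥S] {I : Type u} [SmallCategory I] [IsCofiltered I]
    (D : I ⥤ AlgSp.Sp S) (hD : ∀ i, AlgSp.IsAlgSpace (D.obj i))
    (hDa : ∀ (i j : I) (φ : i ⟶ j), AlgSp.IsAffineMor (D.map φ))
    (hqc : ∀ i, AlgSp.IsQuasiCompactSp (D.obj i)) (hqs : ∀ i, AlgSp.IsQuasiSeparatedSp (D.obj i))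
    (c : Cone D) (hc : IsLimit c)
    (U : AlgSp.Sp S) (j : U ⟶ c.pt) (hj : AlgSp.RepWith @IsOpenImmersion j) (hU : AlgSp.IsQuasiCompactSp U) :
    ∃ (i : I) (Ui : AlgSp.Sp S) (ji : Ui ⟶ D.obj i) (q : U ⟶ Ui),
      AlgSp.RepWith @IsOpenImmersion ji ∧ AlgSp.IsQuasiCompactSp Ui ∧ IsPullback j q (c.π.app i) ji := by
  obtain ⟨i₀⟩ := IsCofiltered.nonempty (C := I)
  have hX : IsAlgSpace c.pt := (main10004 S D hD hDa c hc).1
  have hUalg : IsAlgSpace U := isAlgSpace_of_representable hX j hj.rep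
  obtain ⟨V₀, g, hV₀aff, hget, hgsurj⟩ := DenseFin.exists_affine_chart_of_isQuasiCompactSp (hqc i₀)
  obtain ⟨hc'⟩ := isLimit_whisker_over D c hc i₀
  obtain ⟨L⟩ := nonempty_limChart (Over.mkIdTerminal (X := i₀)) (Over.forget i₀ ⋙ D) (fun j => hD j.left)
    (fun i j φ => hDa _ _ φ.left) (c.whisker (Over.forget i₀)) hc' g
  have : IsAffine V₀.left := hV₀aff
  have hgq : IsQuasiCompactMor g :=
    QcOpen.isQuasiCompactMor_of_isQuasiCompactSp (IsAlgSpace.yon_obj V₀) (hD i₀)
      (isQuasiCompactSp_yon_of_compactSpace V₀) (hqs i₀) g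
  obtain ⟨fL, hfL⟩ : ∃ fL : (yon S).obj L.cE.pt ⟶ c.pt, fL = L.fst := ⟨_, rfl⟩
  have hfLS : RepWith @Surjective fL := by
    rw [hfL]; exact (RepWith @Surjective).of_isPullback L.sqlim.flip hgsurj
  have hfLq : IsQuasiCompactMor fL := by
    rw [hfL]; exact DenseFin.isQuasiCompactMor_of_isPullback L.sqlim.flip hgq
  -- the inverse image of `U` in the chart of the limit
  obtain ⟨T, snd, fst, sq⟩ := hj.rep fL
  have hsndo : IsOpenImmersion snd.left := hj.property fL fst snd sq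
  have hTq : IsQuasiCompactSp ((yon S).obj T) := hfLq hUalg hU j ((yon S).map snd) fst sq.flip
  have hTc : CompactSpace ↥T.left := compactSpace_of_isQuasiCompactSp_yon T hTq
  obtain ⟨W, hWdef⟩ : ∃ W : L.cE.pt.left.Opens, W = Scheme.Hom.opensRange snd.left := ⟨_, rfl⟩
  have hWc : IsCompact (W : Set ↥L.cE.pt.left) := by
    rw [hWdef]
    exact isCompact_range snd.left.continuous
  have hWA : ∀ v : ↥L.cE.pt.left, v ∈ W ↔
      Points.ofPt fL v ∈ Set.range (Points.map j) := by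
    intro v
    rw [hWdef]
    constructor
    · intro hv
      obtain ⟨t, rfl⟩ : ∃ t, snd.left t = v := hv
      refine ⟨Points.ofPt fst t, ?_⟩
      rw [Points.map_ofPt, sq.w, ofPt_yon_map_comp]
    · rintro ⟨x, hx⟩
      obtain ⟨t, -, ht⟩ := exists_point_of_isPullback_yon sq x v hx
      exact ⟨t, ht⟩
  -- descend the open to a stage of the chart system
  have haffE : ∀ {i j : Over i₀} (f : i ⟶ j), IsAffineHom ((L.E ⋙ Over.forget S).map f) := fun f => L.aff f
  obtain ⟨j₁, W₁, hW₁c, hW₁⟩ := exists_preimage_eq (L.E ⋙ Over.forget S) ((Over.forget S).mapCone L.cE) L.hc₀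
    W hWc
  obtain ⟨O₁, hO₁⟩ : ∃ O₁ : (L.E.obj j₁).left.Opens, O₁ = W₁ := ⟨_, rfl⟩
  have hO₁c : IsCompact (O₁ : Set ↥(L.E.obj j₁).left) := by rw [hO₁]; exact hW₁c
  have hmem : ∀ v : ↥L.cE.pt.left, v ∈ W ↔ (L.cE.π.app j₁).left v ∈ O₁ := by
    intro v
    rw [← hW₁, hO₁]
    exact Iff.rfl
  obtain ⟨a₁, ha₁⟩ : ∃ a₁ : (yon S).obj (L.E.obj j₁) ⟶ D.obj j₁.left, a₁ = L.α.app j₁ := ⟨_, rfl⟩
  obtain ⟨πc, hπc⟩ : ∃ πc : c.pt ⟶ D.obj j₁.left, πc = c.π.app j₁.left := ⟨_, rfl⟩
  have sq₁ : IsPullback fL ((yon S).map (L.cE.π.app j₁)) πc a₁ := by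
    rw [hfL, hπc, ha₁]; exact L.sqstage j₁
  have ha₁e : RepWith @Etale a₁ := by
    rw [ha₁]; exact (RepWith @Etale).of_isPullback (L.sq j₁).flip hget
  have hfst₁ : fL ≫ πc = (yon S).map (L.cE.π.app j₁) ≫ a₁ := sq₁.w
  obtain ⟨A₁, hA₁def⟩ : ∃ A₁ : Set (Points (D.obj j₁.left)),
      A₁ = Points.ofPt a₁ '' (O₁ : Set ↥(L.E.obj j₁).left) := ⟨_, rfl⟩
  have hA₁o : IsOpen A₁ := by
    rw [hA₁def]
    exact isOpenMap_ofPt_of_etale a₁ ha₁e _ O₁.isOpen
  have hrange : Set.range (Points.map j) = Points.map πc ⁻¹' A₁ := by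
    ext x
    constructor
    · intro hx
      obtain ⟨v, rfl⟩ := ofPt_surjective_of_surjective fL hfLS x
      have hv : (L.cE.π.app j₁).left v ∈ O₁ := (hmem v).1 ((hWA v).2 hx)
      show Points.map πc (Points.ofPt fL v) ∈ A₁
      rw [hA₁def, Points.map_ofPt, hfst₁, ofPt_yon_map_comp]
      exact ⟨_, hv, rfl⟩
    · intro hx
      have hx' : Points.map πc x ∈ A₁ := hx
      rw [hA₁def] at hx'
      obtain ⟨w₁, hw₁, hw₁x⟩ := hx'
      obtain ⟨v, hv1, hv2⟩ := exists_point_of_isPullback_yon sq₁ x w₁ hw₁x.symm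
      rw [← hv1]
      exact (hWA v).1 ((hmem v).2 (by rw [hv2]; exact hw₁))
  have hji : RepWith @IsOpenImmersion (openSubι (D.obj j₁.left) A₁) :=
    repWith_isOpenImmersion_openSubι A₁ hA₁o
  have hr : Set.range (Points.map j) =
      Points.map πc ⁻¹' Set.range (Points.map (openSubι (D.obj j₁.left) A₁)) := by
    rw [range_map_openSubι]; exact hrange
  obtain ⟨q, hq⟩ := exists_isPullback_of_openImm_of_range_eq (openSubι (D.obj j₁.left) A₁) hji j hj πc hr
  rw [hπc] at hq
  refine ⟨j₁.left, openSub (D.obj j₁.left) A₁, openSubι (D.obj j₁.left) A₁, q, hji, ?_, hq⟩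
  rw [hA₁def]
  exact isQuasiCompactSp_openSub_image a₁ ha₁e O₁ hO₁c

end Groth.Agent.Lib.Helper6.LimSp
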