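import Mathlib
import Groth.Agent.Lib.Helper6.LimSp9

/-!
# Helper library (helper6): quasi-compact opens of a limit of quasi-separated algebraic spaces come from a stage

* `coneπ`: the legs of a cone with the apex as source;
* `exists_compact_open_chart`: a compact set of points inside an open is covered by the image of a quasi-compact open
  of an etale chart, contained in the open;
* `exists_qc_open_stage`: version of `main10086` without quasi-compactness of the stages, with explicit open set.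
-/

set_option autoImplicit false
universe u
open CategoryTheory CategoryTheory.Limits AlgebraicGeometry Topology
open AlgSp Groth.Agent.Lib.Helper16 Groth.Agent.Lib.Helper15

namespace Groth.Agent.Lib.Helper6.LimSp

variable {S : Scheme.{u}}

/-- The legs of a cone, with the apex as source. -/
def coneπ {J : Type*} [Category J] {C : Type*} [Category C] {F : J ⥤ C} (c : Cone F) (j : J) :
    c.pt ⟶ F.obj j := c.π.app j

@[reassoc]
theorem coneπ_w {J : Type*} [Category J] {C : Type*} [Category C] {F : J ⥤ C} (c : Cone F) {j k : J}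
    (m : j ⟶ k) : coneπ c j ≫ F.map m = coneπ c k := c.w m

theorem exists_compact_open_chart {X : Sp S} (hX : IsAlgSpace X) (K A₀ : Set (Points X)) (hK : IsCompact K)
    (hA₀ : IsOpen A₀) (hKA : K ⊆ A₀) :
    ∃ (V : Over S) (a : (yon S).obj V ⟶ X) (O : V.left.Opens), RepWith @Etale a ∧
      IsCompact (O : Set ↥V.left) ∧ K ⊆ Points.ofPt a '' (O : Set ↥V.left) ∧
      Points.ofPt a '' (O : Set ↥V.left) ⊆ A₀ := by
  classical
  obtain ⟨V, a, hae, has⟩ := hX.atlas
  have hsurj := ofPt_surjective_of_surjective a has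
  have hopen := isOpenMap_ofPt_of_etale a hae
  have hpre : IsOpen (Points.ofPt a ⁻¹' A₀) := hA₀.preimage (Points.continuous_ofPt a)
  have hex : ∀ x : Points X, ∃ O : V.left.Opens, IsCompact (O : Set ↥V.left) ∧
      (O : Set ↥V.left) ⊆ Points.ofPt a ⁻¹' A₀ ∧ (x ∈ A₀ → x ∈ Points.ofPt a '' (O : Set ↥V.left)) := by
    intro x
    by_cases hx : x ∈ A₀
    · obtain ⟨v, hv⟩ := hsurj x
      have hvm : v ∈ Points.ofPt a ⁻¹' A₀ := by
        show Points.ofPt a v ∈ A₀
        rw [hv]; exact hx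
      obtain ⟨_, ⟨(O : V.left.Opens), hO, rfl⟩, hvO, hOsub⟩ :=
        V.left.isBasis_affineOpens.exists_subset_of_mem_open hvm hpre
      exact ⟨O, hO.isCompact, hOsub, fun _ => ⟨v, hvO, hv⟩⟩
    · exact ⟨⊥, by simp, by simp, fun h => absurd h hx⟩
  choose O hOc hOsub hOx using hex
  obtain ⟨t, ht⟩ := hK.elim_finite_subcover (fun x => Points.ofPt a '' (O x : Set ↥V.left))
    (fun x => hopen _ (O x).isOpen) (fun x hx => Set.mem_iUnion.2 ⟨x, hOx x (hKA hx)⟩)
  refine ⟨V, a, ⟨⋃ x ∈ t, (O x : Set ↥V.left), isOpen_biUnion fun x _ => (O x).isOpen⟩, hae, ?_, ?_, ?_⟩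
  · exact t.isCompact_biUnion fun x _ => hOc x
  · intro x hx
    obtain ⟨x', hx't, hx'⟩ := Set.mem_iUnion₂.1 (ht hx)
    obtain ⟨v, hv, hvx⟩ := hx'
    exact ⟨v, Set.mem_iUnion₂.2 ⟨x', hx't, hv⟩, hvx⟩
  · rintro _ ⟨v, hv, rfl⟩
    have hv' : v ∈ ⋃ x ∈ t, (O x : Set ↥V.left) := hv
    obtain ⟨x', -, hx'⟩ := Set.mem_iUnion₂.1 hv'
    exact hOsub x' hx'

theorem exists_qc_open_stage (S : Scheme.{u}) [QuasiSeparatedSpace ↥S] {I : Type u} [SmallCategory I]
    [IsCofiltered I] (D : I ⥤ AlgSp.Sp S) (hD : ∀ i, AlgSp.IsAlgSpace (D.obj i))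
    (hDa : ∀ (i j : I) (φ : i ⟶ j), AlgSp.IsAffineMor (D.map φ))
    (hqs : ∀ i, AlgSp.IsQuasiSeparatedSp (D.obj i))
    (c : Cone D) (hc : IsLimit c)
    (U : AlgSp.Sp S) (j : U ⟶ c.pt) (hj : AlgSp.RepWith @IsOpenImmersion j) (hU : AlgSp.IsQuasiCompactSp U) :
    ∃ (i : I) (A₁ : Set (Points (D.obj i))), IsOpen A₁ ∧ IsQuasiCompactSp (openSub (D.obj i) A₁) ∧
      Set.range (Points.map j) = Points.map (coneπ c i) ⁻¹' A₁ := by
  obtain ⟨i₀⟩ := IsCofiltered.nonempty (C := I)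
  have hX : IsAlgSpace c.pt := (main10004 S D hD hDa c hc).1
  have hUalg : IsAlgSpace U := isAlgSpace_of_representable hX j hj.rep
  have hUc : CompactSpace (Points U) := compactSpace_points_of_isQuasiCompactSp hU
  have hK : IsCompact (Set.range (Points.map (j ≫ coneπ c i₀))) :=
    isCompact_range (Points.continuous_map _)
  obtain ⟨V, a, O, hae, hOc, hKO, -⟩ :=
    exists_compact_open_chart (hD i₀) _ Set.univ hK isOpen_univ (Set.subset_univ _)
  obtain ⟨g, hg⟩ : ∃ g : (yon S).obj (overOpen V O) ⟶ D.obj i₀, g = (yon S).map (overOpenι V O) ≫ a :=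
    ⟨_, rfl⟩
  have hget : RepWith @Etale g := by rw [hg]; exact repWith_etale_restrict a hae O
  have hVc : CompactSpace ↥(overOpen V O).left := compactSpace_overOpen O hOc
  have hgcov : ∀ u : Points U, ∃ w : ↥(overOpen V O).left,
      Points.ofPt g w = Points.map (j ≫ coneπ c i₀) u := by
    intro u
    obtain ⟨o, ho, hou⟩ := hKO ⟨u, rfl⟩
    obtain ⟨w, rfl⟩ : o ∈ Set.range O.ι := by rw [Scheme.Opens.range_ι]; exact ho
    exact ⟨w, by rw [hg, ofPt_restrict]; exact hou⟩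
  obtain ⟨hc'⟩ := isLimit_whisker_over D c hc i₀
  obtain ⟨L⟩ := nonempty_limChart (Over.mkIdTerminal (X := i₀)) (Over.forget i₀ ⋙ D) (fun j => hD j.left)
    (fun i j φ => hDa _ _ φ.left) (c.whisker (Over.forget i₀)) hc' g
  have hgq : IsQuasiCompactMor g :=
    QcOpen.isQuasiCompactMor_of_isQuasiCompactSp (IsAlgSpace.yon_obj _) (hD i₀)
      (isQuasiCompactSp_yon_of_compactSpace _) (hqs i₀) g
  obtain ⟨fL, hfL⟩ : ∃ fL : (yon S).obj L.cE.pt ⟶ c.pt, fL = L.fst := ⟨_, rfl⟩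
  have sqL : IsPullback fL ((yon S).map (L.cE.π.app (Over.mk (𝟙 i₀)) ≫ L.p (Over.mk (𝟙 i₀))))
      (coneπ c i₀) g := by
    rw [hfL]; exact L.sqlim
  have hfLq : IsQuasiCompactMor fL := DenseFin.isQuasiCompactMor_of_isPullback sqL.flip hgq
  have hfLcov : ∀ x ∈ Set.range (Points.map j), ∃ v, Points.ofPt fL v = x := by
    rintro _ ⟨u, rfl⟩
    obtain ⟨w, hw⟩ := hgcov u
    obtain ⟨v, hv, -⟩ := exists_point_of_isPullback_yon sqL (Points.map j u) w
      (by rw [hw, Points.map_comp])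
    exact ⟨v, hv⟩
  -- the inverse image of `U` in the chart of the limit
  obtain ⟨T, snd, fst, sq⟩ := hj.rep fL
  have hsndo : IsOpenImmersion snd.left := hj.property fL fst snd sq
  have hTq : IsQuasiCompactSp ((yon S).obj T) := hfLq hUalg hU j ((yon S).map snd) fst sq.flip
  have hTc : CompactSpace ↥T.left := compactSpace_of_isQuasiCompactSp_yon T hTq
  obtain ⟨W, hWdef⟩ : ∃ W : L.cE.pt.left.Opens, W = Scheme.Hom.opensRange snd.left := ⟨_, rfl⟩
  have hWc : IsCompact (W : Set ↥L.cE.pt.left) := by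
    rw [hWdef]
    exact isCompact_range snd.left.continuous
  have hWA : ∀ v : ↥L.cE.pt.left, v ∈ W ↔
      Points.ofPt fL v ∈ Set.range (Points.map j) := by
    intro v
    rw [hWdef]
    constructor
    · intro hv
      obtain ⟨t, rfl⟩ : ∃ t, snd.left t = v := hv
      refine ⟨Points.ofPt fst t, ?_⟩
      rw [Points.map_ofPt, sq.w, ofPt_yon_map_comp]
    · rintro ⟨x, hx⟩
      obtain ⟨t, -, ht⟩ := exists_point_of_isPullback_yon sq x v hx
      exact ⟨t, ht⟩
  -- descend the open to a stage of the chart system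
  have haffE : ∀ {i j : Over i₀} (f : i ⟶ j), IsAffineHom ((L.E ⋙ Over.forget S).map f) := fun f => L.aff f
  obtain ⟨j₁, W₁, hW₁c, hW₁⟩ := exists_preimage_eq (L.E ⋙ Over.forget S) ((Over.forget S).mapCone L.cE) L.hc₀
    W hWc
  obtain ⟨O₁, hO₁⟩ : ∃ O₁ : (L.E.obj j₁).left.Opens, O₁ = W₁ := ⟨_, rfl⟩
  have hO₁c : IsCompact (O₁ : Set ↥(L.E.obj j₁).left) := by rw [hO₁]; exact hW₁c
  have hmem : ∀ v : ↥L.cE.pt.left, v ∈ W ↔ (L.cE.π.app j₁).left v ∈ O₁ := by
    intro v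
    rw [← hW₁, hO₁]
    exact Iff.rfl
  obtain ⟨a₁, ha₁⟩ : ∃ a₁ : (yon S).obj (L.E.obj j₁) ⟶ D.obj j₁.left, a₁ = L.α.app j₁ := ⟨_, rfl⟩
  have sq₁ : IsPullback fL ((yon S).map (L.cE.π.app j₁)) (coneπ c j₁.left) a₁ := by
    rw [hfL, ha₁]; exact L.sqstage j₁
  have ha₁e : RepWith @Etale a₁ := by
    rw [ha₁]; exact (RepWith @Etale).of_isPullback (L.sq j₁).flip hget
  have hfst₁ : fL ≫ coneπ c j₁.left = (yon S).map (L.cE.π.app j₁) ≫ a₁ := sq₁.w
  obtain ⟨A₁, hA₁def⟩ : ∃ A₁ : Set (Points (D.obj j₁.left)),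
      A₁ = Points.ofPt a₁ '' (O₁ : Set ↥(L.E.obj j₁).left) := ⟨_, rfl⟩
  have hA₁o : IsOpen A₁ := by
    rw [hA₁def]
    exact isOpenMap_ofPt_of_etale a₁ ha₁e _ O₁.isOpen
  have hrange : Set.range (Points.map j) = Points.map (coneπ c j₁.left) ⁻¹' A₁ := by
    ext x
    constructor
    · intro hx
      obtain ⟨v, rfl⟩ := hfLcov x hx
      have hv : (L.cE.π.app j₁).left v ∈ O₁ := (hmem v).1 ((hWA v).2 hx)
      show Points.map (coneπ c j₁.left) (Points.ofPt fL v) ∈ A₁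
      rw [hA₁def, Points.map_ofPt, hfst₁, ofPt_yon_map_comp]
      exact ⟨_, hv, rfl⟩
    · intro hx
      have hx' : Points.map (coneπ c j₁.left) x ∈ A₁ := hx
      rw [hA₁def] at hx'
      obtain ⟨w₁, hw₁, hw₁x⟩ := hx'
      obtain ⟨v, hv1, hv2⟩ := exists_point_of_isPullback_yon sq₁ x w₁ hw₁x.symm
      rw [← hv1]
      exact (hWA v).1 ((hmem v).2 (by rw [hv2]; exact hw₁))
  refine ⟨j₁.left, A₁, hA₁o, ?_, hrange⟩
  rw [hA₁def]
  exact isQuasiCompactSp_openSub_image a₁ ha₁e O₁ hO₁c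

end Groth.Agent.Lib.Helper6.LimSp
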