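import Mathlib
import Groth.Agent.Lib.Helper6.LimSp10
import Groth.Agent.Lib.Helper16.Misc1
import Groth.Agent.Lib.Helper16.AffRep

/-!
# Helper library (helper6): restriction of a system of sheaves to the inverse images of an open of one stage

For a diagram `D : I ⥤ Sp S`, an index `i₁` and an open set `A₁` of points of `D.obj i₁`:
* `restrFunctor`: the diagram on `Over i₁` of the open subspaces on the inverse images of `A₁`;
* `restrCone`, `restrCone_isLimit`: the open subspace of the limit on the inverse image of `A₁` is its limit;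
* `restr_isAffineMor`, `restr_isQuasiCompactSp`.
-/

set_option autoImplicit false
universe u
open CategoryTheory CategoryTheory.Limits AlgebraicGeometry Topology
open AlgSp Groth.Agent.Lib.Helper16 Groth.Agent.Lib.Helper15

namespace Groth.Agent.Lib.Helper6.LimSp

variable {S : Scheme.{u}} {I : Type u} [SmallCategory I] (D : I ⥤ Sp S) (i₁ : I)
  (A₁ : Set (Points (D.obj i₁)))

/-- The inverse image of `A₁` in the stage `j`. -/
def stageSet (j : Over i₁) : Set (Points (D.obj j.left)) := Points.map (D.map j.hom) ⁻¹' A₁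

theorem isOpen_stageSet (hA₁ : IsOpen A₁) (j : Over i₁) : IsOpen (stageSet D i₁ A₁ j) :=
  hA₁.preimage (Points.continuous_map _)

theorem stageSet_map {j k : Over i₁} (m : j ⟶ k) :
    stageSet D i₁ A₁ j = Points.map (D.map m.left) ⁻¹' stageSet D i₁ A₁ k := by
  ext x
  have hw : D.map m.left ≫ D.map k.hom = D.map j.hom := by rw [← D.map_comp, Over.w m]
  show Points.map (D.map j.hom) x ∈ A₁ ↔ Points.map (D.map k.hom) (Points.map (D.map m.left) x) ∈ A₁
  rw [← Points.map_comp, hw]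

theorem repWith_openSubι_stage (hA₁ : IsOpen A₁) (j : Over i₁) :
    RepWith @IsOpenImmersion (openSubι (D.obj j.left) (stageSet D i₁ A₁ j)) :=
  repWith_isOpenImmersion_openSubι _ (isOpen_stageSet D i₁ A₁ hA₁ j)

theorem exists_restrMap (hA₁ : IsOpen A₁) {j k : Over i₁} (m : j ⟶ k) :
    ∃ q : openSub (D.obj j.left) (stageSet D i₁ A₁ j) ⟶ openSub (D.obj k.left) (stageSet D i₁ A₁ k),
      IsPullback (openSubι (D.obj j.left) (stageSet D i₁ A₁ j)) q (D.map m.left)
        (openSubι (D.obj k.left) (stageSet D i₁ A₁ k)) := by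
  apply exists_isPullback_of_openImm_of_range_eq _ (repWith_openSubι_stage D i₁ A₁ hA₁ k) _
    (repWith_openSubι_stage D i₁ A₁ hA₁ j)
  rw [range_map_openSubι, range_map_openSubι]
  exact stageSet_map D i₁ A₁ m

/-- The transition maps of the restricted system. -/
noncomputable def restrMap (hA₁ : IsOpen A₁) {j k : Over i₁} (m : j ⟶ k) :
    openSub (D.obj j.left) (stageSet D i₁ A₁ j) ⟶ openSub (D.obj k.left) (stageSet D i₁ A₁ k) :=
  (exists_restrMap D i₁ A₁ hA₁ m).choose

theorem restrMap_isPullback (hA₁ : IsOpen A₁) {j k : Over i₁} (m : j ⟶ k) :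
    IsPullback (openSubι (D.obj j.left) (stageSet D i₁ A₁ j)) (restrMap D i₁ A₁ hA₁ m) (D.map m.left)
      (openSubι (D.obj k.left) (stageSet D i₁ A₁ k)) :=
  (exists_restrMap D i₁ A₁ hA₁ m).choose_spec

@[reassoc]
theorem restrMap_ι (hA₁ : IsOpen A₁) {j k : Over i₁} (m : j ⟶ k) :
    restrMap D i₁ A₁ hA₁ m ≫ openSubι (D.obj k.left) (stageSet D i₁ A₁ k) =
      openSubι (D.obj j.left) (stageSet D i₁ A₁ j) ≫ D.map m.left :=
  (restrMap_isPullback D i₁ A₁ hA₁ m).w.symm

/-- The restricted system. -/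
noncomputable abbrev restrFunctor (hA₁ : IsOpen A₁) : Over i₁ ⥤ Sp S where
  obj j := openSub (D.obj j.left) (stageSet D i₁ A₁ j)
  map m := restrMap D i₁ A₁ hA₁ m
  map_id j := by
    have h : (𝟙 j : j ⟶ j).left = 𝟙 j.left := rfl
    rw [← cancel_mono (openSubι (D.obj j.left) (stageSet D i₁ A₁ j)), restrMap_ι, h,
      CategoryTheory.Functor.map_id, Category.comp_id, Category.id_comp]
  map_comp {j k l} m n := by
    have h : (m ≫ n).left = m.left ≫ n.left := rfl
    rw [← cancel_mono (openSubι (D.obj l.left) (stageSet D i₁ A₁ l)), restrMap_ι, h, D.map_comp,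
      Category.assoc, restrMap_ι, restrMap_ι_assoc]

theorem restrFunctor_obj (hA₁ : IsOpen A₁) (j : Over i₁) :
    (restrFunctor D i₁ A₁ hA₁).obj j = openSub (D.obj j.left) (stageSet D i₁ A₁ j) := rfl

theorem restrFunctor_map (hA₁ : IsOpen A₁) {j k : Over i₁} (m : j ⟶ k) :
    (restrFunctor D i₁ A₁ hA₁).map m = restrMap D i₁ A₁ hA₁ m := rfl

theorem restr_isAlgSpace (hD : ∀ i, IsAlgSpace (D.obj i)) (hA₁ : IsOpen A₁) (j : Over i₁) :
    IsAlgSpace ((restrFunctor D i₁ A₁ hA₁).obj j) :=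
  isAlgSpace_openSub (hD j.left) _ (isOpen_stageSet D i₁ A₁ hA₁ j)

theorem restr_isAffineMor (hDa : ∀ (i j : I) (φ : i ⟶ j), IsAffineMor (D.map φ)) (hA₁ : IsOpen A₁)
    (j k : Over i₁) (m : j ⟶ k) : IsAffineMor ((restrFunctor D i₁ A₁ hA₁).map m) :=
  isAffineMor_of_isPullback (restrMap_isPullback D i₁ A₁ hA₁ m) (hDa _ _ m.left)

theorem restr_isQuasiCompactSp (hD : ∀ i, IsAlgSpace (D.obj i))
    (hDa : ∀ (i j : I) (φ : i ⟶ j), IsAffineMor (D.map φ)) (hA₁ : IsOpen A₁)
    (hqc : IsQuasiCompactSp (openSub (D.obj i₁) A₁)) (k : Over i₁) :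
    IsQuasiCompactSp ((restrFunctor D i₁ A₁ hA₁).obj k) := by
  have hι₁ := repWith_isOpenImmersion_openSubι A₁ hA₁
  obtain ⟨q, sq⟩ := exists_isPullback_of_openImm_of_range_eq (openSubι (D.obj i₁) A₁) hι₁
    (openSubι (D.obj k.left) (stageSet D i₁ A₁ k)) (repWith_openSubι_stage D i₁ A₁ hA₁ k) (D.map k.hom)
    (by rw [range_map_openSubι, range_map_openSubι]; rfl)
  have hqa : IsAffineMor q := isAffineMor_of_isPullback sq (hDa _ _ k.hom)
  have hqr : RepWith @IsAffineHom q :=
    repWith_isAffineHom_of_isAffineMor (isAlgSpace_openSub (hD k.left) _ (isOpen_stageSet D i₁ A₁ hA₁ k))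
      (isAlgSpace_openSub (hD i₁) _ hA₁) q hqa
  have hqq : RepWith @QuasiCompact q :=
    repWith_mono (fun _ _ f hf => by
      have : IsAffineHom f := hf
      exact (inferInstance : QuasiCompact f)) q hqr
  exact isQuasiCompactSp_of_repWith_quasiCompact q hqq hqc

variable (c : Cone D)

theorem exists_restrπ (hA₁ : IsOpen A₁) (j : Over i₁) :
    ∃ q : openSub c.pt (Points.map (coneπ c i₁) ⁻¹' A₁) ⟶ openSub (D.obj j.left) (stageSet D i₁ A₁ j),
      IsPullback (openSubι c.pt (Points.map (coneπ c i₁) ⁻¹' A₁)) q (coneπ c j.left)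
        (openSubι (D.obj j.left) (stageSet D i₁ A₁ j)) := by
  apply exists_isPullback_of_openImm_of_range_eq _ (repWith_openSubι_stage D i₁ A₁ hA₁ j) _
    (repWith_isOpenImmersion_openSubι _ (hA₁.preimage (Points.continuous_map _)))
  rw [range_map_openSubι, range_map_openSubι]
  ext x
  have hw : coneπ c j.left ≫ D.map j.hom = coneπ c i₁ := coneπ_w c j.hom
  show Points.map (coneπ c i₁) x ∈ A₁ ↔ Points.map (D.map j.hom) (Points.map (coneπ c j.left) x) ∈ A₁
  rw [← Points.map_comp, hw]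

/-- The legs of the restricted cone. -/
noncomputable def restrπ (hA₁ : IsOpen A₁) (j : Over i₁) :
    openSub c.pt (Points.map (coneπ c i₁) ⁻¹' A₁) ⟶ openSub (D.obj j.left) (stageSet D i₁ A₁ j) :=
  (exists_restrπ D i₁ A₁ c hA₁ j).choose

@[reassoc]
theorem restrπ_ι (hA₁ : IsOpen A₁) (j : Over i₁) :
    restrπ D i₁ A₁ c hA₁ j ≫ openSubι (D.obj j.left) (stageSet D i₁ A₁ j) =
      openSubι c.pt (Points.map (coneπ c i₁) ⁻¹' A₁) ≫ coneπ c j.left :=
  (exists_restrπ D i₁ A₁ c hA₁ j).choose_spec.w.symm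

theorem restrπ_map (hA₁ : IsOpen A₁) {j k : Over i₁} (m : j ⟶ k) :
    restrπ D i₁ A₁ c hA₁ j ≫ restrMap D i₁ A₁ hA₁ m = restrπ D i₁ A₁ c hA₁ k := by
  have hw : coneπ c j.left ≫ D.map m.left = coneπ c k.left := coneπ_w c m.left
  rw [← cancel_mono (openSubι (D.obj k.left) (stageSet D i₁ A₁ k)), Category.assoc, restrMap_ι,
    restrπ_ι_assoc, restrπ_ι, hw]

/-- The restricted cone. -/
noncomputable abbrev restrCone (hA₁ : IsOpen A₁) : Cone (restrFunctor D i₁ A₁ hA₁) where
  pt := openSub c.pt (Points.map (coneπ c i₁) ⁻¹' A₁)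
  π :=
    { app := fun j => restrπ D i₁ A₁ c hA₁ j
      naturality := fun j k m => (Category.id_comp _).trans (restrπ_map D i₁ A₁ c hA₁ m).symm }

theorem restrCone_π_app (hA₁ : IsOpen A₁) (j : Over i₁) :
    (restrCone D i₁ A₁ c hA₁).π.app j = restrπ D i₁ A₁ c hA₁ j := rfl

theorem restrCone_isLimit [IsCofiltered I] (hA₁ : IsOpen A₁) (hc : IsLimit c) :
    Nonempty (IsLimit (restrCone D i₁ A₁ c hA₁)) := by
  obtain ⟨hc'⟩ := isLimit_whisker_over D c hc i₁
  have hιinf : RepWith @IsOpenImmersion (openSubι c.pt (Points.map (coneπ c i₁) ⁻¹' A₁)) :=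
    repWith_isOpenImmersion_openSubι _ (hA₁.preimage (Points.continuous_map _))
  have key : ∀ (P : Sp S) (σ : ∀ j : Over i₁, P ⟶ openSub (D.obj j.left) (stageSet D i₁ A₁ j)),
      (∀ {j k : Over i₁} (m : j ⟶ k), σ j ≫ restrMap D i₁ A₁ hA₁ m = σ k) →
      ∃! l : P ⟶ openSub c.pt (Points.map (coneπ c i₁) ⁻¹' A₁),
        ∀ j, l ≫ restrπ D i₁ A₁ c hA₁ j = σ j := by
    intro P σ hσw
    -- the cone over the original system
    have hnat : ∀ {j k : Over i₁} (m : j ⟶ k),
        (σ j ≫ openSubι (D.obj j.left) (stageSet D i₁ A₁ j)) ≫ D.map m.left =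
          σ k ≫ openSubι (D.obj k.left) (stageSet D i₁ A₁ k) := by
      intro j k m
      rw [Category.assoc, ← restrMap_ι D i₁ A₁ hA₁ m, ← Category.assoc, hσw m]
    let s' : Cone (Over.forget i₁ ⋙ D) :=
      { pt := P
        π :=
          { app := fun j => σ j ≫ openSubι (D.obj j.left) (stageSet D i₁ A₁ j)
            naturality := fun j k m => (Category.id_comp _).trans (hnat m).symm } }
    obtain ⟨l₀, hl₀⟩ : ∃ l₀ : P ⟶ c.pt, ∀ j : Over i₁,
        l₀ ≫ coneπ c j.left = σ j ≫ openSubι (D.obj j.left) (stageSet D i₁ A₁ j) :=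
      ⟨hc'.lift s', fun j => hc'.fac s' j⟩
    have huniq : ∀ l' : P ⟶ c.pt, (∀ j : Over i₁,
        l' ≫ coneπ c j.left = σ j ≫ openSubι (D.obj j.left) (stageSet D i₁ A₁ j)) → l' = l₀ := by
      intro l' hl'
      have e1 : l' = hc'.lift s' := hc'.uniq s' l' (fun j => hl' j)
      have e2 : l₀ = hc'.lift s' := hc'.uniq s' l₀ (fun j => hl₀ j)
      rw [e1, e2]
    have hsub : Set.range (Points.map l₀) ⊆
        Set.range (Points.map (openSubι c.pt (Points.map (coneπ c i₁) ⁻¹' A₁))) := by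
      rw [range_map_openSubι]
      rintro _ ⟨x, rfl⟩
      show Points.map (coneπ c i₁) (Points.map l₀ x) ∈ A₁
      have h1 := hl₀ (Over.mk (𝟙 i₁))
      have h2 : Points.map (openSubι (D.obj i₁) (stageSet D i₁ A₁ (Over.mk (𝟙 i₁))))
          (Points.map (σ (Over.mk (𝟙 i₁))) x) ∈ stageSet D i₁ A₁ (Over.mk (𝟙 i₁)) := by
        have h3 : Points.map (openSubι (D.obj i₁) (stageSet D i₁ A₁ (Over.mk (𝟙 i₁))))
            (Points.map (σ (Over.mk (𝟙 i₁))) x) ∈
            Set.range (Points.map (openSubι (D.obj i₁) (stageSet D i₁ A₁ (Over.mk (𝟙 i₁))))) := ⟨_, rfl⟩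
        rwa [range_map_openSubι] at h3
      have h4 : Points.map (coneπ c i₁) (Points.map l₀ x) =
          Points.map (openSubι (D.obj i₁) (stageSet D i₁ A₁ (Over.mk (𝟙 i₁))))
            (Points.map (σ (Over.mk (𝟙 i₁))) x) := by
        rw [← Points.map_comp, ← Points.map_comp]
        exact congrArg (fun f => Points.map f x) h1
      rw [h4]
      have h5 : Points.map (D.map (𝟙 i₁))
          (Points.map (openSubι (D.obj i₁) (stageSet D i₁ A₁ (Over.mk (𝟙 i₁))))
            (Points.map (σ (Over.mk (𝟙 i₁))) x)) ∈ A₁ := h2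
      rw [CategoryTheory.Functor.map_id, Points.map_id] at h5
      exact h5
    obtain ⟨l, hl⟩ := exists_factor_of_range_subset _ hιinf l₀ hsub
    refine ⟨l, fun j => ?_, fun l' hl' => ?_⟩
    · rw [← cancel_mono (openSubι (D.obj j.left) (stageSet D i₁ A₁ j)), Category.assoc, restrπ_ι,
        ← Category.assoc, hl]
      exact hl₀ j
    · have h1 : l' ≫ openSubι c.pt (Points.map (coneπ c i₁) ⁻¹' A₁) = l₀ := by
        apply huniq
        intro j
        rw [Category.assoc, ← restrπ_ι D i₁ A₁ c hA₁ j, ← Category.assoc, hl' j]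
      rw [← cancel_mono (openSubι c.pt (Points.map (coneπ c i₁) ⁻¹' A₁)), h1, hl]
  refine ⟨IsLimit.ofExistsUnique fun s => ?_⟩
  exact key s.pt (fun j => s.π.app j) (fun m => s.w m)

end Groth.Agent.Lib.Helper6.LimSp
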