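import Mathlib

/-!
# Helper library (helper6): base change of a cofiltered system along a morphism to its base

For `D : I ⥤ C` over `Y` (a natural transformation `t : D ⟶ const Y`) and `y : V ⟶ Y`: the system
`pbFunctor D t y : i ↦ D_i ×_Y V`, its transition squares (`pbMap_isPullback`), the cone `pbCone` over it with vertex
`c.pt ×_Y V` attached to a cone `c` of `D` over `Y` (`pbπ_isPullback`), and `pbCone_isLimit`: it is a limit cone when `c`
is and `I` is cofiltered.
-/

set_option autoImplicit false
universe u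
open CategoryTheory CategoryTheory.Limits

namespace Groth.Agent.Lib.Helper6.LimSp

section General

variable {C : Type*} [Category C] [HasPullbacks C] {I : Type*} [Category I] (D : I ⥤ C) {Y V : C}
  (t : D ⟶ (Functor.const I).obj Y) (y : V ⟶ Y)

theorem pb_t_w ⦃i j : I⦄ (φ : i ⟶ j) : D.map φ ≫ t.app j = t.app i := by
  have h := t.naturality φ
  exact h.trans (Category.comp_id _)

/-- The transition maps of the base changed system. -/
noncomputable def pbMap ⦃i j : I⦄ (φ : i ⟶ j) : pullback (t.app i) y ⟶ pullback (t.app j) y :=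
  pullback.lift (pullback.fst (t.app i) y ≫ D.map φ) (pullback.snd (t.app i) y)
    (by rw [Category.assoc, pb_t_w D t φ, pullback.condition])

@[reassoc]
theorem pbMap_fst ⦃i j : I⦄ (φ : i ⟶ j) :
    pbMap D t y φ ≫ pullback.fst (t.app j) y = pullback.fst (t.app i) y ≫ D.map φ :=
  pullback.lift_fst _ _ _

@[reassoc]
theorem pbMap_snd ⦃i j : I⦄ (φ : i ⟶ j) :
    pbMap D t y φ ≫ pullback.snd (t.app j) y = pullback.snd (t.app i) y :=
  pullback.lift_snd _ _ _

theorem pbMap_isPullback ⦃i j : I⦄ (φ : i ⟶ j) :
    IsPullback (pbMap D t y φ) (pullback.fst (t.app i) y) (pullback.fst (t.app j) y) (D.map φ) := by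
  refine IsPullback.of_right ?_ (pbMap_fst D t y φ) (IsPullback.of_hasPullback (t.app j) y).flip
  rw [pbMap_snd, pb_t_w D t φ]
  exact (IsPullback.of_hasPullback (t.app i) y).flip

/-- The base change of a system over `Y` along `y : V ⟶ Y`. -/
noncomputable abbrev pbFunctor : I ⥤ C where
  obj i := pullback (t.app i) y
  map φ := pbMap D t y φ
  map_id i := by
    apply pullback.hom_ext
    · rw [pbMap_fst, CategoryTheory.Functor.map_id, Category.comp_id, Category.id_comp]
    · rw [pbMap_snd, Category.id_comp]
  map_comp φ ψ := by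
    apply pullback.hom_ext
    · rw [pbMap_fst, Category.assoc, pbMap_fst, pbMap_fst_assoc, D.map_comp]
    · rw [pbMap_snd, Category.assoc, pbMap_snd, pbMap_snd]

variable (c : Cone D) (g : c.pt ⟶ Y) (hg : ∀ i, c.π.app i ≫ t.app i = g)

/-- The legs of the base changed cone. -/
noncomputable def pbπ (i : I) : pullback g y ⟶ pullback (t.app i) y :=
  pullback.lift (pullback.fst g y ≫ c.π.app i) (pullback.snd g y)
    (by rw [Category.assoc, hg i, pullback.condition])

@[reassoc]
theorem pbπ_fst (i : I) :
    pbπ D t y c g hg i ≫ pullback.fst (t.app i) y = pullback.fst g y ≫ c.π.app i :=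
  pullback.lift_fst _ _ _

@[reassoc]
theorem pbπ_snd (i : I) : pbπ D t y c g hg i ≫ pullback.snd (t.app i) y = pullback.snd g y :=
  pullback.lift_snd _ _ _

theorem pbπ_isPullback (i : I) :
    IsPullback (pbπ D t y c g hg i) (pullback.fst g y) (pullback.fst (t.app i) y) (c.π.app i) := by
  refine IsPullback.of_right ?_ (pbπ_fst D t y c g hg i) (IsPullback.of_hasPullback (t.app i) y).flip
  rw [pbπ_snd, hg i]
  exact (IsPullback.of_hasPullback g y).flip

theorem pbπ_map ⦃i j : I⦄ (φ : i ⟶ j) : pbπ D t y c g hg i ≫ pbMap D t y φ = pbπ D t y c g hg j := by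
  apply pullback.hom_ext
  · rw [Category.assoc, pbMap_fst, pbπ_fst_assoc, pbπ_fst, c.w]
  · rw [Category.assoc, pbMap_snd, pbπ_snd, pbπ_snd]

/-- The base changed cone. -/
noncomputable abbrev pbCone : Cone (pbFunctor D t y) where
  pt := pullback g y
  π :=
    { app := fun i => pbπ D t y c g hg i
      naturality := fun i j φ => (Category.id_comp _).trans (pbπ_map D t y c g hg φ).symm }

theorem pbCone_isLimit [IsCofiltered I] (hc : IsLimit c) : Nonempty (IsLimit (pbCone D t y c g hg)) := by
  obtain ⟨i₀⟩ := IsCofiltered.nonempty (C := I)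
  -- data attached to a cone
  have hs1 : ∀ (s : Cone (pbFunctor D t y)) ⦃i j : I⦄ (φ : i ⟶ j),
      s.π.app i ≫ pbMap D t y φ = s.π.app j := fun s i j φ => s.w φ
  have hsnd : ∀ (s : Cone (pbFunctor D t y)) (i j : I),
      s.π.app i ≫ pullback.snd (t.app i) y = s.π.app j ≫ pullback.snd (t.app j) y := by
    intro s i j
    have h : ∀ ⦃i j : I⦄ (φ : i ⟶ j),
        s.π.app j ≫ pullback.snd (t.app j) y = s.π.app i ≫ pullback.snd (t.app i) y := fun i j φ => by
      rw [← hs1 s φ, Category.assoc, pbMap_snd]
    exact (h (IsCofiltered.minToLeft i j)).trans (h (IsCofiltered.minToRight i j)).symm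
  let cD : ∀ s : Cone (pbFunctor D t y), Cone D := fun s =>
    { pt := s.pt
      π :=
        { app := fun i => s.π.app i ≫ pullback.fst (t.app i) y
          naturality := fun i j φ => by
            refine (Category.id_comp _).trans ?_
            rw [Category.assoc, ← pbMap_fst, ← Category.assoc, hs1 s φ] } }
  have hl1 : ∀ (s : Cone (pbFunctor D t y)) (i : I),
      hc.lift (cD s) ≫ c.π.app i = s.π.app i ≫ pullback.fst (t.app i) y := fun s i => hc.fac (cD s) i
  have hw : ∀ s : Cone (pbFunctor D t y),
      hc.lift (cD s) ≫ g = (s.π.app i₀ ≫ pullback.snd (t.app i₀) y) ≫ y := fun s => by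
    rw [← hg i₀, ← Category.assoc, hl1 s i₀, Category.assoc, Category.assoc, pullback.condition]
  refine ⟨{ lift := fun s => pullback.lift (hc.lift (cD s)) (s.π.app i₀ ≫ pullback.snd (t.app i₀) y) (hw s)
            fac := fun s i => ?_
            uniq := fun s m hm => ?_ }⟩
  · apply pullback.hom_ext
    · rw [Category.assoc]
      erw [pbπ_fst D t y c g hg i]
      rw [pullback.lift_fst_assoc, hl1 s i]
    · rw [Category.assoc]
      erw [pbπ_snd D t y c g hg i]
      rw [pullback.lift_snd]
      exact hsnd s i₀ i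
  · have hm' : ∀ i, m ≫ pbπ D t y c g hg i = s.π.app i := hm
    apply pullback.hom_ext
    · rw [pullback.lift_fst]
      apply hc.hom_ext
      intro i
      rw [hl1 s i, Category.assoc, ← pbπ_fst D t y c g hg i, ← Category.assoc, hm' i]
    · rw [pullback.lift_snd, ← hm' i₀, Category.assoc, pbπ_snd]

end General

end Groth.Agent.Lib.Helper6.LimSp
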