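import Mathlib
import Groth.Agent.Lib.Helper6.LimSp15
import Groth.Agent.Lib.Helper6.LimSp16
import Groth.Agent.Lib.Helper16.AffDescEtale

/-!
# Helper library (helper6): affineness over a base descends along limits of algebraic spaces

* `affine_stage_pb`: for a cofiltered system `D` of qcqs algebraic spaces over `Y` with affine transition maps and
  `y : V ⟶ Y` with `V` qcqs, if `(lim D) ×_Y V` is an affine scheme then so are the `D_i ×_Y V` for `i` small;
* `main10060`: if `lim D ⟶ Y` is affine then `D_i ⟶ Y` is affine for `i` small.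
-/

set_option autoImplicit false
universe u
open CategoryTheory CategoryTheory.Limits AlgebraicGeometry
open AlgSp Groth.Agent.Lib.Helper16

namespace Groth.Agent.Lib.Helper6.LimSp

variable {S : Scheme.{u}}

theorem affine_stage_pb [QuasiSeparatedSpace ↥S] {I : Type u} [SmallCategory I] [IsCofiltered I]
    (D : I ⥤ Sp S) (hD : ∀ i, IsAlgSpace (D.obj i)) (hDa : ∀ (i j : I) (φ : i ⟶ j), IsAffineMor (D.map φ))
    (hqc : ∀ i, IsQuasiCompactSp (D.obj i)) (hqs : ∀ i, IsQuasiSeparatedSp (D.obj i))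
    {Y V : Sp S} (hY : IsAlgSpace Y) (hYqs : IsQuasiSeparatedSp Y) (hV : IsAlgSpace V)
    (hVqc : IsQuasiCompactSp V) (hVqs : IsQuasiSeparatedSp V) (t : D ⟶ (Functor.const I).obj Y) (y : V ⟶ Y)
    (c : Cone D) (hc : IsLimit c) (g : c.pt ⟶ Y) (hg : ∀ i, c.π.app i ≫ t.app i = g)
    (T : Over S) (hT : IsAffine T.left) (e : (yon S).obj T ≅ pullback g y) :
    ∃ i₀ : I, ∀ (i : I) (_ : i ⟶ i₀),
      ∃ (T' : Over S), IsAffine T'.left ∧ Nonempty ((yon S).obj T' ≅ pullback (t.app i) y) := by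
  obtain ⟨hlim⟩ := pbCone_isLimit D t y c g hg hc
  have hPalg : ∀ i, IsAlgSpace ((pbFunctor D t y).obj i) := fun i =>
    isAlgSpace_of_isPullback (hD i) hY.diag hV (IsPullback.of_hasPullback (t.app i) y)
  have hPaff : ∀ (i j : I) (φ : i ⟶ j), IsAffineMor ((pbFunctor D t y).map φ) := fun i j φ =>
    isAffineMor_of_isPullback (pbMap_isPullback D t y φ).flip (hDa _ _ φ)
  have hPqc : ∀ i, IsQuasiCompactSp ((pbFunctor D t y).obj i) := fun i =>
    isQuasiCompactSp_of_isPullback (IsPullback.of_hasPullback (t.app i) y) (hqc i) hVqc hYqs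
  have hPqs : ∀ i, IsQuasiSeparatedSp ((pbFunctor D t y).obj i) := fun i =>
    repWith_diag_of_isPullback (IsPullback.of_hasPullback (t.app i) y) (hqs i) hVqs
  obtain ⟨i₀, T₀, hT₀, ⟨ε⟩⟩ := main10006 S (pbFunctor D t y) hPalg hPaff hPqc hPqs (pbCone D t y c g hg) hlim T hT e
  refine ⟨i₀, fun i φ => ?_⟩
  obtain ⟨W, i', fst, sqW, hW⟩ := hPaff i i₀ φ hT₀ ε.hom
  have : IsIso fst := sqW.isIso_fst_of_isIso
  exact ⟨W, hW, ⟨asIso fst⟩⟩

theorem main10060 (S : Scheme.{u}) [QuasiSeparatedSpace S] {I : Type u} [SmallCategory I] [IsCofiltered I]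
    (Y : AlgSp.Space S) (D : I ⥤ AlgSp.Sp S) (hD : ∀ i, AlgSp.IsAlgSpace (D.obj i))
    (t : D ⟶ (Functor.const I).obj Y.obj)
    (hDa : ∀ (i j : I) (φ : i ⟶ j), AlgSp.IsAffineMor (D.map φ))
    (c : Cone D) (hc : IsLimit c) (g : c.pt ⟶ Y.obj) (hg : ∀ i, c.π.app i ≫ t.app i = g)
    (hqc : ∀ i, AlgSp.IsQuasiCompactSp (D.obj i)) (hqs : ∀ i, AlgSp.IsQuasiSeparatedSp (D.obj i))
    (hYqc : AlgSp.IsQuasiCompactSp Y.obj) (hYqs : AlgSp.IsQuasiSeparatedSp Y.obj) (hX : AlgSp.IsAffineMor g) :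
    ∃ i₀ : I, ∀ (i : I) (_ : i ⟶ i₀), AlgSp.IsAffineMor (t.app i) := by
  obtain ⟨V, y, hVaff, hye, hys⟩ := DenseFin.exists_affine_chart_of_isQuasiCompactSp hYqc
  have hVaff' : IsAffine V.left := hVaff
  obtain ⟨W, iW, fstW, sqW, hW⟩ := hX hVaff y
  have hVcomp : CompactSpace ↥V.left := inferInstance
  obtain ⟨i₀, H⟩ := affine_stage_pb D hD hDa hqc hqs Y.property hYqs (IsAlgSpace.yon_obj V)
    (isQuasiCompactSp_yon_of_compactSpace V) (isQuasiSeparatedSp_yon_of_isAffine V hVaff) t y c hc g hg W hW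
    sqW.isoPullback
  refine ⟨i₀, fun i φ => ?_⟩
  obtain ⟨T', hT', ⟨ε⟩⟩ := H i φ
  have href := fpqcRefines_chart Y.property y hye hys
  exact isAffineMor_of_fpqcRefines Y.property (fun _ : PUnit.{u + 1} => (yon S).obj V) (fun _ => y) href (hD i)
    (t.app i) (fun _ => pullback (t.app i) y) (fun _ => pullback.snd (t.app i) y)
    (fun _ => pullback.fst (t.app i) y) (fun _ => IsPullback.of_hasPullback (t.app i) y)
    (fun _ => isAffineMor_of_iso_yon hVaff hT' ε _)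

end Groth.Agent.Lib.Helper6.LimSp
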