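import Mathlib
import Groth.Agent.Lib.Helper6.LimSp17
import Groth.Agent.Lib.Helper17.AlgSpAffSep

/-!
# Helper library (helper6): affine morphisms descend along limits of algebraic spaces (base change format)

* `overNat`: the structure maps `D_j ⟶ D_{i₀}` of the stages over `i₀`, as a natural transformation;
* `paste_lift₃`, `paste_lift₄`, `paste_base`, `paste_base'`: pasting lemmas;
* `affine_chart_stage`: in the situation of a morphism `f₀ : X₀ ⟶ Y₀` over a stage `B_{i₀}` of a limit `B = lim B_i`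
  whose base change to `B` is affine, with an affine chart `V₀ ⟶ Y₀`: the base changes of `X₀ ×_{Y₀} V₀ ⟶ V₀` to the
  stages `V_j = V₀ ×_{B_{i₀}} B_j` are affine schemes for `j` small;
* `main10017`.
-/

set_option autoImplicit false
universe u
open CategoryTheory CategoryTheory.Limits AlgebraicGeometry
open AlgSp Groth.Agent.Lib.Helper16

namespace Groth.Agent.Lib.Helper6.LimSp

section General

variable {C : Type*} [Category C]

/-- The structure maps of the stages over `i₀`. -/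
def overNat {I : Type*} [Category I] (D : I ⥤ C) (i₀ : I) :
    (Over.forget i₀ ⋙ D) ⟶ (Functor.const (Over i₀)).obj (D.obj i₀) where
  app j := D.map j.hom
  naturality j k m :=
    ((D.map_comp m.left k.hom).symm.trans (congrArg D.map (Over.w m))).trans (Category.comp_id _).symm

theorem overNat_app {I : Type*} [Category I] (D : I ⥤ C) (i₀ : I) (j : Over i₀) :
    (overNat D i₀).app j = D.map j.hom := rfl

theorem mkId_from_left {I : Type*} [Category I] {i₀ : I} (j : Over i₀) :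
    ((Over.mkIdTerminal (X := i₀)).from j).left = j.hom := by
  have h := Over.w ((Over.mkIdTerminal (X := i₀)).from j)
  simpa using h

/-- A chart of the base change of `f₀`, from a chart of `X₀ ×_{Y₀} V₀`. -/
theorem paste_lift₃ {X X₀ Y Y₀ A₀ V₀ V W : C} {pX : X ⟶ X₀} {f : X ⟶ Y} {f₀ : X₀ ⟶ Y₀} {pY : Y ⟶ Y₀}
    (hX : IsPullback pX f f₀ pY) {fstA : A₀ ⟶ X₀} {sndA : A₀ ⟶ V₀} {v : V₀ ⟶ Y₀}
    (sqA : IsPullback fstA sndA f₀ v) {yV : V ⟶ Y} {vp : V ⟶ V₀} (hyV : yV ≫ pY = vp ≫ v)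
    {aW : W ⟶ A₀} {w : W ⟶ V} (sqW : IsPullback aW w sndA vp) :
    ∃ xW : W ⟶ X, xW ≫ pX = aW ≫ fstA ∧ IsPullback xW w f yV := by
  have big : IsPullback (aW ≫ fstA) w f₀ (vp ≫ v) := sqW.paste_horiz sqA
  have comm : (aW ≫ fstA) ≫ f₀ = (w ≫ yV) ≫ pY := by
    rw [big.w, Category.assoc, hyV]
  refine ⟨hX.lift (aW ≫ fstA) (w ≫ yV) comm, hX.lift_fst _ _ _, ?_⟩
  refine IsPullback.of_right ?_ (hX.lift_snd _ _ _) hX
  rw [hX.lift_fst, hyV]
  exact big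

/-- A chart of `X₀ ×_{Y₀} V₀`, from a chart of the base change of `f₀`. -/
theorem paste_lift₄ {X X₀ Y Y₀ A₀ V₀ V W : C} {pX : X ⟶ X₀} {f : X ⟶ Y} {f₀ : X₀ ⟶ Y₀} {pY : Y ⟶ Y₀}
    (hX : IsPullback pX f f₀ pY) {fstA : A₀ ⟶ X₀} {sndA : A₀ ⟶ V₀} {v : V₀ ⟶ Y₀}
    (sqA : IsPullback fstA sndA f₀ v) {yV : V ⟶ Y} {vp : V ⟶ V₀} (hyV : yV ≫ pY = vp ≫ v)
    {xW : W ⟶ X} {w : W ⟶ V} (sqW : IsPullback xW w f yV) :
    ∃ aW : W ⟶ A₀, aW ≫ fstA = xW ≫ pX ∧ IsPullback aW w sndA vp := by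
  have big : IsPullback (xW ≫ pX) w f₀ (yV ≫ pY) := sqW.paste_horiz hX
  have comm : (xW ≫ pX) ≫ f₀ = (w ≫ vp) ≫ v := by
    rw [big.w, Category.assoc, hyV]
  refine ⟨sqA.lift (xW ≫ pX) (w ≫ vp) comm, sqA.lift_fst _ _ _, ?_⟩
  refine IsPullback.of_right ?_ (sqA.lift_snd _ _ _) sqA
  rw [sqA.lift_fst, ← hyV]
  exact big

/-- Pasting with the chart of the base. -/
theorem paste_base {B B₀ A₀ V₀ V W : C} {π : B ⟶ B₀} {α : V ⟶ B} {vp : V ⟶ V₀} {q : V₀ ⟶ B₀}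
    (sqV : IsPullback α vp π q) {sndA : A₀ ⟶ V₀} {aW : W ⟶ A₀} {w : W ⟶ V} (sqW : IsPullback aW w sndA vp) :
    IsPullback (w ≫ α) aW π (sndA ≫ q) :=
  (sqW.paste_vert sqV.flip).flip

/-- The converse of `paste_base`. -/
theorem paste_base' {B B₀ A₀ V₀ V W : C} {π : B ⟶ B₀} {α : V ⟶ B} {vp : V ⟶ V₀} {q : V₀ ⟶ B₀}
    (sqV : IsPullback α vp π q) {sndA : A₀ ⟶ V₀} {aW : W ⟶ A₀} {β : W ⟶ B}
    (sq : IsPullback β aW π (sndA ≫ q)) :
    ∃ w : W ⟶ V, w ≫ α = β ∧ IsPullback aW w sndA vp := by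
  have comm : β ≫ π = (aW ≫ sndA) ≫ q := by rw [sq.w, Category.assoc]
  refine ⟨sqV.lift β (aW ≫ sndA) comm, sqV.lift_fst _ _ _, ?_⟩
  refine IsPullback.of_bot ?_ (sqV.lift_snd _ _ _).symm sqV.flip
  rw [sqV.lift_fst]
  exact sq.flip

end General

variable {S : Scheme.{u}}

theorem isQuasiCompactSp_of_isAffineMor {X Y : Sp S} (hX : IsAlgSpace X) (hY : IsAlgSpace Y) (f : X ⟶ Y)
    (hf : IsAffineMor f) (hYqc : IsQuasiCompactSp Y) : IsQuasiCompactSp X :=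
  isQuasiCompactSp_of_repWith_quasiCompact f
    (repWith_mono (fun _ _ g hg => by
      have : IsAffineHom g := hg
      exact (inferInstance : QuasiCompact g)) f (repWith_isAffineHom_of_isAffineMor hX hY f hf)) hYqc

theorem isQuasiSeparatedSp_of_isAffineMor {X Y : Sp S} (hX : IsAlgSpace X) (f : X ⟶ Y)
    (hf : IsAffineMor f) (hYqs : IsQuasiSeparatedSp Y) : IsQuasiSeparatedSp X :=
  isQuasiSeparatedSp_of_isQuasiSeparatedMor f
    (repWith_mono (fun _ _ g hg => by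
      have : IsClosedImmersion g := hg
      exact (inferInstance : QuasiCompact g)) _
      (Groth.Agent.Lib.Helper17.isSeparatedMor_of_isAffineMor hX.diag hf)) hYqs

/-- In the situation of a morphism `f₀ : X₀ ⟶ Y₀` over a stage `B_{i₀}` of a limit whose base change to the limit is
affine, with an affine chart `v : V₀ ⟶ Y₀` and `A₀ = X₀ ×_{Y₀} V₀`: the base changes of `A₀ ⟶ V₀` to the stages
`V_j = V₀ ×_{B_{i₀}} B_j` of the chart are affine schemes for `j` small. -/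
theorem affine_chart_stage [QuasiSeparatedSpace ↥S] {I : Type u} [SmallCategory I] [IsCofiltered I]
    (D : I ⥤ Sp S) (hD : ∀ i, IsAlgSpace (D.obj i)) (hDa : ∀ (i j : I) (φ : i ⟶ j), IsAffineMor (D.map φ))
    (c : Cone D) (hc : IsLimit c) (i₀ : I)
    (hBqc : IsQuasiCompactSp (D.obj i₀)) (hBqs : IsQuasiSeparatedSp (D.obj i₀))
    {X₀ Y₀ : Sp S} (hX₀ : IsAlgSpace X₀) (hY₀ : IsAlgSpace Y₀) (f₀ : X₀ ⟶ Y₀) (b₀ : Y₀ ⟶ D.obj i₀)
    (hXqc : IsQuasiCompactSp X₀) (hXqs : IsQuasiSeparatedSp X₀) (hYqs : IsQuasiSeparatedSp Y₀)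
    {X Y : Sp S} (f : X ⟶ Y) (pY : Y ⟶ Y₀) (qY : Y ⟶ c.pt)
    (hY : IsPullback pY qY b₀ (c.π.app i₀)) (pX : X ⟶ X₀) (hX : IsPullback pX f f₀ pY)
    (hf : IsAffineMor f) {V₀ : Over S} (hV₀ : IsAffine V₀.left) (v : (yon S).obj V₀ ⟶ Y₀)
    {A₀ : Sp S} (fstA : A₀ ⟶ X₀) (sndA : A₀ ⟶ (yon S).obj V₀) (sqA : IsPullback fstA sndA f₀ v)
    (LV : LimChart (Over.mkIdTerminal (X := i₀)) (Over.forget i₀ ⋙ D) (c.whisker (Over.forget i₀)) (v ≫ b₀)) :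
    ∃ j₀ : Over i₀, ∀ (j : Over i₀) (_ : j ⟶ j₀), ∃ (Wj : Over S) (wj : Wj ⟶ LV.E.obj j)
      (aj : (yon S).obj Wj ⟶ A₀), IsAffine Wj.left ∧ IsPullback aj ((yon S).map wj) sndA ((yon S).map (LV.p j)) := by
  have hV₀' : IsAffine V₀.left := hV₀
  have hV₀comp : CompactSpace ↥V₀.left := inferInstance
  have hA₀ : IsAlgSpace A₀ := isAlgSpace_of_isPullback hX₀ hY₀.diag (IsAlgSpace.yon_obj V₀) sqA
  have hA₀qc : IsQuasiCompactSp A₀ :=
    isQuasiCompactSp_of_isPullback sqA hXqc (isQuasiCompactSp_yon_of_compactSpace V₀) hYqs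
  have hA₀qs : IsQuasiSeparatedSp A₀ :=
    repWith_diag_of_isPullback sqA hXqs (isQuasiSeparatedSp_yon_of_isAffine V₀ hV₀)
  obtain ⟨hc'⟩ := isLimit_whisker_over D c hc i₀
  -- the stages over `i₀` are quasi-compact and quasi-separated
  have hqc' : ∀ j : Over i₀, IsQuasiCompactSp ((Over.forget i₀ ⋙ D).obj j) := fun j =>
    isQuasiCompactSp_of_isAffineMor (hD j.left) (hD i₀) (D.map j.hom) (hDa _ _ j.hom) hBqc
  have hqs' : ∀ j : Over i₀, IsQuasiSeparatedSp ((Over.forget i₀ ⋙ D).obj j) := fun j =>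
    isQuasiSeparatedSp_of_isAffineMor (hD j.left) (D.map j.hom) (hDa _ _ j.hom) hBqs
  -- the chart of the limit
  have hVlimaff : IsAffine LV.cE.pt.left := by
    have h1 : IsAffineHom (LV.cE.π.app (Over.mk (𝟙 i₀))).left := LV.affπ _
    have h2 : IsAffineHom (LV.p (Over.mk (𝟙 i₀))).left := LV.affp _
    have h3 : IsAffineHom ((LV.cE.π.app (Over.mk (𝟙 i₀))).left ≫ (LV.p (Over.mk (𝟙 i₀))).left) := inferInstance
    exact isAffine_of_isAffineHom ((LV.cE.π.app (Over.mk (𝟙 i₀))).left ≫ (LV.p (Over.mk (𝟙 i₀))).left)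
  obtain ⟨plim, sqlim⟩ : ∃ plim : LV.cE.pt ⟶ V₀, IsPullback LV.fst ((yon S).map plim) (c.π.app i₀) (v ≫ b₀) :=
    ⟨_, LV.sqlim⟩
  obtain ⟨yV, -, sqyV⟩ := paste_lift₁ hY sqlim
  obtain ⟨W, iW, fstW, sqW, hW⟩ := hf hVlimaff yV
  obtain ⟨aW, -, sqaW⟩ := paste_lift₄ hX sqA sqyV.w sqW
  have sqlimit : IsPullback ((yon S).map iW ≫ LV.fst) aW (c.π.app i₀) (sndA ≫ v ≫ b₀) := paste_base sqlim sqaW
  -- some stage
  obtain ⟨j₀, H⟩ := affine_stage_pb (Over.forget i₀ ⋙ D) (fun j => hD j.left) (fun i j φ => hDa _ _ φ.left) hqc' hqs'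
    (hD i₀) hBqs hA₀ hA₀qc hA₀qs (overNat D i₀) (sndA ≫ v ≫ b₀) (c.whisker (Over.forget i₀)) hc' (c.π.app i₀)
    (fun j => c.w j.hom) W hW sqlimit.isoPullback
  refine ⟨j₀, fun j m => ?_⟩
  obtain ⟨T', hT', ⟨ε⟩⟩ : ∃ (T' : Over S), IsAffine T'.left ∧
      Nonempty ((yon S).obj T' ≅ pullback (D.map j.hom) (sndA ≫ v ≫ b₀)) := H j m
  have sqT : IsPullback (ε.hom ≫ pullback.fst (D.map j.hom) (sndA ≫ v ≫ b₀))
      (ε.hom ≫ pullback.snd (D.map j.hom) (sndA ≫ v ≫ b₀)) (D.map j.hom) (sndA ≫ v ≫ b₀) :=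
    IsPullback.of_iso (IsPullback.of_hasPullback (D.map j.hom) (sndA ≫ v ≫ b₀)) ε.symm (Iso.refl _) (Iso.refl _)
      (Iso.refl _) (by simp) (by simp) (by simp) (by simp)
  have sqVj : IsPullback (LV.α.app j) ((yon S).map (LV.p j)) (D.map j.hom) (v ≫ b₀) := by
    have h := LV.sq j
    have e : (Over.forget i₀ ⋙ D).map ((Over.mkIdTerminal (X := i₀)).from j) = D.map j.hom := by
      show D.map ((Over.mkIdTerminal (X := i₀)).from j).left = D.map j.hom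
      rw [mkId_from_left]
    rw [e] at h
    exact h
  obtain ⟨w, -, sqw⟩ := paste_base' sqVj sqT
  obtain ⟨wj, rfl⟩ := (yon S).map_surjective w
  exact ⟨T', wj, _, hT', sqw⟩

theorem main10017 (S : Scheme.{u}) [QuasiSeparatedSpace S] {I : Type u} [SmallCategory I] [IsCofiltered I]
    (D : I ⥤ AlgSp.Sp S) (hD : ∀ i, AlgSp.IsAlgSpace (D.obj i))
    (hDa : ∀ (i j : I) (φ : i ⟶ j), AlgSp.IsAffineMor (D.map φ))
    (c : Cone D) (hc : IsLimit c) (i₀ : I)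
    (hBqc : AlgSp.IsQuasiCompactSp (D.obj i₀)) (hBqs : AlgSp.IsQuasiSeparatedSp (D.obj i₀))
    (X₀ Y₀ : AlgSp.Space S) (f₀ : X₀.obj ⟶ Y₀.obj) (b₀ : Y₀.obj ⟶ D.obj i₀)
    (hXqc : AlgSp.IsQuasiCompactSp X₀.obj) (hXqs : AlgSp.IsQuasiSeparatedSp X₀.obj)
    (hYqc : AlgSp.IsQuasiCompactSp Y₀.obj) (hYqs : AlgSp.IsQuasiSeparatedSp Y₀.obj)
    (X Y : AlgSp.Sp S) (f : X ⟶ Y) (pY : Y ⟶ Y₀.obj) (qY : Y ⟶ c.pt)
    (hY : IsPullback pY qY b₀ (c.π.app i₀)) (pX : X ⟶ X₀.obj) (hX : IsPullback pX f f₀ pY)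
    (hf : AlgSp.IsAffineMor f) :
    ∃ (i : I) (φ : i ⟶ i₀), ∀ (Xi Yi : AlgSp.Sp S) (fi : Xi ⟶ Yi) (pYi : Yi ⟶ Y₀.obj) (qYi : Yi ⟶ D.obj i)
      (_ : IsPullback pYi qYi b₀ (D.map φ)) (pXi : Xi ⟶ X₀.obj) (_ : IsPullback pXi fi f₀ pYi),
      AlgSp.IsAffineMor fi := by
  obtain ⟨V₀, v, hV₀aff, hve, hvs⟩ := DenseFin.exists_affine_chart_of_isQuasiCompactSp hYqc
  obtain ⟨A₀, fstA, sndA, sqA⟩ : ∃ (A₀ : Sp S) (fstA : A₀ ⟶ X₀.obj) (sndA : A₀ ⟶ (yon S).obj V₀),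
      IsPullback fstA sndA f₀ v := ⟨_, _, _, IsPullback.of_hasPullback f₀ v⟩
  obtain ⟨hc'⟩ := isLimit_whisker_over D c hc i₀
  obtain ⟨LV⟩ := nonempty_limChart (Over.mkIdTerminal (X := i₀)) (Over.forget i₀ ⋙ D) (fun j => hD j.left)
    (fun i j φ => hDa _ _ φ.left) (c.whisker (Over.forget i₀)) hc' (v ≫ b₀)
  obtain ⟨j₀, H⟩ := affine_chart_stage D hD hDa c hc i₀ hBqc hBqs X₀.property Y₀.property f₀ b₀ hXqc hXqs hYqs f pY
    qY hY pX hX hf hV₀aff v fstA sndA sqA LV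
  refine ⟨j₀.left, j₀.hom, fun Xi Yi fi pYi qYi hYi pXi hXi => ?_⟩
  obtain ⟨Wj, wj, aj, hWj, sqWj⟩ := H j₀ (𝟙 j₀)
  have hYi_alg : IsAlgSpace Yi := isAlgSpace_of_isPullback Y₀.property (hD i₀).diag (hD j₀.left) hYi
  have hXi_alg : IsAlgSpace Xi := isAlgSpace_of_isPullback X₀.property Y₀.property.diag hYi_alg hXi
  have sqVj : IsPullback (LV.α.app j₀) ((yon S).map (LV.p j₀)) (D.map j₀.hom) (v ≫ b₀) := by
    have h := LV.sq j₀
    have e : (Over.forget i₀ ⋙ D).map ((Over.mkIdTerminal (X := i₀)).from j₀) = D.map j₀.hom := by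
      show D.map ((Over.mkIdTerminal (X := i₀)).from j₀).left = D.map j₀.hom
      rw [mkId_from_left]
    rw [e] at h
    exact h
  obtain ⟨yV, -, sqyV⟩ := paste_lift₁ hYi sqVj
  obtain ⟨xW, -, sqxW⟩ := paste_lift₃ hXi sqA sqyV.w sqWj
  have hyVe : RepWith @Etale yV := (RepWith @Etale).of_isPullback sqyV.flip hve
  have hyVs : RepWith @Surjective yV := (RepWith @Surjective).of_isPullback sqyV.flip hvs
  have hVjaff : IsAffine (LV.E.obj j₀).left := by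
    have h1 : IsAffineHom (LV.p j₀).left := LV.affp j₀
    have : IsAffine V₀.left := hV₀aff
    exact isAffine_of_isAffineHom (LV.p j₀).left
  have href := fpqcRefines_chart hYi_alg yV hyVe hyVs
  exact isAffineMor_of_fpqcRefines hYi_alg (fun _ : PUnit.{u + 1} => (yon S).obj (LV.E.obj j₀)) (fun _ => yV) href
    hXi_alg fi (fun _ => (yon S).obj Wj) (fun _ => (yon S).map wj) (fun _ => xW) (fun _ => sqxW)
    (fun _ => isAffineMor_of_iso_yon hVjaff hWj (Iso.refl _) _)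

end Groth.Agent.Lib.Helper6.LimSp
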