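import Mathlib
import Groth.Agent.Lib.Helper6.LimSp18
import Groth.Agent.Lib.Helper16.AffRep
import Groth.Agent.Lib.Helper16.AffDescLocal
import Groth.Agent.Lib.Helper16.FppfLocalT
import Groth.Agent.Lib.Helper16.FppfLocal
import Groth.Agent.Lib.Helper1.FpqcDescent
import Groth.Agent.S9189
import Groth.Agent.S9187

/-!
# Helper library (helper6): closed immersions and finite morphisms descend along limits of algebraic spaces

* `chart_descent`: in the situation of `affine_chart_stage`, a property `P` of morphisms of schemes, stable under base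
  change and descending along cofiltered limits of affine schemes (for morphisms locally of finite type), which holds
  for the base change of `f` to the chart of the limit, holds for the chart of the base change at some stage;
* `descend_affine_core`: the resulting descent statement for properties of affine morphisms of algebraic spaces;
* `main10019` (closed immersions), `main10018` (finite morphisms).
-/

set_option autoImplicit false
universe u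
open CategoryTheory CategoryTheory.Limits AlgebraicGeometry
open AlgSp Groth.Agent.Lib.Helper16

namespace Groth.Agent.Lib.Helper6.LimSp

theorem hdesc_closedImmersion' {J : Type u} [SmallCategory J] [IsCofiltered J] (E : J ⥤ Scheme.{u}) (cE : Cone E)
    (hcE : IsLimit cE) (haff : ∀ (i j : J) (f : i ⟶ j), IsAffineHom (E.map f)) (j₀ : J)
    (hj₀ : IsAffine (E.obj j₀)) {X₀ Y₀ : Scheme.{u}} (f₀ : X₀ ⟶ Y₀) (g₀ : Y₀ ⟶ E.obj j₀)
    (hX₀ : IsAffine X₀) (hY₀ : IsAffine Y₀) (hlft : LocallyOfFiniteType f₀)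
    {X Y : Scheme.{u}} (f : X ⟶ Y) (g : Y ⟶ cE.pt) (qY : Y ⟶ Y₀) (qX : X ⟶ X₀)
    (hY : IsPullback qY g g₀ (cE.π.app j₀)) (hX : IsPullback qX f f₀ qY) (hf : IsClosedImmersion f) :
    ∃ (i : J) (φ : i ⟶ j₀) (Xi Yi : Scheme.{u}) (fi : Xi ⟶ Yi) (gi : Yi ⟶ E.obj i) (pY : Yi ⟶ Y₀)
      (pX : Xi ⟶ X₀), IsPullback pY gi g₀ (E.map φ) ∧ IsPullback pX fi f₀ pY ∧ IsClosedImmersion fi := by
  haveI := haff
  haveI := hj₀
  haveI := hX₀
  haveI := hY₀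
  haveI := hlft
  haveI := hf
  exact Groth.Agent.S9189.result E cE hcE j₀ f₀ g₀ f g qY qX hY hX

theorem hdesc_finite' {J : Type u} [SmallCategory J] [IsCofiltered J] (E : J ⥤ Scheme.{u}) (cE : Cone E)
    (hcE : IsLimit cE) (haff : ∀ (i j : J) (f : i ⟶ j), IsAffineHom (E.map f)) (j₀ : J)
    (hj₀ : IsAffine (E.obj j₀)) {X₀ Y₀ : Scheme.{u}} (f₀ : X₀ ⟶ Y₀) (g₀ : Y₀ ⟶ E.obj j₀)
    (hX₀ : IsAffine X₀) (hY₀ : IsAffine Y₀) (hlft : LocallyOfFiniteType f₀)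
    {X Y : Scheme.{u}} (f : X ⟶ Y) (g : Y ⟶ cE.pt) (qY : Y ⟶ Y₀) (qX : X ⟶ X₀)
    (hY : IsPullback qY g g₀ (cE.π.app j₀)) (hX : IsPullback qX f f₀ qY) (hf : IsFinite f) :
    ∃ (i : J) (φ : i ⟶ j₀) (Xi Yi : Scheme.{u}) (fi : Xi ⟶ Yi) (gi : Yi ⟶ E.obj i) (pY : Yi ⟶ Y₀)
      (pX : Xi ⟶ X₀), IsPullback pY gi g₀ (E.map φ) ∧ IsPullback pX fi f₀ pY ∧ IsFinite fi := by
  haveI := haff
  haveI := hj₀
  haveI := hX₀
  haveI := hY₀
  haveI := hlft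
  haveI := hf
  exact Groth.Agent.S9187.result E cE hcE j₀ f₀ g₀ f g qY qX hY hX

variable {S : Scheme.{u}}

/-- Two representing squares of the same base change: the property transfers. -/
theorem P_of_isPullback_yon (P : MorphismProperty Scheme.{u}) [P.IsStableUnderBaseChange] {W W' V : Over S}
    {X Y : Sp S} {f : X ⟶ Y} {y : (yon S).obj V ⟶ Y} {x : (yon S).obj W ⟶ X} {i : W ⟶ V}
    {x' : (yon S).obj W' ⟶ X} {i' : W' ⟶ V} (sq : IsPullback x ((yon S).map i) f y)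
    (sq' : IsPullback x' ((yon S).map i') f y) (h : P i'.left) : P i.left := by
  have h' : RepWith P ((yon S).map i') := (repWith_yon_map_iff P i').2 h
  have e : (sq.isoIsPullback _ _ sq').hom ≫ (yon S).map i' = (yon S).map i :=
    IsPullback.isoIsPullback_hom_snd _ _ sq sq'
  rw [← repWith_yon_map_iff P i, ← e]
  exact (MorphismProperty.cancel_left_of_respectsIso (RepWith P) _ _).2 h'

/-- A morphism of schemes over `S` which is affine and has `P`, as a morphism of sheaves. -/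
theorem affWith_yon_map (P : MorphismProperty Scheme.{u}) [P.IsStableUnderBaseChange] {W V : Over S} (w : W ⟶ V)
    (hw : IsAffineHom w.left) (hP : P w.left) : AffWith P ((yon S).map w) := by
  intro Z hZ g
  obtain ⟨g₀, rfl⟩ := (yon S).map_surjective g
  have sq₀ : IsPullback (pullback.fst w g₀).left (pullback.snd w g₀).left w.left g₀.left :=
    isPullback_left_forget w g₀
  have h1 : IsAffineHom (pullback.snd w g₀).left := MorphismProperty.of_isPullback (P := @IsAffineHom) sq₀ hw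
  have : IsAffine Z.left := hZ
  exact ⟨pullback w g₀, pullback.snd w g₀, (yon S).map (pullback.fst w g₀),
    (IsPullback.of_hasPullback w g₀).map (yon S), isAffine_of_isAffineHom (pullback.snd w g₀).left,
    MorphismProperty.of_isPullback (P := P) sq₀ hP⟩

/-- In the situation of `affine_chart_stage`: a property `P` which descends along limits of affine schemes and holds for
the base change of `f` to the chart of the limit holds for the chart of the base change of `f₀` at some stage. -/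
theorem chart_descent {P : MorphismProperty Scheme.{u}} [P.IsStableUnderBaseChange]
    (hdesc : ∀ {J : Type u} [SmallCategory J] [IsCofiltered J] (E : J ⥤ Scheme.{u}) (cE : Cone E)
      (_ : IsLimit cE) (_ : ∀ (i j : J) (f : i ⟶ j), IsAffineHom (E.map f)) (j₀ : J)
      (_ : IsAffine (E.obj j₀)) {X₀ Y₀ : Scheme.{u}} (f₀ : X₀ ⟶ Y₀) (g₀ : Y₀ ⟶ E.obj j₀)
      (_ : IsAffine X₀) (_ : IsAffine Y₀) (_ : LocallyOfFiniteType f₀)
      {X Y : Scheme.{u}} (f : X ⟶ Y) (g : Y ⟶ cE.pt) (qY : Y ⟶ Y₀) (qX : X ⟶ X₀)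
      (_ : IsPullback qY g g₀ (cE.π.app j₀)) (_ : IsPullback qX f f₀ qY), P f →
      ∃ (i : J) (φ : i ⟶ j₀) (Xi Yi : Scheme.{u}) (fi : Xi ⟶ Yi) (gi : Yi ⟶ E.obj i) (pY : Yi ⟶ Y₀)
        (pX : Xi ⟶ X₀), IsPullback pY gi g₀ (E.map φ) ∧ IsPullback pX fi f₀ pY ∧ P fi)
    [QuasiSeparatedSpace ↥S] {I : Type u} [SmallCategory I] [IsCofiltered I]
    (D : I ⥤ Sp S) (hD : ∀ i, IsAlgSpace (D.obj i)) (hDa : ∀ (i j : I) (φ : i ⟶ j), IsAffineMor (D.map φ))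
    (c : Cone D) (hc : IsLimit c) (i₀ : I)
    (hBqc : IsQuasiCompactSp (D.obj i₀)) (hBqs : IsQuasiSeparatedSp (D.obj i₀))
    {X₀ Y₀ : Sp S} (hX₀ : IsAlgSpace X₀) (hY₀ : IsAlgSpace Y₀) (f₀ : X₀ ⟶ Y₀) (b₀ : Y₀ ⟶ D.obj i₀)
    (hXqc : IsQuasiCompactSp X₀) (hXqs : IsQuasiSeparatedSp X₀) (hYqs : IsQuasiSeparatedSp Y₀)
    {X Y : Sp S} (f : X ⟶ Y) (pY : Y ⟶ Y₀) (qY : Y ⟶ c.pt)
    (hY : IsPullback pY qY b₀ (c.π.app i₀)) (pX : X ⟶ X₀) (hX : IsPullback pX f f₀ pY)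
    (hf : IsAffineMor f) (hf₀ : LocP @LocallyOfFiniteType f₀)
    {V₀ : Over S} (hV₀ : IsAffine V₀.left) (v : (yon S).obj V₀ ⟶ Y₀)
    {A₀ : Sp S} (fstA : A₀ ⟶ X₀) (sndA : A₀ ⟶ (yon S).obj V₀) (sqA : IsPullback fstA sndA f₀ v)
    (LV : LimChart (Over.mkIdTerminal (X := i₀)) (Over.forget i₀ ⋙ D) (c.whisker (Over.forget i₀)) (v ≫ b₀))
    (hPlim : ∀ (W : Over S) (iW : W ⟶ LV.cE.pt) (xW : (yon S).obj W ⟶ X) (yV : (yon S).obj LV.cE.pt ⟶ Y),
      IsPullback xW ((yon S).map iW) f yV → P iW.left) :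
    ∃ (j₁ : Over i₀) (Wj : Over S) (wj : Wj ⟶ LV.E.obj j₁) (aj : (yon S).obj Wj ⟶ A₀),
      IsAffine Wj.left ∧ IsPullback aj ((yon S).map wj) sndA ((yon S).map (LV.p j₁)) ∧ P wj.left := by
  obtain ⟨j₀, H⟩ := affine_chart_stage D hD hDa c hc i₀ hBqc hBqs hX₀ hY₀ f₀ b₀ hXqc hXqs hYqs f pY qY hY pX hX hf
    hV₀ v fstA sndA sqA LV
  obtain ⟨W₀, w₀, a₀, hW₀, sqW₀⟩ := H j₀ (𝟙 j₀)
  have hV₀' : IsAffine V₀.left := hV₀
  have hA₀ : IsAlgSpace A₀ := isAlgSpace_of_isPullback hX₀ hY₀.diag (IsAlgSpace.yon_obj V₀) sqA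
  have hlftA : LocP @LocallyOfFiniteType sndA :=
    locP_of_isPullback etLocalST_locallyOfFiniteType hX₀ hY₀ sqA hf₀
  have hlft : LocallyOfFiniteType w₀.left :=
    locP_yon_map (locP_of_isPullback etLocalST_locallyOfFiniteType hA₀ (IsAlgSpace.yon_obj V₀) sqW₀ hlftA)
  have hVj₀aff : IsAffine (LV.E.obj j₀).left := by
    have h1 : IsAffineHom (LV.p j₀).left := LV.affp j₀
    exact isAffine_of_isAffineHom (LV.p j₀).left
  -- the limit stage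
  have h1 : LV.cE.π.app j₀ ≫ LV.p j₀ = LV.cE.π.app (Over.mk (𝟙 i₀)) ≫ LV.p (Over.mk (𝟙 i₀)) := by
    rw [← LV.hp ((Over.mkIdTerminal (X := i₀)).from j₀), ← Category.assoc, LV.cE.w]
  obtain ⟨π₀, hπ₀⟩ : ∃ π₀ : LV.cE.pt ⟶ LV.E.obj j₀, π₀ = LV.cE.π.app j₀ := ⟨_, rfl⟩
  have h1' : π₀ ≫ LV.p j₀ = LV.cE.π.app (Over.mk (𝟙 i₀)) ≫ LV.p (Over.mk (𝟙 i₀)) := by
    subst hπ₀
    exact h1
  obtain ⟨plim, hplim, sqlim⟩ : ∃ plim : LV.cE.pt ⟶ V₀, plim = π₀ ≫ LV.p j₀ ∧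
      IsPullback LV.fst ((yon S).map plim) (c.π.app i₀) (v ≫ b₀) := ⟨_, h1'.symm, LV.sqlim⟩
  obtain ⟨yV, -, sqyV⟩ := paste_lift₁ hY sqlim
  have sqbig : IsPullback ((yon S).map (pullback.fst w₀ π₀) ≫ a₀) ((yon S).map (pullback.snd w₀ π₀)) sndA
      ((yon S).map plim) := by
    rw [hplim, Functor.map_comp]
    exact ((IsPullback.of_hasPullback w₀ π₀).map (yon S)).paste_horiz sqW₀
  obtain ⟨xW, -, sqxW⟩ := paste_lift₃ hX sqA sqyV.w sqbig
  have hPinf : P (pullback.snd w₀ π₀).left := hPlim _ _ xW yV sqxW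
  -- descent for schemes
  have hYs' : IsPullback π₀.left (𝟙 LV.cE.pt.left) (𝟙 (LV.E.obj j₀).left) π₀.left :=
    IsPullback.of_vert_isIso ⟨by rw [Category.comp_id, Category.id_comp]⟩
  have hYs : IsPullback π₀.left (𝟙 LV.cE.pt.left) (𝟙 (LV.E.obj j₀).left)
      (((Over.forget S).mapCone LV.cE).π.app j₀) := by
    subst hπ₀
    exact hYs'
  have hXs : IsPullback (pullback.fst w₀ π₀).left (pullback.snd w₀ π₀).left w₀.left π₀.left :=
    isPullback_left_forget w₀ π₀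
  obtain ⟨j₁, m, Xi, Yi, fi, gi, pYs, pXs, hYj, hXj, hPfi⟩ :=
    hdesc (LV.E ⋙ Over.forget S) ((Over.forget S).mapCone LV.cE) LV.hc₀ (fun i j f => LV.aff f) j₀
      hVj₀aff w₀.left (𝟙 (LV.E.obj j₀).left) hW₀ hVj₀aff hlft
      (pullback.snd w₀ π₀).left (𝟙 LV.cE.pt.left) π₀.left (pullback.fst w₀ π₀).left hYs hXs hPinf
  -- the stage `j₁`
  obtain ⟨W₁, w₁, a₁, hW₁, sqW₁⟩ := H j₁ m
  have comm : a₁ ≫ sndA = (yon S).map (w₁ ≫ LV.E.map m) ≫ (yon S).map (LV.p j₀) := by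
    rw [← Functor.map_comp, Category.assoc, LV.hp m, Functor.map_comp]
    exact sqW₁.w
  obtain ⟨k, hk₁, hk₂⟩ : ∃ k : (yon S).obj W₁ ⟶ (yon S).obj W₀, k ≫ a₀ = a₁ ∧
      k ≫ (yon S).map w₀ = (yon S).map (w₁ ≫ LV.E.map m) :=
    ⟨sqW₀.lift _ _ comm, sqW₀.lift_fst _ _ _, sqW₀.lift_snd _ _ _⟩
  have sqk : IsPullback k ((yon S).map w₁) ((yon S).map w₀) ((yon S).map (LV.E.map m)) := by
    refine IsPullback.of_right ?_ ?_ sqW₀
    · rw [hk₁, ← Functor.map_comp, LV.hp m]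
      exact sqW₁
    · rw [hk₂, Functor.map_comp]
  obtain ⟨k₀, rfl⟩ := (yon S).map_surjective k
  have sqk₀ : IsPullback k₀.left w₁.left w₀.left (LV.E.map m).left := isPullback_left_of_yon sqk
  have w : (LV.E.map m).left ≫ 𝟙 (LV.E.obj j₀).left = 𝟙 (LV.E.obj j₁).left ≫ (LV.E.map m).left := by
    rw [Category.comp_id, Category.id_comp]
  have hρ : hYj.lift (LV.E.map m).left (𝟙 (LV.E.obj j₁).left) w ≫ pYs = (LV.E.map m).left :=
    hYj.lift_fst _ _ _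
  exact ⟨j₁, W₁, w₁, a₁, hW₁, sqW₁, P_of_base_sq P hXj sqk₀ _ hρ hPfi⟩

/-- Descent of a property of affine morphisms along a cofiltered limit of algebraic spaces with affine transition
maps, from the corresponding statement for affine schemes. -/
theorem descend_affine_core {P : MorphismProperty Scheme.{u}} [P.IsStableUnderBaseChange]
    (hdesc : ∀ {J : Type u} [SmallCategory J] [IsCofiltered J] (E : J ⥤ Scheme.{u}) (cE : Cone E)
      (_ : IsLimit cE) (_ : ∀ (i j : J) (f : i ⟶ j), IsAffineHom (E.map f)) (j₀ : J)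
      (_ : IsAffine (E.obj j₀)) {X₀ Y₀ : Scheme.{u}} (f₀ : X₀ ⟶ Y₀) (g₀ : Y₀ ⟶ E.obj j₀)
      (_ : IsAffine X₀) (_ : IsAffine Y₀) (_ : LocallyOfFiniteType f₀)
      {X Y : Scheme.{u}} (f : X ⟶ Y) (g : Y ⟶ cE.pt) (qY : Y ⟶ Y₀) (qX : X ⟶ X₀)
      (_ : IsPullback qY g g₀ (cE.π.app j₀)) (_ : IsPullback qX f f₀ qY), P f →
      ∃ (i : J) (φ : i ⟶ j₀) (Xi Yi : Scheme.{u}) (fi : Xi ⟶ Yi) (gi : Yi ⟶ E.obj i) (pY : Yi ⟶ Y₀)
        (pX : Xi ⟶ X₀), IsPullback pY gi g₀ (E.map φ) ∧ IsPullback pX fi f₀ pY ∧ P fi)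
    (Q : MorphismProperty (Sp S))
    (hQ : ∀ {X Y : Sp S} (_ : IsAlgSpace X) (_ : IsAlgSpace Y) (f : X ⟶ Y) {V W : Over S}
      (yV : (yon S).obj V ⟶ Y) (_ : RepWith @Etale yV) (_ : RepWith @Surjective yV)
      (xW : (yon S).obj W ⟶ X) (w : W ⟶ V) (_ : IsPullback xW ((yon S).map w) f yV),
      IsAffine V.left → IsAffine W.left → P w.left → Q f)
    [QuasiSeparatedSpace ↥S] {I : Type u} [SmallCategory I] [IsCofiltered I]
    (D : I ⥤ AlgSp.Sp S) (hD : ∀ i, AlgSp.IsAlgSpace (D.obj i))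
    (hDa : ∀ (i j : I) (φ : i ⟶ j), AlgSp.IsAffineMor (D.map φ))
    (c : Cone D) (hc : IsLimit c) (i₀ : I)
    (hBqc : AlgSp.IsQuasiCompactSp (D.obj i₀)) (hBqs : AlgSp.IsQuasiSeparatedSp (D.obj i₀))
    (X₀ Y₀ : AlgSp.Space S) (f₀ : X₀.obj ⟶ Y₀.obj) (b₀ : Y₀.obj ⟶ D.obj i₀)
    (hXqc : AlgSp.IsQuasiCompactSp X₀.obj) (hXqs : AlgSp.IsQuasiSeparatedSp X₀.obj)
    (hYqc : AlgSp.IsQuasiCompactSp Y₀.obj) (hYqs : AlgSp.IsQuasiSeparatedSp Y₀.obj)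
    (X Y : AlgSp.Sp S) (f : X ⟶ Y) (pY : Y ⟶ Y₀.obj) (qY : Y ⟶ c.pt)
    (hY : IsPullback pY qY b₀ (c.π.app i₀)) (pX : X ⟶ X₀.obj) (hX : IsPullback pX f f₀ pY)
    (hf : AlgSp.IsAffineMor f)
    (hPlim : ∀ {V W : Over S} (_ : IsAffine V.left) (yV : (yon S).obj V ⟶ Y) (xW : (yon S).obj W ⟶ X)
      (iW : W ⟶ V), IsPullback xW ((yon S).map iW) f yV → P iW.left)
    (hf₀ : AlgSp.LocP @LocallyOfFiniteType f₀) :
    ∃ (i : I) (φ : i ⟶ i₀), ∀ (Xi Yi : AlgSp.Sp S) (fi : Xi ⟶ Yi) (pYi : Yi ⟶ Y₀.obj) (qYi : Yi ⟶ D.obj i)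
      (_ : IsPullback pYi qYi b₀ (D.map φ)) (pXi : Xi ⟶ X₀.obj) (_ : IsPullback pXi fi f₀ pYi), Q fi := by
  obtain ⟨V₀, v, hV₀aff, hve, hvs⟩ := DenseFin.exists_affine_chart_of_isQuasiCompactSp hYqc
  obtain ⟨A₀, fstA, sndA, sqA⟩ : ∃ (A₀ : Sp S) (fstA : A₀ ⟶ X₀.obj) (sndA : A₀ ⟶ (yon S).obj V₀),
      IsPullback fstA sndA f₀ v := ⟨_, _, _, IsPullback.of_hasPullback f₀ v⟩
  obtain ⟨hc'⟩ := isLimit_whisker_over D c hc i₀
  obtain ⟨LV⟩ := nonempty_limChart (Over.mkIdTerminal (X := i₀)) (Over.forget i₀ ⋙ D) (fun j => hD j.left)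
    (fun i j φ => hDa _ _ φ.left) (c.whisker (Over.forget i₀)) hc' (v ≫ b₀)
  have hVlimaff : IsAffine LV.cE.pt.left := by
    have : IsAffine V₀.left := hV₀aff
    have h1 : IsAffineHom (LV.cE.π.app (Over.mk (𝟙 i₀))).left := LV.affπ _
    have h2 : IsAffineHom (LV.p (Over.mk (𝟙 i₀))).left := LV.affp _
    have h3 : IsAffineHom ((LV.cE.π.app (Over.mk (𝟙 i₀))).left ≫ (LV.p (Over.mk (𝟙 i₀))).left) := inferInstance
    exact isAffine_of_isAffineHom ((LV.cE.π.app (Over.mk (𝟙 i₀))).left ≫ (LV.p (Over.mk (𝟙 i₀))).left)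
  obtain ⟨j₁, Wj, wj, aj, hWj, sqWj, hPwj⟩ := chart_descent @hdesc D hD hDa c hc i₀ hBqc hBqs X₀.property
    Y₀.property f₀ b₀ hXqc hXqs hYqs f pY qY hY pX hX hf hf₀ hV₀aff v fstA sndA sqA LV
    (fun W iW xW yV sq => hPlim hVlimaff yV xW iW sq)
  refine ⟨j₁.left, j₁.hom, fun Xi Yi fi pYi qYi hYi pXi hXi => ?_⟩
  have hYi_alg : IsAlgSpace Yi := isAlgSpace_of_isPullback Y₀.property (hD i₀).diag (hD j₁.left) hYi
  have hXi_alg : IsAlgSpace Xi := isAlgSpace_of_isPullback X₀.property Y₀.property.diag hYi_alg hXi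
  have sqVj : IsPullback (LV.α.app j₁) ((yon S).map (LV.p j₁)) (D.map j₁.hom) (v ≫ b₀) := by
    have h := LV.sq j₁
    have e : (Over.forget i₀ ⋙ D).map ((Over.mkIdTerminal (X := i₀)).from j₁) = D.map j₁.hom := by
      show D.map ((Over.mkIdTerminal (X := i₀)).from j₁).left = D.map j₁.hom
      rw [mkId_from_left]
    rw [e] at h
    exact h
  obtain ⟨yV, -, sqyV⟩ := paste_lift₁ hYi sqVj
  obtain ⟨xW, -, sqxW⟩ := paste_lift₃ hXi sqA sqyV.w sqWj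
  have hyVe : RepWith @Etale yV := (RepWith @Etale).of_isPullback sqyV.flip hve
  have hyVs : RepWith @Surjective yV := (RepWith @Surjective).of_isPullback sqyV.flip hvs
  have hVjaff : IsAffine (LV.E.obj j₁).left := by
    have h1 : IsAffineHom (LV.p j₁).left := LV.affp j₁
    have : IsAffine V₀.left := hV₀aff
    exact isAffine_of_isAffineHom (LV.p j₁).left
  exact hQ hXi_alg hYi_alg fi yV hyVe hyVs xW wj sqxW hVjaff hWj hPwj

theorem closedImmersion_le_isAffineHom :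
    (@IsClosedImmersion : MorphismProperty Scheme.{u}) ≤ @IsAffineHom := fun _ _ g hg => by
  have : IsClosedImmersion g := hg
  exact (inferInstance : IsAffineHom g)

theorem main10019 (S : Scheme.{u}) [QuasiSeparatedSpace S] {I : Type u} [SmallCategory I] [IsCofiltered I]
    (D : I ⥤ AlgSp.Sp S) (hD : ∀ i, AlgSp.IsAlgSpace (D.obj i))
    (hDa : ∀ (i j : I) (φ : i ⟶ j), AlgSp.IsAffineMor (D.map φ))
    (c : Cone D) (hc : IsLimit c) (i₀ : I)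
    (hBqc : AlgSp.IsQuasiCompactSp (D.obj i₀)) (hBqs : AlgSp.IsQuasiSeparatedSp (D.obj i₀))
    (X₀ Y₀ : AlgSp.Space S) (f₀ : X₀.obj ⟶ Y₀.obj) (b₀ : Y₀.obj ⟶ D.obj i₀)
    (hXqc : AlgSp.IsQuasiCompactSp X₀.obj) (hXqs : AlgSp.IsQuasiSeparatedSp X₀.obj)
    (hYqc : AlgSp.IsQuasiCompactSp Y₀.obj) (hYqs : AlgSp.IsQuasiSeparatedSp Y₀.obj)
    (X Y : AlgSp.Sp S) (f : X ⟶ Y) (pY : Y ⟶ Y₀.obj) (qY : Y ⟶ c.pt)
    (hY : IsPullback pY qY b₀ (c.π.app i₀)) (pX : X ⟶ X₀.obj) (hX : IsPullback pX f f₀ pY)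
    (hf : AlgSp.RepWith @IsClosedImmersion f) (hf₀ : AlgSp.LocP @LocallyOfFiniteType f₀) :
    ∃ (i : I) (φ : i ⟶ i₀), ∀ (Xi Yi : AlgSp.Sp S) (fi : Xi ⟶ Yi) (pYi : Yi ⟶ Y₀.obj) (qYi : Yi ⟶ D.obj i)
      (_ : IsPullback pYi qYi b₀ (D.map φ)) (pXi : Xi ⟶ X₀.obj) (_ : IsPullback pXi fi f₀ pYi),
      AlgSp.RepWith @IsClosedImmersion fi := by
  refine descend_affine_core (P := @IsClosedImmersion) @hdesc_closedImmersion' (RepWith @IsClosedImmersion) ?_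
    D hD hDa c hc i₀ hBqc hBqs X₀ Y₀ f₀ b₀ hXqc hXqs hYqc hYqs X Y f pY qY hY pX hX
    (isAffineMor_of_repWith_isClosedImmersion f hf)
    (fun {V W} _ yV xW iW sq => hf.property yV xW iW sq) hf₀
  intro X' Y' hXa hYa f' V W yV hyVe hyVs xW w sq hV hW hP
  exact repWith_of_fpqcRefines_of_le_isAffineHom (Pr := @IsClosedImmersion) closedImmersion_le_isAffineHom hYa
    (fun _ : PUnit.{u + 1} => (yon S).obj V) (fun _ => yV) (fpqcRefines_chart hYa yV hyVe hyVs) hXa f'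
    (fun _ => (yon S).obj W) (fun _ => (yon S).map w) (fun _ => xW) (fun _ => sq)
    (fun _ => (repWith_yon_map_iff @IsClosedImmersion w).2 hP)

theorem main10018 (S : Scheme.{u}) [QuasiSeparatedSpace S] {I : Type u} [SmallCategory I] [IsCofiltered I]
    (D : I ⥤ AlgSp.Sp S) (hD : ∀ i, AlgSp.IsAlgSpace (D.obj i))
    (hDa : ∀ (i j : I) (φ : i ⟶ j), AlgSp.IsAffineMor (D.map φ))
    (c : Cone D) (hc : IsLimit c) (i₀ : I)
    (hBqc : AlgSp.IsQuasiCompactSp (D.obj i₀)) (hBqs : AlgSp.IsQuasiSeparatedSp (D.obj i₀))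
    (X₀ Y₀ : AlgSp.Space S) (f₀ : X₀.obj ⟶ Y₀.obj) (b₀ : Y₀.obj ⟶ D.obj i₀)
    (hXqc : AlgSp.IsQuasiCompactSp X₀.obj) (hXqs : AlgSp.IsQuasiSeparatedSp X₀.obj)
    (hYqc : AlgSp.IsQuasiCompactSp Y₀.obj) (hYqs : AlgSp.IsQuasiSeparatedSp Y₀.obj)
    (X Y : AlgSp.Sp S) (f : X ⟶ Y) (pY : Y ⟶ Y₀.obj) (qY : Y ⟶ c.pt)
    (hY : IsPullback pY qY b₀ (c.π.app i₀)) (pX : X ⟶ X₀.obj) (hX : IsPullback pX f f₀ pY)
    (hf : AlgSp.IsFiniteMor f) (hf₀ : AlgSp.LocP @LocallyOfFiniteType f₀) :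
    ∃ (i : I) (φ : i ⟶ i₀), ∀ (Xi Yi : AlgSp.Sp S) (fi : Xi ⟶ Yi) (pYi : Yi ⟶ Y₀.obj) (qYi : Yi ⟶ D.obj i)
      (_ : IsPullback pYi qYi b₀ (D.map φ)) (pXi : Xi ⟶ X₀.obj) (_ : IsPullback pXi fi f₀ pYi),
      AlgSp.IsFiniteMor fi := by
  have hfaff : IsAffineMor f := fun Z hZ g => by
    obtain ⟨W, i, fst, sq, hW, -⟩ := hf hZ g
    exact ⟨W, i, fst, sq, hW⟩
  refine descend_affine_core (P := @IsFinite) @hdesc_finite' IsFiniteMor ?_
    D hD hDa c hc i₀ hBqc hBqs X₀ Y₀ f₀ b₀ hXqc hXqs hYqc hYqs X Y f pY qY hY pX hX hfaff ?_ hf₀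
  · intro X' Y' hXa hYa f' V W yV hyVe hyVs xW w sq hV hW hP
    have hV' : IsAffine V.left := hV
    have hW' : IsAffine W.left := hW
    have hwaff : IsAffineHom w.left := inferInstance
    have h : AffWith @IsFinite f' := affWith_of_fpqcRefines hYa
      (fun _ : PUnit.{u + 1} => (yon S).obj V) (fun _ => yV) (fpqcRefines_chart hYa yV hyVe hyVs) hXa f'
      (fun _ => (yon S).obj W) (fun _ => (yon S).map w) (fun _ => xW) (fun _ => sq)
      (fun _ => affWith_yon_map @IsFinite w hwaff hP)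
    exact h
  · intro V W hV yV xW iW sq
    obtain ⟨W', i', fst', sq', -, hfin⟩ := hf hV yV
    exact P_of_isPullback_yon @IsFinite sq sq' hfin

end Groth.Agent.Lib.Helper6.LimSp
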