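import Mathlib
import Groth.Agent.Lib.Helper6.LimSp19
import Groth.Agent.S9900

/-!
# Helper library (helper6): separated morphisms descend along limits of algebraic spaces

* `diagonal_base_change`: the diagonal of a base change is the base change of the diagonal;
* `locP_lft_diagonal'`: the diagonal of a morphism of algebraic spaces is locally of finite type;
* `main10020`.
-/

set_option autoImplicit false
universe u
open CategoryTheory CategoryTheory.Limits AlgebraicGeometry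
open AlgSp Groth.Agent.Lib.Helper16

namespace Groth.Agent.Lib.Helper6.LimSp

section General

variable {C : Type*} [Category C] [HasPullbacks C]

/-- The diagonal of a base change is the base change of the diagonal. -/
theorem diagonal_base_change {X X₀ Y Y₀ : C} {pX : X ⟶ X₀} {f : X ⟶ Y} {f₀ : X₀ ⟶ Y₀} {pY : Y ⟶ Y₀}
    (hX : IsPullback pX f f₀ pY) :
    ∃ μ : pullback f f ⟶ pullback f₀ f₀,
      IsPullback μ (pullback.fst f f ≫ f) (pullback.fst f₀ f₀ ≫ f₀) pY ∧
      IsPullback pX (pullback.diagonal f) (pullback.diagonal f₀) μ := by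
  have comm : (pullback.fst f f ≫ pX) ≫ f₀ = (pullback.snd f f ≫ pX) ≫ f₀ := by
    rw [Category.assoc, Category.assoc, hX.w, pullback.condition_assoc]
  obtain ⟨μ, hμ₁, hμ₂⟩ : ∃ μ : pullback f f ⟶ pullback f₀ f₀,
      μ ≫ pullback.fst f₀ f₀ = pullback.fst f f ≫ pX ∧ μ ≫ pullback.snd f₀ f₀ = pullback.snd f f ≫ pX :=
    ⟨pullback.lift (pullback.fst f f ≫ pX) (pullback.snd f f ≫ pX) comm,
      pullback.lift_fst _ _ _, pullback.lift_snd _ _ _⟩
  have sqK : IsPullback (pullback.snd f f) (pullback.fst f f) f f := (IsPullback.of_hasPullback f f).flip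
  have sqK₀ : IsPullback (pullback.snd f₀ f₀) (pullback.fst f₀ f₀) f₀ f₀ :=
    (IsPullback.of_hasPullback f₀ f₀).flip
  have hB : IsPullback μ (pullback.fst f f) (pullback.fst f₀ f₀) pX := by
    refine IsPullback.of_right ?_ hμ₁ sqK₀
    rw [hμ₂, hX.w]
    exact sqK.paste_horiz hX
  refine ⟨μ, hB.paste_vert hX, ?_⟩
  have hcomm : pX ≫ pullback.diagonal f₀ = pullback.diagonal f ≫ μ := by
    apply pullback.hom_ext
    · rw [Category.assoc, Category.assoc, pullback.diagonal_fst, hμ₁, ← Category.assoc, pullback.diagonal_fst,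
        Category.comp_id, Category.id_comp]
    · rw [Category.assoc, Category.assoc, pullback.diagonal_snd, hμ₂, ← Category.assoc, pullback.diagonal_snd,
        Category.comp_id, Category.id_comp]
  refine IsPullback.of_bot ?_ hcomm hB
  rw [pullback.diagonal_fst, pullback.diagonal_fst]
  exact IsPullback.of_vert_isIso ⟨by rw [Category.comp_id, Category.id_comp]⟩

end General

variable {S : Scheme.{u}}

/-- The diagonal of a morphism of algebraic spaces is locally of finite type. -/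
theorem locP_lft_diagonal' {X₀ Y₀ : AlgSp.Space S} (f₀ : X₀.obj ⟶ Y₀.obj) :
    LocP @LocallyOfFiniteType (pullback.diagonal f₀) := by
  obtain ⟨h1, h2, -, -, -⟩ := Groth.Agent.S9900.result (ObjectProperty.homMk f₀ : X₀ ⟶ Y₀)
  have h1' : Representable (pullback.diagonal f₀) := h1
  have h2' : RepWith @LocallyOfFiniteType (pullback.diagonal f₀) := h2
  have hK : IsAlgSpace (pullback f₀ f₀) :=
    isAlgSpace_of_isPullback X₀.property Y₀.property.diag X₀.property (IsPullback.of_hasPullback f₀ f₀)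
  exact (locP_iff_repWith etLocalST_locallyOfFiniteType X₀.property hK _ h1').2 h2'

theorem main10020 (S : Scheme.{u}) [QuasiSeparatedSpace S] {I : Type u} [SmallCategory I] [IsCofiltered I]
    (D : I ⥤ AlgSp.Sp S) (hD : ∀ i, AlgSp.IsAlgSpace (D.obj i))
    (hDa : ∀ (i j : I) (φ : i ⟶ j), AlgSp.IsAffineMor (D.map φ))
    (c : Cone D) (hc : IsLimit c) (i₀ : I)
    (hBqc : AlgSp.IsQuasiCompactSp (D.obj i₀)) (hBqs : AlgSp.IsQuasiSeparatedSp (D.obj i₀))
    (X₀ Y₀ : AlgSp.Space S) (f₀ : X₀.obj ⟶ Y₀.obj) (b₀ : Y₀.obj ⟶ D.obj i₀)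
    (hXqc : AlgSp.IsQuasiCompactSp X₀.obj) (hXqs : AlgSp.IsQuasiSeparatedSp X₀.obj)
    (hYqc : AlgSp.IsQuasiCompactSp Y₀.obj) (hYqs : AlgSp.IsQuasiSeparatedSp Y₀.obj)
    (X Y : AlgSp.Sp S) (f : X ⟶ Y) (pY : Y ⟶ Y₀.obj) (qY : Y ⟶ c.pt)
    (hY : IsPullback pY qY b₀ (c.π.app i₀)) (pX : X ⟶ X₀.obj) (hX : IsPullback pX f f₀ pY)
    (hf : AlgSp.IsSeparatedMor f) :
    ∃ (i : I) (φ : i ⟶ i₀), ∀ (Xi Yi : AlgSp.Sp S) (fi : Xi ⟶ Yi) (pYi : Yi ⟶ Y₀.obj) (qYi : Yi ⟶ D.obj i)
      (_ : IsPullback pYi qYi b₀ (D.map φ)) (pXi : Xi ⟶ X₀.obj) (_ : IsPullback pXi fi f₀ pYi),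
      AlgSp.IsSeparatedMor fi := by
  obtain ⟨μ, hA, hL⟩ := diagonal_base_change hX
  have hK₀ : IsAlgSpace (pullback f₀ f₀) :=
    isAlgSpace_of_isPullback X₀.property Y₀.property.diag X₀.property (IsPullback.of_hasPullback f₀ f₀)
  have hK₀qc : IsQuasiCompactSp (pullback f₀ f₀) :=
    isQuasiCompactSp_of_isPullback (IsPullback.of_hasPullback f₀ f₀) hXqc hXqc hYqs
  have hK₀qs : IsQuasiSeparatedSp (pullback f₀ f₀) :=
    repWith_diag_of_isPullback (IsPullback.of_hasPullback f₀ f₀) hXqs hXqs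
  have hf' : RepWith @IsClosedImmersion (pullback.diagonal f) := hf
  obtain ⟨i, φ, H⟩ := main10019 S D hD hDa c hc i₀ hBqc hBqs X₀ ⟨pullback f₀ f₀, hK₀⟩ (pullback.diagonal f₀)
    ((pullback.fst f₀ f₀ ≫ f₀) ≫ b₀) hXqc hXqs hK₀qc hK₀qs X (pullback f f) (pullback.diagonal f) μ
    ((pullback.fst f f ≫ f) ≫ qY) (hA.paste_vert hY) pX hL hf'
    (locP_lft_diagonal' f₀)
  refine ⟨i, φ, fun Xi Yi fi pYi qYi hYi pXi hXi => ?_⟩
  obtain ⟨μi, hAi, hLi⟩ := diagonal_base_change hXi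
  exact H Xi (pullback fi fi) (pullback.diagonal fi) μi ((pullback.fst fi fi ≫ fi) ≫ qYi) (hAi.paste_vert hYi)
    pXi hLi

end Groth.Agent.Lib.Helper6.LimSp
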