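import Mathlib
import Groth.Agent.Lib.Helper6.LimSp20
import Groth.Agent.Lib.Helper6.LimSp8
import Groth.Agent.Lib.Helper6.LimSp11
import Groth.Agent.Lib.Helper16.SchLocus

/-!
# Helper library (helper6): if a limit of quasi-compact quasi-separated algebraic spaces is a scheme, so is a stage

* `exists_iso_of_openImm_of_range_eq`: two open subspaces with the same points are isomorphic;
* `exists_iso_openSub_of_eq_univ`: the open subspace on all points is everything;
* `isQuasiSeparatedSp_of_openImm`: an open subspace of a quasi-separated sheaf is quasi-separated;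
* `mem_schLocus_of_isAffineMor`: the inverse image of the schematic locus under an affine morphism lies in the
  schematic locus;
* `exists_stage_mem_schLocus`: every point of a limit which is a scheme maps to the schematic locus of some stage;
* `main10007`.
-/

set_option autoImplicit false
universe u
open CategoryTheory CategoryTheory.Limits AlgebraicGeometry Topology
open AlgSp Groth.Agent.Lib.Helper16 Groth.Agent.Lib.Helper15

namespace Groth.Agent.Lib.Helper6.LimSp

variable {S : Scheme.{u}}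

/-- Two open subspaces with the same points are isomorphic. -/
theorem exists_iso_of_openImm_of_range_eq {X U U' : Sp S} (j : U ⟶ X) (hj : RepWith @IsOpenImmersion j)
    (j' : U' ⟶ X) (hj' : RepWith @IsOpenImmersion j')
    (h : Set.range (Points.map j) = Set.range (Points.map j')) : ∃ e : U ≅ U', e.hom ≫ j' = j := by
  have hm : Mono j := mono_of_repWith_isOpenImmersion j hj
  have hm' : Mono j' := mono_of_repWith_isOpenImmersion j' hj'
  obtain ⟨g, hg⟩ := exists_factor_of_range_subset j' hj' j h.subset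
  obtain ⟨g', hg'⟩ := exists_factor_of_range_subset j hj j' h.symm.subset
  refine ⟨⟨g, g', ?_, ?_⟩, hg⟩
  · rw [← cancel_mono j, Category.assoc, hg', hg, Category.id_comp]
  · rw [← cancel_mono j', Category.assoc, hg, hg', Category.id_comp]

/-- The open subspace on all points is everything. -/
theorem exists_iso_openSub_of_eq_univ {X : Sp S} (A : Set (Points X)) (hA : A = Set.univ) :
    Nonempty (openSub X A ≅ X) := by
  have hAo : IsOpen A := by rw [hA]; exact isOpen_univ
  obtain ⟨e, -⟩ := exists_iso_of_openImm_of_range_eq (openSubι X A) (repWith_isOpenImmersion_openSubι A hAo) (𝟙 X)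
    (Groth.Agent.Lib.Helper17.repWith_of_isIso @IsOpenImmersion (𝟙 X)) (by
      rw [range_map_openSubι, hA]
      symm
      exact Set.range_eq_univ.2 fun x => ⟨x, Points.map_id x⟩)
  exact ⟨e⟩

/-- An open subspace of a quasi-separated sheaf is quasi-separated. -/
theorem isQuasiSeparatedSp_of_openImm {U X : Sp S} (j : U ⟶ X) (hj : RepWith @IsOpenImmersion j)
    (hX : IsQuasiSeparatedSp X) : IsQuasiSeparatedSp U := by
  have hm : Mono j := mono_of_repWith_isOpenImmersion j hj
  have hiso : IsIso (pullback.diagonal j) := inferInstance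
  have hqsm : IsQuasiSeparatedMor j :=
    Groth.Agent.Lib.Helper17.repWith_of_isIso @QuasiCompact (pullback.diagonal j)
  exact isQuasiSeparatedSp_of_isQuasiSeparatedMor j hqsm hX

/-- The inverse image of the schematic locus under an affine morphism lies in the schematic locus. -/
theorem mem_schLocus_of_isAffineMor {X Y : Sp S} (hX : IsAlgSpace X) (hY : IsAlgSpace Y) (f : X ⟶ Y)
    (hf : IsAffineMor f) (x : Points X) (hx : Points.map f x ∈ SchLocus.schLocus Y) :
    x ∈ SchLocus.schLocus X := by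
  obtain ⟨M, m, hm, t, ht⟩ := hx
  have hrep : RepWith @IsAffineHom f := repWith_isAffineHom_of_isAffineMor hX hY f hf
  obtain ⟨M', snd, fst, sq⟩ := hrep.rep m
  have hfst : RepWith @IsOpenImmersion fst := (RepWith @IsOpenImmersion).of_isPullback sq.flip hm
  obtain ⟨v, hv, -⟩ := exists_point_of_isPullback_yon sq x t ht.symm
  exact ⟨M', fst, hfst, v, hv⟩

/-- Every point of a limit which is a scheme maps to the schematic locus of some stage. -/
theorem exists_stage_mem_schLocus [QuasiSeparatedSpace ↥S] {I : Type u} [SmallCategory I] [IsCofiltered I]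
    (D : I ⥤ Sp S) (hD : ∀ i, IsAlgSpace (D.obj i)) (hDa : ∀ (i j : I) (φ : i ⟶ j), IsAffineMor (D.map φ))
    (hqs : ∀ i, IsQuasiSeparatedSp (D.obj i)) (c : Cone D) (hc : IsLimit c)
    {T : Over S} (e : (yon S).obj T ≅ c.pt) (x : Points c.pt) :
    ∃ i, Points.map (coneπ c i) x ∈ SchLocus.schLocus (D.obj i) := by
  have hes : RepWith @Surjective e.hom := Groth.Agent.Lib.Helper17.repWith_of_isIso @Surjective e.hom
  obtain ⟨t, ht⟩ := ofPt_surjective_of_surjective e.hom hes x
  obtain ⟨_, ⟨(O : T.left.Opens), hO, rfl⟩, htO, -⟩ :=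
    T.left.isBasis_affineOpens.exists_subset_of_mem_open (Set.mem_univ t) isOpen_univ
  have hOaff : IsAffine (overOpen T O).left := hO
  have hOc : CompactSpace ↥(overOpen T O).left := compactSpace_overOpen O hO.isCompact
  obtain ⟨j, hjdef⟩ : ∃ j : (yon S).obj (overOpen T O) ⟶ c.pt, j = (yon S).map (overOpenι T O) ≫ e.hom :=
    ⟨_, rfl⟩
  have hj : RepWith @IsOpenImmersion j := by
    rw [hjdef]
    refine (MorphismProperty.cancel_right_of_respectsIso (RepWith @IsOpenImmersion) _ e.hom).2 ?_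
    refine (repWith_yon_map_iff @IsOpenImmersion (overOpenι T O)).2 ?_
    change IsOpenImmersion O.ι
    infer_instance
  have hU : IsQuasiCompactSp ((yon S).obj (overOpen T O)) := isQuasiCompactSp_yon_of_compactSpace _
  obtain ⟨i₁, A₁, hA₁, hqcA₁, hrange⟩ := exists_qc_open_stage S D hD hDa hqs c hc _ j hj hU
  have hxj : x ∈ Set.range (Points.map j) := by
    rw [SchLocus.range_map_yon]
    obtain ⟨w, hw⟩ : ∃ w : ↥(overOpen T O).left, O.ι w = t := by
      have h1 : t ∈ Set.range O.ι := by rw [Scheme.Opens.range_ι]; exact htO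
      exact h1
    refine ⟨w, ?_⟩
    rw [hjdef, ofPt_restrict, hw, ht]
  -- the restricted system
  obtain ⟨hlim⟩ := restrCone_isLimit D i₁ A₁ c hA₁ hc
  obtain ⟨ε, -⟩ := exists_iso_of_openImm_of_range_eq j hj (openSubι c.pt (Points.map (coneπ c i₁) ⁻¹' A₁))
    (repWith_isOpenImmersion_openSubι _ (hA₁.preimage (Points.continuous_map _)))
    (by rw [range_map_openSubι]; exact hrange)
  have hqs' : ∀ k : Over i₁, IsQuasiSeparatedSp ((restrFunctor D i₁ A₁ hA₁).obj k) := fun k =>
    isQuasiSeparatedSp_of_openImm _ (repWith_openSubι_stage D i₁ A₁ hA₁ k) (hqs k.left)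
  obtain ⟨k, T', hT', ⟨ε'⟩⟩ := main10006 S (restrFunctor D i₁ A₁ hA₁) (restr_isAlgSpace D i₁ A₁ hD hA₁)
    (restr_isAffineMor D i₁ A₁ hDa hA₁) (restr_isQuasiCompactSp D i₁ A₁ hD hDa hA₁ hqcA₁) hqs'
    (restrCone D i₁ A₁ c hA₁) hlim (overOpen T O) hOaff ε
  refine ⟨k.left, ?_⟩
  have ε'' : openSub (D.obj k.left) (stageSet D i₁ A₁ k) ≅ (yon S).obj T' := ε'.symm
  have hsub : stageSet D i₁ A₁ k ⊆ SchLocus.schLocus (D.obj k.left) := by
    have h := SchLocus.range_map_subset_schLocus (openSubι (D.obj k.left) (stageSet D i₁ A₁ k))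
      (repWith_openSubι_stage D i₁ A₁ hA₁ k) (SchLocus.isRepresentable_of_iso ε'')
    rwa [range_map_openSubι] at h
  apply hsub
  have hw : coneπ c k.left ≫ D.map k.hom = coneπ c i₁ := coneπ_w c k.hom
  show Points.map (D.map k.hom) (Points.map (coneπ c k.left) x) ∈ A₁
  rw [← Points.map_comp, hw]
  have h2 : x ∈ Points.map (coneπ c i₁) ⁻¹' A₁ := by rw [← hrange]; exact hxj
  exact h2

theorem main10007 (S : Scheme.{u}) [QuasiSeparatedSpace S] {I : Type u} [SmallCategory I] [IsCofiltered I]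
    (D : I ⥤ AlgSp.Sp S) (hD : ∀ i, AlgSp.IsAlgSpace (D.obj i))
    (hDa : ∀ (i j : I) (φ : i ⟶ j), AlgSp.IsAffineMor (D.map φ))
    (hqc : ∀ i, AlgSp.IsQuasiCompactSp (D.obj i)) (hqs : ∀ i, AlgSp.IsQuasiSeparatedSp (D.obj i))
    (c : Cone D) (hc : IsLimit c)
    (hX : c.pt.obj.IsRepresentable) : ∃ i, (D.obj i).obj.IsRepresentable := by
  obtain ⟨T, ⟨e⟩⟩ := SchLocus.exists_iso_yon_of_isRepresentable hX
  obtain ⟨i₀⟩ := IsCofiltered.nonempty (C := I)
  have hcalg : IsAlgSpace c.pt := (main10004 S D hD hDa c hc).1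
  have hcqc : IsQuasiCompactSp c.pt :=
    isQuasiCompactSp_of_isAffineMor hcalg (hD i₀) (c.π.app i₀) ((main10004 S D hD hDa c hc).2 i₀) (hqc i₀)
  have hcomp : CompactSpace (Points c.pt) := compactSpace_points_of_isQuasiCompactSp hcqc
  -- monotonicity
  have hmono : ∀ {i i' : I} (φ : i' ⟶ i) (x : Points c.pt),
      Points.map (coneπ c i) x ∈ SchLocus.schLocus (D.obj i) →
      Points.map (coneπ c i') x ∈ SchLocus.schLocus (D.obj i') := by
    intro i i' φ x hx
    apply mem_schLocus_of_isAffineMor (hD i') (hD i) (D.map φ) (hDa _ _ φ)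
    have hw : coneπ c i' ≫ D.map φ = coneπ c i := coneπ_w c φ
    rw [← Points.map_comp, hw]
    exact hx
  -- a stage whose schematic locus contains the image of the limit
  obtain ⟨i₁, hi₁⟩ : ∃ i₁, ∀ x : Points c.pt, Points.map (coneπ c i₁) x ∈ SchLocus.schLocus (D.obj i₁) := by
    have hcov := fun x => exists_stage_mem_schLocus D hD hDa hqs c hc e x
    obtain ⟨t, ht⟩ := isCompact_univ.elim_finite_subcover
      (fun i => Points.map (coneπ c i) ⁻¹' SchLocus.schLocus (D.obj i))
      (fun i => (SchLocus.isOpen_schLocus (D.obj i)).preimage (Points.continuous_map _))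
      (fun x _ => by
        obtain ⟨i, hi⟩ := hcov x
        exact Set.mem_iUnion.2 ⟨i, hi⟩)
    obtain ⟨i₁, hi₁⟩ := IsCofiltered.inf_objs_exists t
    refine ⟨i₁, fun x => ?_⟩
    obtain ⟨i, hit, hx⟩ := Set.mem_iUnion₂.1 (ht (Set.mem_univ x))
    obtain ⟨φ⟩ := hi₁ hit
    exact hmono φ x hx
  -- a quasi-compact open inside the schematic locus containing the image
  have hK : IsCompact (Set.range (Points.map (coneπ c i₁))) := isCompact_range (Points.continuous_map _)
  obtain ⟨V, a, O, hae, hOc, hKO, hOA⟩ := exists_compact_open_chart (hD i₁) _ (SchLocus.schLocus (D.obj i₁)) hK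
    (SchLocus.isOpen_schLocus _) (by rintro _ ⟨x, rfl⟩; exact hi₁ x)
  obtain ⟨B, hBo, hBqc, hKB, hBA⟩ : ∃ B : Set (Points (D.obj i₁)), IsOpen B ∧
      IsQuasiCompactSp (openSub (D.obj i₁) B) ∧ Set.range (Points.map (coneπ c i₁)) ⊆ B ∧
      B ⊆ SchLocus.schLocus (D.obj i₁) :=
    ⟨_, isOpenMap_ofPt_of_etale a hae _ O.isOpen, isQuasiCompactSp_openSub_image a hae O hOc, hKO, hOA⟩
  have hBι : RepWith @IsOpenImmersion (openSubι (D.obj i₁) B) := repWith_isOpenImmersion_openSubι B hBo
  -- the base change to the limit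
  obtain ⟨Binf, hBinf⟩ : ∃ Binf : Set (Points c.pt), Binf = Points.map (coneπ c i₁) ⁻¹' B := ⟨_, rfl⟩
  have hBinfo : IsOpen Binf := by rw [hBinf]; exact hBo.preimage (Points.continuous_map _)
  have hBinfuniv : Binf = Set.univ := by
    rw [hBinf]
    exact Set.eq_univ_of_forall fun x => hKB ⟨x, rfl⟩
  obtain ⟨q, sqq⟩ := exists_isPullback_of_openImm_of_range_eq (openSubι (D.obj i₁) B) hBι (openSubι c.pt Binf)
    (repWith_isOpenImmersion_openSubι Binf hBinfo) (coneπ c i₁) (by
      rw [range_map_openSubι, range_map_openSubι]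
      exact hBinf)
  have hsurj : IsSurjectiveMor (openSubι c.pt Binf) :=
    Set.range_eq_univ.1 ((range_map_openSubι Binf).trans hBinfuniv)
  have hlfp : LocP @LocallyOfFinitePresentation (openSubι (D.obj i₁) B) :=
    locP_of_repWith_etale etLocalST_locallyOfFinitePresentation (isAlgSpace_openSub (hD i₁) B hBo) (hD i₁) _
      (repWith_mono SchLocus.isOpenImmersion_le_etale _ hBι)
  have hY : IsPullback (coneπ c i₁) (𝟙 c.pt) (𝟙 (D.obj i₁)) (coneπ c i₁) :=
    IsPullback.of_vert_isIso ⟨by rw [Category.comp_id, Category.id_comp]⟩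
  obtain ⟨i₂, φ, H⟩ := main10015 S D hD hDa c hc i₁ ⟨openSub (D.obj i₁) B, isAlgSpace_openSub (hD i₁) B hBo⟩
    ⟨D.obj i₁, hD i₁⟩ (openSubι (D.obj i₁) B) (𝟙 (D.obj i₁)) hBqc (hqc i₁) (hqs i₁) (openSub c.pt Binf) c.pt
    (openSubι c.pt Binf) (coneπ c i₁) (𝟙 c.pt) hY q sqq.flip hsurj hlfp
  refine ⟨i₂, ?_⟩
  obtain ⟨B₂, hB₂⟩ : ∃ B₂ : Set (Points (D.obj i₂)), B₂ = Points.map (D.map φ) ⁻¹' B := ⟨_, rfl⟩
  have hB₂o : IsOpen B₂ := by rw [hB₂]; exact hBo.preimage (Points.continuous_map _)
  obtain ⟨q₂, sq₂⟩ := exists_isPullback_of_openImm_of_range_eq (openSubι (D.obj i₁) B) hBι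
    (openSubι (D.obj i₂) B₂) (repWith_isOpenImmersion_openSubι B₂ hB₂o) (D.map φ) (by
      rw [range_map_openSubι, range_map_openSubι]
      exact hB₂)
  have hY₂ : IsPullback (D.map φ) (𝟙 (D.obj i₂)) (𝟙 (D.obj i₁)) (D.map φ) :=
    IsPullback.of_vert_isIso ⟨by rw [Category.comp_id, Category.id_comp]⟩
  have hsurj₂ : IsSurjectiveMor (openSubι (D.obj i₂) B₂) := H _ _ _ (D.map φ) (𝟙 _) hY₂ q₂ sq₂.flip
  have hB₂univ : B₂ = Set.univ := (range_map_openSubι B₂).symm.trans (Set.range_eq_univ.2 hsurj₂)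
  have hsch : SchLocus.schLocus (D.obj i₂) = Set.univ := by
    refine Set.eq_univ_of_forall fun y => ?_
    apply mem_schLocus_of_isAffineMor (hD i₂) (hD i₁) (D.map φ) (hDa _ _ φ)
    apply hBA
    have hy : y ∈ B₂ := by rw [hB₂univ]; exact Set.mem_univ y
    rw [hB₂] at hy
    exact hy
  obtain ⟨Mg, ⟨eg⟩⟩ := SchLocus.exists_iso_yon_openSub_schLocus (hD i₂)
  obtain ⟨eu⟩ := exists_iso_openSub_of_eq_univ (SchLocus.schLocus (D.obj i₂)) hsch
  exact SchLocus.isRepresentable_of_iso (eu.symm ≪≫ eg.symm)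

end Groth.Agent.Lib.Helper6.LimSp
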