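import Mathlib

/-!
# A local Noetherian ring of characteristic zero with enough derivations is a domain

Let `R` be a Noetherian local ring with a coefficient field `K` of characteristic zero
(`ι : K → R`, `ev : R → K`, `ev ∘ ι = id`).  If every point derivation `φ : R → K` lifts to an
additive Leibniz map `D : R → R` with `ev ∘ D = φ`, then `R` is a domain.
-/

set_option autoImplicit false

namespace Groth.Agent.Lib.Helper6.CartierAlg

open IsLocalRing

section Basic

variable {R : Type*} [CommRing R]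

lemma der_pow (D : R →+ R) (hD : ∀ a b, D (a * b) = a * D b + b * D a) (x : R) (k : ℕ) :
    D (x ^ (k + 1)) = ((k + 1 : ℕ) : R) * x ^ k * D x := by
  induction k with
  | zero => simp
  | succ k ih =>
    rw [pow_succ' x (k + 1), hD, ih]
    push_cast
    ring

lemma krull [IsLocalRing R] [IsNoetherianRing R] (I : Ideal R) (x : R)
    (hx : x ∈ maximalIdeal R) (y : R) (hy : ∀ k : ℕ, y ∈ I ⊔ Ideal.span {x ^ k}) : y ∈ I := by
  have h := Ideal.iInf_pow_smul_eq_bot_of_isLocalRing (M := R ⧸ I) (maximalIdeal R)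
    Ideal.IsPrime.ne_top'
  have hmem : (Ideal.Quotient.mk I y) ∈
      (⨅ i : ℕ, (maximalIdeal R) ^ i • ⊤ : Submodule R (R ⧸ I)) := by
    rw [Submodule.mem_iInf]
    intro k
    obtain ⟨i, hi, z, hz, hyz⟩ := Submodule.mem_sup.mp (hy k)
    obtain ⟨c, rfl⟩ := Ideal.mem_span_singleton'.mp hz
    have h1 : Ideal.Quotient.mk I y = (x ^ k) • (Ideal.Quotient.mk I c) := by
      rw [← hyz, map_add, Ideal.Quotient.eq_zero_iff_mem.mpr hi, zero_add, Algebra.smul_def,
        Ideal.Quotient.algebraMap_eq, ← map_mul, mul_comm]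
    rw [h1]
    exact Submodule.smul_mem_smul (Ideal.pow_mem_pow hx k) Submodule.mem_top
  rw [h] at hmem
  exact Ideal.Quotient.eq_zero_iff_mem.mp ((Submodule.mem_bot _).mp hmem)

/-- If `D` is a derivation preserving `I` with `D x` a unit (and positive integers are units),
then `x` is a nonzerodivisor modulo `I`. -/
lemma mem_of_mul_mem [IsLocalRing R] [IsNoetherianRing R]
    (hn : ∀ n : ℕ, IsUnit ((n + 1 : ℕ) : R)) (I : Ideal R) (D : R →+ R)
    (hD : ∀ a b, D (a * b) = a * D b + b * D a) (hDI : ∀ a ∈ I, D a ∈ I)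
    (x : R) (hx : x ∈ maximalIdeal R) (hu : IsUnit (D x)) (y : R) (hxy : x * y ∈ I) :
    y ∈ I := by
  refine krull I x hx y fun k => ?_
  induction k with
  | zero => simp
  | succ k ih =>
    obtain ⟨i, hi, z', hz', hyz⟩ := Submodule.mem_sup.mp ih
    obtain ⟨z, rfl⟩ := Ideal.mem_span_singleton'.mp hz'
    have h1 : z * x ^ (k + 1) ∈ I := by
      have h2 : x * y = x * i + z * x ^ (k + 1) := by rw [← hyz]; ring
      rw [h2] at hxy
      exact (Ideal.add_mem_iff_right _ (I.mul_mem_left x hi)).mp hxy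
    have h3 : D (z * x ^ (k + 1)) ∈ I := hDI _ h1
    rw [hD, der_pow D hD] at h3
    set w : R := ((k + 1 : ℕ) : R) * D x with hw
    have hwu : IsUnit w := (hn k).mul hu
    set J : Ideal R := I ⊔ Ideal.span {x ^ (k + 1)} with hJ
    have h4 : z * x ^ k * w ∈ J := by
      have h5 : z * x ^ k * w = (z * (((k + 1 : ℕ) : R) * x ^ k * D x) + x ^ (k + 1) * D z)
          - x ^ (k + 1) * D z := by rw [hw]; ring
      rw [h5]
      refine J.sub_mem (le_sup_left (a := I) h3) (le_sup_right (a := I) ?_)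
      exact Ideal.mul_mem_right _ _ (Ideal.subset_span rfl)
    obtain ⟨w', hw'⟩ := hwu.exists_right_inv
    have h6 : z * x ^ k ∈ J := by
      have h7 : z * x ^ k = (z * x ^ k * w) * w' := by rw [mul_assoc, hw', mul_one]
      rw [h7]
      exact J.mul_mem_right _ h4
    rw [← hyz]
    exact J.add_mem (le_sup_left (a := I) hi) h6

lemma mem_of_pow_mul_mem (I : Ideal R) (x : R) (hreg : ∀ y, x * y ∈ I → y ∈ I) (n : ℕ) (y : R)
    (h : x ^ n * y ∈ I) : y ∈ I := by
  induction n with
  | zero => simpa using h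
  | succ n ih =>
    apply ih
    apply hreg
    rw [← mul_assoc, ← pow_succ']
    exact h

/-- Order decomposition: an element outside `I` is, modulo `I`, a power of `x` times an element
outside `I + (x)`. -/
lemma exists_order [IsLocalRing R] [IsNoetherianRing R] (I : Ideal R) (x : R)
    (hx : x ∈ maximalIdeal R) (a : R) (ha : a ∉ I) :
    ∃ (k : ℕ) (a' : R), a - a' * x ^ k ∈ I ∧ a' ∉ I ⊔ Ideal.span {x} := by
  classical
  have hex : ∃ k : ℕ, a ∉ I ⊔ Ideal.span {x ^ k} := by
    by_contra hcon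
    push Not at hcon
    exact ha (krull I x hx a hcon)
  have hk0 : Nat.find hex ≠ 0 := by
    intro h0
    have := Nat.find_spec hex
    rw [h0] at this
    apply this
    simp
  obtain ⟨j, hj⟩ := Nat.exists_eq_succ_of_ne_zero hk0
  have hjmem : a ∈ I ⊔ Ideal.span {x ^ j} := by
    by_contra hcon
    have := Nat.find_min' hex hcon
    omega
  obtain ⟨i, hi, z', hz', hyz⟩ := Submodule.mem_sup.mp hjmem
  obtain ⟨a', rfl⟩ := Ideal.mem_span_singleton'.mp hz'
  refine ⟨j, a', ?_, ?_⟩
  · have : a - a' * x ^ j = i := by rw [← hyz]; ring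
    rw [this]; exact hi
  · intro hmem
    obtain ⟨i', hi', z'', hz'', hyz'⟩ := Submodule.mem_sup.mp hmem
    obtain ⟨c, rfl⟩ := Ideal.mem_span_singleton'.mp hz''
    have hbad := Nat.find_spec hex
    rw [hj] at hbad
    apply hbad
    have h8 : a = (i + i' * x ^ j) + c * x ^ (j + 1) := by
      rw [← hyz, ← hyz']; ring
    rw [h8]
    refine Ideal.add_mem _ (le_sup_left (a := I) (I.add_mem hi (I.mul_mem_right _ hi')))
      (le_sup_right (a := I) ?_)
    exact Ideal.mul_mem_left _ _ (Ideal.subset_span rfl)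

lemma isPrime_of_sup_span [IsLocalRing R] [IsNoetherianRing R] (I : Ideal R) (x : R)
    (hx : x ∈ maximalIdeal R) (hreg : ∀ y, x * y ∈ I → y ∈ I)
    (hJ : (I ⊔ Ideal.span {x}).IsPrime) : I.IsPrime := by
  refine ⟨fun htop => hJ.ne_top (by rw [htop]; simp), ?_⟩
  intro a b hab
  by_contra hcon
  push Not at hcon
  obtain ⟨j, a', haI, ha'⟩ := exists_order I x hx a hcon.1
  obtain ⟨l, b', hbI, hb'⟩ := exists_order I x hx b hcon.2
  have h1 : x ^ (j + l) * (a' * b') ∈ I := by
    have h2 : x ^ (j + l) * (a' * b') = a * b - ((a - a' * x ^ j) * b + a' * x ^ j * (b - b' * x ^ l)) := by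
      ring
    rw [h2]
    exact I.sub_mem hab (I.add_mem (I.mul_mem_right _ haI) (I.mul_mem_left _ hbI))
  have h3 : a' * b' ∈ I := mem_of_pow_mul_mem I x hreg _ _ h1
  rcases hJ.mem_or_mem (le_sup_left (a := I) h3) with h | h
  · exact ha' h
  · exact hb' h

end Basic

section Main

variable {K R : Type*} [Field K] [CommRing R] [IsLocalRing R] [IsNoetherianRing R]
  (ι : K →+* R) (ev : R →+* K)

/-- `I` is good if every point derivation vanishing on `I` lifts to a derivation preserving `I`. -/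
def Good (I : Ideal R) : Prop :=
  ∀ φ : R →+ K, (∀ a b, φ (a * b) = ev a * φ b + ev b * φ a) → (∀ c, φ (ι c) = 0) →
    (∀ a ∈ I, φ a = 0) →
    ∃ D : R →+ R, (∀ a b, D (a * b) = a * D b + b * D a) ∧ (∀ a ∈ I, D a ∈ I) ∧
      ∀ a, ev (D a) = φ a

variable {ι ev}

lemma ker_ev (hev : ∀ c, ev (ι c) = c) : RingHom.ker ev = maximalIdeal R := by
  have hsurj : Function.Surjective ev := fun c => ⟨ι c, hev c⟩
  have : (RingHom.ker ev).IsMaximal := RingHom.ker_isMaximal_of_surjective ev hsurj
  exact IsLocalRing.eq_maximalIdeal this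

/-- Existence of a point derivation vanishing on `I` with value `1` at a given `x ∈ 𝔪`
outside `I + 𝔪²`. -/
lemma exists_pointDer (hev : ∀ c, ev (ι c) = c) (I : Ideal R) (x : R)
    (hxm : x ∈ maximalIdeal R) (hx : x ∉ I ⊔ maximalIdeal R * maximalIdeal R) :
    ∃ φ : R →+ K, (∀ a b, φ (a * b) = ev a * φ b + ev b * φ a) ∧ (∀ c, φ (ι c) = 0) ∧
      (∀ a ∈ I, a ∈ maximalIdeal R → φ a = 0) ∧ φ x = 1 := by
  classical
  have hker := ker_ev hev
  set N : Ideal R := I ⊔ maximalIdeal R * maximalIdeal R with hN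
  letI : Algebra K (R ⧸ N) := ((Ideal.Quotient.mk N).comp ι).toAlgebra
  have halg : ∀ c : K, algebraMap K (R ⧸ N) c = Ideal.Quotient.mk N (ι c) := fun c => rfl
  have hw : Ideal.Quotient.mk N x ≠ 0 := fun h => hx (Ideal.Quotient.eq_zero_iff_mem.mp h)
  obtain ⟨ℓ, hℓ⟩ : ∃ ℓ : Module.Dual K (R ⧸ N), ℓ (Ideal.Quotient.mk N x) ≠ 0 := by
    by_contra hcon
    push Not at hcon
    exact hw ((Module.forall_dual_apply_eq_zero_iff K _).mp hcon)
  set t : K := (ℓ (Ideal.Quotient.mk N x))⁻¹ with ht
  let φ : R →+ K := AddMonoidHom.mk' (fun a => t * ℓ (Ideal.Quotient.mk N (a - ι (ev a))))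
    (fun a b => by
      rw [← mul_add, ← map_add, ← map_add]
      congr 3
      simp only [map_add]; ring)
  have hφ : ∀ a, φ a = t * ℓ (Ideal.Quotient.mk N (a - ι (ev a))) := fun a => rfl
  have hm : ∀ a : R, a - ι (ev a) ∈ maximalIdeal R := by
    intro a
    rw [← hker, RingHom.mem_ker, map_sub, hev, sub_self]
  refine ⟨φ, ?_, ?_, ?_, ?_⟩
  · intro a b
    have h1 : a * b - ι (ev (a * b)) = ι (ev a) * (b - ι (ev b)) + ι (ev b) * (a - ι (ev a))
        + (a - ι (ev a)) * (b - ι (ev b)) := by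
      rw [map_mul, map_mul]; ring
    have h2 : Ideal.Quotient.mk N ((a - ι (ev a)) * (b - ι (ev b))) = 0 :=
      Ideal.Quotient.eq_zero_iff_mem.mpr
        (le_sup_right (a := I) (Ideal.mul_mem_mul (hm a) (hm b)))
    have h3 : ∀ (c : K) (r : R), ℓ (Ideal.Quotient.mk N (ι c * r)) = c * ℓ (Ideal.Quotient.mk N r) := by
      intro c r
      rw [map_mul, ← halg, ← Algebra.smul_def, map_smul, smul_eq_mul]
    rw [hφ, hφ, hφ, h1]
    simp only [map_add]
    rw [h2, map_zero, add_zero, h3, h3]
    ring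
  · intro c
    rw [hφ, hev, sub_self, map_zero, map_zero, mul_zero]
  · intro a haI ham
    have h0 : ev a = 0 := by rw [← RingHom.mem_ker, hker]; exact ham
    rw [hφ, h0, map_zero, sub_zero, Ideal.Quotient.eq_zero_iff_mem.mpr (le_sup_left (a := I) haI),
      map_zero, mul_zero]
  · have h0 : ev x = 0 := by rw [← RingHom.mem_ker, hker]; exact hxm
    rw [hφ, h0, map_zero, sub_zero, ht]
    exact inv_mul_cancel₀ hℓ

theorem isPrime_of_good [CharZero K] (hev : ∀ c, ev (ι c) = c) (I : Ideal R) :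
    I ≤ maximalIdeal R → Good ι ev I → I.IsPrime := by
  have hker := ker_ev hev
  have hn : ∀ n : ℕ, IsUnit ((n + 1 : ℕ) : R) := by
    intro n
    have h1 : ((n + 1 : ℕ) : R) = ι ((n + 1 : ℕ) : K) := (map_natCast ι _).symm
    rw [h1]
    exact (isUnit_iff_ne_zero.mpr (Nat.cast_ne_zero.mpr (Nat.succ_ne_zero n))).map ι
  induction I using WellFoundedGT.induction with
  | ind I IH =>
    intro hIm hgood
    by_cases hI : I = maximalIdeal R
    · rw [hI]; exact (maximalIdeal.isMaximal R).isPrime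
    · -- choose `x ∈ 𝔪` outside `I + 𝔪²`
      obtain ⟨x, hxm, hxN⟩ : ∃ x ∈ maximalIdeal R, x ∉ I ⊔ maximalIdeal R * maximalIdeal R := by
        by_contra hcon
        push Not at hcon
        apply hI
        refine le_antisymm hIm ?_
        refine Submodule.le_of_le_smul_of_le_jacobson_bot (I := maximalIdeal R)
          (N := I) (N' := maximalIdeal R) (IsNoetherian.noetherian _)
          (maximalIdeal_le_jacobson _) ?_
        intro y hy
        have := hcon y hy
        rwa [smul_eq_mul]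
      have hxI : x ∉ I := fun h => hxN (le_sup_left (a := I) h)
      obtain ⟨φ, hφL, hφι, hφI, hφx⟩ := exists_pointDer hev I x hxm hxN
      obtain ⟨Dx, hDxL, hDxI, hDxφ⟩ := hgood φ hφL hφι (fun a ha => hφI a ha (hIm ha))
      have hu : IsUnit (Dx x) := by
        rw [← IsLocalRing.notMem_maximalIdeal, ← hker, RingHom.mem_ker, hDxφ, hφx]
        exact one_ne_zero
      have hreg : ∀ y, x * y ∈ I → y ∈ I := mem_of_mul_mem hn I Dx hDxL hDxI x hxm hu
      set J : Ideal R := I ⊔ Ideal.span {x} with hJ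
      have hxJ : x ∈ J := le_sup_right (a := I) (Ideal.subset_span rfl)
      have hIJ : I < J := lt_of_le_of_ne le_sup_left (fun h => hxI (h ▸ hxJ))
      have hJm : J ≤ maximalIdeal R :=
        sup_le hIm ((Ideal.span_singleton_le_iff_mem _).mpr hxm)
      have hJgood : Good ι ev J := by
        intro ψ hψL hψι hψJ
        obtain ⟨D, hDL, hDI, hDψ⟩ := hgood ψ hψL hψι (fun a ha => hψJ a (hIJ.le ha))
        set c : R := D x * ↑(hu.unit⁻¹) with hc
        let D' : R →+ R := D - (AddMonoidHom.mulLeft c).comp Dx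
        have hD' : ∀ a, D' a = D a - c * Dx a := fun a => rfl
        have hD'x : D' x = 0 := by
          rw [hD', hc, mul_assoc, IsUnit.val_inv_mul, mul_one, sub_self]
        have hevc : ev c = 0 := by
          rw [hc, map_mul, hDψ, hψJ x hxJ, zero_mul]
        have hD'L : ∀ a b, D' (a * b) = a * D' b + b * D' a := by
          intro a b
          rw [hD', hD', hD', hDL, hDxL]; ring
        have hD'I : ∀ a ∈ I, D' a ∈ I := by
          intro a ha
          rw [hD']
          exact I.sub_mem (hDI a ha) (I.mul_mem_left _ (hDxI a ha))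
        refine ⟨D', hD'L, ?_, ?_⟩
        · intro a ha
          obtain ⟨i, hi, z', hz', hyz⟩ := Submodule.mem_sup.mp ha
          obtain ⟨r, rfl⟩ := Ideal.mem_span_singleton'.mp hz'
          rw [← hyz, map_add, hD'L, hD'x, mul_zero, zero_add]
          exact J.add_mem (le_sup_left (a := I) (hD'I i hi)) (J.mul_mem_right _ hxJ)
        · intro a
          rw [hD', map_sub, map_mul, hevc, zero_mul, sub_zero, hDψ]
      have hJprime : J.IsPrime := IH J hIJ hJm hJgood
      exact isPrime_of_sup_span I x hxm hreg hJprime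

/-- **Main algebraic theorem.** -/
theorem isDomain_of_derivations [CharZero K] (hev : ∀ c, ev (ι c) = c)
    (H : ∀ φ : R →+ K, (∀ a b, φ (a * b) = ev a * φ b + ev b * φ a) → (∀ c, φ (ι c) = 0) →
      ∃ D : R →+ R, (∀ a b, D (a * b) = a * D b + b * D a) ∧ ∀ a, ev (D a) = φ a) :
    IsDomain R := by
  have hgood : Good ι ev (⊥ : Ideal R) := by
    intro φ hφL hφι _
    obtain ⟨D, hDL, hDφ⟩ := H φ hφL hφι
    refine ⟨D, hDL, ?_, hDφ⟩
    intro a ha
    rw [(Submodule.mem_bot R).mp ha, map_zero]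
    exact Submodule.zero_mem _
  have hprime : (⊥ : Ideal R).IsPrime := isPrime_of_good hev ⊥ bot_le hgood
  exact IsDomain.of_bot_isPrime R

end Main

end Groth.Agent.Lib.Helper6.CartierAlg
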