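import Mathlib
import Groth.Agent.Lib.Helper6.CartierAlg

/-!
# The local ring at the unit of a group scheme over a field of characteristic zero is a domain

For a group scheme `G` over a field `K`, the stalk `R` at the unit point is a local `K`-algebra with
residue field `K`.  Using the test ring `R[ε]` and the group law on `G(R[ε])` we lift every point
derivation `R → K` to a derivation `R → R`.
-/

set_option autoImplicit false
universe u

namespace Groth.Agent.Lib.Helper6.CartierStalk

section DualNumbers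

variable {A B : Type*} [CommRing A] [CommRing B]

/-- `fst` as a ring hom. -/
def fstH (A : Type*) [CommRing A] : DualNumber A →+* A := (TrivSqZeroExt.fstHom A A A).toRingHom

@[simp] lemma fstH_apply (x : DualNumber A) : fstH A x = x.fst := rfl

instance isLocalHom_fstH : IsLocalHom (fstH A) :=
  ⟨fun _ hx => TrivSqZeroExt.isUnit_iff_isUnit_fst.mpr hx⟩

theorem isLocalRing_dualNumber [IsLocalRing A] : IsLocalRing (DualNumber A) :=
  RingHom.domain_isLocalRing (fstH A)

/-- Ring hom into dual numbers from a ring hom and a derivation along it. -/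
def mkH (f : A →+* B) (d : A →+ B) (hd : ∀ a b, d (a * b) = f a * d b + f b * d a) :
    A →+* DualNumber B where
  toFun a := TrivSqZeroExt.inl (f a) + TrivSqZeroExt.inr (d a)
  map_one' := by
    have h1 : d 1 = 0 := by
      have := hd 1 1
      rw [mul_one, map_one f, one_mul] at this
      linear_combination -this
    refine TrivSqZeroExt.ext (by simp) (by simp [h1])
  map_mul' a b := by
    refine TrivSqZeroExt.ext (by simp) ?_
    simp [hd]
    try ring
  map_zero' := by
    refine TrivSqZeroExt.ext (by simp) (by simp)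
  map_add' a b := by
    refine TrivSqZeroExt.ext (by simp) (by simp)

@[simp] lemma fst_mkH (f : A →+* B) (d : A →+ B) (hd) (a : A) : (mkH f d hd a).fst = f a := by
  simp [mkH]

@[simp] lemma snd_mkH (f : A →+* B) (d : A →+ B) (hd) (a : A) : (mkH f d hd a).snd = d a := by
  simp [mkH]

/-- Apply a ring hom to both components. -/
def mapH (f : A →+* B) : DualNumber A →+* DualNumber B where
  toFun x := TrivSqZeroExt.inl (f x.fst) + TrivSqZeroExt.inr (f x.snd)
  map_one' := by
    refine TrivSqZeroExt.ext (by simp) (by simp)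
  map_mul' a b := by
    refine TrivSqZeroExt.ext (by simp) ?_
    simp
    try ring
  map_zero' := by
    refine TrivSqZeroExt.ext (by simp) (by simp)
  map_add' a b := by
    refine TrivSqZeroExt.ext (by simp) (by simp)

@[simp] lemma fst_mapH (f : A →+* B) (x : DualNumber A) : (mapH f x).fst = f x.fst := by
  simp [mapH]

@[simp] lemma snd_mapH (f : A →+* B) (x : DualNumber A) : (mapH f x).snd = f x.snd := by
  simp [mapH]

end DualNumbers

open CategoryTheory CategoryTheory.Limits MonoidalCategory CartesianMonoidalCategory MonObj GrpObj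
  AlgebraicGeometry IsLocalRing

section General

lemma exists_stalk_hom {X : Scheme.{u}} (x : X) {A : CommRingCat.{u}} [IsLocalRing A]
    (f : Spec A ⟶ X) (hf : f (closedPoint A) = x) :
    ∃ φ : X.presheaf.stalk x ⟶ A, Spec.map φ ≫ X.fromSpecStalk x = f := by
  subst hf
  exact ⟨Scheme.stalkClosedPointTo f, Scheme.Spec_stalkClosedPointTo_fromSpecStalk f⟩

lemma stalk_hom_ext {X : Scheme.{u}} (x : X) {A : CommRingCat.{u}}
    (φ ψ : X.presheaf.stalk x ⟶ A)
    (h : Spec.map φ ≫ X.fromSpecStalk x = Spec.map ψ ≫ X.fromSpecStalk x) : φ = ψ :=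
  Spec.map_injective ((cancel_mono _).mp h)

end General

section Group

variable {K : Type u} [Field K] (G : Over (Spec (CommRingCat.of K))) [GrpObj G]

/-- The unit section. -/
noncomputable def e : Spec (CommRingCat.of K) ⟶ G.left := (η[G]).left

lemma e_hom : e G ≫ G.hom = 𝟙 _ := by
  have := Over.w η[G]
  simpa [e] using this

/-- The unit point. -/
noncomputable def x0 : G.left := (e G) (closedPoint (CommRingCat.of K))

/-- The local ring at the unit point. -/
noncomputable abbrev R : CommRingCat.{u} := G.left.presheaf.stalk (x0 G)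

/-- The structure map `K → R`. -/
noncomputable def sm : CommRingCat.of K ⟶ R G :=
  Spec.preimage (G.left.fromSpecStalk (x0 G) ≫ G.hom)

lemma map_sm : Spec.map (sm G) = G.left.fromSpecStalk (x0 G) ≫ G.hom := Spec.map_preimage _

/-- Evaluation at the unit point. -/
noncomputable def ev : R G ⟶ CommRingCat.of K := Scheme.stalkClosedPointTo (e G)

lemma map_ev : Spec.map (ev G) ≫ G.left.fromSpecStalk (x0 G) = e G :=
  Scheme.Spec_stalkClosedPointTo_fromSpecStalk _

lemma sm_ev : sm G ≫ ev G = 𝟙 _ := by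
  apply Spec.map_injective
  rw [Spec.map_comp, map_sm, ← Category.assoc, map_ev, e_hom, Spec.map_id]

lemma ev_sm_apply (c : K) : (ev G).hom ((sm G).hom c) = c := by
  have := congrArg (fun f => f.hom c) (sm_ev G)
  simpa using this

/-- Test object attached to a ring hom out of the stalk. -/
noncomputable def T {A : CommRingCat.{u}} (ψ : R G ⟶ A) : Over (Spec (CommRingCat.of K)) :=
  Over.mk (Spec.map (sm G ≫ ψ))

/-- A point of `G` with values in a test object. -/
noncomputable def pt {A : CommRingCat.{u}} (ψ₀ ψ : R G ⟶ A) (h : sm G ≫ ψ = sm G ≫ ψ₀) :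
    T G ψ₀ ⟶ G :=
  Over.homMk (Spec.map ψ ≫ G.left.fromSpecStalk (x0 G)) (by
    simp only [T, Over.mk_hom, Category.assoc]
    rw [← map_sm, ← Spec.map_comp, h])

@[simp] lemma pt_left {A : CommRingCat.{u}} (ψ₀ ψ : R G ⟶ A) (h : sm G ≫ ψ = sm G ≫ ψ₀) :
    (pt G ψ₀ ψ h).left = Spec.map ψ ≫ G.left.fromSpecStalk (x0 G) := rfl

/-- Base change of test objects. -/
noncomputable def tr {A B : CommRingCat.{u}} (ψ₀ : R G ⟶ A) (θ : A ⟶ B) :
    T G (ψ₀ ≫ θ) ⟶ T G ψ₀ :=
  Over.homMk (Spec.map θ) (by
    simp only [T, Over.mk_hom]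
    rw [← Spec.map_comp, Category.assoc])

@[simp] lemma tr_left {A B : CommRingCat.{u}} (ψ₀ : R G ⟶ A) (θ : A ⟶ B) :
    (tr G ψ₀ θ).left = Spec.map θ := rfl

lemma tr_pt {A B : CommRingCat.{u}} (ψ₀ ψ : R G ⟶ A) (h : sm G ≫ ψ = sm G ≫ ψ₀) (θ : A ⟶ B) :
    tr G ψ₀ θ ≫ pt G ψ₀ ψ h = pt G (ψ₀ ≫ θ) (ψ ≫ θ)
      (by rw [← Category.assoc, h, Category.assoc]) := by
  ext
  simp only [Over.comp_left, tr_left, pt_left, Spec.map_comp, Category.assoc]
  rfl

lemma one_eq {A : CommRingCat.{u}} (ψ₀ ψ : R G ⟶ A) (hψ : ψ = ev G ≫ sm G ≫ ψ₀) :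
    (1 : T G ψ₀ ⟶ G) = pt G ψ₀ ψ (by
      rw [hψ, ← Category.assoc, ← Category.assoc, sm_ev, Category.id_comp]) := by
  subst hψ
  ext
  change (toUnit (T G ψ₀) ≫ η[G]).left = _
  rw [Over.comp_left, Over.toUnit_left, pt_left, Spec.map_comp, Spec.map_comp, Category.assoc,
    Category.assoc, map_ev]
  simp only [T, Over.mk_hom, Spec.map_comp, Category.assoc]
  rfl

end Group

section Main

variable {K : Type u} [Field K] (G : Over (Spec (CommRingCat.of K))) [GrpObj G]

/-- Dual numbers over the stalk at the unit. -/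
noncomputable abbrev A : CommRingCat.{u} := CommRingCat.of (DualNumber (R G : Type u))

instance instIsLocalRingA : IsLocalRing (A G) := isLocalRing_dualNumber

/-- `r ↦ r + 0 ε`. -/
noncomputable def inlA : R G ⟶ A G :=
  CommRingCat.ofHom (TrivSqZeroExt.inlHom (R G : Type u) (R G : Type u))

/-- `ε ↦ 0`. -/
noncomputable def fstA : A G ⟶ R G := CommRingCat.ofHom (fstH (R G : Type u))

lemma inlA_apply (r : (R G : Type u)) : (inlA G).hom r = TrivSqZeroExt.inl r := rfl

lemma fstA_apply (x : (A G : Type u)) : (fstA G).hom x = TrivSqZeroExt.fst x := rfl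

lemma inlA_fstA : inlA G ≫ fstA G = 𝟙 _ := by
  ext r
  rfl

theorem exists_derivation (φ : (R G : Type u) →+ K)
    (hφL : ∀ a b, φ (a * b) = (ev G).hom a * φ b + (ev G).hom b * φ a)
    (hφs : ∀ c, φ ((sm G).hom c) = 0) :
    ∃ D : (R G : Type u) →+ (R G : Type u), (∀ a b, D (a * b) = a * D b + b * D a) ∧
      ∀ a, (ev G).hom (D a) = φ a := by
  -- the two points
  let dβ : (R G : Type u) →+ (R G : Type u) := (sm G).hom.toAddMonoidHom.comp φ
  have hdβapp : ∀ r, dβ r = (sm G).hom (φ r) := fun r => rfl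
  have hdβ : ∀ a b, dβ (a * b) = ((sm G).hom.comp (ev G).hom) a * dβ b
      + ((sm G).hom.comp (ev G).hom) b * dβ a := by
    intro a b
    simp only [hdβapp, RingHom.comp_apply, hφL, map_add, map_mul]
  let β : R G ⟶ A G := CommRingCat.ofHom (mkH ((sm G).hom.comp (ev G).hom) dβ hdβ)
  have hβapp : ∀ r, β.hom r = mkH ((sm G).hom.comp (ev G).hom) dβ hdβ r := fun r => rfl
  have hβ : sm G ≫ β = sm G ≫ inlA G := by
    ext c
    · simp only [CommRingCat.hom_comp, RingHom.comp_apply, hβapp, fst_mkH]
      rw [ev_sm_apply, inlA_apply, TrivSqZeroExt.fst_inl]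
    · simp only [CommRingCat.hom_comp, RingHom.comp_apply, hβapp, snd_mkH, hdβapp, hφs, map_zero]
      rw [inlA_apply, TrivSqZeroExt.snd_inl]
  let a : T G (inlA G) ⟶ G := pt G (inlA G) (inlA G) rfl
  let b : T G (inlA G) ⟶ G := pt G (inlA G) β hβ
  let c : T G (inlA G) ⟶ G := a * b
  let cl : Spec (A G) ⟶ G.left := c.left
  -- restriction to ε = 0
  have hβfst : β ≫ fstA G = ev G ≫ sm G ≫ (inlA G ≫ fstA G) := by
    rw [inlA_fstA, Category.comp_id]
    ext r
    simp only [CommRingCat.hom_comp, RingHom.comp_apply, hβapp]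
    rw [fstA_apply, fst_mkH, RingHom.comp_apply]
  have h1 : tr G (inlA G) (fstA G) ≫ c = pt G (inlA G ≫ fstA G) (inlA G ≫ fstA G) rfl := by
    change tr G (inlA G) (fstA G) ≫ (a * b) = _
    rw [MonObj.comp_mul, tr_pt, tr_pt, ← one_eq G (inlA G ≫ fstA G) (β ≫ fstA G) hβfst,
      _root_.mul_one]
  have h1' : Spec.map (fstA G) ≫ cl = G.left.fromSpecStalk (x0 G) := by
    have := congrArg (fun f => f.left) h1
    simp only [Over.comp_left, tr_left, pt_left] at this
    rw [inlA_fstA, Spec.map_id, Category.id_comp] at this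
    exact this
  -- closed point
  have hcl : cl (closedPoint (A G)) = x0 G := by
    have : IsLocalHom (fstA G).hom := isLocalHom_fstH
    have h2 : closedPoint (A G) = Spec.map (fstA G) (closedPoint (R G)) := (Spec_closedPoint).symm
    rw [h2, ← Scheme.Hom.comp_apply, h1', Scheme.fromSpecStalk_closedPoint]
  obtain ⟨Φ, hΦ⟩ := exists_stalk_hom (x0 G) cl hcl
  have hP1 : Φ ≫ fstA G = 𝟙 _ := by
    apply stalk_hom_ext
    rw [Spec.map_comp, Category.assoc, hΦ, h1', Spec.map_id, Category.id_comp]
  -- evaluation at the unit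
  let evε : A G ⟶ CommRingCat.of (DualNumber K) := CommRingCat.ofHom (mapH (ev G).hom)
  have hevεapp : ∀ x, evε.hom x = mapH (ev G).hom x := fun x => rfl
  have hinl_ev : inlA G ≫ evε = ev G ≫ sm G ≫ (inlA G ≫ evε) := by
    ext r
    · simp only [CommRingCat.hom_comp, RingHom.comp_apply, hevεapp, fst_mapH]
      rw [inlA_apply, inlA_apply, TrivSqZeroExt.fst_inl, TrivSqZeroExt.fst_inl, ev_sm_apply]
    · simp only [CommRingCat.hom_comp, RingHom.comp_apply, hevεapp, snd_mapH]
      rw [inlA_apply, inlA_apply, TrivSqZeroExt.snd_inl, TrivSqZeroExt.snd_inl]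
  have h2 : tr G (inlA G) evε ≫ c = pt G (inlA G ≫ evε) (β ≫ evε)
      (by rw [← Category.assoc, hβ, Category.assoc]) := by
    change tr G (inlA G) evε ≫ (a * b) = _
    rw [MonObj.comp_mul, tr_pt, tr_pt, ← one_eq G (inlA G ≫ evε) (inlA G ≫ evε) hinl_ev,
      _root_.one_mul]
  have h2' : Φ ≫ evε = β ≫ evε := by
    apply stalk_hom_ext
    have := congrArg (fun f => f.left) h2
    simp only [Over.comp_left, tr_left, pt_left] at this
    rw [Spec.map_comp, Category.assoc, hΦ]
    exact this
  have hfst : ∀ r, TrivSqZeroExt.fst (Φ.hom r) = r := by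
    intro r
    have := congrArg (fun f => f.hom r) hP1
    simp only [CommRingCat.hom_comp, RingHom.comp_apply] at this
    rw [fstA_apply] at this
    exact this
  have hev2 : ∀ r, (ev G).hom (TrivSqZeroExt.snd (Φ.hom r)) = φ r := by
    intro r
    have := congrArg (fun f => TrivSqZeroExt.snd (f.hom r)) h2'
    simp only [CommRingCat.hom_comp, RingHom.comp_apply, hevεapp, snd_mapH, hβapp, snd_mkH,
      hdβapp] at this
    rw [ev_sm_apply] at this
    exact this
  refine ⟨AddMonoidHom.mk' (fun r => TrivSqZeroExt.snd (Φ.hom r)) (fun r s => by simp), ?_, ?_⟩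
  · intro r s
    change TrivSqZeroExt.snd (Φ.hom (r * s)) =
      r * TrivSqZeroExt.snd (Φ.hom s) + s * TrivSqZeroExt.snd (Φ.hom r)
    rw [map_mul, TrivSqZeroExt.snd_mul, hfst, hfst]
    simp [mul_comm]
  · exact hev2

/-- The local ring at the unit of a locally Noetherian group scheme over a field of characteristic
zero is a domain. -/
theorem isDomain_stalk_unit [CharZero K] [IsLocallyNoetherian G.left] :
    IsDomain (R G : Type u) :=
  CartierAlg.isDomain_of_derivations (ev_sm_apply G) (exists_derivation G)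

end Main

end Groth.Agent.Lib.Helper6.CartierStalk
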