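import Mathlib
import Groth.Agent.Lib.Helper6.CartierStalk

/-!
# Cartier's theorem: group schemes locally of finite type over a field of characteristic zero
are reduced, geometrically reduced, and smooth.
-/

set_option autoImplicit false
universe u
open CategoryTheory CategoryTheory.Limits MonoidalCategory CartesianMonoidalCategory MonObj GrpObj
  AlgebraicGeometry IsLocalRing

namespace Groth.Agent.Lib.Helper6.CartierReduced

section Jacobson

/-- Reducedness of a Jacobson scheme can be checked on the stalks at closed points. -/
theorem isReduced_of_closedPoints (X : Scheme.{u}) [JacobsonSpace X]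
    (H : ∀ y : X, IsClosed {y} → _root_.IsReduced (X.presheaf.stalk y)) : IsReduced X := by
  have hall : ∀ x : X, _root_.IsReduced (X.presheaf.stalk x) := by
    intro x
    refine ⟨fun s hs => ?_⟩
    obtain ⟨n, hn⟩ := hs
    obtain ⟨U, hxU, b, rfl⟩ := X.presheaf.exists_germ_eq s
    have h0 : X.presheaf.germ U x hxU (b ^ n) = X.presheaf.germ U x hxU 0 := by
      rw [map_pow, hn, map_zero]
    obtain ⟨W, hxW, iU, iV, hW⟩ := X.presheaf.germ_eq x hxU hxU (b ^ n) 0 h0
    set b' := X.presheaf.map iU.op b with hb'
    have hb'n : b' ^ n = 0 := by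
      rw [hb', ← map_pow, hW, map_zero]
    have hgerm : X.presheaf.germ U x hxU b = X.presheaf.germ W x hxW b' :=
      (X.presheaf.germ_res_apply iU x hxW b).symm
    rw [hgerm]
    let V : Set X := {z | ∃ h : z ∈ W, X.presheaf.germ W z h b' = 0}
    have hV : IsOpen V := by
      rw [isOpen_iff_forall_mem_open]
      rintro z ⟨hzW, hz⟩
      have hz0 : X.presheaf.germ W z hzW b' = X.presheaf.germ W z hzW 0 := by
        rw [hz, map_zero]
      obtain ⟨W', hzW', i1, i2, hW'⟩ := X.presheaf.germ_eq z hzW hzW b' 0 hz0
      refine ⟨W', ?_, W'.isOpen, hzW'⟩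
      intro z' hz'
      refine ⟨i1.le hz', ?_⟩
      rw [← X.presheaf.germ_res_apply i1 z' hz' b', hW', map_zero, map_zero]
    by_contra hne
    have hZ : IsLocallyClosed ((W : Set X) ∩ Vᶜ) :=
      W.isOpen.isLocallyClosed.inter hV.isClosed_compl.isLocallyClosed
    have hZne : ((W : Set X) ∩ Vᶜ).Nonempty := ⟨x, hxW, fun ⟨_, hz⟩ => hne hz⟩
    obtain ⟨y, ⟨hyW, hyV⟩, hyc⟩ := nonempty_inter_closedPoints hZne hZ
    have hred := H y hyc
    apply hyV
    refine ⟨hyW, ?_⟩
    have hnil : IsNilpotent (X.presheaf.germ W y hyW b') :=
      ⟨n, by rw [← map_pow, hb'n, map_zero]⟩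
    exact hnil.eq_zero
  exact isReduced_of_isReduced_stalk X

end Jacobson

section Translate

variable {K : Type u} [Field K] (G : Over (Spec (CommRingCat.of K))) [GrpObj G]

/-- Translation by a rational point: an automorphism of the underlying scheme sending the unit
point to a prescribed closed point. -/
lemma exists_iso_apply_x0 [IsAlgClosed K] [LocallyOfFiniteType G.hom] (y : G.left)
    (hy : IsClosed {y}) : ∃ τ : G.left ≅ G.left, τ.hom (CartierStalk.x0 G) = y := by
  let y' : 𝟙_ (Over (Spec (CommRingCat.of K))) ⟶ G :=
    Over.homMk (pointOfClosedPoint G.hom y hy) (pointOfClosedPoint_comp G.hom y hy)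
  let α := GrpObj.mulRight y'
  have hη : (η[G] : 𝟙_ _ ⟶ G) = 1 := by
    change (η[G] : 𝟙_ _ ⟶ G) = toUnit _ ≫ η[G]
    rw [toUnit_unit, Category.id_comp]
  have hα : η[G] ≫ α.hom = y' := by
    have h1 : η[G] ≫ α.hom = lift η[G] y' ≫ μ[G] := by simp [α, comp_lift_assoc]
    rw [h1]
    change (η[G] : 𝟙_ _ ⟶ G) * y' = y'
    rw [hη, _root_.one_mul]
  refine ⟨(Over.forget _).mapIso α, ?_⟩
  have := congrArg (fun f => f.left (closedPoint (CommRingCat.of K))) hα
  simpa [CartierStalk.x0, CartierStalk.e, y'] using this

theorem isReduced_of_isAlgClosed [IsAlgClosed K] [CharZero K] [LocallyOfFiniteType G.hom] :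
    IsReduced G.left := by
  have : JacobsonSpace G.left := LocallyOfFiniteType.jacobsonSpace G.hom
  have : IsLocallyNoetherian G.left := LocallyOfFiniteType.isLocallyNoetherian G.hom
  have hdom : IsDomain (CartierStalk.R G : Type u) := CartierStalk.isDomain_stalk_unit G
  refine isReduced_of_closedPoints G.left fun y hy => ?_
  obtain ⟨τ, rfl⟩ := exists_iso_apply_x0 G y hy
  have hinj : Function.Injective (τ.hom.stalkMap (CartierStalk.x0 G)).hom :=
    ((ConcreteCategory.isIso_iff_bijective _).mp inferInstance).1
  exact isReduced_of_injective _ hinj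

end Translate

section Descent

variable {K : Type u} [Field K] {X : Scheme.{u}}

/-- A group scheme locally of finite type over a field of characteristic zero is reduced. -/
theorem isReduced_of_charZero (f : X ⟶ Spec (CommRingCat.of K))
    [LocallyOfFiniteType f] [GrpObj (Over.mk f)] [CharZero K] : IsReduced X := by
  let Ω : Type u := AlgebraicClosure K
  let g : Spec (.of Ω) ⟶ Spec (.of K) := Spec.map (CommRingCat.ofHom <| algebraMap K Ω)
  letI : GrpObj (Over.mk (pullback.snd f g)) := Over.grpObjMkPullbackSnd
  have : LocallyOfFiniteType (Over.mk (pullback.snd f g)).hom :=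
    inferInstanceAs (LocallyOfFiniteType (pullback.snd f g))
  have hred : IsReduced (pullback f g) := isReduced_of_isAlgClosed (Over.mk (pullback.snd f g))
  have : Flat f := inferInstance
  have : Surjective g := inferInstance
  have : IsDominant g := inferInstance
  have : IsSchemeTheoreticallyDominant g := .of_isDominant _
  have : QuasiCompact g := inferInstance
  exact IsSchemeTheoreticallyDominant.isReduced (pullback.fst f g)

/-- A group scheme locally of finite type over a field of characteristic zero is geometrically
reduced. -/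
theorem geometricallyReduced_of_charZero (f : X ⟶ Spec (CommRingCat.of K))
    [LocallyOfFiniteType f] [GrpObj (Over.mk f)] [CharZero K] : GeometricallyReduced f := by
  rw [geometricallyReduced_iff, geometrically_iff_of_commRing_of_isClosedUnderIsomorphisms]
  intro L _ _
  letI : GrpObj (Over.mk (pullback.snd f (Spec.map (CommRingCat.ofHom (algebraMap K L))))) :=
    Over.grpObjMkPullbackSnd
  have : CharZero L := charZero_of_injective_algebraMap (algebraMap K L).injective
  exact isReduced_of_charZero (pullback.snd f (Spec.map (CommRingCat.ofHom (algebraMap K L))))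

/-- **Cartier's theorem.** A group scheme locally of finite type over a field of characteristic
zero is smooth. -/
theorem smooth_of_charZero (f : X ⟶ Spec (CommRingCat.of K))
    [LocallyOfFiniteType f] [GrpObj (Over.mk f)] [CharZero K] : Smooth f := by
  have := geometricallyReduced_of_charZero f
  exact smooth_of_grpObj f

end Descent

end Groth.Agent.Lib.Helper6.CartierReduced
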