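import Mathlib

/-!
# Base change of exterior powers (helper6)
-/

set_option autoImplicit false

namespace Groth.Agent.Lib.Helper6.ExtBC

open TensorProduct

universe u

variable {A B : Type u} [CommRing A] [CommRing B] [Algebra A B]
  {M N : Type u} [AddCommGroup M] [Module A M] [AddCommGroup N] [Module B N] [Module A N]
  [IsScalarTower A B N]

/-- the alternating map `m ↦ κ m₁ ∧ ⋯ ∧ κ m_p`. -/
noncomputable def altκ (κ : M →ₗ[A] N) (p : ℕ) : M [⋀^Fin p]→ₗ[A] ↥(⋀[B]^p N) :=
  { ((exteriorPower.ιMulti B p (M := N)).toMultilinearMap.restrictScalars A).compLinearMap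
      (fun _ => κ) with
    map_eq_zero_of_eq' := fun v i j hv hij =>
      (exteriorPower.ιMulti B p (M := N)).map_eq_zero_of_eq (fun i => κ (v i))
        (by simp only [hv]) hij }

lemma altκ_apply (κ : M →ₗ[A] N) (p : ℕ) (m : Fin p → M) :
    altκ (B := B) κ p m = exteriorPower.ιMulti B p (fun i => κ (m i)) := rfl

/-- the map on exterior powers induced by a map of modules over a map of rings. -/
noncomputable def extMap (κ : M →ₗ[A] N) (p : ℕ) : ↥(⋀[A]^p M) →ₗ[A] ↥(⋀[B]^p N) :=
  exteriorPower.alternatingMapLinearEquiv (altκ κ p)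

lemma extMap_ιMulti (κ : M →ₗ[A] N) (p : ℕ) (m : Fin p → M) :
    extMap (B := B) κ p (exteriorPower.ιMulti A p m) = exteriorPower.ιMulti B p (fun i => κ (m i)) := by
  unfold extMap
  rw [exteriorPower.alternatingMapLinearEquiv_apply_ιMulti]
  rfl

variable (A B M) in
/-- the big algebra `B ⊗ ⋀ M`. -/
abbrev T : Type u := B ⊗[A] ExteriorAlgebra A M

variable {κ : M →ₗ[A] N} (h : IsBaseChange B κ)

/-- the map `N → B ⊗ ⋀ M`. -/
noncomputable def jmap : N →ₗ[B] T A B M :=
  h.lift ((TensorProduct.mk A B (ExteriorAlgebra A M) 1) ∘ₗ (ExteriorAlgebra.ι A))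

lemma jmap_κ (m : M) : jmap h (κ m) = (1 : B) ⊗ₜ[A] ExteriorAlgebra.ι A m := by
  unfold jmap
  rw [IsBaseChange.lift_eq]
  rfl

lemma jmap_anticomm (n n' : N) : jmap h n * jmap h n' + jmap h n' * jmap h n = 0 := by
  refine h.inductionOn n (fun n => jmap h n * jmap h n' + jmap h n' * jmap h n = 0) ?_ ?_ ?_ ?_
  · simp
  · intro m
    refine h.inductionOn n'
      (fun n' => jmap h (κ m) * jmap h n' + jmap h n' * jmap h (κ m) = 0) ?_ ?_ ?_ ?_
    · simp
    · intro m'
      rw [jmap_κ, jmap_κ, Algebra.TensorProduct.tmul_mul_tmul, Algebra.TensorProduct.tmul_mul_tmul,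
        ← TensorProduct.tmul_add, ExteriorAlgebra.ι_add_mul_swap, TensorProduct.tmul_zero]
    · intro b n₁ h1
      rw [map_smul, mul_smul_comm, smul_mul_assoc, ← smul_add, h1, smul_zero]
    · intro n₁ n₂ h1 h2
      rw [map_add, mul_add, add_mul, add_add_add_comm, h1, h2, add_zero]
  · intro b n₁ h1
    rw [map_smul, mul_smul_comm, smul_mul_assoc, ← smul_add, h1, smul_zero]
  · intro n₁ n₂ h1 h2
    rw [map_add, mul_add, add_mul, add_add_add_comm, h1, h2, add_zero]

lemma jmap_sq (n : N) : jmap h n * jmap h n = 0 := by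
  refine h.inductionOn n (fun n => jmap h n * jmap h n = 0) ?_ ?_ ?_ ?_
  · simp
  · intro m
    rw [jmap_κ, Algebra.TensorProduct.tmul_mul_tmul, ExteriorAlgebra.ι_sq_zero,
      TensorProduct.tmul_zero]
  · intro b n₁ h1
    rw [map_smul, mul_smul_comm, smul_mul_assoc, h1, smul_zero, smul_zero]
  · intro n₁ n₂ h1 h2
    rw [map_add, mul_add, add_mul, add_mul, h1, h2, zero_add, add_zero, add_comm,
      jmap_anticomm]

/-- the algebra map `⋀_B N → B ⊗ ⋀_A M`. -/
noncomputable def Fmap : ExteriorAlgebra B N →ₐ[B] T A B M :=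
  ExteriorAlgebra.lift B ⟨jmap h, jmap_sq h⟩

lemma Fmap_ι (n : N) : Fmap h (ExteriorAlgebra.ι B n) = jmap h n := by
  unfold Fmap
  exact ExteriorAlgebra.lift_ι_apply B (jmap h) (jmap_sq h) n

lemma Fmap_ιMulti (p : ℕ) (m : Fin p → M) :
    Fmap h (ExteriorAlgebra.ιMulti B p (fun i => κ (m i))) =
      (1 : B) ⊗ₜ[A] ExteriorAlgebra.ιMulti A p m := by
  rw [ExteriorAlgebra.ιMulti_apply, ExteriorAlgebra.ιMulti_apply, map_list_prod, List.map_ofFn]
  have h1 : (⇑(Fmap h) ∘ fun i => ExteriorAlgebra.ι B (κ (m i))) =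
      fun i => (Algebra.TensorProduct.includeRight : ExteriorAlgebra A M →ₐ[A] T A B M)
        (ExteriorAlgebra.ι A (m i)) := by
    funext i
    rw [Function.comp_apply, Fmap_ι, jmap_κ]
    rfl
  rw [h1]
  have h2 := map_list_prod
    (Algebra.TensorProduct.includeRight : ExteriorAlgebra A M →ₐ[A] T A B M)
    (List.ofFn fun i => ExteriorAlgebra.ι A (m i))
  rw [List.map_ofFn] at h2
  exact h2.symm

variable (A M) in
/-- the grading of the exterior algebra. -/
def gr : ℕ → Submodule A (ExteriorAlgebra A M) := fun i => ⋀[A]^i M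

noncomputable instance : DirectSum.Decomposition (gr A M) :=
  (ExteriorAlgebra.gradedAlgebra A M).toDecomposition

variable (A M) in
/-- the projection onto the degree `p` part. -/
noncomputable def projp (p : ℕ) : ExteriorAlgebra A M →ₗ[A] ↥(⋀[A]^p M) :=
  (DirectSum.component A ℕ (fun i => ↥(gr A M i)) p) ∘ₗ
    (DirectSum.decomposeLinearEquiv (gr A M)).toLinearMap

lemma projp_ιMulti (p : ℕ) (m : Fin p → M) :
    projp A M p (ExteriorAlgebra.ιMulti A p m) = exteriorPower.ιMulti A p m := by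
  apply Subtype.ext
  have hx : (ExteriorAlgebra.ιMulti A p m) ∈ gr A M p := (exteriorPower.ιMulti A p m).2
  exact DirectSum.decompose_of_mem_same (gr A M) hx

include h in
theorem isBaseChange_extMap (p : ℕ) : IsBaseChange B (extMap (B := B) κ p) := by
  apply IsBaseChange.of_lift_unique
  intro Q _ _ _ _ g
  let g' : ↥(⋀[B]^p N) →ₗ[B] Q :=
    (g.liftBaseChange B) ∘ₗ ((projp A M p).baseChange B) ∘ₗ (Fmap h).toLinearMap ∘ₗ
      (⋀[B]^p N).subtype
  have hg' : ∀ m : Fin p → M, g' (exteriorPower.ιMulti B p (fun i => κ (m i))) =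
      g (exteriorPower.ιMulti A p m) := by
    intro m
    change (g.liftBaseChange B) (((projp A M p).baseChange B)
      (Fmap h (ExteriorAlgebra.ιMulti B p (fun i => κ (m i))))) = _
    rw [Fmap_ιMulti, LinearMap.baseChange_tmul, projp_ιMulti, LinearMap.liftBaseChange_tmul,
      one_smul]
  refine ⟨g', ?_, ?_⟩
  · change (g'.restrictScalars A) ∘ₗ extMap κ p = g
    apply LinearMap.ext_on (exteriorPower.ιMulti_span A p M)
    rintro _ ⟨m, rfl⟩
    change g' (extMap κ p (exteriorPower.ιMulti A p m)) = g (exteriorPower.ιMulti A p m)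
    rw [extMap_ιMulti, hg']
  · intro g'' hg''
    change (g''.restrictScalars A) ∘ₗ extMap κ p = g at hg''
    have hspan : Submodule.span B (Set.range κ) = ⊤ := by
      rw [eq_top_iff]
      intro n _
      refine h.inductionOn n (fun n => n ∈ Submodule.span B (Set.range κ)) (zero_mem _)
        (fun m => Submodule.subset_span ⟨m, rfl⟩) (fun b n hn => Submodule.smul_mem _ b hn)
        (fun n₁ n₂ h1 h2 => add_mem h1 h2)
    have h3 := exteriorPower.ιMulti_span_of_span B p N hspan
    apply LinearMap.ext_on h3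
    rintro _ ⟨a, ha, rfl⟩
    have ha' : ∀ i, ∃ m, κ m = a i := fun i => ha ⟨i, rfl⟩
    choose m hm using ha'
    have ham : a = fun i => κ (m i) := funext fun i => (hm i).symm
    rw [ham, hg']
    have h4 := LinearMap.congr_fun hg'' (exteriorPower.ιMulti A p m)
    rw [← h4]
    change g'' (exteriorPower.ιMulti B p fun i => κ (m i)) =
      g'' (extMap κ p (exteriorPower.ιMulti A p m))
    rw [extMap_ιMulti]

end Groth.Agent.Lib.Helper6.ExtBC
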