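import Mathlib
import Groth.Prelude
import Groth.Agent.Lib.Helper23.FBC5
import Groth.Agent.Lib.Helper3.PbBasic
import Groth.Agent.Lib.Helper7.TwFun

/-!
# Lemma Lc for helper27 (S1485): vanishing of `H^n(O)` on a fibre of a base change descends to the
fibre of the original morphism (flat base change along the residue field extension)  (helper6)
-/

set_option autoImplicit false
set_option linter.style.haveILetI false
universe u
open CategoryTheory CategoryTheory.Limits AlgebraicGeometry

namespace Groth.Agent.Lib.Helper6.H1FibLc

/-- (Lc) -/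
theorem subsingleton_HH_fiber_of_isPullback {X Y X' Y' : Scheme.{u}} (f : X ⟶ Y) [IsProper f]
    (g : Y' ⟶ Y) (f' : X' ⟶ Y') (g' : X' ⟶ X) (sq : IsPullback g' f' f g) (y' : Y') (n : ℕ)
    (H : Subsingleton (Coh.HH (f'.fiber y') (Coh.structureModule (f'.fiber y')) n)) :
    Subsingleton (Coh.HH (f.fiber (g y')) (Coh.structureModule (f.fiber (g y'))) n) := by
  letI : Algebra (Y.residueField (g y')) (Y'.residueField y') :=
    (g.residueFieldMap y').hom.toAlgebra
  letI : (f.fiber (g y')).Over (Spec (CommRingCat.of (Y.residueField (g y')))) :=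
    ⟨f.fiberToSpecResidueField (g y')⟩
  letI : (f'.fiber y').Over (Spec (CommRingCat.of (Y'.residueField y'))) :=
    ⟨f'.fiberToSpecResidueField y'⟩
  haveI : IsProper ((f.fiber (g y')) ↘ Spec (CommRingCat.of (Y.residueField (g y')))) := by
    show IsProper (pullback.snd f (Y.fromSpecResidueField (g y')))
    infer_instance
  have hpb := isPullback_fiberToSpecResidueField_of_isPullback sq y'
  have hiff := Groth.Agent.Lib.Helper23.FBC.subsingleton_iff_of_isProper
    (Y.residueField (g y')) (Y'.residueField y') (X := f.fiber (g y')) (X' := f'.fiber y') hpb n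
    (Coh.structureModule (f.fiber (g y')))
  apply hiff.mp
  exact Groth.Agent.Lib.Helper7.TwFun.subsingleton_HH_of_iso
    (Groth.Agent.Lib.Helper3.PbBasic.pbUnit _) n H

end Groth.Agent.Lib.Helper6.H1FibLc
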