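import Mathlib
import Groth.Prelude
import Groth.Agent.Lib.Helper7.TwFun

/-!
# Lemma Ld for helper27 (S1485): vanishing of `HHon X O U n` gives vanishing of `HH U O n` (helper6)
-/

set_option autoImplicit false
universe u
open CategoryTheory CategoryTheory.Limits AlgebraicGeometry

namespace Groth.Agent.Lib.Helper6.H1FibLd

/-- (Ld) -/
theorem subsingleton_HH_of_HHon {X : Scheme.{u}} (U : X.Opens) (n : ℕ)
    (H : Subsingleton (Coh.HHon X (Coh.structureModule X) U n)) :
    Subsingleton (Coh.HH (↑U : Scheme.{u}) (Coh.structureModule (↑U : Scheme.{u})) n) :=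
  Groth.Agent.Lib.Helper7.TwFun.subsingleton_HH_of_iso
    (Scheme.Modules.restrictUnitIso U.ι).symm n H

end Groth.Agent.Lib.Helper6.H1FibLd
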