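import Mathlib
import Groth.Agent.Lib.Helper6.FiberStalk

/-!
# Points of a scheme generizing `x` and primes of `𝒪_{X,x}`

`pt x q hq` is the point of `X` corresponding to the prime `q` of `𝒪_{X,x}`.
-/

set_option autoImplicit false

open CategoryTheory CategoryTheory.Limits AlgebraicGeometry

universe u

namespace Groth.Agent.Lib.Helper6.StalkPrimes

variable {X Y : Scheme.{u}}

/-- The point of `X` corresponding to a prime `q` of the local ring `𝒪_{X,x}`. -/
noncomputable def pt (x : X) (q : Ideal (X.presheaf.stalk x)) (hq : q.IsPrime) : X :=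
  (X.fromSpecStalk x) ⟨q, hq⟩

lemma pt_specializes (x : X) (q : Ideal (X.presheaf.stalk x)) (hq : q.IsPrime) : pt x q hq ⤳ x := by
  have : pt x q hq ∈ Set.range (X.fromSpecStalk x) := ⟨_, rfl⟩
  rw [Scheme.range_fromSpecStalk] at this
  exact this

lemma exists_eq_pt {x z : X} (h : z ⤳ x) :
    ∃ (q : Ideal (X.presheaf.stalk x)) (hq : q.IsPrime), z = pt x q hq := by
  have : z ∈ Set.range (X.fromSpecStalk x) := by
    rw [Scheme.range_fromSpecStalk]; exact h
  obtain ⟨Q, rfl⟩ := this
  exact ⟨Q.asIdeal, Q.isPrime, rfl⟩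

lemma pt_injective (x : X) {q q' : Ideal (X.presheaf.stalk x)} {hq : q.IsPrime} {hq' : q'.IsPrime}
    (h : pt x q hq = pt x q' hq') : q = q' :=
  congrArg PrimeSpectrum.asIdeal ((X.fromSpecStalk x).isEmbedding.injective h)

lemma pt_specializes_pt_iff (x : X) (q q' : Ideal (X.presheaf.stalk x)) (hq : q.IsPrime)
    (hq' : q'.IsPrime) : pt x q' hq' ⤳ pt x q hq ↔ q' ≤ q :=
  ((X.fromSpecStalk x).isEmbedding.isInducing.specializes_iff).trans
    (PrimeSpectrum.le_iff_specializes (⟨q', hq'⟩ : PrimeSpectrum (X.presheaf.stalk x))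
      ⟨q, hq⟩).symm

lemma pt_maximalIdeal (x : X) :
    pt x (IsLocalRing.maximalIdeal (X.presheaf.stalk x)) inferInstance = x :=
  Scheme.fromSpecStalk_closedPoint

lemma map_pt (f : X ⟶ Y) (x : X) (q : Ideal (X.presheaf.stalk x)) (hq : q.IsPrime) :
    f.base (pt x q hq) = pt (f.base x) (q.comap (f.stalkMap x).hom) (Ideal.comap_isPrime _ _) := by
  have h1 : (Spec.map (f.stalkMap x) ≫ Y.fromSpecStalk (f.base x)) ⟨q, hq⟩ =
      (X.fromSpecStalk x ≫ f) ⟨q, hq⟩ := by
    rw [Scheme.SpecMap_stalkMap_fromSpecStalk]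
  exact h1.symm

lemma map_pt_eq_iff (f : X ⟶ Y) (x : X) (q : Ideal (X.presheaf.stalk x)) (hq : q.IsPrime) :
    f.base (pt x q hq) = f.base x ↔ fiberIdeal f x ≤ q := by
  rw [map_pt]
  constructor
  · intro h
    have h2 : q.comap (f.stalkMap x).hom = IsLocalRing.maximalIdeal _ :=
      pt_injective (f.base x) (h.trans (pt_maximalIdeal (f.base x)).symm)
    exact Ideal.map_le_iff_le_comap.mpr h2.ge
  · intro h
    have h2 : IsLocalRing.maximalIdeal _ ≤ q.comap (f.stalkMap x).hom :=
      Ideal.map_le_iff_le_comap.mp h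
    have hp : (q.comap (f.stalkMap x).hom).IsPrime := Ideal.comap_isPrime _ _
    have h3 : q.comap (f.stalkMap x).hom = IsLocalRing.maximalIdeal _ :=
      le_antisymm (IsLocalRing.le_maximalIdeal hp.ne_top) h2
    have key : ∀ (p : Ideal (Y.presheaf.stalk (f.base x))) (hp : p.IsPrime),
        p = IsLocalRing.maximalIdeal _ → pt (f.base x) p hp = f.base x := by
      rintro p hp rfl
      exact pt_maximalIdeal (f.base x)
    exact key _ _ h3

lemma pt_Spec_asIdeal (R : CommRingCat.{u}) (y : Spec R) (p : Ideal ((Spec R).presheaf.stalk y))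
    (hp : p.IsPrime) :
    PrimeSpectrum.asIdeal (pt y p hp) = p.comap (StructureSheaf.toStalk R y).hom := by
  unfold pt
  rw [Spec.fromSpecStalk_eq']
  rfl

end Groth.Agent.Lib.Helper6.StalkPrimes
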