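import Mathlib
import Groth.Prelude.Def_EGA43
import Groth.Agent.Lib.Helper6.OpenDimSch
import Groth.Agent.Lib.Helper6.FiberStalkIso
import Groth.Agent.Lib.Helper6.StalkPrimes

/-!
# Flatness over a discrete valuation ring from openness at the generic points of the fibre
-/

set_option autoImplicit false

open CategoryTheory CategoryTheory.Limits AlgebraicGeometry

universe u

namespace Groth.Agent.Lib.Helper6.OpenFlatDVR

open Groth.Agent.Lib.Helper6 Groth.Agent.Lib.Helper6.StalkPrimes

/-- Let `B` be a Noetherian local ring, `π` in its maximal ideal with `B/π` reduced, such that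
every minimal prime over `π` contains a prime not containing `π`. Then `π` is a nonzerodivisor. -/
lemma eq_zero_of_mul_eq_zero {B : Type*} [CommRing B] [IsNoetherianRing B] [IsLocalRing B] (π : B)
    (hπ : π ∈ IsLocalRing.maximalIdeal B) (hred : IsReduced (B ⧸ Ideal.span {π}))
    (hgen : ∀ q ∈ (Ideal.span {π}).minimalPrimes, ∃ q' : Ideal B, q'.IsPrime ∧ q' ≤ q ∧ π ∉ q')
    (b : B) (hb : π * b = 0) : b = 0 := by
  have hrad : (Ideal.span {π}).IsRadical := (Ideal.isRadical_iff_quotient_reduced _).mpr hred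
  let T : Ideal B :=
    { carrier := {c | ∃ k : ℕ, π ^ k * c = 0}
      add_mem' := by
        rintro c₁ c₂ ⟨k₁, h₁⟩ ⟨k₂, h₂⟩
        refine ⟨k₁ + k₂, ?_⟩
        have e1 : π ^ (k₁ + k₂) * c₁ = π ^ k₂ * (π ^ k₁ * c₁) := by ring
        have e2 : π ^ (k₁ + k₂) * c₂ = π ^ k₁ * (π ^ k₂ * c₂) := by ring
        rw [mul_add, e1, e2, h₁, h₂, mul_zero, mul_zero, add_zero]
      zero_mem' := ⟨0, by simp⟩
      smul_mem' := by
        rintro r c ⟨k, hk⟩
        refine ⟨k, ?_⟩
        rw [smul_eq_mul, mul_left_comm, hk, mul_zero] }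
  have hT : T ≤ Ideal.span {π} • T := by
    intro c hc
    obtain ⟨k, hk⟩ := hc
    have hcrad : c ∈ Ideal.span {π} := by
      rw [← hrad.radical, ← Ideal.sInf_minimalPrimes, Ideal.mem_sInf]
      intro q hq
      obtain ⟨q', hq', hle, hπq'⟩ := hgen q hq
      have h0 : π ^ k * c ∈ q' := by rw [hk]; exact q'.zero_mem
      rcases hq'.mem_or_mem h0 with h1 | h1
      · exact absurd (hq'.mem_of_pow_mem k h1) hπq'
      · exact hle h1
    obtain ⟨c₁, rfl⟩ := Ideal.mem_span_singleton'.mp hcrad
    have hc₁ : c₁ ∈ T := ⟨k + 1, by rw [pow_succ, mul_assoc, mul_comm π c₁]; exact hk⟩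
    rw [mul_comm]
    exact Submodule.smul_mem_smul (Ideal.mem_span_singleton_self π) hc₁
  have hTbot : T = ⊥ :=
    Submodule.eq_bot_of_le_smul_of_le_jacobson_bot (Ideal.span {π}) T (IsNoetherian.noetherian T) hT
      (by
        rw [IsLocalRing.jacobson_eq_maximalIdeal ⊥ bot_ne_top]
        exact (Ideal.span_singleton_le_iff_mem _).mpr hπ)
  have hbT : b ∈ T := ⟨1, by rw [pow_one]; exact hb⟩
  rw [hTbot] at hbT
  exact (Submodule.mem_bot B).mp hbT

theorem flat_stalkMap_of_isOpenAt_of_reduced {A : Type u} [CommRing A] [IsDomain A]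
    [IsDiscreteValuationRing A] {X : Scheme.{u}} (f : X ⟶ Spec (CommRingCat.of A))
    [LocallyOfFiniteType f] (x : X)
    (hx : f.base x = IsLocalRing.closedPoint A)
    (h : ∀ z : ↥(f.fiber (f.base x)), f.asFiber x ∈ closure {z} →
      (∀ z' : ↥(f.fiber (f.base x)), z ∈ closure {z'} → z' = z) →
        EGA43.IsOpenAt f.base ((f.fiberι (f.base x)).base z))
    (hred : _root_.IsReduced ((f.fiber (f.base x)).presheaf.stalk (f.asFiber x))) :
    (f.stalkMap x).hom.Flat := by
  have hXn : IsLocallyNoetherian X := LocallyOfFiniteType.isLocallyNoetherian f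
  obtain ⟨ϖ, hirr⟩ := IsDiscreteValuationRing.exists_irreducible A
  let _ : Algebra A ((Spec (CommRingCat.of A)).presheaf.stalk (f.base x)) :=
    StructureSheaf.stalkAlgebra A (f.base x)
  have hprime : (PrimeSpectrum.asIdeal (f.base x)).IsPrime := PrimeSpectrum.isPrime (f.base x)
  have hloc : IsLocalization.AtPrime ((Spec (CommRingCat.of A)).presheaf.stalk (f.base x))
      (PrimeSpectrum.asIdeal (f.base x)) := StructureSheaf.IsLocalization.to_stalk A (f.base x)
  have hasI : PrimeSpectrum.asIdeal (f.base x) = IsLocalRing.maximalIdeal A :=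
    congrArg PrimeSpectrum.asIdeal hx
  -- the uniformizer in `𝒪_{X,x}`
  set π : X.presheaf.stalk x := (f.stalkMap x).hom
    (algebraMap A ((Spec (CommRingCat.of A)).presheaf.stalk (f.base x)) ϖ) with hπdef
  have hfib : fiberIdeal f x = Ideal.span {π} := by
    have h1 : IsLocalRing.maximalIdeal ((Spec (CommRingCat.of A)).presheaf.stalk (f.base x)) =
        (Ideal.span {ϖ}).map
          (algebraMap A ((Spec (CommRingCat.of A)).presheaf.stalk (f.base x))) := by
      rw [← hirr.maximalIdeal_eq, ← hasI]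
      exact (IsLocalization.AtPrime.map_eq_maximalIdeal (PrimeSpectrum.asIdeal (f.base x))
        ((Spec (CommRingCat.of A)).presheaf.stalk (f.base x))).symm
    unfold fiberIdeal
    rw [h1, Ideal.map_span, Ideal.map_span, Set.image_singleton, Set.image_singleton]
  have hπm : π ∈ IsLocalRing.maximalIdeal (X.presheaf.stalk x) :=
    fiberIdeal_le_maximalIdeal f x (hfib ▸ Ideal.mem_span_singleton_self π)
  -- reducedness
  have hredB : _root_.IsReduced (X.presheaf.stalk x ⧸ Ideal.span {π}) := by
    have e := fiberStalkEquiv f x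
    have : _root_.IsReduced (X.presheaf.stalk x ⧸ fiberIdeal f x) :=
      isReduced_of_injective e.symm.toRingHom e.symm.injective
    rw [hfib] at this
    exact this
  have hind : Topology.IsInducing (f.fiberι (f.base x)) :=
    (f.fiberι (f.base x)).isEmbedding.isInducing
  -- generic points
  have hgen : ∀ q ∈ (Ideal.span {π}).minimalPrimes,
      ∃ q' : Ideal (X.presheaf.stalk x), q'.IsPrime ∧ q' ≤ q ∧ π ∉ q' := by
    intro q hq
    have hqp : q.IsPrime := hq.1.1
    have hqle : fiberIdeal f x ≤ q := hfib ▸ hq.1.2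
    have hzX : f.base (pt x q hqp) = f.base x := (map_pt_eq_iff f x q hqp).mpr hqle
    have hzr : pt x q hqp ∈ Set.range (f.fiberι (f.base x)) := by
      rw [Scheme.Hom.range_fiberι]; exact hzX
    obtain ⟨z, hz⟩ := hzr
    have hz1 : f.asFiber x ∈ closure {z} := by
      rw [← specializes_iff_mem_closure, ← hind.specializes_iff, hz, f.fiberι_asFiber x]
      exact pt_specializes x q hqp
    have hz2 : ∀ z' : ↥(f.fiber (f.base x)), z ∈ closure {z'} → z' = z := by
      intro z' hz'
      rw [← specializes_iff_mem_closure, ← hind.specializes_iff, hz] at hz'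
      obtain ⟨q'', hq'', hz''⟩ := exists_eq_pt (hz'.trans (pt_specializes x q hqp))
      rw [hz''] at hz'
      have hle : q'' ≤ q := (pt_specializes_pt_iff x q q'' hqp hq'').mp hz'
      have hfz' : f.base (pt x q'' hq'') = f.base x := by
        have h1 : (f.fiberι (f.base x)) z' ∈ Set.range (f.fiberι (f.base x)) := ⟨z', rfl⟩
        rw [Scheme.Hom.range_fiberι, hz''] at h1
        exact h1
      have hle2 : fiberIdeal f x ≤ q'' := (map_pt_eq_iff f x q'' hq'').mp hfz'
      have hqq : q ≤ q'' := hq.2 ⟨hq'', hfib ▸ hle2⟩ hle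
      have heq : q'' = q := le_antisymm hle hqq
      apply (f.fiberι (f.base x)).isEmbedding.injective
      rw [hz'', hz]
      subst heq
      rfl
    have hopen := h z hz1 hz2
    have hopen' : EGA43.IsOpenAt f.base (pt x q hqp) := by
      have e : (f.fiberι (f.base x)).base z = pt x q hqp := hz
      rw [e] at hopen
      exact hopen
    let η : Spec (CommRingCat.of A) := (⟨⊥, Ideal.isPrime_bot⟩ : PrimeSpectrum A)
    have hη : η ⤳ f.base (pt x q hqp) := by
      rw [hzX, hx]
      exact (PrimeSpectrum.le_iff_specializes (⟨⊥, Ideal.isPrime_bot⟩ : PrimeSpectrum A)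
        (IsLocalRing.closedPoint A)).mp bot_le
    obtain ⟨z', hz', hfz'⟩ :=
      Groth.Agent.Lib.Helper6.OpenDim.exists_specializes_of_isOpenAt f _ hopen' η hη
    obtain ⟨q', hq', hz''⟩ := exists_eq_pt (hz'.trans (pt_specializes x q hqp))
    rw [hz''] at hz' hfz'
    refine ⟨q', hq', (pt_specializes_pt_iff x q q' hqp hq').mp hz', ?_⟩
    intro hπq'
    rw [map_pt] at hfz'
    have h1 := pt_Spec_asIdeal (CommRingCat.of A) (f.base x) (q'.comap (f.stalkMap x).hom)
      (Ideal.comap_isPrime _ _)
    rw [hfz'] at h1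
    have h2 : ϖ ∈ Ideal.comap (StructureSheaf.toStalk (CommRingCat.of A) (f.base x)).hom
        (q'.comap (f.stalkMap x).hom) := hπq'
    rw [← h1] at h2
    exact hirr.ne_zero ((Ideal.mem_bot).mp h2)
  -- regularity of `π`
  have hreg : ∀ b : X.presheaf.stalk x, π * b = 0 → b = 0 :=
    eq_zero_of_mul_eq_zero π hπm hredB hgen
  have hregpow : ∀ (n : ℕ) (b : X.presheaf.stalk x), π ^ n * b = 0 → b = 0 := by
    intro n
    induction n with
    | zero => intro b hb; simpa using hb
    | succ n ih =>
      intro b hb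
      rw [pow_succ, mul_assoc] at hb
      exact hreg b (ih _ hb)
  -- flatness
  let _ : Algebra ((Spec (CommRingCat.of A)).presheaf.stalk (f.base x)) (X.presheaf.stalk x) :=
    (f.stalkMap x).hom.toAlgebra
  let _ : Algebra A (X.presheaf.stalk x) :=
    ((f.stalkMap x).hom.comp
      (algebraMap A ((Spec (CommRingCat.of A)).presheaf.stalk (f.base x)))).toAlgebra
  have htower : IsScalarTower A ((Spec (CommRingCat.of A)).presheaf.stalk (f.base x))
      (X.presheaf.stalk x) := IsScalarTower.of_algebraMap_eq fun _ => rfl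
  change Module.Flat ((Spec (CommRingCat.of A)).presheaf.stalk (f.base x)) (X.presheaf.stalk x)
  rw [Module.flat_iff_of_isLocalization (R := A)
    (S := (Spec (CommRingCat.of A)).presheaf.stalk (f.base x))
    (p := (PrimeSpectrum.asIdeal (f.base x)).primeCompl)]
  rw [IsDedekindDomain.flat_iff_torsion_eq_bot, eq_bot_iff]
  intro b hb
  rw [Submodule.mem_torsion_iff] at hb
  obtain ⟨a, ha⟩ := hb
  have ha0 : (a : A) ≠ 0 := nonZeroDivisors.coe_ne_zero a
  obtain ⟨n, u, hu⟩ := IsDiscreteValuationRing.eq_unit_mul_pow_irreducible ha0 hirr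
  have h1 : algebraMap A (X.presheaf.stalk x) (a : A) * b = 0 := by
    rw [← Algebra.smul_def]; exact ha
  rw [hu, map_mul, map_pow, mul_assoc] at h1
  have hunit : IsUnit (algebraMap A (X.presheaf.stalk x) (u : A)) := u.isUnit.map _
  have h2 : (algebraMap A (X.presheaf.stalk x) ϖ) ^ n * b = 0 := hunit.mul_right_eq_zero.mp h1
  exact (Submodule.mem_bot _).mpr (hregpow n b h2)

end Groth.Agent.Lib.Helper6.OpenFlatDVR
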