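import Mathlib
import Groth.Prelude.Def_EGA43
import Groth.Agent.Lib.Helper6.OpenDimSch
import Groth.Agent.Lib.Helper6.FiberStalkIso
import Groth.Agent.Lib.Helper6.StalkPrimes
import Groth.Agent.Lib.Helper6.OpenFlatDVR
import Groth.Agent.Lib.Helper6.OpenConnAlg

/-!
# Connectedness of the generic fibre of an open morphism to a DVR with reduced closed fibre
-/

set_option autoImplicit false

open CategoryTheory CategoryTheory.Limits AlgebraicGeometry TopologicalSpace

universe u

namespace Groth.Agent.Lib.Helper6.OpenConn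

open Groth.Agent.Lib.Helper6 Groth.Agent.Lib.Helper6.StalkPrimes

/-- In a locally Noetherian scheme, a point in the closure of an open set has a generization
inside the open set. -/
lemma exists_specializes_of_mem_closure_open_aux {X : Scheme.{u}} [IsLocallyNoetherian X]
    (U : Set X) (hU : IsOpen U) (x : X) (hx : x ∈ closure U) (V : X.Opens) (hV : IsAffineOpen V)
    (hxV : x ∈ V) : ∃ z ∈ U, z ⤳ x := by
  have : IsNoetherianRing Γ(X, V) := IsLocallyNoetherian.component_noetherian ⟨V, hV⟩
  have h1 : NoetherianSpace (V : Set X) := noetherianSpace_of_isAffineOpen V hV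
  let W : Set X := U ∩ (V : Set X)
  have hW : IsOpen W := hU.inter V.isOpen
  have h2 : NoetherianSpace W := by
    rw [noetherianSpace_set_iff] at h1 ⊢
    intro t ht
    exact h1 t (ht.trans Set.inter_subset_right)
  have h3 : QuasiSober W := hW.isOpenEmbedding_subtypeVal.quasiSober
  have hcl : x ∈ closure (Set.range (Subtype.val : W → X)) := by
    rw [Subtype.range_coe, mem_closure_iff]
    intro o ho hxo
    obtain ⟨z, hz1, hz2⟩ := mem_closure_iff.mp hx (o ∩ (V : Set X)) (ho.inter V.isOpen) ⟨hxo, hxV⟩
    exact ⟨z, hz1.1, hz2, hz1.2⟩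
  obtain ⟨t, ht⟩ := Groth.Agent.Lib.Helper6.OpenDim.exists_specializes_of_mem_closure_range
    (Subtype.val : W → X) continuous_subtype_val x hcl
  exact ⟨t.1, t.2.1, ht⟩

lemma exists_specializes_of_mem_closure_open {X : Scheme.{u}} [IsLocallyNoetherian X]
    (U : Set X) (hU : IsOpen U) (x : X) (hx : x ∈ closure U) : ∃ z ∈ U, z ⤳ x := by
  obtain ⟨_, ⟨V, hV, rfl⟩, hxV, -⟩ := X.isBasis_affineOpens.exists_subset_of_mem_open
    (Set.mem_univ x) isOpen_univ
  exact exists_specializes_of_mem_closure_open_aux U hU x hx V hV hxV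

section DVR

variable {A : Type u} [CommRing A] [IsDomain A] [IsDiscreteValuationRing A]

lemma eq_closedPoint_of_isClosed (a : ↥(Spec (CommRingCat.of A)))
    (ha : IsClosed ({a} : Set ↥(Spec (CommRingCat.of A)))) : a = IsLocalRing.closedPoint A := by
  have h1 : (PrimeSpectrum.asIdeal a).IsMaximal :=
    (PrimeSpectrum.isClosed_singleton_iff_isMaximal a).mp ha
  exact PrimeSpectrum.ext (IsLocalRing.eq_maximalIdeal h1)

lemma eq_bot_of_forall_specializes (b : ↥(Spec (CommRingCat.of A)))
    (hb : ∀ z : ↥(Spec (CommRingCat.of A)), b ⤳ z) :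
    b = (⟨⊥, Ideal.isPrime_bot⟩ : PrimeSpectrum A) := by
  have h1 := (PrimeSpectrum.le_iff_specializes b (⟨⊥, Ideal.isPrime_bot⟩ : PrimeSpectrum A)).mpr
    (hb _)
  exact PrimeSpectrum.ext (le_bot_iff.mp h1)

lemma eq_closedPoint_or_eq_bot (y : ↥(Spec (CommRingCat.of A))) :
    y = IsLocalRing.closedPoint A ∨ y = (⟨⊥, Ideal.isPrime_bot⟩ : PrimeSpectrum A) := by
  by_cases h : PrimeSpectrum.asIdeal y = ⊥
  · right; exact PrimeSpectrum.ext h
  · left
    have h1 : (PrimeSpectrum.asIdeal y).IsMaximal := (PrimeSpectrum.isPrime y).isMaximal h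
    exact PrimeSpectrum.ext (IsLocalRing.eq_maximalIdeal h1)

lemma closedPoint_ne_bot :
    IsLocalRing.closedPoint A ≠ (⟨⊥, Ideal.isPrime_bot⟩ : PrimeSpectrum A) := by
  intro h
  have h1 : IsLocalRing.maximalIdeal A = ⊥ := congrArg PrimeSpectrum.asIdeal h
  exact IsDiscreteValuationRing.not_a_field A h1

lemma isOpen_singleton_bot :
    IsOpen ({(⟨⊥, Ideal.isPrime_bot⟩ : PrimeSpectrum A)} : Set (PrimeSpectrum A)) := by
  have h1 : ({(⟨⊥, Ideal.isPrime_bot⟩ : PrimeSpectrum A)} : Set (PrimeSpectrum A)) =
      ({IsLocalRing.closedPoint A} : Set (PrimeSpectrum A))ᶜ := by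
    ext y
    simp only [Set.mem_singleton_iff, Set.mem_compl_iff]
    constructor
    · rintro rfl; exact fun h => closedPoint_ne_bot h.symm
    · intro h
      rcases eq_closedPoint_or_eq_bot (A := A) y with h' | h'
      · exact absurd h' h
      · exact h'
  rw [h1, isOpen_compl_iff]
  exact (PrimeSpectrum.isClosed_singleton_iff_isMaximal _).mpr
    (inferInstanceAs (IsLocalRing.maximalIdeal A).IsMaximal)

/-- At a point over the closed point of a DVR, an open morphism with reduced closed fibre has a
regular uniformizer generating the fibre ideal, with reduced quotient. -/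
theorem exists_regular_uniformizer {X : Scheme.{u}} (f : X ⟶ Spec (CommRingCat.of A))
    [LocallyOfFiniteType f] (hopen : ∀ z : X, EGA43.IsOpenAt f.base z) (x : X)
    (hx : f.base x = IsLocalRing.closedPoint A)
    (hred : AlgebraicGeometry.IsReduced (f.fiber (f.base x))) :
    ∃ π : X.presheaf.stalk x, fiberIdeal f x = Ideal.span {π} ∧
      (∀ b : X.presheaf.stalk x, π * b = 0 → b = 0) ∧
      _root_.IsReduced (X.presheaf.stalk x ⧸ Ideal.span {π}) := by
  have hflat : (f.stalkMap x).hom.Flat :=
    Groth.Agent.Lib.Helper6.OpenFlatDVR.flat_stalkMap_of_isOpenAt_of_reduced f x hx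
      (fun z _ _ => hopen _) inferInstance
  obtain ⟨ϖ, hirr⟩ := IsDiscreteValuationRing.exists_irreducible A
  let _ : Algebra A ((Spec (CommRingCat.of A)).presheaf.stalk (f.base x)) :=
    StructureSheaf.stalkAlgebra A (f.base x)
  have hprime : (PrimeSpectrum.asIdeal (f.base x)).IsPrime := PrimeSpectrum.isPrime (f.base x)
  have hloc : IsLocalization.AtPrime ((Spec (CommRingCat.of A)).presheaf.stalk (f.base x))
      (PrimeSpectrum.asIdeal (f.base x)) := StructureSheaf.IsLocalization.to_stalk A (f.base x)
  have hasI : PrimeSpectrum.asIdeal (f.base x) = IsLocalRing.maximalIdeal A :=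
    congrArg PrimeSpectrum.asIdeal hx
  set π : X.presheaf.stalk x := (f.stalkMap x).hom
    (algebraMap A ((Spec (CommRingCat.of A)).presheaf.stalk (f.base x)) ϖ) with hπdef
  have hfib : fiberIdeal f x = Ideal.span {π} := by
    have h1 : IsLocalRing.maximalIdeal ((Spec (CommRingCat.of A)).presheaf.stalk (f.base x)) =
        (Ideal.span {ϖ}).map
          (algebraMap A ((Spec (CommRingCat.of A)).presheaf.stalk (f.base x))) := by
      rw [← hirr.maximalIdeal_eq, ← hasI]
      exact (IsLocalization.AtPrime.map_eq_maximalIdeal (PrimeSpectrum.asIdeal (f.base x))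
        ((Spec (CommRingCat.of A)).presheaf.stalk (f.base x))).symm
    unfold fiberIdeal
    rw [h1, Ideal.map_span, Ideal.map_span, Set.image_singleton, Set.image_singleton]
  have hredB : _root_.IsReduced (X.presheaf.stalk x ⧸ Ideal.span {π}) := by
    have e := fiberStalkEquiv f x
    have : _root_.IsReduced (X.presheaf.stalk x ⧸ fiberIdeal f x) :=
      isReduced_of_injective e.symm.toRingHom e.symm.injective
    rw [hfib] at this
    exact this
  refine ⟨π, hfib, ?_, hredB⟩
  have hdom : IsDomain ((Spec (CommRingCat.of A)).presheaf.stalk (f.base x)) :=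
    IsLocalization.isDomain_of_atPrime _ (PrimeSpectrum.asIdeal (f.base x))
  have hne : algebraMap A ((Spec (CommRingCat.of A)).presheaf.stalk (f.base x)) ϖ ≠ 0 := by
    intro h0
    have hinj : Function.Injective
        (algebraMap A ((Spec (CommRingCat.of A)).presheaf.stalk (f.base x))) :=
      IsLocalization.injective _ (M := (PrimeSpectrum.asIdeal (f.base x)).primeCompl)
        (PrimeSpectrum.asIdeal (f.base x)).primeCompl_le_nonZeroDivisors
    exact hirr.ne_zero (hinj (h0.trans (map_zero _).symm))
  let _ : Algebra ((Spec (CommRingCat.of A)).presheaf.stalk (f.base x)) (X.presheaf.stalk x) :=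
    (f.stalkMap x).hom.toAlgebra
  have hflat' : Module.Flat ((Spec (CommRingCat.of A)).presheaf.stalk (f.base x))
      (X.presheaf.stalk x) := hflat
  have hreg0 : IsSMulRegular ((Spec (CommRingCat.of A)).presheaf.stalk (f.base x))
      (algebraMap A ((Spec (CommRingCat.of A)).presheaf.stalk (f.base x)) ϖ) :=
    (IsRegular.of_ne_zero hne).left.isSMulRegular
  have hreg1 := IsSMulRegular.of_flat (S := X.presheaf.stalk x) hreg0
  intro b hb
  exact hreg1 (by
    change π * b = π * 0
    rw [hb, mul_zero])

/-- Local step: a point over the closed point cannot be in the closures of two disjoint opens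
covering the generic fibre. -/
theorem not_mem_closure_inter {X : Scheme.{u}} (f : X ⟶ Spec (CommRingCat.of A))
    [LocallyOfFiniteType f] (hopen : ∀ z : X, EGA43.IsOpenAt f.base z) (x : X)
    (hx : f.base x = IsLocalRing.closedPoint A)
    (hred : AlgebraicGeometry.IsReduced (f.fiber (f.base x)))
    (U₁ U₂ : Set X) (h₁ : IsOpen U₁) (h₂ : IsOpen U₂) (hdisj : Disjoint U₁ U₂)
    (hcover : U₁ ∪ U₂ = f.base ⁻¹' {(⟨⊥, Ideal.isPrime_bot⟩ : PrimeSpectrum A)})
    (hx1 : x ∈ closure U₁) (hx2 : x ∈ closure U₂) : False := by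
  have hXn : IsLocallyNoetherian X := LocallyOfFiniteType.isLocallyNoetherian f
  obtain ⟨π, hfib, hreg, hredB⟩ := exists_regular_uniformizer f hopen x hx hred
  have hconn : PreconnectedSpace (PrimeSpectrum (Localization.Away π)) :=
    preconnectedSpace_away π hreg hredB (Localization.Away π)
  -- the map `Spec B[1/π] → X`
  let g : PrimeSpectrum (Localization.Away π) → X := fun P =>
    (X.fromSpecStalk x) (PrimeSpectrum.comap (algebraMap (X.presheaf.stalk x) (Localization.Away π)) P)
  have hg : Continuous g :=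
    (X.fromSpecStalk x).continuous.comp
      (PrimeSpectrum.continuous_comap (algebraMap (X.presheaf.stalk x) (Localization.Away π)))
  have hmem : ∀ (q : Ideal (X.presheaf.stalk x)) (hq : q.IsPrime),
      f.base (pt x q hq) = (⟨⊥, Ideal.isPrime_bot⟩ : PrimeSpectrum A) ↔ π ∉ q := by
    intro q hq
    have h1 : f.base (pt x q hq) = f.base x ↔ π ∈ q := by
      rw [map_pt_eq_iff, hfib, Ideal.span_singleton_le_iff_mem]
    constructor
    · intro h hπ
      have h2 := h1.mpr hπ
      rw [h, hx] at h2
      exact closedPoint_ne_bot h2.symm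
    · intro h
      rcases eq_closedPoint_or_eq_bot (A := A) (f.base (pt x q hq)) with h' | h'
      · exact absurd (h1.mp (h'.trans hx.symm)) h
      · exact h'
  have hgP : ∀ P : PrimeSpectrum (Localization.Away π), g P ∈ U₁ ∪ U₂ := by
    intro P
    rw [hcover]
    apply (hmem _ _).mpr
    intro hπ
    have h1 : algebraMap (X.presheaf.stalk x) (Localization.Away π) π ∈ P.asIdeal := hπ
    exact P.isPrime.ne_top (Ideal.eq_top_of_isUnit_mem _ h1
      (IsLocalization.Away.algebraMap_isUnit π))
  have hne : ∀ U : Set X, IsOpen U → U ⊆ U₁ ∪ U₂ → x ∈ closure U → (g ⁻¹' U).Nonempty := by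
    intro U hU hsub hxU
    obtain ⟨z, hzU, hzx⟩ := exists_specializes_of_mem_closure_open U hU x hxU
    obtain ⟨q, hq, rfl⟩ := exists_eq_pt hzx
    have hπq : π ∉ q := by
      apply (hmem q hq).mp
      have := hsub hzU
      rw [hcover] at this
      exact this
    have hrange : (⟨q, hq⟩ : PrimeSpectrum (X.presheaf.stalk x)) ∈
        Set.range (PrimeSpectrum.comap (algebraMap (X.presheaf.stalk x) (Localization.Away π))) := by
      rw [PrimeSpectrum.localization_away_comap_range (Localization.Away π) π]
      exact hπq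
    obtain ⟨P, hP⟩ := hrange
    refine ⟨P, ?_⟩
    change (X.fromSpecStalk x) (PrimeSpectrum.comap _ P) ∈ U
    rw [hP]
    exact hzU
  have hpre : _root_.IsPreconnected (Set.univ : Set (PrimeSpectrum (Localization.Away π))) :=
    isPreconnected_univ
  obtain ⟨P, -, hP1, hP2⟩ := hpre (g ⁻¹' U₁) (g ⁻¹' U₂) (h₁.preimage hg) (h₂.preimage hg)
    (fun P _ => hgP P)
    (by rw [Set.univ_inter]; exact hne U₁ h₁ Set.subset_union_left hx1)
    (by rw [Set.univ_inter]; exact hne U₂ h₂ Set.subset_union_right hx2)
  exact (Set.disjoint_left.mp hdisj) hP1 hP2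

/-- EGA IV 15.5.6-style: an open morphism locally of finite type from a connected scheme to the
spectrum of a DVR, with reduced closed fibre, has connected generic fibre. -/
theorem preconnectedSpace_fiber_of_isOpenMap {X : Scheme.{u}} (f : X ⟶ Spec (CommRingCat.of A))
    [LocallyOfFiniteType f] (hopen : IsOpenMap f.base) [PreconnectedSpace X]
    (a b : ↥(Spec (CommRingCat.of A))) (ha : IsClosed ({a} : Set ↥(Spec (CommRingCat.of A))))
    (hb : ∀ z : ↥(Spec (CommRingCat.of A)), b ⤳ z)
    (hred : AlgebraicGeometry.IsReduced (f.fiber a)) :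
    PreconnectedSpace ↥(f.fiber b) := by
  obtain rfl := eq_closedPoint_of_isClosed a ha
  have hbη := eq_bot_of_forall_specializes b hb
  have hopen' : ∀ z : X, EGA43.IsOpenAt f.base z := fun z U hU => hopen.image_mem_nhds hU
  have hbo : IsOpen ({b} : Set ↥(Spec (CommRingCat.of A))) := by
    rw [hbη]; exact isOpen_singleton_bot
  have hemb : Topology.IsOpenEmbedding (f.fiberι b) :=
    ⟨(f.fiberι b).isEmbedding, by
      rw [Scheme.Hom.range_fiberι]
      exact hbo.preimage f.continuous⟩
  rw [preconnectedSpace_iff_clopen]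
  intro s hs
  have h₁ : IsOpen ((f.fiberι b) '' s) := hemb.isOpenMap _ hs.isOpen
  have h₂ : IsOpen ((f.fiberι b) '' sᶜ) := hemb.isOpenMap _ hs.compl.isOpen
  have hdisj : Disjoint ((f.fiberι b) '' s) ((f.fiberι b) '' sᶜ) :=
    (Set.disjoint_image_iff hemb.injective).mpr disjoint_compl_right
  have hcover : ((f.fiberι b) '' s) ∪ ((f.fiberι b) '' sᶜ) = f.base ⁻¹' {b} := by
    rw [← Set.image_union, Set.union_compl_self, Set.image_univ, Scheme.Hom.range_fiberι]
  have hs1 : (f.fiberι b) '' s = ∅ → s = ∅ := fun h => Set.image_eq_empty.mp h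
  have hs2 : (f.fiberι b) '' sᶜ = ∅ → s = Set.univ := fun h =>
    Set.compl_empty_iff.mp (Set.image_eq_empty.mp h)
  generalize (f.fiberι b) '' s = U₁ at *
  generalize (f.fiberι b) '' sᶜ = U₂ at *
  have hcover' : U₁ ∪ U₂ = f.base ⁻¹' {(⟨⊥, Ideal.isPrime_bot⟩ : PrimeSpectrum A)} := by
    rw [hcover, hbη]
    rfl
  -- the closures cover `X`
  have hZ : closure U₁ ∪ closure U₂ = Set.univ := by
    rw [← closure_union, hcover, Set.eq_univ_iff_forall]
    intro x
    rw [mem_closure_iff]
    intro o ho hxo
    have h1 : f.base '' o ∈ nhds (f.base x) := hopen' x o (ho.mem_nhds hxo)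
    have h2 : b ∈ f.base '' o := (hb (f.base x)).mem_open (hopen o ho) ⟨x, hxo, rfl⟩
    obtain ⟨x', hx'o, hx'⟩ := h2
    exact ⟨x', hx'o, hx'⟩
  -- the closures are disjoint
  have hZd : Disjoint (closure U₁) (closure U₂) := by
    rw [Set.disjoint_left]
    intro x hx1 hx2
    rcases eq_closedPoint_or_eq_bot (A := A) (f.base x) with hx | hx
    · exact not_mem_closure_inter f hopen' x hx (by rw [hx]; exact hred) U₁ U₂ h₁ h₂ hdisj
        hcover' hx1 hx2
    · have hxU : x ∈ U₁ ∪ U₂ := by rw [hcover']; exact hx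
      rcases hxU with hxU | hxU
      · exact Set.disjoint_left.mp (hdisj.symm.closure_left h₁) hx2 hxU
      · exact Set.disjoint_left.mp (hdisj.closure_left h₂) hx1 hxU
  have hclopen : IsClopen (closure U₁) := by
    refine ⟨isClosed_closure, ?_⟩
    have h1 : closure U₁ = (closure U₂)ᶜ := by
      ext x
      constructor
      · intro hx hx'
        exact Set.disjoint_left.mp hZd hx hx'
      · intro hx
        have : x ∈ closure U₁ ∪ closure U₂ := by rw [hZ]; trivial
        rcases this with h | h
        · exact h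
        · exact absurd h hx
    rw [h1]
    exact isClosed_closure.isOpen_compl
  rcases isClopen_iff.mp hclopen with h | h
  · left
    exact hs1 (Set.subset_empty_iff.mp (h ▸ subset_closure))
  · right
    have h2 : closure U₂ = ∅ := by
      rw [h] at hZd
      exact Set.univ_disjoint.mp hZd
    exact hs2 (Set.subset_empty_iff.mp (h2 ▸ subset_closure))

end DVR

end Groth.Agent.Lib.Helper6.OpenConn
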