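import Mathlib
import Groth.Agent.Lib.Helper14.LCF.FibreMapStalk
import Groth.Agent.Lib.Helper3.FlatDescent

set_option autoImplicit false
universe v w u
open CategoryTheory CategoryTheory.Limits MonoidalCategory CartesianMonoidalCategory MonObj GrpObj
  AlgebraicGeometry

namespace Groth.Agent.Lib.Helper6.GrpHomFlat

theorem flat_of_isField {R M : Type*} [CommRing R] [AddCommGroup M] [Module R M] (hR : IsField R) :
    Module.Flat R M := by
  let F : Field R := hR.toField
  have h : @Module.Flat R M F.toCommRing.toCommSemiring _ (by exact ‹Module R M›) := inferInstance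
  exact h

theorem ringHom_flat_of_isField {R S : Type*} [CommRing R] [CommRing S] (f : R →+* S)
    (hR : IsField R) : f.Flat := by
  letI : Algebra R S := f.toAlgebra
  exact (flat_of_isField hR : Module.Flat R S)

theorem flat_stalkMap_of_translate {X Y : Scheme.{u}} (f : X ⟶ Y) (α : X ⟶ X) (β : Y ⟶ Y)
    [IsIso α] [IsIso β] (h : α ≫ f = f ≫ β) (x : X) (hx : (f.stalkMap (α x)).hom.Flat) :
    (f.stalkMap x).hom.Flat := by
  have h1 : ((α ≫ f).stalkMap x).hom.Flat := by
    rw [Scheme.Hom.stalkMap_comp]
    exact RingHom.Flat.comp hx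
      (RingHom.Flat.of_bijective (ConcreteCategory.bijective_of_isIso (α.stalkMap x)))
  rw [h] at h1
  rw [Scheme.Hom.stalkMap_comp] at h1
  have h1' : ((f.stalkMap x).hom.comp (β.stalkMap (f x)).hom).Flat := h1
  have h2 : (f.stalkMap x).hom =
      ((f.stalkMap x).hom.comp (β.stalkMap (f x)).hom).comp (inv (β.stalkMap (f x))).hom := by
    rw [RingHom.comp_assoc, ← CommRingCat.hom_comp, IsIso.inv_hom_id, CommRingCat.hom_id,
      RingHom.comp_id]
  rw [h2]
  exact RingHom.Flat.comp
    (RingHom.Flat.of_bijective (ConcreteCategory.bijective_of_isIso (inv (β.stalkMap (f x))))) h1'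

section mulRight
variable {C : Type w} [Category.{v} C] [CartesianMonoidalCategory C] {A B : C} [GrpObj A] [GrpObj B]

theorem mulRight_hom_comp (φ : A ⟶ B) [IsMonHom φ] (x : 𝟙_ C ⟶ A) :
    (GrpObj.mulRight x).hom ≫ φ = φ ≫ (GrpObj.mulRight (x ≫ φ)).hom := by
  simp [GrpObj.mulRight_hom, IsMonHom.mul_hom, comp_lift_assoc]

theorem mulRight_inv_comp (φ : A ⟶ B) [IsMonHom φ] (x : 𝟙_ C ⟶ A) :
    (GrpObj.mulRight x).inv ≫ φ = φ ≫ (GrpObj.mulRight (x ≫ φ)).inv := by
  rw [Iso.inv_comp_eq, ← Category.assoc, Iso.eq_comp_inv]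
  exact (mulRight_hom_comp φ x).symm

end mulRight

section core
variable {K : Type u} [Field K] [IsAlgClosed K]

set_option backward.defeqAttrib.useBackward true in
set_option backward.isDefEq.respectTransparency false in
theorem flat_of_monHom_algClosed {A B : Over (Spec (.of K))} [GrpObj A] [GrpObj B] (φ : A ⟶ B)
    [IsMonHom φ] [LocallyOfFinitePresentation A.hom] [LocallyOfFiniteType B.hom]
    [IsReduced B.left] [Surjective φ.left] : Flat φ.left := by
  have hw : φ.left ≫ B.hom = A.hom := Over.w φ
  haveI : LocallyOfFinitePresentation (φ.left ≫ B.hom) := by rw [hw]; infer_instance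
  haveI : LocallyOfFinitePresentation φ.left :=
    Groth.Agent.Lib.Helper14.LCF.locallyOfFinitePresentation_of_comp φ.left B.hom
  have hopen : IsOpen {x : A.left | (φ.left.stalkMap x).hom.Flat} :=
    Groth.Agent.Lib.Helper14.FlatOpen.isOpen_flat_stalkMap φ.left
  haveI : LocallyOfFiniteType A.hom := inferInstance
  haveI : JacobsonSpace A.left := LocallyOfFiniteType.jacobsonSpace A.hom
  have hne : {x : A.left | (φ.left.stalkMap x).hom.Flat}.Nonempty := by
    let y₀ : B.left := η[B].left (IsLocalRing.closedPoint K)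
    have hirr : IsIrreducible (irreducibleComponent y₀) := isIrreducible_irreducibleComponent
    have hcl : closure {hirr.genericPoint} ∈ irreducibleComponents B.left := by
      rw [hirr.closure_genericPoint isClosed_irreducibleComponent]
      exact irreducibleComponent_mem_irreducibleComponents y₀
    have hfield : IsField (B.left.presheaf.stalk hirr.genericPoint) :=
      isField_stalk_of_closure_mem_irreducibleComponents _ _ hcl
    obtain ⟨z, hz⟩ := φ.left.surjective hirr.genericPoint
    refine ⟨z, ?_⟩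
    show (φ.left.stalkMap z).hom.Flat
    have hf2 : IsField (B.left.presheaf.stalk (φ.left z)) := by
      rw [hz]
      exact hfield
    exact ringHom_flat_of_isField _ hf2
  apply Flat.of_stalkMap
  by_contra H
  have hF : {x : A.left | (φ.left.stalkMap x).hom.Flat}ᶜ.Nonempty := by
    push Not at H
    obtain ⟨x, hx⟩ := H
    exact ⟨x, hx⟩
  obtain ⟨x, hx, hxc⟩ := nonempty_inter_closedPoints hF hopen.isClosed_compl.isLocallyClosed
  obtain ⟨y, hy, hyc⟩ := nonempty_inter_closedPoints hne hopen.isLocallyClosed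
  let x' : 𝟙_ _ ⟶ A := Over.homMk _ ((pointEquivClosedPoint A.hom).symm ⟨x, hxc⟩).2
  let y' : 𝟙_ _ ⟶ A := Over.homMk _ ((pointEquivClosedPoint A.hom).symm ⟨y, hyc⟩).2
  let α := (GrpObj.mulRight x').symm ≪≫ GrpObj.mulRight y'
  let β := (GrpObj.mulRight (x' ≫ φ)).symm ≪≫ GrpObj.mulRight (y' ≫ φ)
  have hαβ : α.hom ≫ φ = φ ≫ β.hom := by
    dsimp only [Iso.trans_hom, Iso.symm_hom, α, β]
    rw [Category.assoc, mulRight_hom_comp, ← Category.assoc, mulRight_inv_comp, Category.assoc]
  have hα : x' ≫ α.hom = y' := by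
    dsimp only [Iso.trans_hom, Iso.symm_hom, α]
    rw [← Category.assoc, ← Iso.eq_comp_inv]
    simp [comp_lift_assoc]
  have hα' : α.hom.left x = y := by
    simpa [x', y', pointEquivClosedPoint] using congr(($hα).left (IsLocalRing.closedPoint K))
  have hsq : α.hom.left ≫ φ.left = φ.left ≫ β.hom.left := by
    rw [← Over.comp_left, hαβ, Over.comp_left]
  haveI : IsIso α.hom.left := (Over.forget _).map_isIso α.hom
  haveI : IsIso β.hom.left := (Over.forget _).map_isIso β.hom
  refine hx (flat_stalkMap_of_translate φ.left α.hom.left β.hom.left hsq x ?_)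
  rw [hα']
  exact hy

end core

section fibres
open scoped Obj

theorem flat_fiberMap_of_flat_geom {S X Y : Scheme.{u}} (u : X ⟶ Y) (b : Y ⟶ S) (s : S)
    {T : Scheme.{u}} (j : T ⟶ Spec (S.residueField s)) [Flat j] [Surjective j]
    (L : pullback (u ≫ b) (j ≫ S.fromSpecResidueField s) ⟶
        pullback b (j ≫ S.fromSpecResidueField s))
    (hL1 : L ≫ pullback.fst b (j ≫ S.fromSpecResidueField s) =
      pullback.fst (u ≫ b) (j ≫ S.fromSpecResidueField s) ≫ u)
    (hL2 : L ≫ pullback.snd b (j ≫ S.fromSpecResidueField s) =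
      pullback.snd (u ≫ b) (j ≫ S.fromSpecResidueField s)) [Flat L] :
    Flat (MoreMor.fiberMap u b s) := by
  let qG : pullback (u ≫ b) (j ≫ S.fromSpecResidueField s) ⟶ (u ≫ b).fiber s :=
    pullback.lift (pullback.fst _ _) (pullback.snd _ _ ≫ j)
      (by rw [Category.assoc]; exact pullback.condition)
  let qH : pullback b (j ≫ S.fromSpecResidueField s) ⟶ b.fiber s :=
    pullback.lift (pullback.fst _ _) (pullback.snd _ _ ≫ j)
      (by rw [Category.assoc]; exact pullback.condition)
  have hqG1 : qG ≫ pullback.fst (u ≫ b) (S.fromSpecResidueField s) =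
      pullback.fst (u ≫ b) (j ≫ S.fromSpecResidueField s) := pullback.lift_fst _ _ _
  have hqG2 : qG ≫ pullback.snd (u ≫ b) (S.fromSpecResidueField s) =
      pullback.snd (u ≫ b) (j ≫ S.fromSpecResidueField s) ≫ j := pullback.lift_snd _ _ _
  have hqH1 : qH ≫ pullback.fst b (S.fromSpecResidueField s) =
      pullback.fst b (j ≫ S.fromSpecResidueField s) := pullback.lift_fst _ _ _
  have hqH2 : qH ≫ pullback.snd b (S.fromSpecResidueField s) =
      pullback.snd b (j ≫ S.fromSpecResidueField s) ≫ j := pullback.lift_snd _ _ _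
  have sqG : IsPullback qG (pullback.snd (u ≫ b) (j ≫ S.fromSpecResidueField s))
      (pullback.snd (u ≫ b) (S.fromSpecResidueField s)) j := by
    refine IsPullback.of_right ?_ hqG2 (IsPullback.of_hasPullback (u ≫ b) (S.fromSpecResidueField s))
    rw [hqG1]
    exact IsPullback.of_hasPullback (u ≫ b) (j ≫ S.fromSpecResidueField s)
  haveI : Flat qG := MorphismProperty.of_isPullback (P := @Flat) sqG.flip inferInstance
  haveI : Surjective qG := MorphismProperty.of_isPullback (P := @Surjective) sqG.flip inferInstance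
  have sqH : IsPullback qH (pullback.snd b (j ≫ S.fromSpecResidueField s))
      (pullback.snd b (S.fromSpecResidueField s)) j := by
    refine IsPullback.of_right ?_ hqH2 (IsPullback.of_hasPullback b (S.fromSpecResidueField s))
    rw [hqH1]
    exact IsPullback.of_hasPullback b (j ≫ S.fromSpecResidueField s)
  haveI : Flat qH := MorphismProperty.of_isPullback (P := @Flat) sqH.flip inferInstance
  have hf1 : MoreMor.fiberMap u b s ≫ pullback.fst b (S.fromSpecResidueField s) =
      pullback.fst (u ≫ b) (S.fromSpecResidueField s) ≫ u := pullback.lift_fst _ _ _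
  have hf2 : MoreMor.fiberMap u b s ≫ pullback.snd b (S.fromSpecResidueField s) =
      pullback.snd (u ≫ b) (S.fromSpecResidueField s) := pullback.lift_snd _ _ _
  have hcomm : qG ≫ MoreMor.fiberMap u b s = L ≫ qH := by
    apply pullback.hom_ext
    · calc (qG ≫ MoreMor.fiberMap u b s) ≫ pullback.fst b (S.fromSpecResidueField s)
          = qG ≫ (MoreMor.fiberMap u b s ≫ pullback.fst b (S.fromSpecResidueField s)) :=
            Category.assoc _ _ _
        _ = qG ≫ (pullback.fst (u ≫ b) (S.fromSpecResidueField s) ≫ u) :=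
            congrArg (qG ≫ ·) hf1
        _ = (qG ≫ pullback.fst (u ≫ b) (S.fromSpecResidueField s)) ≫ u :=
            (Category.assoc _ _ _).symm
        _ = pullback.fst (u ≫ b) (j ≫ S.fromSpecResidueField s) ≫ u :=
            congrArg (· ≫ u) hqG1
        _ = L ≫ pullback.fst b (j ≫ S.fromSpecResidueField s) := hL1.symm
        _ = L ≫ (qH ≫ pullback.fst b (S.fromSpecResidueField s)) :=
            (congrArg (L ≫ ·) hqH1).symm
        _ = (L ≫ qH) ≫ pullback.fst b (S.fromSpecResidueField s) := (Category.assoc _ _ _).symm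
    · calc (qG ≫ MoreMor.fiberMap u b s) ≫ pullback.snd b (S.fromSpecResidueField s)
          = qG ≫ (MoreMor.fiberMap u b s ≫ pullback.snd b (S.fromSpecResidueField s)) :=
            Category.assoc _ _ _
        _ = qG ≫ pullback.snd (u ≫ b) (S.fromSpecResidueField s) :=
            congrArg (qG ≫ ·) hf2
        _ = pullback.snd (u ≫ b) (j ≫ S.fromSpecResidueField s) ≫ j := hqG2
        _ = (L ≫ pullback.snd b (j ≫ S.fromSpecResidueField s)) ≫ j :=
            (congrArg (· ≫ j) hL2).symm
        _ = L ≫ (pullback.snd b (j ≫ S.fromSpecResidueField s) ≫ j) := Category.assoc _ _ _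
        _ = L ≫ (qH ≫ pullback.snd b (S.fromSpecResidueField s)) :=
            (congrArg (L ≫ ·) hqH2).symm
        _ = (L ≫ qH) ≫ pullback.snd b (S.fromSpecResidueField s) := (Category.assoc _ _ _).symm
  haveI : Flat (qG ≫ MoreMor.fiberMap u b s) := by
    rw [hcomm]
    infer_instance
  exact Groth.Agent.Lib.Helper3.flat_of_flat_comp_of_surjective qG (MoreMor.fiberMap u b s)

theorem flat_fiberMap {S X Y : Scheme.{u}} (b : Y ⟶ S) (u : X ⟶ Y) [GrpObj (Over.mk (u ≫ b))]
    [GrpObj (Over.mk b)] [IsMonHom (Over.homMk u rfl : Over.mk (u ≫ b) ⟶ Over.mk b)]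
    [LocallyOfFinitePresentation (u ≫ b)] [LocallyOfFiniteType b] [GeometricallyReduced b]
    [Surjective u] (s : S) : Flat (MoreMor.fiberMap u b s) := by
  let Ω : Type u := AlgebraicClosure (S.residueField s)
  let j : Spec (.of Ω) ⟶ Spec (S.residueField s) :=
    Spec.map (CommRingCat.ofHom (algebraMap (S.residueField s) Ω))
  let t : Spec (.of Ω) ⟶ S := j ≫ S.fromSpecResidueField s
  let ψ : Over.mk (u ≫ b) ⟶ Over.mk b := Over.homMk u rfl
  have h1 : LocallyOfFinitePresentation (pullback.snd (u ≫ b) t) := inferInstance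
  have h2 : LocallyOfFiniteType (pullback.snd b t) := inferInstance
  have h3 : IsReduced (pullback b t) :=
    pullback_of_geometrically (GeometricallyReduced.geometrically_isReduced) Ω t
  haveI : LocallyOfFinitePresentation ((Over.pullback t).obj (Over.mk (u ≫ b))).hom := h1
  haveI : LocallyOfFiniteType ((Over.pullback t).obj (Over.mk b)).hom := h2
  haveI : IsReduced ((Over.pullback t).obj (Over.mk b)).left := h3
  have e1 : ((Over.pullback t).map ψ).left ≫ pullback.snd b t = pullback.snd (u ≫ b) t :=
    pullback.lift_snd _ _ _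
  have e2 : pullback.fst (u ≫ b) t ≫ u = ((Over.pullback t).map ψ).left ≫ pullback.fst b t :=
    (pullback.lift_fst _ _ _).symm
  have hsq : IsPullback (pullback.fst (u ≫ b) t) ((Over.pullback t).map ψ).left u
      (pullback.fst b t) := by
    refine IsPullback.of_bot ?_ e2 (IsPullback.of_hasPullback b t)
    rw [e1]
    exact IsPullback.of_hasPullback (u ≫ b) t
  haveI : Surjective ((Over.pullback t).map ψ).left :=
    MorphismProperty.of_isPullback (P := @Surjective) hsq inferInstance
  haveI hcore : Flat ((Over.pullback t).map ψ).left :=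
    flat_of_monHom_algClosed ((Over.pullback t).map ψ)
  exact flat_fiberMap_of_flat_geom u b s j ((Over.pullback t).map ψ).left e2.symm e1

theorem main_aux {S X Y : Scheme.{u}} (a : X ⟶ S) (b : Y ⟶ S) (u : X ⟶ Y) (hu : u ≫ b = a)
    [GrpObj (Over.mk a)] [GrpObj (Over.mk b)]
    [IsMonHom (Over.homMk u hu : Over.mk a ⟶ Over.mk b)]
    [LocallyOfFinitePresentation a] [Flat a] [LocallyOfFiniteType b] [GeometricallyReduced b]
    [Surjective u] : Flat u ∧ Flat b := by
  subst hu
  have key : ∀ x : X, (b.stalkMap (u x)).hom.Flat ∧ (u.stalkMap x).hom.Flat := by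
    intro x
    haveI := flat_fiberMap b u (b (u x))
    exact (Groth.Agent.Lib.Helper14.LCF.flat_fiberMap_iff u b x).1
      ⟨Flat.stalkMap (u ≫ b) x, Flat.stalkMap (MoreMor.fiberMap u b (b (u x))) _⟩
  refine ⟨Flat.of_stalkMap u (fun x => (key x).2), Flat.of_stalkMap b (fun y => ?_)⟩
  obtain ⟨x, rfl⟩ := u.surjective y
  exact (key x).1

theorem main7800 {S : Scheme.{u}} (G H : Over S) [iG : GrpObj G] [iH : GrpObj H]
    [IsSeparated G.hom] [LocallyOfFinitePresentation G.hom] [Flat G.hom]
    [IsSeparated H.hom] [LocallyOfFinitePresentation H.hom] [GeometricallyReduced H.hom]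
    (f : G ⟶ H) [iM : IsMonHom f] [Surjective f.left] : Flat f.left ∧ Flat H.hom :=
  @main_aux S G.left H.left G.hom H.hom f.left (Over.w f) iG iH iM
    inferInstance inferInstance inferInstance inferInstance inferInstance

end fibres

end Groth.Agent.Lib.Helper6.GrpHomFlat
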