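import Mathlib
import Groth.Prelude.Def_AffAlg

/-!
# `Hom_S(Y, X) ≃ Hom_{O_S-alg}(f_* O_X, g_* O_Y)` for an affine morphism `f : X ⟶ S` (helper6)
-/

set_option autoImplicit false
universe u
open CategoryTheory CategoryTheory.Limits AlgebraicGeometry Opposite

namespace Groth.Agent.Lib.Helper6.AffAlgHom

variable {X Y S : Scheme.{u}} (f : X ⟶ S) (g : Y ⟶ S)

lemma algHom_app_appLE (h : Y ⟶ X) (w : h ≫ f = g) (U : S.Opens)
    (e : g ⁻¹ᵁ U ≤ h ⁻¹ᵁ f ⁻¹ᵁ U) :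
    (AffAlg.algHom f g h w).app (op U) = h.appLE (f ⁻¹ᵁ U) (g ⁻¹ᵁ U) e := by
  subst w
  refine Eq.trans ?_
    ((Category.comp_id _).trans (Scheme.Hom.app_eq_appLE (f := h) (U := f ⁻¹ᵁ U)))
  simp only [AffAlg.algHom]
  rfl

omit f g in
lemma ι_comp_eq (h : Y ⟶ X) {V : X.Opens} (hV : IsAffineOpen V) (W : Y.Opens)
    (e : W ≤ h ⁻¹ᵁ V) :
    W.ι ≫ h = W.toSpecΓ ≫ Spec.map (h.appLE V W e) ≫ hV.fromSpec := by
  rw [← Category.assoc, Scheme.Opens.toSpecΓ_SpecMap_appLE, Category.assoc, hV.toSpecΓ_fromSpec,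
    Scheme.Hom.resLE_comp_ι]

omit f g in
lemma specMap_injective_of_toSpecΓ {V : X.Opens} (hV : IsAffineOpen V) (W : Y.Opens)
    (φ φ' : Γ(X, V) ⟶ Γ(Y, W))
    (H : W.toSpecΓ ≫ Spec.map φ ≫ hV.fromSpec = W.toSpecΓ ≫ Spec.map φ' ≫ hV.fromSpec) :
    φ = φ' := by
  have H1 : W.toSpecΓ ≫ Spec.map φ = W.toSpecΓ ≫ Spec.map φ' := by
    rw [← Category.assoc, ← Category.assoc] at H
    exact (cancel_mono hV.fromSpec).1 H
  have key : ∀ ψ : Γ(X, V) ⟶ Γ(Y, W), (W.toSpecΓ ≫ Spec.map ψ).appTop =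
      (Scheme.ΓSpecIso Γ(X, V)).hom ≫ ψ ≫ W.topIso.inv := by
    intro ψ
    rw [Scheme.Hom.comp_appTop, Scheme.Opens.toSpecΓ_appTop, ← Category.assoc,
      Scheme.ΓSpecIso_naturality, Category.assoc]
  have H2 := congrArg Scheme.Hom.appTop H1
  rw [key, key] at H2
  exact (cancel_mono W.topIso.inv).1 ((cancel_epi (Scheme.ΓSpecIso Γ(X, V)).hom).1 H2)

/-- The component of a map of direct image algebras, with explicit types. -/
def wapp (ω : AffAlg.alg f ⟶ AffAlg.alg g) (U : S.Opens) : Γ(X, f ⁻¹ᵁ U) ⟶ Γ(Y, g ⁻¹ᵁ U) :=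
  ω.app (op U)

lemma wapp_naturality (ω : AffAlg.alg f ⟶ AffAlg.alg g) {U V : S.Opens} (hUV : U ≤ V) :
    wapp f g ω V ≫ Y.presheaf.map (homOfLE (g.preimage_mono hUV)).op =
      X.presheaf.map (homOfLE (f.preimage_mono hUV)).op ≫ wapp f g ω U :=
  (ω.naturality (homOfLE hUV).op).symm

lemma wapp_comm (ω : AffAlg.alg f ⟶ AffAlg.alg g) (hω : f.c ≫ ω = g.c) (U : S.Opens) :
    f.app U ≫ wapp f g ω U = g.app U :=
  NatTrans.congr_app hω (op U)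

open Scheme.AffineZariskiSite in
set_option backward.defeqAttrib.useBackward true in
set_option backward.isDefEq.respectTransparency false in
theorem exists_hom_of_algHom [IsAffineHom f] (ω : AffAlg.alg f ⟶ AffAlg.alg g) :
    ∃ h : Y ⟶ X, ∀ (U : S.Opens) (hU : IsAffineOpen U),
      (g ⁻¹ᵁ U).ι ≫ h =
        (g ⁻¹ᵁ U).toSpecΓ ≫ Spec.map (wapp f g ω U) ≫ (hU.preimage f).fromSpec := by
  have compat : ∀ {U V : S.AffineZariskiSite} (i : U ⟶ V),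
      Scheme.Cover.trans ((directedCover S).pullback₁ g) i ≫
        ((pullbackRestrictIsoRestrict g V.1).hom ≫ (g ⁻¹ᵁ V.1).toSpecΓ ≫
          Spec.map (wapp f g ω V.1) ≫ (V.2.preimage f).fromSpec) =
      (pullbackRestrictIsoRestrict g U.1).hom ≫ (g ⁻¹ᵁ U.1).toSpecΓ ≫
          Spec.map (wapp f g ω U.1) ≫ (U.2.preimage f).fromSpec := by
    intro U V i
    have this : (pullbackRestrictIsoRestrict g U.1).inv ≫
        Scheme.Cover.trans ((directedCover S).pullback₁ g) i ≫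
        (pullbackRestrictIsoRestrict g V.1).hom = Y.homOfLE
          (g.preimage_mono (toOpens_mono i.1.1)) := by
      rw [← cancel_mono (Scheme.Opens.ι _)]
      simp +instances [Scheme.Cover.trans, Scheme.Cover.locallyDirectedPullbackCover]
    rw [← Iso.inv_comp_eq, reassoc_of% this, ← Scheme.Opens.toSpecΓ_SpecMap_presheaf_map_assoc,
      ← Spec.map_comp_assoc, wapp_naturality f g ω (toOpens_mono i.1.1), Spec.map_comp_assoc,
      (V.2.preimage f).map_fromSpec (U.2.preimage f)]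
  let h := Scheme.OpenCover.glueMorphismsOfLocallyDirected ((directedCover S).pullback₁ g)
    (fun U => (pullbackRestrictIsoRestrict g U.1).hom ≫ (g ⁻¹ᵁ U.1).toSpecΓ ≫
          Spec.map (wapp f g ω U.1) ≫ (U.2.preimage f).fromSpec) (fun {U V} i => compat i)
  refine ⟨h, fun U hU => ?_⟩
  rw [← cancel_epi (pullbackRestrictIsoRestrict g U).hom, ← Category.assoc]
  trans ((directedCover S).pullback₁ g).f ⟨U, hU⟩ ≫ h
  · congr 1; simp
  exact Scheme.OpenCover.map_glueMorphismsOfLocallyDirected ((directedCover S).pullback₁ g) _ _ (⟨U, hU⟩ : S.AffineZariskiSite)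

theorem algOf_bijective [IsAffineHom f] : Function.Bijective (AffAlg.algOf f g) := by
  constructor
  · rintro ⟨h₁, w₁⟩ ⟨h₂, w₂⟩ H
    have e : AffAlg.algHom f g h₁ w₁ = AffAlg.algHom f g h₂ w₂ := congrArg Subtype.val H
    apply Subtype.ext
    show h₁ = h₂
    refine Scheme.Cover.hom_ext (Y.openCoverOfIsOpenCover _
      (.comap (iSup_affineOpens_eq_top S) g.base.hom)) _ _ fun U => ?_
    change (g ⁻¹ᵁ U.1).ι ≫ h₁ = (g ⁻¹ᵁ U.1).ι ≫ h₂
    have e₁ : g ⁻¹ᵁ U.1 ≤ h₁ ⁻¹ᵁ f ⁻¹ᵁ U.1 := by rw [← Scheme.Hom.comp_preimage, w₁]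
    have e₂ : g ⁻¹ᵁ U.1 ≤ h₂ ⁻¹ᵁ f ⁻¹ᵁ U.1 := by rw [← Scheme.Hom.comp_preimage, w₂]
    have key : h₁.appLE (f ⁻¹ᵁ U.1) (g ⁻¹ᵁ U.1) e₁ = h₂.appLE (f ⁻¹ᵁ U.1) (g ⁻¹ᵁ U.1) e₂ :=
      (algHom_app_appLE f g h₁ w₁ U.1 e₁).symm.trans
        ((NatTrans.congr_app e (op U.1)).trans (algHom_app_appLE f g h₂ w₂ U.1 e₂))
    rw [ι_comp_eq h₁ (U.2.preimage f) _ e₁, ι_comp_eq h₂ (U.2.preimage f) _ e₂, key]
  · rintro ⟨ω, hω⟩
    obtain ⟨h, hh⟩ := exists_hom_of_algHom f g ω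
    have hw : h ≫ f = g := by
      refine Scheme.Cover.hom_ext (Y.openCoverOfIsOpenCover _
        (.comap (iSup_affineOpens_eq_top S) g.base.hom)) _ _ fun U => ?_
      change (g ⁻¹ᵁ U.1).ι ≫ h ≫ f = (g ⁻¹ᵁ U.1).ι ≫ g
      rw [← Category.assoc, hh U.1 U.2, Category.assoc, Category.assoc,
        ← IsAffineOpen.SpecMap_appLE_fromSpec f U.2 (U.2.preimage f) le_rfl,
        ← Spec.map_comp_assoc, ← Scheme.Hom.app_eq_appLE, wapp_comm f g ω hω U.1,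
        ← Category.assoc, Scheme.Opens.toSpecΓ_naturality, Category.assoc,
        U.2.toSpecΓ_fromSpec, morphismRestrict_ι]
    refine ⟨⟨h, hw⟩, Subtype.ext ?_⟩
    show AffAlg.algHom f g h hw = ω
    refine TopCat.Sheaf.hom_ext (F := AffAlg.alg f)
      (F' := ⟨AffAlg.alg g, TopCat.Sheaf.pushforward_sheaf_of_sheaf g.base Y.sheaf.property⟩)
      (B := fun U : S.affineOpens => (U : S.Opens))
      (by rw [Subtype.range_coe]; exact S.isBasis_affineOpens) fun U => ?_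
    have e₁ : g ⁻¹ᵁ U.1 ≤ h ⁻¹ᵁ f ⁻¹ᵁ U.1 := by rw [← Scheme.Hom.comp_preimage, hw]
    refine (algHom_app_appLE f g h hw U.1 e₁).trans ?_
    refine specMap_injective_of_toSpecΓ (U.2.preimage f) (g ⁻¹ᵁ U.1) _ (wapp f g ω U.1) ?_
    rw [← ι_comp_eq h (U.2.preimage f) _ e₁]
    exact hh U.1 U.2

end Groth.Agent.Lib.Helper6.AffAlgHom
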