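import Mathlib
import Groth.Prelude.Def_W4bk5brsh7111920

/-!
# Connectedness dimension of a Noetherian space via irreducible components (helper6)
-/

set_option autoImplicit false

namespace Groth.Agent.Lib.Helper6.ConnDim

open TopologicalSpace Set

universe u
variable {T : Type u} [TopologicalSpace T]

theorem dim_mono {Z Z' : Set T} (h : Z ⊆ Z') :
    topologicalKrullDim ↥Z ≤ topologicalKrullDim ↥Z' :=
  (Topology.IsEmbedding.inclusion h).isInducing.topologicalKrullDim_le

theorem connDim_le {Z : Set T} (hZ : IsClosed Z) (hconn : ¬ IsConnected Zᶜ) :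
    LocCoh.connDim T ≤ topologicalKrullDim ↥Z :=
  iInf_le_of_le Z (iInf_le_of_le ⟨hZ, hconn⟩ le_rfl)

theorem not_isConnected_of_disjoint_opens {s u v : Set T} (hu : IsOpen u) (hv : IsOpen v)
    (hsuv : s ⊆ u ∪ v) (hsu : (s ∩ u).Nonempty) (hsv : (s ∩ v).Nonempty)
    (hdisj : s ∩ (u ∩ v) = ∅) : ¬ IsConnected s := by
  rintro ⟨-, hpre⟩
  have h1 := hpre u v hu hv hsuv hsu hsv
  rw [hdisj] at h1
  exact Set.not_nonempty_empty h1

section noeth

variable [NoetherianSpace T]

theorem isClosed_sUnion_of_subset {A : Set (Set T)} (hA : A ⊆ irreducibleComponents T) :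
    IsClosed (⋃₀ A) := by
  rw [Set.sUnion_eq_biUnion]
  exact (NoetherianSpace.finite_irreducibleComponents.subset hA).isClosed_biUnion
    (fun C hC => isClosed_of_mem_irreducibleComponents C (hA hC))

omit [NoetherianSpace T] in
theorem sUnion_union_eq_univ {A B : Set (Set T)} (hAB : A ∪ B = irreducibleComponents T) :
    ⋃₀ A ∪ ⋃₀ B = univ := by
  rw [← Set.sUnion_union, hAB]
  exact eq_univ_of_forall fun x =>
    ⟨irreducibleComponent x, irreducibleComponent_mem_irreducibleComponents x,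
      mem_irreducibleComponent⟩

theorem connDim_le_component {C : Set T} (hC : C ∈ irreducibleComponents T) :
    LocCoh.connDim T ≤ topologicalKrullDim ↥C := by
  classical
  have hCcl : IsClosed C := isClosed_of_mem_irreducibleComponents C hC
  by_cases hCu : C = univ
  · have h1 : ¬ IsConnected ((univ : Set T)ᶜ) := by
      rw [compl_univ]
      exact fun h => Set.not_nonempty_empty h.nonempty
    refine (connDim_le isClosed_univ h1).trans (dim_mono ?_)
    rw [hCu]
  · set R := ⋃₀ (irreducibleComponents T \ {C}) with hR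
    have hRcl : IsClosed R := isClosed_sUnion_of_subset diff_subset
    have hCR : C ∪ R = univ := by
      apply eq_univ_of_forall
      intro x
      by_cases hx : irreducibleComponent x = C
      · left
        rw [← hx]
        exact mem_irreducibleComponent
      · right
        exact ⟨irreducibleComponent x,
          ⟨irreducibleComponent_mem_irreducibleComponents x, hx⟩, mem_irreducibleComponent⟩
    have hCnotR : ¬ C ⊆ R := by
      intro hsub
      have hfin : (irreducibleComponents T \ {C}).Finite :=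
        NoetherianSpace.finite_irreducibleComponents.subset diff_subset
      obtain ⟨w, hw, hCw⟩ := (isIrreducible_iff_sUnion_isClosed.1 hC.1) hfin.toFinset
        (fun w hw => isClosed_of_mem_irreducibleComponents w ((hfin.mem_toFinset.1 hw).1))
        (by rwa [hfin.coe_toFinset])
      rw [hfin.mem_toFinset] at hw
      have hwC : w ⊆ C := hC.2 hw.1.1 hCw
      exact hw.2 (Set.Subset.antisymm hwC hCw)
    have hCcompl : (Cᶜ).Nonempty := by
      rw [Set.nonempty_compl]
      exact hCu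
    have hRcompl : (Rᶜ).Nonempty := by
      rw [Set.nonempty_compl]
      intro hRu
      exact hCnotR (hRu ▸ subset_univ C)
    have hnot : ¬ IsConnected ((C ∩ R)ᶜ) := by
      apply not_isConnected_of_disjoint_opens (u := Cᶜ) (v := Rᶜ) hCcl.isOpen_compl
        hRcl.isOpen_compl
      · rw [Set.compl_inter]
      · obtain ⟨x, hx⟩ := hCcompl
        exact ⟨x, fun h => hx h.1, hx⟩
      · obtain ⟨x, hx⟩ := hRcompl
        exact ⟨x, fun h => hx h.2, hx⟩
      · rw [← Set.compl_union, hCR, compl_univ, inter_empty]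
    exact (connDim_le (hCcl.inter hRcl) hnot).trans (dim_mono inter_subset_left)

theorem connDim_le_pair {A B : Set (Set T)} (hA : A ⊆ irreducibleComponents T)
    (hB : B ⊆ irreducibleComponents T) (hAne : A.Nonempty) (hBne : B.Nonempty)
    (hAB : A ∪ B = irreducibleComponents T) :
    LocCoh.connDim T ≤ topologicalKrullDim ↥(⋃₀ A ∩ ⋃₀ B) := by
  have hAcl := isClosed_sUnion_of_subset hA
  have hBcl := isClosed_sUnion_of_subset hB
  have hU := sUnion_union_eq_univ hAB
  by_cases h1 : ⋃₀ A ⊆ ⋃₀ B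
  · obtain ⟨C, hC⟩ := hAne
    refine (connDim_le_component (hA hC)).trans (dim_mono ?_)
    exact fun x hx => ⟨⟨C, hC, hx⟩, h1 ⟨C, hC, hx⟩⟩
  by_cases h2 : ⋃₀ B ⊆ ⋃₀ A
  · obtain ⟨C, hC⟩ := hBne
    refine (connDim_le_component (hB hC)).trans (dim_mono ?_)
    exact fun x hx => ⟨h2 ⟨C, hC, hx⟩, ⟨C, hC, hx⟩⟩
  obtain ⟨x, hxA, hxB⟩ := Set.not_subset.1 h1
  obtain ⟨y, hyB, hyA⟩ := Set.not_subset.1 h2
  have hnot : ¬ IsConnected ((⋃₀ A ∩ ⋃₀ B)ᶜ) := by
    apply not_isConnected_of_disjoint_opens (u := (⋃₀ A)ᶜ) (v := (⋃₀ B)ᶜ) hAcl.isOpen_compl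
      hBcl.isOpen_compl
    · rw [Set.compl_inter]
    · exact ⟨y, fun h => hyA h.1, hyA⟩
    · exact ⟨x, fun h => hxB h.2, hxB⟩
    · rw [← Set.compl_union, hU, compl_univ, inter_empty]
  exact connDim_le (hAcl.inter hBcl) hnot

end noeth

theorem exists_pair_le [Nonempty T] {Z : Set T} (hZ : IsClosed Z) (hconn : ¬ IsConnected Zᶜ) :
    ∃ A B : Set (Set T), (A ⊆ irreducibleComponents T ∧ B ⊆ irreducibleComponents T ∧
      A.Nonempty ∧ B.Nonempty ∧ A ∪ B = irreducibleComponents T) ∧ ⋃₀ A ∩ ⋃₀ B ⊆ Z := by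
  classical
  by_cases hne : (Zᶜ).Nonempty
  · have hpre : ¬ IsPreconnected Zᶜ := fun h => hconn ⟨hne, h⟩
    unfold IsPreconnected at hpre
    push_neg at hpre
    obtain ⟨u, v, hu, hv, huv, hsu, hsv, hdisj⟩ := hpre
    have hO1 : IsOpen (Zᶜ ∩ u) := hZ.isOpen_compl.inter hu
    have hO2 : IsOpen (Zᶜ ∩ v) := hZ.isOpen_compl.inter hv
    have hO12 : ∀ x, x ∈ Zᶜ ∩ u → x ∈ Zᶜ ∩ v → False := by
      intro x hx1 hx2
      have hmem : x ∈ Zᶜ ∩ (u ∩ v) := ⟨hx1.1, hx1.2, hx2.2⟩
      rw [hdisj] at hmem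
      exact hmem
    have hkey : ∀ C ∈ irreducibleComponents T, C ∩ (Zᶜ ∩ v) = ∅ ∨ C ∩ (Zᶜ ∩ u) = ∅ := by
      intro C hC
      by_contra hcon
      push_neg at hcon
      obtain ⟨x, -, hx1, hx2⟩ := hC.1.isPreirreducible (Zᶜ ∩ u) (Zᶜ ∩ v) hO1 hO2
        hcon.2 hcon.1
      exact hO12 x hx1 hx2
    refine ⟨{C ∈ irreducibleComponents T | C ∩ (Zᶜ ∩ v) = ∅},
      {C ∈ irreducibleComponents T | C ∩ (Zᶜ ∩ u) = ∅},
      ⟨sep_subset _ _, sep_subset _ _, ?_, ?_, ?_⟩, ?_⟩
    · obtain ⟨x, hx⟩ := hsu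
      refine ⟨irreducibleComponent x, irreducibleComponent_mem_irreducibleComponents x, ?_⟩
      rcases hkey _ (irreducibleComponent_mem_irreducibleComponents x) with h | h
      · exact h
      · exfalso
        have : x ∈ irreducibleComponent x ∩ (Zᶜ ∩ u) := ⟨mem_irreducibleComponent, hx⟩
        rw [h] at this
        exact this
    · obtain ⟨x, hx⟩ := hsv
      refine ⟨irreducibleComponent x, irreducibleComponent_mem_irreducibleComponents x, ?_⟩
      rcases hkey _ (irreducibleComponent_mem_irreducibleComponents x) with h | h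
      · exfalso
        have : x ∈ irreducibleComponent x ∩ (Zᶜ ∩ v) := ⟨mem_irreducibleComponent, hx⟩
        rw [h] at this
        exact this
      · exact h
    · ext C
      constructor
      · rintro (h | h)
        · exact h.1
        · exact h.1
      · intro hC
        rcases hkey C hC with h | h
        · exact Or.inl ⟨hC, h⟩
        · exact Or.inr ⟨hC, h⟩
    · rintro x ⟨⟨C, hC, hxC⟩, ⟨C', hC', hxC'⟩⟩
      by_contra hxZ
      rcases huv hxZ with hxu | hxv
      · have : x ∈ C' ∩ (Zᶜ ∩ u) := ⟨hxC', hxZ, hxu⟩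
        rw [hC'.2] at this
        exact this
      · have : x ∈ C ∩ (Zᶜ ∩ v) := ⟨hxC, hxZ, hxv⟩
        rw [hC.2] at this
        exact this
  · obtain ⟨x0⟩ := (inferInstance : Nonempty T)
    have hcomp : (irreducibleComponents T).Nonempty :=
      ⟨irreducibleComponent x0, irreducibleComponent_mem_irreducibleComponents x0⟩
    refine ⟨irreducibleComponents T, irreducibleComponents T,
      ⟨subset_rfl, subset_rfl, hcomp, hcomp, union_self _⟩, ?_⟩
    have hZu : Z = univ := by
      rwa [Set.not_nonempty_iff_eq_empty, Set.compl_empty_iff] at hne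
    rw [hZu]
    exact subset_univ _

theorem connDim_eq [NoetherianSpace T] [Nonempty T] :
    LocCoh.connDim T = ⨅ (A : Set (Set T)) (B : Set (Set T))
      (_ : A ⊆ irreducibleComponents T ∧ B ⊆ irreducibleComponents T ∧ A.Nonempty ∧ B.Nonempty ∧
        A ∪ B = irreducibleComponents T), topologicalKrullDim ↥(⋃₀ A ∩ ⋃₀ B) := by
  apply le_antisymm
  · refine le_iInf fun A => le_iInf fun B => le_iInf fun h => ?_
    exact connDim_le_pair h.1 h.2.1 h.2.2.1 h.2.2.2.1 h.2.2.2.2
  · unfold LocCoh.connDim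
    refine le_iInf fun Z => le_iInf fun hZ => ?_
    obtain ⟨A, B, hAB, hsub⟩ := exists_pair_le hZ.1 hZ.2
    exact iInf_le_of_le A (iInf_le_of_le B (iInf_le_of_le hAB (dim_mono hsub)))

end Groth.Agent.Lib.Helper6.ConnDim
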