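import Mathlib
import Groth.Prelude.Def_W4bk5brsh7111920
import Groth.Agent.Lib.Helper6.ConnDim
import Groth.Agent.Lib.Helper9.TopDim

/-!
# Connectedness dimension versus subdimension; two minimal primes (helper6)
-/

set_option autoImplicit false

namespace Groth.Agent.Lib.Helper6.ConnDim2

open TopologicalSpace Set Topology

universe u
variable {T : Type u} [TopologicalSpace T]

/-- A proper closed subset of an irreducible finite-dimensional subset has smaller dimension. -/
theorem dim_lt_of_ssubset {C Z : Set T} (hC : IsIrreducible C) (hZ : IsClosed Z) (hZC : Z ⊆ C)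
    (hne : Z ≠ C) (hfin : topologicalKrullDim ↥C ≠ ⊤) :
    topologicalKrullDim ↥Z < topologicalKrullDim ↥C := by
  haveI : IrreducibleSpace ↥C := isIrreducible_iff_irreducibleSpace.mp hC
  let Y : Set ↥C := Subtype.val ⁻¹' Z
  have hY : IsClosed Y := hZ.preimage continuous_subtype_val
  have hYne : Y ≠ Set.univ := by
    intro h
    apply hne
    apply Set.Subset.antisymm hZC
    intro x hx
    have h2 : (⟨x, hx⟩ : ↥C) ∈ Y := by rw [h]; trivial
    exact h2
  have h1 := Groth.Agent.Lib.Helper9.topologicalKrullDim_lt_of_isClosed_of_ne_univ hfin Y hY hYne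
  refine lt_of_le_of_lt ?_ h1
  let f : ↥Z → ↥Y := fun z => ⟨⟨z.1, hZC z.2⟩, z.2⟩
  have hfc : Continuous f :=
    Continuous.subtype_mk (Continuous.subtype_mk continuous_subtype_val _) _
  have hgc : Continuous (fun y : ↥Y => (y.1.1 : T)) :=
    continuous_subtype_val.comp continuous_subtype_val
  have hf : IsInducing f := by
    refine IsInducing.of_comp hfc hgc ?_
    exact IsInducing.subtypeVal
  exact hf.topologicalKrullDim_le

theorem connDim_le_subdim [NoetherianSpace T] : LocCoh.connDim T ≤ LocCoh.subdim T := by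
  unfold LocCoh.subdim
  exact le_iInf fun C => le_iInf fun hC => ConnDim.connDim_le_component hC

theorem connDim_eq_subdim_of_irreducible [NoetherianSpace T] [IrreducibleSpace T] :
    LocCoh.connDim T = LocCoh.subdim T := by
  apply le_antisymm connDim_le_subdim
  unfold LocCoh.connDim
  refine le_iInf fun Z => le_iInf fun hZ => ?_
  have hZu : Z = univ := by
    by_contra hne
    apply hZ.2
    have hne' : (Zᶜ).Nonempty := Set.nonempty_compl.mpr hne
    have hirr : IsPreirreducible (Zᶜ) :=
      (PreirreducibleSpace.isPreirreducible_univ (X := T)).open_subset hZ.1.isOpen_compl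
        (subset_univ _)
    exact ⟨hne', hirr.isPreconnected⟩
  rw [hZu]
  unfold LocCoh.subdim
  refine iInf_le_of_le univ (iInf_le_of_le ?_ le_rfl)
  rw [irreducibleComponents_eq_singleton]
  rfl

theorem main_subdim [NoetherianSpace T] [Nonempty T] (hfin : topologicalKrullDim T < ⊤) :
    LocCoh.connDim T ≤ LocCoh.subdim T ∧
      (LocCoh.connDim T = LocCoh.subdim T ↔ IrreducibleSpace T) := by
  classical
  refine ⟨connDim_le_subdim, ⟨fun heq => ?_, fun h => connDim_eq_subdim_of_irreducible⟩⟩
  by_contra hirr
  have hSfin : (irreducibleComponents T).Finite := NoetherianSpace.finite_irreducibleComponents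
  have hSne : (irreducibleComponents T).Nonempty :=
    ⟨irreducibleComponent (Classical.arbitrary T), irreducibleComponent_mem_irreducibleComponents _⟩
  obtain ⟨C, hC, hCmin⟩ := Set.exists_min_image (irreducibleComponents T)
    (fun Z : Set T => topologicalKrullDim ↥Z) hSfin hSne
  have hsub : LocCoh.subdim T = topologicalKrullDim ↥C := by
    unfold LocCoh.subdim
    exact le_antisymm (iInf_le_of_le C (iInf_le_of_le hC le_rfl))
      (le_iInf fun b => le_iInf fun hb => hCmin b hb)
  have hCfin : topologicalKrullDim ↥C ≠ ⊤ :=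
    ne_of_lt (lt_of_le_of_lt (topologicalKrullDim_subspace_le T C) hfin)
  set B : Set (Set T) := irreducibleComponents T \ {C} with hB
  have hBne : B.Nonempty := by
    by_contra hBe
    rw [Set.not_nonempty_iff_eq_empty] at hBe
    apply hirr
    rw [irreducibleSpace_def]
    have hCu : C = univ := by
      apply eq_univ_of_forall
      intro x
      have hx : irreducibleComponent x ∈ irreducibleComponents T :=
        irreducibleComponent_mem_irreducibleComponents x
      have hxC : irreducibleComponent x = C := by
        by_contra hxne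
        have : irreducibleComponent x ∈ B := ⟨hx, hxne⟩
        rw [hBe] at this
        exact this
      rw [← hxC]
      exact mem_irreducibleComponent
    rw [Set.top_eq_univ, ← hCu]
    exact hC.1
  have hle : LocCoh.connDim T ≤ topologicalKrullDim ↥(⋃₀ {C} ∩ ⋃₀ B) := by
    apply ConnDim.connDim_le_pair (A := {C}) (B := B)
    · exact Set.singleton_subset_iff.mpr hC
    · exact Set.sdiff_subset
    · exact Set.singleton_nonempty C
    · exact hBne
    · rw [hB, Set.union_sdiff_self, Set.union_eq_self_of_subset_left]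
      exact Set.singleton_subset_iff.mpr hC
  rw [Set.sUnion_singleton] at hle
  have hRcl : IsClosed (⋃₀ B) := ConnDim.isClosed_sUnion_of_subset Set.sdiff_subset
  have hCcl : IsClosed C := isClosed_of_mem_irreducibleComponents C hC
  have hCnotR : ¬ C ⊆ ⋃₀ B := by
    intro hsub'
    have hfinB : B.Finite := hSfin.subset Set.sdiff_subset
    obtain ⟨w, hw, hCw⟩ := (isIrreducible_iff_sUnion_isClosed.1 hC.1) hfinB.toFinset
      (fun w hw => isClosed_of_mem_irreducibleComponents w ((hfinB.mem_toFinset.1 hw).1))
      (by rwa [hfinB.coe_toFinset])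
    rw [hfinB.mem_toFinset] at hw
    have hwC : w ⊆ C := hC.2 hw.1.1 hCw
    exact hw.2 (Set.Subset.antisymm hwC hCw)
  have hlt : topologicalKrullDim ↥(C ∩ ⋃₀ B) < topologicalKrullDim ↥C := by
    apply dim_lt_of_ssubset hC.1 (hCcl.inter hRcl) Set.inter_subset_left _ hCfin
    intro h
    apply hCnotR
    rw [← h]
    exact Set.inter_subset_right
  rw [heq, hsub] at hle
  exact absurd (lt_of_le_of_lt hle hlt) (lt_irrefl _)

section spec

variable (R : Type u) [CommRing R]

theorem dim_zeroLocus (I : Ideal R) :
    topologicalKrullDim ↥(PrimeSpectrum.zeroLocus (I : Set R)) = ringKrullDim (R ⧸ I) := by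
  rw [← PrimeSpectrum.topologicalKrullDim_eq_ringKrullDim]
  have hemb := PrimeSpectrum.isClosedEmbedding_comap_of_surjective (R ⧸ I) (Ideal.Quotient.mk I)
    Ideal.Quotient.mk_surjective
  have hrange : Set.range (PrimeSpectrum.comap (Ideal.Quotient.mk I)) =
      PrimeSpectrum.zeroLocus (I : Set R) := by
    rw [_root_.range_comap_of_surjective _ _ Ideal.Quotient.mk_surjective, Ideal.mk_ker]
  rw [← hrange]
  exact (IsHomeomorph.topologicalKrullDim_eq _ hemb.isEmbedding.toHomeomorph.isHomeomorph).symm

theorem connDim_spec_two [IsNoetherianRing R] (p q : Ideal R) (hmin : minimalPrimes R = {p, q}) :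
    LocCoh.connDim (PrimeSpectrum R) = ringKrullDim (R ⧸ (p ⊔ q)) := by
  have hp : p ∈ minimalPrimes R := by rw [hmin]; exact Set.mem_insert _ _
  haveI : p.IsPrime := hp.1.1
  haveI : Nonempty (PrimeSpectrum R) := ⟨⟨p, inferInstance⟩⟩
  have hcomps : irreducibleComponents (PrimeSpectrum R) =
      {PrimeSpectrum.zeroLocus (p : Set R), PrimeSpectrum.zeroLocus (q : Set R)} := by
    rw [← PrimeSpectrum.zeroLocus_minimalPrimes, hmin, Set.image_pair]
    rfl
  rw [← dim_zeroLocus, PrimeSpectrum.zeroLocus_sup, ConnDim.connDim_eq]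
  apply le_antisymm
  · refine iInf_le_of_le {PrimeSpectrum.zeroLocus (p : Set R)}
      (iInf_le_of_le {PrimeSpectrum.zeroLocus (q : Set R)} (iInf_le_of_le ?_ ?_))
    · rw [hcomps]
      refine ⟨?_, ?_, Set.singleton_nonempty _, Set.singleton_nonempty _, ?_⟩
      · exact Set.singleton_subset_iff.mpr (Set.mem_insert _ _)
      · exact Set.singleton_subset_iff.mpr (Set.mem_insert_of_mem _ rfl)
      · rfl
    · rw [Set.sUnion_singleton, Set.sUnion_singleton]
  · refine le_iInf fun A => le_iInf fun B => le_iInf fun h => ?_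
    apply ConnDim.dim_mono
    obtain ⟨hA, hB, ⟨a, ha⟩, ⟨b, hb⟩, -⟩ := h
    rintro x ⟨hxp, hxq⟩
    refine ⟨⟨a, ha, ?_⟩, ⟨b, hb, ?_⟩⟩
    · have := hA ha
      rw [hcomps] at this
      rcases this with rfl | rfl
      · exact hxp
      · exact hxq
    · have := hB hb
      rw [hcomps] at this
      rcases this with rfl | rfl
      · exact hxp
      · exact hxq

end spec

end Groth.Agent.Lib.Helper6.ConnDim2
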