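import Mathlib

/-!
# Étale neighbourhoods with prescribed residue field extension (helper6)

For a point `s` of a scheme `S` and a finite separable extension `k` of `κ(s)` there is an étale
neighbourhood `(U, u) ⟶ (S, s)` with `κ(u) ≅ k` over `κ(s)`: take an affine open `Spec A ∋ s`, a
primitive element of `k` whose minimal polynomial has coefficients in the image of `A`, and the
standard étale algebra `(A[X]/F)[1/F']`.
-/

set_option autoImplicit false
universe u
open CategoryTheory AlgebraicGeometry Polynomial IntermediateField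

namespace Groth.Agent.Lib.Helper6.EtaleNbhd

/-- A finite set of elements of the residue field at `s` has a common denominator coming from an
affine open neighbourhood. -/
theorem exists_common_denominator {S : Scheme.{u}} {W : S.Opens} (hW : IsAffineOpen W) (s : S)
    (hs : s ∈ W) (t : Finset (S.residueField s)) :
    ∃ b : Γ(S, W), (S.evaluation W s hs).hom b ≠ 0 ∧
      ∀ c ∈ t, ∃ a : Γ(S, W), c * (S.evaluation W s hs).hom b = (S.evaluation W s hs).hom a := by
  classical
  letI : Algebra Γ(S, W) (S.presheaf.stalk s) :=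
    TopCat.Presheaf.algebra_section_stalk S.presheaf ⟨s, hs⟩
  haveI : IsLocalization.AtPrime (S.presheaf.stalk s) (hW.primeIdealOf ⟨s, hs⟩).asIdeal :=
    hW.isLocalization_stalk ⟨s, hs⟩
  have hsurj : Function.Surjective (S.residue s).hom := S.residue_surjective s
  obtain ⟨b, hb⟩ := IsLocalization.exist_integer_multiples_of_finset
    (hW.primeIdealOf ⟨s, hs⟩).asIdeal.primeCompl (t.image (Function.surjInv hsurj))
  have hev : ∀ a : Γ(S, W), (S.evaluation W s hs).hom a =
      (S.residue s).hom (algebraMap Γ(S, W) (S.presheaf.stalk s) a) := fun a => rfl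
  refine ⟨b.1, ?_, ?_⟩
  · rw [hev]
    have hu : IsUnit (algebraMap Γ(S, W) (S.presheaf.stalk s) b.1) :=
      IsLocalization.map_units (S.presheaf.stalk s) b
    exact (hu.map (S.residue s).hom).ne_zero
  · intro c hc
    obtain ⟨a, ha⟩ := hb (Function.surjInv hsurj c) (Finset.mem_image_of_mem _ hc)
    refine ⟨a, ?_⟩
    have ha' : algebraMap Γ(S, W) (S.presheaf.stalk s) a =
        algebraMap Γ(S, W) (S.presheaf.stalk s) b.1 * Function.surjInv hsurj c := by
      rw [← Algebra.smul_def]
      exact ha
    rw [hev, hev, ha', map_mul, Function.surjInv_eq hsurj c, mul_comm]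

theorem exists_etale_nbhd (S : Scheme.{u}) (s : S) (k : Type u) [Field k]
    [Algebra (S.residueField s) k] [FiniteDimensional (S.residueField s) k]
    [Algebra.IsSeparable (S.residueField s) k] :
    ∃ (U : Scheme.{u}) (g : U ⟶ S) (u : U) (hu : g u = s), Etale g ∧
      letI := ((S.residueFieldCongr hu).inv ≫ g.residueFieldMap u).hom.toAlgebra
      Nonempty (k ≃ₐ[S.residueField s] U.residueField u) := by
  classical
  obtain ⟨_, ⟨W, hW, rfl⟩, hsW, -⟩ := S.isBasis_affineOpens.exists_subset_of_mem_open
    (Set.mem_univ s) isOpen_univ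
  have hsW' : s ∈ W := hsW
  set ev : Γ(S, W) →+* S.residueField s := (S.evaluation W s hsW').hom with hevdef
  -- a primitive element
  obtain ⟨θ₀, hθ₀⟩ := Field.exists_primitive_element (S.residueField s) k
  have hint₀ : IsIntegral (S.residueField s) θ₀ := Algebra.IsIntegral.isIntegral θ₀
  set m₀ := minpoly (S.residueField s) θ₀ with hm₀
  have hm₀monic : m₀.Monic := minpoly.monic hint₀
  obtain ⟨b₀, hb₀, hden⟩ := exists_common_denominator hW s hsW' m₀.coeffs
  set d : S.residueField s := ev b₀ with hd
  have hd0 : d ≠ 0 := hb₀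
  have hcoeff : ∀ i : ℕ, ∃ a : Γ(S, W), m₀.coeff i * d = ev a := by
    intro i
    by_cases hi : m₀.coeff i = 0
    · exact ⟨0, by rw [hi, zero_mul, map_zero]⟩
    · exact hden _ (Polynomial.coeff_mem_coeffs hi)
  set θ : k := algebraMap (S.residueField s) k d * θ₀ with hθ
  -- the scaled polynomial
  set Fbar := scaleRoots m₀ d with hFbar
  have hFbarmonic : Fbar.Monic := (monic_scaleRoots_iff d).2 hm₀monic
  have hroot : aeval θ Fbar = 0 := scaleRoots_aeval_eq_zero (minpoly.aeval _ θ₀)
  have hlifts : Fbar ∈ lifts ev := by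
    rw [lifts_iff_coeff_lifts]
    intro i
    rw [hFbar, coeff_scaleRoots]
    rcases lt_trichotomy i m₀.natDegree with hi | hi | hi
    · obtain ⟨a, ha⟩ := hcoeff i
      obtain ⟨e, he⟩ : ∃ e, m₀.natDegree - i = e + 1 := ⟨m₀.natDegree - i - 1, by omega⟩
      refine ⟨a * b₀ ^ e, ?_⟩
      rw [map_mul, map_pow, ← ha, he, pow_succ]
      ring
    · refine ⟨1, ?_⟩
      rw [hi, Nat.sub_self, pow_zero, mul_one, map_one]
      exact hm₀monic.symm
    · refine ⟨0, ?_⟩
      rw [map_zero, coeff_eq_zero_of_natDegree_lt hi, zero_mul]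
  obtain ⟨F, hFmap, -, hFmonic⟩ := lifts_and_natDegree_eq_and_monic hlifts hFbarmonic
  -- `θ` is primitive, so `Fbar` is its minimal polynomial
  have hint : IsIntegral (S.residueField s) θ := Algebra.IsIntegral.isIntegral θ
  have hθtop : (S.residueField s)⟮θ⟯ = ⊤ := by
    rw [eq_top_iff, ← hθ₀, adjoin_simple_le_iff]
    have h1 : θ₀ = algebraMap (S.residueField s) k d⁻¹ * θ := by
      rw [hθ, ← mul_assoc, ← map_mul, inv_mul_cancel₀ hd0, map_one, one_mul]
    rw [h1]
    exact mul_mem (IntermediateField.algebraMap_mem _ _) (mem_adjoin_simple_self _ θ)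
  have hdeg : Fbar.natDegree = (minpoly (S.residueField s) θ).natDegree := by
    have h1 := IntermediateField.adjoin.finrank hint
    have h2 := IntermediateField.adjoin.finrank hint₀
    rw [hθtop] at h1
    rw [hθ₀] at h2
    rw [hFbar, natDegree_scaleRoots, ← h1, ← h2]
  have hFbar_eq : Fbar = minpoly (S.residueField s) θ :=
    eq_of_monic_of_dvd_of_natDegree_le (minpoly.monic hint) hFbarmonic
      (minpoly.dvd _ θ hroot) hdeg.le
  have hsep : Fbar.Separable := by
    rw [hFbar_eq]
    exact Algebra.IsSeparable.isSeparable (S.residueField s) θ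
  have hder : aeval θ (derivative Fbar) ≠ 0 := hsep.aeval_derivative_ne_zero hroot
  -- the standard étale algebra
  letI algAk : Algebra Γ(S, W) k := ((algebraMap (S.residueField s) k).comp ev).toAlgebra
  have halg : algebraMap Γ(S, W) k = (algebraMap (S.residueField s) k).comp ev := rfl
  have hF0 : aeval θ F = 0 := by
    rw [aeval_def, halg, ← eval₂_map, hFmap, ← aeval_def]
    exact hroot
  have hF1 : aeval θ (derivative F) ≠ 0 := by
    rw [aeval_def, halg, ← eval₂_map, ← derivative_map, hFmap, ← aeval_def]
    exact hder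
  let P : StandardEtalePair Γ(S, W) :=
    { f := F
      monic_f := hFmonic
      g := derivative F
      cond := ⟨1, 0, 1, by rw [mul_one, mul_zero, add_zero, pow_one]⟩ }
  have hmap : P.HasMap θ := ⟨hF0, isUnit_iff_ne_zero.2 hF1⟩
  set ψ : P.Ring →ₐ[Γ(S, W)] k := P.lift θ hmap with hψ
  have hψX : ψ P.X = θ := P.lift_X θ hmap
  -- the scheme
  haveI hEt : Etale (Spec.map (CommRingCat.ofHom (algebraMap Γ(S, W) P.Ring))) := by
    rw [HasRingHomProperty.Spec_iff (P := @Etale)]
    exact RingHom.etale_algebraMap.2 inferInstance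
  set g : Spec (CommRingCat.of P.Ring) ⟶ S :=
    Spec.map (CommRingCat.ofHom (algebraMap Γ(S, W) P.Ring)) ≫ hW.fromSpec with hg
  have hgEt : Etale g := inferInstance
  set t : Spec (CommRingCat.of k) ⟶ Spec (CommRingCat.of P.Ring) :=
    Spec.map (CommRingCat.ofHom ψ.toRingHom) with ht
  have hevfrom : Spec.map (S.evaluation W s hsW') ≫ hW.fromSpec = S.fromSpecResidueField s := by
    have h1 : Spec.map (S.evaluation W s hsW') =
        Spec.map (S.residue s) ≫ Spec.map (S.presheaf.germ W s hsW') := by
      rw [← Spec.map_comp]; rfl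
    rw [h1, Category.assoc]
    have h2 : Spec.map (S.presheaf.germ W s hsW') ≫ hW.fromSpec = S.fromSpecStalk s :=
      hW.fromSpecStalk_eq_fromSpecStalk hsW'
    rw [h2]
    rfl
  have htg : t ≫ g = Spec.map (CommRingCat.ofHom (algebraMap (S.residueField s) k)) ≫
      S.fromSpecResidueField s := by
    have h1 : CommRingCat.ofHom (algebraMap Γ(S, W) P.Ring) ≫ CommRingCat.ofHom ψ.toRingHom =
        S.evaluation W s hsW' ≫ CommRingCat.ofHom (algebraMap (S.residueField s) k) := by
      apply CommRingCat.hom_ext
      apply RingHom.ext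
      intro a
      exact ψ.commutes a
    rw [ht, hg, ← Category.assoc, ← Spec.map_comp, h1, Spec.map_comp, Category.assoc, hevfrom]
    rfl
  set u : Spec (CommRingCat.of P.Ring) := t.base (IsLocalRing.closedPoint k) with hudef
  have hu : g.base u = s := by
    have h1 : g.base u = (t ≫ g).base (IsLocalRing.closedPoint k) := rfl
    rw [h1, htg]
    exact Scheme.fromSpecResidueField_apply s _
  -- the residue field
  set j : (Spec (CommRingCat.of P.Ring)).residueField u ⟶ CommRingCat.of k :=
    Scheme.descResidueField (Scheme.stalkClosedPointTo t) with hj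
  have hE1 : g.residueFieldMap u ≫ j =
      (S.residueFieldCongr hu).hom ≫ CommRingCat.ofHom (algebraMap (S.residueField s) k) := by
    have h1 : Scheme.descResidueField (Scheme.stalkClosedPointTo (t ≫ g)) =
        g.residueFieldMap u ≫ j := Scheme.descResidueField_stalkClosedPointTo_comp g t
    have h2 : Scheme.SpecToEquivOfField k S (t ≫ g) =
        ⟨s, CommRingCat.ofHom (algebraMap (S.residueField s) k)⟩ := by
      rw [htg]
      exact (Scheme.SpecToEquivOfField k S).apply_symm_apply
        ⟨s, CommRingCat.ofHom (algebraMap (S.residueField s) k)⟩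
    rw [Scheme.SpecToEquivOfField_eq_iff] at h2
    obtain ⟨e, he⟩ := h2
    exact h1.symm.trans he
  have hE2 : CommRingCat.ofHom ψ.toRingHom =
      (CommRingCat.ofHom (algebraMap P.Ring u.asIdeal.ResidueField) ≫
        (Scheme.Spec.residueFieldIso (CommRingCat.of P.Ring) u).inv) ≫ j := by
    apply Spec.map_injective
    have h1 : Spec.map j ≫ (Spec (CommRingCat.of P.Ring)).fromSpecResidueField u = t :=
      Scheme.descResidueField_stalkClosedPointTo_fromSpecResidueField k _ t
    have h2 := Scheme.Spec.map_residueFieldIso_inv_eq_fromSpecResidueField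
      (CommRingCat.of P.Ring) u
    rw [Spec.map_comp, Spec.map_comp, h2, h1]
  letI algKu : Algebra (S.residueField s) ((Spec (CommRingCat.of P.Ring)).residueField u) :=
    ((S.residueFieldCongr hu).inv ≫ g.residueFieldMap u).hom.toAlgebra
  have hcomm : ((S.residueFieldCongr hu).inv ≫ g.residueFieldMap u) ≫ j =
      CommRingCat.ofHom (algebraMap (S.residueField s) k) := by
    rw [Category.assoc, hE1, Iso.inv_hom_id_assoc]
    rfl
  let Jalg : (Spec (CommRingCat.of P.Ring)).residueField u →ₐ[S.residueField s] k :=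
    { j.hom with
      commutes' := fun c => congrArg (fun φ => φ.hom c) hcomm }
  have hθmem : θ ∈ Jalg.fieldRange := by
    refine ⟨(CommRingCat.ofHom (algebraMap P.Ring u.asIdeal.ResidueField) ≫
        (Scheme.Spec.residueFieldIso (CommRingCat.of P.Ring) u).inv).hom P.X, ?_⟩
    have h1 := congrArg (fun φ => φ.hom P.X) hE2
    rw [← hψX]
    exact h1.symm
  have hrange : Jalg.fieldRange = ⊤ := by
    rw [eq_top_iff, ← hθtop, adjoin_simple_le_iff]
    exact hθmem
  have hbij : Function.Bijective Jalg := by
    refine ⟨Jalg.toRingHom.injective, fun y => ?_⟩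
    have hy : y ∈ Jalg.fieldRange := by rw [hrange]; exact IntermediateField.mem_top
    exact hy
  exact ⟨Spec (CommRingCat.of P.Ring), g, u, hu, hgEt, ⟨(AlgEquiv.ofBijective Jalg hbij).symm⟩⟩

end Groth.Agent.Lib.Helper6.EtaleNbhd
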