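import Mathlib

/-!
# Fredholm index of linear maps over a field: additivity under composition, invariance under
base change along a field extension and under composition with equivalences.
-/

namespace Groth.Agent.Lib.Helper6.CartierEq

open Module TensorProduct

section Fred

variable {L : Type*} [Field L] {U V W X : Type*} [AddCommGroup U] [Module L U]
  [AddCommGroup V] [Module L V] [AddCommGroup W] [Module L W] [AddCommGroup X] [Module L X]

/-- `f` has finite-dimensional kernel and cokernel, and `dim coker f - dim ker f = n`. -/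
def Fred (f : V →ₗ[L] W) (n : ℤ) : Prop :=
  Module.Finite L (LinearMap.ker f) ∧ Module.Finite L (W ⧸ LinearMap.range f) ∧
    (finrank L (W ⧸ LinearMap.range f) : ℤ) - finrank L (LinearMap.ker f) = n

theorem Fred.unique {f : V →ₗ[L] W} {n m : ℤ} (h1 : Fred f n) (h2 : Fred f m) : n = m := by
  rw [← h1.2.2, ← h2.2.2]

theorem Fred.comp_equiv {f : V →ₗ[L] W} {n : ℤ} (h : Fred f n) (e : U ≃ₗ[L] V) :
    Fred (f ∘ₗ e.toLinearMap) n := by
  obtain ⟨h1, h2, h3⟩ := h
  have hr : LinearMap.range (f ∘ₗ e.toLinearMap) = LinearMap.range f := LinearEquiv.range_comp e f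
  have hk : LinearMap.ker (f ∘ₗ e.toLinearMap) = Submodule.comap e.toLinearMap (LinearMap.ker f) :=
    LinearMap.ker_comp _ _
  unfold Fred
  rw [hr, hk]
  have e' := e.ofSubmodule' (LinearMap.ker f)
  exact ⟨Module.Finite.equiv e'.symm, h2, by rw [e'.finrank_eq]; exact h3⟩

theorem Fred.comp {f : V →ₗ[L] W} {g : W →ₗ[L] X} {n m : ℤ} (hf : Fred f n) (hg : Fred g m) :
    Fred (g ∘ₗ f) (n + m) := by
  obtain ⟨fA, fWR, hn⟩ := hf
  obtain ⟨fC, fXT, hm⟩ := hg
  have hr : LinearMap.range (g ∘ₗ f) = Submodule.map g (LinearMap.range f) := LinearMap.range_comp f g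
  have hk : LinearMap.ker (g ∘ₗ f) = Submodule.comap f (LinearMap.ker g) := LinearMap.ker_comp f g
  unfold Fred
  rw [hr, hk]
  -- (α) the kernel
  let f' : ↥(Submodule.comap f (LinearMap.ker g)) →ₗ[L] W :=
    f ∘ₗ (Submodule.comap f (LinearMap.ker g)).subtype
  have hrf' : LinearMap.range f' = LinearMap.range f ⊓ LinearMap.ker g := by
    rw [LinearMap.range_comp, Submodule.range_subtype, Submodule.map_comap_eq]
  have hkf' : LinearMap.ker f' =
      Submodule.comap (Submodule.comap f (LinearMap.ker g)).subtype (LinearMap.ker f) :=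
    LinearMap.ker_comp _ _
  have hle : LinearMap.ker f ≤ Submodule.comap f (LinearMap.ker g) := by
    intro x hx
    rw [Submodule.mem_comap, LinearMap.mem_ker.mp hx]
    exact Submodule.zero_mem _
  have eK := Submodule.comapSubtypeEquivOfLe hle
  have fRC : Module.Finite L ↥(LinearMap.range f ⊓ LinearMap.ker g) :=
    Module.Finite.of_injective (Submodule.inclusion inf_le_right) (Submodule.inclusion_injective _)
  have fkf' : Module.Finite L (LinearMap.ker f') := by
    rw [hkf']; exact Module.Finite.equiv eK.symm
  have frf' : Module.Finite L (LinearMap.range f') := by rw [hrf']; exact fRC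
  have fB : Module.Finite L ↥(Submodule.comap f (LinearMap.ker g)) := by
    have : Module.Finite L (↥(Submodule.comap f (LinearMap.ker g)) ⧸ LinearMap.ker f') :=
      Module.Finite.equiv f'.quotKerEquivRange.symm
    exact Module.Finite.of_submodule_quotient (LinearMap.ker f')
  have eq1 := LinearMap.finrank_range_add_finrank_ker f'
  rw [hrf', hkf', eK.finrank_eq] at eq1
  -- (β) the induced map on cokernels
  have hRS : LinearMap.range f ≤ Submodule.comap g (Submodule.map g (LinearMap.range f)) :=
    Submodule.le_comap_map _ _
  let gt : (W ⧸ LinearMap.range f) →ₗ[L] (X ⧸ Submodule.map g (LinearMap.range f)) :=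
    (LinearMap.range f).mapQ _ g hRS
  have hrg : LinearMap.range gt =
      Submodule.map (Submodule.map g (LinearMap.range f)).mkQ (LinearMap.range g) :=
    Submodule.range_mapQ _ _ _ _
  have hkg : LinearMap.ker gt = Submodule.map (LinearMap.range f).mkQ (LinearMap.ker g) := by
    show LinearMap.ker ((LinearMap.range f).liftQ _ _) = _
    rw [Submodule.ker_liftQ, LinearMap.ker_comp, Submodule.ker_mkQ, Submodule.comap_map_eq,
      Submodule.map_sup, Submodule.mkQ_map_self, bot_sup_eq]
  have eq3 := LinearMap.finrank_range_add_finrank_ker gt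
  rw [hrg, hkg] at eq3
  -- the map `ker g → W / range f`
  let h' : ↥(LinearMap.ker g) →ₗ[L] (W ⧸ LinearMap.range f) :=
    (LinearMap.range f).mkQ ∘ₗ (LinearMap.ker g).subtype
  have hrh' : LinearMap.range h' = Submodule.map (LinearMap.range f).mkQ (LinearMap.ker g) := by
    rw [LinearMap.range_comp, Submodule.range_subtype]
  have hkh' : LinearMap.ker h' =
      Submodule.comap (LinearMap.ker g).subtype (LinearMap.range f ⊓ LinearMap.ker g) := by
    rw [LinearMap.ker_comp, Submodule.ker_mkQ, Submodule.comap_inf, Submodule.comap_subtype_self,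
      inf_top_eq]
  have eK2 := Submodule.comapSubtypeEquivOfLe
    (inf_le_right : LinearMap.range f ⊓ LinearMap.ker g ≤ LinearMap.ker g)
  have eq2 := LinearMap.finrank_range_add_finrank_ker h'
  rw [hrh', hkh', eK2.finrank_eq] at eq2
  -- (γ) third isomorphism theorem
  have hST : Submodule.map g (LinearMap.range f) ≤ LinearMap.range g := by
    rintro _ ⟨y, -, rfl⟩
    exact LinearMap.mem_range_self g y
  have e3 := Submodule.quotientQuotientEquivQuotient (Submodule.map g (LinearMap.range f))
    (LinearMap.range g) hST
  have fsub : Module.Finite L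
      ↥(Submodule.map (Submodule.map g (LinearMap.range f)).mkQ (LinearMap.range g)) := by
    rw [← hrg]; infer_instance
  have fXS : Module.Finite L (X ⧸ Submodule.map g (LinearMap.range f)) := by
    have : Module.Finite L ((X ⧸ Submodule.map g (LinearMap.range f)) ⧸
        Submodule.map (Submodule.map g (LinearMap.range f)).mkQ (LinearMap.range g)) :=
      Module.Finite.equiv e3.symm
    exact Module.Finite.of_submodule_quotient
      (Submodule.map (Submodule.map g (LinearMap.range f)).mkQ (LinearMap.range g))
  have eq4 := Submodule.finrank_quotient_add_finrank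
    (Submodule.map (Submodule.map g (LinearMap.range f)).mkQ (LinearMap.range g))
  rw [e3.finrank_eq] at eq4
  refine ⟨fB, fXS, ?_⟩
  omega

end Fred

section BaseChange

variable {F : Type*} [Field F] (L : Type*) [Field L] [Algebra F L]
  {V W : Type*} [AddCommGroup V] [Module F V] [AddCommGroup W] [Module F W]

theorem Fred.baseChange {f : V →ₗ[F] W} {n : ℤ} (h : Fred f n) : Fred (f.baseChange L) n := by
  obtain ⟨h1, h2, h3⟩ := h
  -- kernel
  have hex1 : Function.Exact ((LinearMap.ker f).subtype.baseChange L) (f.baseChange L) :=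
    Module.Flat.lTensor_exact L (LinearMap.exact_subtype_ker_map f)
  have hinj : Function.Injective ((LinearMap.ker f).subtype.baseChange L) := by
    rw [LinearMap.baseChange_eq_ltensor]
    exact Module.Flat.lTensor_preserves_injective_linearMap (M := L) _
      (Submodule.injective_subtype _)
  have hk : LinearMap.ker (f.baseChange L) =
      LinearMap.range ((LinearMap.ker f).subtype.baseChange L) := LinearMap.exact_iff.mp hex1
  -- cokernel
  have hex2 : Function.Exact (f.baseChange L) ((LinearMap.range f).mkQ.baseChange L) :=
    lTensor_exact L (LinearMap.exact_map_mkQ_range f) (Submodule.mkQ_surjective _)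
  have hsurj : Function.Surjective ((LinearMap.range f).mkQ.baseChange L) := by
    rw [LinearMap.baseChange_eq_ltensor]
    exact LinearMap.lTensor_surjective L (Submodule.mkQ_surjective _)
  have hr : LinearMap.range (f.baseChange L) =
      LinearMap.ker ((LinearMap.range f).mkQ.baseChange L) := (LinearMap.exact_iff.mp hex2).symm
  have e2 := ((LinearMap.range f).mkQ.baseChange L).quotKerEquivOfSurjective hsurj
  unfold Fred
  rw [hk, hr]
  refine ⟨inferInstance, Module.Finite.equiv e2.symm, ?_⟩
  rw [e2.finrank_eq, Module.finrank_baseChange, LinearMap.finrank_range_of_inj hinj,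
    Module.finrank_baseChange]
  exact h3

end BaseChange

end Groth.Agent.Lib.Helper6.CartierEq
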