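import Mathlib

/-!
# Cartier's inequality, part 1: linear algebra and superadditivity of
`rank Ω − rank H¹(L)` in towers of fields (via the Jacobi–Zariski sequence).
-/

namespace Groth.Agent.Lib.Helper6.CartierIneq

open Module

section LinAlg

variable {L : Type*} [Field L]
variable {V1 V2 V3 V4 V5 V6 : Type*}
  [AddCommGroup V1] [Module L V1] [AddCommGroup V2] [Module L V2]
  [AddCommGroup V3] [Module L V3] [AddCommGroup V4] [Module L V4]
  [AddCommGroup V5] [Module L V5] [AddCommGroup V6] [Module L V6]

theorem finite_of_exact {a : V1 →ₗ[L] V2} {b : V2 →ₗ[L] V3} (hab : Function.Exact a b)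
    [Module.Finite L V1] [Module.Finite L V3] : Module.Finite L V2 := by
  have h1 : Module.Finite L (LinearMap.ker b) := by
    rw [LinearMap.exact_iff.mp hab]
    infer_instance
  have h2 : Module.Finite L (V2 ⧸ LinearMap.ker b) :=
    Module.Finite.equiv b.quotKerEquivRange.symm
  exact Module.Finite.of_submodule_quotient (LinearMap.ker b)

theorem six_term (a : V1 →ₗ[L] V2) (b : V2 →ₗ[L] V3) (d : V3 →ₗ[L] V4) (c : V4 →ₗ[L] V5)
    (e : V5 →ₗ[L] V6) (hab : Function.Exact a b) (hbd : Function.Exact b d)
    (hdc : Function.Exact d c) (hce : Function.Exact c e) (he : Function.Surjective e)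
    [Module.Finite L V1] [Module.Finite L V3] [Module.Finite L V4] [Module.Finite L V6] :
    Module.Finite L V2 ∧ Module.Finite L V5 ∧
      finrank L V2 + finrank L V4 + finrank L V6 ≤ finrank L V1 + finrank L V3 + finrank L V5 := by
  have f2 : Module.Finite L V2 := finite_of_exact hab
  have f5 : Module.Finite L V5 := finite_of_exact hce
  refine ⟨f2, f5, ?_⟩
  have eb := LinearMap.finrank_range_add_finrank_ker b
  have ed := LinearMap.finrank_range_add_finrank_ker d
  have ec := LinearMap.finrank_range_add_finrank_ker c
  have ee := LinearMap.finrank_range_add_finrank_ker e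
  rw [LinearMap.exact_iff.mp hab] at eb
  rw [LinearMap.exact_iff.mp hbd] at ed
  rw [LinearMap.exact_iff.mp hdc] at ec
  rw [LinearMap.exact_iff.mp hce, LinearMap.range_eq_top.mpr he, finrank_top] at ee
  have ha := LinearMap.finrank_range_le a
  omega

end LinAlg

section Tower

universe u

variable (K F L : Type u) [Field K] [Field F] [Field L] [Algebra K F] [Algebra F L] [Algebra K L]
  [IsScalarTower K F L]

open Algebra in
theorem tower_ineq
    [Module.Finite F (H1Cotangent K F)] [Module.Finite L (H1Cotangent F L)]
    [Module.Finite F Ω[F⁄K]] [Module.Finite L Ω[L⁄F]] :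
    Module.Finite L (H1Cotangent K L) ∧ Module.Finite L Ω[L⁄K] ∧
      finrank L (H1Cotangent K L) + finrank F Ω[F⁄K] + finrank L Ω[L⁄F] ≤
        finrank F (H1Cotangent K F) + finrank L (H1Cotangent F L) + finrank L Ω[L⁄K] := by
  have h := six_term ((H1Cotangent.map K K F L).liftBaseChange L) (H1Cotangent.map K F L L)
    (H1Cotangent.δ K F L) (KaehlerDifferential.mapBaseChange K F L)
    (KaehlerDifferential.map K F L L)
    (H1Cotangent.exact_liftBaseChange_map_of_flat K F L)
    (H1Cotangent.exact_map_δ K F L)
    (H1Cotangent.exact_δ_mapBaseChange K F L)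
    (KaehlerDifferential.exact_mapBaseChange_map K F L)
    (KaehlerDifferential.map_surjective K F L)
  rw [Module.finrank_baseChange, Module.finrank_baseChange] at h
  exact h

end Tower

end Groth.Agent.Lib.Helper6.CartierIneq
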