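import Mathlib

/-!
# Cartier's inequality, part 2: simple extensions `K⟮x⟯ / K`.
-/

namespace Groth.Agent.Lib.Helper6.CartierIneq

open Module IntermediateField Algebra

universe u
variable {K L : Type u} [Field K] [Field L] [Algebra K L]

/-- For `x` algebraic, `K[T] → K⟮x⟯` is surjective. -/
theorem aeval_gen_surjective {x : L} (hx : IsIntegral K x) :
    Function.Surjective
      (MvPolynomial.aeval (R := K) (fun _ : Unit => AdjoinSimple.gen K x)) := by
  intro y
  have hy : (y : L) ∈ (K⟮x⟯).toSubalgebra := y.2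
  rw [adjoin_simple_toSubalgebra_of_isAlgebraic hx.isAlgebraic] at hy
  have h2 : Algebra.adjoin K ({x} : Set L) = (MvPolynomial.aeval (fun _ : Unit => x)).range := by
    rw [← Algebra.adjoin_range_eq_range_aeval, Set.range_const]
  rw [h2, AlgHom.mem_range] at hy
  obtain ⟨q, hq⟩ := hy
  refine ⟨q, Subtype.ext ?_⟩
  have h3 := MvPolynomial.comp_aeval_apply (f := fun _ : Unit => AdjoinSimple.gen K x)
    (K⟮x⟯.val) q
  rw [← hq]
  exact h3

theorem simple_alg {x : L} (hx : IsIntegral K x) :
    Module.Finite K⟮x⟯ (H1Cotangent K K⟮x⟯) ∧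
      finrank K⟮x⟯ (H1Cotangent K K⟮x⟯) ≤ finrank K⟮x⟯ Ω[K⟮x⟯⁄K] := by
  let P : Generators K K⟮x⟯ Unit := Generators.ofSurjective _ (aeval_gen_surjective hx)
  have hpid : IsPrincipalIdealRing (MvPolynomial Unit K) :=
    IsPrincipalIdealRing.of_surjective (MvPolynomial.uniqueAlgEquiv K Unit).symm.toRingEquiv.toRingHom
      (MvPolynomial.uniqueAlgEquiv K Unit).symm.surjective
  have hpid' : IsPrincipalIdealRing P.toExtension.Ring := hpid
  obtain ⟨g, hg⟩ := (IsPrincipalIdealRing.principal P.toExtension.ker).principal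
  have hgm : g ∈ P.toExtension.ker := by rw [hg]; exact Submodule.mem_span_singleton_self g
  let g' : P.toExtension.ker := ⟨g, hgm⟩
  let m0 : P.toExtension.Cotangent := Extension.Cotangent.mk g'
  have hspan : ∀ c : P.toExtension.Cotangent, ∃ a : K⟮x⟯, a • m0 = c := by
    intro c
    obtain ⟨y, rfl⟩ := Extension.Cotangent.mk_surjective c
    have hy : y.1 ∈ Submodule.span P.toExtension.Ring {g} := by rw [← hg]; exact y.2
    obtain ⟨r, hr⟩ := Submodule.mem_span_singleton.mp hy
    refine ⟨algebraMap P.toExtension.Ring K⟮x⟯ r, ?_⟩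
    have hyg : y = r • g' := Subtype.ext hr.symm
    rw [hyg, map_smul]
    exact algebraMap_smul _ r m0
  have hC1 : finrank K⟮x⟯ P.toExtension.Cotangent ≤ 1 := finrank_le_one m0 hspan
  have hCf : Module.Finite K⟮x⟯ P.toExtension.Cotangent :=
    Module.Finite.of_surjective (LinearMap.toSpanSingleton K⟮x⟯ _ m0) (fun c => by
      obtain ⟨a, ha⟩ := hspan c
      exact ⟨a, by simpa using ha⟩)
  have hSf : Module.Finite K⟮x⟯ P.toExtension.CotangentSpace :=
    Module.Finite.of_basis P.cotangentSpaceBasis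
  have hS1 : finrank K⟮x⟯ P.toExtension.CotangentSpace = 1 := by
    rw [Module.finrank_eq_card_basis P.cotangentSpaceBasis]; simp
  have e1 := LinearMap.finrank_range_add_finrank_ker P.toExtension.cotangentComplex
  have e2 := LinearMap.finrank_range_add_finrank_ker P.toExtension.toKaehler
  rw [LinearMap.exact_iff.mp P.toExtension.exact_cotangentComplex_toKaehler,
    LinearMap.range_eq_top.mpr P.toExtension.toKaehler_surjective, finrank_top] at e2
  have hH : Module.Finite K⟮x⟯ P.toExtension.H1Cotangent :=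
    inferInstanceAs (Module.Finite K⟮x⟯ (LinearMap.ker P.toExtension.cotangentComplex))
  have hHr : finrank K⟮x⟯ P.toExtension.H1Cotangent =
      finrank K⟮x⟯ (LinearMap.ker P.toExtension.cotangentComplex) := rfl
  refine ⟨Module.Finite.equiv P.equivH1Cotangent, ?_⟩
  rw [← P.equivH1Cotangent.finrank_eq, hHr]
  omega

theorem simple_tr {x : L} (hx : Transcendental K x) :
    Subsingleton (H1Cotangent K K⟮x⟯) ∧ 1 ≤ finrank K⟮x⟯ Ω[K⟮x⟯⁄K] := by
  have hai : AlgebraicIndependent K (fun _ : Unit => x) :=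
    algebraicIndependent_unique_type_iff.mpr hx
  have hfs : Algebra.FormallySmooth K (IntermediateField.adjoin K (Set.range (fun _ : Unit => x))) :=
    Algebra.FormallySmooth.adjoin_of_algebraicIndependent hai
  rw [Set.range_const] at hfs
  refine ⟨hfs.subsingleton_h1Cotangent, ?_⟩
  by_contra h
  have h0 : finrank K⟮x⟯ Ω[K⟮x⟯⁄K] = 0 := by omega
  have hef : Algebra.EssFiniteType K K⟮x⟯ :=
    IntermediateField.essFiniteType_iff.mpr (fg_adjoin_of_finite (Set.finite_singleton x))
  have hsub : Subsingleton Ω[K⟮x⟯⁄K] := Module.finrank_zero_iff.mp h0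
  have hu : Algebra.FormallyUnramified K K⟮x⟯ := ⟨hsub⟩
  have hsep : Algebra.IsSeparable K K⟮x⟯ := Algebra.FormallyUnramified.isSeparable K K⟮x⟯
  have hint : IsIntegral K (AdjoinSimple.gen K x) := Algebra.IsSeparable.isIntegral K _
  have hint2 : IsIntegral K x := hint.map (K⟮x⟯.val)
  exact hx hint2.isAlgebraic

theorem trdeg_simple_alg {x : L} (hx : IsIntegral K x) : Algebra.trdeg K K⟮x⟯ = 0 := by
  have := isAlgebraic_adjoin_simple hx
  exact _root_.trdeg_eq_zero

theorem trdeg_simple_le (x : L) : Algebra.trdeg K K⟮x⟯ ≤ 1 := by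
  have halg : Algebra.IsAlgebraic (Algebra.adjoin K ({AdjoinSimple.gen K x} : Set K⟮x⟯)) K⟮x⟯ := by
    constructor
    intro y
    obtain ⟨r, s, hrs⟩ := (mem_adjoin_simple_iff K (y : L)).mp y.2
    have hmem : ∀ p : Polynomial K, Polynomial.aeval (AdjoinSimple.gen K x) p ∈
        Algebra.adjoin K ({AdjoinSimple.gen K x} : Set K⟮x⟯) := by
      intro p
      rw [Algebra.adjoin_singleton_eq_range_aeval]
      exact ⟨p, rfl⟩
    have hval : ∀ p : Polynomial K, ((Polynomial.aeval (AdjoinSimple.gen K x) p : K⟮x⟯) : L) =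
        Polynomial.aeval x p := by
      intro p
      have := Polynomial.aeval_algHom_apply (K⟮x⟯.val) (AdjoinSimple.gen K x) p
      exact this.symm
    by_cases hs0 : Polynomial.aeval x s = 0
    · have hy0 : y = 0 := Subtype.ext (by rw [hrs, hs0, div_zero]; rfl)
      rw [hy0]; exact isAlgebraic_zero
    · refine ⟨Polynomial.C ⟨Polynomial.aeval (AdjoinSimple.gen K x) s, hmem s⟩ * Polynomial.X -
          Polynomial.C ⟨Polynomial.aeval (AdjoinSimple.gen K x) r, hmem r⟩, ?_, ?_⟩
      · intro h
        have h1 := congrArg (fun p => Polynomial.coeff p 1) h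
        simp only [Polynomial.coeff_sub, Polynomial.coeff_C_mul, Polynomial.coeff_X_one, mul_one,
          Polynomial.coeff_C, one_ne_zero, if_false, sub_zero, Polynomial.coeff_zero] at h1
        apply hs0
        rw [← hval s]
        have h2 := congrArg (fun z : Algebra.adjoin K ({AdjoinSimple.gen K x} : Set K⟮x⟯) =>
          ((z : K⟮x⟯) : L)) h1
        simpa using h2
      · rw [map_sub, map_mul, Polynomial.aeval_C, Polynomial.aeval_C, Polynomial.aeval_X]
        apply Subtype.ext
        have hs1 : ((Polynomial.aeval (AdjoinSimple.gen K x) s : K⟮x⟯) : L) ≠ 0 := by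
          rw [hval s]; exact hs0
        show ((Polynomial.aeval (AdjoinSimple.gen K x) s : K⟮x⟯) : L) * (y : L) -
          ((Polynomial.aeval (AdjoinSimple.gen K x) r : K⟮x⟯) : L) = 0
        rw [hrs, hval, hval]
        field_simp
        ring
  have h := Algebra.IsAlgebraic.trdeg_le_cardinalMk K ({AdjoinSimple.gen K x} : Set K⟮x⟯)
  simpa using h

end Groth.Agent.Lib.Helper6.CartierIneq
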