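import Mathlib
import Groth.Agent.Lib.Helper6.CartierIneq1
import Groth.Agent.Lib.Helper6.CartierIneq2

/-!
# Cartier's inequality, part 3: induction on generators and the final statements.
-/

namespace Groth.Agent.Lib.Helper6.CartierIneq

open Module IntermediateField Algebra

universe u

/-- `H¹(L_{L/K})` and `Ω_{L/K}` are finite-dimensional, `trdeg` is finite, and
`rank H¹ + trdeg ≤ rank Ω`. -/
def Good (K L : Type u) [Field K] [Field L] [Algebra K L] : Prop :=
  Module.Finite L (H1Cotangent K L) ∧ Module.Finite L Ω[L⁄K] ∧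
    ∃ n : ℕ, Algebra.trdeg K L = n ∧ finrank L (H1Cotangent K L) + n ≤ finrank L Ω[L⁄K]

theorem good_of_surjective {K L : Type u} [Field K] [Field L] [Algebra K L]
    (h : Function.Surjective (algebraMap K L)) : Good K L := by
  let e : K ≃ₐ[K] L := AlgEquiv.ofBijective (Algebra.ofId K L) ⟨(algebraMap K L).injective, h⟩
  have hs : Algebra.FormallySmooth K L := Algebra.FormallySmooth.of_equiv e
  have hu : Algebra.FormallyUnramified K L := Algebra.FormallyUnramified.of_equiv e
  have ht : Algebra.trdeg K L = 0 := by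
    rw [← e.trdeg_eq]; exact _root_.trdeg_eq_zero
  refine ⟨inferInstance, inferInstance, 0, by simpa using ht, ?_⟩
  simp [Module.finrank_zero_of_subsingleton]

theorem good_simple {K L : Type u} [Field K] [Field L] [Algebra K L] (x : L) : Good K K⟮x⟯ := by
  have hef : Algebra.EssFiniteType K K⟮x⟯ :=
    IntermediateField.essFiniteType_iff.mpr (fg_adjoin_of_finite (Set.finite_singleton x))
  by_cases hx : IsIntegral K x
  · obtain ⟨h1, h2⟩ := simple_alg hx
    exact ⟨h1, inferInstance, 0, by simpa using trdeg_simple_alg hx, by simpa using h2⟩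
  · have hx' : Transcendental K x := fun h => hx h.isIntegral
    obtain ⟨h1, h2⟩ := simple_tr hx'
    have hle := trdeg_simple_le (K := K) x
    obtain ⟨n, hn⟩ : ∃ n : ℕ, Algebra.trdeg K K⟮x⟯ = n :=
      Cardinal.lt_aleph0.mp (lt_of_le_of_lt hle Cardinal.one_lt_aleph0)
    have hn1 : n ≤ 1 := by rw [hn] at hle; exact_mod_cast hle
    refine ⟨inferInstance, inferInstance, n, hn, ?_⟩
    rw [Module.finrank_zero_of_subsingleton]; omega

theorem good_tower (K F L : Type u) [Field K] [Field F] [Field L] [Algebra K F] [Algebra F L]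
    [Algebra K L] [IsScalarTower K F L] (h1 : Good K F) (h2 : Good F L) : Good K L := by
  obtain ⟨a1, a2, n1, hn1, hi1⟩ := h1
  obtain ⟨b1, b2, n2, hn2, hi2⟩ := h2
  obtain ⟨c1, c2, hi⟩ := tower_ineq K F L
  refine ⟨c1, c2, n1 + n2, ?_, by omega⟩
  rw [← trdeg_add_eq K F (A := L), hn1, hn2]; push_cast; rfl

theorem good_of_adjoin : ∀ (n : ℕ) (K L : Type u) [Field K] [Field L] [Algebra K L] (s : Finset L),
    s.card = n → IntermediateField.adjoin K (s : Set L) = ⊤ → Good K L := by
  classical
  intro n
  induction n with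
  | zero =>
    intro K L _ _ _ s hs htop
    have hs0 : s = ∅ := Finset.card_eq_zero.mp hs
    apply good_of_surjective
    intro y
    have hy : y ∈ (⊤ : IntermediateField K L) := IntermediateField.mem_top
    rw [← htop, hs0, Finset.coe_empty, IntermediateField.adjoin_empty,
      IntermediateField.mem_bot] at hy
    exact hy
  | succ n ih =>
    intro K L _ _ _ s hs htop
    obtain ⟨x, hx⟩ : s.Nonempty := Finset.card_pos.mp (by omega)
    have h1 : Good K K⟮x⟯ := good_simple x
    have h2 : Good K⟮x⟯ L := by
      refine ih K⟮x⟯ L (s.erase x) (by rw [Finset.card_erase_of_mem hx]; omega) ?_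
      apply IntermediateField.restrictScalars_injective K
      rw [IntermediateField.adjoin_adjoin_left, IntermediateField.restrictScalars_top, ← htop,
        Finset.coe_erase, Set.singleton_union, Set.insert_sdiff_singleton,
        Set.insert_eq_of_mem (Finset.mem_coe.mpr hx)]
    exact good_tower K K⟮x⟯ L h1 h2

theorem good_of_essFiniteType (K L : Type u) [Field K] [Field L] [Algebra K L]
    [Algebra.EssFiniteType K L] : Good K L := by
  obtain ⟨s, hs⟩ := IntermediateField.fg_top K L
  exact good_of_adjoin s.card K L s rfl hs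

/-- Cartier's inequality `rank Ω_{L/K} − rank Υ_{L/K/k} ≥ trdeg_K L`. -/
theorem cartier_ineq {k K L : Type u} [Field k] [Field K] [Field L]
    [Algebra k K] [Algebra K L] [Algebra k L] [IsScalarTower k K L] [Algebra.EssFiniteType K L] :
    Module.Finite L (Ω[L⁄K]) ∧
      Module.Finite L (LinearMap.ker (KaehlerDifferential.mapBaseChange k K L)) ∧
      (Cardinal.toNat (Algebra.trdeg K L) : ℤ) ≤
        (Module.finrank L (Ω[L⁄K]) : ℤ) -
          Module.finrank L (LinearMap.ker (KaehlerDifferential.mapBaseChange k K L)) := by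
  obtain ⟨a1, a2, n, hn, hi⟩ := good_of_essFiniteType K L
  have hker : LinearMap.ker (KaehlerDifferential.mapBaseChange k K L) =
      LinearMap.range (H1Cotangent.δ k K L) :=
    LinearMap.exact_iff.mp (H1Cotangent.exact_δ_mapBaseChange k K L)
  have hle : finrank L (LinearMap.ker (KaehlerDifferential.mapBaseChange k K L)) ≤
      finrank L (H1Cotangent K L) := by
    rw [hker]; exact LinearMap.finrank_range_le _
  have hfin : Module.Finite L (LinearMap.ker (KaehlerDifferential.mapBaseChange k K L)) := by
    rw [hker]; infer_instance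
  refine ⟨a2, hfin, ?_⟩
  rw [hn, Cardinal.toNat_natCast]
  omega

/-- Cartier's inequality `rank Ω_{L/k} − rank Ω_{K/k} ≥ trdeg_K L`. -/
theorem cartier_ineq' {k K L : Type u} [Field k] [Field K] [Field L]
    [Algebra k K] [Algebra K L] [Algebra k L] [IsScalarTower k K L] [Algebra.EssFiniteType k L] :
    Module.Finite L (Ω[L⁄k]) ∧ Module.Finite K (Ω[K⁄k]) ∧
      (Cardinal.toNat (Algebra.trdeg K L) : ℤ) ≤
        (Module.finrank L (Ω[L⁄k]) : ℤ) - Module.finrank K (Ω[K⁄k]) := by
  have hKL : Algebra.EssFiniteType K L := Algebra.EssFiniteType.of_comp k K L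
  obtain ⟨b1, b2, hb⟩ := cartier_ineq (k := k) (K := K) (L := L)
  have hT : Module.Finite L (TensorProduct K L Ω[K⁄k]) := by
    have h2 : Module.Finite L (TensorProduct K L Ω[K⁄k] ⧸
        LinearMap.ker (KaehlerDifferential.mapBaseChange k K L)) :=
      Module.Finite.equiv (KaehlerDifferential.mapBaseChange k K L).quotKerEquivRange.symm
    exact Module.Finite.of_submodule_quotient
      (LinearMap.ker (KaehlerDifferential.mapBaseChange k K L))
  have hK : Module.Finite K Ω[K⁄k] := by
    rw [← Module.rank_lt_aleph0_iff] at hT ⊢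
    rwa [Module.rank_baseChange, Cardinal.lift_id] at hT
  refine ⟨inferInstance, hK, ?_⟩
  have e1 := LinearMap.finrank_range_add_finrank_ker (KaehlerDifferential.map k K L L)
  rw [LinearMap.exact_iff.mp (KaehlerDifferential.exact_mapBaseChange_map k K L),
    LinearMap.range_eq_top.mpr (KaehlerDifferential.map_surjective k K L), finrank_top] at e1
  have e2 := LinearMap.finrank_range_add_finrank_ker (KaehlerDifferential.mapBaseChange k K L)
  rw [Module.finrank_baseChange] at e2
  omega

end Groth.Agent.Lib.Helper6.CartierIneq
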