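import Mathlib
import Groth.Agent.Lib.Helper6.CartierEq1
import Groth.Agent.Lib.Helper6.CartierIneq3
import Groth.Agent.Lib.Helper21.SepSmoothG

/-!
# Cartier's equality, part 2: the index of `L ⊗_K Ω_{K/ℤ} → Ω_{L/ℤ}` and its additivity in towers.
-/

namespace Groth.Agent.Lib.Helper6.CartierEq

open Module TensorProduct Algebra
open Groth.Agent.Lib.Helper21.SepSmooth

universe u

section Index

variable (K L : Type u) [Field K] [Field L] [Algebra K L]

/-- The map `L ⊗_K Ω_{K/ℤ} → Ω_{L/ℤ}` has cokernel `Ω_{L/K}` and kernel of the rank of `H¹(L_{L/K})`. -/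
theorem fred_mapBaseChange_int [Module.Finite L (H1Cotangent K L)] [Module.Finite L Ω[L⁄K]] :
    Fred (KaehlerDifferential.mapBaseChange ℤ K L)
      ((finrank L Ω[L⁄K] : ℤ) - finrank L (H1Cotangent K L)) := by
  -- cokernel
  have hr : LinearMap.range (KaehlerDifferential.mapBaseChange ℤ K L) =
      LinearMap.ker (KaehlerDifferential.map ℤ K L L) :=
    (LinearMap.exact_iff.mp (KaehlerDifferential.exact_mapBaseChange_map ℤ K L)).symm
  have e1 := (KaehlerDifferential.map ℤ K L L).quotKerEquivOfSurjective
    (KaehlerDifferential.map_surjective ℤ K L)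
  -- kernel
  have hφ : Function.Bijective (KaehlerDifferential.map ℤ (⊥ : Subfield K) K K) :=
    ⟨map_int_bot_injective, KaehlerDifferential.map_surjective ℤ (⊥ : Subfield K) K⟩
  have hEinj : Function.Injective
      ((KaehlerDifferential.map ℤ (⊥ : Subfield K) K K).baseChange L) := by
    rw [LinearMap.baseChange_eq_ltensor]
    exact Module.Flat.lTensor_preserves_injective_linearMap (M := L) _ hφ.1
  have hEsurj : Function.Surjective
      ((KaehlerDifferential.map ℤ (⊥ : Subfield K) K K).baseChange L) := by
    rw [LinearMap.baseChange_eq_ltensor]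
    exact LinearMap.lTensor_surjective L hφ.2
  let E := LinearEquiv.ofBijective
    ((KaehlerDifferential.map ℤ (⊥ : Subfield K) K K).baseChange L) ⟨hEinj, hEsurj⟩
  have hk : LinearMap.ker (KaehlerDifferential.mapBaseChange ℤ K L) =
      Submodule.comap E.toLinearMap
        (LinearMap.ker (KaehlerDifferential.mapBaseChange (⊥ : Subfield K) K L)) := by
    ext x
    rw [LinearMap.mem_ker, Submodule.mem_comap, LinearMap.mem_ker]
    have h1 := sq (k := K) (K := L) x
    constructor
    · intro hx
      rw [hx, map_zero] at h1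
      exact h1.symm
    · intro hx
      have h2 : KaehlerDifferential.map ℤ (⊥ : Subfield K) L L
          (KaehlerDifferential.mapBaseChange ℤ K L x) = 0 := h1.trans hx
      exact map_int_bot_injective' (h2.trans (map_zero _).symm)
  have hfs : Algebra.FormallySmooth (⊥ : Subfield K) L := formallySmooth_bot'
  have hsub : Subsingleton (H1Cotangent (⊥ : Subfield K) L) := hfs.subsingleton_h1Cotangent
  have hδinj : Function.Injective (H1Cotangent.δ (⊥ : Subfield K) K L) := by
    rw [← LinearMap.ker_eq_bot,
      LinearMap.exact_iff.mp (H1Cotangent.exact_map_δ (⊥ : Subfield K) K L)]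
    refine LinearMap.range_eq_bot.mpr (LinearMap.ext fun x => ?_)
    rw [Subsingleton.elim x 0, map_zero]
    rfl
  have hk2 : LinearMap.ker (KaehlerDifferential.mapBaseChange (⊥ : Subfield K) K L) =
      LinearMap.range (H1Cotangent.δ (⊥ : Subfield K) K L) :=
    LinearMap.exact_iff.mp (H1Cotangent.exact_δ_mapBaseChange (⊥ : Subfield K) K L)
  have e2 := E.ofSubmodule'
    (LinearMap.ker (KaehlerDifferential.mapBaseChange (⊥ : Subfield K) K L))
  have hfin2 : Module.Finite L
      (LinearMap.ker (KaehlerDifferential.mapBaseChange (⊥ : Subfield K) K L)) := by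
    rw [hk2]; infer_instance
  unfold Fred
  rw [hr, hk]
  refine ⟨Module.Finite.equiv e2.symm, Module.Finite.equiv e1.symm, ?_⟩
  rw [e1.finrank_eq, e2.finrank_eq, hk2, LinearMap.finrank_range_of_inj hδinj]

end Index

section Tower

variable (K F L : Type u) [Field K] [Field F] [Field L] [Algebra K F] [Algebra F L] [Algebra K L]
  [IsScalarTower K F L]

/-- Exact additivity of `χ = rank Ω − rank H¹` in towers of fields. -/
theorem chi_tower
    [Module.Finite F (H1Cotangent K F)] [Module.Finite L (H1Cotangent F L)]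
    [Module.Finite F Ω[F⁄K]] [Module.Finite L Ω[L⁄F]]
    [Module.Finite L (H1Cotangent K L)] [Module.Finite L Ω[L⁄K]] :
    (finrank L Ω[L⁄K] : ℤ) - finrank L (H1Cotangent K L) =
      ((finrank F Ω[F⁄K] : ℤ) - finrank F (H1Cotangent K F)) +
        ((finrank L Ω[L⁄F] : ℤ) - finrank L (H1Cotangent F L)) := by
  have h1 := fred_mapBaseChange_int K F
  have h2 := fred_mapBaseChange_int F L
  have h3 := (h1.baseChange L).comp h2
  have h4 := fred_mapBaseChange_int K L
  have hcomp : KaehlerDifferential.mapBaseChange ℤ F L ∘ₗ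
        (KaehlerDifferential.mapBaseChange ℤ K F).baseChange L =
      KaehlerDifferential.mapBaseChange ℤ K L ∘ₗ
        (TensorProduct.AlgebraTensorModule.cancelBaseChange K F L L (Ω[K⁄ℤ])).toLinearMap := by
    apply LinearMap.ext
    intro w
    exact chase_compat (R := ℤ) (A := K) (B := F) (C := L) w
  rw [hcomp] at h3
  have h5 := h3.comp_equiv
    (TensorProduct.AlgebraTensorModule.cancelBaseChange K F L L (Ω[K⁄ℤ])).symm
  have hid : (KaehlerDifferential.mapBaseChange ℤ K L ∘ₗ
        (TensorProduct.AlgebraTensorModule.cancelBaseChange K F L L (Ω[K⁄ℤ])).toLinearMap) ∘ₗ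
      (TensorProduct.AlgebraTensorModule.cancelBaseChange K F L L (Ω[K⁄ℤ])).symm.toLinearMap =
      KaehlerDifferential.mapBaseChange ℤ K L := by
    apply LinearMap.ext
    intro w
    simp
  rw [hid] at h5
  exact h4.unique h5

end Tower

end Groth.Agent.Lib.Helper6.CartierEq
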