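import Mathlib
import Groth.Agent.Lib.Helper6.CartierEq2

/-!
# Cartier's equality `rank Ω_{L/K} − rank Υ_{L/K/ℤ} = trdeg_K L`.
-/

namespace Groth.Agent.Lib.Helper6.CartierEq

open Module IntermediateField Algebra TensorProduct
open Groth.Agent.Lib.Helper6.CartierIneq
open Groth.Agent.Lib.Helper21.SepSmooth

universe u

variable {K L : Type u} [Field K] [Field L] [Algebra K L]

theorem coe_aeval_gen (x : L) (p : Polynomial K) :
    ((Polynomial.aeval (AdjoinSimple.gen K x) p : K⟮x⟯) : L) = Polynomial.aeval x p :=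
  (Polynomial.aeval_algHom_apply (K⟮x⟯.val) (AdjoinSimple.gen K x) p).symm

/-- `Ω_{K(x)/K}` is spanned by `dx`. -/
theorem finrank_kaehler_simple_le_one (x : L) : finrank K⟮x⟯ Ω[K⟮x⟯⁄K] ≤ 1 := by
  have hD : ∀ p : Polynomial K, KaehlerDifferential.D K K⟮x⟯ (Polynomial.aeval (AdjoinSimple.gen K x) p) ∈
      Submodule.span K⟮x⟯ {KaehlerDifferential.D K K⟮x⟯ (AdjoinSimple.gen K x)} := by
    intro p
    rw [Derivation.map_aeval]
    exact Submodule.smul_mem _ _ (Submodule.mem_span_singleton_self _)
  have hall : ∀ y : K⟮x⟯, KaehlerDifferential.D K K⟮x⟯ y ∈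
      Submodule.span K⟮x⟯ {KaehlerDifferential.D K K⟮x⟯ (AdjoinSimple.gen K x)} := by
    intro y
    obtain ⟨r, s, hrs⟩ := (mem_adjoin_simple_iff K (y : L)).mp y.2
    have hy : y = Polynomial.aeval (AdjoinSimple.gen K x) r /
        Polynomial.aeval (AdjoinSimple.gen K x) s := by
      apply Subtype.ext
      rw [hrs, IntermediateField.coe_div, coe_aeval_gen, coe_aeval_gen]
    rw [hy, Derivation.leibniz_div]
    exact Submodule.smul_mem _ _ (Submodule.sub_mem _ (Submodule.smul_mem _ _ (hD r))
      (Submodule.smul_mem _ _ (hD s)))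
  have htop : Submodule.span K⟮x⟯ {KaehlerDifferential.D K K⟮x⟯ (AdjoinSimple.gen K x)} = ⊤ := by
    rw [_root_.eq_top_iff, ← KaehlerDifferential.span_range_derivation K K⟮x⟯, Submodule.span_le]
    rintro _ ⟨y, rfl⟩
    exact hall y
  refine finrank_le_one (KaehlerDifferential.D K K⟮x⟯ (AdjoinSimple.gen K x)) (fun w => ?_)
  have hw : w ∈ Submodule.span K⟮x⟯ {KaehlerDifferential.D K K⟮x⟯ (AdjoinSimple.gen K x)} := by
    rw [htop]; trivial
  exact Submodule.mem_span_singleton.mp hw

/-- For `x` algebraic, `rank H¹(L_{K(x)/K}) = rank Ω_{K(x)/K}`. -/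
theorem simple_alg_eq {x : L} (hx : IsIntegral K x) :
    finrank K⟮x⟯ (H1Cotangent K K⟮x⟯) = finrank K⟮x⟯ Ω[K⟮x⟯⁄K] := by
  let P : Generators K K⟮x⟯ Unit := Generators.ofSurjective _ (aeval_gen_surjective hx)
  have hpid : IsPrincipalIdealRing (MvPolynomial Unit K) :=
    IsPrincipalIdealRing.of_surjective (MvPolynomial.uniqueAlgEquiv K Unit).symm.toRingEquiv.toRingHom
      (MvPolynomial.uniqueAlgEquiv K Unit).symm.surjective
  have hpid' : IsPrincipalIdealRing P.toExtension.Ring := hpid
  have hdom : IsDomain P.toExtension.Ring := inferInstanceAs (IsDomain (MvPolynomial Unit K))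
  obtain ⟨g, hg⟩ := (IsPrincipalIdealRing.principal P.toExtension.ker).principal
  have hgm : g ∈ P.toExtension.ker := by rw [hg]; exact Submodule.mem_span_singleton_self g
  let g' : P.toExtension.ker := ⟨g, hgm⟩
  let m0 : P.toExtension.Cotangent := Extension.Cotangent.mk g'
  have hspan : ∀ c : P.toExtension.Cotangent, ∃ a : K⟮x⟯, a • m0 = c := by
    intro c
    obtain ⟨y, rfl⟩ := Extension.Cotangent.mk_surjective c
    have hy : y.1 ∈ Submodule.span P.toExtension.Ring {g} := by rw [← hg]; exact y.2
    obtain ⟨r, hr⟩ := Submodule.mem_span_singleton.mp hy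
    refine ⟨algebraMap P.toExtension.Ring K⟮x⟯ r, ?_⟩
    have hyg : y = r • g' := Subtype.ext hr.symm
    rw [hyg, map_smul]
    exact algebraMap_smul _ r m0
  have hC1 : finrank K⟮x⟯ P.toExtension.Cotangent ≤ 1 := finrank_le_one m0 hspan
  have hCf : Module.Finite K⟮x⟯ P.toExtension.Cotangent :=
    Module.Finite.of_surjective (LinearMap.toSpanSingleton K⟮x⟯ _ m0) (fun c => by
      obtain ⟨a, ha⟩ := hspan c
      exact ⟨a, by simpa using ha⟩)
  -- `m0 ≠ 0`
  have hm0 : m0 ≠ 0 := by
    intro h0
    have h1 : g ∈ P.toExtension.ker ^ 2 := (Extension.Cotangent.mk_eq_zero_iff g').mp h0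
    have hker : P.toExtension.ker = Ideal.span {g} := hg
    rw [hker, Ideal.span_singleton_pow, Ideal.mem_span_singleton'] at h1
    obtain ⟨a, ha⟩ := h1
    have h2 : g * (1 - a * g) = 0 := by linear_combination -ha
    rcases mul_eq_zero.mp h2 with h3 | h3
    · -- `g = 0`: the presentation map is injective, contradiction with algebraicity
      have hbot : P.toExtension.ker = ⊥ := by
        rw [hker, h3]; exact Ideal.span_singleton_eq_bot.mpr rfl
      have hinj : Function.Injective (algebraMap P.toExtension.Ring K⟮x⟯) :=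
        (RingHom.injective_iff_ker_eq_bot _).mpr hbot
      have hinj2 : Function.Injective
          (MvPolynomial.aeval (R := K) (fun _ : Unit => AdjoinSimple.gen K x)) := by
        intro p q hpq
        have hp : algebraMap P.toExtension.Ring K⟮x⟯ p = algebraMap P.toExtension.Ring K⟮x⟯ q :=
          (P.algebraMap_apply p).trans (hpq.trans (P.algebraMap_apply q).symm)
        exact hinj hp
      have hai : AlgebraicIndependent K (fun _ : Unit => AdjoinSimple.gen K x) :=
        algebraicIndependent_iff_injective_aeval.mpr hinj2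
      have htr : Transcendental K (AdjoinSimple.gen K x) :=
        algebraicIndependent_unique_type_iff.mp hai
      exact htr ((AdjoinSimple.isIntegral_gen K x).mpr hx).isAlgebraic
    · -- `a g = 1`: `1 ∈ ker`
      have h4 : (1 : P.toExtension.Ring) ∈ P.toExtension.ker := by
        have : (1 : P.toExtension.Ring) = a * g := by linear_combination h3
        rw [this]
        exact Ideal.mul_mem_left _ _ hgm
      have h5 : algebraMap P.toExtension.Ring K⟮x⟯ 1 = 0 := h4
      rw [map_one] at h5
      exact one_ne_zero h5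
  have hC1' : 1 ≤ finrank K⟮x⟯ P.toExtension.Cotangent :=
    Module.finrank_pos_iff_exists_ne_zero.mpr ⟨m0, hm0⟩
  have hSf : Module.Finite K⟮x⟯ P.toExtension.CotangentSpace :=
    Module.Finite.of_basis P.cotangentSpaceBasis
  have hS1 : finrank K⟮x⟯ P.toExtension.CotangentSpace = 1 := by
    rw [Module.finrank_eq_card_basis P.cotangentSpaceBasis]; simp
  have e1 := LinearMap.finrank_range_add_finrank_ker P.toExtension.cotangentComplex
  have e2 := LinearMap.finrank_range_add_finrank_ker P.toExtension.toKaehler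
  rw [LinearMap.exact_iff.mp P.toExtension.exact_cotangentComplex_toKaehler,
    LinearMap.range_eq_top.mpr P.toExtension.toKaehler_surjective, finrank_top] at e2
  have hHr : finrank K⟮x⟯ P.toExtension.H1Cotangent =
      finrank K⟮x⟯ (LinearMap.ker P.toExtension.cotangentComplex) := rfl
  rw [← P.equivH1Cotangent.finrank_eq, hHr]
  omega

/-- The exact statement: `rank Ω − rank H¹ = trdeg`. -/
def Exact (K L : Type u) [Field K] [Field L] [Algebra K L] : Prop :=
  Module.Finite L (H1Cotangent K L) ∧ Module.Finite L Ω[L⁄K] ∧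
    ∃ n : ℕ, Algebra.trdeg K L = n ∧ finrank L (H1Cotangent K L) + n = finrank L Ω[L⁄K]

theorem exact_of_surjective (h : Function.Surjective (algebraMap K L)) : Exact K L := by
  let e : K ≃ₐ[K] L := AlgEquiv.ofBijective (Algebra.ofId K L) ⟨(algebraMap K L).injective, h⟩
  have hs : Algebra.FormallySmooth K L := Algebra.FormallySmooth.of_equiv e
  have hu : Algebra.FormallyUnramified K L := Algebra.FormallyUnramified.of_equiv e
  have ht : Algebra.trdeg K L = 0 := by
    rw [← e.trdeg_eq]; exact _root_.trdeg_eq_zero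
  refine ⟨inferInstance, inferInstance, 0, by simpa using ht, ?_⟩
  simp [Module.finrank_zero_of_subsingleton]

theorem exact_simple (x : L) : Exact K K⟮x⟯ := by
  obtain ⟨g1, g2, n, hn, hle⟩ := good_simple (K := K) x
  refine ⟨g1, g2, n, hn, ?_⟩
  by_cases hx : IsIntegral K x
  · have h0 : n = 0 := by
      have := trdeg_simple_alg hx
      rw [hn] at this
      exact_mod_cast this
    have := simple_alg_eq hx
    omega
  · have hx' : Transcendental K x := fun h => hx h.isIntegral
    obtain ⟨h1, h2⟩ := simple_tr hx'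
    have h3 := finrank_kaehler_simple_le_one (K := K) x
    have hn1 : n ≠ 0 := by
      intro h0
      rw [h0] at hn
      have halg : Algebra.IsAlgebraic K K⟮x⟯ := trdeg_eq_zero_iff.mp (by simpa using hn)
      have hint : IsIntegral K (AdjoinSimple.gen K x) :=
        (Algebra.IsAlgebraic.isAlgebraic (AdjoinSimple.gen K x)).isIntegral
      exact hx ((AdjoinSimple.isIntegral_gen K x).mp hint)
    rw [Module.finrank_zero_of_subsingleton] at hle ⊢
    omega

theorem exact_tower (K F L : Type u) [Field K] [Field F] [Field L] [Algebra K F] [Algebra F L]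
    [Algebra K L] [IsScalarTower K F L] (h1 : Exact K F) (h2 : Exact F L) : Exact K L := by
  obtain ⟨a1, a2, n1, hn1, hi1⟩ := h1
  obtain ⟨b1, b2, n2, hn2, hi2⟩ := h2
  obtain ⟨c1, c2, -⟩ := tower_ineq K F L
  have hchi := chi_tower K F L
  refine ⟨c1, c2, n1 + n2, ?_, by omega⟩
  rw [← trdeg_add_eq K F (A := L), hn1, hn2]; push_cast; rfl

theorem exact_of_adjoin : ∀ (n : ℕ) (K L : Type u) [Field K] [Field L] [Algebra K L]
    (s : Finset L), s.card = n → IntermediateField.adjoin K (s : Set L) = ⊤ → Exact K L := by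
  classical
  intro n
  induction n with
  | zero =>
    intro K L _ _ _ s hs htop
    have hs0 : s = ∅ := Finset.card_eq_zero.mp hs
    apply exact_of_surjective
    intro y
    have hy : y ∈ (⊤ : IntermediateField K L) := IntermediateField.mem_top
    rw [← htop, hs0, Finset.coe_empty, IntermediateField.adjoin_empty,
      IntermediateField.mem_bot] at hy
    exact hy
  | succ n ih =>
    intro K L _ _ _ s hs htop
    obtain ⟨x, hx⟩ : s.Nonempty := Finset.card_pos.mp (by omega)
    have h1 : Exact K K⟮x⟯ := exact_simple x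
    have h2 : Exact K⟮x⟯ L := by
      refine ih K⟮x⟯ L (s.erase x) (by rw [Finset.card_erase_of_mem hx]; omega) ?_
      apply IntermediateField.restrictScalars_injective K
      rw [IntermediateField.adjoin_adjoin_left, IntermediateField.restrictScalars_top, ← htop,
        Finset.coe_erase, Set.singleton_union, Set.insert_sdiff_singleton,
        Set.insert_eq_of_mem (Finset.mem_coe.mpr hx)]
    exact exact_tower K K⟮x⟯ L h1 h2

theorem exact_of_essFiniteType (K L : Type u) [Field K] [Field L] [Algebra K L]
    [Algebra.EssFiniteType K L] : Exact K L := by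
  obtain ⟨s, hs⟩ := IntermediateField.fg_top K L
  exact exact_of_adjoin s.card K L s rfl hs

/-- Cartier's equality. -/
theorem cartier_eq (K L : Type u) [Field K] [Field L] [Algebra K L] [Algebra.EssFiniteType K L] :
    Module.Finite L (Ω[L⁄K]) ∧
      Module.Finite L (LinearMap.ker (KaehlerDifferential.mapBaseChange ℤ K L)) ∧
      (Module.finrank L (Ω[L⁄K]) : ℤ) -
          Module.finrank L (LinearMap.ker (KaehlerDifferential.mapBaseChange ℤ K L)) =
        Cardinal.toNat (Algebra.trdeg K L) := by
  obtain ⟨a1, a2, n, hn, hi⟩ := exact_of_essFiniteType K L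
  obtain ⟨f1, f2, f3⟩ := fred_mapBaseChange_int K L
  have hr : LinearMap.range (KaehlerDifferential.mapBaseChange ℤ K L) =
      LinearMap.ker (KaehlerDifferential.map ℤ K L L) :=
    (LinearMap.exact_iff.mp (KaehlerDifferential.exact_mapBaseChange_map ℤ K L)).symm
  have e1 := (KaehlerDifferential.map ℤ K L L).quotKerEquivOfSurjective
    (KaehlerDifferential.map_surjective ℤ K L)
  rw [hr, e1.finrank_eq] at f3
  refine ⟨a2, f1, ?_⟩
  rw [hn, Cardinal.toNat_natCast]
  omega

end Groth.Agent.Lib.Helper6.CartierEq
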