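import Mathlib

/-! Kernel of a surjection onto a flat algebra. -/

namespace Groth.Agent.Lib.Helper6.FlatKer

theorem ker_le_mul_ker_of_flat {A B B' : Type*} [CommRing A] [CommRing B] [CommRing B']
    [Algebra A B] [Algebra A B'] [Module.Flat A B'] (J : Ideal A) (v : B →ₐ[A] B')
    (hv : Function.Surjective v) (hK : RingHom.ker v ≤ J.map (algebraMap A B)) :
    RingHom.ker v ≤ J.map (algebraMap A B) * RingHom.ker v := by
  intro x hx
  have hxJ : x ∈ Submodule.span B (algebraMap A B '' (J : Set A)) := hK hx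
  obtain ⟨n, f, g, hsum⟩ := Submodule.mem_span_set'.mp hxJ
  choose a ha using fun i => (g i).2
  have hx' : x = ∑ i, a i • f i := by
    rw [← hsum]
    apply Finset.sum_congr rfl
    intro i _
    rw [← (ha i).2, smul_eq_mul, Algebra.smul_def, mul_comm]
  have hrel : ∑ i, a i • v (f i) = 0 := by
    have h0 : v x = 0 := hx
    rw [hx', map_sum] at h0
    simpa [map_smul] using h0
  obtain ⟨k, c, y, hy1, hy2⟩ := Module.Flat.isTrivialRelation_of_sum_smul_eq_zero (R := A) (M := B') (f := a)
    (x := fun i => v (f i)) hrel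
  choose b' hb' using fun j => hv (y j)
  have hk : ∀ i, f i - ∑ j, c i j • b' j ∈ RingHom.ker v := by
    intro i
    have hy1' : v (f i) = ∑ j, c i j • y j := hy1 i
    rw [RingHom.mem_ker, map_sub, map_sum, hy1', sub_eq_zero]
    apply Finset.sum_congr rfl
    intro j _
    rw [map_smul, hb' j]
  have hx'' : x = ∑ i, a i • (f i - ∑ j, c i j • b' j) := by
    rw [hx']
    simp only [smul_sub, Finset.sum_sub_distrib]
    have : ∑ i, a i • ∑ j, c i j • b' j = 0 := by
      simp only [Finset.smul_sum, smul_smul]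
      rw [Finset.sum_comm]
      apply Finset.sum_eq_zero
      intro j _
      rw [← Finset.sum_smul, hy2 j, zero_smul]
    rw [this, sub_zero]
  rw [hx'']
  apply Ideal.sum_mem
  intro i _
  rw [Algebra.smul_def]
  exact Ideal.mul_mem_mul (Ideal.mem_map_of_mem _ (ha i).1) (hk i)

end Groth.Agent.Lib.Helper6.FlatKer
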