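import Groth.Prelude.Def_EGA41
import Groth.Prelude.Def_CAlgX
import Mathlib

/-! Helper lemmas on adic formal smoothness (lifting along surjections with nilpotent kernel). -/

namespace Groth.Agent.Lib.Helper6.FSAdic

universe u

section kills

variable {B : Type*} [CommRing B]

/-- Automatic continuity of lifts: if `π ∘ v` kills `𝔟 ^ k` and `(ker π) ^ n = 0`
then `v` kills `𝔟 ^ (k * n)`. -/
theorem kills_pow_of_comp {C D F G : Type*} [CommRing C] [CommRing D]
    [FunLike F C D] [RingHomClass F C D] [FunLike G B C] [RingHomClass G B C]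
    (π : F) (n : ℕ) (hn : RingHom.ker π ^ n = ⊥) (v : G) (𝔟 : Ideal B) (k : ℕ)
    (h : ∀ x ∈ 𝔟 ^ k, π (v x) = 0) : ∀ x ∈ 𝔟 ^ (k * n), v x = 0 := by
  intro x hx
  have h1 : (𝔟 ^ k).map v ≤ RingHom.ker π := by
    rw [Ideal.map_le_iff_le_comap]
    intro y hy
    exact h y hy
  have h2 : (𝔟 ^ (k * n)).map v ≤ ⊥ := by
    rw [pow_mul, Ideal.map_pow, ← hn]
    exact Ideal.pow_right_mono h1 n
  have := h2 (Ideal.mem_map_of_mem v hx)
  simpa using this

end kills

variable {A : Type u} [CommRing A] {B : Type u} [CommRing B] [Algebra A B]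

/-- The lifting property of adic formal smoothness for arbitrary surjections with nilpotent
kernel. -/
theorem exists_lift_of_surjective {𝔞 : Ideal A} {𝔟 : Ideal B}
    (h : EGA41.IsFormallySmoothAdic A 𝔞 B 𝔟) {C D : Type u} [CommRing C] [CommRing D]
    [Algebra A C] [Algebra A D] (π : C →ₐ[A] D) (hπ : Function.Surjective π)
    (hnil : IsNilpotent (RingHom.ker π)) (hC : ∃ k : ℕ, (𝔞 ^ k).map (algebraMap A C) = ⊥)
    (u : B →ₐ[A] D) (hu : ∃ k : ℕ, ∀ x ∈ 𝔟 ^ k, u x = 0) :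
    ∃ v : B →ₐ[A] C, π.comp v = u := by
  let e := Ideal.quotientKerAlgEquivOfSurjective hπ
  obtain ⟨v, hv⟩ := h C (RingHom.ker π) hnil hC (e.symm.toAlgHom.comp u) (by
    obtain ⟨k, hk⟩ := hu
    exact ⟨k, fun x hx => by simp [hk x hx]⟩)
  refine ⟨v, ?_⟩
  ext b
  have h1 : Ideal.Quotient.mk _ (v b) = e.symm (u b) := AlgHom.congr_fun hv b
  have h2 : e (Ideal.Quotient.mk _ (v b)) = u b := by rw [h1]; exact e.apply_symm_apply _
  rw [← h2]
  rfl

/-- Square-zero lifting for surjections. -/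
theorem sqZero_exists_lift_of_surjective {𝔫 : Ideal B}
    (h : CAlgX.IsAdicFormallySmooth A B 𝔫) {C D : Type u} [CommRing C] [CommRing D]
    [Algebra A C] [Algebra A D] (π : C →ₐ[A] D) (hπ : Function.Surjective π)
    (hsq : RingHom.ker π ^ 2 = ⊥)
    (u : B →ₐ[A] D) (hu : ∃ k : ℕ, ∀ x ∈ 𝔫 ^ k, u x = 0) :
    ∃ v : B →ₐ[A] C, π.comp v = u := by
  let e := Ideal.quotientKerAlgEquivOfSurjective hπ
  obtain ⟨v, hv⟩ := h C (RingHom.ker π) hsq (e.symm.toAlgHom.comp u) (by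
    obtain ⟨k, hk⟩ := hu
    exact ⟨k, fun x hx => by simp [hk x hx]⟩)
  refine ⟨v, ?_⟩
  ext b
  have h1 : Ideal.Quotient.mk _ (v b) = e.symm (u b) := AlgHom.congr_fun hv b
  have h2 : e (Ideal.Quotient.mk _ (v b)) = u b := by rw [h1]; exact e.apply_symm_apply _
  rw [← h2]
  rfl

/-- From square-zero to nilpotent kernels. -/
theorem nilp_exists_lift_of_surjective {𝔫 : Ideal B}
    (h : CAlgX.IsAdicFormallySmooth A B 𝔫) : ∀ (n : ℕ) {C D : Type u} [CommRing C] [CommRing D]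
    [Algebra A C] [Algebra A D] (π : C →ₐ[A] D), Function.Surjective π →
    RingHom.ker π ^ n = ⊥ → ∀ u : B →ₐ[A] D, (∃ k : ℕ, ∀ x ∈ 𝔫 ^ k, u x = 0) →
    ∃ v : B →ₐ[A] C, π.comp v = u := by
  intro n
  induction n with
  | zero =>
    intro C D _ _ _ _ π hπ hn u hu
    exact sqZero_exists_lift_of_surjective h π hπ
      (by rw [eq_bot_iff, ← hn]; exact Ideal.pow_le_pow_right (by norm_num)) u hu
  | succ n ih =>
    intro C D _ _ _ _ π hπ hn u hu
    by_cases hn1 : n + 1 ≤ 2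
    · exact sqZero_exists_lift_of_surjective h π hπ
        (by rw [eq_bot_iff, ← hn]; exact Ideal.pow_le_pow_right hn1) u hu
    · push_neg at hn1
      set K := RingHom.ker π with hK
      have hle : ∀ a ∈ K ^ n, π a = 0 := fun a ha =>
        (Ideal.pow_le_self (by omega) ha : a ∈ K)
      let π₁ : (C ⧸ K ^ n) →ₐ[A] D := Ideal.Quotient.liftₐ (K ^ n) π hle
      have hπ₁ : Function.Surjective π₁ := fun d => by
        obtain ⟨c, rfl⟩ := hπ d
        exact ⟨Ideal.Quotient.mk _ c, rfl⟩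
      have hker : RingHom.ker π₁ ≤ K.map (Ideal.Quotient.mk (K ^ n)) := by
        intro c₁ hc₁
        obtain ⟨c, rfl⟩ := Ideal.Quotient.mk_surjective c₁
        exact Ideal.mem_map_of_mem _ (show π c = 0 from hc₁)
      have hpow : RingHom.ker π₁ ^ n = ⊥ := by
        rw [eq_bot_iff]
        calc RingHom.ker π₁ ^ n ≤ (K.map (Ideal.Quotient.mk (K ^ n))) ^ n :=
              Ideal.pow_right_mono hker n
          _ = ⊥ := by rw [← Ideal.map_pow, Ideal.map_quotient_self]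
      obtain ⟨v₁, hv₁⟩ := ih π₁ hπ₁ hpow u hu
      obtain ⟨k, hk⟩ := hu
      have hcont : ∃ k' : ℕ, ∀ x ∈ 𝔫 ^ k', v₁ x = 0 :=
        ⟨k * n, kills_pow_of_comp π₁ n hpow v₁ 𝔫 k (fun x hx => by
          have := AlgHom.congr_fun hv₁ x
          rw [AlgHom.comp_apply] at this
          rw [this]; exact hk x hx)⟩
      obtain ⟨v, hv⟩ := sqZero_exists_lift_of_surjective h (Ideal.Quotient.mkₐ A (K ^ n))
        (Ideal.Quotient.mkₐ_surjective A _) (by
          have : RingHom.ker (Ideal.Quotient.mkₐ A (K ^ n)) = K ^ n := by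
            ext x; simp [RingHom.mem_ker, Ideal.Quotient.eq_zero_iff_mem]
          rw [this, ← pow_mul, eq_bot_iff, ← hn]
          exact Ideal.pow_le_pow_right (by omega)) v₁ hcont
      refine ⟨v, ?_⟩
      rw [← hv₁, ← hv]
      ext b
      rfl

theorem isFormallySmoothAdic_bot_of_isAdicFormallySmooth {𝔫 : Ideal B}
    (h : CAlgX.IsAdicFormallySmooth A B 𝔫) : EGA41.IsFormallySmoothAdic A ⊥ B 𝔫 := by
  intro C _ _ J hJ _ u hu
  obtain ⟨n, hn⟩ := hJ
  exact nilp_exists_lift_of_surjective h n (Ideal.Quotient.mkₐ A J)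
    (Ideal.Quotient.mkₐ_surjective A J) (by
      have : RingHom.ker (Ideal.Quotient.mkₐ A J) = J := by
        ext x; simp [RingHom.mem_ker, Ideal.Quotient.eq_zero_iff_mem]
      rw [this]; exact hn) u hu

theorem isAdicFormallySmooth_of_isFormallySmoothAdic_bot {𝔫 : Ideal B}
    (h : EGA41.IsFormallySmoothAdic A ⊥ B 𝔫) : CAlgX.IsAdicFormallySmooth A B 𝔫 := by
  intro C _ _ J hJ ψ hψ
  exact h C J ⟨2, hJ⟩ ⟨1, by simp [Ideal.map_bot]⟩ ψ hψ

end Groth.Agent.Lib.Helper6.FSAdic
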