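import Groth.Agent.Lib.Helper6.SmoothLift
import Groth.Agent.Lib.Helper16.Charts

/-!
# Helper library (helper6): locally constructible sets and etale charts
-/

set_option autoImplicit false
universe u
open CategoryTheory CategoryTheory.Limits AlgebraicGeometry Topology TopologicalSpace
open AlgSp

namespace Groth.Agent.Lib.Helper6.LocConstr

/-- Preimages of locally constructible sets under morphisms of schemes are locally constructible. -/
theorem isLocallyConstructible_preimage {W V : Scheme.{u}} (g : W ⟶ V) {s : Set V}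
    (hs : IsLocallyConstructible s) : IsLocallyConstructible (g ⁻¹' s) := by
  intro x
  obtain ⟨U₀, hU₀x, hU₀, hc⟩ := hs (g x)
  let O : V.Opens := ⟨U₀, hU₀⟩
  have hgx : g x ∈ U₀ := mem_of_mem_nhds hU₀x
  have hxO : x ∈ g ⁻¹ᵁ O := hgx
  refine ⟨((g ⁻¹ᵁ O : W.Opens) : Set W), (g ⁻¹ᵁ O).isOpen.mem_nhds hxO, (g ⁻¹ᵁ O).isOpen, ?_⟩
  have h1 : IsConstructible ((g ∣_ O) ⁻¹' ((Subtype.val : ↥O → V) ⁻¹' s)) :=
    Scheme.Hom.isConstructible_preimage (g ∣_ O) hc
  have h2 : (Subtype.val ⁻¹' (g ⁻¹' s) : Set ↥((g ⁻¹ᵁ O : W.Opens) : Set W)) =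
      ((g ∣_ O) ⁻¹' ((Subtype.val : ↥O → V) ⁻¹' s)) := by
    ext w
    show g w.1 ∈ s ↔ ((g ∣_ O) w).1 ∈ s
    rw [morphismRestrict_base_coe]
  first
    | (rw [h2]; exact h1)
    | (have h1' := h1; rw [← h2] at h1'; exact h1')
    | exact h2 ▸ h1
    | exact h2.symm ▸ h1

/-- Local constructibility descends along etale surjective morphisms of schemes. -/
theorem isLocallyConstructible_of_etale_surjective {W U : Scheme.{u}} (q : W ⟶ U) [Etale q]
    (hq : Function.Surjective q) (A : Set U)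
    (hA : IsLocallyConstructible (q ⁻¹' A)) : IsLocallyConstructible A := by
  intro x
  obtain ⟨w, rfl⟩ := hq x
  obtain ⟨W', U', hW', hU', hwW', -, hle⟩ := SmoothLift.exists_small_affine q w ⊤ trivial
  have : IsAffine (W' : Scheme.{u}) := hW'
  have : IsAffine (U' : Scheme.{u}) := hU'
  obtain ⟨q', hq'⟩ : ∃ q' : (W' : Scheme.{u}) ⟶ (U' : Scheme.{u}), q' = q.resLE U' W' hle :=
    ⟨_, rfl⟩
  have : Etale q' := by rw [hq']; infer_instance
  have : LocallyOfFinitePresentation q' := inferInstance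
  have : QuasiCompact q' :=
    HasAffineProperty.iff_of_isAffine.mpr (inferInstanceAs (CompactSpace (W' : Scheme.{u})))
  have hq'c : ∀ w' : (W' : Scheme.{u}), (q' w').1 = q w'.1 := by
    intro w'
    rw [hq']
    exact Scheme.Hom.coe_resLE_apply _ _ w'
  have h1 : IsLocallyConstructible (W'.ι ⁻¹' (q ⁻¹' A)) :=
    hA.preimage_of_isOpenEmbedding W'.ι.isOpenEmbedding
  have h2 : IsConstructible (q' '' (W'.ι ⁻¹' (q ⁻¹' A))) :=
    (q'.isLocallyConstructible_image h1).isConstructible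
  have : Flat q := inferInstance
  have : LocallyOfFinitePresentation q := inferInstance
  have hO : IsOpen (q '' (W' : Set W)) := q.isOpenMap _ W'.isOpen
  have hOU' : q '' (W' : Set W) ⊆ (U' : Set U) := by
    rintro _ ⟨w', hw', rfl⟩
    exact hle hw'
  have hf : IsOpenEmbedding (Set.inclusion hOU') :=
    IsOpenEmbedding.inclusion hOU' (hO.preimage continuous_subtype_val)
  have h3 : IsConstructible (Set.inclusion hOU' ⁻¹' (q' '' (W'.ι ⁻¹' (q ⁻¹' A)))) :=
    h2.preimage_of_isOpenEmbedding hf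
  refine ⟨q '' (W' : Set W), hO.mem_nhds ⟨w, hwW', rfl⟩, hO, ?_⟩
  convert h3 using 1
  ext o
  constructor
  · intro ho
    obtain ⟨w', hw'W', hw'o⟩ := o.2
    refine ⟨⟨w', hw'W'⟩, ?_, ?_⟩
    · show q w' ∈ A
      rw [hw'o]
      exact ho
    · apply Subtype.ext
      rw [hq'c]
      exact hw'o
  · rintro ⟨w', hw'A, hw'f⟩
    have h4 : o.1 = q w'.1 := by
      rw [← hq'c w', hw'f]
    show o.1 ∈ A
    rw [h4]
    exact hw'A

theorem main10189 {S : Scheme.{u}} (X : AlgSp.Space S)
    (E : Set (AlgSp.Points X.obj)) {U : Over S} (p : (AlgSp.yon S).obj U ⟶ X.obj)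
    (hp : AlgSp.RepWith @Etale p) (hs : AlgSp.RepWith @Surjective p)
    (hE : IsLocallyConstructible (AlgSp.Points.ofPt p ⁻¹' E))
    {V : Over S} (a : (AlgSp.yon S).obj V ⟶ X.obj) (ha : AlgSp.RepWith @Etale a) :
    IsLocallyConstructible (AlgSp.Points.ofPt a ⁻¹' E) := by
  obtain ⟨W, snd, fst, sq⟩ := hp.rep a
  have hse : Etale snd.left := hp.property a fst snd sq
  have hss : Surjective snd.left := hs.property a fst snd sq
  obtain ⟨r, rfl⟩ := (yon S).map_surjective fst
  have h1 := isLocallyConstructible_preimage r.left hE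
  have := hse
  apply isLocallyConstructible_of_etale_surjective snd.left hss.surj
  convert h1 using 1
  ext w
  show Points.ofPt a (snd.left w) ∈ E ↔ Points.ofPt p (r.left w) ∈ E
  rw [← Helper16.ofPt_yon_map_comp, ← Helper16.ofPt_yon_map_comp, sq.w]

theorem main9981 {S : Scheme.{u}} {X Y : AlgSp.Space S} (f : X ⟶ Y)
    (E : Set (AlgSp.Points Y.obj))
    (hE : (∀ (U : Over S) (φ : (AlgSp.yon S).obj U ⟶ Y.obj), AlgSp.RepWith @Etale φ →
        Topology.IsLocallyConstructible (AlgSp.Points.ofPt φ ⁻¹' E))) :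
    (∀ (U : Over S) (φ : (AlgSp.yon S).obj U ⟶ X.obj), AlgSp.RepWith @Etale φ →
        Topology.IsLocallyConstructible (AlgSp.Points.ofPt φ ⁻¹' (AlgSp.Points.map f.hom ⁻¹' E))) := by
  intro U φ hφ
  obtain ⟨V, b, hbe, hbs⟩ := Y.property.atlas
  obtain ⟨W, snd, fst, sq⟩ := hbe.rep (φ ≫ f.hom)
  have hse : Etale snd.left := hbe.property _ fst snd sq
  have hss : Surjective snd.left := hbs.property _ fst snd sq
  obtain ⟨r, rfl⟩ := (yon S).map_surjective fst
  have h1 := isLocallyConstructible_preimage r.left (hE V b hbe)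
  have := hse
  apply isLocallyConstructible_of_etale_surjective snd.left hss.surj
  convert h1 using 1
  ext w
  show Points.map f.hom (Points.ofPt φ (snd.left w)) ∈ E ↔ Points.ofPt b (r.left w) ∈ E
  rw [Points.map_ofPt, ← Helper16.ofPt_yon_map_comp, ← Helper16.ofPt_yon_map_comp, sq.w]

end Groth.Agent.Lib.Helper6.LocConstr
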