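import Mathlib

/-!
# Permutable regular sequences and the polynomial ring

For `f_1, …, f_r ∈ R` generating a proper ideal, every permutation of `f` is a regular sequence
iff `f_1 x_1, …, f_r x_r` is a regular sequence in `R[x_1, …, x_r]`.
-/

namespace Groth.Agent.Lib.Helper6.PermReg

open MvPolynomial RingTheory.Sequence

section general

variable {A : Type*} [CommRing A]

/-- `a` is a nonzerodivisor modulo `J`. -/
def Reg (J : Ideal A) (a : A) : Prop := ∀ x, a * x ∈ J → x ∈ J

lemma smul_top_self (J : Ideal A) : (J • ⊤ : Submodule A A) = J := by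
  rw [Ideal.smul_eq_mul, Ideal.mul_top]

lemma isSMulRegular_quot_smul_top_iff (J : Ideal A) (a : A) :
    IsSMulRegular (A ⧸ (J • ⊤ : Submodule A A)) a ↔ Reg J a := by
  rw [isSMulRegular_quotient_iff_mem_of_smul_mem, smul_top_self]
  rfl

lemma ofList_ofFn {r : ℕ} (g : Fin r → A) :
    Ideal.ofList (List.ofFn g) = Ideal.span (Set.range g) := by
  show Ideal.span _ = _
  congr 1
  ext x
  simp [List.mem_ofFn]

lemma ofList_take_ofFn {r : ℕ} (g : Fin r → A) (i : ℕ) :
    Ideal.ofList ((List.ofFn g).take i) = Ideal.span (g '' {j | j.val < i}) := by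
  show Ideal.span _ = _
  congr 1
  ext x
  simp only [Set.mem_ofPred_eq, List.mem_take_iff_getElem, List.length_ofFn, List.getElem_ofFn,
    Set.mem_image]
  constructor
  · rintro ⟨k, hk, rfl⟩
    exact ⟨⟨k, (lt_min_iff.mp hk).2⟩, (lt_min_iff.mp hk).1, rfl⟩
  · rintro ⟨j, hj, rfl⟩
    exact ⟨j.val, lt_min_iff.mpr ⟨hj, j.isLt⟩, rfl⟩

lemma isWeaklyRegular_ofFn_iff {r : ℕ} (g : Fin r → A) :
    IsWeaklyRegular A (List.ofFn g) ↔
      ∀ i : Fin r, Reg (Ideal.span (g '' {j | j < i})) (g i) := by
  rw [isWeaklyRegular_iff]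
  constructor
  · intro h i
    have h1 := h i.val (by simp)
    rw [List.getElem_ofFn, ofList_take_ofFn, isSMulRegular_quot_smul_top_iff] at h1
    exact h1
  · intro h i hi
    have hi' : i < r := by simpa using hi
    have h1 := h ⟨i, hi'⟩
    rw [List.getElem_ofFn, ofList_take_ofFn, isSMulRegular_quot_smul_top_iff]
    exact h1

lemma reg_swap {J : Ideal A} {a b : A} (ha : Reg J a) (hb : Reg (J ⊔ Ideal.span {a}) b) :
    Reg (J ⊔ Ideal.span {b}) a := by
  intro x hx
  obtain ⟨u, hu, v, hv, huv⟩ := Submodule.mem_sup.mp hx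
  obtain ⟨y, rfl⟩ := Ideal.mem_span_singleton'.mp hv
  have h1 : b * y ∈ J ⊔ Ideal.span {a} := by
    have : b * y = -u + x * a := by linear_combination huv
    rw [this]
    exact Submodule.add_mem_sup (J.neg_mem hu) (Ideal.mem_span_singleton'.mpr ⟨x, rfl⟩)
  obtain ⟨u', hu', v', hv', huv'⟩ := Submodule.mem_sup.mp (hb y h1)
  obtain ⟨z, rfl⟩ := Ideal.mem_span_singleton'.mp hv'
  have h2 : a * (x - b * z) ∈ J := by
    have : a * (x - b * z) = u + b * u' := by
      linear_combination (-1 : A) * huv - b * huv'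
    rw [this]
    exact J.add_mem hu (J.mul_mem_left _ hu')
  have h3 := ha _ h2
  have : x = (x - b * z) + z * b := by ring
  rw [this]
  exact Submodule.add_mem_sup h3 (Ideal.mem_span_singleton'.mpr ⟨z, rfl⟩)

end general

section main

variable {R : Type*} [CommRing R] {r : ℕ} (f : Fin r → R)

/-- The ideal generated by the `f j`, `j ∈ S`. -/
def I (S : Finset (Fin r)) : Ideal R := Ideal.span (f '' (S : Set (Fin r)))

lemma I_mono {S T : Finset (Fin r)} (h : S ⊆ T) : I f S ≤ I f T :=
  Ideal.span_mono (Set.image_mono (Finset.coe_subset.mpr h))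

lemma I_insert (m : Fin r) (S : Finset (Fin r)) :
    I f (insert m S) = I f S ⊔ Ideal.span {f m} := by
  unfold I
  rw [Finset.coe_insert, Set.image_insert_eq, Ideal.span_insert, sup_comm]

/-- every `f i` is regular modulo the `f j` for `j` in any set of smaller indices. -/
def H2 : Prop := ∀ (i : Fin r) (S : Finset (Fin r)), (∀ j ∈ S, j < i) → Reg (I f S) (f i)

/-- every `f i` is regular modulo the `f j` for `j` in any set not containing `i`. -/
def HP : Prop := ∀ (i : Fin r) (S : Finset (Fin r)), i ∉ S → Reg (I f S) (f i)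

lemma h2_of_hp (h : HP f) : H2 f := fun i S hS => h i S (fun hi => lt_irrefl _ (hS i hi))

lemma hp_of_h2 (h : H2 f) : HP f := by
  intro i S
  induction S using Finset.strongInduction with
  | H S ih =>
    intro hi
    by_cases hS : ∀ j ∈ S, j < i
    · exact h i S hS
    · push Not at hS
      obtain ⟨j0, hj0, hj0i⟩ := hS
      have hne : S.Nonempty := ⟨j0, hj0⟩
      have hm : S.max' hne ∈ S := S.max'_mem hne
      have hmi : i < S.max' hne := by
        have h1 : j0 ≤ S.max' hne := S.le_max' j0 hj0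
        have h2 : i ≤ j0 := by simpa using hj0i
        have h3 : i ≠ j0 := fun e => hi (e ▸ hj0)
        exact lt_of_lt_of_le (lt_of_le_of_ne h2 h3) h1
      have hS' : insert (S.max' hne) (S.erase (S.max' hne)) = S := Finset.insert_erase hm
      have h1 : Reg (I f (S.erase (S.max' hne))) (f i) :=
        ih _ (Finset.erase_ssubset hm) (fun hh => hi (Finset.mem_of_mem_erase hh))
      have h2 : Reg (I f (insert i (S.erase (S.max' hne)))) (f (S.max' hne)) := by
        apply h
        intro j hj
        rcases Finset.mem_insert.mp hj with rfl | hj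
        · exact hmi
        · exact lt_of_le_of_ne (S.le_max' j (Finset.mem_of_mem_erase hj))
            (Finset.ne_of_mem_erase hj)
      rw [I_insert] at h2
      have h3 : I f S = I f (S.erase (S.max' hne)) ⊔ Ideal.span {f (S.max' hne)} := by
        rw [← I_insert, hS']
      rw [h3]
      exact reg_swap h1 h2

lemma image_comp_perm (σ : Equiv.Perm (Fin r)) (i : Fin r) :
    Ideal.span ((f ∘ σ) '' {j | j < i}) =
      I f ((Finset.univ.filter (fun j => j < i)).image σ) := by
  unfold I
  congr 1
  rw [Finset.coe_image, Finset.coe_filter, Set.image_comp]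
  simp

lemma wreg_perm_of_hp (h : HP f) (σ : Equiv.Perm (Fin r)) :
    IsWeaklyRegular R (List.ofFn (f ∘ σ)) := by
  rw [isWeaklyRegular_ofFn_iff]
  intro i
  rw [image_comp_perm]
  show Reg _ (f (σ i))
  apply h
  intro hmem
  obtain ⟨j, hj, hji⟩ := Finset.mem_image.mp hmem
  have hj' : j < i := (Finset.mem_filter.mp hj).2
  exact absurd (σ.injective hji) (ne_of_lt hj')

lemma exists_perm (S : Finset (Fin r)) (i : Fin r) (hi : i ∉ S) :
    ∃ (σ : Equiv.Perm (Fin r)) (c : Fin r), σ c = i ∧ σ '' {j | j < c} = (S : Set (Fin r)) := by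
  classical
  have hc : S.card < r := by
    have := Finset.card_lt_univ_of_notMem hi
    rwa [Fintype.card_fin] at this
  let c : Fin r := ⟨S.card, hc⟩
  have hcard : Fintype.card {j : Fin r // j < c} = Fintype.card {x : Fin r // x ∈ S} := by
    rw [Fintype.card_coe, Fintype.card_subtype]
    have : (Finset.univ.filter (fun j : Fin r => j < c)) = Finset.Iio c := by
      ext j; simp
    rw [this, Fin.card_Iio]
  let e : {j : Fin r // j < c} ≃ {x : Fin r // x ∈ S} := Fintype.equivOfCardEq hcard
  let σ1 : Equiv.Perm (Fin r) := e.extendSubtype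
  have hi' : σ1 c ∉ S := e.extendSubtype_not_mem c (lt_irrefl c)
  refine ⟨σ1.trans (Equiv.swap (σ1 c) i), c, ?_, ?_⟩
  · show Equiv.swap (σ1 c) i (σ1 c) = i
    exact Equiv.swap_apply_left _ _
  · ext x
    constructor
    · rintro ⟨j, hj, rfl⟩
      have hmem : σ1 j ∈ S := e.extendSubtype_mem j hj
      show Equiv.swap (σ1 c) i (σ1 j) ∈ S
      rw [Equiv.swap_apply_of_ne_of_ne (ne_of_mem_of_not_mem hmem hi')
        (ne_of_mem_of_not_mem hmem hi)]
      exact hmem
    · intro hx
      have hx' : x ∈ S := hx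
      refine ⟨σ1.symm x, ?_, ?_⟩
      · by_contra hlt
        have := e.extendSubtype_not_mem (σ1.symm x) hlt
        apply this
        show σ1 (σ1.symm x) ∈ S
        rw [Equiv.apply_symm_apply]
        exact hx'
      · show Equiv.swap (σ1 c) i (σ1 (σ1.symm x)) = x
        rw [Equiv.apply_symm_apply, Equiv.swap_apply_of_ne_of_ne (ne_of_mem_of_not_mem hx' hi')
          (ne_of_mem_of_not_mem hx' hi)]

lemma hp_of_wreg_perm
    (h : ∀ σ : Equiv.Perm (Fin r), IsWeaklyRegular R (List.ofFn (f ∘ σ))) : HP f := by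
  intro i S hi
  obtain ⟨σ, c, hc, himg⟩ := exists_perm S i hi
  have h1 := (isWeaklyRegular_ofFn_iff (f ∘ σ)).mp (h σ) c
  have h2 : Ideal.span ((f ∘ σ) '' {j | j < c}) = I f S := by
    unfold I; rw [Set.image_comp, himg]
  rw [h2] at h1
  have h3 : (f ∘ σ) c = f i := by simp [hc]
  rw [h3] at h1
  exact h1

/-- The polynomials `f_i x_i`. -/
noncomputable def g (i : Fin r) : MvPolynomial (Fin r) R := C (f i) * X i

/-- The index set `supp e ∩ {j < i}`. -/
def T (i : Fin r) (e : Fin r →₀ ℕ) : Finset (Fin r) := e.support.filter (fun j => j < i)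

lemma T_subset_add (i : Fin r) (d e : Fin r →₀ ℕ) : T i e ⊆ T i (d + e) := by
  intro j hj
  simp only [T, Finset.mem_filter, Finsupp.mem_support_iff, Finsupp.add_apply] at hj ⊢
  exact ⟨by omega, hj.2⟩

/-- The ideal of polynomials whose coefficient at `x^e` lies in `(f_j : j ∈ supp e, j < i)`. -/
def K (i : Fin r) : Ideal (MvPolynomial (Fin r) R) where
  carrier := {p | ∀ e, coeff e p ∈ I f (T i e)}
  add_mem' := by
    intro p q hp hq e
    rw [coeff_add]
    exact Ideal.add_mem _ (hp e) (hq e)
  zero_mem' := by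
    intro e
    rw [coeff_zero]
    exact Ideal.zero_mem _
  smul_mem' := by
    intro c p hp e
    rw [smul_eq_mul, coeff_mul]
    refine Ideal.sum_mem _ fun x hx => ?_
    have hx' : x.1 + x.2 = e := Finset.HasAntidiagonal.mem_antidiagonal.mp hx
    refine Ideal.mul_mem_left _ _ (I_mono f ?_
      ((show ∀ e, coeff e p ∈ I f (T i e) from hp) x.2))
    rw [← hx']
    exact T_subset_add i x.1 x.2

lemma mem_K (i : Fin r) (p : MvPolynomial (Fin r) R) :
    p ∈ K f i ↔ ∀ e, coeff e p ∈ I f (T i e) := Iff.rfl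

lemma g_mem_K (i j : Fin r) (hj : j < i) : g f j ∈ K f i := by
  rw [mem_K]
  intro e
  unfold g
  rw [coeff_C_mul, coeff_X]
  split_ifs with h
  · subst h
    rw [mul_one]
    apply Ideal.subset_span
    refine ⟨j, ?_, rfl⟩
    simp [T, hj]
  · rw [mul_zero]
    exact Ideal.zero_mem _

lemma monomial_mem (i : Fin r) (e : Fin r →₀ ℕ) (c : R) (hc : c ∈ I f (T i e)) :
    monomial e c ∈ Ideal.span (g f '' {j | j < i}) := by
  unfold I at hc
  induction hc using Submodule.span_induction with
  | mem x hx =>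
    obtain ⟨j, hj, rfl⟩ := hx
    have hj' : e j ≠ 0 ∧ j < i := by simpa [T] using hj
    have hle : Finsupp.single j 1 ≤ e := by
      rw [Finsupp.single_le_iff]
      omega
    have : monomial e (f j) = g f j * monomial (e - Finsupp.single j 1) 1 := by
      unfold g
      rw [C_mul_X_eq_monomial, monomial_mul, mul_one, add_tsub_cancel_of_le hle]
    rw [this]
    exact Ideal.mul_mem_right _ _ (Ideal.subset_span ⟨j, hj'.2, rfl⟩)
  | zero => rw [map_zero]; exact Ideal.zero_mem _
  | add x y _ _ hx hy => rw [map_add]; exact Ideal.add_mem _ hx hy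
  | smul a x _ hx =>
    rw [smul_eq_mul, ← C_mul_monomial]
    exact Ideal.mul_mem_left _ _ hx

lemma span_eq_K (i : Fin r) : Ideal.span (g f '' {j | j < i}) = K f i := by
  apply le_antisymm
  · rw [Ideal.span_le]
    rintro _ ⟨j, hj, rfl⟩
    exact g_mem_K f i j hj
  · intro p hp
    rw [← support_sum_monomial_coeff p]
    exact Ideal.sum_mem _ fun e _ => monomial_mem f i e _ ((mem_K f i p).mp hp e)

lemma reg_K_of_h2 (i : Fin r)
    (h : ∀ S : Finset (Fin r), (∀ j ∈ S, j < i) → Reg (I f S) (f i)) :
    Reg (K f i) (g f i) := by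
  intro p hp
  rw [mem_K] at hp ⊢
  intro e
  have h1 := hp (e + Finsupp.single i 1)
  have h2 : coeff (e + Finsupp.single i 1) (g f i * p) = f i * coeff e p := by
    unfold g
    rw [mul_assoc, coeff_C_mul, add_comm e, coeff_X_mul]
  have h3 : T i (e + Finsupp.single i 1) = T i e := by
    ext j
    simp only [T, Finset.mem_filter, Finsupp.mem_support_iff, Finsupp.add_apply,
      Finsupp.single_apply]
    constructor
    · rintro ⟨h1, h2⟩
      refine ⟨?_, h2⟩
      have : i ≠ j := (ne_of_lt h2).symm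
      simpa [this] using h1
    · rintro ⟨h1, h2⟩
      refine ⟨?_, h2⟩
      have : i ≠ j := (ne_of_lt h2).symm
      simpa [this] using h1
  rw [h2, h3] at h1
  exact h (T i e) (fun j hj => (Finset.mem_filter.mp hj).2) _ h1

/-- The indicator exponent vector of a finite set of variables. -/
def ind (S : Finset (Fin r)) : Fin r →₀ ℕ where
  support := S
  toFun j := if j ∈ S then 1 else 0
  mem_support_toFun j := by simp

lemma ind_apply (S : Finset (Fin r)) (j : Fin r) : ind S j = if j ∈ S then 1 else 0 := rfl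

lemma ind_support (S : Finset (Fin r)) : (ind S).support = S := rfl

lemma h2_of_reg_K (i : Fin r) (h : Reg (K f i) (g f i)) (S : Finset (Fin r))
    (hS : ∀ j ∈ S, j < i) : Reg (I f S) (f i) := by
  intro x hx
  have hT1 : T i (Finsupp.single i 1 + ind S) = S := by
    ext j
    simp only [T, Finset.mem_filter, Finsupp.mem_support_iff, Finsupp.add_apply,
      Finsupp.single_apply, ind_apply]
    constructor
    · rintro ⟨h1, h2⟩
      have : i ≠ j := (ne_of_lt h2).symm
      by_contra hj
      apply h1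
      simp [this, hj]
    · intro hj
      refine ⟨?_, hS j hj⟩
      simp [hj]
  have hT2 : T i (ind S) = S := by
    ext j
    simp only [T, Finset.mem_filter, ind_support]
    exact ⟨fun h => h.1, fun hj => ⟨hj, hS j hj⟩⟩
  have hmem : g f i * monomial (ind S) x ∈ K f i := by
    rw [mem_K]
    intro e
    have : g f i * monomial (ind S) x = monomial (Finsupp.single i 1 + ind S) (f i * x) := by
      unfold g
      rw [C_mul_X_eq_monomial, monomial_mul]
    rw [this, coeff_monomial]
    split_ifs with he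
    · rw [← he, hT1]
      exact hx
    · exact Ideal.zero_mem _
  have h1 := (mem_K f i _).mp (h _ hmem) (ind S)
  rw [coeff_monomial, if_pos rfl, hT2] at h1
  exact h1

lemma isWeaklyRegular_poly_iff :
    IsWeaklyRegular (MvPolynomial (Fin r) R) (List.ofFn (g f)) ↔ H2 f := by
  rw [isWeaklyRegular_ofFn_iff]
  constructor
  · intro h i S hS
    have h1 := h i
    rw [span_eq_K] at h1
    exact h2_of_reg_K f i h1 S hS
  · intro h i
    rw [span_eq_K]
    exact reg_K_of_h2 f i (h i)

lemma top_ne_poly (hf : Ideal.span (Set.range f) ≠ ⊤) :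
    (⊤ : Submodule (MvPolynomial (Fin r) R) (MvPolynomial (Fin r) R)) ≠
      Ideal.ofList (List.ofFn (g f)) • ⊤ := by
  intro heq
  rw [ofList_ofFn, smul_top_self] at heq
  apply hf
  rw [Ideal.eq_top_iff_one]
  have h1 : (1 : MvPolynomial (Fin r) R) ∈ Ideal.span (Set.range (g f)) := by
    rw [← heq]; exact Submodule.mem_top
  have hle : Ideal.span (Set.range (g f)) ≤
      Ideal.comap (MvPolynomial.eval (fun _ => (1 : R))) (Ideal.span (Set.range f)) := by
    rw [Ideal.span_le]
    rintro _ ⟨j, rfl⟩
    show MvPolynomial.eval (fun _ => (1 : R)) (g f j) ∈ Ideal.span (Set.range f)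
    unfold g
    rw [map_mul, eval_C, eval_X, mul_one]
    exact Ideal.subset_span ⟨j, rfl⟩
  have h2 : MvPolynomial.eval (fun _ => (1 : R)) (1 : MvPolynomial (Fin r) R) ∈
      Ideal.span (Set.range f) := hle h1
  rwa [map_one] at h2

lemma top_ne_perm (hf : Ideal.span (Set.range f) ≠ ⊤) (σ : Equiv.Perm (Fin r)) :
    (⊤ : Submodule R R) ≠ Ideal.ofList (List.ofFn (f ∘ σ)) • ⊤ := by
  rw [ofList_ofFn, smul_top_self, σ.surjective.range_comp]
  exact hf.symm

/-- For elements `f_1, …, f_r` generating a proper ideal, all reorderings are regular sequences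
in `R` iff the products `f_i x_i` form a regular sequence in `R[x_1, …, x_r]`. -/
theorem isRegular_perm_iff_polynomial (hf : Ideal.span (Set.range f) ≠ ⊤) :
    (∀ σ : Equiv.Perm (Fin r), IsRegular R (List.ofFn (f ∘ σ))) ↔
      IsRegular (MvPolynomial (Fin r) R) (List.ofFn fun i => C (f i) * X i) := by
  constructor
  · intro h
    exact ⟨(isWeaklyRegular_poly_iff f).mpr
      (h2_of_hp f (hp_of_wreg_perm f fun σ => (h σ).toIsWeaklyRegular)), top_ne_poly f hf⟩
  · intro h σ
    exact ⟨wreg_perm_of_hp f (hp_of_h2 f ((isWeaklyRegular_poly_iff f).mp h.toIsWeaklyRegular)) σ,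
      top_ne_perm f hf σ⟩

end main

end Groth.Agent.Lib.Helper6.PermReg
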