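import Mathlib
import Groth.Agent.Lib.Helper6.PermReg
import Groth.Agent.Lib.Helper4.RegCM
import Groth.Agent.Lib.Helper26.RegSeq

/-!
# Powers of a regular system of parameters

In a regular local ring every member of a regular system of parameters is a nonzerodivisor modulo
arbitrary powers of the other members.  Also: stabilisation of colon ideals in Noetherian rings.
-/

namespace Groth.Agent.Lib.Helper6.AnnStable

open Groth.Agent.Lib.Helper6.PermReg (Reg HP hp_of_wreg_perm)

universe u

section general

variable {B : Type*} [CommRing B]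

lemma reg_pow_of_reg {J : Ideal B} {a : B} (h : Reg J a) (k : ℕ) : Reg J (a ^ k) := by
  induction k with
  | zero => intro x hx; rwa [pow_zero, one_mul] at hx
  | succ k ih =>
    intro x hx
    apply ih
    apply h
    rw [← mul_assoc, ← pow_succ']
    exact hx

lemma reg_sup_pow {J : Ideal B} {a b : B} (ha : Reg (J ⊔ Ideal.span {b}) a) (hb : Reg J b) :
    ∀ e : ℕ, 1 ≤ e → Reg (J ⊔ Ideal.span {b ^ e}) a := by
  intro e he
  induction e, he using Nat.le_induction with
  | base => rwa [pow_one]
  | succ e he ih =>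
    intro x hx
    have hle : J ⊔ Ideal.span {b ^ (e + 1)} ≤ J ⊔ Ideal.span {b} := by
      refine sup_le_sup_left ?_ J
      rw [Ideal.span_singleton_le_iff_mem, pow_succ]
      exact Ideal.mul_mem_left _ _ (Ideal.mem_span_singleton_self b)
    obtain ⟨j, hj, v, hv, hjv⟩ := Submodule.mem_sup.mp (ha x (hle hx))
    obtain ⟨y, rfl⟩ := Ideal.mem_span_singleton'.mp hv
    obtain ⟨j', hj', v', hv', hjv'⟩ := Submodule.mem_sup.mp hx
    obtain ⟨z, rfl⟩ := Ideal.mem_span_singleton'.mp hv'
    -- hjv : j + y * b = x ; hjv' : j' + z * b ^ (e+1) = a * x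
    have h1 : b * (a * y - z * b ^ e) ∈ J := by
      have : b * (a * y - z * b ^ e) = j' - a * j := by
        rw [← hjv] at hjv'
        linear_combination (-1 : B) * hjv'
      rw [this]
      exact J.sub_mem hj' (J.mul_mem_left _ hj)
    have h2 : a * y ∈ J ⊔ Ideal.span {b ^ e} := by
      have : a * y = (a * y - z * b ^ e) + z * b ^ e := by ring
      rw [this]
      exact Submodule.add_mem_sup (hb _ h1) (Ideal.mem_span_singleton'.mpr ⟨z, rfl⟩)
    obtain ⟨j'', hj'', v'', hv'', hjv''⟩ := Submodule.mem_sup.mp (ih y h2)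
    obtain ⟨w, rfl⟩ := Ideal.mem_span_singleton'.mp hv''
    have : x = (j + j'' * b) + w * b ^ (e + 1) := by
      rw [← hjv, ← hjv'']; ring
    rw [this]
    exact Submodule.add_mem_sup (J.add_mem hj (J.mul_mem_right _ hj''))
      (Ideal.mem_span_singleton'.mpr ⟨w, rfl⟩)

variable {d : ℕ} (p : Fin d → B)

/-- The ideal generated by the powers `p j ^ ε j` with `ε j ≠ 0`. -/
def Jpow (ε : Fin d → ℕ) : Ideal B := Ideal.span {y | ∃ j, ε j ≠ 0 ∧ y = p j ^ ε j}

lemma Jpow_update (ε : Fin d → ℕ) (j : Fin d) (c : ℕ) (hc : c ≠ 0) :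
    Jpow p (Function.update ε j c) =
      Jpow p (Function.update ε j 0) ⊔ Ideal.span {p j ^ c} := by
  apply le_antisymm
  · unfold Jpow
    rw [Ideal.span_le]
    rintro y ⟨k, hk, rfl⟩
    by_cases hkj : k = j
    · subst hkj
      rw [Function.update_self]
      exact Ideal.mem_sup_right (Ideal.mem_span_singleton_self _)
    · rw [Function.update_of_ne hkj] at hk ⊢
      refine Ideal.mem_sup_left (Ideal.subset_span ⟨k, ?_, ?_⟩)
      · rwa [Function.update_of_ne hkj]
      · rw [Function.update_of_ne hkj]
  · apply sup_le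
    · unfold Jpow
      rw [Ideal.span_le]
      rintro y ⟨k, hk, rfl⟩
      have hkj : k ≠ j := by
        rintro rfl
        rw [Function.update_self] at hk
        exact hk rfl
      rw [Function.update_of_ne hkj] at hk ⊢
      refine Ideal.subset_span ⟨k, ?_, ?_⟩
      · rwa [Function.update_of_ne hkj]
      · rw [Function.update_of_ne hkj]
    · rw [Ideal.span_singleton_le_iff_mem]
      refine Ideal.subset_span ⟨j, ?_, ?_⟩
      · rwa [Function.update_self]
      · rw [Function.update_self]

lemma reg_Jpow (h : HP p) : ∀ (N : ℕ) (ε : Fin d → ℕ) (i : Fin d), ∑ j, ε j = N → ε i = 0 →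
    Reg (Jpow p ε) (p i) := by
  classical
  intro N
  induction N using Nat.strong_induction_on with
  | _ N ih =>
    intro ε i hN hi
    by_cases hsmall : ∀ j, ε j ≤ 1
    · have hJ : Jpow p ε =
          Groth.Agent.Lib.Helper6.PermReg.I p (Finset.univ.filter fun j => ε j ≠ 0) := by
        unfold Jpow Groth.Agent.Lib.Helper6.PermReg.I
        congr 1
        ext y
        simp only [Finset.coe_filter, Finset.mem_univ, true_and, Set.mem_image]
        constructor
        · rintro ⟨j, hj, rfl⟩
          have h1 : ε j = 1 := by have := hsmall j; omega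
          exact ⟨j, hj, by rw [h1, pow_one]⟩
        · rintro ⟨j, hj, rfl⟩
          have hj' : ε j ≠ 0 := hj
          have h1 : ε j = 1 := by have := hsmall j; omega
          exact ⟨j, hj', by rw [h1, pow_one]⟩
      rw [hJ]
      apply h
      simp [hi]
    · push Not at hsmall
      obtain ⟨j, hj⟩ := hsmall
      have hji : i ≠ j := by
        rintro rfl
        omega
      have hsum : ∀ c : ℕ, ∑ x, Function.update ε j c x = c + ∑ x ∈ Finset.univ \ {j}, ε x :=
        fun c => Finset.sum_update_of_mem (Finset.mem_univ j) ε c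
      have hε : Function.update ε j (ε j) = ε := Function.update_eq_self j ε
      have hN' : N = ε j + ∑ x ∈ Finset.univ \ {j}, ε x := by
        rw [← hN]
        conv_lhs => rw [← hε]
        exact hsum (ε j)
      have h1 : Reg (Jpow p (Function.update ε j 1)) (p i) :=
        ih _ (by rw [hN']; omega) (Function.update ε j 1) i (hsum 1) (by
          rw [Function.update_of_ne hji]; exact hi)
      have h0 : Reg (Jpow p (Function.update ε j 0)) (p j) :=
        ih _ (by rw [hN']; omega) (Function.update ε j 0) j (hsum 0) (by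
          rw [Function.update_self])
      rw [Jpow_update p ε j 1 one_ne_zero, pow_one] at h1
      rw [← hε, Jpow_update p ε j (ε j) (by omega)]
      exact reg_sup_pow h1 h0 (ε j) (by omega)

end general

section regular

variable {B : Type u} [CommRing B] [IsRegularLocalRing B]

theorem reg_powers_of_rsop {d : ℕ} (hd : ringKrullDim B = d) (p : Fin d → B)
    (hp : Ideal.span (Set.range p) = IsLocalRing.maximalIdeal B) (ε : Fin d → ℕ) (i : Fin d)
    (hi : ε i = 0) : Reg (Jpow p ε) (p i) := by
  have hreg := Groth.Agent.Lib.Helper26.RegSeq.isRegular_ofFn hd p hp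
  have hHP : HP p := by
    apply hp_of_wreg_perm
    intro σ
    exact (IsLocalRing.isRegular_of_perm hreg (σ.ofFn_comp_perm p).symm).toIsWeaklyRegular
  exact reg_Jpow p hHP _ ε i rfl hi

end regular

section noeth

variable {Λ : Type*} [CommRing Λ]

/-- The colon ideal `(J : y)`. -/
def colonElt (J : Ideal Λ) (y : Λ) : Ideal Λ where
  carrier := {x | y * x ∈ J}
  add_mem' := by
    intro a b ha hb
    show y * (a + b) ∈ J
    rw [mul_add]
    exact J.add_mem ha hb
  zero_mem' := by
    show y * 0 ∈ J
    rw [mul_zero]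
    exact J.zero_mem
  smul_mem' := by
    intro c x hx
    show y * (c • x) ∈ J
    rw [smul_eq_mul, mul_left_comm]
    exact J.mul_mem_left _ hx

lemma mem_colonElt (J : Ideal Λ) (y x : Λ) : x ∈ colonElt J y ↔ y * x ∈ J := Iff.rfl

lemma exists_pow_colon_stable [IsNoetherianRing Λ] (J : Ideal Λ) (s0 : Λ) :
    ∃ k, 1 ≤ k ∧ ∀ x, (s0 ^ k) ^ 3 * x ∈ J → s0 ^ k * x ∈ J := by
  let f : ℕ →o Submodule Λ Λ :=
    { toFun := fun k => colonElt J (s0 ^ k)
      monotone' := by
        intro a b hab x hx
        obtain ⟨c, rfl⟩ := Nat.exists_eq_add_of_le hab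
        show s0 ^ (a + c) * x ∈ J
        rw [pow_add, mul_right_comm]
        exact J.mul_mem_right _ hx }
  obtain ⟨n0, hn0⟩ := (monotone_stabilizes_iff_noetherian (R := Λ) (M := Λ)).mpr inferInstance f
  refine ⟨n0 + 1, by omega, fun x hx => ?_⟩
  have h1 : x ∈ f (3 * (n0 + 1)) := by
    show s0 ^ (3 * (n0 + 1)) * x ∈ J
    rw [mul_comm 3, pow_mul]
    exact hx
  rw [← hn0 (3 * (n0 + 1)) (by omega), hn0 (n0 + 1) (by omega)] at h1
  exact h1

end noeth

end Groth.Agent.Lib.Helper6.AnnStable
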