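import Mathlib
import Groth.Agent.Lib.Helper6.AnnStable1
import Groth.Agent.Lib.Helper5.RegSeqSpread

/-!
# Parameters with stable annihilators

Let `Λ` be Noetherian, `I ⊆ 𝔮` with `𝔮` prime, `𝔮ⁿΛ_𝔮 ⊆ IΛ_𝔮` and `Λ_𝔮` regular local of dimension
`d`.  Then there are `π_1, …, π_d ∈ Λ` generating `𝔮Λ_𝔮` with `π_iⁿ ∈ I` such that the
annihilators of `π_i` and `π_i²` in `Λ/(π_1^e, …, π_{i-1}^e)` coincide.
-/

set_option linter.unusedSectionVars false

namespace Groth.Agent.Lib.Helper6.AnnStable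

open Groth.Agent.Lib.Helper6.PermReg (Reg)

universe u

section units

variable {B : Type*} [CommRing B] {d : ℕ}

lemma span_range_unit_mul (p p' : Fin d → B) (h : ∀ i, ∃ u : B, IsUnit u ∧ p' i = u * p i) :
    Ideal.span (Set.range p') = Ideal.span (Set.range p) := by
  apply le_antisymm
  · rw [Ideal.span_le]
    rintro _ ⟨i, rfl⟩
    obtain ⟨u, _, hu⟩ := h i
    rw [hu]
    exact Ideal.mul_mem_left _ _ (Ideal.subset_span ⟨i, rfl⟩)
  · rw [Ideal.span_le]
    rintro _ ⟨i, rfl⟩
    obtain ⟨u, huu, hu⟩ := h i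
    obtain ⟨v, hv⟩ := huu.exists_left_inv
    have : p i = v * p' i := by rw [hu, ← mul_assoc, hv, one_mul]
    rw [this]
    exact Ideal.mul_mem_left _ _ (Ideal.subset_span ⟨i, rfl⟩)

end units

section main

variable {Λ : Type u} [CommRing Λ] [IsNoetherianRing Λ] (I q : Ideal Λ) [q.IsPrime]

/-- The ideal `(π_j^e : j < i)`. -/
def Jt {d : ℕ} (e : ℕ) (π : Fin d → Λ) (i : Fin d) : Ideal Λ :=
  Ideal.span (Set.range fun j : {j : Fin d // (j : ℕ) < (i : ℕ)} => π j ^ e)

lemma Jt_congr {d : ℕ} (e : ℕ) (π π' : Fin d → Λ) (i : Fin d)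
    (h : ∀ j : Fin d, (j : ℕ) < (i : ℕ) → π' j = π j) : Jt e π' i = Jt e π i := by
  unfold Jt
  congr 1
  congr 1
  funext j
  rw [h j.1 j.2]

lemma map_Jt_eq_Jpow {d : ℕ} (e : ℕ) (he : 0 < e) (π : Fin d → Λ) (i : Fin d) :
    (Jt e π i).map (algebraMap Λ (Localization.AtPrime q)) =
      Jpow (fun j => algebraMap Λ (Localization.AtPrime q) (π j))
        (fun j => if (j : ℕ) < (i : ℕ) then e else 0) := by
  unfold Jt Jpow
  rw [Ideal.map_span]
  congr 1
  ext y
  constructor
  · rintro ⟨_, ⟨j, rfl⟩, rfl⟩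
    refine ⟨j.1, ?_, ?_⟩
    · dsimp only
      rw [if_pos j.2]; omega
    · dsimp only
      rw [if_pos j.2, map_pow]
  · rintro ⟨j, hj, rfl⟩
    dsimp only at hj ⊢
    have hji : (j : ℕ) < (i : ℕ) := by
      by_contra hcon
      rw [if_neg hcon] at hj
      exact hj rfl
    refine ⟨π j ^ e, ⟨⟨j, hji⟩, rfl⟩, ?_⟩
    rw [if_pos hji, map_pow]

variable [IsRegularLocalRing (Localization.AtPrime q)]

/-- The inductive step: choice of the multiplier `s`. -/
lemma exists_multiplier {d : ℕ} (hd : ringKrullDim (Localization.AtPrime q) = d) (e : ℕ)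
    (he : 0 < e) (π : Fin d → Λ)
    (hgen : Ideal.span (Set.range fun i => algebraMap Λ (Localization.AtPrime q) (π i)) =
      IsLocalRing.maximalIdeal (Localization.AtPrime q)) (i0 : Fin d) :
    ∃ s : Λ, s ∉ q ∧ ∀ x, (s * π i0) ^ 2 * x ∈ Jt e π i0 → (s * π i0) * x ∈ Jt e π i0 := by
  -- regularity in the localization
  have hreg : Reg ((Jt e π i0).map (algebraMap Λ (Localization.AtPrime q)))
      (algebraMap Λ (Localization.AtPrime q) (π i0) ^ 2) := by
    rw [map_Jt_eq_Jpow q e he π i0]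
    apply reg_pow_of_reg
    exact reg_powers_of_rsop hd (fun j => algebraMap Λ (Localization.AtPrime q) (π j)) hgen _ i0
      (by rw [if_neg (lt_irrefl _)])
  -- the colon ideal
  have hK : ∀ z ∈ colonElt (Jt e π i0) (π i0 ^ 2),
      algebraMap Λ (Localization.AtPrime q) z ∈
        (Jt e π i0).map (algebraMap Λ (Localization.AtPrime q)) := by
    intro z hz
    apply hreg
    rw [← map_pow, ← map_mul]
    exact Ideal.mem_map_of_mem _ hz
  obtain ⟨s0, hs0q, hs0⟩ := Groth.Agent.Lib.Helper5.RegSeq.exists_notMem_forall_mul_mem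
    (S := Localization.AtPrime q) q (colonElt (Jt e π i0) (π i0 ^ 2)) (Jt e π i0)
    (IsNoetherian.noetherian _) hK
  obtain ⟨k, hk1, hk⟩ := exists_pow_colon_stable (Jt e π i0) s0
  refine ⟨s0 ^ k, fun h => hs0q (Ideal.IsPrime.mem_of_pow_mem inferInstance k h), ?_⟩
  intro x hx
  have hsK : ∀ z ∈ colonElt (Jt e π i0) (π i0 ^ 2), s0 ^ k * z ∈ Jt e π i0 := by
    intro z hz
    obtain ⟨k', rfl⟩ : ∃ k', k = k' + 1 := ⟨k - 1, by omega⟩
    rw [pow_succ, mul_assoc]
    exact Ideal.mul_mem_left _ _ (hs0 z hz)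
  have h1 : (s0 ^ k) ^ 2 * x ∈ colonElt (Jt e π i0) (π i0 ^ 2) := by
    rw [mem_colonElt]
    have : π i0 ^ 2 * ((s0 ^ k) ^ 2 * x) = (s0 ^ k * π i0) ^ 2 * x := by ring
    rw [this]
    exact hx
  have h2 : (s0 ^ k) ^ 3 * x ∈ Jt e π i0 := by
    have := hsK _ h1
    have h3 : s0 ^ k * ((s0 ^ k) ^ 2 * x) = (s0 ^ k) ^ 3 * x := by ring
    rwa [h3] at this
  have h4 := hk x h2
  have h5 : s0 ^ k * π i0 * x = π i0 * (s0 ^ k * x) := by ring
  rw [h5]
  exact Ideal.mul_mem_left _ _ h4

/-- The data maintained along the induction. -/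
def Good {d : ℕ} (n e : ℕ) (π : Fin d → Λ) (t : ℕ) : Prop :=
  Ideal.span (Set.range fun i => algebraMap Λ (Localization.AtPrime q) (π i)) =
      IsLocalRing.maximalIdeal (Localization.AtPrime q) ∧
    (∀ i, π i ^ n ∈ I) ∧
    ∀ i : Fin d, (i : ℕ) < t → ∀ x, π i ^ 2 * x ∈ Jt e π i → π i * x ∈ Jt e π i

lemma exists_good_zero {d : ℕ} (hd : ringKrullDim (Localization.AtPrime q) = d) (n e : ℕ)
    (hn : 0 < n)
    (hpow : (q ^ n).map (algebraMap Λ (Localization.AtPrime q)) ≤
      I.map (algebraMap Λ (Localization.AtPrime q))) :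
    ∃ π : Fin d → Λ, Good I q n e π 0 := by
  classical
  obtain ⟨x, hx, -⟩ := Groth.Agent.Lib.Helper4.RegCM.exists_regular_system
    (Localization.AtPrime q) d hd
  -- clear denominators
  choose a ha using fun i => IsLocalization.surj q.primeCompl (x i)
  -- ha i : x i * algebraMap ((a i).2) = algebraMap (a i).1
  have hgen0 : Ideal.span (Set.range fun i =>
      algebraMap Λ (Localization.AtPrime q) (a i).1) =
      IsLocalRing.maximalIdeal (Localization.AtPrime q) := by
    rw [← hx]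
    apply span_range_unit_mul
    intro i
    refine ⟨algebraMap Λ (Localization.AtPrime q) ((a i).2 : Λ),
      IsLocalization.map_units _ (a i).2, ?_⟩
    rw [← ha i, mul_comm]
  have hmemq : ∀ i, (a i).1 ∈ q := by
    intro i
    rw [← IsLocalization.AtPrime.to_map_mem_maximal_iff (Localization.AtPrime q) q, ← hgen0]
    exact Ideal.subset_span ⟨i, rfl⟩
  have hs : ∀ i, ∃ s : Λ, s ∉ q ∧ s * (a i).1 ^ n ∈ I := by
    intro i
    have h1 : algebraMap Λ (Localization.AtPrime q) ((a i).1 ^ n) ∈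
        I.map (algebraMap Λ (Localization.AtPrime q)) :=
      hpow (Ideal.mem_map_of_mem _ (Ideal.pow_mem_pow (hmemq i) n))
    obtain ⟨m, hm, hmc⟩ := (IsLocalization.algebraMap_mem_map_algebraMap_iff q.primeCompl
      (Localization.AtPrime q) I _).mp h1
    exact ⟨m, hm, hmc⟩
  choose s hsq hsI using hs
  refine ⟨fun i => s i * (a i).1, ?_, ?_, ?_⟩
  · rw [← hgen0]
    apply span_range_unit_mul
    intro i
    refine ⟨algebraMap Λ (Localization.AtPrime q) (s i),
      IsLocalization.map_units _ (⟨s i, hsq i⟩ : q.primeCompl), ?_⟩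
    rw [map_mul]
  · intro i
    obtain ⟨n', rfl⟩ : ∃ n', n = n' + 1 := ⟨n - 1, by omega⟩
    have : (s i * (a i).1) ^ (n' + 1) = s i ^ n' * (s i * (a i).1 ^ (n' + 1)) := by ring
    rw [this]
    exact Ideal.mul_mem_left _ _ (hsI i)
  · intro i hi
    exact absurd hi (Nat.not_lt_zero _)

lemma exists_good {d : ℕ} (hd : ringKrullDim (Localization.AtPrime q) = d) (n e : ℕ)
    (hn : 0 < n) (he : 0 < e)
    (hpow : (q ^ n).map (algebraMap Λ (Localization.AtPrime q)) ≤
      I.map (algebraMap Λ (Localization.AtPrime q))) :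
    ∀ t : ℕ, t ≤ d → ∃ π : Fin d → Λ, Good I q n e π t := by
  classical
  intro t
  induction t with
  | zero => intro _; exact exists_good_zero I q hd n e hn hpow
  | succ t ih =>
    intro ht
    obtain ⟨π, hgen, hI, hgood⟩ := ih (by omega)
    let i0 : Fin d := ⟨t, by omega⟩
    obtain ⟨s, hsq, hs⟩ := exists_multiplier q hd e he π hgen i0
    have hupd : ∀ j : Fin d, (j : ℕ) < t → Function.update π i0 (s * π i0) j = π j := by
      intro j hj
      apply Function.update_of_ne
      intro hji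
      rw [hji] at hj
      exact lt_irrefl _ hj
    refine ⟨Function.update π i0 (s * π i0), ?_, ?_, ?_⟩
    · rw [← hgen]
      apply span_range_unit_mul
      intro i
      by_cases hi : i = i0
      · subst hi
        refine ⟨algebraMap Λ (Localization.AtPrime q) s,
          IsLocalization.map_units _ (⟨s, hsq⟩ : q.primeCompl), ?_⟩
        rw [Function.update_self, map_mul]
      · refine ⟨1, isUnit_one, ?_⟩
        rw [Function.update_of_ne hi, one_mul]
    · intro i
      by_cases hi : i = i0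
      · subst hi
        rw [Function.update_self, mul_pow]
        exact Ideal.mul_mem_left _ _ (hI _)
      · rw [Function.update_of_ne hi]
        exact hI i
    · intro i hi x hx
      have hJ : Jt e (Function.update π i0 (s * π i0)) i = Jt e π i := by
        apply Jt_congr
        intro j hj
        exact hupd j (by omega)
      rw [hJ] at hx ⊢
      by_cases hit : (i : ℕ) < t
      · rw [hupd i hit] at hx ⊢
        exact hgood i hit x hx
      · have hi0 : i = i0 := Fin.ext (by show (i : ℕ) = t; omega)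
        subst hi0
        rw [Function.update_self] at hx ⊢
        exact hs x hx

theorem exists_parameters {d : ℕ} (_hIq : I ≤ q) (n e : ℕ) (hn : 0 < n) (he : 0 < e)
    (hpow : (q ^ n).map (algebraMap Λ (Localization.AtPrime q)) ≤
      I.map (algebraMap Λ (Localization.AtPrime q)))
    (hd : ringKrullDim (Localization.AtPrime q) = d) :
    ∃ (N : ℕ) (π : Fin d → Λ), 0 < N ∧
      Ideal.span (Set.range fun i => algebraMap Λ (Localization.AtPrime q) (π i)) =
        q.map (algebraMap Λ (Localization.AtPrime q)) ∧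
      (∀ i, π i ^ N ∈ I) ∧
      ∀ i : Fin d, ∀ x : Λ ⧸ Ideal.span
          (Set.range fun j : {j : Fin d // (j : ℕ) < (i : ℕ)} => π j ^ e),
        Ideal.Quotient.mk _ (π i) ^ 2 * x = 0 → Ideal.Quotient.mk _ (π i) * x = 0 := by
  obtain ⟨π, hgen, hI, hgood⟩ := exists_good I q hd n e hn he hpow d le_rfl
  refine ⟨n, π, hn, ?_, hI, ?_⟩
  · rw [hgen, Localization.AtPrime.map_eq_maximalIdeal]
  · intro i x hx
    obtain ⟨y, rfl⟩ := Ideal.Quotient.mk_surjective x
    rw [← map_pow, ← map_mul, Ideal.Quotient.eq_zero_iff_mem] at hx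
    rw [← map_mul, Ideal.Quotient.eq_zero_iff_mem]
    exact hgood i i.2 y hx

end main

end Groth.Agent.Lib.Helper6.AnnStable
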