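import Mathlib
import Groth.Agent.Lib.Helper21.SepFTA

set_option autoImplicit false

namespace Groth.Agent.Lib.Helper6.JacCritA

open TensorProduct

universe u

section Modules

variable {C : Type*} [CommRing C] (p : Ideal C) [p.IsPrime]
  {N Q : Type*} [AddCommGroup N] [AddCommGroup Q] [Module C N] [Module C Q]

/-- naturality of `cancelBaseChange` for the residue field of a localization -/
theorem cancel_natural (l : N →ₗ[C] Q)
    (x : p.ResidueField ⊗[Localization.AtPrime p] (Localization.AtPrime p ⊗[C] N)) :
    AlgebraTensorModule.cancelBaseChange C (Localization.AtPrime p) p.ResidueField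
        p.ResidueField Q
      ((l.baseChange (Localization.AtPrime p)).lTensor p.ResidueField x) =
    l.lTensor p.ResidueField
      (AlgebraTensorModule.cancelBaseChange C (Localization.AtPrime p) p.ResidueField
        p.ResidueField N x) := by
  induction x using TensorProduct.induction_on with
  | zero => simp
  | add x y hx hy => simp only [map_add, hx, hy]
  | tmul k y =>
    induction y using TensorProduct.induction_on with
    | zero => simp
    | add y z hy hz => simp only [tmul_add, map_add, hy, hz]
    | tmul t n => simp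

theorem injective_lTensor_of_comp' {K M₁ M₂ M₃ : Type*} [AddCommGroup K] [Module C K]
    [AddCommGroup M₁] [AddCommGroup M₂] [AddCommGroup M₃] [Module C M₁] [Module C M₂]
    [Module C M₃] (f : M₁ →ₗ[C] M₂) (g : M₂ →ₗ[C] M₃)
    (h : Function.Injective ((g ∘ₗ f).lTensor K)) : Function.Injective (f.lTensor K) := by
  rw [LinearMap.lTensor_comp] at h
  exact Function.Injective.of_comp h

theorem injective_lTensor_of_leftInverse' {K M₂ M₃ : Type*} [AddCommGroup K] [Module C K]
    [AddCommGroup M₂] [AddCommGroup M₃] [Module C M₂]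
    [Module C M₃] (s : M₂ →ₗ[C] M₃) (π : M₃ →ₗ[C] M₂) (h : π ∘ₗ s = LinearMap.id) :
    Function.Injective (s.lTensor K) := by
  have h2 : π.lTensor K ∘ₗ s.lTensor K = .id := by
    rw [← LinearMap.lTensor_comp, h, LinearMap.lTensor_id]
  exact Function.HasLeftInverse.injective ⟨_, LinearMap.congr_fun h2⟩

/-- a map from a finite module to a projective module becomes split injective after localizing at
`p` iff it is injective after tensoring with the residue field at `p` -/
theorem retraction_iff (l : N →ₗ[C] Q) [Module.Finite C N] [Module.Projective C Q] :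
    (∃ ρ : Localization.AtPrime p ⊗[C] Q →ₗ[Localization.AtPrime p]
        Localization.AtPrime p ⊗[C] N,
      ρ ∘ₗ l.baseChange (Localization.AtPrime p) = LinearMap.id) ↔
    Function.Injective (l.lTensor p.ResidueField) := by
  rw [Groth.Agent.Lib.Helper21.SepFT.split_injective_iff_lTensor_residueField_injective_of_projective]
  constructor
  · intro h x y hxy
    obtain ⟨x', rfl⟩ := (AlgebraTensorModule.cancelBaseChange C (Localization.AtPrime p)
      p.ResidueField p.ResidueField N).surjective x
    obtain ⟨y', rfl⟩ := (AlgebraTensorModule.cancelBaseChange C (Localization.AtPrime p)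
      p.ResidueField p.ResidueField N).surjective y
    rw [← cancel_natural, ← cancel_natural] at hxy
    rw [h ((AlgebraTensorModule.cancelBaseChange C (Localization.AtPrime p)
      p.ResidueField p.ResidueField Q).injective hxy)]
  · intro h x y hxy
    apply (AlgebraTensorModule.cancelBaseChange C (Localization.AtPrime p)
      p.ResidueField p.ResidueField N).injective
    apply h
    rw [← cancel_natural, ← cancel_natural, hxy]

/-- spreading out: a map from a finite module to a projective module that is injective modulo `p`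
admits a retraction up to multiplication by an element outside `p` -/
theorem exists_almost_retraction (l : N →ₗ[C] Q) [Module.Finite C N] [Module.Projective C Q]
    (h : Function.Injective (l.lTensor p.ResidueField)) :
    ∃ g : C, g ∉ p ∧ ∃ ρ' : Q →ₗ[C] N, ρ' ∘ₗ l = g • LinearMap.id := by
  classical
  obtain ⟨s, hs⟩ := Module.projective_def'.mp (inferInstance : Module.Projective C Q)
  obtain ⟨σ, l₂, ι, r, hrι, hιl⟩ :=
    Groth.Agent.Lib.Helper21.SepFT.exists_finite_free_factor (s ∘ₗ l)
  have h1 : Function.Injective ((s ∘ₗ l).lTensor p.ResidueField) := by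
    rw [LinearMap.lTensor_comp]
    exact (injective_lTensor_of_leftInverse' s _ hs).comp h
  rw [← hιl] at h1
  have h2 := injective_lTensor_of_comp' l₂ ι h1
  obtain ⟨ρT, hρT⟩ := (retraction_iff p l₂).mpr h2
  obtain ⟨b, hb⟩ := IsLocalizedModule.exist_integer_multiples_of_finite p.primeCompl
    (TensorProduct.mk C (Localization.AtPrime p) N 1)
    (fun i : (σ : Set Q) => ρT (1 ⊗ₜ Finsupp.single i 1))
  choose n hn using hb
  let ρ₂ : ((σ : Set Q) →₀ C) →ₗ[C] N := Finsupp.linearCombination C n
  have hρ₂ : ∀ x, (1 : Localization.AtPrime p) ⊗ₜ[C] ρ₂ x = (b : C) • ρT (1 ⊗ₜ x) := by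
    intro x
    induction x using Finsupp.induction_linear with
    | zero => simp
    | add x y hx hy => simp only [map_add, tmul_add, smul_add, hx, hy]
    | single i c =>
      have e0 : Finsupp.single i c = c • Finsupp.single i (1 : C) := by simp
      have e1 : ρ₂ (Finsupp.single i c) = c • n i := by
        simp [ρ₂, Finsupp.linearCombination_single]
      have e2 : (1 : Localization.AtPrime p) ⊗ₜ[C] n i =
          (b : C) • ρT (1 ⊗ₜ Finsupp.single i 1) := hn i
      rw [e1, tmul_smul, e2, e0, tmul_smul, LinearMap.map_smul_of_tower, smul_comm]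
  have hD : ∀ m : N, ∃ t : C, t ∉ p ∧ t • (ρ₂ (l₂ m) - (b : C) • m) = 0 := by
    intro m
    have e1 : (TensorProduct.mk C (Localization.AtPrime p) N 1) (ρ₂ (l₂ m) - (b : C) • m) = 0 := by
      rw [map_sub, TensorProduct.mk_apply, hρ₂, map_smul, TensorProduct.mk_apply]
      have e3 : ρT (1 ⊗ₜ l₂ m) = 1 ⊗ₜ m := by
        have := LinearMap.congr_fun hρT (1 ⊗ₜ m)
        simpa using this
      rw [e3, sub_self]
    obtain ⟨t, ht⟩ := (IsLocalizedModule.eq_zero_iff p.primeCompl _).mp e1
    exact ⟨t, t.2, ht⟩
  obtain ⟨S, hS⟩ := (inferInstance : Module.Finite C N).fg_top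
  have key : ∀ S' : Finset N, ∃ t : C, t ∉ p ∧
      ∀ m ∈ S', t • (ρ₂ (l₂ m) - (b : C) • m) = 0 := by
    intro S'
    induction S' using Finset.induction_on with
    | empty => exact ⟨1, fun h1 => (Ideal.IsPrime.ne_top ‹_›) ((Ideal.eq_top_iff_one _).mpr h1),
        by simp⟩
    | insert a S' ha ih =>
      obtain ⟨t, ht, h⟩ := ih
      obtain ⟨t', ht', h'⟩ := hD a
      refine ⟨t * t', fun hmem => (Ideal.IsPrime.mem_or_mem ‹_› hmem).elim ht ht', ?_⟩
      intro m hm
      rcases Finset.mem_insert.mp hm with rfl | hm
      · rw [mul_smul, h', smul_zero]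
      · rw [mul_comm, mul_smul, h m hm, smul_zero]
  obtain ⟨tt, htt, htt'⟩ := key S
  have hall : ∀ m : N, tt • (ρ₂ (l₂ m) - (b : C) • m) = 0 := by
    let D : N →ₗ[C] N := tt • (ρ₂ ∘ₗ l₂ - (b : C) • LinearMap.id)
    have hle : (⊤ : Submodule C N) ≤ LinearMap.ker D := by
      rw [← hS, Submodule.span_le]
      intro m hm
      exact htt' m hm
    intro m
    exact hle (Submodule.mem_top)
  refine ⟨tt * b, fun hmem => (Ideal.IsPrime.mem_or_mem ‹_› hmem).elim htt b.2,
    (tt • ρ₂) ∘ₗ r ∘ₗ s, ?_⟩
  ext m
  have e1 : r (s (l m)) = l₂ m := by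
    have h3 := LinearMap.congr_fun hιl m
    have h4 := LinearMap.congr_fun hrι (l₂ m)
    simp only [LinearMap.comp_apply, LinearMap.id_apply] at h3 h4
    rw [← h3, h4]
  simp only [LinearMap.comp_apply, LinearMap.smul_apply, LinearMap.id_apply, e1]
  have h5 := hall m
  rw [smul_sub, sub_eq_zero] at h5
  rw [h5, mul_smul]

end Modules

end Groth.Agent.Lib.Helper6.JacCritA
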