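import Mathlib

set_option autoImplicit false

namespace Groth.Agent.Lib.Helper6.JacCritB

open TensorProduct

universe u

section G

variable {R S : Type u} [CommRing R] [CommRing S] [Algebra R S]
  (P : Algebra.Extension.{u} R S) [Algebra.FormallySmooth R P.Ring]
  (T : Type u) [CommRing T] [Algebra R T] [Algebra S T] [IsScalarTower R S T]
  (M : Submonoid S) [IsLocalization M T]

include M in
theorem formallySmooth_iff_retraction :
    Algebra.FormallySmooth R T ↔
      ∃ ρ : T ⊗[S] P.CotangentSpace →ₗ[T] T ⊗[S] P.Cotangent,
        ρ ∘ₗ P.cotangentComplex.baseChange T = LinearMap.id := by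
  have hflat : Module.Flat S T := IsLocalization.flat T M
  have hfe : Algebra.FormallyEtale S T := Algebra.FormallyEtale.of_isLocalization (Rₘ := T) M
  have hex : Function.Exact (P.cotangentComplex.baseChange T) (P.toKaehler.baseChange T) :=
    lTensor_exact T P.exact_cotangentComplex_toKaehler P.toKaehler_surjective
  have hπ : Function.Surjective (P.toKaehler.baseChange T) :=
    LinearMap.lTensor_surjective T P.toKaehler_surjective
  have hιT : Function.Injective (P.h1Cotangentι.lTensor T) :=
    Module.Flat.lTensor_preserves_injective_linearMap _ P.h1Cotangentι_injective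
  have hcomp0 : ∀ x, (P.cotangentComplex.baseChange T) (P.h1Cotangentι.lTensor T x) = 0 := by
    intro x
    induction x using TensorProduct.induction_on with
    | zero => simp
    | add x y hx hy => simp only [map_add, hx, hy, add_zero]
    | tmul t n =>
      rw [LinearMap.lTensor_tmul, LinearMap.baseChange_tmul]
      have h0 : P.cotangentComplex (P.h1Cotangentι n) = 0 := n.2
      rw [h0, tmul_zero]
  have hsub_iff : Subsingleton (Algebra.H1Cotangent R T) ↔
      Subsingleton (T ⊗[S] P.H1Cotangent) := by
    rw [← (Algebra.tensorH1CotangentOfIsLocalization R T M).toEquiv.subsingleton_congr]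
    exact (TensorProduct.congr (LinearEquiv.refl S T)
      P.equivH1CotangentOfFormallySmooth).toEquiv.subsingleton_congr.symm
  have hproj_iff : Module.Projective T Ω[T⁄R] ↔ Module.Projective T (T ⊗[S] Ω[S⁄R]) :=
    ⟨fun h => Module.Projective.of_equiv
      (KaehlerDifferential.tensorKaehlerEquivOfFormallyEtale R S T).symm,
     fun h => Module.Projective.of_equiv
      (KaehlerDifferential.tensorKaehlerEquivOfFormallyEtale R S T)⟩
  rw [Algebra.formallySmooth_iff, hsub_iff, hproj_iff]
  constructor
  · rintro ⟨hproj, hsub⟩
    have hinj : Function.Injective (P.cotangentComplex.baseChange T) := by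
      rw [injective_iff_map_eq_zero]
      intro x hx
      have hex2 : Function.Exact (P.h1Cotangentι.lTensor T) (P.cotangentComplex.lTensor T) :=
        Module.Flat.lTensor_exact T P.exact_hCotangentι_cotangentComplex
      obtain ⟨y, rfl⟩ := (hex2 x).mp hx
      rw [Subsingleton.elim y 0, map_zero]
    obtain ⟨sec, hsec⟩ := Module.projective_lifting_property (P.toKaehler.baseChange T)
      LinearMap.id hπ
    exact ((hex.split_tfae'.out 0 1 rfl rfl).mp ⟨hinj, sec, hsec⟩).2
  · rintro ⟨ρ, hρ⟩
    have hinj : Function.Injective (P.cotangentComplex.baseChange T) :=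
      Function.HasLeftInverse.injective ⟨ρ, LinearMap.congr_fun hρ⟩
    refine ⟨?_, ?_⟩
    · obtain ⟨sec, hsec⟩ := ((hex.split_tfae'.out 0 1 rfl rfl).mpr ⟨hπ, ρ, hρ⟩).2
      exact Module.Projective.of_split sec (P.toKaehler.baseChange T) hsec
    · refine ⟨fun x y => ?_⟩
      apply hιT
      apply hinj
      rw [hcomp0, hcomp0]

end G

end Groth.Agent.Lib.Helper6.JacCritB
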