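import Mathlib
import Groth.Prelude.Def_Smoothing
import Groth.Agent.Lib.Helper6.JacCritA
import Groth.Agent.Lib.Helper6.JacCritB

set_option autoImplicit false

namespace Groth.Agent.Lib.Helper6.StdElt

open TensorProduct MvPolynomial

universe u

/-- a matrix with linearly independent rows over a field has a nonvanishing maximal minor -/
theorem exists_cols_det_ne_zero {K : Type*} [Field K] {c n : ℕ} (M : Matrix (Fin c) (Fin n) K)
    (h : LinearIndependent K M.row) :
    ∃ cols : Fin c ↪ Fin n, (M.submatrix id cols).det ≠ 0 := by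
  classical
  have hrank : M.rank = c := by rw [h.rank_matrix, Fintype.card_fin]
  obtain ⟨κ', a, ha, hspan, hli⟩ := exists_linearIndependent' K M.col
  haveI : Finite κ' := Finite.of_injective a ha
  haveI := Fintype.ofFinite κ'
  have hcard : Fintype.card κ' = c := by
    have h1 := linearIndependent_iff_card_eq_finrank_span.mp hli
    rw [h1, Set.finrank, hspan, ← Matrix.rank_eq_finrank_span_cols, hrank]
  let e : Fin c ≃ κ' := (Fintype.equivFinOfCardEq hcard).symm
  refine ⟨⟨a ∘ e, ha.comp e.injective⟩, ?_⟩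
  have hli2 : LinearIndependent K (M.submatrix id (a ∘ e)).col := by
    have h2 : (M.submatrix id (a ∘ e)).col = (M.col ∘ a) ∘ e := by ext i j; rfl
    rw [h2]
    exact hli.comp e e.injective
  have hunit := Matrix.linearIndependent_cols_iff_isUnit.mp hli2
  exact ((Matrix.isUnit_iff_isUnit_det _).mp hunit).ne_zero

/-- module-theoretic core of the standard element construction -/
theorem exists_rows_cols {A : Type*} [CommRing A] (q : Ideal A) [q.IsPrime]
    {N Q : Type*} [AddCommGroup N] [AddCommGroup Q] [Module A N] [Module A Q]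
    {m n : ℕ} (v : Fin m → N) (hv : Submodule.span A (Set.range v) = ⊤)
    (b : Module.Basis (Fin n) A Q) (l : N →ₗ[A] Q)
    (hl : Function.Injective (l.lTensor q.ResidueField)) :
    ∃ (c : ℕ) (rows : Fin c ↪ Fin m) (cols : Fin c ↪ Fin n) (s : A), s ∉ q ∧
      (Matrix.of fun j k : Fin c => b.repr (l (v (rows j))) (cols k)).det ∉ q ∧
      ∀ ℓ, s • v ℓ ∈ Submodule.span A (Set.range (v ∘ rows)) := by
  classical
  let w : Fin m → q.ResidueField ⊗[A] N := fun ℓ => 1 ⊗ₜ v ℓ
  have hw : Submodule.span q.ResidueField (Set.range w) = ⊤ := by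
    have h1 := Submodule.baseChange_span (A := q.ResidueField) (R := A) (Set.range v)
    rw [hv, Submodule.baseChange_top, ← Set.range_comp] at h1
    exact h1.symm
  obtain ⟨κ', a, ha, hspan, hli⟩ := exists_linearIndependent' q.ResidueField w
  haveI : Finite κ' := Finite.of_injective a ha
  haveI := Fintype.ofFinite κ'
  let e : Fin (Fintype.card κ') ≃ κ' := (Fintype.equivFin κ').symm
  let rows : Fin (Fintype.card κ') ↪ Fin m := ⟨a ∘ e, ha.comp e.injective⟩
  have hli' : LinearIndependent q.ResidueField (w ∘ rows) := hli.comp e e.injective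
  have hspan' : Submodule.span q.ResidueField (Set.range (w ∘ rows)) = ⊤ := by
    have h2 : w ∘ rows = (w ∘ a) ∘ e := rfl
    rw [h2, e.surjective.range_comp, hspan, hw]
  have hinj : Function.Injective (l.baseChange q.ResidueField) := hl
  have hli2 : LinearIndependent q.ResidueField ((l.baseChange q.ResidueField) ∘ (w ∘ rows)) :=
    hli'.map' _ (LinearMap.ker_eq_bot.mpr hinj)
  let bκ := b.baseChange q.ResidueField
  let Mat : Matrix (Fin (Fintype.card κ')) (Fin n) q.ResidueField :=
    Matrix.of fun i j => algebraMap A q.ResidueField (b.repr (l (v (rows i))) j)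
  have hMat : Mat.row = bκ.equivFun ∘ ((l.baseChange q.ResidueField) ∘ (w ∘ rows)) := by
    ext i j
    simp [Mat, bκ, w, Matrix.row, Module.Basis.baseChange_repr_tmul,
      Algebra.algebraMap_eq_smul_one]
  have hli3 : LinearIndependent q.ResidueField Mat.row := by
    rw [hMat]
    exact hli2.map' _ (LinearEquiv.ker _)
  obtain ⟨cols, hcols⟩ := exists_cols_det_ne_zero Mat hli3
  haveI : Module.Finite A N :=
    Module.finite_def.mpr (hv ▸ Submodule.fg_span (Set.finite_range v))
  have hzero : ∀ x : q.ResidueField ⊗[A] N,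
      ((Submodule.span A (Set.range (v ∘ rows))).mkQ.baseChange q.ResidueField) x = 0 := by
    intro x
    have hx : x ∈ Submodule.span q.ResidueField (Set.range (w ∘ rows)) := by
      rw [hspan']; trivial
    induction hx using Submodule.span_induction with
    | mem y hy =>
      obtain ⟨i, rfl⟩ := hy
      show ((Submodule.span A (Set.range (v ∘ rows))).mkQ.baseChange q.ResidueField)
        (1 ⊗ₜ v (rows i)) = 0
      have h0 : (Submodule.Quotient.mk (v (rows i)) :
          N ⧸ Submodule.span A (Set.range (v ∘ rows))) = 0 :=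
        (Submodule.Quotient.mk_eq_zero (Submodule.span A (Set.range (v ∘ rows)))).mpr
          (Submodule.subset_span ⟨i, rfl⟩)
      rw [LinearMap.baseChange_tmul, Submodule.mkQ_apply, h0, tmul_zero]
    | zero => exact map_zero _
    | add y z _ _ hy hz => rw [map_add, hy, hz, add_zero]
    | smul k y _ hy => rw [map_smul, hy, smul_zero]
  haveI : Subsingleton (q.ResidueField ⊗[A] (N ⧸ Submodule.span A (Set.range (v ∘ rows)))) := by
    refine ⟨fun x y => ?_⟩
    have hsurj : Function.Surjective
        ((Submodule.span A (Set.range (v ∘ rows))).mkQ.baseChange q.ResidueField) :=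
      LinearMap.lTensor_surjective _ (Submodule.mkQ_surjective _)
    obtain ⟨x', rfl⟩ := hsurj x
    obtain ⟨y', rfl⟩ := hsurj y
    rw [hzero, hzero]
  have hsupp : (⟨q, inferInstance⟩ : PrimeSpectrum A) ∉
      Module.support A (N ⧸ Submodule.span A (Set.range (v ∘ rows))) := by
    rw [Module.mem_support_iff_nontrivial_residueField_tensorProduct]
    exact not_nontrivial _
  rw [Module.notMem_support_iff'] at hsupp
  have hr : ∀ ℓ, ∃ r : A, r ∉ q ∧ r • v ℓ ∈ Submodule.span A (Set.range (v ∘ rows)) := by
    intro ℓ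
    obtain ⟨r, hr, h0⟩ := hsupp ((Submodule.span A (Set.range (v ∘ rows))).mkQ (v ℓ))
    refine ⟨r, hr, ?_⟩
    rw [← map_smul, Submodule.mkQ_apply, Submodule.Quotient.mk_eq_zero] at h0
    exact h0
  choose r hrq hrN using hr
  refine ⟨_, rows, cols, ∏ ℓ, r ℓ, ?_, ?_, ?_⟩
  · intro hmem
    obtain ⟨ℓ, -, hℓ⟩ := (Ideal.IsPrime.prod_mem_iff).mp hmem
    exact hrq ℓ hℓ
  · intro hmem
    apply hcols
    have h3 : algebraMap A q.ResidueField
        (Matrix.of fun j k => b.repr (l (v (rows j))) (cols k)).det =
        (Mat.submatrix id cols).det := by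
      rw [RingHom.map_det]
      congr 1
    rw [← h3, Ideal.algebraMap_residueField_eq_zero]
    exact hmem
  · intro ℓ
    rw [← Finset.prod_erase_mul _ _ (Finset.mem_univ ℓ), mul_smul]
    exact Submodule.smul_mem _ _ (hrN ℓ)


set_option backward.isDefEq.respectTransparency false in
open Groth.Agent.Lib.Helper6 in
theorem main_gen {R A : Type u} [CommRing R] [CommRing A] [Algebra R A] {n m : ℕ}
    (G : Algebra.Generators R A (Fin n)) (f : Fin m → G.Ring)
    (hkerG : Ideal.span (Set.range f) = G.ker)
    (q : Ideal A) [q.IsPrime] [Algebra.IsSmoothAt R q] :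
    ∃ a : A, a ∉ q ∧ ∃ (c : ℕ) (rows : Fin c ↪ Fin m) (cols : Fin c ↪ Fin n) (a' : A),
      a = a' * aeval G.val (Smoothing.jacobianMinor f rows cols) ∧
      ∀ a₁ : G.Ring, aeval G.val a₁ = a → ∀ ℓ : Fin m,
        a₁ * f ℓ ∈ Ideal.span (Set.range (f ∘ rows)) ⊔ Ideal.span (Set.range f) ^ 2 := by
  classical
  haveI : Algebra.FormallySmooth R G.toExtension.Ring :=
    inferInstanceAs (Algebra.FormallySmooth R (MvPolynomial (Fin n) R))
  have hmemk : ∀ ℓ, f ℓ ∈ G.toExtension.ker := fun ℓ =>
    hkerG.le (Ideal.subset_span ⟨ℓ, rfl⟩)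
  have hv0 := Algebra.Extension.Cotangent.span_eq_top_of_span_eq_ker (P := G.toExtension) f hkerG
  let xk : Fin m → G.toExtension.ker := fun ℓ => ⟨f ℓ, hmemk ℓ⟩
  let v : Fin m → G.toExtension.Cotangent := fun ℓ => Algebra.Extension.Cotangent.mk (xk ℓ)
  have hv : Submodule.span A (Set.range v) = ⊤ := hv0
  haveI : Module.Finite A G.toExtension.Cotangent :=
    Module.finite_def.mpr (hv ▸ Submodule.fg_span (Set.finite_range v))
  haveI : Module.Projective A G.toExtension.CotangentSpace :=
    Module.Projective.of_basis G.cotangentSpaceBasis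
  have hsm : Algebra.FormallySmooth R (Localization.AtPrime q) := ‹Algebra.IsSmoothAt R q›
  obtain ⟨ρ, hρ⟩ := (JacCritB.formallySmooth_iff_retraction G.toExtension
    (Localization.AtPrime q) q.primeCompl).mp hsm
  have hinj := (JacCritA.retraction_iff q G.toExtension.cotangentComplex).mp ⟨ρ, hρ⟩
  obtain ⟨c, rows, cols, s, hs, hΔ, hN⟩ := exists_rows_cols q v hv G.cotangentSpaceBasis
    G.toExtension.cotangentComplex hinj
  have hΔ' : (Matrix.of fun j k : Fin c => G.cotangentSpaceBasis.repr
      (G.toExtension.cotangentComplex (v (rows j))) (cols k)).det =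
      aeval G.val (Smoothing.jacobianMinor f rows cols) := by
    unfold Smoothing.jacobianMinor
    rw [AlgHom.map_det]
    congr 1
    ext j k
    simp only [Matrix.of_apply, AlgHom.mapMatrix_apply, Matrix.map_apply, v, xk,
      Algebra.Extension.cotangentComplex_mk,
      Algebra.Generators.cotangentSpaceBasis_repr_one_tmul]
  rw [hΔ'] at hΔ
  refine ⟨s * aeval G.val (Smoothing.jacobianMinor f rows cols), ?_, c, rows, cols, s, rfl, ?_⟩
  · intro hmem
    rcases Ideal.IsPrime.mem_or_mem ‹_› hmem with h | h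
    · exact hs h
    · exact hΔ h
  · intro a₁ ha₁ ℓ
    have hmem : (s * aeval G.val (Smoothing.jacobianMinor f rows cols)) • v ℓ ∈
        Submodule.span A (Set.range (v ∘ rows)) := by
      rw [mul_comm, mul_smul]
      exact Submodule.smul_mem _ _ (hN ℓ)
    let a₁' : G.toExtension.Ring := a₁
    have halg : algebraMap G.toExtension.Ring A a₁' = aeval G.val a₁ := G.algebraMap_apply a₁
    rw [← ha₁, ← halg] at hmem
    have hmem' : a₁' • v ℓ ∈ Submodule.span A (Set.range (v ∘ rows)) := by
      rw [← algebraMap_smul A a₁' (v ℓ)]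
      exact hmem
    obtain ⟨cf, hcf⟩ := (Submodule.mem_span_range_iff_exists_fun A).mp hmem'
    choose pf hpf using fun i => G.toExtension.algebraMap_surjective (cf i)
    have hsum : Algebra.Extension.Cotangent.mk
        (a₁' • xk ℓ - ∑ i, pf i • xk (rows i)) = 0 := by
      rw [map_sub, map_smul, map_sum, sub_eq_zero, ← hcf]
      refine Finset.sum_congr rfl fun i _ => ?_
      rw [map_smul, ← hpf i, algebraMap_smul]
      rfl
    rw [Algebra.Extension.Cotangent.mk_eq_zero_iff] at hsum
    let f' : Fin m → G.toExtension.Ring := f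
    have hkerG' : Ideal.span (Set.range f') = G.toExtension.ker := hkerG
    have hval : ((a₁' • xk ℓ - ∑ i, pf i • xk (rows i) : G.toExtension.ker) :
        G.toExtension.Ring) = a₁' * f' ℓ - ∑ i, pf i * f' (rows i) := by
      simp only [Submodule.coe_sub, Submodule.coe_smul, Submodule.coe_sum, smul_eq_mul]
      rfl
    rw [hval, ← hkerG'] at hsum
    have hdecomp : a₁' * f' ℓ = (∑ i, pf i * f' (rows i)) +
        (a₁' * f' ℓ - ∑ i, pf i * f' (rows i)) := by ring
    have hfin : a₁' * f' ℓ ∈ Ideal.span (Set.range (f' ∘ rows)) ⊔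
        Ideal.span (Set.range f') ^ 2 := by
      rw [hdecomp]
      refine Submodule.add_mem_sup ?_ hsum
      exact Ideal.sum_mem _ fun i _ => Ideal.mul_mem_left _ _ (Ideal.subset_span ⟨i, rfl⟩)
    exact hfin

set_option backward.isDefEq.respectTransparency false in
theorem main {R A : Type u} [CommRing R] [CommRing A] [Algebra R A] {n m : ℕ}
    (f : Fin m → MvPolynomial (Fin n) R) (φ : MvPolynomial (Fin n) R →ₐ[R] A)
    (hφ : Function.Surjective φ)
    (hker : RingHom.ker φ.toRingHom = Ideal.span (Set.range f)) (q : Ideal A) [q.IsPrime]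
    [Algebra.IsSmoothAt R q] :
    ∃ a : A, a ∉ q ∧ ∃ (c : ℕ) (rows : Fin c ↪ Fin m) (cols : Fin c ↪ Fin n) (a' : A),
      a = a' * φ (Smoothing.jacobianMinor f rows cols) ∧
      ∀ a₁ : MvPolynomial (Fin n) R, φ a₁ = a → ∀ ℓ : Fin m,
        a₁ * f ℓ ∈ Ideal.span (Set.range (f ∘ rows)) ⊔ Ideal.span (Set.range f) ^ 2 := by
  have hφe : MvPolynomial.aeval (fun i => φ (X i)) = φ := by
    apply MvPolynomial.algHom_ext
    intro i
    simp
  have hsurj : Function.Surjective (MvPolynomial.aeval (R := R) (fun i => φ (X i))) := by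
    rw [hφe]; exact hφ
  have hkerG : Ideal.span (Set.range f) =
      (Algebra.Generators.ofSurjective (fun i => φ (X i)) hsurj).ker := by
    have hval : (Algebra.Generators.ofSurjective (fun i => φ (X i)) hsurj).val =
        fun i => φ (X i) := rfl
    rw [Algebra.Generators.ker_eq_ker_aeval_val, ← hker, hval, hφe]
    rfl
  have key := main_gen (Algebra.Generators.ofSurjective (fun i => φ (X i)) hsurj) f hkerG q
  have hval : (Algebra.Generators.ofSurjective (fun i => φ (X i)) hsurj).val =
      fun i => φ (X i) := rfl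
  rw [hval, hφe] at key
  exact key

end Groth.Agent.Lib.Helper6.StdElt
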