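import Mathlib
import Groth.Agent.Lib.Helper14.NeronStalk.Defs
universe u
open CategoryTheory CategoryTheory.Limits AlgebraicGeometry
open Groth.Agent.Lib.Helper14.NeronStalk

namespace Groth.Agent.Lib.Helper6.NStalkT1

theorem bijective_of_nmpAt {S T : Scheme.{u}} (j : T ⟶ S) (V : T.Opens) (N : Over S) (Y' : Over T)
    (H : NMPAt N.hom (Y'.hom ≫ j) (pullback.fst Y'.hom V.ι)) :
    Function.Bijective (fun f : Y' ⟶ (Over.pullback j).obj N => (Over.pullback V.ι).map f) := by
  have hleft : ∀ f : Y' ⟶ (Over.pullback j).obj N,
      ((Over.pullback V.ι).map f).left ≫ pullback.fst (pullback.snd N.hom j) V.ι =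
        pullback.fst Y'.hom V.ι ≫ f.left := by
    intro f
    simp only [Over.pullback_map_left]
    exact pullback.lift_fst _ _ _
  have hw : ∀ f : Y' ⟶ (Over.pullback j).obj N, f.left ≫ pullback.snd N.hom j = Y'.hom :=
    fun f => Over.w f
  constructor
  · intro f₁ f₂ h
    have h' : ((Over.pullback V.ι).map f₁).left = ((Over.pullback V.ι).map f₂).left :=
      congrArg CommaMorphism.left h
    have hq : pullback.fst Y'.hom V.ι ≫ f₁.left = pullback.fst Y'.hom V.ι ≫ f₂.left := by
      rw [← hleft f₁, ← hleft f₂, h']
    have ha : f₁.left ≫ pullback.fst N.hom j = f₂.left ≫ pullback.fst N.hom j := by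
      apply H.1
      · rw [Category.assoc, pullback.condition, ← Category.assoc, hw f₁]
      · rw [Category.assoc, pullback.condition, ← Category.assoc, hw f₂]
      · rw [← Category.assoc, ← Category.assoc, hq]
    apply Over.OverMorphism.ext
    apply pullback.hom_ext ha
    rw [hw f₁, hw f₂]
  · intro h
    have hwh : h.left ≫ pullback.snd (pullback.snd N.hom j) V.ι = pullback.snd Y'.hom V.ι :=
      Over.w h
    let h0 : pullback Y'.hom V.ι ⟶ N.left :=
      h.left ≫ pullback.fst (pullback.snd N.hom j) V.ι ≫ pullback.fst N.hom j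
    have hh0 : h0 ≫ N.hom = pullback.fst Y'.hom V.ι ≫ (Y'.hom ≫ j) := by
      simp only [h0, Category.assoc]
      rw [pullback.condition (f := N.hom) (g := j), ← Category.assoc (pullback.fst _ V.ι),
        pullback.condition (f := pullback.snd N.hom j) (g := V.ι), Category.assoc,
        ← Category.assoc h.left, hwh, ← Category.assoc, ← pullback.condition, Category.assoc]
    obtain ⟨a, ha1, ha2⟩ := H.2 h0 hh0
    let fl : Y'.left ⟶ pullback N.hom j := pullback.lift a Y'.hom ha1
    let f : Y' ⟶ (Over.pullback j).obj N := Over.homMk fl (pullback.lift_snd _ _ _)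
    refine ⟨f, ?_⟩
    change (Over.pullback V.ι).map f = h
    have hfl : f.left = fl := rfl
    have e1 : ((Over.pullback V.ι).map f).left ≫ pullback.fst (pullback.snd N.hom j) V.ι =
        h.left ≫ pullback.fst (pullback.snd N.hom j) V.ι := by
      rw [hleft f, hfl]
      apply pullback.hom_ext
      · simp only [Category.assoc]
        rw [pullback.lift_fst, ha2]
      · simp only [Category.assoc]
        rw [pullback.lift_snd, pullback.condition (f := pullback.snd N.hom j) (g := V.ι),
          ← Category.assoc, hwh, pullback.condition]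
    have e2 : ((Over.pullback V.ι).map f).left ≫ pullback.snd (pullback.snd N.hom j) V.ι =
        h.left ≫ pullback.snd (pullback.snd N.hom j) V.ι := by
      rw [hwh]
      exact Over.w ((Over.pullback V.ι).map f)
    apply Over.OverMorphism.ext
    exact pullback.hom_ext e1 e2

end Groth.Agent.Lib.Helper6.NStalkT1
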