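import Groth.Agent.Lib.Helper6.SmoothLift
import Groth.Agent.Lib.Helper16.Charts
import Groth.Agent.S9833
import Groth.Agent.S0566

/-!
# Helper library (helper6): locally of finite type over Nagata is Nagata (algebraic spaces)
-/

set_option autoImplicit false
universe u
open CategoryTheory CategoryTheory.Limits AlgebraicGeometry
open AlgSp

namespace Groth.Agent.Lib.Helper6.NagataSp

theorem nagata_of_lft {W V : Scheme.{u}} (r : W ⟶ V) [LocallyOfFiniteType r]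
    (hV : ∀ V' : V.Opens, IsAffineOpen V' → CAlg.IsNagata ↑Γ(V, V')) :
    ∀ W' : W.Opens, IsAffineOpen W' → CAlg.IsNagata ↑Γ(W, W') := by
  intro W' hW'
  let ι := {p : W.Opens × V.Opens // IsAffineOpen p.1 ∧ IsAffineOpen p.2 ∧ p.1 ≤ r ⁻¹ᵁ p.2}
  refine Groth.Agent.S9833.result W (ι := ι) (fun p => p.1.1) ?_ (fun p => p.2.1) ?_ W' hW'
  · rw [eq_top_iff]
    intro x _
    obtain ⟨W₁, V₁, hW₁, hV₁, hxW₁, -, hle⟩ := SmoothLift.exists_small_affine r x ⊤ trivial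
    exact TopologicalSpace.Opens.mem_iSup.mpr ⟨⟨(W₁, V₁), hW₁, hV₁, hle⟩, hxW₁⟩
  · rintro ⟨⟨W₁, V₁⟩, hW₁, hV₁, hle⟩
    have hft : (r.appLE V₁ W₁ hle).hom.FiniteType := r.finiteType_appLE hV₁ hW₁ hle
    letI := (r.appLE V₁ W₁ hle).hom.toAlgebra
    haveI : Algebra.FiniteType Γ(V, V₁) Γ(W, W₁) := hft
    exact Groth.Agent.S0566.result Γ(V, V₁) (hV V₁ hV₁) Γ(W, W₁)

theorem main9978 {S : Scheme.{u}} {X Y : AlgSp.Space S} (f : X ⟶ Y)
    (hf : AlgSp.LocP @LocallyOfFiniteType f.hom)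
    (hY : AlgSp.EtaleLocally (fun U => ∀ V : U.Opens, IsAffineOpen V → CAlg.IsNagata ↑Γ(U, V)) Y.obj) :
    AlgSp.EtaleLocally (fun U => ∀ V : U.Opens, IsAffineOpen V → CAlg.IsNagata ↑Γ(U, V)) X.obj := by
  obtain ⟨V, b, hbe, hbs, hVN⟩ := hY
  obtain ⟨U, a, hae, has⟩ := X.property.atlas
  obtain ⟨W, snd, fst, sq⟩ := hbe.rep (a ≫ f.hom)
  have hse : Etale snd.left := hbe.property _ fst snd sq
  have hss : Surjective snd.left := hbs.property _ fst snd sq
  obtain ⟨r, rfl⟩ := (yon S).map_surjective fst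
  have hce : RepWith @Etale ((yon S).map snd ≫ a) :=
    (RepWith @Etale).comp_mem _ _ ((repWith_yon_map_iff _ _).2 hse) hae
  have hcs : RepWith @Surjective ((yon S).map snd ≫ a) :=
    (RepWith @Surjective).comp_mem _ _ ((repWith_yon_map_iff _ _).2 hss) has
  have hcomm : ((yon S).map snd ≫ a) ≫ f.hom = (yon S).map r ≫ b := by
    rw [Category.assoc]
    exact sq.w.symm
  have hrft : LocallyOfFiniteType r.left := hf _ b r hce hbe hcomm
  exact ⟨W, (yon S).map snd ≫ a, hce, hcs, nagata_of_lft r.left hVN⟩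

end Groth.Agent.Lib.Helper6.NagataSp
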