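import Mathlib
import Groth.Statements.S7359
import Groth.Agent.Lib.Helper17.BlowUpProper
import Groth.Agent.Lib.Helper6.NagataSp
import Groth.Agent.Lib.Helper12.NormAff
import Groth.Agent.Lib.Helper12.N2Field

/-! Normalized blow-up of a Nagata integral scheme at a closed point. -/

set_option autoImplicit false
set_option linter.style.haveILetI false
universe u
open CategoryTheory CategoryTheory.Limits AlgebraicGeometry
open Groth.Agent.Lib.Helper12.N2

namespace Groth.Agent.Lib.Helper6.NormBlow

/-- A Nagata domain is N-1. -/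
theorem n1_of_nagata (R : Type u) [CommRing R] [IsDomain R] (h : CAlg.IsNagata R) :
    Module.Finite R (integralClosure R (FractionRing R)) := by
  have h2 : CAlg.IsN2 (R ⧸ (⊥ : Ideal R)) := h.2 ⊥
  have h2' : N2' (R ⧸ (⊥ : Ideal R)) := N2'_of_isN2 _ h2
  have h3 : N2' R := N2'_of_ringEquiv (RingEquiv.quotientBot R) h2'
  exact h3 (FractionRing R) (IsFractionRing.injective R (FractionRing R))
    (finGen_of_finiteDimensional R (FractionRing R) (FractionRing R))

theorem main (X : Scheme.{u}) [IsIntegral X] [IsLocallyNoetherian X]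
    (hN : ∀ U : X.affineOpens, CAlg.IsNagata Γ(X, U.1)) (x : X) (hx : IsClosed ({x} : Set X))
    (X' : Scheme.{u}) (b : X' ⟶ X)
    (hb : BlowUp.IsBlowUp b (Scheme.IdealSheafData.vanishingIdeal ⟨{x}, hx⟩)) [IsIntegral X']
    [QuasiCompact (X'.fromSpecStalk (genericPoint X'))]
    [QuasiSeparated (X'.fromSpecStalk (genericPoint X'))] :
    Pi1.IsNormalScheme (Curv2.normalization X') ∧
      (∀ U : (Curv2.normalization X').affineOpens,
        CAlg.IsNagata Γ(Curv2.normalization X', U.1)) ∧
      IsProper (Curv2.normalizationι X' ≫ b) := by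
  have hbp : IsProper b :=
    Groth.Agent.Lib.Helper17.BlowUpProper.isProper_of_isBlowUp _ (fun U => by
      haveI := IsLocallyNoetherian.component_noetherian U
      exact IsNoetherian.noetherian _) b hb
  have hN' : ∀ W' : X'.Opens, IsAffineOpen W' → CAlg.IsNagata Γ(X', W') :=
    Groth.Agent.Lib.Helper6.NagataSp.nagata_of_lft b (fun V hV => hN ⟨V, hV⟩)
  have hfin : IsFinite (Curv2.normalizationι X') := by
    show IsFinite (X'.fromSpecStalk (genericPoint X')).fromNormalization
    refine { toIsAffineHom := inferInstance, finite_app := fun U hU => ?_ }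
    by_cases hne : (U : Set X').Nonempty
    · refine Groth.Agent.Lib.Helper12.NormAff.app_finite_of_integralClosure_finite X' hU hne ?_
      haveI : Nonempty U := ⟨⟨_, hne.some_mem⟩⟩
      show Module.Finite Γ(X', U) (integralClosure Γ(X', U) (FractionRing Γ(X', U)))
      exact n1_of_nagata _ (hN' U hU)
    · exact Groth.Agent.Lib.Helper12.NormAff.app_finite_of_empty X' hne
  have hnorm : Pi1.IsNormalScheme (Curv2.normalization X') := by
    intro x'
    refine ⟨?_, Groth.Agent.Lib.Helper12.NormAff.isIntegrallyClosed_stalk X' x'⟩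
    show IsDomain ((X'.fromSpecStalk (genericPoint X')).normalization.presheaf.stalk x')
    infer_instance
  haveI := hfin
  haveI := hbp
  have hprop : IsProper (Curv2.normalizationι X' ≫ b) := inferInstance
  refine ⟨hnorm, fun U => ?_, hprop⟩
  exact Groth.Agent.Lib.Helper6.NagataSp.nagata_of_lft (Curv2.normalizationι X')
    (fun V hV => hN' V hV) U.1 U.2

end Groth.Agent.Lib.Helper6.NormBlow
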