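import Mathlib
import Groth.Prelude.Def_CAlgX

/-!
Helper6: quasi-regularity of a sequence only depends on the ideal it generates (for sequences of
the same length).
-/

set_option autoImplicit false

namespace Groth.Agent.Lib.Helper6.QuasiRegChange

universe u

open MvPolynomial

theorem isQuasiRegular_of_span_eq {A : Type u} [CommRing A] {n : ℕ} (f f' : Fin n → A)
    (hf : CAlgX.IsQuasiRegular f) (h : Ideal.span (Set.range f') = Ideal.span (Set.range f)) :
    CAlgX.IsQuasiRegular f' := by
  classical
  have h1 : ∀ i, f' i ∈ Ideal.span (Set.range f) := fun i => h ▸ Ideal.subset_span ⟨i, rfl⟩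
  have h2 : ∀ i, f i ∈ Ideal.span (Set.range f') := fun i => h.symm ▸ Ideal.subset_span ⟨i, rfl⟩
  choose M hM using fun i => Ideal.mem_span_range_iff_exists_fun.mp (h1 i)
  choose M' hM' using fun i => Ideal.mem_span_range_iff_exists_fun.mp (h2 i)
  let MM : Matrix (Fin n) (Fin n) A := Matrix.of M
  let MM' : Matrix (Fin n) (Fin n) A := Matrix.of M'
  let N : Matrix (Fin n) (Fin n) A := MM' * MM
  have hNf : ∀ i, ∑ k, N i k * f k = f i := by
    intro i
    simp only [N, Matrix.mul_apply, MM, MM', Matrix.of_apply, Finset.sum_mul]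
    rw [Finset.sum_comm, ← hM' i]
    apply Finset.sum_congr rfl
    intro j _
    rw [← hM j, Finset.mul_sum]
    apply Finset.sum_congr rfl
    intro k _
    ring
  have hN : ∀ i k, N i k - (1 : Matrix (Fin n) (Fin n) A) i k ∈ Ideal.span (Set.range f) := by
    intro i k
    let Pi : MvPolynomial (Fin n) A :=
      ∑ k', C (N i k' - (1 : Matrix (Fin n) (Fin n) A) i k') * X k'
    have hPi : Pi.IsHomogeneous 1 :=
      IsHomogeneous.sum _ _ _ (fun k' _ => isHomogeneous_C_mul_X _ _)
    have hev : eval f Pi = 0 := by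
      simp only [Pi, map_sum, map_mul, eval_C, eval_X, sub_mul, Finset.sum_sub_distrib, hNf i]
      simp [Matrix.one_apply]
    have hmem := hf 1 Pi hPi (by rw [hev]; exact zero_mem _) (Finsupp.single k 1)
    have hc : Pi.coeff (Finsupp.single k 1) = N i k - (1 : Matrix (Fin n) (Fin n) A) i k := by
      simp only [Pi, coeff_sum, coeff_C_mul, coeff_X', Finsupp.single_left_inj one_ne_zero,
        mul_ite, mul_one, mul_zero, Finset.sum_ite_eq', Finset.mem_univ, if_true]
    rwa [hc] at hmem
  let q := Ideal.Quotient.mk (Ideal.span (Set.range f))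
  have hMM : MM'.map q * MM.map q = 1 := by
    rw [← Matrix.map_mul]
    ext i k
    have hik := hN i k
    rw [← Ideal.Quotient.eq] at hik
    simp only [Matrix.map_apply]
    rw [show (MM' * MM) i k = N i k from rfl, hik, Matrix.one_apply, Matrix.one_apply]
    split_ifs <;> simp
  have hMM2 : MM.map q * MM'.map q = 1 := mul_eq_one_comm.mp hMM
  intro d P hP hev e
  let g : Fin n → MvPolynomial (Fin n) A := fun i => ∑ j, C (M i j) * X j
  have hg : ∀ i, (g i).IsHomogeneous 1 := fun i =>
    IsHomogeneous.sum _ _ _ (fun j _ => isHomogeneous_C_mul_X _ _)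
  have hQ : (bind₁ g P).IsHomogeneous d := by
    have h3 := hP.aeval g hg
    rwa [one_mul] at h3
  have hevg : ∀ i, eval f (g i) = f' i := by
    intro i
    simp only [g, map_sum, map_mul, eval_C, eval_X]
    exact hM i
  have hQev : eval f (bind₁ g P) = eval f' P := by
    show eval₂Hom (RingHom.id A) f (bind₁ g P) = eval₂Hom (RingHom.id A) f' P
    rw [eval₂Hom_bind₁]
    have hfun : (fun i => (eval₂Hom (RingHom.id A) f) (g i)) = f' := funext hevg
    rw [hfun]
  have hQJ := hf d (bind₁ g P) hQ (by rw [hQev, ← h]; exact hev)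
  have hQ0 : map q (bind₁ g P) = 0 := by
    ext e'
    rw [coeff_map, coeff_zero]
    exact Ideal.Quotient.eq_zero_iff_mem.mpr (hQJ e')
  rw [map_bind₁] at hQ0
  let g' : Fin n → MvPolynomial (Fin n) (A ⧸ Ideal.span (Set.range f)) :=
    fun i => ∑ j, C (q (M' i j)) * X j
  have hcomp : ∀ i, bind₁ g' (map q (g i)) = X i := by
    intro i
    simp only [g, map_sum, map_mul, map_C, map_X, bind₁_C_right, bind₁_X_right, g']
    simp only [Finset.mul_sum, ← mul_assoc, ← C_mul]
    rw [Finset.sum_comm]
    simp only [← Finset.sum_mul, ← map_sum C]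
    have hone : ∀ k, ∑ j, q (M i j) * q (M' j k) =
        (1 : Matrix (Fin n) (Fin n) (A ⧸ Ideal.span (Set.range f))) i k := by
      intro k
      have h4 := congrFun (congrFun hMM2 i) k
      simpa [Matrix.mul_apply, MM, MM'] using h4
    simp only [hone, Matrix.one_apply]
    simp
  have hP0 : map q P = 0 := by
    have h5 := congrArg (bind₁ g') hQ0
    rw [bind₁_bind₁, map_zero] at h5
    simpa only [hcomp, bind₁_X_left, AlgHom.id_apply] using h5
  have h6 := congrArg (coeff e) hP0
  rw [coeff_map, coeff_zero, Ideal.Quotient.eq_zero_iff_mem] at h6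
  rw [h]
  exact h6

end Groth.Agent.Lib.Helper6.QuasiRegChange
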