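import Mathlib
import Groth.Prelude.Def_CAlgX
import Groth.Agent.Lib.Helper6.QuasiRegChange

/-!
Helper6: quasi-regular generators of an ideal give a basis of the conormal module, and conversely
in a local ring.
-/

set_option autoImplicit false

namespace Groth.Agent.Lib.Helper6.QuasiRegBasis

universe u

open MvPolynomial

variable {A : Type u} [CommRing A]

/-- degree one case of quasi-regularity. -/
theorem coeff_mem_of_sum_mem_sq {m : ℕ} (f : Fin m → A) (hf : CAlgX.IsQuasiRegular f)
    (c : Fin m → A) (hc : ∑ i, c i * f i ∈ Ideal.span (Set.range f) ^ 2) (i : Fin m) :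
    c i ∈ Ideal.span (Set.range f) := by
  classical
  let P : MvPolynomial (Fin m) A := ∑ k, C (c k) * X k
  have hP : P.IsHomogeneous 1 := IsHomogeneous.sum _ _ _ (fun k _ => isHomogeneous_C_mul_X _ _)
  have hev : eval f P = ∑ k, c k * f k := by
    simp only [P, map_sum, map_mul, eval_C, eval_X]
  have hmem := hf 1 P hP (by rw [hev]; exact hc) (Finsupp.single i 1)
  have hcoeff : P.coeff (Finsupp.single i 1) = c i := by
    simp only [P, coeff_sum, coeff_C_mul, coeff_X', Finsupp.single_left_inj one_ne_zero,
      mul_ite, mul_one, mul_zero, Finset.sum_ite_eq', Finset.mem_univ, if_true]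
  rwa [hcoeff] at hmem

theorem cotangent_sum (I : Ideal A) {m : ℕ} (f : Fin m → I) (c : Fin m → A) :
    ∑ i, Ideal.Quotient.mk I (c i) • I.toCotangent (f i) =
      I.toCotangent (∑ i, c i • f i) := by
  rw [map_sum]
  apply Finset.sum_congr rfl
  intro i _
  rw [map_smul, ← Ideal.Quotient.algebraMap_eq, algebraMap_smul]

theorem basis_of_quasiRegular (I : Ideal A) {m : ℕ} (f : Fin m → I)
    (hq : CAlgX.IsQuasiRegular (fun i => (f i : A)))
    (hs : Ideal.span (Set.range fun i => (f i : A)) = I) :
    LinearIndependent (A ⧸ I) (fun i => I.toCotangent (f i)) ∧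
      Submodule.span (A ⧸ I) (Set.range fun i => I.toCotangent (f i)) = ⊤ := by
  classical
  constructor
  · rw [Fintype.linearIndependent_iff]
    intro c hc i
    choose c' hc' using fun i => Ideal.Quotient.mk_surjective (c i)
    have h1 : ∑ i, Ideal.Quotient.mk I (c' i) • I.toCotangent (f i) = 0 := by
      simpa only [hc'] using hc
    rw [cotangent_sum, Ideal.toCotangent_eq_zero] at h1
    have h2 : ∑ i, c' i * (f i : A) ∈ Ideal.span (Set.range fun i => (f i : A)) ^ 2 := by
      rw [hs]
      convert h1 using 1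
      simp
    have h3 := coeff_mem_of_sum_mem_sq _ hq c' h2 i
    rw [hs] at h3
    rw [← hc' i]
    exact Ideal.Quotient.eq_zero_iff_mem.mpr h3
  · rw [eq_top_iff]
    intro x _
    obtain ⟨y, rfl⟩ := I.toCotangent_surjective x
    have hy : (y : A) ∈ Ideal.span (Set.range fun i => (f i : A)) := by
      rw [hs]; exact y.2
    obtain ⟨c, hc⟩ := Ideal.mem_span_range_iff_exists_fun.mp hy
    have hy' : y = ∑ i, c i • f i := by
      apply Subtype.ext
      rw [← hc]
      simp
    rw [hy', ← cotangent_sum]
    exact Submodule.sum_mem _ (fun i _ => Submodule.smul_mem _ _ (Submodule.subset_span ⟨i, rfl⟩))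

theorem main [IsLocalRing A] (I : Ideal A) (hI : I ≤ IsLocalRing.maximalIdeal A)
    (hq : ∃ (r : ℕ) (g : Fin r → A), CAlgX.IsQuasiRegular g ∧ Ideal.span (Set.range g) = I)
    {m : ℕ} (f : Fin m → I) :
    (CAlgX.IsQuasiRegular (fun i => (f i : A)) ∧ Ideal.span (Set.range fun i => (f i : A)) = I) ↔
      (LinearIndependent (A ⧸ I) (fun i => I.toCotangent (f i)) ∧
        Submodule.span (A ⧸ I) (Set.range fun i => I.toCotangent (f i)) = ⊤) := by
  classical
  constructor
  · rintro ⟨h1, h2⟩
    exact basis_of_quasiRegular I f h1 h2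
  · rintro ⟨hli, hsp⟩
    obtain ⟨r, g, hg, hgI⟩ := hq
    have hne : I ≠ ⊤ := fun h => (IsLocalRing.maximalIdeal.isMaximal A).ne_top
      (top_le_iff.mp (h ▸ hI))
    have : Nontrivial (A ⧸ I) := Ideal.Quotient.nontrivial_iff.mpr hne
    -- generation by Nakayama
    have hfg : (I : Submodule A A).FG := by
      rw [← hgI]
      exact ⟨(Finset.univ.image g), by simp [Ideal.span]⟩
    have hle : Ideal.span (Set.range fun i => (f i : A)) ≤ I := by
      rw [Ideal.span_le]
      rintro _ ⟨i, rfl⟩
      exact (f i).2
    have hgen : Ideal.span (Set.range fun i => (f i : A)) = I := by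
      refine le_antisymm hle ?_
      refine Submodule.le_of_le_smul_of_le_jacobson_bot (I := I) hfg ?_ ?_
      · rw [IsLocalRing.jacobson_eq_maximalIdeal ⊥ bot_ne_top]
        exact hI
      · intro x hx
        have hx' : I.toCotangent ⟨x, hx⟩ ∈
            Submodule.span (A ⧸ I) (Set.range fun i => I.toCotangent (f i)) := hsp ▸ Submodule.mem_top
        obtain ⟨c, hc⟩ := (Submodule.mem_span_range_iff_exists_fun _).mp hx'
        choose c' hc' using fun i => Ideal.Quotient.mk_surjective (c i)
        have h1 : ∑ i, Ideal.Quotient.mk I (c' i) • I.toCotangent (f i) =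
            I.toCotangent ⟨x, hx⟩ := by
          simpa only [hc'] using hc
        rw [cotangent_sum, Ideal.toCotangent_eq] at h1
        have h2 : x = ∑ i, c' i * (f i : A) + (x - ∑ i, c' i * (f i : A)) := by ring
        rw [h2]
        refine Submodule.add_mem_sup ?_ ?_
        · exact Submodule.sum_mem _ (fun i _ => Ideal.mul_mem_left _ _
            (Ideal.subset_span ⟨i, rfl⟩))
        · rw [Ideal.smul_eq_mul, ← pow_two]
          have h3 : x - ∑ i, c' i * (f i : A) = -(((∑ i, c' i • f i : I) : A) - x) := by
            simp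
          rw [h3]
          exact (I ^ 2).neg_mem h1
    refine ⟨?_, hgen⟩
    -- equality of lengths
    let g' : Fin r → I := fun i => ⟨g i, hgI ▸ Ideal.subset_span ⟨i, rfl⟩⟩
    have hg' : CAlgX.IsQuasiRegular (fun i => (g' i : A)) := hg
    have hg's : Ideal.span (Set.range fun i => (g' i : A)) = I := hgI
    obtain ⟨hli', hsp'⟩ := basis_of_quasiRegular I g' hg' hg's
    let b : Module.Basis (Fin m) (A ⧸ I) I.Cotangent := Module.Basis.mk hli (by rw [hsp])
    let b' : Module.Basis (Fin r) (A ⧸ I) I.Cotangent := Module.Basis.mk hli' (by rw [hsp'])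
    have hmr : m = r := by
      have := Fintype.card_congr (b.indexEquiv b')
      simpa using this
    subst hmr
    exact QuasiRegChange.isQuasiRegular_of_span_eq g (fun i => (f i : A)) hg (hgen.trans hgI.symm)

end Groth.Agent.Lib.Helper6.QuasiRegBasis
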