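import Mathlib

/-!
# Free composita and transcendence bases (field theory for points of fibre products)
-/

set_option autoImplicit false
set_option linter.style.haveILetI false
universe u
open Algebra Set

namespace Groth.Agent.Lib.Helper6.TrdegFree

/-- The subfield of elements of a field which are algebraic over a domain. -/
noncomputable def algSubfield (R Ω : Type*) [CommRing R] [IsDomain R] [Field Ω] [Algebra R Ω] :
    Subfield Ω :=
  { (Subalgebra.algebraicClosure R Ω).toSubring with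
    inv_mem' := fun x hx => by
      have hx' : IsAlgebraic R x := (Subalgebra.mem_algebraicClosure R Ω).mp hx
      exact (Subalgebra.mem_algebraicClosure R Ω).mpr hx'.inv }

theorem mem_algSubfield {R Ω : Type*} [CommRing R] [IsDomain R] [Field Ω] [Algebra R Ω] {z : Ω} :
    z ∈ algSubfield R Ω ↔ IsAlgebraic R z :=
  Subalgebra.mem_algebraicClosure R Ω

theorem bigField (K₁ : Type u) [Field K₁] (σ : Type u) :
    ∃ (Ω : Type u) (_ : Field Ω) (_ : Algebra K₁ Ω) (_ : IsAlgClosed Ω) (Y : σ → Ω),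
      AlgebraicIndependent K₁ Y := by
  let j : MvPolynomial σ K₁ →+* AlgebraicClosure (FractionRing (MvPolynomial σ K₁)) :=
    (algebraMap (FractionRing (MvPolynomial σ K₁))
      (AlgebraicClosure (FractionRing (MvPolynomial σ K₁)))).comp
      (algebraMap (MvPolynomial σ K₁) (FractionRing (MvPolynomial σ K₁)))
  have hj : Function.Injective j :=
    (algebraMap (FractionRing (MvPolynomial σ K₁))
      (AlgebraicClosure (FractionRing (MvPolynomial σ K₁)))).injective.comp
      (IsFractionRing.injective (MvPolynomial σ K₁) (FractionRing (MvPolynomial σ K₁)))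
  let alg : Algebra K₁ (AlgebraicClosure (FractionRing (MvPolynomial σ K₁))) :=
    (j.comp MvPolynomial.C).toAlgebra
  refine ⟨AlgebraicClosure (FractionRing (MvPolynomial σ K₁)), inferInstance, alg, inferInstance,
    fun i => j (MvPolynomial.X i), ?_⟩
  rw [algebraicIndependent_iff_injective_aeval]
  have h1 : ∀ p : MvPolynomial σ K₁,
      MvPolynomial.aeval (R := K₁) (fun i => j (MvPolynomial.X i)) p = j p := by
    intro p
    induction p using MvPolynomial.induction_on with
    | C a => rw [MvPolynomial.aeval_C]; rfl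
    | add p q hp hq => rw [map_add, map_add, hp, hq]
    | mul_X p i hp => rw [map_mul, map_mul, hp, MvPolynomial.aeval_X]
  intro a b hab
  apply hj
  rw [← h1, ← h1]; exact hab

section general

variable {F K K₂ : Type*} [CommRing F] [CommRing K] [CommRing K₂] [Algebra F K] [Algebra F K₂]
  [Algebra K K₂] [IsScalarTower F K K₂]

theorem isAlgebraic_adjoin_of_subset (S T : Set K₂) (hST : S ⊆ adjoin K T)
    [halg : Algebra.IsAlgebraic (adjoin F S) K₂] : Algebra.IsAlgebraic (adjoin K T) K₂ := by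
  let Rv := adjoin F S
  let Sv := adjoin K T
  have le : Rv ≤ Sv.restrictScalars F := adjoin_le hST
  let _ : Algebra Rv Sv := (Subalgebra.inclusion le).toAlgebra
  have : IsScalarTower Rv Sv K₂ := .of_algebraMap_eq fun x ↦ rfl
  exact .extendScalars (Subalgebra.inclusion_injective le)

theorem mem_adjoin_map {ι' : Type*} (t : ι' → K) (z : K) (hz : z ∈ adjoin F (range t)) :
    algebraMap K K₂ z ∈ adjoin F (range (algebraMap K K₂ ∘ t)) := by
  have : (IsScalarTower.toAlgHom F K K₂) z ∈
      (adjoin F (range t)).map (IsScalarTower.toAlgHom F K K₂) := ⟨z, hz, rfl⟩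
  rw [AlgHom.map_adjoin, ← Set.range_comp] at this
  exact this

theorem algInd_adjoin_of_map {ι ι' : Type*} (t : ι' → K) (v : ι → K₂)
    (hinj : Function.Injective (algebraMap K K₂))
    (h1 : AlgebraicIndependent (adjoin F (range (algebraMap K K₂ ∘ t))) v) :
    AlgebraicIndependent (adjoin F (range t)) v := by
  let f0 : adjoin F (range t) →+* adjoin F (range (algebraMap K K₂ ∘ t)) :=
    ((algebraMap K K₂).comp (adjoin F (range t)).val.toRingHom).codRestrict
      (adjoin F (range (algebraMap K K₂ ∘ t))) (fun z => mem_adjoin_map t z.1 z.2)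
  have hf0 : Function.Injective f0 := by
    intro a b hab
    have h' : algebraMap K K₂ (a : K) = algebraMap K K₂ (b : K) := congrArg Subtype.val hab
    exact Subtype.ext (hinj h')
  exact AlgebraicIndependent.of_ringHom_of_comp_eq f0 (RingHom.id K₂) h1 hf0 (by ext z; rfl)

end general

section main

variable {F K F₁ F₂ K₁ K₂ : Type u} [Field F] [Field K] [Field F₁] [Field F₂] [Field K₁] [Field K₂]
  [Algebra F K] [Algebra F F₁] [Algebra F F₂] [Algebra F₁ K₁] [Algebra F₂ K₂]
  [Algebra K K₁] [Algebra K K₂] [Algebra F K₁] [Algebra F K₂]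
  [IsScalarTower F K K₁] [IsScalarTower F F₁ K₁] [IsScalarTower F K K₂] [IsScalarTower F F₂ K₂]

/-- A transcendence basis of `F₂/F` is a transcendence basis of `K₂/K` when a transcendence basis of
`K/F` stays one for `K₂/F₂`. -/
theorem isTranscendenceBasis_of_tower {ι ι₂ : Type u} (t : ι → K) (ht : IsTranscendenceBasis F t)
    (h₂ : IsTranscendenceBasis F₂ (algebraMap K K₂ ∘ t))
    (C : ι₂ → F₂) (hC : IsTranscendenceBasis F C) :
    IsTranscendenceBasis K (algebraMap F₂ K₂ ∘ C) := by
  classical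
  have hu : IsTranscendenceBasis F (Sum.elim (algebraMap K K₂ ∘ t) (algebraMap F₂ K₂ ∘ C)) :=
    hC.sumElim_comp h₂
  have hswap : AlgebraicIndependent F
      (Sum.elim (algebraMap F₂ K₂ ∘ C) (algebraMap K K₂ ∘ t)) := by
    have := hu.1.comp Sum.swap Sum.swap_leftInverse.injective
    convert this using 1
    ext (a | b) <;> rfl
  have h1 : AlgebraicIndependent (adjoin F (range (algebraMap K K₂ ∘ t))) (algebraMap F₂ K₂ ∘ C) :=
    (AlgebraicIndependent.sumElim_iff.mp hswap).2
  have h2' : AlgebraicIndependent (adjoin F (range t)) (algebraMap F₂ K₂ ∘ C) :=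
    algInd_adjoin_of_map t _ (algebraMap K K₂).injective h1
  have h3 : AlgebraicIndependent (IntermediateField.adjoin F (range t)) (algebraMap F₂ K₂ ∘ C) :=
    IntermediateField.algebraicIndependent_adjoin_iff.mpr h2'
  haveI : Algebra.IsAlgebraic (IntermediateField.adjoin F (range t)) K := ht.isAlgebraic_field
  have h4 : AlgebraicIndependent K (algebraMap F₂ K₂ ∘ C) :=
    (Algebra.IsAlgebraic.algebraicIndependent_iff (IntermediateField.adjoin F (range t)) K).mp h3
  have h5 : Algebra.IsAlgebraic (adjoin K (range (algebraMap F₂ K₂ ∘ C))) K₂ := by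
    haveI := hu.isAlgebraic
    refine isAlgebraic_adjoin_of_subset (F := F)
      (range (Sum.elim (algebraMap K K₂ ∘ t) (algebraMap F₂ K₂ ∘ C))) _ ?_
    rintro _ ⟨(i | j), rfl⟩
    · exact (adjoin K (range (algebraMap F₂ K₂ ∘ C))).algebraMap_mem (t i)
    · exact subset_adjoin ⟨j, rfl⟩
  exact isTranscendenceBasis_iff_algebraicIndependent_isAlgebraic.mpr ⟨h4, h5⟩

/-- **Free compositum.** -/
theorem exists_free_compositum {ι : Type u} (t : ι → K) (ht : IsTranscendenceBasis F t)
    (h₁ : AlgebraicIndependent F₁ (algebraMap K K₁ ∘ t))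
    (h₂ : IsTranscendenceBasis F₂ (algebraMap K K₂ ∘ t)) :
    ∃ (Ω : Type u) (_ : Field Ω) (φ₁ : K₁ →+* Ω) (φ₂ : K₂ →+* Ω) (A : Subfield Ω),
      φ₁.comp (algebraMap K K₁) = φ₂.comp (algebraMap K K₂) ∧
      (∀ z, φ₁ (algebraMap F₁ K₁ z) ∈ A) ∧ (∀ z, φ₂ (algebraMap F₂ K₂ z) ∈ A) ∧
      AlgebraicIndependent A (fun i => φ₁ (algebraMap K K₁ (t i))) := by
  classical
  obtain ⟨ι₂, C, hC⟩ := exists_isTranscendenceBasis' F F₂
  have hvK := isTranscendenceBasis_of_tower t ht h₂ C hC
  obtain ⟨v, hv_def⟩ : ∃ v : ι₂ → K₂, v = algebraMap F₂ K₂ ∘ C := ⟨_, rfl⟩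
  rw [← hv_def] at hvK
  obtain ⟨Ω, _, _, _, Y, hY₁⟩ := bigField K₁ ι₂
  letI : Algebra K Ω := ((algebraMap K₁ Ω).comp (algebraMap K K₁)).toAlgebra
  haveI : IsScalarTower K K₁ Ω := .of_algebraMap_eq fun _ => rfl
  letI : Algebra F₁ Ω := ((algebraMap K₁ Ω).comp (algebraMap F₁ K₁)).toAlgebra
  haveI : IsScalarTower F₁ K₁ Ω := .of_algebraMap_eq fun _ => rfl
  have hYK : AlgebraicIndependent K Y := hY₁.restrictScalars (algebraMap K K₁).injective
  -- the embedding of `K₂`
  have hginj : Function.Injective (MvPolynomial.aeval Y : MvPolynomial ι₂ K →ₐ[K] Ω) :=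
    algebraicIndependent_iff_injective_aeval.mp hYK
  let ghat : FractionRing (MvPolynomial ι₂ K) →ₐ[K] Ω := IsFractionRing.liftAlgHom (K := FractionRing (MvPolynomial ι₂ K)) hginj
  let f₂ : IntermediateField.adjoin K (range v) →ₐ[K] Ω :=
    ghat.comp hvK.1.aevalEquivField.symm.toAlgHom
  haveI : Algebra.IsAlgebraic (IntermediateField.adjoin K (range v)) K₂ := hvK.isAlgebraic_field
  obtain ⟨φ₂, hφ₂⟩ := IsAlgClosed.surjective_domRestrict_of_isAlgebraic (K := K)
    (L := IntermediateField.adjoin K (range v)) (E := K₂) (M := Ω) f₂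
  have hφ₂v : ∀ j, φ₂ (v j) = Y j := by
    intro j
    have hvj : v j ∈ IntermediateField.adjoin K (range v) :=
      IntermediateField.subset_adjoin K _ ⟨j, rfl⟩
    have h6 : φ₂ (v j) = f₂ ⟨v j, hvj⟩ := by rw [← hφ₂]; rfl
    rw [h6]
    have h7 : hvK.1.aevalEquivField (algebraMap (MvPolynomial ι₂ K)
        (FractionRing (MvPolynomial ι₂ K)) (MvPolynomial.X j)) = ⟨v j, hvj⟩ := by
      apply Subtype.ext
      rw [hvK.1.aevalEquivField_algebraMap_apply_coe]; simp
    have h8 : hvK.1.aevalEquivField.symm ⟨v j, hvj⟩ = algebraMap (MvPolynomial ι₂ K)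
        (FractionRing (MvPolynomial ι₂ K)) (MvPolynomial.X j) := by
      rw [← h7, AlgEquiv.symm_apply_apply]
    show ghat (hvK.1.aevalEquivField.symm ⟨v j, hvj⟩) = Y j
    rw [h8]
    show IsFractionRing.lift hginj (algebraMap (MvPolynomial ι₂ K)
        (FractionRing (MvPolynomial ι₂ K)) (MvPolynomial.X j)) = Y j
    rw [IsFractionRing.lift_algebraMap]; simp
  -- independence
  have hW : AlgebraicIndependent F₁ (Sum.elim Y (algebraMap K₁ Ω ∘ (algebraMap K K₁ ∘ t))) :=
    h₁.sumElim_comp hY₁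
  have hW' : AlgebraicIndependent F₁ (Sum.elim (algebraMap K₁ Ω ∘ (algebraMap K K₁ ∘ t)) Y) := by
    have := hW.comp Sum.swap Sum.swap_leftInverse.injective
    convert this using 1
    ext (a | b) <;> rfl
  have hR : AlgebraicIndependent (adjoin F₁ (range Y)) (algebraMap K₁ Ω ∘ (algebraMap K K₁ ∘ t)) :=
    (AlgebraicIndependent.sumElim_iff.mp hW').2
  have hRA : ∀ z : adjoin F₁ (range Y), algebraMap (adjoin F₁ (range Y)) Ω z ∈
      algSubfield (adjoin F₁ (range Y)) Ω := fun z => mem_algSubfield.mpr (isAlgebraic_algebraMap z)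
  letI : Algebra (adjoin F₁ (range Y)) (algSubfield (adjoin F₁ (range Y)) Ω) :=
    ((algebraMap (adjoin F₁ (range Y)) Ω).codRestrict (algSubfield (adjoin F₁ (range Y)) Ω)
      hRA).toAlgebra
  haveI : IsScalarTower (adjoin F₁ (range Y)) (algSubfield (adjoin F₁ (range Y)) Ω) Ω :=
    .of_algebraMap_eq fun _ => rfl
  haveI : Algebra.IsAlgebraic (adjoin F₁ (range Y)) (algSubfield (adjoin F₁ (range Y)) Ω) :=
    ⟨fun a => (isAlgebraic_algebraMap_iff (A := Ω)
      (algebraMap (algSubfield (adjoin F₁ (range Y)) Ω) Ω).injective).mp (mem_algSubfield.mp a.2)⟩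
  have hA : AlgebraicIndependent (algSubfield (adjoin F₁ (range Y)) Ω)
      (algebraMap K₁ Ω ∘ (algebraMap K K₁ ∘ t)) :=
    hR.extendScalars (algSubfield (adjoin F₁ (range Y)) Ω)
  -- generators
  have hgen1 : ∀ z, algebraMap K₁ Ω (algebraMap F₁ K₁ z) ∈ algSubfield (adjoin F₁ (range Y)) Ω :=
    fun z => hRA ⟨_, (adjoin F₁ (range Y)).algebraMap_mem z⟩
  have hgF : ∀ r : F, φ₂ (algebraMap F₂ K₂ (algebraMap F F₂ r)) =
      algebraMap F₁ Ω (algebraMap F F₁ r) := by
    intro r
    rw [← IsScalarTower.algebraMap_apply F F₂ K₂, IsScalarTower.algebraMap_apply F K K₂,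
      φ₂.commutes]
    show algebraMap K₁ Ω (algebraMap K K₁ (algebraMap F K r)) =
      algebraMap K₁ Ω (algebraMap F₁ K₁ (algebraMap F F₁ r))
    rw [← IsScalarTower.algebraMap_apply F K K₁, ← IsScalarTower.algebraMap_apply F F₁ K₁]
  have hmem2 : ∀ w : adjoin F (range C), φ₂ (algebraMap F₂ K₂ (w : F₂)) ∈ adjoin F₁ (range Y) := by
    rintro ⟨w, hw⟩
    induction hw using Algebra.adjoin_induction with
    | mem x hx =>
      obtain ⟨j, rfl⟩ := hx
      have : φ₂ (algebraMap F₂ K₂ (C j)) = Y j := by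
        have := hφ₂v j
        rw [hv_def] at this
        exact this
      show φ₂ (algebraMap F₂ K₂ (C j)) ∈ _
      rw [this]
      exact subset_adjoin ⟨j, rfl⟩
    | algebraMap r =>
      show φ₂ (algebraMap F₂ K₂ (algebraMap F F₂ r)) ∈ _
      rw [hgF]
      exact (adjoin F₁ (range Y)).algebraMap_mem _
    | add x y _ _ hx hy =>
      show φ₂ (algebraMap F₂ K₂ (x + y)) ∈ _
      rw [map_add, map_add]
      exact add_mem hx hy
    | mul x y _ _ hx hy =>
      show φ₂ (algebraMap F₂ K₂ (x * y)) ∈ _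
      rw [map_mul, map_mul]
      exact mul_mem hx hy
  let g : F₂ →+* Ω := (φ₂ : K₂ →+* Ω).comp (algebraMap F₂ K₂)
  let f1 : adjoin F (range C) →+* adjoin F₁ (range Y) :=
    (g.comp (adjoin F (range C)).val.toRingHom).codRestrict (adjoin F₁ (range Y)) hmem2
  have hf1 : Function.Injective f1 := by
    intro a b hab
    have h' : g (a : F₂) = g (b : F₂) := congrArg Subtype.val hab
    exact Subtype.ext (g.injective h')
  haveI : Algebra.IsAlgebraic (adjoin F (range C)) F₂ := hC.isAlgebraic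
  have hgen2 : ∀ z, φ₂ (algebraMap F₂ K₂ z) ∈ algSubfield (adjoin F₁ (range Y)) Ω := by
    intro z
    rw [mem_algSubfield]
    have hz : IsAlgebraic (adjoin F (range C)) z := Algebra.IsAlgebraic.isAlgebraic z
    exact hz.ringHom_of_comp_eq f1 g hf1 (by ext w; rfl)
  refine ⟨Ω, inferInstance, algebraMap K₁ Ω, (φ₂ : K₂ →+* Ω), algSubfield (adjoin F₁ (range Y)) Ω,
    ?_, hgen1, hgen2, hA⟩
  ext k
  exact (φ₂.commutes k).symm

end main

end Groth.Agent.Lib.Helper6.TrdegFree
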