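import Mathlib
import Groth.Prelude.Def_Dual3
import Groth.Agent.Lib.Helper23.PullbackResField
import Groth.Agent.Lib.Helper6.TrdegFree

/-!
# Points of iterated fibre products with prescribed transcendence degree
-/

set_option autoImplicit false
set_option linter.style.haveILetI false
universe u
open CategoryTheory CategoryTheory.Limits AlgebraicGeometry IsLocalRing Algebra Set

namespace Groth.Agent.Lib.Helper6.FibProdTrdeg

open Groth.Agent.Lib.Helper6.TrdegFree Groth.Agent.Lib.Helper23.PullbackResField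

section alg

/-- Abstract algebraicity lemma for residue fields of points of fibre products. -/
theorem isAlgebraic_adjoin_comp {k₀ kx ky M : Type*} [Field k₀] [Field kx] [Field ky] [Field M]
    [Algebra k₀ kx] [Algebra ky M] (c : kx →+* M)
    (hcomm : ∀ r : k₀, ∃ r' : ky, c (algebraMap k₀ kx r) = algebraMap ky M r')
    (hgen : Subfield.closure (Set.range c ∪ Set.range (algebraMap ky M)) = ⊤)
    {ι : Type*} (B : ι → kx) [halg : Algebra.IsAlgebraic (adjoin k₀ (range B)) kx] :
    Algebra.IsAlgebraic (adjoin ky (range (c ∘ B))) M := by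
  have hmem : ∀ w : adjoin k₀ (range B), c (w : kx) ∈ adjoin ky (range (c ∘ B)) := by
    rintro ⟨w, hw⟩
    induction hw using Algebra.adjoin_induction with
    | mem x hx =>
      obtain ⟨i, rfl⟩ := hx
      exact subset_adjoin ⟨i, rfl⟩
    | algebraMap r =>
      obtain ⟨r', hr'⟩ := hcomm r
      show c (algebraMap k₀ kx r) ∈ _
      rw [hr']
      exact (adjoin ky (range (c ∘ B))).algebraMap_mem r'
    | add x y _ _ hx hy =>
      show c (x + y) ∈ _
      rw [map_add]
      exact add_mem hx hy
    | mul x y _ _ hx hy =>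
      show c (x * y) ∈ _
      rw [map_mul]
      exact mul_mem hx hy
  let f : adjoin k₀ (range B) →+* adjoin ky (range (c ∘ B)) :=
    (c.comp (adjoin k₀ (range B)).val.toRingHom).codRestrict (adjoin ky (range (c ∘ B))) hmem
  have hf : Function.Injective f := by
    intro a b hab
    have h' : c (a : kx) = c (b : kx) := congrArg Subtype.val hab
    exact Subtype.ext (c.injective h')
  have hle : Subfield.closure (Set.range c ∪ Set.range (algebraMap ky M)) ≤
      algSubfield (adjoin ky (range (c ∘ B))) M := by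
    rw [Subfield.closure_le]
    rintro _ (⟨z, rfl⟩ | ⟨r, rfl⟩)
    · rw [SetLike.mem_coe, mem_algSubfield]
      have hz : IsAlgebraic (adjoin k₀ (range B)) z := Algebra.IsAlgebraic.isAlgebraic z
      exact hz.ringHom_of_comp_eq f c hf (by ext w; rfl)
    · rw [SetLike.mem_coe, mem_algSubfield]
      exact isAlgebraic_algebraMap
        (⟨algebraMap ky M r, (adjoin ky (range (c ∘ B))).algebraMap_mem r⟩ :
          adjoin ky (range (c ∘ B)))
  refine ⟨fun m => ?_⟩
  have hm : m ∈ Subfield.closure (Set.range c ∪ Set.range (algebraMap ky M)) := by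
    rw [hgen]; trivial
  exact mem_algSubfield.mp (hle hm)

end alg

section pts

variable {L : Type u} [Field L] {Z W : Scheme.{u}}

/-- The evaluation map `κ(ψ(pt)) → L` of a field valued point. -/
noncomputable abbrev ev (ψ : Spec (CommRingCat.of L) ⟶ Z) :
    Z.residueField (ψ.base (closedPoint L)) ⟶ CommRingCat.of L :=
  Z.descResidueField (Scheme.stalkClosedPointTo ψ)

theorem ev_comp (ψ : Spec (CommRingCat.of L) ⟶ Z) (h : Z ⟶ W) :
    ev (ψ ≫ h) = h.residueFieldMap (ψ.base (closedPoint L)) ≫ ev ψ :=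
  Scheme.descResidueField_stalkClosedPointTo_comp h ψ

theorem spec_ev (ψ : Spec (CommRingCat.of L) ⟶ Z) :
    Spec.map (ev ψ) ≫ Z.fromSpecResidueField (ψ.base (closedPoint L)) = ψ :=
  Scheme.descResidueField_stalkClosedPointTo_fromSpecResidueField L Z ψ

theorem ev_comp_apply (ψ : Spec (CommRingCat.of L) ⟶ Z) (h : Z ⟶ W)
    (r : W.residueField (h.base (ψ.base (closedPoint L)))) :
    (ev (ψ ≫ h)).hom r = (ev ψ).hom ((h.residueFieldMap (ψ.base (closedPoint L))).hom r) :=
  congrArg (fun φ => φ.hom r) (ev_comp ψ h)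

theorem range_ev_comp_subset (ψ : Spec (CommRingCat.of L) ⟶ Z) (h : Z ⟶ W) :
    Set.range (ev (ψ ≫ h)).hom ⊆ Set.range (ev ψ).hom := by
  rintro _ ⟨r, rfl⟩
  exact ⟨_, (ev_comp_apply ψ h r).symm⟩

theorem range_ev_congr {ψ ψ' : Spec (CommRingCat.of L) ⟶ Z} (h : ψ = ψ') :
    Set.range (ev ψ).hom = Set.range (ev ψ').hom := by
  subst h; rfl

theorem range_ev_fromSpecResidueField (z : Z) (φ : Z.residueField z ⟶ CommRingCat.of L) :
    Set.range (ev (Spec.map φ ≫ Z.fromSpecResidueField z)).hom = Set.range φ.hom := by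
  have h0 := (Scheme.SpecToEquivOfField L Z).right_inv ⟨z, φ⟩
  rw [Scheme.SpecToEquivOfField_eq_iff] at h0
  obtain ⟨e, he⟩ := h0
  have h2 : ev (Spec.map φ ≫ Z.fromSpecResidueField z) = (Z.residueFieldCongr e).hom ≫ φ := he
  rw [h2]
  have hsurj : Function.Surjective (Z.residueFieldCongr e).hom.hom :=
    (ConcreteCategory.bijective_of_isIso (Z.residueFieldCongr e).hom).2
  exact hsurj.range_comp φ.hom

theorem factor (ψ : Spec (CommRingCat.of L) ⟶ Z) (z : Z) (hz : ψ.base (closedPoint L) = z) :
    ∃ c : Z.residueField z ⟶ CommRingCat.of L, Spec.map c ≫ Z.fromSpecResidueField z = ψ := by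
  subst hz
  exact ⟨ev ψ, spec_ev ψ⟩

theorem uniq {R : CommRingCat.{u}} {z : Z} {c c' : Z.residueField z ⟶ R}
    (h : Spec.map c ≫ Z.fromSpecResidueField z = Spec.map c' ≫ Z.fromSpecResidueField z) :
    c = c' :=
  Spec.map_injective ((cancel_mono _).mp h)

/-- lower bound for the transcendence degree via a field valued point -/
theorem le_resTrdeg_of_ev (h : Z ⟶ W) (ψ : Spec (CommRingCat.of L) ⟶ Z) (A : Subfield L)
    {ι : Type u} (u : ι → L) (hu : ∀ i, u i ∈ Set.range (ev ψ).hom)
    (hA : Set.range (ev (ψ ≫ h)).hom ⊆ A) (hind : AlgebraicIndependent A u) :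
    Cardinal.mk ι ≤ Dual3.resTrdeg h (ψ.base (closedPoint L)) := by
  letI : Algebra (W.residueField (h.base (ψ.base (closedPoint L))))
      (Z.residueField (ψ.base (closedPoint L))) :=
    (h.residueFieldMap (ψ.base (closedPoint L))).hom.toAlgebra
  choose τ hτ using hu
  have hmemA : ∀ r : W.residueField (h.base (ψ.base (closedPoint L))),
      ((ev ψ).hom.comp (h.residueFieldMap (ψ.base (closedPoint L))).hom) r ∈ A :=
    fun r => hA ⟨r, ev_comp_apply ψ h r⟩
  let f : W.residueField (h.base (ψ.base (closedPoint L))) →+* A :=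
    ((ev ψ).hom.comp (h.residueFieldMap (ψ.base (closedPoint L))).hom).codRestrict A hmemA
  have H : AlgebraicIndependent A ((ev ψ).hom ∘ τ) := by
    have : (ev ψ).hom ∘ τ = u := funext hτ
    rw [this]; exact hind
  have hind' : AlgebraicIndependent (W.residueField (h.base (ψ.base (closedPoint L)))) τ :=
    AlgebraicIndependent.of_ringHom_of_comp_eq f (ev ψ).hom H f.injective (by ext r; rfl)
  exact hind'.cardinalMk_le_trdeg

end pts

section sch

variable {P X Y S : Scheme.{u}} {fst : P ⟶ X} {snd : P ⟶ Y} {f : X ⟶ S} {g : Y ⟶ S}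

theorem exists_residue_comm (h : IsPullback fst snd f g) (t : P)
    (r : S.residueField (f.base (fst.base t))) :
    ∃ r' : Y.residueField (snd.base t),
      (fst.residueFieldMap t).hom ((f.residueFieldMap (fst.base t)).hom r) =
        (snd.residueFieldMap t).hom r' := by
  have h3 := Scheme.Hom.residueFieldMap_congr h.w t
  rw [Scheme.residueFieldMap_comp, Scheme.residueFieldMap_comp] at h3
  exact ⟨(g.residueFieldMap (snd.base t)).hom ((S.residueFieldCongr _).hom.hom r),
    congrArg (fun φ => φ.hom r) h3⟩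

theorem range_ev_isPullback {L : Type u} [Field L] (h : IsPullback fst snd f g)
    (ψ : Spec (CommRingCat.of L) ⟶ P) (A : Subfield L)
    (h1 : Set.range (ev (ψ ≫ fst)).hom ⊆ A) (h2 : Set.range (ev (ψ ≫ snd)).hom ⊆ A) :
    Set.range (ev ψ).hom ⊆ A := by
  have GF := gen_of_isPullback h (ψ.base (closedPoint L))
  have hle : Subfield.closure (Set.range (fst.residueFieldMap (ψ.base (closedPoint L))).hom ∪
      Set.range (snd.residueFieldMap (ψ.base (closedPoint L))).hom) ≤ A.comap (ev ψ).hom := by
    rw [Subfield.closure_le]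
    rintro _ (⟨r, rfl⟩ | ⟨r, rfl⟩)
    · exact h1 ⟨r, ev_comp_apply ψ fst r⟩
    · exact h2 ⟨r, ev_comp_apply ψ snd r⟩
  rintro _ ⟨m, rfl⟩
  have hm : m ∈ Subfield.closure (Set.range (fst.residueFieldMap (ψ.base (closedPoint L))).hom ∪
      Set.range (snd.residueFieldMap (ψ.base (closedPoint L))).hom) := by
    rw [GF]; trivial
  exact hle hm

theorem resTrdeg_le_of_isPullback (h : IsPullback fst snd f g) (t : P) :
    Dual3.resTrdeg snd t ≤ Dual3.resTrdeg f (fst.base t) := by
  letI : Algebra (S.residueField (f.base (fst.base t))) (X.residueField (fst.base t)) :=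
    (f.residueFieldMap (fst.base t)).hom.toAlgebra
  letI : Algebra (Y.residueField (snd.base t)) (P.residueField t) :=
    (snd.residueFieldMap t).hom.toAlgebra
  obtain ⟨ι, B, hB⟩ := exists_isTranscendenceBasis' (S.residueField (f.base (fst.base t)))
    (X.residueField (fst.base t))
  haveI := hB.isAlgebraic
  haveI : Algebra.IsAlgebraic (adjoin (Y.residueField (snd.base t))
      (range ((fst.residueFieldMap t).hom ∘ B))) (P.residueField t) :=
    isAlgebraic_adjoin_comp (k₀ := S.residueField (f.base (fst.base t)))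
      (fst.residueFieldMap t).hom (exists_residue_comm h t) (gen_of_isPullback h t) B
  calc Dual3.resTrdeg snd t
      = Algebra.trdeg (Y.residueField (snd.base t)) (P.residueField t) := rfl
    _ ≤ Cardinal.mk (range ((fst.residueFieldMap t).hom ∘ B)) :=
        Algebra.IsAlgebraic.trdeg_le_cardinalMk _ _
    _ ≤ Cardinal.mk ι := Cardinal.mk_range_le
    _ = Algebra.trdeg (S.residueField (f.base (fst.base t))) (X.residueField (fst.base t)) :=
        hB.cardinalMk_eq_trdeg
    _ = Dual3.resTrdeg f (fst.base t) := rfl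

theorem isTranscendenceBasis_of_isPullback (h : IsPullback fst snd f g) (t : P) (x : X)
    (c : X.residueField x ⟶ P.residueField t)
    (hc : Spec.map c ≫ X.fromSpecResidueField x = P.fromSpecResidueField t ≫ fst)
    {ι : Type u} [Finite ι] (B : ι → X.residueField x)
    (hB : @IsTranscendenceBasis ι (S.residueField (f.base x)) (X.residueField x) _ _
      (f.residueFieldMap x).hom.toAlgebra B)
    (hle : Cardinal.mk ι ≤ Dual3.resTrdeg snd t) :
    @IsTranscendenceBasis ι (Y.residueField (snd.base t)) (P.residueField t) _ _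
      (snd.residueFieldMap t).hom.toAlgebra (c.hom ∘ B) := by
  have hx : fst.base t = x := by
    have h1 : (Spec.map c ≫ X.fromSpecResidueField x).base (closedPoint (P.residueField t)) =
        (P.fromSpecResidueField t ≫ fst).base (closedPoint (P.residueField t)) := by rw [hc]
    have h2 : (Spec.map c ≫ X.fromSpecResidueField x).base (closedPoint (P.residueField t)) = x :=
      Scheme.fromSpecResidueField_apply x _
    have h3 : (P.fromSpecResidueField t ≫ fst).base (closedPoint (P.residueField t)) =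
        fst.base t := congrArg fst.base (Scheme.fromSpecResidueField_apply t _)
    rw [h2, h3] at h1
    exact h1.symm
  subst hx
  have hc' : c = fst.residueFieldMap t :=
    uniq (hc.trans (Scheme.Hom.SpecMap_residueFieldMap_fromSpecResidueField (f := fst) t).symm)
  subst hc'
  letI : Algebra (S.residueField (f.base (fst.base t))) (X.residueField (fst.base t)) :=
    (f.residueFieldMap (fst.base t)).hom.toAlgebra
  letI : Algebra (Y.residueField (snd.base t)) (P.residueField t) :=
    (snd.residueFieldMap t).hom.toAlgebra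
  haveI := hB.isAlgebraic
  haveI : Algebra.IsAlgebraic (adjoin (Y.residueField (snd.base t))
      (range ((fst.residueFieldMap t).hom ∘ B))) (P.residueField t) :=
    isAlgebraic_adjoin_comp (k₀ := S.residueField (f.base (fst.base t)))
      (fst.residueFieldMap t).hom (exists_residue_comm h t) (gen_of_isPullback h t) B
  exact Algebra.IsAlgebraic.isTranscendenceBasis_of_le_trdeg_of_finite _ _ hle

end sch

section mainthm

theorem main {X S S' S'' X' X'' : Scheme.{u}}
    (f : X ⟶ S) (r : ℕ) (g : S' ⟶ S)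
    (p q : S'' ⟶ S') (hS : IsPullback p q g g)
    (f' : X' ⟶ S') (g' : X' ⟶ X) (hX : IsPullback g' f' f g)
    (f'' : X'' ⟶ S'') (p' q' : X'' ⟶ X') (hp : IsPullback p' f'' f' p) (hq : IsPullback q' f'' f' q)
    (hpq : p' ≫ g' = q' ≫ g')
    (x : ↥X) (hx : Dual3.resTrdeg f x = r)
    (x₁ x₂ : ↥X') (h₁ : g'.base x₁ = x) (h₂ : g'.base x₂ = x)
    (hx₁ : Dual3.resTrdeg f' x₁ = r) (hx₂ : Dual3.resTrdeg f' x₂ = r) :
    ∃ x'' : ↥X'', Dual3.resTrdeg f'' x'' = r ∧ p'.base x'' = x₁ ∧ q'.base x'' = x₂ := by
  classical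
  -- derived cartesian squares
  have hbig : IsPullback (q' ≫ f') p' g (g' ≫ f) := by
    rw [hq.w, hX.w]; exact hp.flip.paste_horiz hS.flip
  have hX'' : IsPullback p' q' g' g' := (IsPullback.of_right hbig hpq.symm hX.flip).flip
  have hXS : IsPullback (p' ≫ g') f'' f (p ≫ g) := hp.paste_horiz hX
  -- the residue field maps
  have hz₁ : (X'.fromSpecResidueField x₁ ≫ g').base (closedPoint (X'.residueField x₁)) = x :=
    (congrArg g'.base (Scheme.fromSpecResidueField_apply x₁ _)).trans h₁
  have hz₂ : (X'.fromSpecResidueField x₂ ≫ g').base (closedPoint (X'.residueField x₂)) = x :=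
    (congrArg g'.base (Scheme.fromSpecResidueField_apply x₂ _)).trans h₂
  obtain ⟨c₁, hc₁⟩ := factor (L := X'.residueField x₁) (X'.fromSpecResidueField x₁ ≫ g') x hz₁
  obtain ⟨c₂, hc₂⟩ := factor (L := X'.residueField x₂) (X'.fromSpecResidueField x₂ ≫ g') x hz₂
  have hw₁ : f.base x = g.base (f'.base x₁) := by
    rw [← h₁]; exact congrArg (fun φ : X' ⟶ S => φ.base x₁) hX.w
  have hw₂ : f.base x = g.base (f'.base x₂) := by
    rw [← h₂]; exact congrArg (fun φ : X' ⟶ S => φ.base x₂) hX.w
  have hy₁ : (S'.fromSpecResidueField (f'.base x₁) ≫ g).base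
      (closedPoint (S'.residueField (f'.base x₁))) = f.base x :=
    (congrArg g.base (Scheme.fromSpecResidueField_apply (f'.base x₁) _)).trans hw₁.symm
  have hy₂ : (S'.fromSpecResidueField (f'.base x₂) ≫ g).base
      (closedPoint (S'.residueField (f'.base x₂))) = f.base x :=
    (congrArg g.base (Scheme.fromSpecResidueField_apply (f'.base x₂) _)).trans hw₂.symm
  obtain ⟨b₁, hb₁⟩ := factor (L := S'.residueField (f'.base x₁))
    (S'.fromSpecResidueField (f'.base x₁) ≫ g) (f.base x) hy₁
  obtain ⟨b₂, hb₂⟩ := factor (L := S'.residueField (f'.base x₂))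
    (S'.fromSpecResidueField (f'.base x₂) ≫ g) (f.base x) hy₂
  -- commutation
  have hcomm₁ : f.residueFieldMap x ≫ c₁ = b₁ ≫ f'.residueFieldMap x₁ := by
    apply uniq
    rw [Spec.map_comp, Spec.map_comp, Category.assoc, Category.assoc,
      Scheme.Hom.SpecMap_residueFieldMap_fromSpecResidueField, hb₁, ← Category.assoc, hc₁,
      ← Category.assoc, Scheme.Hom.SpecMap_residueFieldMap_fromSpecResidueField, Category.assoc,
      Category.assoc, hX.w]
  have hcomm₂ : f.residueFieldMap x ≫ c₂ = b₂ ≫ f'.residueFieldMap x₂ := by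
    apply uniq
    rw [Spec.map_comp, Spec.map_comp, Category.assoc, Category.assoc,
      Scheme.Hom.SpecMap_residueFieldMap_fromSpecResidueField, hb₂, ← Category.assoc, hc₂,
      ← Category.assoc, Scheme.Hom.SpecMap_residueFieldMap_fromSpecResidueField, Category.assoc,
      Category.assoc, hX.w]
  -- algebra structures
  letI aFK : Algebra (S.residueField (f.base x)) (X.residueField x) :=
    (f.residueFieldMap x).hom.toAlgebra
  letI a₁ : Algebra (S'.residueField (f'.base x₁)) (X'.residueField x₁) :=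
    (f'.residueFieldMap x₁).hom.toAlgebra
  letI a₂ : Algebra (S'.residueField (f'.base x₂)) (X'.residueField x₂) :=
    (f'.residueFieldMap x₂).hom.toAlgebra
  letI aK₁ : Algebra (X.residueField x) (X'.residueField x₁) := c₁.hom.toAlgebra
  letI aK₂ : Algebra (X.residueField x) (X'.residueField x₂) := c₂.hom.toAlgebra
  letI aF₁ : Algebra (S.residueField (f.base x)) (S'.residueField (f'.base x₁)) :=
    b₁.hom.toAlgebra
  letI aF₂ : Algebra (S.residueField (f.base x)) (S'.residueField (f'.base x₂)) :=
    b₂.hom.toAlgebra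
  letI aFK₁ : Algebra (S.residueField (f.base x)) (X'.residueField x₁) :=
    (f.residueFieldMap x ≫ c₁).hom.toAlgebra
  letI aFK₂ : Algebra (S.residueField (f.base x)) (X'.residueField x₂) :=
    (f.residueFieldMap x ≫ c₂).hom.toAlgebra
  haveI : IsScalarTower (S.residueField (f.base x)) (X.residueField x) (X'.residueField x₁) :=
    .of_algebraMap_eq fun _ => rfl
  haveI : IsScalarTower (S.residueField (f.base x)) (X.residueField x) (X'.residueField x₂) :=
    .of_algebraMap_eq fun _ => rfl
  haveI : IsScalarTower (S.residueField (f.base x)) (S'.residueField (f'.base x₁))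
      (X'.residueField x₁) :=
    .of_algebraMap_eq fun z => congrArg (fun φ => φ.hom z) hcomm₁
  haveI : IsScalarTower (S.residueField (f.base x)) (S'.residueField (f'.base x₂))
      (X'.residueField x₂) :=
    .of_algebraMap_eq fun z => congrArg (fun φ => φ.hom z) hcomm₂
  -- a transcendence basis
  have hx' : Algebra.trdeg (S.residueField (f.base x)) (X.residueField x) = r := hx
  obtain ⟨ι, t, ht⟩ := exists_isTranscendenceBasis' (S.residueField (f.base x)) (X.residueField x)
  have hcard : Cardinal.mk ι = r := ht.cardinalMk_eq_trdeg.trans hx'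
  haveI : Finite ι := Cardinal.mk_lt_aleph0_iff.mp (by rw [hcard]; exact Cardinal.natCast_lt_aleph0)
  have hB₁ := isTranscendenceBasis_of_isPullback hX x₁ x c₁ hc₁ t ht (by rw [hcard, hx₁])
  have hB₂ := isTranscendenceBasis_of_isPullback hX x₂ x c₂ hc₂ t ht (by rw [hcard, hx₂])
  obtain ⟨Ω, _, φ₁, φ₂, A, hcompat, hg1, hg2, hA⟩ := exists_free_compositum t ht hB₁.1 hB₂
  -- the field valued point
  let θ₁ : Spec (CommRingCat.of Ω) ⟶ X' :=
    Spec.map (CommRingCat.ofHom φ₁) ≫ X'.fromSpecResidueField x₁
  let θ₂ : Spec (CommRingCat.of Ω) ⟶ X' :=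
    Spec.map (CommRingCat.ofHom φ₂) ≫ X'.fromSpecResidueField x₂
  have hcc : c₁ ≫ CommRingCat.ofHom φ₁ = c₂ ≫ CommRingCat.ofHom φ₂ :=
    CommRingCat.hom_ext hcompat
  have hθ : θ₁ ≫ g' = θ₂ ≫ g' := by
    show (Spec.map (CommRingCat.ofHom φ₁) ≫ X'.fromSpecResidueField x₁) ≫ g' =
      (Spec.map (CommRingCat.ofHom φ₂) ≫ X'.fromSpecResidueField x₂) ≫ g'
    rw [Category.assoc, Category.assoc, ← hc₁, ← hc₂, ← Category.assoc, ← Category.assoc,
      ← Spec.map_comp, ← Spec.map_comp, hcc]
  obtain ⟨θ, hθp, hθq⟩ : ∃ θ : Spec (CommRingCat.of Ω) ⟶ X'', θ ≫ p' = θ₁ ∧ θ ≫ q' = θ₂ :=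
    ⟨hX''.lift θ₁ θ₂ hθ, hX''.lift_fst _ _ _, hX''.lift_snd _ _ _⟩
  refine ⟨θ.base (closedPoint Ω), ?_, ?_, ?_⟩
  · apply le_antisymm
    · -- upper bound
      have ub := resTrdeg_le_of_isPullback hXS (θ.base (closedPoint Ω))
      have hpt : (p' ≫ g').base (θ.base (closedPoint Ω)) = x := by
        have : (θ ≫ p').base (closedPoint Ω) = x₁ := by
          rw [hθp]; exact Scheme.fromSpecResidueField_apply x₁ _
        exact (congrArg g'.base this).trans h₁
      rw [hpt, hx] at ub
      exact ub
    · -- lower bound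
      have hu : ∀ i, φ₁ (algebraMap (X.residueField x) (X'.residueField x₁) (t i)) ∈
          Set.range (ev θ).hom := by
        intro i
        apply range_ev_comp_subset θ p'
        rw [range_ev_congr hθp, range_ev_fromSpecResidueField]
        exact ⟨_, rfl⟩
      have hAp : Set.range (ev ((θ ≫ f'') ≫ p)).hom ⊆ A := by
        obtain ⟨ψ, hψ⟩ : ∃ ψ : S'.residueField (f'.base x₁) ⟶ CommRingCat.of Ω,
            ψ = f'.residueFieldMap x₁ ≫ CommRingCat.ofHom φ₁ := ⟨_, rfl⟩
        have hψm : Spec.map ψ =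
            Spec.map (CommRingCat.ofHom φ₁) ≫ Spec.map (f'.residueFieldMap x₁) := by
          rw [hψ]; exact Spec.map_comp _ _
        have e1 : (θ ≫ f'') ≫ p = Spec.map ψ ≫ S'.fromSpecResidueField (f'.base x₁) := by
          rw [Category.assoc, ← hp.w, ← Category.assoc, hθp, hψm]
          show (Spec.map (CommRingCat.ofHom φ₁) ≫ X'.fromSpecResidueField x₁) ≫ f' = _
          rw [Category.assoc, Category.assoc,
            Scheme.Hom.SpecMap_residueFieldMap_fromSpecResidueField]
        rw [range_ev_congr e1, range_ev_fromSpecResidueField]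
        rintro _ ⟨z, rfl⟩
        rw [hψ]
        exact hg1 z
      have hAq : Set.range (ev ((θ ≫ f'') ≫ q)).hom ⊆ A := by
        obtain ⟨ψ, hψ⟩ : ∃ ψ : S'.residueField (f'.base x₂) ⟶ CommRingCat.of Ω,
            ψ = f'.residueFieldMap x₂ ≫ CommRingCat.ofHom φ₂ := ⟨_, rfl⟩
        have hψm : Spec.map ψ =
            Spec.map (CommRingCat.ofHom φ₂) ≫ Spec.map (f'.residueFieldMap x₂) := by
          rw [hψ]; exact Spec.map_comp _ _
        have e1 : (θ ≫ f'') ≫ q = Spec.map ψ ≫ S'.fromSpecResidueField (f'.base x₂) := by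
          rw [Category.assoc, ← hq.w, ← Category.assoc, hθq, hψm]
          show (Spec.map (CommRingCat.ofHom φ₂) ≫ X'.fromSpecResidueField x₂) ≫ f' = _
          rw [Category.assoc, Category.assoc,
            Scheme.Hom.SpecMap_residueFieldMap_fromSpecResidueField]
        rw [range_ev_congr e1, range_ev_fromSpecResidueField]
        rintro _ ⟨z, rfl⟩
        rw [hψ]
        exact hg2 z
      have hAf : Set.range (ev (θ ≫ f'')).hom ⊆ A :=
        range_ev_isPullback hS (θ ≫ f'') A hAp hAq
      have lb := le_resTrdeg_of_ev f'' θ A _ hu hAf hA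
      rw [hcard] at lb
      exact lb
  · have : (θ ≫ p').base (closedPoint Ω) = x₁ := by
      rw [hθp]; exact Scheme.fromSpecResidueField_apply x₁ _
    exact this
  · have : (θ ≫ q').base (closedPoint Ω) = x₂ := by
      rw [hθq]; exact Scheme.fromSpecResidueField_apply x₂ _
    exact this

end mainthm

end Groth.Agent.Lib.Helper6.FibProdTrdeg
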