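import Mathlib
import Groth.Prelude.Def_MoreMor

/-!
# Formally étale morphisms of schemes versus formally étale ring maps, part 1 (helper6)

* `isNilpotent_ker_SpecMap`: the ideal sheaf of `Spec S ⟶ Spec R` is nilpotent when the kernel of
  `R → S` has square zero.
* `formallyEtale_appLE`: a formally étale morphism (unique lifting against square-zero
  thickenings of affine schemes) is affine-locally formally étale.
-/

set_option autoImplicit false
universe u
open CategoryTheory AlgebraicGeometry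

namespace Groth.Agent.Lib.Helper6.FormalEtaleLocal

theorem isNilpotent_ker_SpecMap {R S : CommRingCat.{u}} (φ : R ⟶ S)
    (h : RingHom.ker φ.hom ^ 2 = ⊥) : IsNilpotent (Spec.map φ).ker := by
  refine ⟨2, ?_⟩
  apply Scheme.IdealSheafData.ext_of_isAffine
  rw [Scheme.IdealSheafData.ideal_pow, Scheme.IdealSheafData.zero_eq_bot,
    Scheme.IdealSheafData.ideal_bot]
  change ((Spec.map φ).ker.ideal ⟨⊤, isAffineOpen_top _⟩) ^ 2 = ⊥
  rw [Scheme.Hom.ker_apply]
  rw [eq_bot_iff, sq, Ideal.mul_le]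
  intro x hx y hy
  rw [Ideal.mem_bot]
  have hinj : Function.Injective (Scheme.ΓSpecIso R).hom.hom :=
    (ConcreteCategory.bijective_of_isIso (Scheme.ΓSpecIso R).hom).1
  apply hinj
  rw [map_mul, map_zero]
  have hker : ∀ w, w ∈ RingHom.ker ((Spec.map φ).app ⊤).hom →
      (Scheme.ΓSpecIso R).hom.hom w ∈ RingHom.ker φ.hom := by
    intro w hw
    rw [RingHom.mem_ker] at hw ⊢
    have hnat := congrArg (fun ψ => ψ.hom w) (Scheme.ΓSpecIso_naturality φ)
    have hnat' : (Scheme.ΓSpecIso S).hom.hom ((Spec.map φ).appTop.hom w) =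
        φ.hom ((Scheme.ΓSpecIso R).hom.hom w) := hnat
    rw [← hnat']
    have hw' : (Spec.map φ).appTop.hom w = 0 := hw
    rw [hw', map_zero]
  have h1 : (Scheme.ΓSpecIso R).hom.hom x * (Scheme.ΓSpecIso R).hom.hom y ∈
      RingHom.ker φ.hom ^ 2 := by
    rw [sq]
    exact Ideal.mul_mem_mul (hker x hx) (hker y hy)
  rw [h] at h1
  exact h1

theorem surjective_SpecMap_mk {A : Type u} [CommRing A] (I : Ideal A) (hI : I ^ 2 = ⊥) :
    Function.Surjective (Spec.map (CommRingCat.ofHom (Ideal.Quotient.mk I))).base := by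
  have hle : I ≤ nilradical A := by
    intro x hx
    refine ⟨2, ?_⟩
    have h2 : x ^ 2 ∈ I ^ 2 := Ideal.pow_mem_pow hx 2
    rw [hI] at h2
    simpa using h2
  exact (PrimeSpectrum.comap_quotientMk_bijective_of_le_nilradical hle).2

/-- (⇒): formally étale morphisms are affine-locally formally étale. -/
theorem formallyEtale_appLE {X Y : Scheme.{u}} (f : X ⟶ Y) (hf : MoreMor.IsFormallyEtaleHom f)
    (U : X.Opens) (V : Y.Opens) (hU : IsAffineOpen U) (hV : IsAffineOpen V)
    (hUV : U ≤ f ⁻¹ᵁ V) :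
    letI := (f.appLE V U hUV).hom.toAlgebra
    Algebra.FormallyEtale Γ(Y, V) Γ(X, U) := by
  letI := (f.appLE V U hUV).hom.toAlgebra
  rw [Algebra.FormallyEtale.iff_comp_bijective]
  intro C _ _ J hJ
  have halg : ∀ (D : Type u) [CommRing D] [Algebra Γ(Y, V) D] (g : Γ(X, U) →ₐ[Γ(Y, V)] D),
      f.appLE V U hUV ≫ CommRingCat.ofHom g.toRingHom =
        CommRingCat.ofHom (algebraMap Γ(Y, V) D) := by
    intro D _ _ g
    exact CommRingCat.hom_ext g.comp_algebraMap
  have hlf : ∀ (D : Type u) [CommRing D] [Algebra Γ(Y, V) D] (g : Γ(X, U) →ₐ[Γ(Y, V)] D),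
      (Spec.map (CommRingCat.ofHom g.toRingHom) ≫ hU.fromSpec) ≫ f =
        Spec.map (CommRingCat.ofHom (algebraMap Γ(Y, V) D)) ≫ hV.fromSpec := by
    intro D _ _ g
    rw [Category.assoc, ← hV.SpecMap_appLE_fromSpec f hU hUV, ← Spec.map_comp_assoc, halg]
  have hmk : ∀ (l : Γ(X, U) →ₐ[Γ(Y, V)] C),
      Spec.map (CommRingCat.ofHom (Ideal.Quotient.mk J)) ≫
        (Spec.map (CommRingCat.ofHom l.toRingHom) ≫ hU.fromSpec) =
      Spec.map (CommRingCat.ofHom ((Ideal.Quotient.mkₐ Γ(Y, V) J).comp l).toRingHom) ≫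
        hU.fromSpec := by
    intro l
    rw [← Spec.map_comp_assoc]
    rfl
  have hsq : ∀ (g : Γ(X, U) →ₐ[Γ(Y, V)] C ⧸ J),
      Spec.map (CommRingCat.ofHom (Ideal.Quotient.mk J)) ≫
        (Spec.map (CommRingCat.ofHom (algebraMap Γ(Y, V) C)) ≫ hV.fromSpec) =
      (Spec.map (CommRingCat.ofHom g.toRingHom) ≫ hU.fromSpec) ≫ f := by
    intro g
    rw [hlf (C ⧸ J) g, ← Spec.map_comp_assoc]
    rfl
  constructor
  · intro l₁ l₂ h12
    have h12' : (Ideal.Quotient.mkₐ Γ(Y, V) J).comp l₁ = (Ideal.Quotient.mkₐ Γ(Y, V) J).comp l₂ :=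
      h12
    obtain ⟨l, -, huniq⟩ := hf C J hJ _ _ (hsq ((Ideal.Quotient.mkₐ Γ(Y, V) J).comp l₁))
    have e1 := huniq _ ⟨hmk l₁, hlf C l₁⟩
    have e2 := huniq _ ⟨by rw [hmk l₂, h12'], hlf C l₂⟩
    have e3 := e1.trans e2.symm
    rw [cancel_mono] at e3
    have e4 := Spec.map_injective e3
    exact AlgHom.ext fun x => congrArg (fun ψ => ψ.hom x) e4
  · intro g
    obtain ⟨l, ⟨hl1, hl2⟩, -⟩ := hf C J hJ _ _ (hsq g)
    have hrange : Set.range l.base ⊆ Set.range hU.fromSpec.base := by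
      rintro _ ⟨y, rfl⟩
      obtain ⟨y', rfl⟩ := surjective_SpecMap_mk J hJ y
      have h1 := congrArg (fun ψ => ψ.base y') hl1
      have h2 : l.base ((Spec.map (CommRingCat.ofHom (Ideal.Quotient.mk J))).base y') =
          hU.fromSpec.base ((Spec.map (CommRingCat.ofHom g.toRingHom)).base y') := h1
      rw [h2]
      exact ⟨_, rfl⟩
    set l₀ := IsOpenImmersion.lift hU.fromSpec l hrange with hl₀
    have hl₀fac : l₀ ≫ hU.fromSpec = l := IsOpenImmersion.lift_fac _ _ _
    have hcomm : f.appLE V U hUV ≫ Spec.preimage l₀ =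
        CommRingCat.ofHom (algebraMap Γ(Y, V) C) := by
      apply Spec.map_injective
      rw [← cancel_mono hV.fromSpec, Spec.map_comp, Category.assoc,
        hV.SpecMap_appLE_fromSpec f hU hUV, Spec.map_preimage, ← Category.assoc, hl₀fac, hl2]
    let lam : Γ(X, U) →ₐ[Γ(Y, V)] C :=
      { (Spec.preimage l₀).hom with
        commutes' := fun r => congrArg (fun ψ => ψ.hom r) hcomm }
    refine ⟨lam, ?_⟩
    have hgoal : CommRingCat.ofHom ((Ideal.Quotient.mkₐ Γ(Y, V) J).comp lam).toRingHom =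
        CommRingCat.ofHom g.toRingHom := by
      apply Spec.map_injective
      rw [← cancel_mono hU.fromSpec, ← hmk lam]
      have e5 : Spec.map (CommRingCat.ofHom lam.toRingHom) = l₀ := Spec.map_preimage l₀
      rw [e5, hl₀fac, hl1]
    exact AlgHom.ext fun x => congrArg (fun ψ => ψ.hom x) hgoal

end Groth.Agent.Lib.Helper6.FormalEtaleLocal
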