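import Mathlib

/-!
# Gluing morphisms out of an open subscheme covered by charts (helper6)
-/

set_option autoImplicit false
universe v u
open CategoryTheory CategoryTheory.Limits AlgebraicGeometry

namespace Groth.Agent.Lib.Helper6

/-- A square which is a pullback after composing with a monomorphism is a pullback. -/
lemma isPullback_of_comp_mono {C : Type*} [Category C] {W V₁ V₂ U X : C} {a : W ⟶ V₁}
    {b : W ⟶ V₂} {c₁ : V₁ ⟶ U} {c₂ : V₂ ⟶ U} (m : U ⟶ X) [Mono m]
    (h : IsPullback a b (c₁ ≫ m) (c₂ ≫ m)) : IsPullback a b c₁ c₂ := by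
  have w : a ≫ c₁ = b ≫ c₂ := by
    rw [← cancel_mono m, Category.assoc, Category.assoc, h.w]
  refine IsPullback.of_isLimit' ⟨w⟩ (PullbackCone.IsLimit.mk w
    (fun s => h.lift s.fst s.snd (by rw [← Category.assoc, s.condition, Category.assoc]))
    (fun s => h.lift_fst _ _ _) (fun s => h.lift_snd _ _ _)
    (fun s m' h₁ h₂ => h.hom_ext (by rw [h₁, h.lift_fst]) (by rw [h₂, h.lift_snd])))

/-- Morphisms out of an open subscheme `U ⊆ X` are uniquely determined by, and can be glued
from, compatible morphisms on a family of charts (open immersions into `X` with image in `U`,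
jointly covering `U`), the compatibility being tested on given pullback squares. -/
theorem existsUnique_hom_of_charts {X Y : Scheme.{u}} (U : X.Opens) {J : Type v}
    (V : J → Scheme.{u}) (j : ∀ i, V i ⟶ X) [∀ i, IsOpenImmersion (j i)]
    (hjU : ∀ i, Set.range (j i).base ⊆ Set.range U.ι.base)
    (hcov : ∀ x ∈ U, ∃ i, x ∈ Set.range (j i).base)
    (G : ∀ i, V i ⟶ Y)
    (hG : ∀ i k, ∃ (W : Scheme.{u}) (a : W ⟶ V i) (b : W ⟶ V k),
      IsPullback a b (j i) (j k) ∧ a ≫ G i = b ≫ G k) :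
    ∃! π : (U : Scheme.{u}) ⟶ Y, ∀ i, IsOpenImmersion.lift U.ι (j i) (hjU i) ≫ π = G i := by
  let c : ∀ i, V i ⟶ (U : Scheme.{u}) := fun i => IsOpenImmersion.lift U.ι (j i) (hjU i)
  have hc : ∀ i, c i ≫ U.ι = j i := fun i => IsOpenImmersion.lift_fac _ _ _
  have hoi : ∀ i, IsOpenImmersion (c i) := fun i => by
    have : IsOpenImmersion (c i ≫ U.ι) := by rw [hc]; infer_instance
    exact IsOpenImmersion.of_comp (c i) U.ι
  let 𝒰 : (U : Scheme.{u}).OpenCover := Scheme.Cover.mkOfCovers J V c (fun x => by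
    obtain ⟨i, y, hy⟩ := hcov x.1 x.2
    refine ⟨i, y, ?_⟩
    apply U.ι.isOpenEmbedding.injective
    rw [← Scheme.Hom.comp_apply, hc]
    exact hy) hoi
  have hcompat : ∀ i k : J, pullback.fst (c i) (c k) ≫ G i = pullback.snd (c i) (c k) ≫ G k := by
    intro i k
    obtain ⟨W, a, b, sq, hab⟩ := hG i k
    have sq' : IsPullback a b (c i) (c k) := by
      apply isPullback_of_comp_mono U.ι
      rw [hc, hc]
      exact sq
    rw [← cancel_epi sq'.isoPullback.hom, sq'.isoPullback_hom_fst_assoc,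
      sq'.isoPullback_hom_snd_assoc, hab]
  refine ⟨𝒰.glueMorphisms G hcompat, fun i => 𝒰.ι_glueMorphisms G hcompat i, ?_⟩
  intro π' hπ'
  refine 𝒰.hom_ext _ _ fun i => ?_
  rw [𝒰.ι_glueMorphisms G hcompat i]
  exact hπ' i

end Groth.Agent.Lib.Helper6
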