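import Mathlib
import Groth.Prelude.Def_PCone
import Groth.Agent.Lib.Helper6.Glue

/-!
# The morphism `G(φ) ⟶ Proj 𝒜` induced by a graded ring homomorphism (helper6)
-/

set_option autoImplicit false
universe u
open CategoryTheory CategoryTheory.Limits AlgebraicGeometry HomogeneousLocalization

namespace Groth.Agent.Lib.Helper6

variable {R A B : Type u} [CommRing R] [CommRing A] [Algebra R A] {𝒜 : ℕ → Submodule R A}
  [GradedAlgebra 𝒜] [CommRing B] [Algebra R B] {ℬ : ℕ → Submodule R B} [GradedAlgebra ℬ]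
  (φ : 𝒜 →+*ᵍ ℬ)

/-- Compatibility of `Away.map` with the transition maps `awayMap`. -/
lemma awayMap_comp_map {d e : ℕ} {f g : A} (hf : f ∈ 𝒜 d) (hg : g ∈ 𝒜 e) {x : A}
    (hx : x = f * g) (hx' : φ x = φ f * φ g) :
    (awayMap ℬ (Graded.map_mem φ hg) hx').comp (Away.map φ f) =
      (Away.map φ x).comp (awayMap 𝒜 hg hx) := by
  subst hx
  ext z : 1
  obtain ⟨n, a, ha, rfl⟩ := Away.mk_surjective 𝒜 hf z
  simp only [RingHom.comp_apply, Away.map_mk, awayMap_mk]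
  ext
  simp [Away.val_mk, map_mul, map_pow]

/-- `Proj.awayι` does not depend on the degree data. -/
lemma awayι_congr {m m' : ℕ} {f : A} (h : f ∈ 𝒜 m) (hm : 0 < m) (h' : f ∈ 𝒜 m') (hm' : 0 < m') :
    Proj.awayι 𝒜 f h hm = Proj.awayι 𝒜 f h' hm' := rfl

/-- The index type of the standard charts. -/
abbrev ChartIdx (𝒜 : ℕ → Submodule R A) : Type u := Σ' (d : ℕ) (f : A), 0 < d ∧ f ∈ 𝒜 d

theorem pcone_existsUnique :
    ∃! p : (PCone.dom φ : Scheme.{u}) ⟶ Proj 𝒜,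
      ∀ (d : ℕ) (f : A) (hd : 0 < d) (hf : f ∈ 𝒜 d),
        PCone.chart φ hf hd ≫ p =
          Spec.map (CommRingCat.ofHom (Away.map φ f)) ≫ Proj.awayι 𝒜 f hf hd := by
  have hcov : ∀ x ∈ PCone.dom φ, ∃ i : ChartIdx 𝒜,
      x ∈ Set.range (Proj.awayι ℬ (φ i.2.1) (φ.2 i.2.2.2) i.2.2.1).base := by
    intro x hx
    obtain ⟨⟨f, d, hd, hf⟩, hxf⟩ := TopologicalSpace.Opens.mem_iSup.1 hx
    refine ⟨⟨d, f, hd, hf⟩, ?_⟩
    have : x ∈ (Proj.awayι ℬ (φ f) (φ.2 hf) hd).opensRange := by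
      rw [Proj.opensRange_awayι]; exact hxf
    exact this
  have key := existsUnique_hom_of_charts (X := Proj ℬ) (Y := Proj 𝒜) (PCone.dom φ)
    (J := ChartIdx 𝒜)
    (fun i => Spec (.of (Away ℬ (φ i.2.1))))
    (fun i => Proj.awayι ℬ (φ i.2.1) (φ.2 i.2.2.2) i.2.2.1)
    (fun i => PCone.range_awayι_subset φ i.2.2.2 i.2.2.1) hcov
    (fun i => Spec.map (CommRingCat.ofHom (Away.map φ i.2.1)) ≫
      Proj.awayι 𝒜 i.2.1 i.2.2.2 i.2.2.1)
    (by
      rintro ⟨d, f, hd, hf⟩ ⟨e, g, he, hg⟩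
      refine ⟨Spec (.of (Away ℬ (φ (f * g)))),
        Spec.map (CommRingCat.ofHom (awayMap ℬ (φ.2 hg) (map_mul φ f g))),
        Spec.map (CommRingCat.ofHom (awayMap ℬ (φ.2 hf)
          ((map_mul φ f g).trans (mul_comm _ _)))), ?_, ?_⟩
      · exact IsPullback.of_iso_pullback
          ⟨by rw [Proj.SpecMap_awayMap_awayι, Proj.SpecMap_awayMap_awayι]; exact awayι_congr ..⟩
          (Proj.pullbackAwayιIso ℬ (φ.2 hf) hd (φ.2 hg) he (map_mul φ f g)).symm
          (Proj.pullbackAwayιIso_inv_fst ℬ (φ.2 hf) hd (φ.2 hg) he (map_mul φ f g))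
          (Proj.pullbackAwayιIso_inv_snd ℬ (φ.2 hf) hd (φ.2 hg) he (map_mul φ f g))
      · dsimp only
        rw [← Spec.map_comp_assoc, ← CommRingCat.ofHom_comp,
          awayMap_comp_map φ hf hg rfl (map_mul φ f g), CommRingCat.ofHom_comp,
          Spec.map_comp_assoc, Proj.SpecMap_awayMap_awayι,
          ← Spec.map_comp_assoc, ← CommRingCat.ofHom_comp,
          awayMap_comp_map φ hg hf (mul_comm f g) ((map_mul φ f g).trans (mul_comm _ _)),
          CommRingCat.ofHom_comp, Spec.map_comp_assoc, Proj.SpecMap_awayMap_awayι]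
        congr 1)
  obtain ⟨p, hp, huniq⟩ := key
  exact ⟨p, fun d f hd hf => hp ⟨d, f, hd, hf⟩,
    fun p' hp' => huniq p' fun i => hp' i.1 i.2.1 i.2.2.1 i.2.2.2⟩

end Groth.Agent.Lib.Helper6
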