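import Mathlib
import Groth.Prelude.Def_Cone
import Groth.Agent.Lib.Helper6.Glue
import Groth.Agent.Lib.Helper6.PConeGlue

/-!
# The canonical retraction of the pointed affine cone onto `Proj` (helper6)
-/

set_option autoImplicit false
universe u
open CategoryTheory CategoryTheory.Limits AlgebraicGeometry HomogeneousLocalization

namespace Groth.Agent.Lib.Helper6

variable {R A : Type u} [CommRing R] [CommRing A] [Algebra R A] {𝒜 : ℕ → Submodule R A}
  [GradedAlgebra 𝒜]

/-- The open immersion `Spec A_f ⟶ Spec A`. -/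
noncomputable abbrev specAwayι (f : A) :
    Spec (CommRingCat.of (Localization.Away f)) ⟶ Spec (CommRingCat.of A) :=
  Spec.map (CommRingCat.ofHom (algebraMap A (Localization.Away f)))

lemma range_specAwayι (f : A) :
    Set.range (specAwayι f).base = (PrimeSpectrum.basicOpen f : Set (PrimeSpectrum A)) :=
  PrimeSpectrum.localization_away_comap_range (Localization.Away f) f

/-- The transition map `Spec A_{fg} ⟶ Spec A_f`. -/
noncomputable abbrev specAwayRight (f g : A) :
    Spec (CommRingCat.of (Localization.Away (f * g))) ⟶ Spec (CommRingCat.of (Localization.Away f)) :=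
  Spec.map (CommRingCat.ofHom
    (IsLocalization.Away.awayToAwayRight (S := Localization.Away f)
      (P := Localization.Away (f * g)) f g))

/-- The transition map `Spec A_{fg} ⟶ Spec A_g`. -/
noncomputable abbrev specAwayLeft (f g : A) :
    Spec (CommRingCat.of (Localization.Away (f * g))) ⟶ Spec (CommRingCat.of (Localization.Away g)) :=
  Spec.map (CommRingCat.ofHom
    (IsLocalization.Away.awayToAwayLeft (S := Localization.Away g)
      (P := Localization.Away (f * g)) g f))

lemma specAwayRight_ι (f g : A) : specAwayRight f g ≫ specAwayι f = specAwayι (f * g) := by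
  rw [specAwayRight, specAwayι, ← Spec.map_comp, ← CommRingCat.ofHom_comp]
  congr 2
  ext a
  exact IsLocalization.Away.awayToAwayRight_eq f g a

lemma specAwayLeft_ι (f g : A) : specAwayLeft f g ≫ specAwayι g = specAwayι (f * g) := by
  rw [specAwayLeft, specAwayι, ← Spec.map_comp, ← CommRingCat.ofHom_comp]
  congr 2
  ext a
  exact IsLocalization.Away.awayToAwayLeft_eq g f a

lemma isPullback_specAway (f g : A) :
    IsPullback (specAwayRight f g) (specAwayLeft f g) (specAwayι f) (specAwayι g) := by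
  have hoi : IsOpenImmersion (specAwayRight f g) := by
    have : IsOpenImmersion (specAwayRight f g ≫ specAwayι f) := by
      rw [specAwayRight_ι]; infer_instance
    exact IsOpenImmersion.of_comp _ (specAwayι f)
  refine (IsOpenImmersion.isPullback (specAwayLeft f g) (specAwayRight f g) (specAwayι g)
    (specAwayι f) (by rw [specAwayRight_ι, specAwayLeft_ι]) ?_).flip
  ext x
  change (specAwayι f).base x ∈ Set.range (specAwayι g).base ↔
    x ∈ Set.range (specAwayRight f g).base
  constructor
  · intro hx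
    have h1 : (specAwayι f).base x ∈ Set.range (specAwayι (f * g)).base := by
      rw [range_specAwayι] at hx ⊢
      have h2 : (specAwayι f).base x ∈ (PrimeSpectrum.basicOpen f : Set (PrimeSpectrum A)) := by
        rw [← range_specAwayι]; exact ⟨x, rfl⟩
      rw [PrimeSpectrum.basicOpen_mul]
      exact ⟨h2, hx⟩
    obtain ⟨w, hw⟩ := h1
    refine ⟨w, ?_⟩
    apply (specAwayι f).isOpenEmbedding.injective
    rw [← hw]
    change (specAwayRight f g ≫ specAwayι f).base w = _
    rw [specAwayRight_ι]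
  · rintro ⟨w, rfl⟩
    refine ⟨(specAwayLeft f g).base w, ?_⟩
    change (specAwayLeft f g ≫ specAwayι g).base w = (specAwayRight f g ≫ specAwayι f).base w
    rw [specAwayRight_ι, specAwayLeft_ι]

/-- The map `Spec A_f ⟶ Spec A_(f) ⟶ Proj`. -/
noncomputable abbrev coneChartMap {d : ℕ} {f : A} (hf : f ∈ 𝒜 d) (hd : 0 < d) :
    Spec (CommRingCat.of (Localization.Away f)) ⟶ Proj 𝒜 :=
  Spec.map (CommRingCat.ofHom (algebraMap (Away 𝒜 f) (Localization.Away f))) ≫
    Proj.awayι 𝒜 f hf hd

lemma awayToAwayRight_comp_algebraMap {e : ℕ} (f : A) {g : A} (hg : g ∈ 𝒜 e) :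
    (IsLocalization.Away.awayToAwayRight (S := Localization.Away f)
      (P := Localization.Away (f * g)) f g).comp
        (algebraMap (Away 𝒜 f) (Localization.Away f)) =
    (algebraMap (Away 𝒜 (f * g)) (Localization.Away (f * g))).comp (awayMap 𝒜 hg rfl) := by
  ext z
  simp only [RingHom.comp_apply, HomogeneousLocalization.algebraMap_apply, val_awayMap]
  rfl

lemma awayToAwayLeft_comp_algebraMap {d : ℕ} {f : A} (hf : f ∈ 𝒜 d) (g : A) :
    (IsLocalization.Away.awayToAwayLeft (S := Localization.Away g)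
      (P := Localization.Away (f * g)) g f).comp
        (algebraMap (Away 𝒜 g) (Localization.Away g)) =
    (algebraMap (Away 𝒜 (f * g)) (Localization.Away (f * g))).comp
      (awayMap 𝒜 hf (mul_comm f g)) := by
  ext z
  simp only [RingHom.comp_apply, HomogeneousLocalization.algebraMap_apply, val_awayMap]
  rfl

lemma specAwayRight_coneChartMap {d e : ℕ} {f g : A} (hf : f ∈ 𝒜 d) (hd : 0 < d)
    (hg : g ∈ 𝒜 e) :
    specAwayRight f g ≫ coneChartMap hf hd =
      coneChartMap (SetLike.mul_mem_graded hf hg) (Nat.add_pos_left hd e) := by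
  rw [coneChartMap, specAwayRight, ← Spec.map_comp_assoc, ← CommRingCat.ofHom_comp,
    awayToAwayRight_comp_algebraMap f hg, CommRingCat.ofHom_comp, Spec.map_comp_assoc,
    Proj.SpecMap_awayMap_awayι]

lemma specAwayLeft_coneChartMap {d e : ℕ} {f g : A} (hf : f ∈ 𝒜 d) (hd : 0 < d)
    (hg : g ∈ 𝒜 e) (he : 0 < e) :
    specAwayLeft f g ≫ coneChartMap hg he =
      coneChartMap (SetLike.mul_mem_graded hf hg) (Nat.add_pos_left hd e) := by
  rw [coneChartMap, specAwayLeft, ← Spec.map_comp_assoc, ← CommRingCat.ofHom_comp,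
    awayToAwayLeft_comp_algebraMap hf g, CommRingCat.ofHom_comp, Spec.map_comp_assoc,
    Proj.SpecMap_awayMap_awayι]
  congr 1

theorem cone_existsUnique (𝒜 : ℕ → Submodule R A) [GradedAlgebra 𝒜] :
    ∃! π : (Cone.pointed 𝒜 : Scheme.{u}) ⟶ Proj 𝒜,
      ∀ (d : ℕ) (f : A) (hd : 0 < d) (hf : f ∈ 𝒜 d),
        Cone.chart hf hd ≫ π =
          Spec.map (CommRingCat.ofHom (algebraMap (Away 𝒜 f) (Localization.Away f))) ≫
            Proj.awayι 𝒜 f hf hd := by
  have hcov : ∀ x ∈ Cone.pointed 𝒜, ∃ i : ChartIdx 𝒜,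
      x ∈ Set.range (specAwayι i.2.1).base := by
    intro x hx
    have hx' : ¬ ((HomogeneousIdeal.irrelevant 𝒜).toIdeal : Set A) ⊆ x.asIdeal := fun h =>
      hx ((PrimeSpectrum.mem_zeroLocus _ _).2 h)
    have hx'' : ¬ (HomogeneousIdeal.irrelevant 𝒜).toIdeal ≤ x.asIdeal := hx'
    rw [HomogeneousIdeal.toIdeal_irrelevant_le] at hx''
    push Not at hx''
    obtain ⟨i, hi, hle⟩ := hx''
    obtain ⟨f, hf, hfx⟩ := SetLike.not_le_iff_exists.1 hle
    refine ⟨⟨i, f, hi, hf⟩, ?_⟩
    rw [range_specAwayι]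
    exact hfx
  have key := existsUnique_hom_of_charts (X := Spec (CommRingCat.of A)) (Y := Proj 𝒜)
    (Cone.pointed 𝒜) (J := ChartIdx 𝒜)
    (fun i => Spec (.of (Localization.Away i.2.1)))
    (fun i => specAwayι i.2.1)
    (fun i => Cone.range_subset i.2.2.2 i.2.2.1) hcov
    (fun i => coneChartMap i.2.2.2 i.2.2.1)
    (by
      rintro ⟨d, f, hd, hf⟩ ⟨e, g, he, hg⟩
      refine ⟨_, specAwayRight f g, specAwayLeft f g, isPullback_specAway f g, ?_⟩
      dsimp only
      rw [specAwayRight_coneChartMap hf hd hg, specAwayLeft_coneChartMap hf hd hg he])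
  obtain ⟨p, hp, huniq⟩ := key
  exact ⟨p, fun d f hd hf => hp ⟨d, f, hd, hf⟩,
    fun p' hp' => huniq p' fun i => hp' i.1 i.2.1 i.2.2.1 i.2.2.2⟩

end Groth.Agent.Lib.Helper6
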