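import Mathlib
import Groth.Prelude.Def_MoreMor
import Groth.Agent.Lib.Helper6.ConeGlue
import Groth.Agent.Lib.Helper6.FormalEtaleLocal1

/-!
# Formally étale morphisms of schemes versus formally étale ring maps, part 2 (helper6)

The converse direction: an affine-locally formally étale morphism has the unique lifting property
against square-zero thickenings of affine schemes.  Local lifts exist on a cover of `Spec A` by
basic opens (formal smoothness of the ring maps), they are unique (formal unramifiedness), hence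
they glue.
-/

set_option autoImplicit false
universe u
open CategoryTheory CategoryTheory.Limits AlgebraicGeometry

namespace Groth.Agent.Lib.Helper6.FormalEtaleLocal

/-- Local lifting: if `Γ(Y, V) → Γ(X, U)` is formally smooth, any square-zero thickening problem
landing in `U` over `V` has a solution. -/
theorem exists_lift_of_affine {X Y : Scheme.{u}} (f : X ⟶ Y) {U : X.Opens} {V : Y.Opens}
    (hU : IsAffineOpen U) (hV : IsAffineOpen V) (hUV : U ≤ f ⁻¹ᵁ V)
    (hfs : letI := (f.appLE V U hUV).hom.toAlgebra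
      Algebra.FormallySmooth Γ(Y, V) Γ(X, U))
    {B B' : CommRingCat.{u}} (φ : B ⟶ B') (hφ : Function.Surjective φ.hom)
    (hker : RingHom.ker φ.hom ^ 2 = ⊥)
    (a : Spec B' ⟶ X) (b : Spec B ⟶ Y) (hab : Spec.map φ ≫ b = a ≫ f)
    (ha : Set.range a.base ⊆ (U : Set X)) (hb : Set.range b.base ⊆ (V : Set Y)) :
    ∃ l : Spec B ⟶ X, Spec.map φ ≫ l = a ∧ l ≫ f = b := by
  have haU : Set.range a.base ⊆ Set.range hU.fromSpec.base := by
    rw [hU.range_fromSpec]; exact ha
  have hbV : Set.range b.base ⊆ Set.range hV.fromSpec.base := by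
    rw [hV.range_fromSpec]; exact hb
  have ha₀ : IsOpenImmersion.lift hU.fromSpec a haU ≫ hU.fromSpec = a :=
    IsOpenImmersion.lift_fac _ _ _
  have hb₀ : IsOpenImmersion.lift hV.fromSpec b hbV ≫ hV.fromSpec = b :=
    IsOpenImmersion.lift_fac _ _ _
  set a₀ := IsOpenImmersion.lift hU.fromSpec a haU with ha₀def
  set b₀ := IsOpenImmersion.lift hV.fromSpec b hbV with hb₀def
  have hα : Spec.map (Spec.preimage a₀) = a₀ := Spec.map_preimage _
  have hβ : Spec.map (Spec.preimage b₀) = b₀ := Spec.map_preimage _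
  set α : Γ(X, U) ⟶ B' := Spec.preimage a₀ with hαdef
  set β : Γ(Y, V) ⟶ B := Spec.preimage b₀ with hβdef
  have hsq : β ≫ φ = f.appLE V U hUV ≫ α := by
    apply Spec.map_injective
    rw [← cancel_mono hV.fromSpec, Spec.map_comp, Spec.map_comp, Category.assoc, Category.assoc,
      hβ, hb₀, hab, hV.SpecMap_appLE_fromSpec f hU hUV, hα, ← Category.assoc, ha₀]
  letI := (f.appLE V U hUV).hom.toAlgebra
  letI : Algebra Γ(Y, V) B := β.hom.toAlgebra
  letI : Algebra Γ(Y, V) B' := (β ≫ φ).hom.toAlgebra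
  haveI : Algebra.FormallySmooth Γ(Y, V) Γ(X, U) := hfs
  let φa : B →ₐ[Γ(Y, V)] B' := { φ.hom with commutes' := fun r => rfl }
  let αa : Γ(X, U) →ₐ[Γ(Y, V)] B' :=
    { α.hom with commutes' := fun r => (congrArg (fun ψ => ψ.hom r) hsq).symm }
  have hφa : Function.Surjective φa := hφ
  have hnil : IsNilpotent (RingHom.ker (φa : B →+* B')) := ⟨2, hker⟩
  have hlam := Algebra.FormallySmooth.comp_liftOfSurjective αa φa hφa hnil
  set lam := Algebra.FormallySmooth.liftOfSurjective αa φa hφa hnil with hlamdef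
  have h1 : CommRingCat.ofHom lam.toRingHom ≫ φ = α :=
    CommRingCat.hom_ext (RingHom.ext fun x => congrArg (fun ψ => ψ x) hlam)
  have h2 : f.appLE V U hUV ≫ CommRingCat.ofHom lam.toRingHom = β :=
    CommRingCat.hom_ext (RingHom.ext fun x => lam.commutes x)
  refine ⟨Spec.map (CommRingCat.ofHom lam.toRingHom) ≫ hU.fromSpec, ?_, ?_⟩
  · rw [← Category.assoc, ← Spec.map_comp, h1, hα, ha₀]
  · rw [Category.assoc, ← hV.SpecMap_appLE_fromSpec f hU hUV, ← Category.assoc, ← Spec.map_comp,
      h2, hβ, hb₀]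

/-- An affine-locally formally étale morphism is formally unramified. -/
theorem formallyUnramified_of_affineLocally {X Y : Scheme.{u}} (f : X ⟶ Y)
    (H : ∀ (U : X.Opens) (V : Y.Opens) (hU : IsAffineOpen U) (hV : IsAffineOpen V)
      (hUV : U ≤ f ⁻¹ᵁ V),
      letI := (f.appLE V U hUV).hom.toAlgebra
      Algebra.FormallyEtale Γ(Y, V) Γ(X, U)) :
    AlgebraicGeometry.FormallyUnramified f := by
  refine ⟨fun {V} hV {U} hU e => ?_⟩
  have h := H U V hU hV e
  letI := (f.appLE V U e).hom.toAlgebra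
  haveI : Algebra.FormallyEtale Γ(Y, V) Γ(X, U) := h
  exact (inferInstance : Algebra.FormallyUnramified Γ(Y, V) Γ(X, U))

section Thick

variable {A : Type u} [CommRing A] (I : Ideal A)

/-- The localised thickening `A_s → (A/I)_s`. -/
noncomputable abbrev gmap (s : A) :
    Localization.Away s →+* Localization.Away (Ideal.Quotient.mk I s) :=
  Localization.awayMap (Ideal.Quotient.mk I) s

lemma gmap_surjective (s : A) : Function.Surjective (gmap I s) := by
  rw [Localization.awayMap_surjective_iff]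
  intro a
  obtain ⟨b, rfl⟩ := Ideal.Quotient.mk_surjective a
  exact ⟨b, 0, by simp⟩

lemma ker_gmap_sq (hI : I ^ 2 = ⊥) (s : A) : RingHom.ker (gmap I s) ^ 2 = ⊥ := by
  have h := IsLocalization.ker_map (S := Localization.Away s)
    (Localization.Away (Ideal.Quotient.mk I s)) (Ideal.Quotient.mk I)
    (Submonoid.map_powers (Ideal.Quotient.mk I) s)
  have h' : RingHom.ker (gmap I s) = I.map (algebraMap A (Localization.Away s)) :=
    h.trans (congrArg (Ideal.map (algebraMap A (Localization.Away s))) Ideal.mk_ker)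
  rw [h', ← Ideal.map_pow, hI, Ideal.map_bot]

lemma specAwayι_comp_i (s : A) :
    specAwayι (Ideal.Quotient.mk I s) ≫ Spec.map (CommRingCat.ofHom (Ideal.Quotient.mk I)) =
      Spec.map (CommRingCat.ofHom (gmap I s)) ≫ specAwayι s := by
  have key : (gmap I s).comp (algebraMap A (Localization.Away s)) =
      (algebraMap (A ⧸ I) (Localization.Away (Ideal.Quotient.mk I s))).comp
        (Ideal.Quotient.mk I) := IsLocalization.map_comp _
  change Spec.map _ ≫ Spec.map _ = Spec.map _ ≫ Spec.map _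
  rw [← Spec.map_comp, ← Spec.map_comp]
  congr 1
  apply CommRingCat.hom_ext
  exact key.symm

lemma comap_mem_basicOpen (s : A) (x : PrimeSpectrum (A ⧸ I)) :
    PrimeSpectrum.comap (Ideal.Quotient.mk I) x ∈ PrimeSpectrum.basicOpen s ↔
      x ∈ PrimeSpectrum.basicOpen (Ideal.Quotient.mk I s) := Iff.rfl

lemma exists_transition (s u : A)
    (c : Spec (CommRingCat.of (Localization.Away u)) ⟶ Spec (CommRingCat.of (Localization.Away s)))
    (hc : c ≫ specAwayι s = specAwayι u) :
    ∃ r : Spec (CommRingCat.of (Localization.Away (Ideal.Quotient.mk I u))) ⟶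
        Spec (CommRingCat.of (Localization.Away (Ideal.Quotient.mk I s))),
      r ≫ specAwayι (Ideal.Quotient.mk I s) = specAwayι (Ideal.Quotient.mk I u) ∧
      Spec.map (CommRingCat.ofHom (gmap I u)) ≫ c =
        r ≫ Spec.map (CommRingCat.ofHom (gmap I s)) := by
  have hrange : Set.range (specAwayι (Ideal.Quotient.mk I u)).base ⊆
      Set.range (specAwayι (Ideal.Quotient.mk I s)).base := by
    rintro _ ⟨w, rfl⟩
    rw [range_specAwayι]
    have h0 : specAwayι (Ideal.Quotient.mk I u) ≫
        Spec.map (CommRingCat.ofHom (Ideal.Quotient.mk I)) =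
        (Spec.map (CommRingCat.ofHom (gmap I u)) ≫ c) ≫ specAwayι s := by
      rw [Category.assoc, hc, specAwayι_comp_i]
    have h1 := congrArg (fun ψ => ψ.base w) h0
    have h2 : (specAwayι s).base ((Spec.map (CommRingCat.ofHom (gmap I u)) ≫ c).base w) ∈
        (PrimeSpectrum.basicOpen s : Set (PrimeSpectrum A)) := by
      rw [← range_specAwayι]; exact ⟨_, rfl⟩
    have h3 : (Spec.map (CommRingCat.ofHom (Ideal.Quotient.mk I))).base
        ((specAwayι (Ideal.Quotient.mk I u)).base w) =
        (specAwayι s).base ((Spec.map (CommRingCat.ofHom (gmap I u)) ≫ c).base w) := h1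
    rw [← h3] at h2
    exact (comap_mem_basicOpen I s _).1 h2
  have hl : IsOpenImmersion.lift (specAwayι (Ideal.Quotient.mk I s))
      (specAwayι (Ideal.Quotient.mk I u)) hrange ≫ specAwayι (Ideal.Quotient.mk I s) =
      specAwayι (Ideal.Quotient.mk I u) := IsOpenImmersion.lift_fac _ _ _
  set r := IsOpenImmersion.lift (specAwayι (Ideal.Quotient.mk I s))
      (specAwayι (Ideal.Quotient.mk I u)) hrange with hrdef
  refine ⟨r, hl, ?_⟩
  rw [← cancel_mono (specAwayι s)]
  calc (Spec.map (CommRingCat.ofHom (gmap I u)) ≫ c) ≫ specAwayι s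
      = Spec.map (CommRingCat.ofHom (gmap I u)) ≫ specAwayι u := by rw [Category.assoc, hc]
    _ = specAwayι (Ideal.Quotient.mk I u) ≫
          Spec.map (CommRingCat.ofHom (Ideal.Quotient.mk I)) := (specAwayι_comp_i I u).symm
    _ = (r ≫ specAwayι (Ideal.Quotient.mk I s)) ≫
          Spec.map (CommRingCat.ofHom (Ideal.Quotient.mk I)) := by rw [hl]
    _ = r ≫ (Spec.map (CommRingCat.ofHom (gmap I s)) ≫ specAwayι s) := by
          rw [Category.assoc, specAwayι_comp_i]
    _ = (r ≫ Spec.map (CommRingCat.ofHom (gmap I s))) ≫ specAwayι s :=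
          (Category.assoc _ _ _).symm

end Thick

/-- (⇐), existence: an affine-locally formally étale morphism lifts against square-zero
thickenings of affine schemes. -/
theorem exists_lift {X Y : Scheme.{u}} (f : X ⟶ Y)
    (H : ∀ (U : X.Opens) (V : Y.Opens) (hU : IsAffineOpen U) (hV : IsAffineOpen V)
      (hUV : U ≤ f ⁻¹ᵁ V),
      letI := (f.appLE V U hUV).hom.toAlgebra
      Algebra.FormallyEtale Γ(Y, V) Γ(X, U))
    (A : Type u) [CommRing A] (I : Ideal A) (hI : I ^ 2 = ⊥)
    (a : Spec (CommRingCat.of (A ⧸ I)) ⟶ X) (b : Spec (CommRingCat.of A) ⟶ Y)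
    (hab : Spec.map (CommRingCat.ofHom (Ideal.Quotient.mk I)) ≫ b = a ≫ f) :
    ∃ l : Spec (CommRingCat.of A) ⟶ X,
      Spec.map (CommRingCat.ofHom (Ideal.Quotient.mk I)) ≫ l = a ∧ l ≫ f = b := by
  have hunr : AlgebraicGeometry.FormallyUnramified f := formallyUnramified_of_affineLocally f H
  -- the cover data
  have hC : ∀ p : Spec (CommRingCat.of A), ∃ (s : A) (U : X.Opens) (V : Y.Opens),
      IsAffineOpen U ∧ IsAffineOpen V ∧ U ≤ f ⁻¹ᵁ V ∧
      p ∈ (PrimeSpectrum.basicOpen s : Set (PrimeSpectrum A)) ∧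
      (∀ z : Spec (CommRingCat.of A),
        z ∈ (PrimeSpectrum.basicOpen s : Set (PrimeSpectrum A)) → b.base z ∈ V) ∧
      (∀ z : Spec (CommRingCat.of (A ⧸ I)),
        z ∈ (PrimeSpectrum.basicOpen (Ideal.Quotient.mk I s) : Set (PrimeSpectrum (A ⧸ I))) →
          a.base z ∈ U) := by
    intro p
    obtain ⟨q', rfl⟩ := surjective_SpecMap_mk I hI p
    obtain ⟨_, ⟨V, hV, rfl⟩, hyV, -⟩ := Y.isBasis_affineOpens.exists_subset_of_mem_open
      (Set.mem_univ (f.base (a.base q'))) isOpen_univ
    obtain ⟨_, ⟨U, hU, rfl⟩, hxU, hUV : U ≤ f ⁻¹ᵁ V⟩ :=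
      X.isBasis_affineOpens.exists_subset_of_mem_open hyV (f ⁻¹ᵁ V).isOpen
    have hind : Topology.IsInducing (PrimeSpectrum.comap (Ideal.Quotient.mk I)) :=
      PrimeSpectrum.comap_isInducing_of_surjective _ _ Ideal.Quotient.mk_surjective
    have hopenU : IsOpen {z : PrimeSpectrum (A ⧸ I) | a.base z ∈ U} := (a ⁻¹ᵁ U).isOpen
    obtain ⟨t, ht, hteq⟩ := hind.isOpen_iff.1 hopenU
    have hopenV : IsOpen {z : PrimeSpectrum A | b.base z ∈ V} := (b ⁻¹ᵁ V).isOpen
    have hq't : PrimeSpectrum.comap (Ideal.Quotient.mk I) q' ∈ t := by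
      have : q' ∈ PrimeSpectrum.comap (Ideal.Quotient.mk I) ⁻¹' t := by
        rw [hteq]; exact hxU
      exact this
    have hq'V : PrimeSpectrum.comap (Ideal.Quotient.mk I) q' ∈
        {z : PrimeSpectrum A | b.base z ∈ V} := by
      have h1 := congrArg (fun ψ => ψ.base q') hab
      have h2 : b.base ((Spec.map (CommRingCat.ofHom (Ideal.Quotient.mk I))).base q') =
          f.base (a.base q') := h1
      change b.base ((Spec.map (CommRingCat.ofHom (Ideal.Quotient.mk I))).base q') ∈ V
      rw [h2]; exact hyV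
    obtain ⟨_, ⟨_, ⟨s, rfl⟩, rfl⟩, hps, hsub⟩ :=
      PrimeSpectrum.isBasis_basic_opens.exists_subset_of_mem_open
      (show PrimeSpectrum.comap (Ideal.Quotient.mk I) q' ∈
        t ∩ {z : PrimeSpectrum A | b.base z ∈ V} from ⟨hq't, hq'V⟩) (ht.inter hopenV)
    refine ⟨s, U, V, hU, hV, hUV, hps, fun z hz => (hsub hz).2, fun z hz => ?_⟩
    have hz1 : PrimeSpectrum.comap (Ideal.Quotient.mk I) z ∈ t :=
      (hsub ((comap_mem_basicOpen I s z).2 hz)).1
    have hz2 : z ∈ PrimeSpectrum.comap (Ideal.Quotient.mk I) ⁻¹' t := hz1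
    rw [hteq] at hz2
    exact hz2
  choose s U V hU hV hUV hps hbV haU using hC
  have hnil : ∀ s : A, IsNilpotent (Spec.map (CommRingCat.ofHom (gmap I s))).ker := fun s =>
    isNilpotent_ker_SpecMap _ (ker_gmap_sq I hI s)
  have hci : ∀ s : A, IsClosedImmersion (Spec.map (CommRingCat.ofHom (gmap I s))) := fun s =>
    IsClosedImmersion.spec_of_surjective _ (gmap_surjective I s)
  -- local lifts
  have hloc : ∀ p, ∃ l : Spec (CommRingCat.of (Localization.Away (s p))) ⟶ X,
      Spec.map (CommRingCat.ofHom (gmap I (s p))) ≫ l =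
        specAwayι (Ideal.Quotient.mk I (s p)) ≫ a ∧
      l ≫ f = specAwayι (s p) ≫ b := by
    intro p
    have hfs : letI := (f.appLE (V p) (U p) (hUV p)).hom.toAlgebra
        Algebra.FormallySmooth Γ(Y, V p) Γ(X, U p) := by
      letI := (f.appLE (V p) (U p) (hUV p)).hom.toAlgebra
      haveI : Algebra.FormallyEtale Γ(Y, V p) Γ(X, U p) := H (U p) (V p) (hU p) (hV p) (hUV p)
      infer_instance
    refine exists_lift_of_affine f (hU p) (hV p) (hUV p) hfs (CommRingCat.ofHom (gmap I (s p)))
      (gmap_surjective I (s p)) (ker_gmap_sq I hI (s p)) _ _ ?_ ?_ ?_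
    · rw [← Category.assoc, ← specAwayι_comp_i, Category.assoc, hab, Category.assoc]
    · rintro _ ⟨w, rfl⟩
      change a.base ((specAwayι (Ideal.Quotient.mk I (s p))).base w) ∈ U p
      refine haU p _ ?_
      rw [← range_specAwayι]; exact ⟨w, rfl⟩
    · rintro _ ⟨w, rfl⟩
      change b.base ((specAwayι (s p)).base w) ∈ V p
      refine hbV p _ ?_
      rw [← range_specAwayι]; exact ⟨w, rfl⟩
  choose l hl1 hl2 using hloc
  -- compatibility
  have hcompat : ∀ p p', specAwayRight (s p) (s p') ≫ l p = specAwayLeft (s p) (s p') ≫ l p' := by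
    intro p p'
    obtain ⟨r, hr1, hr2⟩ := exists_transition I (s p) (s p * s p')
      (specAwayRight (s p) (s p')) (specAwayRight_ι _ _)
    obtain ⟨r', hr1', hr2'⟩ := exists_transition I (s p') (s p * s p')
      (specAwayLeft (s p) (s p')) (specAwayLeft_ι _ _)
    haveI := hci (s p * s p')
    refine AlgebraicGeometry.FormallyUnramified.hom_ext
      (Spec.map (CommRingCat.ofHom (gmap I (s p * s p')))) (hnil _) f ?_ ?_
    · have e1 : Spec.map (CommRingCat.ofHom (gmap I (s p * s p'))) ≫
          specAwayRight (s p) (s p') ≫ l p =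
          specAwayι (Ideal.Quotient.mk I (s p * s p')) ≫ a := by
        rw [← Category.assoc, hr2, Category.assoc, hl1, ← Category.assoc, hr1]
      have e2 : Spec.map (CommRingCat.ofHom (gmap I (s p * s p'))) ≫
          specAwayLeft (s p) (s p') ≫ l p' =
          specAwayι (Ideal.Quotient.mk I (s p * s p')) ≫ a := by
        rw [← Category.assoc, hr2', Category.assoc, hl1, ← Category.assoc, hr1']
      exact e1.trans e2.symm
    · have e1 : (specAwayRight (s p) (s p') ≫ l p) ≫ f = specAwayι (s p * s p') ≫ b := by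
        rw [Category.assoc, hl2, ← Category.assoc, specAwayRight_ι]
      have e2 : (specAwayLeft (s p) (s p') ≫ l p') ≫ f = specAwayι (s p * s p') ≫ b := by
        rw [Category.assoc, hl2, ← Category.assoc, specAwayLeft_ι]
      exact e1.trans e2.symm
  -- glue
  have hcov : ∀ x : Spec (CommRingCat.of A), ∃ p y, (specAwayι (s p)).base y = x := fun x => by
    have hx : x ∈ Set.range (specAwayι (s x)).base := by
      rw [range_specAwayι]; exact hps x
    exact ⟨x, hx⟩
  let 𝒰 : (Spec (CommRingCat.of A)).OpenCover :=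
    Scheme.Cover.mkOfCovers (Spec (CommRingCat.of A))
      (fun p => Spec (CommRingCat.of (Localization.Away (s p))))
      (fun p => specAwayι (s p)) hcov (fun _ => inferInstance)
  have hglue : ∀ p p' : Spec (CommRingCat.of A),
      pullback.fst (𝒰.f p) (𝒰.f p') ≫ l p = pullback.snd (𝒰.f p) (𝒰.f p') ≫ l p' := by
    intro p p'
    have sq : IsPullback (specAwayRight (s p) (s p')) (specAwayLeft (s p) (s p'))
        (𝒰.f p) (𝒰.f p') := isPullback_specAway (s p) (s p')
    have e1 : sq.isoPullback.hom ≫ pullback.fst (𝒰.f p) (𝒰.f p') =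
        specAwayRight (s p) (s p') := sq.isoPullback_hom_fst
    have e2 : sq.isoPullback.hom ≫ pullback.snd (𝒰.f p) (𝒰.f p') =
        specAwayLeft (s p) (s p') := sq.isoPullback_hom_snd
    have e3 : sq.isoPullback.hom ≫ (pullback.fst (𝒰.f p) (𝒰.f p') ≫ l p) =
        sq.isoPullback.hom ≫ (pullback.snd (𝒰.f p) (𝒰.f p') ≫ l p') := by
      rw [← Category.assoc, e1, ← Category.assoc, e2]
      exact hcompat p p'
    exact (cancel_epi _).1 e3
  have hL : ∀ p, specAwayι (s p) ≫ 𝒰.glueMorphisms l hglue = l p := fun p =>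
    𝒰.ι_glueMorphisms l hglue p
  refine ⟨𝒰.glueMorphisms l hglue, ?_, ?_⟩
  · have hcov' : ∀ x : Spec (CommRingCat.of (A ⧸ I)), ∃ (p : Spec (CommRingCat.of A)) (y : _),
        (specAwayι (Ideal.Quotient.mk I (s p))).base y = x := fun x => by
      have hx : x ∈ Set.range (specAwayι (Ideal.Quotient.mk I
          (s ((Spec.map (CommRingCat.ofHom (Ideal.Quotient.mk I))).base x)))).base := by
        rw [range_specAwayι]
        exact (comap_mem_basicOpen I _ x).1 (hps _)
      exact ⟨_, hx⟩
    let 𝒰' : (Spec (CommRingCat.of (A ⧸ I))).OpenCover :=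
      Scheme.Cover.mkOfCovers (Spec (CommRingCat.of A))
        (fun p => Spec (CommRingCat.of (Localization.Away (Ideal.Quotient.mk I (s p)))))
        (fun p => specAwayι (Ideal.Quotient.mk I (s p))) hcov' (fun _ => inferInstance)
    refine 𝒰'.hom_ext _ _ fun p => ?_
    change specAwayι (Ideal.Quotient.mk I (s p)) ≫
      Spec.map (CommRingCat.ofHom (Ideal.Quotient.mk I)) ≫ 𝒰.glueMorphisms l hglue =
      specAwayι (Ideal.Quotient.mk I (s p)) ≫ a
    rw [← Category.assoc, specAwayι_comp_i, Category.assoc, hL, hl1]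
  · refine 𝒰.hom_ext _ _ fun p => ?_
    change specAwayι (s p) ≫ 𝒰.glueMorphisms l hglue ≫ f = specAwayι (s p) ≫ b
    rw [← Category.assoc, hL, hl2]

/-- (⇐): an affine-locally formally étale morphism is formally étale. -/
theorem isFormallyEtaleHom_of_affineLocally {X Y : Scheme.{u}} (f : X ⟶ Y)
    (H : ∀ (U : X.Opens) (V : Y.Opens) (hU : IsAffineOpen U) (hV : IsAffineOpen V)
      (hUV : U ≤ f ⁻¹ᵁ V),
      letI := (f.appLE V U hUV).hom.toAlgebra
      Algebra.FormallyEtale Γ(Y, V) Γ(X, U)) :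
    MoreMor.IsFormallyEtaleHom f := by
  intro A _ I hI a b hab
  obtain ⟨l, h1, h2⟩ := exists_lift f H A I hI a b hab
  refine ⟨l, ⟨h1, h2⟩, ?_⟩
  rintro l' ⟨h1', h2'⟩
  have hunr : AlgebraicGeometry.FormallyUnramified f := formallyUnramified_of_affineLocally f H
  haveI : IsClosedImmersion (Spec.map (CommRingCat.ofHom (Ideal.Quotient.mk I))) :=
    IsClosedImmersion.spec_of_surjective _ Ideal.Quotient.mk_surjective
  have hker : RingHom.ker (CommRingCat.ofHom (Ideal.Quotient.mk I)).hom ^ 2 = ⊥ := by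
    change RingHom.ker (Ideal.Quotient.mk I) ^ 2 = ⊥
    rw [Ideal.mk_ker, hI]
  exact AlgebraicGeometry.FormallyUnramified.hom_ext
    (Spec.map (CommRingCat.ofHom (Ideal.Quotient.mk I))) (isNilpotent_ker_SpecMap _ hker) f
    (h1'.trans h1.symm) (h2'.trans h2.symm)

end Groth.Agent.Lib.Helper6.FormalEtaleLocal
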