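import Mathlib.RingTheory.Ideal.KrullsHeightTheorem
import Mathlib.RingTheory.Ideal.MinimalPrime.Noetherian
import Mathlib.RingTheory.Spectrum.Prime.Topology
import Mathlib.RingTheory.KrullDimension.Zero
import Mathlib.RingTheory.KrullDimension.Field
import Mathlib.Topology.JacobsonSpace

/-!
# An Artin–Tate type lemma and Jacobson spaces

* `height_le_one_of_forall_mem`, `isMaximal_of_forall_mem`, `finite_setOf_isPrime_of_forall_mem`:
  in a Noetherian domain in which some nonzero element lies in every nonzero prime, every nonzero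
  prime is maximal of height one and there are finitely many primes.
* `isClosed_singleton_of_specializes`: in the spectrum of a Noetherian ring, if `{z}` is open in its
  closure then all proper specializations of `z` are closed points.
* `jacobsonSpace_compl`: if `X` is locally the spectrum of a Noetherian ring and `Y` is a closed subset
  meeting every nonempty closed subset, then `X ∖ Y` is a Jacobson space.
-/

set_option autoImplicit false

universe u v

namespace Groth.Agent.Lib.Helper6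

section Domain

variable {R : Type*} [CommRing R] [IsDomain R] [IsNoetherianRing R]

theorem height_le_one_of_forall_mem {f : R} (hf : f ≠ 0)
    (h : ∀ P : Ideal R, P.IsPrime → P ≠ ⊥ → f ∈ P) (P : Ideal R) [hPp : P.IsPrime] (hP : P ≠ ⊥) :
    P.height ≤ 1 := by
  classical
  by_contra hlt
  rw [not_le] at hlt
  have hfP : f ∈ P := h P hPp hP
  have hSfin : ((Ideal.span {f} : Ideal R).minimalPrimes).Finite :=
    Ideal.finite_minimalPrimes_of_isNoetherianRing R _
  have hSheight : ∀ q ∈ (Ideal.span {f} : Ideal R).minimalPrimes, q.height ≤ 1 := fun q hq =>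
    Ideal.height_le_one_of_isPrincipal_of_mem_minimalPrimes _ q hq
  obtain ⟨q₀, hq₀S, -⟩ := Ideal.exists_minimalPrimes_le
    (show Ideal.span {f} ≤ P from (Ideal.span_singleton_le_iff_mem _).mpr hfP)
  -- prime avoidance
  have hnot : ¬ ((P : Set R) ⊆ ⋃ q ∈ (hSfin.toFinset : Set (Ideal R)), ((id q : Ideal R) : Set R)) := by
    intro hsub
    rw [Ideal.subset_union_prime ⊥ ⊥ (fun q hq _ _ => by
      rw [Set.Finite.mem_toFinset] at hq; exact hq.1.1)] at hsub
    obtain ⟨q, hqS, hPq⟩ := hsub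
    rw [Set.Finite.mem_toFinset] at hqS
    exact absurd ((Ideal.height_mono hPq).trans (hSheight q hqS)) (not_le.mpr hlt)
  obtain ⟨g, hgP, hgS⟩ := Set.not_subset.mp hnot
  have hgS' : ∀ q ∈ (Ideal.span {f} : Ideal R).minimalPrimes, g ∉ q := by
    intro q hq hgq
    apply hgS
    simp only [Set.mem_iUnion]
    exact ⟨q, by simpa using hq, hgq⟩
  have hg0 : g ≠ 0 := by
    rintro rfl
    exact hgS' q₀ hq₀S (zero_mem _)
  obtain ⟨Q, hQmin, hQP⟩ := Ideal.exists_minimalPrimes_le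
    (show Ideal.span {g} ≤ P from (Ideal.span_singleton_le_iff_mem _).mpr hgP)
  haveI hQp : Q.IsPrime := hQmin.1.1
  have hgQ : g ∈ Q := hQmin.1.2 (Ideal.mem_span_singleton_self g)
  have hQ0 : Q ≠ ⊥ := by
    rintro rfl
    exact hg0 (by simpa using hgQ)
  have hQh : Q.height ≤ 1 := Ideal.height_le_one_of_isPrincipal_of_mem_minimalPrimes _ Q hQmin
  have hfQ : f ∈ Q := h Q hQp hQ0
  obtain ⟨q, hqS, hqQ⟩ := Ideal.exists_minimalPrimes_le
    (show Ideal.span {f} ≤ Q from (Ideal.span_singleton_le_iff_mem _).mpr hfQ)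
  haveI hqp : q.IsPrime := hqS.1.1
  have hq0 : q ≠ ⊥ := by
    rintro rfl
    exact hf (by simpa using hqS.1.2 (Ideal.mem_span_singleton_self f))
  rcases eq_or_lt_of_le hqQ with heq | hlt'
  · exact hgS' q hqS (heq ▸ hgQ)
  · have h1 : q.height + 1 ≤ Q.height := Ideal.height_add_one_le_of_lt_of_isPrime hlt'
    have h2 : 1 ≤ q.height := by
      rw [Order.one_le_iff_ne_zero, Ne, Ideal.height_eq_zero_iff_eq_bot]
      exact hq0
    have h3 : (1 : ℕ∞) + 1 ≤ 1 := (add_le_add h2 (le_refl (1 : ℕ∞))).trans (h1.trans hQh)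
    exact absurd h3 (by decide)

theorem isMaximal_of_forall_mem {f : R} (hf : f ≠ 0)
    (h : ∀ P : Ideal R, P.IsPrime → P ≠ ⊥ → f ∈ P) (P : Ideal R) [hPp : P.IsPrime] (hP : P ≠ ⊥) :
    P.IsMaximal := by
  obtain ⟨M, hM, hPM⟩ := Ideal.exists_le_maximal P hPp.ne_top
  haveI := hM.isPrime
  rcases eq_or_lt_of_le hPM with rfl | hlt
  · exact hM
  · exfalso
    have hM0 : M ≠ ⊥ := fun h0 => hP (le_bot_iff.mp (h0 ▸ hPM))
    have h1 : P.height + 1 ≤ M.height := Ideal.height_add_one_le_of_lt_of_isPrime hlt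
    have h2 : 1 ≤ P.height := by
      rw [Order.one_le_iff_ne_zero, Ne, Ideal.height_eq_zero_iff_eq_bot]
      exact hP
    have h3 : M.height ≤ 1 := height_le_one_of_forall_mem hf h M hM0
    have h4 : (1 : ℕ∞) + 1 ≤ 1 := (add_le_add h2 (le_refl (1 : ℕ∞))).trans (h1.trans h3)
    exact absurd h4 (by decide)

theorem finite_setOf_isPrime_of_forall_mem {f : R} (hf : f ≠ 0)
    (h : ∀ P : Ideal R, P.IsPrime → P ≠ ⊥ → f ∈ P) : {P : Ideal R | P.IsPrime}.Finite := by
  refine ((Ideal.finite_minimalPrimes_of_isNoetherianRing R (Ideal.span {f})).insert ⊥).subset ?_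
  intro P hP
  haveI hPp : P.IsPrime := hP
  by_cases hP0 : P = ⊥
  · exact Set.mem_insert_iff.mpr (Or.inl hP0)
  · refine Set.mem_insert_iff.mpr (Or.inr ?_)
    have hfP := h P hP hP0
    obtain ⟨q, hq, hqP⟩ := Ideal.exists_minimalPrimes_le
      (show Ideal.span {f} ≤ P from (Ideal.span_singleton_le_iff_mem _).mpr hfP)
    haveI : q.IsPrime := hq.1.1
    have hq0 : q ≠ ⊥ := by
      rintro rfl
      exact hf (by simpa using hq.1.2 (Ideal.mem_span_singleton_self f))
    have hqmax := isMaximal_of_forall_mem hf h q hq0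
    have : q = P := hqmax.eq_of_le hPp.ne_top hqP
    exact this ▸ hq

end Domain

section Quotient

variable {A : Type*} [CommRing A]

theorem lt_comap_mk_of_ne_bot (P : Ideal A) {Q' : Ideal (A ⧸ P)} (hQ'0 : Q' ≠ ⊥) :
    P < Q'.comap (Ideal.Quotient.mk P) := by
  have hle : P ≤ Q'.comap (Ideal.Quotient.mk P) := by
    intro x hx
    rw [Ideal.mem_comap, Ideal.Quotient.eq_zero_iff_mem.mpr hx]
    exact zero_mem _
  refine lt_of_le_of_ne hle ?_
  intro heq
  apply hQ'0
  rw [eq_bot_iff]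
  intro x hx
  obtain ⟨a, rfl⟩ := Ideal.Quotient.mk_surjective x
  have ha : a ∈ P := by
    rw [heq]
    exact Ideal.mem_comap.mpr hx
  rw [Ideal.mem_bot, Ideal.Quotient.eq_zero_iff_mem]
  exact ha

theorem quotient_forall_mem (P : Ideal A) {g : A}
    (h : ∀ Q : Ideal A, Q.IsPrime → P < Q → g ∈ Q) :
    ∀ Q' : Ideal (A ⧸ P), Q'.IsPrime → Q' ≠ ⊥ → Ideal.Quotient.mk P g ∈ Q' := by
  intro Q' hQ' hQ'0
  have hcomap : (Q'.comap (Ideal.Quotient.mk P)).IsPrime := Ideal.IsPrime.comap _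
  exact h _ hcomap (lt_comap_mk_of_ne_bot P hQ'0)

/-- `A ⧸ 𝔭` has dimension at most one iff every prime strictly containing `𝔭` is maximal. -/
theorem krullDimLE_one_quotient_iff (𝔭 : Ideal A) [𝔭.IsPrime] :
    Ring.KrullDimLE 1 (A ⧸ 𝔭) ↔ ∀ 𝔮 : Ideal A, 𝔮.IsPrime → 𝔭 < 𝔮 → 𝔮.IsMaximal := by
  rw [Ring.krullDimLE_one_iff_of_noZeroDivisors]
  constructor
  · intro H 𝔮 h𝔮 hlt
    haveI : (𝔮.map (Ideal.Quotient.mk 𝔭)).IsPrime :=
      Ideal.isPrime_map_quotientMk_of_isPrime hlt.le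
    have hne : 𝔮.map (Ideal.Quotient.mk 𝔭) ≠ ⊥ := by
      rw [Ne, Ideal.map_eq_bot_iff_le_ker, Ideal.mk_ker]
      exact not_le_of_gt hlt
    haveI := H _ hne inferInstance
    have := Ideal.comap_isMaximal_of_surjective (Ideal.Quotient.mk 𝔭) Ideal.Quotient.mk_surjective
      (K := 𝔮.map (Ideal.Quotient.mk 𝔭))
    rwa [Ideal.comap_map_mk hlt.le] at this
  · intro H I hI0 hI
    have hlt := lt_comap_mk_of_ne_bot 𝔭 hI0
    have hmax := H _ (Ideal.IsPrime.comap _) hlt
    have hmap : (I.comap (Ideal.Quotient.mk 𝔭)).map (Ideal.Quotient.mk 𝔭) = I :=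
      Ideal.map_comap_of_surjective _ Ideal.Quotient.mk_surjective I
    rcases Ideal.map_eq_top_or_isMaximal_of_surjective (Ideal.Quotient.mk 𝔭)
      Ideal.Quotient.mk_surjective hmax with htop | hmax'
    · rw [hmap] at htop
      exact absurd htop hI.ne_top
    · rwa [hmap] at hmax'

/-- If `𝔭 < M` with `M` prime, then `A ⧸ 𝔭` has dimension at least one. -/
theorem one_le_ringKrullDim_quotient (𝔭 : Ideal A) [𝔭.IsPrime] {M : Ideal A} [M.IsPrime]
    (hlt : 𝔭 < M) : 1 ≤ ringKrullDim (A ⧸ 𝔭) := by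
  rw [ringKrullDim, Order.one_le_krullDim_iff]
  haveI : (M.map (Ideal.Quotient.mk 𝔭)).IsPrime := Ideal.isPrime_map_quotientMk_of_isPrime hlt.le
  refine ⟨⟨⊥, Ideal.isPrime_bot⟩, ⟨M.map (Ideal.Quotient.mk 𝔭), inferInstance⟩, ?_⟩
  rw [← PrimeSpectrum.asIdeal_lt_asIdeal]
  refine lt_of_le_of_ne bot_le ?_
  intro h0
  have : M.map (Ideal.Quotient.mk 𝔭) = ⊥ := h0.symm
  rw [Ideal.map_eq_bot_iff_le_ker, Ideal.mk_ker] at this
  exact not_le_of_gt hlt this

end Quotient

section Spec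

variable {A : Type*} [CommRing A] [IsNoetherianRing A]

/-- In the spectrum of a Noetherian ring, if `{z}` is open in its closure then every proper
specialization of `z` is a closed point. -/
theorem isClosed_singleton_of_specializes
    {z : PrimeSpectrum A} {O : Set (PrimeSpectrum A)} (hO : IsOpen O) (hOz : O ∩ closure {z} = {z})
    {w : PrimeSpectrum A} (hzw : z ⤳ w) (hne : w ≠ z) : IsClosed ({w} : Set (PrimeSpectrum A)) := by
  have hzO : z ∈ O := by
    have : z ∈ O ∩ closure {z} := by rw [hOz]; exact Set.mem_singleton z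
    exact this.1
  obtain ⟨_, ⟨g, rfl⟩, hzg, hgO⟩ :=
    PrimeSpectrum.isTopologicalBasis_basic_opens.exists_subset_of_mem_open hzO hO
  have hg : g ∉ z.asIdeal := hzg
  have hall : ∀ Q : Ideal A, Q.IsPrime → z.asIdeal < Q → g ∈ Q := by
    intro Q hQ hlt
    by_contra hgQ
    have hmem : (⟨Q, hQ⟩ : PrimeSpectrum A) ∈ O ∩ closure {z} := by
      refine ⟨hgO hgQ, ?_⟩
      rw [← specializes_iff_mem_closure, ← PrimeSpectrum.le_iff_specializes]
      exact hlt.le
    rw [hOz, Set.mem_singleton_iff] at hmem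
    exact hlt.ne (congrArg PrimeSpectrum.asIdeal hmem).symm
  have hlt : z.asIdeal < w.asIdeal :=
    lt_of_le_of_ne ((PrimeSpectrum.le_iff_specializes z w).mpr hzw)
      (fun h => hne (PrimeSpectrum.ext h).symm)
  haveI : (w.asIdeal.map (Ideal.Quotient.mk z.asIdeal)).IsPrime :=
    Ideal.isPrime_map_quotientMk_of_isPrime hlt.le
  have hmk : Ideal.Quotient.mk z.asIdeal g ≠ 0 := by
    rw [Ne, Ideal.Quotient.eq_zero_iff_mem]
    exact hg
  have hne' : w.asIdeal.map (Ideal.Quotient.mk z.asIdeal) ≠ ⊥ := by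
    rw [Ne, Ideal.map_eq_bot_iff_le_ker, Ideal.mk_ker]
    exact not_le_of_gt hlt
  haveI hmax' : (w.asIdeal.map (Ideal.Quotient.mk z.asIdeal)).IsMaximal :=
    isMaximal_of_forall_mem hmk (quotient_forall_mem z.asIdeal hall) _ hne'
  have hmax : w.asIdeal.IsMaximal := by
    have := Ideal.comap_isMaximal_of_surjective (Ideal.Quotient.mk z.asIdeal)
      Ideal.Quotient.mk_surjective (K := w.asIdeal.map (Ideal.Quotient.mk z.asIdeal))
    rwa [Ideal.comap_map_mk hlt.le] at this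
  exact (PrimeSpectrum.isClosed_singleton_iff_isMaximal w).mpr hmax

end Spec

section Top

/-- `X` is locally the spectrum of a Noetherian ring. -/
def LocallyNoetherianSpectrum (X : Type u) [TopologicalSpace X] : Prop :=
  ∀ x : X, ∃ W : Set X, IsOpen W ∧ x ∈ W ∧
    ∃ (R : Type v) (_ : CommRing R) (_ : IsNoetherianRing R), Nonempty (↥W ≃ₜ PrimeSpectrum R)

theorem eq_of_specializes_of_homeomorph {X : Type*} [TopologicalSpace X] {W : Set X}
    {R : Type*} [CommRing R] [IsNoetherianRing R] (e : ↥W ≃ₜ PrimeSpectrum R)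
    {z : X} {O : Set X} (hO : IsOpen O) (hOz : O ∩ closure {z} = {z})
    {w w' : X} (hzW : z ∈ W) (hwW : w ∈ W) (hw'W : w' ∈ W) (hzw : z ⤳ w) (hne : w ≠ z)
    (hww' : w ⤳ w') : w' = w := by
  have hspec : ∀ {a b : X} (ha : a ∈ W) (hb : b ∈ W), e ⟨a, ha⟩ ⤳ e ⟨b, hb⟩ ↔ a ⤳ b := by
    intro a b ha hb
    rw [e.isInducing.specializes_iff, subtype_specializes_iff]
  have hÕopen : IsOpen (e.symm ⁻¹' (Subtype.val ⁻¹' O)) :=
    (hO.preimage continuous_subtype_val).preimage e.symm.continuous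
  have hÕz : (e.symm ⁻¹' (Subtype.val ⁻¹' O)) ∩ closure {e ⟨z, hzW⟩} = {e ⟨z, hzW⟩} := by
    ext q
    obtain ⟨⟨x, hx⟩, rfl⟩ := e.surjective q
    constructor
    · rintro ⟨hxO, hxcl⟩
      have hxO' : x ∈ O := by
        have : (e.symm (e ⟨x, hx⟩)).1 ∈ O := hxO
        rwa [e.symm_apply_apply] at this
      have hzx : z ⤳ x := (hspec hzW hx).mp (specializes_iff_mem_closure.mpr hxcl)
      have hxz : x ∈ O ∩ closure {z} := ⟨hxO', hzx.mem_closure⟩
      rw [hOz, Set.mem_singleton_iff] at hxz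
      subst hxz
      exact Set.mem_singleton _
    · intro hq
      rw [Set.mem_singleton_iff] at hq
      have hxz : x = z := congrArg Subtype.val (e.injective hq)
      subst hxz
      have hzO : x ∈ O := by
        have : x ∈ O ∩ closure {x} := by rw [hOz]; exact Set.mem_singleton x
        exact this.1
      refine ⟨?_, subset_closure (Set.mem_singleton _)⟩
      show (e.symm (e ⟨x, hx⟩)).1 ∈ O
      rwa [e.symm_apply_apply]
  have hne' : e ⟨w, hwW⟩ ≠ e ⟨z, hzW⟩ := fun h => hne (congrArg Subtype.val (e.injective h))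
  have hcl := isClosed_singleton_of_specializes hÕopen hÕz ((hspec hzW hwW).mpr hzw) hne'
  have hmem : e ⟨w', hw'W⟩ ∈ ({e ⟨w, hwW⟩} : Set (PrimeSpectrum R)) :=
    ((hspec hwW hw'W).mpr hww').mem_closed hcl (Set.mem_singleton _)
  rw [Set.mem_singleton_iff] at hmem
  exact congrArg Subtype.val (e.injective hmem)

theorem exists_maximal_point {X : Type*} [TopologicalSpace X] {W : Set X}
    {R : Type*} [CommRing R] [IsNoetherianRing R] (e : ↥W ≃ₜ PrimeSpectrum R)
    {T : Set X} (hT : (T ∩ W).Nonempty) :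
    ∃ z ∈ T ∩ W, ∀ z' ∈ T ∩ W, z ⤳ z' → z' = z := by
  let 𝒮 : Set (Ideal R) := {I | ∃ (x : X) (hx : x ∈ W), x ∈ T ∧ (e ⟨x, hx⟩).asIdeal = I}
  have hne : 𝒮.Nonempty := by
    obtain ⟨x, hxT, hxW⟩ := hT
    exact ⟨_, x, hxW, hxT, rfl⟩
  obtain ⟨I, ⟨z, hzW, hzT, rfl⟩, hmax⟩ :=
    WellFounded.has_min (wellFounded_gt (α := Ideal R)) 𝒮 hne
  refine ⟨z, ⟨hzT, hzW⟩, ?_⟩
  rintro z' ⟨hz'T, hz'W⟩ hzz'
  have h1 : e ⟨z, hzW⟩ ⤳ e ⟨z', hz'W⟩ := by
    rw [e.isInducing.specializes_iff, subtype_specializes_iff]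
    exact hzz'
  have h2 : (e ⟨z, hzW⟩).asIdeal ≤ (e ⟨z', hz'W⟩).asIdeal :=
    (PrimeSpectrum.le_iff_specializes _ _).mpr h1
  have h3 : ¬ ((e ⟨z', hz'W⟩).asIdeal > (e ⟨z, hzW⟩).asIdeal) :=
    hmax _ ⟨z', hz'W, hz'T, rfl⟩
  have h4 : (e ⟨z', hz'W⟩).asIdeal = (e ⟨z, hzW⟩).asIdeal := by
    by_contra hne
    exact h3 (lt_of_le_of_ne h2 (Ne.symm hne))
  have h5 : e ⟨z', hz'W⟩ = e ⟨z, hzW⟩ := PrimeSpectrum.ext h4
  exact congrArg Subtype.val (e.injective h5)

/-- If `X` is locally the spectrum of a Noetherian ring and `Y ⊆ X` is a closed subset meeting every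
nonempty closed subset of `X`, then `X ∖ Y` is a Jacobson space. -/
theorem jacobsonSpace_compl {X : Type u} [TopologicalSpace X]
    (hloc : LocallyNoetherianSpectrum.{u, v} X) {Y : Set X} (hY : IsClosed Y)
    (hmeet : ∀ Z : Set X, IsClosed Z → Z.Nonempty → (Z ∩ Y).Nonempty) :
    JacobsonSpace ↥(Yᶜ) := by
  rw [jacobsonSpace_iff_locallyClosed]
  intro Z hZne hZlc
  obtain ⟨z₀, hz₀⟩ := hZne
  have hemb : Topology.IsOpenEmbedding (Subtype.val : ↥Yᶜ → X) :=
    hY.isOpen_compl.isOpenEmbedding_subtypeVal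
  have hTlc : IsLocallyClosed (Subtype.val '' Z) :=
    hZlc.image hemb.isInducing (by
      rw [Subtype.range_coe]
      exact hY.isOpen_compl.isLocallyClosed)
  obtain ⟨O, C, hOopen, hCclosed, hT⟩ := hTlc
  obtain ⟨W, hWopen, hz₀W, R, _, _, ⟨e⟩⟩ := hloc z₀.1
  obtain ⟨z, ⟨hzT, hzW⟩, hzmax⟩ := exists_maximal_point e (T := Subtype.val '' Z)
    ⟨z₀.1, ⟨z₀, hz₀, rfl⟩, hz₀W⟩
  have hzOC : z ∈ O ∩ C := hT ▸ hzT
  have hOz : (O ∩ W) ∩ closure {z} = {z} := by
    ext x
    constructor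
    · rintro ⟨⟨hxO, hxW⟩, hxcl⟩
      have hzx : z ⤳ x := specializes_iff_mem_closure.mpr hxcl
      have hxC : x ∈ C := hzx.mem_closed hCclosed hzOC.2
      have hxT : x ∈ Subtype.val '' Z := by
        rw [hT]
        exact ⟨hxO, hxC⟩
      exact hzmax x ⟨hxT, hxW⟩ hzx
    · intro hx
      rw [Set.mem_singleton_iff] at hx
      subst hx
      exact ⟨⟨hzOC.1, hzW⟩, subset_closure (Set.mem_singleton _)⟩
  -- every proper specialization of `z` is a closed point of `X`
  have hclosed : ∀ w : X, z ⤳ w → w ≠ z → IsClosed ({w} : Set X) := by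
    intro w hzw hne
    rw [← closure_subset_iff_isClosed]
    intro w' hw'
    have hww' : w ⤳ w' := specializes_iff_mem_closure.mpr hw'
    obtain ⟨W', hW'open, hw'W', R', _, _, ⟨e'⟩⟩ := hloc w'
    have hwW' : w ∈ W' := hww'.mem_open hW'open hw'W'
    have hzW' : z ∈ W' := hzw.mem_open hW'open hwW'
    exact eq_of_specializes_of_homeomorph e' (hOopen.inter hWopen) hOz hzW' hwW' hw'W' hzw hne hww'
  obtain ⟨zz, hzzZ, rfl⟩ := hzT
  refine ⟨zz, hzzZ, ?_⟩
  rw [mem_closedPoints_iff, ← closure_subset_iff_isClosed]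
  intro w hw
  have hzw : zz.1 ⤳ w.1 :=
    (subtype_specializes_iff zz w).mp (specializes_iff_mem_closure.mpr hw)
  by_contra hne
  have hne' : w.1 ≠ zz.1 := fun h => hne (Subtype.ext h)
  have hcl := hclosed w.1 hzw hne'
  obtain ⟨y, hy1, hy2⟩ := hmeet {w.1} hcl ⟨w.1, rfl⟩
  rw [Set.mem_singleton_iff] at hy1
  subst hy1
  exact w.2 hy2

end Top

end Groth.Agent.Lib.Helper6
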