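import Mathlib
import Groth.Prelude.Def_HTop

/-!
Helper6: basics for V / h coverings: a morphism from the spectrum of a local ring factors through
any open containing the image of the closed point; valuation-ring lifting for proper surjective
morphisms.
-/

set_option autoImplicit false

universe u

open CategoryTheory CategoryTheory.Limits AlgebraicGeometry

namespace Groth.Agent.Lib.Helper6.HTopBasic

theorem exists_lift_of_closedPoint_mem {W : CommRingCat.{u}} [IsLocalRing W] {X : Scheme.{u}}
    (l : Spec W ⟶ X) (U : X.Opens) (hU : l (IsLocalRing.closedPoint W) ∈ U) :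
    ∃ l' : Spec W ⟶ (U : Scheme.{u}), l' ≫ U.ι = l := by
  have hrange : Set.range l ⊆ Set.range U.ι := by
    rw [Scheme.Opens.range_ι]
    rintro _ ⟨x, rfl⟩
    have hx : x ⤳ IsLocalRing.closedPoint W := IsLocalRing.specializes_closedPoint x
    exact (hx.map l.continuous).mem_open U.2 hU
  exact ⟨IsOpenImmersion.lift U.ι l hrange, IsOpenImmersion.lift_fac _ _ _⟩

theorem exists_valLift {X Y : Scheme.{u}} (f : Y ⟶ X) [IsProper f] [Surjective f]
    (V : CommRingCat.{u}) [IsDomain V] [ValuationRing V] (g : Spec V ⟶ X) :
    ∃ (W : CommRingCat.{u}) (_ : IsDomain W) (_ : ValuationRing W) (φ : V ⟶ W),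
      HTop.IsExtVal V W φ ∧ ∃ l : Spec W ⟶ Y, l ≫ f = Spec.map φ ≫ g := by
  let K : Type u := FractionRing V
  let ι : V ⟶ CommRingCat.of K := CommRingCat.ofHom (algebraMap V K)
  let gK : Spec (CommRingCat.of K) ⟶ X := Spec.map ι ≫ g
  haveI : Surjective (pullback.fst gK f) :=
    MorphismProperty.pullback_fst (P := @Surjective) gK f inferInstance
  obtain ⟨p, -⟩ := (pullback.fst gK f).surjective (default : Spec (CommRingCat.of K))
  let q : Spec ((pullback gK f).residueField p) ⟶ Spec (CommRingCat.of K) :=
    (pullback gK f).fromSpecResidueField p ≫ pullback.fst gK f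
  let ψ : CommRingCat.of K ⟶ (pullback gK f).residueField p := Spec.preimage q
  have hψ : Spec.map ψ = q := Spec.map_preimage q
  let L : Type u := (pullback gK f).residueField p
  let f₀ : V →+* L := ψ.hom.comp (algebraMap V K)
  have hf₀ : Function.Injective f₀ :=
    (RingHom.injective ψ.hom).comp (IsFractionRing.injective V K)
  obtain ⟨A, hA, hloc⟩ := IsLocalRing.exists_factor_valuationRing f₀
  let φ₀ : V →+* ↥A := f₀.codRestrict A.toSubring hA
  have hφ₀inj : Function.Injective φ₀ := fun x y hxy => hf₀ (congrArg Subtype.val hxy)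
  have hE : ValuativeCriterion.Existence f := by
    have : (ValuativeCriterion.Existence ⊓ @QuasiCompact) f := by
      rw [← UniversallyClosed.eq_valuativeCriterion]; infer_instance
    exact this.1
  let S : ValuativeCommSq f :=
    { R := ↥A
      K := L
      i₁ := (show Spec (CommRingCat.of L) ⟶ pullback gK f from
        (pullback gK f).fromSpecResidueField p) ≫ pullback.snd gK f
      i₂ := Spec.map (CommRingCat.ofHom φ₀) ≫ g
      commSq := ⟨by
        have h1 : (show Spec (CommRingCat.of L) ⟶ pullback gK f from
            (pullback gK f).fromSpecResidueField p) ≫ pullback.snd gK f ≫ f =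
            Spec.map ψ ≫ Spec.map ι ≫ g := by
          rw [← pullback.condition, hψ]
          rfl
        rw [Category.assoc, h1, ← Category.assoc, ← Category.assoc, ← Spec.map_comp,
          ← Spec.map_comp]
        rfl⟩ }
  obtain ⟨⟨l, -, hl⟩⟩ := (hE S).exists_lift
  refine ⟨CommRingCat.of ↥A, inferInstance, inferInstance, CommRingCat.ofHom φ₀,
    ⟨hφ₀inj, hloc⟩, l, hl⟩

end Groth.Agent.Lib.Helper6.HTopBasic
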