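import Mathlib
import Groth.Prelude.Def_ArtFun6
import Groth.Prelude.Def_ArtFun2
import Groth.Prelude.Def_FGA

/-!
# D12 sub-piece Y1 for helper18 (S12265): the pull-back of the universal ideal along a point of the
Hilbert scheme over `Spec A` lifting `[X]` is an element of the local Hilbert functor  (helper6)
-/

set_option autoImplicit false
universe u
open CategoryTheory CategoryTheory.Limits AlgebraicGeometry

namespace Groth.Agent.Lib.Helper6.HilbTanY1

open ArtFun ArtFun.Art

lemma hilbPull_eq_comap {X S : Scheme.{u}} (f : X ⟶ S) {T T' : Over S} (g : T' ⟶ T)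
    (I : (PicF.XT f T).IdealSheafData) :
    FGA.hilbPull f g I = I.comap (PicF.XTmap f g) := by
  rw [FGA.hilbPull, Scheme.IdealSheafData.comap, ← pullbackSymmetry_hom_comp_fst,
    Scheme.Hom.ker_comp_of_isIso]

lemma XTmap_fst {X S : Scheme.{u}} (f : X ⟶ S) {T T' : Over S} (g : T' ⟶ T) :
    PicF.XTmap f g ≫ pullback.fst f T.hom = pullback.fst f T'.hom := by
  rw [PicF.XTmap, pullback.lift_fst, Category.comp_id]

lemma XTmap_snd {X S : Scheme.{u}} (f : X ⟶ S) {T T' : Over S} (g : T' ⟶ T) :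
    PicF.XTmap f g ≫ PicF.XTproj f T = PicF.XTproj f T' ≫ g.left :=
  pullback.lift_snd _ _ _

lemma isPullback_XTmap {X S : Scheme.{u}} (f : X ⟶ S) {T T' : Over S} (g : T' ⟶ T) :
    IsPullback (PicF.XTmap f g) (PicF.XTproj f T') (PicF.XTproj f T) g.left := by
  refine IsPullback.of_right ?_ (XTmap_snd f g) (IsPullback.of_hasPullback f T.hom)
  rw [XTmap_fst, Over.w g]
  exact IsPullback.of_hasPullback f T'.hom

lemma flat_comap {X S : Scheme.{u}} (f : X ⟶ S) {T T' : Over S} (g : T' ⟶ T)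
    (I : (PicF.XT f T).IdealSheafData) (hI : Flat (I.subschemeι ≫ PicF.XTproj f T)) :
    Flat ((I.comap (PicF.XTmap f g)).subschemeι ≫ PicF.XTproj f T') := by
  have sq : IsPullback (pullback.snd (PicF.XTmap f g) I.subschemeι)
      (pullback.fst (PicF.XTmap f g) I.subschemeι ≫ PicF.XTproj f T')
      (I.subschemeι ≫ PicF.XTproj f T) g.left :=
    IsPullback.paste_vert (IsPullback.of_hasPullback (PicF.XTmap f g) I.subschemeι).flip
      (isPullback_XTmap f g)
  have hflat : Flat (pullback.fst (PicF.XTmap f g) I.subschemeι ≫ PicF.XTproj f T') :=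
    MorphismProperty.of_isPullback (P := @Flat) sq hI
  rw [← Scheme.IdealSheafData.comapIso_hom_fst, Category.assoc]
  haveI := hflat
  infer_instance

/-- **Y1**: membership in the local Hilbert functor. -/
theorem mem_localHilb_of_comap {k : Type u} [Field k] (Y : Scheme.{u})
    (y : Y ⟶ Spec (CommRingCat.of k)) (H : Over (Spec (CommRingCat.of k)))
    (Z : FGA.HilbSet y H) (I₀ : Y.IdealSheafData)
    (h : Over.mk (𝟙 (Spec (CommRingCat.of k))) ⟶ H)
    (hh : FGA.hilbPull y h Z.1 =
      I₀.comap (pullback.fst y (Over.mk (𝟙 (Spec (CommRingCat.of k)))).hom))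
    (A : Art k k) (g : Over.mk (specOver A) ⟶ H) (hg : specRes A ≫ g.left = h.left) :
    FlatOver Y y A (Z.1.comap (PicF.XTmap y g)) ∧
      (Z.1.comap (PicF.XTmap y g)).comap (XAincl y A) = I₀ := by
  refine ⟨flat_comap y g Z.1 Z.2.2, ?_⟩
  let ι : Y ⟶ PicF.XT y (Over.mk (𝟙 (Spec (CommRingCat.of k)))) :=
    pullback.lift (𝟙 Y) y (by simp)
  have hι : ι ≫ pullback.fst y (Over.mk (𝟙 (Spec (CommRingCat.of k)))).hom = 𝟙 Y :=
    pullback.lift_fst _ _ _
  have hι2 : ι ≫ PicF.XTproj y (Over.mk (𝟙 (Spec (CommRingCat.of k)))) = y :=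
    pullback.lift_snd _ _ _
  have e : XAincl y A ≫ PicF.XTmap y g = ι ≫ PicF.XTmap y h := by
    apply pullback.hom_ext
    · rw [Category.assoc, Category.assoc, XTmap_fst, XTmap_fst]
      exact (XAincl_fst y A).trans hι.symm
    · have h1 : PicF.XTmap y g ≫ pullback.snd y H.hom = XApr y A ≫ g.left := XTmap_snd y g
      have h2 : PicF.XTmap y h ≫ pullback.snd y H.hom =
          PicF.XTproj y (Over.mk (𝟙 (Spec (CommRingCat.of k)))) ≫ h.left := XTmap_snd y h
      rw [Category.assoc, Category.assoc, h1, h2, ← Category.assoc, ← Category.assoc, hι2,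
        XAincl_snd, Category.assoc, hg]
  rw [← Scheme.IdealSheafData.comap_comp, e, Scheme.IdealSheafData.comap_comp,
    ← hilbPull_eq_comap, hh, ← Scheme.IdealSheafData.comap_comp, hι,
    Scheme.IdealSheafData.comap_id]

end Groth.Agent.Lib.Helper6.HilbTanY1
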