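import Mathlib
import Groth.Prelude.Def_KRR

/-!
# Basic facts on λ-rings with positive structure (helper6)
-/

set_option autoImplicit false
open LambdaRing PowerSeries

namespace Groth.Agent.Lib.Helper6.LambdaBasic

universe u
variable {K : Type u} [CommRing K] [LambdaOps K]

lemma lamSeries_add (x y : K) : lamSeries (x + y) = lamSeries x * lamSeries y := by
  ext k
  rw [lamSeries, coeff_mk, LambdaOps.lam_add, coeff_mul,
    Finset.Nat.sum_antidiagonal_eq_sum_range_succ_mk]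
  simp only [lamSeries, coeff_mk, Nat.succ_eq_add_one]

lemma constantCoeff_lamSeries (x : K) : constantCoeff (lamSeries x) = 1 := by
  rw [← coeff_zero_eq_constantCoeff_apply, lamSeries, coeff_mk, LambdaOps.lam_zero]

lemma lamSeries_zero : lamSeries (0 : K) = 1 := by
  have h := lamSeries_add (0 : K) 0
  rw [add_zero] at h
  have hu : IsUnit (lamSeries (0 : K)) := by
    rw [isUnit_iff_constantCoeff, constantCoeff_lamSeries]
    exact isUnit_one
  exact (hu.mul_left_cancel (by rw [mul_one]; exact h)).symm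

lemma lamSeries_line (P : PosStructure K) {v : K} (hv : P.IsLine v) :
    lamSeries v = 1 + C v * X := by
  ext k
  rw [lamSeries, coeff_mk]
  rcases k with _ | _ | k
  · simp [LambdaOps.lam_zero]
  · simp [LambdaOps.lam_one]
  · rw [P.lam_eq_zero v hv.1 (k + 2) (by rw [hv.2]; push_cast; omega)]
    simp [coeff_one, coeff_X]

lemma one_isLine (P : PosStructure K) : P.IsLine (1 : K) :=
  ⟨by simpa using P.natCast_mem 1 one_pos, map_one _⟩

lemma isLine_mul (P : PosStructure K) {a b : K} (ha : P.IsLine a) (hb : P.IsLine b) :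
    P.IsLine (a * b) :=
  ⟨P.mul_mem a b ha.1 hb.1, by rw [map_mul, ha.2, hb.2, mul_one]⟩

lemma isLine_pow (P : PosStructure K) {a : K} (ha : P.IsLine a) (n : ℕ) : P.IsLine (a ^ n) := by
  induction n with
  | zero => simpa using one_isLine P
  | succ n ih => rw [pow_succ]; exact isLine_mul P ih ha

lemma isUnit_of_isLine (P : PosStructure K) {v : K} (hv : P.IsLine v) : IsUnit v := by
  have h := P.isUnit_lam v hv.1
  rw [hv.2] at h
  simpa [LambdaOps.lam_one] using h

lemma lamSeries_natCast (P : PosStructure K) (m : ℕ) : lamSeries ((m : ℕ) : K) = (1 + X) ^ m := by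
  induction m with
  | zero => simp [lamSeries_zero]
  | succ m ih =>
    rw [Nat.cast_succ, lamSeries_add, ih, lamSeries_line P (one_isLine P), map_one, one_mul,
      pow_succ]

lemma lamSeries_pos_eq_coe (P : PosStructure K) {e : K} (he : e ∈ P.pos) (m : ℕ)
    (hm : P.aug e = m) :
    lamSeries e = ((∑ i ∈ Finset.range (m + 1),
      Polynomial.C (LambdaOps.lam i e) * Polynomial.X ^ i : Polynomial K) : PowerSeries K) := by
  ext k
  rw [Polynomial.coeff_coe, Polynomial.finsetSum_coeff, lamSeries, coeff_mk]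
  simp only [Polynomial.coeff_C_mul_X_pow]
  rw [Finset.sum_ite_eq]
  split_ifs with h
  · rfl
  · rw [Finset.mem_range, not_lt] at h
    exact P.lam_eq_zero e he k (by rw [hm]; exact_mod_cast h)

lemma key (P : PosStructure K) {a b e : K} (ha : P.IsLine a) (hb : P.IsLine b) (hbu : IsUnit b)
    (he : e ∈ P.pos) (m : ℕ) (h : a - b = e - (m : K)) : (b - a) * (b - 1) ^ m = 0 := by
  have haug : P.aug e = m := by
    have h1 := congrArg P.aug h
    rw [map_sub, map_sub, ha.2, hb.2, map_natCast] at h1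
    linarith
  have h' : a + (m : K) = e + b := by linear_combination h
  have hs := congrArg lamSeries h'
  rw [lamSeries_add, lamSeries_add, lamSeries_line P ha, lamSeries_line P hb, lamSeries_natCast P,
    lamSeries_pos_eq_coe P he m haug] at hs
  have hp : (1 + Polynomial.C a * Polynomial.X) * (1 + Polynomial.X) ^ m =
      (∑ i ∈ Finset.range (m + 1), Polynomial.C (LambdaOps.lam i e) * Polynomial.X ^ i) *
        (1 + Polynomial.C b * Polynomial.X) := by
    apply Polynomial.coe_injective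
    push_cast
    exact hs
  obtain ⟨b', rfl⟩ := hbu
  have hev := congrArg (Polynomial.eval (-(↑b'⁻¹ : K))) hp
  simp only [Polynomial.eval_mul, Polynomial.eval_add, Polynomial.eval_one, Polynomial.eval_C,
    Polynomial.eval_X, Polynomial.eval_pow] at hev
  have hinv : (↑b' : K) * (↑b'⁻¹ : K) = 1 := b'.mul_inv
  have h0 : (1 : K) + ↑b' * -(↑b'⁻¹ : K) = 0 := by linear_combination (-1 : K) * hinv
  rw [h0, mul_zero] at hev
  have e1 : (↑b' : K) * (1 + a * -(↑b'⁻¹ : K)) = ↑b' - a := by linear_combination (-a) * hinv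
  have e2 : (↑b' : K) * (1 + -(↑b'⁻¹ : K)) = ↑b' - 1 := by linear_combination (-1 : K) * hinv
  calc (↑b' - a) * (↑b' - 1) ^ m
      = (↑b' : K) ^ (m + 1) * ((1 + a * -(↑b'⁻¹ : K)) * (1 + -(↑b'⁻¹ : K)) ^ m) := by
        rw [← e1, ← e2, mul_pow]; ring
    _ = 0 := by rw [hev, mul_zero]

theorem nilpotent_line_sub_one (P : PosStructure K) (u : K) (hu : KRR.IsAmpleElt P u) (w : K)
    (hw : P.IsLine w) : IsNilpotent (w - 1) := by
  obtain ⟨hul, hamp⟩ := hu
  obtain ⟨n₀, hn₀⟩ := hamp (1 - w)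
  have step : ∀ n, n₀ ≤ n → ∃ m : ℕ, (w - 1) * (u ^ n * w - 1) ^ m = 0 := by
    intro n hn
    obtain ⟨e, m, he, hem⟩ := hn₀ n hn
    refine ⟨m, ?_⟩
    have ha := isLine_pow P hul n
    have hb : P.IsLine (u ^ n * w) := isLine_mul P ha hw
    have hk := key P ha hb (isUnit_of_isLine P hb) he m (by rw [← hem]; ring)
    have h1 : u ^ n * ((w - 1) * (u ^ n * w - 1) ^ m) = 0 := by rw [← hk]; ring
    exact (isUnit_of_isLine P ha).mul_right_eq_zero.1 h1
  obtain ⟨m₁, h₁⟩ := step n₀ le_rfl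
  obtain ⟨m₂, h₂⟩ := step (n₀ + 1) (Nat.le_succ _)
  let 𝔞 : Ideal K := LinearMap.ker (LinearMap.mulLeft K (w - 1))
  have mem𝔞 : ∀ y, y ∈ 𝔞 ↔ (w - 1) * y = 0 := fun y => by
    simp only [𝔞, LinearMap.mem_ker, LinearMap.mulLeft_apply]
  have r₁ : u ^ n₀ * w - 1 ∈ 𝔞.radical := ⟨m₁, (mem𝔞 _).2 h₁⟩
  have r₂ : u ^ (n₀ + 1) * w - 1 ∈ 𝔞.radical := ⟨m₂, (mem𝔞 _).2 h₂⟩
  have r₃ : u - 1 ∈ 𝔞.radical := by
    have h : u - 1 = (u ^ (n₀ + 1) * w - 1) - u * (u ^ n₀ * w - 1) := by ring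
    rw [h]
    exact Ideal.sub_mem _ r₂ (Ideal.mul_mem_left _ _ r₁)
  have r₄ : u ^ n₀ - 1 ∈ 𝔞.radical := by
    obtain ⟨c, hc⟩ := sub_dvd_pow_sub_pow u 1 n₀
    rw [one_pow] at hc
    rw [hc]
    exact Ideal.mul_mem_right _ _ r₃
  have r₅ : w - 1 ∈ 𝔞.radical := by
    have h : w - 1 = (u ^ n₀ * w - 1) - (u ^ n₀ - 1) * w := by ring
    rw [h]
    exact Ideal.sub_mem _ r₁ (Ideal.mul_mem_right _ _ r₄)
  obtain ⟨N, hN⟩ := r₅
  exact ⟨N + 1, by rw [pow_succ']; exact (mem𝔞 _).1 hN⟩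

end Groth.Agent.Lib.Helper6.LambdaBasic
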