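import Mathlib
import Groth.Prelude.Def_RegImm

namespace Groth.Agent.Lib.Helper6.SyntAdjoinRoot

open Polynomial TensorProduct

universe u

section fibre

variable (κ : Type u) [Field κ] (p : ℕ) (c : κ)

/-- `k[T]/(T^p - c)` is a global complete intersection over `k`. -/
theorem isGlobalCI_of_equiv (hp : p ≠ 0) (F : Type u) [CommRing F] [Algebra κ F]
    (e : F ≃ₐ[κ] AdjoinRoot (X ^ p - C c : κ[X])) : Synt.IsGlobalCI κ F := by
  right
  refine ⟨1, 1, le_rfl, ?_⟩
  let e₁ : MvPolynomial (Fin 1) κ ≃ₐ[κ] κ[X] :=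
    MvPolynomial.uniqueAlgEquiv κ (Fin 1)
  let φ : MvPolynomial (Fin 1) κ →ₐ[κ] F :=
    (e.symm : AdjoinRoot (X ^ p - C c : κ[X]) →ₐ[κ] F).comp
      ((AdjoinRoot.mkₐ (X ^ p - C c : κ[X])).comp (e₁ : MvPolynomial (Fin 1) κ →ₐ[κ] κ[X]))
  have hmonic : (X ^ p - C c : κ[X]).Monic := monic_X_pow_sub_C c hp
  refine ⟨φ, fun _ => e₁.symm (X ^ p - C c), ?_, ?_, ?_⟩
  · exact e.symm.surjective.comp (AdjoinRoot.mk_surjective.comp e₁.surjective)
  · ext x
    rw [RingHom.mem_ker]
    have h1 : φ.toRingHom x = e.symm (AdjoinRoot.mk (X ^ p - C c : κ[X]) (e₁ x)) := rfl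
    rw [h1, map_eq_zero_iff _ e.symm.injective, AdjoinRoot.mk_eq_zero, Set.range_const,
      Ideal.mem_span_singleton]
    constructor
    · rintro ⟨d, hd⟩
      exact ⟨e₁.symm d, by rw [← map_mul, ← hd, AlgEquiv.symm_apply_apply]⟩
    · rintro ⟨d, hd⟩
      exact ⟨e₁ d, by rw [hd, map_mul, AlgEquiv.apply_symm_apply]⟩
  · simp only [Nat.sub_self, Nat.cast_zero]
    rw [ringKrullDim_eq_of_ringEquiv e.toRingEquiv]
    haveI : Module.Finite κ (AdjoinRoot (X ^ p - C c : κ[X])) := hmonic.finite_adjoinRoot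
    haveI : IsArtinianRing (AdjoinRoot (X ^ p - C c : κ[X])) := IsArtinianRing.of_finite κ _
    haveI : Nontrivial (AdjoinRoot (X ^ p - C c : κ[X])) := by
      apply AdjoinRoot.nontrivial
      rw [degree_X_pow_sub_C (Nat.pos_of_ne_zero hp)]
      exact_mod_cast hp
    have h0 : Ring.KrullDimLE 0 (AdjoinRoot (X ^ p - C c : κ[X])) := inferInstance
    exact le_antisymm (Ring.krullDimLE_iff.mp h0) ringKrullDim_nonneg_of_nontrivial

end fibre

theorem main (p : ℕ) [Fact p.Prime] (A : Type u) [CommRing A] (a : A) :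
    Synt.IsSyntomic A (AdjoinRoot (X ^ p - C a)) ∧
      Module.FaithfullyFlat A (AdjoinRoot (X ^ p - C a)) := by
  have hp0 : p ≠ 0 := (Fact.out : p.Prime).ne_zero
  have hmonic : (X ^ p - C a : A[X]).Monic := monic_X_pow_sub_C a hp0
  haveI : Module.Free A (AdjoinRoot (X ^ p - C a)) := hmonic.free_adjoinRoot
  haveI : Module.Finite A (AdjoinRoot (X ^ p - C a)) := hmonic.finite_adjoinRoot
  have hff : Module.FaithfullyFlat A (AdjoinRoot (X ^ p - C a)) := by
    rcases subsingleton_or_nontrivial A with h | h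
    · exact ⟨fun m hm => absurd (Subsingleton.elim m ⊤) hm.ne_top⟩
    · haveI : Nontrivial (AdjoinRoot (X ^ p - C a)) := by
        refine Ideal.Quotient.nontrivial_iff.mpr ?_
        rw [Ne, Ideal.span_singleton_eq_top, hmonic.isUnit_iff]
        intro h1
        have := congrArg natDegree h1
        rw [natDegree_X_pow_sub_C, natDegree_one] at this
        exact hp0 this
      infer_instance
  refine ⟨⟨inferInstance, inferInstance, ?_⟩, hff⟩
  intro pr
  constructor
  · infer_instance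
  · intro P
    refine ⟨1, fun h => P.isPrime.ne_top ((Ideal.eq_top_iff_one _).mpr h), ?_⟩
    let e₃ : (pr.asIdeal.ResidueField ⊗[A] AdjoinRoot (X ^ p - C a : A[X])) ≃ₐ[pr.asIdeal.ResidueField]
        Localization.Away (1 : pr.asIdeal.ResidueField ⊗[A] AdjoinRoot (X ^ p - C a : A[X])) :=
      (IsLocalization.atOne (pr.asIdeal.ResidueField ⊗[A] AdjoinRoot (X ^ p - C a : A[X]))
        (Localization.Away (1 : pr.asIdeal.ResidueField ⊗[A] AdjoinRoot (X ^ p - C a : A[X])))).restrictScalars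
        pr.asIdeal.ResidueField
    let e₂ : pr.asIdeal.ResidueField ⊗[A] AdjoinRoot (X ^ p - C a : A[X]) ≃ₐ[pr.asIdeal.ResidueField]
        AdjoinRoot ((X ^ p - C a : A[X]).map
          (Algebra.TensorProduct.includeRight : A →ₐ[A] pr.asIdeal.ResidueField ⊗[A] A).toRingHom) :=
      AdjoinRoot.tensorAlgEquiv _ _ rfl
    let e₂' : AdjoinRoot ((X ^ p - C a : A[X]).map
          (Algebra.TensorProduct.includeRight : A →ₐ[A] pr.asIdeal.ResidueField ⊗[A] A).toRingHom)
        ≃ₐ[pr.asIdeal.ResidueField]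
        AdjoinRoot (X ^ p - C (algebraMap A pr.asIdeal.ResidueField a) : pr.asIdeal.ResidueField[X]) :=
      AdjoinRoot.mapAlgEquiv (Algebra.TensorProduct.rid A pr.asIdeal.ResidueField pr.asIdeal.ResidueField) _ _ (by
        apply Associated.of_eq
        simp [Algebra.algebraMap_eq_smul_one])
    exact isGlobalCI_of_equiv pr.asIdeal.ResidueField p (algebraMap A pr.asIdeal.ResidueField a) hp0 _
      ((e₃.symm.trans e₂).trans e₂')

end Groth.Agent.Lib.Helper6.SyntAdjoinRoot
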