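import Mathlib
import Groth.Prelude.Def_RegImm
import Groth.Agent.Lib.Helper6.SyntAdjoinRoot
import Groth.Agent.Lib.Helper14.Syntomic

set_option autoImplicit false
universe u

namespace Groth.Agent.Lib.Helper6.SyntCover

open Synt TensorProduct CategoryTheory AlgebraicGeometry

/-- Being a local complete intersection over a field is invariant under algebra isomorphisms. -/
theorem isLCIOver_of_algEquiv {k F F' : Type u} [Field k] [CommRing F] [CommRing F'] [Algebra k F]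
    [Algebra k F'] (e : F ≃ₐ[k] F') (h : IsLCIOver k F) : IsLCIOver k F' := by
  haveI := h.1
  refine ⟨Algebra.FiniteType.equiv h.1 e, fun P' => ?_⟩
  haveI := P'.isPrime
  obtain ⟨g, hg, hCI⟩ := h.2 ⟨P'.asIdeal.comap (e : F →+* F'), inferInstance⟩
  refine ⟨e g, hg, ?_⟩
  have H : Submonoid.map e (Submonoid.powers g) = Submonoid.powers (e g) := by
    rw [Submonoid.map_powers]
  exact Groth.Agent.Lib.Helper14.isGlobalCI_of_algEquiv
    (IsLocalization.algEquivOfAlgEquiv (Localization.Away g) (Localization.Away (e g)) e H) hCI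

/-- Being syntomic is invariant under algebra isomorphisms of the target. -/
theorem isSyntomic_of_algEquiv {R S S' : Type u} [CommRing R] [CommRing S] [CommRing S']
    [Algebra R S] [Algebra R S'] (e : S ≃ₐ[R] S') (h : IsSyntomic R S) : IsSyntomic R S' := by
  obtain ⟨h1, h2, h3⟩ := h
  refine ⟨Module.Flat.of_linearEquiv e.symm.toLinearEquiv, Algebra.FinitePresentation.equiv e,
    fun p => ?_⟩
  exact isLCIOver_of_algEquiv
    (Algebra.TensorProduct.congr (AlgEquiv.refl : p.asIdeal.ResidueField ≃ₐ[p.asIdeal.ResidueField] _) e)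
    (h3 p)

/-- Transfer along a ring isomorphism of the target, with the algebra structure
given by an arbitrary ring map. -/
theorem isSyntomic_toAlgebra_of_ringEquiv {R S S' : Type u} [CommRing R] [CommRing S]
    [CommRing S'] [Algebra R S] (φ : R →+* S') (e : S ≃+* S')
    (hφ : ∀ r, φ r = e (algebraMap R S r)) (h : IsSyntomic R S) :
    letI := φ.toAlgebra
    IsSyntomic R S' := by
  letI := φ.toAlgebra
  exact isSyntomic_of_algEquiv (AlgEquiv.ofRingEquiv (f := e) (fun r => by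
    rw [RingHom.algebraMap_toAlgebra]; exact (hφ r).symm)) h

section scheme

lemma appLE_aux {Z : Scheme.{u}} {V : Z.Opens} (hV : IsAffineOpen V) {C : CommRingCat.{u}}
    (ψ : Γ(Z, V) ⟶ C) (e : (⊤ : (Spec C).Opens) ≤ (Spec.map ψ ≫ hV.fromSpec) ⁻¹ᵁ V) :
    (Spec.map ψ ≫ hV.fromSpec).appLE V ⊤ e ≫ (Scheme.ΓSpecIso C).hom = ψ := by
  have e' : (⊤ : (Spec C).Opens) ≤ (Spec.map ψ) ⁻¹ᵁ (hV.fromSpec ⁻¹ᵁ V) := e
  have key : (Spec.map ψ ≫ hV.fromSpec).appLE V ⊤ e =
      hV.fromSpec.app V ≫ (Spec.map ψ).appLE (hV.fromSpec ⁻¹ᵁ V) ⊤ e' :=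
    Scheme.Hom.comp_appLE _ _ _ _ _
  rw [key, hV.fromSpec_app_self]
  simp only [Category.assoc]
  rw [Scheme.Hom.map_appLE_assoc]
  have h1 : ∀ e', (Spec.map ψ).appLE ⊤ ⊤ e' = (Spec.map ψ).appTop := by
    intro e'
    rw [Scheme.Hom.appTop, Scheme.Hom.appLE]
    have h2 : (Spec C).presheaf.map (homOfLE e').op = 𝟙 _ := by
      have h3 : (homOfLE e').op = 𝟙 _ := Subsingleton.elim _ _
      rw [h3]; exact (Spec C).presheaf.map_id _
    rw [h2]; exact Category.comp_id _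
  rw [h1, Scheme.ΓSpecIso_naturality, Iso.inv_hom_id_assoc]

variable (p : ℕ) [Fact p.Prime] (Z : Scheme.{u}) (a : Γ(Z, ⊤))

/-- the restriction of `a` to an open. -/
noncomputable def res (V : Z.Opens) : Γ(Z, V) := Z.presheaf.map (homOfLE le_top).op a

/-- the ring `Γ(X,V)[T]/(T^p - a)`. -/
abbrev CR (V : Z.Opens) : Type u :=
  AdjoinRoot (Polynomial.X ^ p - Polynomial.C (res Z a V) : Polynomial (Γ(Z, V)))

/-- the ring map `Γ(X,V) → Γ(X,V)[T]/(T^p - a)` in `CommRingCat`. -/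
noncomputable def φ (V : Z.Opens) : Γ(Z, V) ⟶ CommRingCat.of (CR p Z a V) :=
  CommRingCat.ofHom (algebraMap Γ(Z, V) (CR p Z a V))

/-- the scheme `Spec Γ(X,V)[T]/(T^p - a)`. -/
noncomputable abbrev Y (V : Z.affineOpens) : Scheme.{u} := Spec (CommRingCat.of (CR p Z a V.1))

lemma isAff (V : Z.affineOpens) : IsAffineOpen V.1 := V.2

/-- the morphism `Spec Γ(X,V)[T]/(T^p - a) → X`. -/
noncomputable def h (V : Z.affineOpens) : Y p Z a V ⟶ Z :=
  Spec.map (φ p Z a V.1) ≫ (isAff Z V).fromSpec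

omit [Fact p.Prime] in
lemma top_le (V : Z.affineOpens) : (⊤ : (Y p Z a V).Opens) ≤ (h p Z a V) ⁻¹ᵁ V.1 := by
  intro y _
  change (h p Z a V) y ∈ V.1
  have : (h p Z a V) y = (isAff Z V).fromSpec ((Spec.map (φ p Z a V.1)) y) := rfl
  rw [this]
  have := (isAff Z V).range_fromSpec
  rw [← SetLike.mem_coe, ← this]
  exact ⟨_, rfl⟩

omit [Fact p.Prime] in
lemma appLE_eq (V : Z.affineOpens) :
    (h p Z a V).appLE V.1 ⊤ (top_le p Z a V) ≫ (Scheme.ΓSpecIso (CommRingCat.of (CR p Z a V.1))).hom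
      = φ p Z a V.1 :=
  appLE_aux (isAff Z V) (φ p Z a V.1) (top_le p Z a V)

omit [Fact p.Prime] in
lemma appLE_apply (V : Z.affineOpens) (r : Γ(Z, V.1)) :
    ((h p Z a V).appLE V.1 ⊤ (top_le p Z a V)).hom r =
      (Scheme.ΓSpecIso (CommRingCat.of (CR p Z a V.1))).inv.hom
        (algebraMap Γ(Z, V.1) (CR p Z a V.1) r) := by
  have h1 := (Iso.eq_comp_inv _).mpr (appLE_eq p Z a V)
  rw [h1]
  rfl

lemma isSyntomicMor_h (V : Z.affineOpens) : Synt.IsSyntomicMor (h p Z a V) := by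
  intro y
  refine ⟨⟨⊤, isAffineOpen_top _⟩, V, top_le p Z a V, trivial, ?_⟩
  have hs := (Groth.Agent.Lib.Helper6.SyntAdjoinRoot.main p Γ(Z, V.1) (res Z a V.1)).1
  let ε : CR p Z a V.1 ≃+* Γ(Y p Z a V, ⊤) :=
    (Scheme.ΓSpecIso (CommRingCat.of (CR p Z a V.1))).symm.commRingCatIsoToRingEquiv
  exact isSyntomic_toAlgebra_of_ringEquiv ((h p Z a V).appLE V.1 ⊤ (top_le p Z a V)).hom ε
    (fun r => appLE_apply p Z a V r) hs

theorem main : ∃ 𝒰 : Scheme.Cover.{u} (Scheme.precoverage @Synt.IsSyntomicMor) Z,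
      ∀ i : 𝒰.I₀, ∃ b : Γ(𝒰.X i, ⊤), b ^ p = (𝒰.f i).appTop a := by
  refine ⟨Scheme.Cover.mkOfCovers Z.affineOpens (Y p Z a) (h p Z a) ?_ (isSyntomicMor_h p Z a), ?_⟩
  · intro x
    obtain ⟨W, hW, hxW, -⟩ := exists_isAffineOpen_mem_and_subset (TopologicalSpace.Opens.mem_top x)
    let V : Z.affineOpens := ⟨W, hW⟩
    have hx : x ∈ Set.range (isAff Z V).fromSpec := by
      rw [(isAff Z V).range_fromSpec]; exact hxW
    obtain ⟨z, rfl⟩ := hx
    haveI := (Groth.Agent.Lib.Helper6.SyntAdjoinRoot.main p Γ(Z, V.1) (res Z a V.1)).2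
    obtain ⟨y, hy⟩ := PrimeSpectrum.comap_surjective_of_faithfullyFlat (A := Γ(Z, V.1))
      (B := CR p Z a V.1) z
    refine ⟨V, y, ?_⟩
    change (isAff Z V).fromSpec ((Spec.map (φ p Z a V.1)) y) = _
    congr 1
  · intro (V : Z.affineOpens)
    change ∃ b : Γ(Y p Z a V, ⊤), b ^ p = (h p Z a V).appTop a
    refine ⟨(Scheme.ΓSpecIso (CommRingCat.of (CR p Z a V.1))).inv.hom (AdjoinRoot.root _), ?_⟩
    have h1 : (h p Z a V).appTop a =
        ((h p Z a V).appLE V.1 ⊤ (top_le p Z a V)).hom (res Z a V.1) := by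
      unfold res
      rw [← CommRingCat.comp_apply, Scheme.Hom.map_appLE]
      rfl
    rw [h1, appLE_apply, ← map_pow]
    congr 1
    have h2 := AdjoinRoot.mk_self
      (f := (Polynomial.X ^ p - Polynomial.C (res Z a V.1) : Polynomial (Γ(Z, V.1))))
    rw [map_sub, map_pow, AdjoinRoot.mk_X, AdjoinRoot.mk_C, sub_eq_zero] at h2
    rw [h2]
    rfl

end scheme

end Groth.Agent.Lib.Helper6.SyntCover
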