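import Mathlib
import Groth.Prelude.Def_RegImm
import Groth.Prelude.Def_CAlg
import Groth.Agent.Lib.Helper4.Unmixed2
import Groth.Agent.Lib.Helper12.DimFT2
import Groth.Agent.Lib.Helper14.CMFibres5

/-!
A local complete intersection over a field is Cohen–Macaulay.
-/

set_option autoImplicit false
universe u

namespace Groth.Agent.Lib.Helper6.LciCM

open Groth.Agent.Lib.Helper12 Groth.Agent.Lib.Helper22.CMG

theorem height_eq (k : Type u) [Field k] (n c : ℕ) (hc : c ≤ n)
    (r : Fin c → MvPolynomial (Fin n) k)
    (hdim : ringKrullDim (MvPolynomial (Fin n) k ⧸ Ideal.span (Set.range r)) =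
      ((n - c : ℕ) : WithBot ℕ∞)) :
    (Ideal.span (Set.range r)).height = c := by
  classical
  set J := Ideal.span (Set.range r) with hJdef
  have hJtop : J ≠ ⊤ := by
    intro h
    haveI : Subsingleton (MvPolynomial (Fin n) k ⧸ J) := Ideal.Quotient.subsingleton_iff.mpr h
    rw [ringKrullDim_eq_bot_of_subsingleton] at hdim
    exact (WithBot.natCast_ne_bot _) hdim.symm
  have hdimP : ringKrullDim (MvPolynomial (Fin n) k) = (n : WithBot ℕ∞) := by
    rw [MvPolynomial.ringKrullDim_of_isNoetherianRing, ringKrullDim_eq_zero_of_field, zero_add,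
      Nat.card_eq_fintype_card, Fintype.card_fin]
  apply le_antisymm
  · obtain ⟨Q, hQ⟩ := Ideal.nonempty_minimalPrimes hJtop
    have h1 : J.height ≤ Q.height := Ideal.height_mono hQ.1.2
    have hJs : J = Ideal.span ((Finset.univ.image r : Finset _) :
        Set (MvPolynomial (Fin n) k)) := by
      rw [hJdef, Finset.coe_image, Finset.coe_univ, Set.image_univ]
    have h2 : Q.height ≤ ((Finset.univ.image r).card : ℕ∞) := by
      apply Ideal.height_le_card_of_mem_minimalPrimes_span_finset
      rw [← hJs]
      exact hQ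
    have h3 : (Finset.univ.image r).card ≤ c := by
      calc (Finset.univ.image r).card ≤ (Finset.univ : Finset (Fin c)).card :=
            Finset.card_image_le
        _ = c := by rw [Finset.card_univ, Fintype.card_fin]
    calc J.height ≤ Q.height := h1
      _ ≤ ((Finset.univ.image r).card : ℕ∞) := h2
      _ ≤ (c : ℕ∞) := by exact_mod_cast h3
  · rw [Ideal.height_eq_inf_minimalPrimes]
    refine le_iInf₂ (fun Q hQ => ?_)
    haveI : Q.IsPrime := hQ.1.1
    let y : PrimeSpectrum (MvPolynomial (Fin n) k) := ⟨Q, inferInstance⟩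
    have h4 := DimFT2.height_add_coheight' k (MvPolynomial (Fin n) k) n hdimP y
    have h5 : ringKrullDim (MvPolynomial (Fin n) k ⧸ Q) = (Order.coheight y : WithBot ℕ∞) :=
      DimFT.ringKrullDim_quotient_eq_coheight y
    have h6 : ringKrullDim (MvPolynomial (Fin n) k ⧸ Q) ≤ ringKrullDim (MvPolynomial (Fin n) k ⧸ J) :=
      ringKrullDim_le_of_surjective (Ideal.Quotient.factor hQ.1.2)
        (Ideal.Quotient.factor_surjective hQ.1.2)
    have h7 : (Order.coheight y : WithBot ℕ∞) ≤ ((n - c : ℕ) : WithBot ℕ∞) := by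
      rw [← h5, ← hdim]
      exact h6
    have h8 : Order.coheight y ≤ ((n - c : ℕ) : ℕ∞) := by
      have h7' : ((Order.coheight y : ℕ∞) : WithBot ℕ∞) ≤ (((n - c : ℕ) : ℕ∞) : WithBot ℕ∞) := h7
      exact WithBot.coe_le_coe.mp h7'
    have h9 : Q.height = Order.height y := PrimeSpectrum.height_eq_orderHeight y
    rw [h9]
    have hle : Order.height y ≤ (n : ℕ∞) := by
      rw [← h4]
      exact le_self_add
    obtain ⟨a, ha⟩ := ENat.ne_top_iff_exists.mp (ne_top_of_le_ne_top (ENat.natCast_ne_top n) hle)
    obtain ⟨b, hb⟩ := ENat.ne_top_iff_exists.mp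
      (ne_top_of_le_ne_top (ENat.natCast_ne_top (n - c)) h8)
    rw [← ha, ← hb] at h4
    rw [← hb] at h8
    rw [← ha]
    have h4' : a + b = n := by exact_mod_cast h4
    have h8' : b ≤ n - c := by exact_mod_cast h8
    have : c ≤ a := by omega
    exact_mod_cast this

theorem cm_of_globalCI (k T : Type u) [Field k] [CommRing T] [Algebra k T] [Nontrivial T]
    (h : Synt.IsGlobalCI k T) : LocCoh.IsCohenMacaulayRing T := by
  rcases h with hsub | ⟨n, c, hc, φ, r, hsurj, hker, hdim⟩
  · exact absurd hsub (not_subsingleton T)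
  · have e : (MvPolynomial (Fin n) k ⧸ Ideal.span (Set.range r)) ≃+* T :=
      (Ideal.quotEquivOfEq hker.symm).trans
        (RingHom.quotientKerEquivOfSurjective (f := φ.toRingHom) hsurj)
    have hdim' : ringKrullDim (MvPolynomial (Fin n) k ⧸ Ideal.span (Set.range r)) =
        ((n - c : ℕ) : WithBot ℕ∞) := by
      rw [ringKrullDim_eq_of_ringEquiv e]
      exact hdim
    have hJ := height_eq k n c hc r hdim'
    haveI := Groth.Agent.Lib.Helper4.Unmixed.cm_quotient (MvPolynomial (Fin n) k) c r hJ
    exact Groth.Agent.Lib.Helper14.CMFibres.isCohenMacaulayRing_of_ringEquiv e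

theorem main (k S : Type u) [Field k] [CommRing S] [Algebra k S]
    (h : Synt.IsLCIOver k S) : LocCoh.IsCohenMacaulayRing S := by
  obtain ⟨hft, hloc⟩ := h
  haveI := hft
  haveI : IsNoetherianRing S := Algebra.FiniteType.isNoetherianRing k S
  refine { isCohenMacaulayLocalRing_localization := fun p hp => ?_ }
  obtain ⟨g, hg, hci⟩ := hloc ⟨p, hp⟩
  have hg' : g ∉ p := hg
  have hdisj : Disjoint ((Submonoid.powers g : Submonoid S) : Set S) (p : Set S) := by
    rw [Set.disjoint_left]
    rintro _ ⟨j, rfl⟩ hj
    exact hg' (Ideal.IsPrime.mem_of_pow_mem hp j hj)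
  set q' := p.map (algebraMap S (Localization.Away g)) with hq'
  haveI : q'.IsPrime :=
    IsLocalization.isPrime_of_isPrime_disjoint (Submonoid.powers g) _ p hp hdisj
  have hcomap : Ideal.comap (algebraMap S (Localization.Away g)) q' = p :=
    IsLocalization.under_map_of_isPrime_disjoint (Submonoid.powers g) _ hp hdisj
  haveI : Nontrivial (Localization.Away g) := by
    by_contra hn
    rw [not_nontrivial_iff_subsingleton] at hn
    exact ‹q'.IsPrime›.ne_top ((Ideal.eq_top_iff_one q').mpr (by
      rw [Subsingleton.elim (1 : Localization.Away g) 0]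
      exact q'.zero_mem))
  haveI : LocCoh.IsCohenMacaulayRing (Localization.Away g) :=
    cm_of_globalCI k (Localization.Away g) hci
  haveI := LocCoh.IsCohenMacaulayRing.isCohenMacaulayLocalRing_localization
    (R := Localization.Away g) q'
  have h := IsLocalization.isLocalization_isLocalization_atPrime_isLocalization
    (M := Submonoid.powers g) (Localization.AtPrime q') q'
  simp_rw [hcomap] at h
  have e := (IsLocalization.algEquiv p.primeCompl (Localization.AtPrime q')
    (Localization.AtPrime p)).toRingEquiv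
  exact isCMLocalRing_of_ringEquiv e

end Groth.Agent.Lib.Helper6.LciCM
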