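import Mathlib
import Groth.Prelude.Def_QFDual

/-!
Helper6: flat base change for `Hom_A(B', A)` (finitely presented source) and the induced
bijectivity of `QFDual.omegaBC`.
-/

set_option autoImplicit false

namespace Groth.Agent.Lib.Helper6.OmegaBC

open TensorProduct

section General

variable {R S R' S' M N : Type*} [CommRing R] [CommRing S] [CommRing R'] [CommRing S']
  [Algebra R S] [Algebra R R'] [Algebra R S'] [Algebra S S'] [Algebra R' S']
  [IsScalarTower R S S'] [IsScalarTower R R' S']
  [AddCommGroup M] [AddCommGroup N] [Module R M] [Module R' M] [IsScalarTower R R' M]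
  [Module R N] [Module S N] [IsScalarTower R S N] [Module R' N] [Module S' N]
  [IsScalarTower R' S' N] [IsScalarTower S S' N]

/-- In a pushout square `R → S`, `R' → S'`: a map of an `R'`-module to an `S'`-module which is a
base change along `R → S` is a base change along `R' → S'`. -/
theorem isBaseChange_of_isPushout (h : Algebra.IsPushout R S R' S') (g : M →ₗ[R] N)
    (hg : IsBaseChange S g) (f : M →ₗ[R'] N) (hfg : ∀ m, f m = g m) : IsBaseChange S' f := by
  haveI := h
  have key : ∀ y : S ⊗[R] M,
      f.liftBaseChange S' ((Algebra.IsPushout.cancelBaseChange R S R' S' M).symm y) =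
        hg.equiv y := by
    intro y
    induction y using TensorProduct.induction_on with
    | zero => simp
    | tmul s m =>
      rw [Algebra.IsPushout.cancelBaseChange_symm_tmul, LinearMap.liftBaseChange_tmul,
        IsBaseChange.equiv_tmul, hfg, algebraMap_smul]
    | add x y hx hy => rw [map_add, map_add, map_add, hx, hy]
  have hbij : Function.Bijective (f.liftBaseChange S') := by
    have : (f.liftBaseChange S' : S' ⊗[R'] M → N) =
        hg.equiv ∘ (Algebra.IsPushout.cancelBaseChange R S R' S' M) := by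
      funext x
      rw [Function.comp_apply, ← key, LinearEquiv.symm_apply_apply]
    rw [this]
    exact hg.equiv.bijective.comp (LinearEquiv.bijective _)
  exact IsBaseChange.of_equiv (LinearEquiv.ofBijective (f.liftBaseChange S') hbij)
    (fun x => by simp)

end General

universe u

/-- Flat base change of the dual of a finitely presented module, in the `IsBaseChange.toDual`
form. -/
theorem isBaseChange_toDual {A A₁ V W : Type u} [CommRing A] [CommRing A₁] [Algebra A A₁]
    [Module.Flat A A₁] [AddCommGroup V] [Module A V] [Module.FinitePresentation A V]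
    [AddCommGroup W] [Module A W] [Module A₁ W] [IsScalarTower A A₁ W]
    {j : V →ₗ[A] W} (ibc : IsBaseChange A₁ j) : IsBaseChange A₁ ibc.toDual := by
  have h1 : IsBaseChange A₁ (LinearMap.baseChangeHom A A₁ V A) :=
    Module.FinitePresentation.isBaseChange_map A V A A₁
  let E : (A₁ ⊗[A] V →ₗ[A₁] A₁ ⊗[A] A) ≃ₗ[A₁] (W →ₗ[A₁] A₁) :=
    LinearEquiv.arrowCongr ibc.equiv (AlgebraTensorModule.rid A A₁ A₁)
  refine (IsBaseChange.iff_of_equiv_comm (LinearEquiv.refl A _) E ?_).mp h1
  refine LinearMap.ext fun φ => ?_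
  refine ibc.algHom_ext _ _ fun v => ?_
  simp [E, IsBaseChange.toDual_comp_apply, IsBaseChange.equiv_symm_apply,
    Algebra.algebraMap_eq_smul_one]

theorem omegaBC_bijective (A B' A₁ B'₁ B₁ : Type u) [CommRing A] [CommRing B'] [CommRing A₁]
    [CommRing B'₁] [CommRing B₁] [IsNoetherianRing A] [Algebra A B']
    [Module.Finite A B'] [Algebra A A₁] [Module.Flat A A₁] [Algebra B' B'₁] [Algebra A₁ B'₁]
    [Algebra A B'₁] [IsScalarTower A A₁ B'₁] [IsScalarTower A B' B'₁]
    (h : Algebra.IsPushout A A₁ B' B'₁) [Algebra B'₁ B₁] [Algebra B' B₁]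
    [IsScalarTower B' B'₁ B₁] : Function.Bijective (QFDual.omegaBC (B₁ := B₁) h) := by
  letI iBΩ₁ : Module B' (Disc.Omega A₁ B'₁) := Module.compHom _ (algebraMap B' B'₁)
  haveI : IsScalarTower B' B'₁ (Disc.Omega A₁ B'₁) :=
    IsScalarTower.of_algebraMap_smul fun r x => rfl
  letI iAΩ : Module A (Disc.Omega A B') := Module.compHom _ (algebraMap A B')
  haveI : IsScalarTower A B' (Disc.Omega A B') :=
    IsScalarTower.of_algebraMap_smul fun r x => rfl
  letI iA₁Ω₁ : Module A₁ (Disc.Omega A₁ B'₁) := Module.compHom _ (algebraMap A₁ B'₁)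
  haveI : IsScalarTower A₁ B'₁ (Disc.Omega A₁ B'₁) :=
    IsScalarTower.of_algebraMap_smul fun r x => rfl
  letI iAΩ₁ : Module A (Disc.Omega A₁ B'₁) := Module.compHom _ (algebraMap A B'₁)
  haveI : IsScalarTower A A₁ (Disc.Omega A₁ B'₁) :=
    IsScalarTower.of_algebraMap_smul fun r x => by
      show algebraMap A₁ B'₁ (algebraMap A A₁ r) • x = algebraMap A B'₁ r • x
      rw [← IsScalarTower.algebraMap_apply]
  haveI : Module.FinitePresentation A B' := Module.finitePresentation_of_finite A B'
  -- Step 1
  have h2 : IsBaseChange A₁ h.out.toDual := isBaseChange_toDual h.out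
  -- Step 2: transfer to Omega
  let eM : (B' →ₗ[A] A) ≃ₗ[A] Disc.Omega A B' :=
    { toFun := fun φ => ⟨φ⟩
      invFun := fun ω => ω.toLinearMap
      map_add' := fun _ _ => rfl
      map_smul' := fun a φ => by
        refine Disc.Omega.ext (LinearMap.ext fun x => ?_)
        show a • φ x = φ (algebraMap A B' a * x)
        rw [← Algebra.smul_def, map_smul]
      left_inv := fun _ => rfl
      right_inv := fun _ => rfl }
  let eN : (B'₁ →ₗ[A₁] A₁) ≃ₗ[A₁] Disc.Omega A₁ B'₁ :=
    { toFun := fun φ => ⟨φ⟩
      invFun := fun ω => ω.toLinearMap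
      map_add' := fun _ _ => rfl
      map_smul' := fun a φ => by
        refine Disc.Omega.ext (LinearMap.ext fun x => ?_)
        show a • φ x = φ (algebraMap A₁ B'₁ a * x)
        rw [← Algebra.smul_def, map_smul]
      left_inv := fun _ => rfl
      right_inv := fun _ => rfl }
  let g : Disc.Omega A B' →ₗ[A] Disc.Omega A₁ B'₁ :=
    { toFun := QFDual.bcFin h
      map_add' := map_add _
      map_smul' := fun a φ => by
        show QFDual.bcFin h (algebraMap A B' a • φ) = algebraMap A B'₁ a • QFDual.bcFin h φ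
        rw [(QFDual.bcFin h).map_smulₛₗ, ← IsScalarTower.algebraMap_apply] }
  have h3 : IsBaseChange A₁ g := by
    refine (IsBaseChange.iff_of_equiv_comm eM eN ?_).mp h2
    refine LinearMap.ext fun φ => ?_
    rfl
  -- Step 3
  let f : Disc.Omega A B' →ₗ[B'] Disc.Omega A₁ B'₁ :=
    { toFun := QFDual.bcFin h
      map_add' := map_add _
      map_smul' := fun r φ => (QFDual.bcFin h).map_smulₛₗ r φ }
  have h4 : IsBaseChange B'₁ f := isBaseChange_of_isPushout h g h3 f (fun m => rfl)
  -- Step 4
  have h5 := IsBaseChange.comp h4 (TensorProduct.isBaseChange B'₁ (Disc.Omega A₁ B'₁) B₁)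
  have hEq : ∀ x, QFDual.omegaBC (B₁ := B₁) h x = h5.equiv x := by
    intro x
    induction x using TensorProduct.induction_on with
    | zero => simp
    | tmul b φ =>
      rw [QFDual.omegaBC_tmul, IsBaseChange.equiv_tmul]
      show b ⊗ₜ[B'₁] QFDual.bcFin h φ = b • ((1 : B₁) ⊗ₜ[B'₁] QFDual.bcFin h φ)
      rw [TensorProduct.smul_tmul', smul_eq_mul, mul_one]
    | add x y hx hy => rw [map_add, map_add, hx, hy]
  have : (QFDual.omegaBC (B₁ := B₁) h : _ → _) = h5.equiv := funext hEq
  rw [this]
  exact h5.equiv.bijective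

end Groth.Agent.Lib.Helper6.OmegaBC
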