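import Mathlib

/-!
# Finiteness lemmas for endomorphisms of polynomial rings
-/

set_option autoImplicit false

open Polynomial

namespace Groth.Agent.Lib.Helper6.RefinedNN

variable {S : Type*} [CommRing S]

/-- A ring hom `g : S[X] → S[X]` such that the constants and `X` are integral elements is
integral. -/
lemma isIntegral_of_C_of_X (g : S[X] →+* S[X]) (hC : ∀ a : S, g.IsIntegralElem (C a))
    (hX : g.IsIntegralElem (X : S[X])) : g.IsIntegral := by
  intro p
  induction p using Polynomial.induction_on with
  | C a => exact hC a
  | add p q hp hq => exact RingHom.IsIntegralElem.add g hp hq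
  | monomial n a h =>
    rw [pow_succ, ← mul_assoc]
    exact RingHom.IsIntegralElem.mul g h hX

/-- Substituting a polynomial with invertible leading coefficient and positive degree is a finite
ring homomorphism. -/
theorem finite_aeval_of_isUnit_leadingCoeff (G : S[X]) (hu : IsUnit G.leadingCoeff)
    (hdeg : 0 < G.natDegree) : (aeval G : S[X] →ₐ[S] S[X]).toRingHom.Finite := by
  have hft : (aeval G : S[X] →ₐ[S] S[X]).toRingHom.FiniteType := by
    apply RingHom.FiniteType.of_comp_finiteType (f := (C : S →+* S[X]))
    have h1 : (aeval G : S[X] →ₐ[S] S[X]).toRingHom.comp (C : S →+* S[X]) = algebraMap S S[X] := by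
      ext a
      simp
    rw [h1]
    exact RingHom.finiteType_algebraMap.mpr inferInstance
  refine RingHom.IsIntegral.to_finite ?_ hft
  apply isIntegral_of_C_of_X
  · intro a
    have : (C a : S[X]) = (aeval G : S[X] →ₐ[S] S[X]).toRingHom (C a) := by simp
    rw [this]
    exact RingHom.isIntegralElem_map _
  · -- `X` is a root of `u⁻¹ • (G(T) - G)`
    let Q : S[X][X] := G.map (C : S →+* S[X]) - C (X : S[X])
    have hQdeg : (C (X : S[X]) : S[X][X]).degree < (G.map (C : S →+* S[X])).degree := by
      rw [degree_map_eq_of_injective (C_injective)]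
      calc (C (X : S[X]) : S[X][X]).degree ≤ 0 := degree_C_le
        _ < G.degree := by
          rw [degree_eq_natDegree (fun h => by simp [h] at hdeg)]
          exact_mod_cast hdeg
    have hQlc : Q.leadingCoeff = C G.leadingCoeff := by
      rw [leadingCoeff_sub_of_degree_lt hQdeg, leadingCoeff_map_of_injective C_injective]
    have hQu : IsUnit Q.leadingCoeff := by
      rw [hQlc]; exact hu.map C
    refine ⟨hQu.unit⁻¹ • Q, monic_of_isUnit_leadingCoeff_inv_smul hQu, ?_⟩
    rw [Units.smul_def, smul_eq_C_mul, eval₂_mul]
    have h2 : eval₂ (aeval G : S[X] →ₐ[S] S[X]).toRingHom (X : S[X]) Q = 0 := by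
      simp only [Q, eval₂_sub, eval₂_C, eval₂_map]
      have h3 : (aeval G : S[X] →ₐ[S] S[X]).toRingHom.comp (C : S →+* S[X]) = C := by
        ext a; simp
      rw [h3, eval₂_C_X]
      simp
    rw [h2, mul_zero]

/-- Applying a finite ring homomorphism coefficientwise is finite. -/
theorem finite_mapRingHom {S' : Type*} [CommRing S'] (φ : S →+* S') (hφ : φ.Finite) :
    (mapRingHom φ).Finite := by
  have hft : (mapRingHom φ).FiniteType := by
    apply RingHom.FiniteType.of_comp_finiteType (f := (C : S →+* S[X]))
    have h1 : (mapRingHom φ).comp (C : S →+* S[X]) = (C : S' →+* S'[X]).comp φ := by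
      ext a
      simp
    rw [h1]
    have h2 : (C : S' →+* S'[X]).FiniteType := by
      have : (C : S' →+* S'[X]) = algebraMap S' S'[X] := rfl
      rw [this]
      exact RingHom.finiteType_algebraMap.mpr inferInstance
    exact h2.comp hφ.finiteType
  refine RingHom.IsIntegral.to_finite ?_ hft
  have hint : φ.IsIntegral := hφ.to_isIntegral
  intro p
  induction p using Polynomial.induction_on with
  | C a =>
    obtain ⟨q, hq, hqa⟩ := hint a
    refine ⟨q.map (C : S →+* S[X]), hq.map _, ?_⟩
    rw [eval₂_map]
    have h1 : (mapRingHom φ).comp (C : S →+* S[X]) = (C : S' →+* S'[X]).comp φ := by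
      ext a
      simp
    rw [h1, ← hom_eval₂, hqa, map_zero]
  | add p q hp hq => exact RingHom.IsIntegralElem.add _ hp hq
  | monomial n a h =>
    rw [pow_succ, ← mul_assoc]
    refine RingHom.IsIntegralElem.mul _ h ?_
    have : (X : S'[X]) = mapRingHom φ X := by simp
    rw [this]
    exact RingHom.isIntegralElem_map _

end Groth.Agent.Lib.Helper6.RefinedNN
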