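import Mathlib
import Groth.Agent.Lib.Helper6.RefinedNN1
import Groth.Agent.Lib.Helper6.RefinedNN2

/-!
# A finite endomorphism of the polynomial ring with prescribed value at `X 0`
-/

set_option autoImplicit false

open Polynomial MvPolynomial

namespace Groth.Agent.Lib.Helper6.RefinedNN

variable {k : Type*} [Field k] {n : ℕ}

/-- Conjugation of an endomorphism of `k[X₁..Xₙ][X]` by `finSuccEquiv`. -/
noncomputable def conj (Θ : (MvPolynomial (Fin n) k)[X] →ₐ[k] (MvPolynomial (Fin n) k)[X]) :
    MvPolynomial (Fin (n + 1)) k →ₐ[k] MvPolynomial (Fin (n + 1)) k :=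
  (finSuccEquiv k n).symm.toAlgHom.comp (Θ.comp (finSuccEquiv k n).toAlgHom)

lemma conj_apply (Θ : (MvPolynomial (Fin n) k)[X] →ₐ[k] (MvPolynomial (Fin n) k)[X])
    (p : MvPolynomial (Fin (n + 1)) k) :
    conj Θ p = (finSuccEquiv k n).symm (Θ (finSuccEquiv k n p)) := rfl

lemma conj_finite (Θ : (MvPolynomial (Fin n) k)[X] →ₐ[k] (MvPolynomial (Fin n) k)[X])
    (h : Θ.toRingHom.Finite) : (conj Θ).toRingHom.Finite := by
  have h1 : (finSuccEquiv k n).symm.toAlgHom.toRingHom.Finite :=
    RingHom.Finite.of_surjective _ (finSuccEquiv k n).symm.surjective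
  have h2 : (finSuccEquiv k n).toAlgHom.toRingHom.Finite :=
    RingHom.Finite.of_surjective _ (finSuccEquiv k n).surjective
  exact h1.comp (h.comp h2)

/-- For a nonzero nonunit `f`, there is a finite endomorphism of `k[X₀..Xₙ]` sending `X₀` to
`f`. -/
theorem exists_finite_algHom_X_zero (f : MvPolynomial (Fin (n + 1)) k) (hf0 : f ≠ 0)
    (hfu : ¬ IsUnit f) :
    ∃ ψ : MvPolynomial (Fin (n + 1)) k →ₐ[k] MvPolynomial (Fin (n + 1)) k,
      ψ.toRingHom.Finite ∧ ψ (X 0) = f := by
  have hu := T_leadingcoeff_isUnit f hf0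
  set G := finSuccEquiv k n (T f f) with hG
  have hdeg : 0 < G.natDegree := by
    by_contra h0
    have h1 : G.natDegree = 0 := by omega
    have h2 : G = Polynomial.C (G.coeff 0) := Polynomial.eq_C_of_natDegree_eq_zero h1
    have h3 : G.leadingCoeff = G.coeff 0 := by
      rw [leadingCoeff, h1]
    have h4 : IsUnit G := by
      rw [h2]
      exact (h3 ▸ hu).map Polynomial.C
    have h5 : IsUnit (T f f) := by
      have := h4.map (finSuccEquiv k n).symm
      rwa [hG, AlgEquiv.symm_apply_apply] at this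
    have h6 : IsUnit f := by
      have := h5.map (T f).symm
      rwa [AlgEquiv.symm_apply_apply] at this
    exact hfu h6
  let Θ : (MvPolynomial (Fin n) k)[X] →ₐ[k] (MvPolynomial (Fin n) k)[X] :=
    (Polynomial.aeval G : (MvPolynomial (Fin n) k)[X] →ₐ[MvPolynomial (Fin n) k] _).restrictScalars k
  have hΘ : Θ.toRingHom.Finite := finite_aeval_of_isUnit_leadingCoeff G hu hdeg
  refine ⟨(T f).symm.toAlgHom.comp (conj Θ), ?_, ?_⟩
  · have h1 : (T f).symm.toAlgHom.toRingHom.Finite :=
      RingHom.Finite.of_surjective _ (T f).symm.surjective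
    exact h1.comp (conj_finite Θ hΘ)
  · change (T f).symm (conj Θ (X 0)) = f
    rw [conj_apply, finSuccEquiv_X_zero]
    have h1 : Θ Polynomial.X = G := by
      change Polynomial.aeval G (Polynomial.X : (MvPolynomial (Fin n) k)[X]) = G
      rw [Polynomial.aeval_X]
    rw [h1, hG, AlgEquiv.symm_apply_apply, AlgEquiv.symm_apply_apply]

end Groth.Agent.Lib.Helper6.RefinedNN
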