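import Mathlib
import Groth.Agent.Lib.Helper6.RefinedNN3

/-!
# Noether normalization adapted to an ideal: the contraction is generated by the first variables
-/

set_option autoImplicit false

open MvPolynomial

namespace Groth.Agent.Lib.Helper6.RefinedNN

variable {k : Type*} [Field k]

section helpers

variable {n : ℕ}

lemma finSuccEquiv_rename_succ (c : MvPolynomial (Fin n) k) :
    finSuccEquiv k n (rename Fin.succ c) = Polynomial.C c := by
  have h : ((finSuccEquiv k n).toAlgHom.comp (rename Fin.succ) :
      MvPolynomial (Fin n) k →ₐ[k] _) =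
      (IsScalarTower.toAlgHom k (MvPolynomial (Fin n) k) (Polynomial (MvPolynomial (Fin n) k))) := by
    apply MvPolynomial.algHom_ext
    intro j
    simp [finSuccEquiv_X_succ]
  exact congrArg (fun g : MvPolynomial (Fin n) k →ₐ[k] _ => g c) h

lemma finSuccEquiv_symm_C (c : MvPolynomial (Fin n) k) :
    (finSuccEquiv k n).symm (Polynomial.C c) = rename Fin.succ c := by
  rw [← finSuccEquiv_rename_succ, AlgEquiv.symm_apply_apply]

lemma finSuccEquiv_symm_X :
    (finSuccEquiv k n).symm Polynomial.X = (X 0 : MvPolynomial (Fin (n + 1)) k) := by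
  rw [← finSuccEquiv_X_zero, AlgEquiv.symm_apply_apply]

/-- Decomposition `p = ι p₀ + X₀ p₁`. -/
lemma decomp (p : MvPolynomial (Fin (n + 1)) k) :
    p = rename Fin.succ ((finSuccEquiv k n p).coeff 0) +
      X 0 * (finSuccEquiv k n).symm ((finSuccEquiv k n p).divX) := by
  apply (finSuccEquiv k n).injective
  rw [map_add, map_mul, finSuccEquiv_rename_succ, finSuccEquiv_X_zero, AlgEquiv.apply_symm_apply]
  conv_lhs => rw [← Polynomial.divX_mul_X_add (finSuccEquiv k n p)]
  ring

variable (φ' : MvPolynomial (Fin n) k →ₐ[k] MvPolynomial (Fin n) k)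

lemma conj_map_X_zero : conj (Polynomial.mapAlgHom φ') (X 0) = (X 0 : MvPolynomial (Fin (n + 1)) k) := by
  rw [conj_apply, finSuccEquiv_X_zero]
  have : Polynomial.mapAlgHom φ' Polynomial.X = Polynomial.X := by simp
  rw [this, finSuccEquiv_symm_X]

lemma conj_map_rename (c : MvPolynomial (Fin n) k) :
    conj (Polynomial.mapAlgHom φ') (rename Fin.succ c) = rename Fin.succ (φ' c) := by
  rw [conj_apply, finSuccEquiv_rename_succ]
  have : Polynomial.mapAlgHom φ' (Polynomial.C c) = Polynomial.C (φ' c) := by simp
  rw [this, finSuccEquiv_symm_C]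

end helpers

/-- **Noether normalization adapted to an ideal**: for every proper ideal `I` of `k[X₀..Xₙ₋₁]`
there is a finite endomorphism `φ` whose contraction of `I` is generated by the first `m`
variables. -/
theorem exists_finite_comap_eq_span_X : ∀ (n : ℕ) (I : Ideal (MvPolynomial (Fin n) k)), I ≠ ⊤ →
    ∃ (m : ℕ) (φ : MvPolynomial (Fin n) k →ₐ[k] MvPolynomial (Fin n) k), φ.toRingHom.Finite ∧
      I.comap φ = Ideal.span (X '' {i : Fin n | i.val < m}) := by
  intro n
  induction n with
  | zero =>
    intro I hI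
    refine ⟨0, AlgHom.id k _, RingHom.Finite.id _, ?_⟩
    have hempty : {i : Fin 0 | i.val < 0} = ∅ := by ext i; simp
    rw [hempty, Set.image_empty, Ideal.span_empty]
    change I.comap (RingHom.id _) = ⊥
    rw [Ideal.comap_id, eq_bot_iff]
    intro p hp
    rw [Ideal.mem_bot]
    by_contra hne
    have heq := eq_C_of_isEmpty p
    have hc : coeff 0 p ≠ 0 := fun h => hne (by rw [heq, h, map_zero])
    have hu : IsUnit p := by
      rw [heq]
      exact hc.isUnit.map C
    exact hI (Ideal.eq_top_of_isUnit_mem _ hp hu)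
  | succ n ih =>
    intro I hI
    by_cases hbot : I = ⊥
    · refine ⟨0, AlgHom.id k _, RingHom.Finite.id _, ?_⟩
      have hempty : {i : Fin (n + 1) | i.val < 0} = ∅ := by ext i; simp
      rw [hempty, Set.image_empty, Ideal.span_empty]
      change I.comap (RingHom.id _) = ⊥
      rw [Ideal.comap_id, hbot]
    · obtain ⟨f, hfI, hf0⟩ := Submodule.exists_mem_ne_zero_of_ne_bot hbot
      have hfu : ¬ IsUnit f := fun hu => hI (Ideal.eq_top_of_isUnit_mem _ hfI hu)
      obtain ⟨ψ, hψ, hψ0⟩ := exists_finite_algHom_X_zero f hf0 hfu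
      have hI₁ : I.comap ψ ≠ ⊤ := Ideal.comap_ne_top _ hI
      have hX0 : (X 0 : MvPolynomial (Fin (n + 1)) k) ∈ I.comap ψ := by
        rw [Ideal.mem_comap, hψ0]; exact hfI
      have hI' : (I.comap ψ).comap (rename Fin.succ : MvPolynomial (Fin n) k →ₐ[k] _) ≠ ⊤ :=
        Ideal.comap_ne_top _ hI₁
      obtain ⟨m', φ', hφ', hcomap'⟩ := ih _ hI'
      have hΘ : (Polynomial.mapAlgHom φ').toRingHom.Finite := finite_mapRingHom φ'.toRingHom hφ'
      have hΦ := conj_finite (Polynomial.mapAlgHom φ') hΘ
      refine ⟨m' + 1, ψ.comp (conj (Polynomial.mapAlgHom φ')), hψ.comp hΦ, ?_⟩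
      have hcc : I.comap (ψ.comp (conj (Polynomial.mapAlgHom φ'))) =
          (I.comap ψ).comap (conj (Polynomial.mapAlgHom φ')) := rfl
      rw [hcc]
      apply le_antisymm
      · intro p hp
        rw [Ideal.mem_comap] at hp
        have hd := decomp p
        set p₀ := (finSuccEquiv k n p).coeff 0 with hp₀
        set p₁ := (finSuccEquiv k n).symm ((finSuccEquiv k n p).divX) with hp₁
        have h1 : conj (Polynomial.mapAlgHom φ') p =
            rename Fin.succ (φ' p₀) + X 0 * conj (Polynomial.mapAlgHom φ') p₁ := by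
          conv_lhs => rw [hd]
          rw [map_add, map_mul, conj_map_rename, conj_map_X_zero]
        rw [h1] at hp
        have h2 : rename Fin.succ (φ' p₀) ∈ I.comap ψ := by
          have h3 := (I.comap ψ).mul_mem_right (conj (Polynomial.mapAlgHom φ') p₁) hX0
          exact (Ideal.add_mem_iff_left _ h3).mp hp
        have h4 : p₀ ∈ Ideal.span (X '' {i : Fin n | i.val < m'}) := by
          rw [← hcomap']
          exact h2
        rw [hd]
        refine Ideal.add_mem _ ?_ ?_
        · have h5 := Ideal.mem_map_of_mem (rename Fin.succ : MvPolynomial (Fin n) k →ₐ[k] _) h4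
          rw [Ideal.map_span] at h5
          refine Ideal.span_mono ?_ h5
          rintro _ ⟨_, ⟨j, hj, rfl⟩, rfl⟩
          refine ⟨j.succ, ?_, (rename_X _ _).symm⟩
          change j.succ.val < m' + 1
          rw [Fin.val_succ]
          exact Nat.succ_lt_succ hj
        · exact Ideal.mul_mem_right _ _ (Ideal.subset_span ⟨0, Nat.succ_pos m', rfl⟩)
      · rw [Ideal.span_le]
        rintro _ ⟨i, hi, rfl⟩
        change X i ∈ ((I.comap ψ).comap (conj (Polynomial.mapAlgHom φ')) : Ideal _)
        rw [Ideal.mem_comap]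
        refine Fin.cases ?_ (fun j hj => ?_) i hi
        · intro _
          rw [conj_map_X_zero]
          exact hX0
        · have hj' : j.val < m' := by
            have : j.succ.val < m' + 1 := hj
            rw [Fin.val_succ] at this
            exact Nat.lt_of_succ_lt_succ this
          have h1 : (X j : MvPolynomial (Fin n) k) ∈
              ((I.comap ψ).comap (rename Fin.succ : MvPolynomial (Fin n) k →ₐ[k] _)).comap φ' := by
            rw [hcomap']
            exact Ideal.subset_span ⟨j, hj', rfl⟩
          have h2 : X j.succ = rename Fin.succ (X j : MvPolynomial (Fin n) k) := (rename_X _ _).symm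
          rw [h2, conj_map_rename]
          exact h1

end Groth.Agent.Lib.Helper6.RefinedNN
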