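import Mathlib
import Groth.Agent.Lib.Helper6.RefinedNN4

/-!
# Refined Noether normalization for a prime ideal: the number of variables
-/

set_option autoImplicit false

open MvPolynomial

universe u

namespace Groth.Agent.Lib.Helper6.RefinedNN

variable {k : Type u} [Field k] {n : ℕ}

section trdeg

variable (m : ℕ)

/-- The retraction killing the first `m` variables. -/
noncomputable def retr : MvPolynomial (Fin n) k →ₐ[k] MvPolynomial {i : Fin n // ¬ i.val < m} k :=
  aeval (fun i => if h : i.val < m then 0 else X ⟨i, h⟩)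

lemma retr_X_of_lt (i : Fin n) (h : i.val < m) : retr (k := k) m (X i) = 0 := by
  simp [retr, h]

lemma retr_X_of_not_lt (i : Fin n) (h : ¬ i.val < m) : retr (k := k) m (X i) = X ⟨i, h⟩ := by
  simp [retr, h]

lemma retr_rename (p : MvPolynomial {i : Fin n // ¬ i.val < m} k) :
    retr m (rename Subtype.val p) = p := by
  have h : ((retr (k := k) (n := n) m).comp (rename Subtype.val)) = AlgHom.id k _ := by
    apply MvPolynomial.algHom_ext
    intro j
    simp only [AlgHom.comp_apply, rename_X, AlgHom.id_apply]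
    exact retr_X_of_not_lt m j.1 j.2
  exact congrArg (fun g : MvPolynomial {i : Fin n // ¬ i.val < m} k →ₐ[k] _ => g p) h

lemma retr_eq_zero_of_mem (p : MvPolynomial (Fin n) k)
    (hp : p ∈ Ideal.span (X '' {i : Fin n | i.val < m} : Set (MvPolynomial (Fin n) k))) :
    retr m p = 0 := by
  have hle : Ideal.span (X '' {i : Fin n | i.val < m} : Set (MvPolynomial (Fin n) k)) ≤
      RingHom.ker (retr (k := k) (n := n) m).toRingHom := by
    rw [Ideal.span_le]
    rintro _ ⟨i, hi, rfl⟩
    exact retr_X_of_lt m i hi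
  exact hle hp

set_option maxHeartbeats 400000 in
theorem card_eq_of_comap_eq (q : Ideal (MvPolynomial (Fin n) k)) [q.IsPrime] (r : ℕ)
    (hr : Algebra.trdeg k q.ResidueField = r) (m : ℕ)
    (φ : MvPolynomial (Fin n) k →ₐ[k] MvPolynomial (Fin n) k) (hφ : φ.toRingHom.Finite)
    (hcomap : q.comap φ = Ideal.span (X '' {i : Fin n | i.val < m})) :
    Fintype.card {i : Fin n // ¬ i.val < m} = r := by
  -- the map `h : k[σ] → P/q`
  let h : MvPolynomial {i : Fin n // ¬ i.val < m} k →ₐ[k] (MvPolynomial (Fin n) k ⧸ q) :=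
    (Ideal.Quotient.mkₐ k q).comp (φ.comp (rename Subtype.val))
  have hA : (Ideal.Quotient.mkₐ k q).comp φ = h.comp (retr m) := by
    apply MvPolynomial.algHom_ext
    intro i
    by_cases hi : i.val < m
    · have h1 : (X i : MvPolynomial (Fin n) k) ∈ q.comap φ := by
        rw [hcomap]; exact Ideal.subset_span ⟨i, hi, rfl⟩
      simp only [AlgHom.comp_apply, retr_X_of_lt m i hi, map_zero]
      exact Ideal.Quotient.eq_zero_iff_mem.mpr h1
    · simp only [AlgHom.comp_apply, retr_X_of_not_lt m i hi, h, rename_X]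
  have hinj : Function.Injective h := by
    rw [injective_iff_map_eq_zero]
    intro p hp
    have h1 : φ (rename Subtype.val p) ∈ q := Ideal.Quotient.eq_zero_iff_mem.mp hp
    have h2 : rename Subtype.val p ∈ q.comap φ := h1
    rw [hcomap] at h2
    have h3 := retr_eq_zero_of_mem m _ h2
    rwa [retr_rename] at h3
  have hint : h.toRingHom.IsIntegral := by
    have h1 : ((Ideal.Quotient.mkₐ k q).comp φ).toRingHom.IsIntegral :=
      RingHom.IsIntegral.trans _ _ hφ.to_isIntegral
        (RingHom.isIntegral_of_surjective _ (Ideal.Quotient.mkₐ_surjective k q))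
    rw [hA] at h1
    exact RingHom.IsIntegral.tower_top (retr m).toRingHom h.toRingHom h1
  -- algebra structures
  let _ : Algebra (MvPolynomial {i : Fin n // ¬ i.val < m} k) (MvPolynomial (Fin n) k ⧸ q) :=
    h.toRingHom.toAlgebra
  let _ : Algebra (MvPolynomial {i : Fin n // ¬ i.val < m} k) q.ResidueField :=
    ((algebraMap (MvPolynomial (Fin n) k ⧸ q) q.ResidueField).comp h.toRingHom).toAlgebra
  have htower : IsScalarTower (MvPolynomial {i : Fin n // ¬ i.val < m} k)
      (MvPolynomial (Fin n) k ⧸ q) q.ResidueField := IsScalarTower.of_algebraMap_eq fun _ => rfl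
  have htower' : IsScalarTower k (MvPolynomial {i : Fin n // ¬ i.val < m} k) q.ResidueField := by
    refine IsScalarTower.of_algebraMap_eq fun c => ?_
    change _ = algebraMap (MvPolynomial (Fin n) k ⧸ q) q.ResidueField (h (C c))
    have : h (C c) = algebraMap k (MvPolynomial (Fin n) k ⧸ q) c := h.commutes c
    rw [this, ← IsScalarTower.algebraMap_apply]
  have hintA : Algebra.IsIntegral (MvPolynomial {i : Fin n // ¬ i.val < m} k)
      (MvPolynomial (Fin n) k ⧸ q) := ⟨hint⟩
  have hfaith : FaithfulSMul (MvPolynomial {i : Fin n // ¬ i.val < m} k) q.ResidueField := by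
    rw [faithfulSMul_iff_algebraMap_injective]
    exact (IsFractionRing.injective (MvPolynomial (Fin n) k ⧸ q) q.ResidueField).comp hinj
  have halg1 : Algebra.IsAlgebraic (MvPolynomial {i : Fin n // ¬ i.val < m} k)
      (MvPolynomial (Fin n) k ⧸ q) := inferInstance
  have halg : Algebra.IsAlgebraic (MvPolynomial {i : Fin n // ¬ i.val < m} k) q.ResidueField :=
    (IsFractionRing.isAlgebraic_iff' (MvPolynomial {i : Fin n // ¬ i.val < m} k)
      (MvPolynomial (Fin n) k ⧸ q) q.ResidueField).mp halg1
  have h1 := trdeg_add_eq k (MvPolynomial {i : Fin n // ¬ i.val < m} k) (A := q.ResidueField)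
  rw [trdeg_eq_zero (R := MvPolynomial {i : Fin n // ¬ i.val < m} k) (A := q.ResidueField),
    add_zero, MvPolynomial.trdeg_of_isDomain, hr] at h1
  rw [Cardinal.mk_fintype, Cardinal.lift_natCast] at h1
  exact_mod_cast h1

/-- Explicit equivalence between the indices `≥ m` in `Fin n` and `Fin (n - m)`. -/
def notLtEquiv (n m : ℕ) : {i : Fin n // ¬ i.val < m} ≃ Fin (n - m) where
  toFun i := ⟨i.1.val - m, by have := i.1.isLt; have := i.2; omega⟩
  invFun j := ⟨⟨j.val + m, by have := j.isLt; omega⟩, by simp⟩
  left_inv i := by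
    have := i.2
    apply Subtype.ext
    apply Fin.ext
    simp only
    omega
  right_inv j := by
    apply Fin.ext
    simp

lemma card_not_lt (n m : ℕ) : Fintype.card {i : Fin n // ¬ i.val < m} = n - m := by
  rw [Fintype.card_congr (notLtEquiv n m), Fintype.card_fin]

lemma rename_rev_rename_rev (n : ℕ) (p : MvPolynomial (Fin n) k) :
    rename Fin.rev (rename Fin.rev p) = p := by
  rw [rename_rename]
  have : (Fin.rev ∘ Fin.rev : Fin n → Fin n) = id := by
    funext i; simp
  rw [this, rename_id_apply]

lemma rename_rev_surjective (n : ℕ) :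
    Function.Surjective (rename (R := k) (Fin.rev : Fin n → Fin n)) :=
  fun p => ⟨rename Fin.rev p, rename_rev_rename_rev n p⟩

lemma comap_rename_rev_span (n m r : ℕ) (h : n - m = r) :
    (Ideal.span ((X : Fin n → MvPolynomial (Fin n) k) '' {i : Fin n | i.val < m})).comap
      (rename (R := k) (Fin.rev : Fin n → Fin n)) =
    Ideal.span (Set.range fun i : {i : Fin n // r ≤ (i : ℕ)} =>
        (X (i : Fin n) : MvPolynomial (Fin n) k)) := by
  apply le_antisymm
  · intro p hp
    rw [Ideal.mem_comap] at hp
    have h1 := Ideal.mem_map_of_mem (rename (R := k) (Fin.rev : Fin n → Fin n)) hp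
    rw [rename_rev_rename_rev, Ideal.map_span] at h1
    refine Ideal.span_mono ?_ h1
    rintro _ ⟨_, ⟨j, hj, rfl⟩, rfl⟩
    have hj' : j.val < m := hj
    refine ⟨⟨Fin.rev j, ?_⟩, ?_⟩
    · rw [Fin.val_rev]
      have := j.isLt
      omega
    · exact (rename_X (R := k) (Fin.rev : Fin n → Fin n) j).symm
  · rw [Ideal.span_le]
    rintro _ ⟨⟨i, hi⟩, rfl⟩
    have hi' : r ≤ i.val := hi
    have hmem : rename (R := k) (Fin.rev : Fin n → Fin n) (X i) ∈
        Ideal.span ((X : Fin n → MvPolynomial (Fin n) k) '' {i : Fin n | i.val < m}) := by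
      rw [rename_X]
      refine Ideal.subset_span ⟨Fin.rev i, ?_, rfl⟩
      have h2 : (Fin.rev i).val < m := by
        rw [Fin.val_rev]
        have := i.isLt
        omega
      exact h2
    exact hmem

/-- **Refined Noether normalization**: for a prime `q` of `k[X₀..Xₙ₋₁]` whose residue field has
transcendence degree `r`, there is a finite endomorphism `φ` with `φ⁻¹ q = (X_r, …, X_{n-1})`. -/
theorem refined_noether_normalization (n r : ℕ) (q : Ideal (MvPolynomial (Fin n) k)) [q.IsPrime]
    (hr : Algebra.trdeg k q.ResidueField = r) :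
    ∃ φ : MvPolynomial (Fin n) k →ₐ[k] MvPolynomial (Fin n) k, φ.toRingHom.Finite ∧
      q.comap φ = Ideal.span (Set.range fun i : {i : Fin n // r ≤ (i : ℕ)} =>
        MvPolynomial.X (i : Fin n)) := by
  obtain ⟨m, φ, hφ, hcomap⟩ := exists_finite_comap_eq_span_X n q (Ideal.IsPrime.ne_top ‹_›)
  have hcard := card_eq_of_comap_eq q r hr m φ hφ hcomap
  rw [card_not_lt] at hcard
  refine ⟨φ.comp (rename Fin.rev),
    hφ.comp (RingHom.Finite.of_surjective _ (rename_rev_surjective n)), ?_⟩
  have hcc : q.comap (φ.comp (rename Fin.rev)) =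
      (q.comap φ).comap (rename (R := k) (Fin.rev : Fin n → Fin n)) := by
    ext p
    simp only [Ideal.mem_comap, AlgHom.comp_apply]
  rw [hcc, hcomap]
  exact comap_rename_rev_span n m r hcard

end trdeg

end Groth.Agent.Lib.Helper6.RefinedNN
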