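import Mathlib
import Groth.Agent.Lib.Helper6.PermReg

/-!
# Hilbert series of a graded complete intersection (part A)

For a graded domain `A = ⨁ 𝒜 u` over a field with finite-dimensional pieces, a homogeneous ideal `I`
and a homogeneous `g` of degree `ε` that is a nonzerodivisor modulo `I`,
`H_{A/(I,g)} = (1 - X^ε) H_{A/I}`.  Applied to the weighted polynomial ring.
-/

set_option autoImplicit false

noncomputable section

namespace Groth.Agent.Lib.Helper6.GrCIA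

open DirectSum

theorem finrank_map_add {F : Type*} [Field F] {V W : Type*} [AddCommGroup V] [Module F V]
    [AddCommGroup W] [Module F W] (f : V →ₗ[F] W) (p : Submodule F V) [Module.Finite F p] :
    Module.finrank F (p.map f) + Module.finrank F (p ⊓ LinearMap.ker f : Submodule F V) =
      Module.finrank F p := by
  have h := LinearMap.finrank_range_add_finrank_ker (f.comp p.subtype)
  rw [LinearMap.range_comp, Submodule.range_subtype, LinearMap.ker_comp,
    ← Submodule.finrank_map_subtype_eq p (Submodule.comap p.subtype (LinearMap.ker f)),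
    Submodule.map_comap_subtype] at h
  exact h

section General

variable {F : Type*} [Field F] {A : Type*} [CommRing A] [Algebra F A]

/-- Image of the degree-`u` piece in the quotient. -/
def Tu (𝒜 : ℕ → Submodule F A) (I : Ideal A) (u : ℕ) : Submodule F (A ⧸ I) :=
  Submodule.map (Ideal.Quotient.mkₐ F I).toLinearMap (𝒜 u)

/-- Hilbert function of the quotient. -/
def hh (𝒜 : ℕ → Submodule F A) (I : Ideal A) (u : ℕ) : ℕ := Module.finrank F (Tu 𝒜 I u)

/-- Hilbert series of the quotient. -/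
def HS (𝒜 : ℕ → Submodule F A) (I : Ideal A) : PowerSeries ℤ :=
  PowerSeries.mk (fun u => (hh 𝒜 I u : ℤ))

/-- ideal generated by the first `j` terms. -/
def JJ (g' : ℕ → A) (j : ℕ) : Ideal A := Ideal.span (g' '' Set.Iio j)

/-- extension by zero -/
def ext0 {M : Type*} [Zero M] {k : ℕ} (f : Fin k → M) (i : ℕ) : M :=
  if h : i < k then f ⟨i, h⟩ else 0

theorem ext0_lt {M : Type*} [Zero M] {k : ℕ} (f : Fin k → M) (i : Fin k) : ext0 f i.val = f i := by
  unfold ext0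
  rw [dif_pos i.2]

theorem ker_mk (I : Ideal A) :
    LinearMap.ker (Ideal.Quotient.mkₐ F I).toLinearMap = I.restrictScalars F := by
  ext x
  rw [LinearMap.mem_ker, Submodule.restrictScalars_mem]
  exact Ideal.Quotient.eq_zero_iff_mem

theorem hh_add (𝒜 : ℕ → Submodule F A) (I : Ideal A) (u : ℕ) [Module.Finite F (𝒜 u)] :
    hh 𝒜 I u + Module.finrank F ↥(𝒜 u ⊓ I.restrictScalars F) = Module.finrank F ↥(𝒜 u) := by
  have h := finrank_map_add (Ideal.Quotient.mkₐ F I).toLinearMap (𝒜 u)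
  rw [ker_mk] at h
  exact h

theorem hh_top (𝒜 : ℕ → Submodule F A) (v : ℕ) : hh 𝒜 (⊤ : Ideal A) v = 0 := by
  have : Tu 𝒜 (⊤ : Ideal A) v = ⊥ := by
    rw [eq_bot_iff]
    intro x _
    haveI : Subsingleton (A ⧸ (⊤ : Ideal A)) := Ideal.Quotient.subsingleton_iff.2 rfl
    exact (Submodule.mem_bot F).2 (Subsingleton.elim x 0)
  unfold hh
  rw [this, finrank_bot]

theorem JJ_zero (g' : ℕ → A) : JJ g' 0 = ⊥ := by
  unfold JJ
  rw [Ideal.span_eq_bot]
  rintro _ ⟨i, hi, rfl⟩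
  exact absurd (Set.mem_Iio.1 hi) (Nat.not_lt_zero i)

theorem JJ_succ (g' : ℕ → A) (j : ℕ) : JJ g' (j + 1) = JJ g' j ⊔ Ideal.span {g' j} := by
  have h : g' '' Set.Iio (j + 1) = insert (g' j) (g' '' Set.Iio j) := by
    ext x
    constructor
    · rintro ⟨i, hi, rfl⟩
      have hi' : i < j + 1 := hi
      rcases Nat.lt_succ_iff_lt_or_eq.1 hi' with h | h
      · exact Or.inr ⟨i, h, rfl⟩
      · exact Or.inl (by rw [h])
    · rintro (h | ⟨i, hi, rfl⟩)
      · exact ⟨j, Nat.lt_succ_self j, h.symm⟩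
      · exact ⟨i, Nat.lt_succ_of_lt hi, rfl⟩
  unfold JJ
  rw [h, Ideal.span_insert, sup_comm]

theorem JJ_ext0 {k : ℕ} (g : Fin k → A) (j : ℕ) (hj : j ≤ k) :
    JJ (ext0 g) j = Ideal.span (g '' {i : Fin k | i.val < j}) := by
  unfold JJ
  congr 1
  ext x
  constructor
  · rintro ⟨i, hi, rfl⟩
    have hi' : i < j := hi
    have hik : i < k := lt_of_lt_of_le hi' hj
    refine ⟨⟨i, hik⟩, hi', ?_⟩
    unfold ext0
    rw [dif_pos hik]
  · rintro ⟨i, hi, rfl⟩
    exact ⟨i.val, hi, ext0_lt g i⟩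

theorem JJ_range {k : ℕ} (g : Fin k → A) : JJ (ext0 g) k = Ideal.span (Set.range g) := by
  unfold JJ
  congr 1
  ext x
  constructor
  · rintro ⟨i, hi, rfl⟩
    have hi' : i < k := hi
    refine ⟨⟨i, hi'⟩, ?_⟩
    unfold ext0
    rw [dif_pos hi']
  · rintro ⟨i, rfl⟩
    exact ⟨i.val, i.2, ext0_lt g i⟩

theorem nzd_of_reg {k : ℕ} (g : Fin k → A)
    (hreg : RingTheory.Sequence.IsWeaklyRegular A (List.ofFn g)) (j : ℕ) (hj : j < k) (b : A)
    (hb : b * ext0 g j ∈ JJ (ext0 g) j) : b ∈ JJ (ext0 g) j := by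
  have h := (PermReg.isWeaklyRegular_ofFn_iff g).1 hreg ⟨j, hj⟩
  rw [JJ_ext0 g j hj.le] at hb ⊢
  have e : ext0 g j = g ⟨j, hj⟩ := by
    unfold ext0
    rw [dif_pos hj]
  rw [e, mul_comm] at hb
  exact h b hb

theorem prod_ext0 {k : ℕ} (ε : Fin k → ℕ) :
    ∏ j ∈ Finset.range k, (1 - (PowerSeries.X : PowerSeries ℤ) ^ (ext0 ε j)) =
      ∏ i : Fin k, (1 - (PowerSeries.X : PowerSeries ℤ) ^ (ε i)) := by
  rw [← Fin.prod_univ_eq_prod_range (fun j => (1 - (PowerSeries.X : PowerSeries ℤ) ^ (ext0 ε j))) k]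
  refine Finset.prod_congr rfl (fun i _ => ?_)
  rw [ext0_lt]

variable (𝒜 : ℕ → Submodule F A) [GradedAlgebra 𝒜]

theorem comp_add (x y : A) (u : ℕ) :
    (decompose 𝒜 (x + y) u : A) = (decompose 𝒜 x u : A) + (decompose 𝒜 y u : A) := by
  rw [decompose_add, DirectSum.add_apply, Submodule.coe_add]

theorem comp_sub (x y : A) (u : ℕ) :
    (decompose 𝒜 (x - y) u : A) = (decompose 𝒜 x u : A) - (decompose 𝒜 y u : A) := by
  rw [decompose_sub, DirectSum.sub_apply, Submodule.coe_sub]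

omit [GradedAlgebra 𝒜] in
theorem ext0_mem {k : ℕ} (g : Fin k → A) (ε : Fin k → ℕ) (hg : ∀ i, g i ∈ 𝒜 (ε i)) (i : ℕ) :
    ext0 g i ∈ 𝒜 (ext0 ε i) := by
  unfold ext0
  by_cases h : i < k
  · rw [dif_pos h, dif_pos h]
    exact hg _
  · rw [dif_neg h, dif_neg h]
    exact Submodule.zero_mem _

theorem JJ_homog {g' : ℕ → A} {ε' : ℕ → ℕ} (hg' : ∀ i, g' i ∈ 𝒜 (ε' i)) (j : ℕ) :
    (JJ g' j).IsHomogeneous 𝒜 := by
  apply Ideal.homogeneous_span
  rintro _ ⟨i, _, rfl⟩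
  exact ⟨ε' i, hg' i⟩

theorem mem_of_not_le {I : Ideal A} (hI : I.IsHomogeneous 𝒜) {g : A} {ε : ℕ} (hg : g ∈ 𝒜 ε)
    {u : ℕ} (hu : ¬ ε ≤ u) {x : A} (hx : x ∈ 𝒜 u) (hxI : x ∈ I ⊔ Ideal.span {g}) : x ∈ I := by
  obtain ⟨a, ha, c, hc, rfl⟩ := Submodule.mem_sup.1 hxI
  obtain ⟨b, rfl⟩ := Ideal.mem_span_singleton'.1 hc
  have h1 : (decompose 𝒜 (a + b * g) u : A) = a + b * g := decompose_of_mem_same 𝒜 hx
  rw [comp_add, coe_decompose_mul_of_right_mem_of_not_le 𝒜 hg hu, add_zero] at h1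
  rw [← h1]
  exact hI u ha

theorem decomp_of_le {I : Ideal A} (hI : I.IsHomogeneous 𝒜) {g : A} {ε : ℕ} (hg : g ∈ 𝒜 ε)
    {u : ℕ} (hu : ε ≤ u) {x : A} (hx : x ∈ 𝒜 u) (hxI : x ∈ I ⊔ Ideal.span {g}) :
    ∃ a ∈ 𝒜 u, a ∈ I ∧ ∃ b ∈ 𝒜 (u - ε), x = a + g * b := by
  obtain ⟨a, ha, c, hc, rfl⟩ := Submodule.mem_sup.1 hxI
  obtain ⟨b, rfl⟩ := Ideal.mem_span_singleton'.1 hc
  have h1 : (decompose 𝒜 (a + b * g) u : A) = a + b * g := decompose_of_mem_same 𝒜 hx
  rw [comp_add, coe_decompose_mul_of_right_mem_of_le 𝒜 hg hu] at h1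
  refine ⟨(decompose 𝒜 a u : A), (decompose 𝒜 a u).2, hI u ha, (decompose 𝒜 b (u - ε) : A),
    (decompose 𝒜 b (u - ε)).2, ?_⟩
  rw [← h1]
  ring

theorem step_inf_lt {I : Ideal A} (hI : I.IsHomogeneous 𝒜) {g : A} {ε : ℕ} (hg : g ∈ 𝒜 ε)
    {u : ℕ} (hu : ¬ ε ≤ u) :
    𝒜 u ⊓ (I ⊔ Ideal.span {g}).restrictScalars F = 𝒜 u ⊓ I.restrictScalars F := by
  apply le_antisymm
  · intro x hx
    obtain ⟨hx, hxI⟩ := Submodule.mem_inf.1 hx
    exact Submodule.mem_inf.2 ⟨hx, (Submodule.restrictScalars_mem F I x).2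
      (mem_of_not_le 𝒜 hI hg hu hx ((Submodule.restrictScalars_mem F _ x).1 hxI))⟩
  · intro x hx
    obtain ⟨hx, hxI⟩ := Submodule.mem_inf.1 hx
    exact Submodule.mem_inf.2 ⟨hx, (Submodule.restrictScalars_mem F _ x).2
      (Ideal.mem_sup_left ((Submodule.restrictScalars_mem F I x).1 hxI))⟩

theorem step_sup {I : Ideal A} (hI : I.IsHomogeneous 𝒜) {g : A} {ε : ℕ} (hg : g ∈ 𝒜 ε)
    {u : ℕ} (hu : ε ≤ u) :
    𝒜 u ⊓ (I ⊔ Ideal.span {g}).restrictScalars F =
      (𝒜 u ⊓ I.restrictScalars F) ⊔ (𝒜 (u - ε)).map (LinearMap.mulLeft F g) := by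
  apply le_antisymm
  · intro x hx
    obtain ⟨hx, hxI⟩ := Submodule.mem_inf.1 hx
    obtain ⟨a, ha, haI, b, hb, rfl⟩ :=
      decomp_of_le 𝒜 hI hg hu hx ((Submodule.restrictScalars_mem F _ x).1 hxI)
    exact Submodule.add_mem_sup
      (Submodule.mem_inf.2 ⟨ha, (Submodule.restrictScalars_mem F I a).2 haI⟩)
      (Submodule.mem_map.2 ⟨b, hb, rfl⟩)
  · apply sup_le
    · intro x hx
      obtain ⟨hx, hxI⟩ := Submodule.mem_inf.1 hx
      exact Submodule.mem_inf.2 ⟨hx, (Submodule.restrictScalars_mem F _ x).2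
        (Ideal.mem_sup_left ((Submodule.restrictScalars_mem F I x).1 hxI))⟩
    · intro x hx
      obtain ⟨b, hb, rfl⟩ := Submodule.mem_map.1 hx
      refine Submodule.mem_inf.2 ⟨?_, ?_⟩
      · show g * b ∈ 𝒜 u
        have h := SetLike.mul_mem_graded hg hb
        rwa [Nat.add_sub_cancel' hu] at h
      · refine (Submodule.restrictScalars_mem F _ _).2 (Ideal.mem_sup_right ?_)
        show g * b ∈ Ideal.span {g}
        exact Ideal.mul_mem_right b _ (Ideal.mem_span_singleton_self g)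

theorem step_inf {I : Ideal A} {g : A} {ε : ℕ} (hg : g ∈ 𝒜 ε)
    {u : ℕ} (hu : ε ≤ u) (hnzd : ∀ b, b * g ∈ I → b ∈ I) :
    (𝒜 u ⊓ I.restrictScalars F) ⊓ (𝒜 (u - ε)).map (LinearMap.mulLeft F g) =
      (𝒜 (u - ε) ⊓ I.restrictScalars F).map (LinearMap.mulLeft F g) := by
  apply le_antisymm
  · intro x hx
    obtain ⟨hx1, hxm⟩ := Submodule.mem_inf.1 hx
    obtain ⟨hx, hxI⟩ := Submodule.mem_inf.1 hx1
    obtain ⟨b, hb, rfl⟩ := Submodule.mem_map.1 hxm
    refine Submodule.mem_map.2 ⟨b, Submodule.mem_inf.2 ⟨hb, ?_⟩, rfl⟩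
    refine (Submodule.restrictScalars_mem F I b).2 (hnzd b ?_)
    have h : g * b ∈ I := (Submodule.restrictScalars_mem F I _).1 hxI
    rwa [mul_comm] at h
  · intro x hx
    obtain ⟨b, hb', rfl⟩ := Submodule.mem_map.1 hx
    obtain ⟨hb, hbI⟩ := Submodule.mem_inf.1 hb'
    refine Submodule.mem_inf.2 ⟨Submodule.mem_inf.2 ⟨?_, ?_⟩, Submodule.mem_map.2 ⟨b, hb, rfl⟩⟩
    · show g * b ∈ 𝒜 u
      have h := SetLike.mul_mem_graded hg hb
      rwa [Nat.add_sub_cancel' hu] at h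
    · refine (Submodule.restrictScalars_mem F I _).2 ?_
      show g * b ∈ I
      exact I.mul_mem_left g ((Submodule.restrictScalars_mem F I b).1 hbI)

theorem step [IsDomain A] (hfd : ∀ u, Module.Finite F (𝒜 u)) {I : Ideal A}
    (hI : I.IsHomogeneous 𝒜) {g : A} {ε : ℕ} (hg : g ∈ 𝒜 ε) (hnzd : ∀ b, b * g ∈ I → b ∈ I)
    (u : ℕ) :
    hh 𝒜 (I ⊔ Ideal.span {g}) u + (if ε ≤ u then hh 𝒜 I (u - ε) else 0) = hh 𝒜 I u := by
  by_cases hg0 : g = 0
  · have hIt : I = ⊤ := by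
      rw [Ideal.eq_top_iff_one]
      apply hnzd
      rw [hg0, mul_zero]
      exact I.zero_mem
    subst hIt
    rw [top_sup_eq, hh_top]
    by_cases hu : ε ≤ u
    · rw [if_pos hu, hh_top]
    · rw [if_neg hu]
  · haveI := hfd u
    have e1 := hh_add 𝒜 (I ⊔ Ideal.span {g}) u
    have e2 := hh_add 𝒜 I u
    by_cases hu : ε ≤ u
    · haveI := hfd (u - ε)
      have e3 := hh_add 𝒜 I (u - ε)
      have hinj : Function.Injective (LinearMap.mulLeft F g) := by
        intro a b hab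
        have hab' : g * a = g * b := hab
        exact mul_left_cancel₀ hg0 hab'
      haveI : Module.Finite F ↥((𝒜 (u - ε)).map (LinearMap.mulLeft F g)) := Module.Finite.map _ _
      have e4 := Submodule.finrank_sup_add_finrank_inf_eq (𝒜 u ⊓ I.restrictScalars F)
        ((𝒜 (u - ε)).map (LinearMap.mulLeft F g))
      have e5 : Module.finrank F ↥((𝒜 (u - ε)).map (LinearMap.mulLeft F g)) =
          Module.finrank F ↥(𝒜 (u - ε)) :=
        (Submodule.equivMapOfInjective _ hinj _).finrank_eq.symm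
      have e6 : Module.finrank F
          ↥((𝒜 (u - ε) ⊓ I.restrictScalars F).map (LinearMap.mulLeft F g)) =
          Module.finrank F ↥(𝒜 (u - ε) ⊓ I.restrictScalars F) :=
        (Submodule.equivMapOfInjective _ hinj _).finrank_eq.symm
      rw [← step_sup 𝒜 hI hg hu, step_inf 𝒜 hg hu hnzd, e5, e6] at e4
      rw [if_pos hu]
      omega
    · rw [step_inf_lt 𝒜 hI hg hu] at e1
      rw [if_neg hu]
      omega

theorem HS_step [IsDomain A] (hfd : ∀ u, Module.Finite F (𝒜 u)) {I : Ideal A}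
    (hI : I.IsHomogeneous 𝒜) {g : A} {ε : ℕ} (hg : g ∈ 𝒜 ε) (hnzd : ∀ b, b * g ∈ I → b ∈ I) :
    HS 𝒜 (I ⊔ Ideal.span {g}) = (1 - PowerSeries.X ^ ε) * HS 𝒜 I := by
  ext u
  have h := step 𝒜 hfd hI hg hnzd u
  rw [sub_mul, one_mul, map_sub, PowerSeries.coeff_X_pow_mul']
  unfold HS
  simp only [PowerSeries.coeff_mk]
  by_cases hu : ε ≤ u
  · rw [if_pos hu] at h ⊢
    omega
  · rw [if_neg hu] at h ⊢
    omega

theorem HS_chain [IsDomain A] (hfd : ∀ u, Module.Finite F (𝒜 u)) (g' : ℕ → A) (ε' : ℕ → ℕ)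
    (hg' : ∀ i, g' i ∈ 𝒜 (ε' i)) (n : ℕ)
    (hnzd : ∀ j, j < n → ∀ b, b * g' j ∈ JJ g' j → b ∈ JJ g' j) :
    HS 𝒜 (JJ g' n) = (∏ j ∈ Finset.range n, (1 - PowerSeries.X ^ (ε' j))) * HS 𝒜 ⊥ := by
  induction n with
  | zero => rw [JJ_zero, Finset.range_zero, Finset.prod_empty, one_mul]
  | succ n ih =>
    rw [JJ_succ, HS_step 𝒜 hfd (JJ_homog 𝒜 hg' n) (hg' n) (hnzd n (Nat.lt_succ_self n)),
      ih (fun j hj => hnzd j (Nat.lt_succ_of_lt hj)), Finset.prod_range_succ]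
    ring

end General

section MvPoly

open MvPolynomial

variable {F : Type*} [Field F] {k : ℕ} (δ : Fin k → ℕ)

attribute [local instance] MvPolynomial.weightedGradedAlgebra

theorem hfd_w (hδ : ∀ i, 0 < δ i) (u : ℕ) :
    Module.Finite F (weightedHomogeneousSubmodule F δ u) :=
  Module.Finite.iff_fg.2 (weightedHomogeneousSubmodule_fg F δ (fun i => (hδ i).ne') u)

theorem X_mem (i : Fin k) :
    (X i : MvPolynomial (Fin k) F) ∈ weightedHomogeneousSubmodule F δ (δ i) :=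
  (mem_weightedHomogeneousSubmodule F δ (δ i) (X i)).2 (isWeightedHomogeneous_X F δ i)

theorem X_nzd (j : Fin k) (s : Set (Fin k)) (hjs : j ∉ s) (b : MvPolynomial (Fin k) F)
    (hb : b * X j ∈ Ideal.span (X '' s : Set (MvPolynomial (Fin k) F))) :
    b ∈ Ideal.span (X '' s : Set (MvPolynomial (Fin k) F)) := by
  rw [mem_ideal_span_X_image] at hb ⊢
  intro m hm
  have hm' : m + Finsupp.single j 1 ∈ (b * X j).support := by
    rw [support_mul_X]
    exact Finset.mem_map.2 ⟨m, hm, rfl⟩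
  obtain ⟨i, his, hi⟩ := hb _ hm'
  refine ⟨i, his, ?_⟩
  have hij : i ≠ j := fun h => hjs (h ▸ his)
  rwa [Finsupp.add_apply, Finsupp.single_apply, if_neg (Ne.symm hij), add_zero] at hi

theorem X_nzd' (j : ℕ) (hj : j < k) (b : MvPolynomial (Fin k) F)
    (hb : b * ext0 (X : Fin k → MvPolynomial (Fin k) F) j ∈
      JJ (ext0 (X : Fin k → MvPolynomial (Fin k) F)) j) :
    b ∈ JJ (ext0 (X : Fin k → MvPolynomial (Fin k) F)) j := by
  rw [JJ_ext0 _ j hj.le] at hb ⊢
  have e : ext0 (X : Fin k → MvPolynomial (Fin k) F) j = X ⟨j, hj⟩ := by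
    unfold ext0
    rw [dif_pos hj]
  rw [e] at hb
  exact X_nzd ⟨j, hj⟩ _ (fun h => lt_irrefl j h) b hb

theorem mem_span_X_of_pos {u : ℕ} (hu : u ≠ 0) {x : MvPolynomial (Fin k) F}
    (hx : x ∈ weightedHomogeneousSubmodule F δ u) :
    x ∈ Ideal.span (Set.range (X : Fin k → MvPolynomial (Fin k) F)) := by
  rw [← Set.image_univ, mem_ideal_span_X_image]
  intro m hm
  have hw : Finsupp.weight δ m = u :=
    (mem_weightedHomogeneousSubmodule F δ u x).1 hx (mem_support_iff.1 hm)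
  have hm0 : m ≠ 0 := by
    rintro rfl
    rw [map_zero] at hw
    exact hu hw.symm
  obtain ⟨i, hi⟩ := DFunLike.ne_iff.1 hm0
  exact ⟨i, Set.mem_univ i, by simpa using hi⟩

theorem deg_zero_eq (hδ : ∀ i, 0 < δ i) :
    weightedHomogeneousSubmodule F δ 0 = Submodule.span F {(1 : MvPolynomial (Fin k) F)} := by
  apply le_antisymm
  · intro x hx
    have hx' := (mem_weightedHomogeneousSubmodule F δ 0 x).1 hx
    have hxC : x = C (coeff 0 x) := by
      ext m
      rw [coeff_C]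
      by_cases hm : 0 = m
      · subst hm
        rw [if_pos rfl]
      · rw [if_neg hm]
        by_contra hc
        have hw := hx' hc
        apply hm
        ext i
        by_contra hi
        have hmi : m i ≠ 0 := fun h0 => hi (by rw [h0]; rfl)
        have hle := Finsupp.le_weight_of_ne_zero' δ hmi
        rw [hw] at hle
        have := hδ i
        omega
    rw [Submodule.mem_span_singleton]
    exact ⟨coeff 0 x, by rw [smul_eq_C_mul, mul_one]; exact hxC.symm⟩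
  · rw [Submodule.span_le, Set.singleton_subset_iff]
    exact (mem_weightedHomogeneousSubmodule F δ 0 1).2 (isWeightedHomogeneous_one F δ)

theorem hh_X (hδ : ∀ i, 0 < δ i) (u : ℕ) :
    hh (weightedHomogeneousSubmodule F δ)
      (Ideal.span (Set.range (X : Fin k → MvPolynomial (Fin k) F))) u = if u = 0 then 1 else 0 := by
  by_cases hu : u = 0
  · subst hu
    rw [if_pos rfl]
    unfold hh Tu
    rw [deg_zero_eq δ hδ, Submodule.map_span, Set.image_singleton]
    apply finrank_span_singleton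
    intro h0
    have h1 : (1 : MvPolynomial (Fin k) F) ∈
        Ideal.span (Set.range (X : Fin k → MvPolynomial (Fin k) F)) :=
      Ideal.Quotient.eq_zero_iff_mem.1 h0
    rw [← Set.image_univ, mem_ideal_span_X_image] at h1
    have h00 : (0 : Fin k →₀ ℕ) ∈ (1 : MvPolynomial (Fin k) F).support := by
      rw [mem_support_iff, coeff_zero_one]
      exact one_ne_zero
    obtain ⟨i, _, hi⟩ := h1 0 h00
    exact hi rfl
  · rw [if_neg hu]
    have : Tu (weightedHomogeneousSubmodule F δ)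
        (Ideal.span (Set.range (X : Fin k → MvPolynomial (Fin k) F))) u = ⊥ := by
      rw [eq_bot_iff]
      intro y hy
      obtain ⟨x, hx, rfl⟩ := Submodule.mem_map.1 hy
      rw [Submodule.mem_bot]
      exact Ideal.Quotient.eq_zero_iff_mem.2 (mem_span_X_of_pos δ hu hx)
    unfold hh
    rw [this, finrank_bot]

theorem HS_X (hδ : ∀ i, 0 < δ i) :
    HS (weightedHomogeneousSubmodule F δ)
      (Ideal.span (Set.range (X : Fin k → MvPolynomial (Fin k) F))) = 1 := by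
  ext u
  unfold HS
  rw [PowerSeries.coeff_mk, hh_X δ hδ, PowerSeries.coeff_one]
  split_ifs <;> simp

/-- S11838: the Hilbert series identity. -/
theorem main838 (hδ : ∀ i, 0 < δ i) (g : Fin k → MvPolynomial (Fin k) F) (ε : Fin k → ℕ)
    (hg : ∀ i, IsWeightedHomogeneous δ (g i) (ε i))
    (hreg : RingTheory.Sequence.IsWeaklyRegular (MvPolynomial (Fin k) F) (List.ofFn g)) :
    HS (weightedHomogeneousSubmodule F δ) (Ideal.span (Set.range g)) *
        ∏ i : Fin k, (1 - PowerSeries.X ^ (δ i)) =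
      ∏ i : Fin k, (1 - (PowerSeries.X : PowerSeries ℤ) ^ (ε i)) := by
  have hfd := hfd_w (F := F) δ hδ
  have hg' : ∀ i, g i ∈ weightedHomogeneousSubmodule F δ (ε i) :=
    fun i => (mem_weightedHomogeneousSubmodule F δ _ _).2 (hg i)
  have hA := HS_chain (weightedHomogeneousSubmodule F δ) hfd (ext0 g) (ext0 ε)
    (ext0_mem _ g ε hg') k (fun j hj b hb => nzd_of_reg g hreg j hj b hb)
  have hB := HS_chain (weightedHomogeneousSubmodule F δ) hfd
    (ext0 (X : Fin k → MvPolynomial (Fin k) F)) (ext0 δ)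
    (ext0_mem _ _ δ (X_mem δ)) k (fun j hj b hb => X_nzd' j hj b hb)
  rw [JJ_range, prod_ext0] at hA hB
  rw [HS_X δ hδ] at hB
  rw [hA]
  calc _ = (∏ i : Fin k, (1 - (PowerSeries.X : PowerSeries ℤ) ^ (ε i))) *
        ((∏ i : Fin k, (1 - PowerSeries.X ^ (δ i))) *
          HS (weightedHomogeneousSubmodule F δ) ⊥) := by ring
    _ = _ := by rw [← hB, mul_one]

end MvPoly

end Groth.Agent.Lib.Helper6.GrCIA
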