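import Mathlib
import Groth.Agent.Lib.Helper6.GrassA

/-!
# The ring `ℤ[F, V] / (F V - q)`

`P2 = ℤ[F, V]`, `r0 = F V - q`.  Clearing of `V`, the prime ideal `(F V - q)`,
and regularity of monic polynomials in `V` modulo `(F, q)`.
-/

set_option autoImplicit false

noncomputable section

namespace Groth.Agent.Lib.Helper6.WeilA

open MvPolynomial Groth.Agent.Lib.Helper6.PermReg Groth.Agent.Lib.Helper6.GrassA

/-- `ℤ[F, V]` -/
abbrev P2 := MvPolynomial (Fin 2) ℤ

theorem Reg_pow {A : Type*} [CommRing A] {J : Ideal A} {a : A} (h : Reg J a) (N : ℕ) :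
    Reg J (a ^ N) := by
  induction N with
  | zero => rw [pow_zero]; exact Reg_one J
  | succ N ih => rw [pow_succ]; exact Reg_mul ih h

section Theta

variable {S : Type*} [CommRing S] (t s : S)

/-- evaluation `F ↦ t`, `V ↦ s` (as a ring homomorphism) -/
def theta : P2 →+* S := MvPolynomial.eval₂Hom (Int.castRingHom S) ![t, s]

theorem theta_X0 : theta t s (X 0) = t := by
  unfold theta
  rw [MvPolynomial.eval₂Hom_X']
  rfl

theorem theta_X1 : theta t s (X 1) = s := by
  unfold theta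
  rw [MvPolynomial.eval₂Hom_X']
  rfl

theorem theta_C (a : ℤ) : theta t s (C a) = (a : S) := by
  unfold theta
  rw [MvPolynomial.eval₂Hom_C]
  rfl

theorem theta_aeval0 (G : Polynomial ℤ) :
    theta t s (Polynomial.aeval (X 0 : P2) G) = Polynomial.eval₂ (Int.castRingHom S) t G := by
  rw [Polynomial.aeval_def, Polynomial.hom_eval₂, theta_X0]
  congr 1
  exact Subsingleton.elim _ _

theorem theta_aeval1 (G : Polynomial ℤ) :
    theta t s (Polynomial.aeval (X 1 : P2) G) = Polynomial.eval₂ (Int.castRingHom S) s G := by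
  rw [Polynomial.aeval_def, Polynomial.hom_eval₂, theta_X1]
  congr 1
  exact Subsingleton.elim _ _

theorem theta_unique (f : P2 →+* S) (h0 : f (X 0) = t) (h1 : f (X 1) = s) : f = theta t s := by
  apply MvPolynomial.ringHom_ext
  · intro a
    have h : f.comp C = (theta t s).comp C := Subsingleton.elim _ _
    exact RingHom.congr_fun h a
  · intro j
    by_cases hj : j = 0
    · subst hj
      rw [h0, theta_X0]
    · have hj1 : j = 1 := Fin.eq_one_of_ne_zero j hj
      subst hj1
      rw [h1, theta_X1]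

theorem hom_aeval0 {E : Type*} [Ring E] (f : P2 →+* E) (G : Polynomial ℤ) :
    f (Polynomial.aeval (X 0 : P2) G) = Polynomial.eval₂ (Int.castRingHom E) (f (X 0)) G := by
  rw [Polynomial.aeval_def, Polynomial.hom_eval₂]
  congr 1
  exact Subsingleton.elim _ _

theorem eval2_eq_aeval {L : Type*} [Ring L] [Algebra ℤ L] (x : L) (G : Polynomial ℤ) :
    Polynomial.eval₂ (Int.castRingHom L) x G = Polynomial.aeval x G := by
  rw [Polynomial.aeval_def]
  congr 1
  exact Subsingleton.elim _ _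

end Theta

theorem wreg_pair {A : Type*} [CommRing A] [IsDomain A] (a b : A) (ha : a ≠ 0)
    (hb : Reg (Ideal.span {a}) b) : RingTheory.Sequence.IsWeaklyRegular A [a, b] := by
  have e : [a, b] = List.ofFn ![a, b] := rfl
  rw [e, isWeaklyRegular_ofFn_iff]
  intro i
  by_cases hi : i = 0
  · subst hi
    have h0 : {j : Fin 2 | j < 0} = ∅ := by
      ext j
      constructor
      · intro h
        exact absurd h (Fin.not_lt_zero j)
      · intro h
        exact absurd h (Set.notMem_empty j)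
    rw [h0, Set.image_empty, Ideal.span_empty]
    intro x hx
    have hx' : a * x = 0 := (Ideal.mem_bot).1 hx
    rcases mul_eq_zero.1 hx' with h | h
    · exact absurd h ha
    · rw [h]
      exact Ideal.zero_mem _
  · have hi1 : i = 1 := Fin.eq_one_of_ne_zero i hi
    subst hi1
    have h0 : {j : Fin 2 | j < 1} = {0} := by
      ext j
      constructor
      · intro h
        exact (Fin.lt_one_iff j).1 h
      · intro h
        exact (Fin.lt_one_iff j).2 h
    rw [h0, Set.image_singleton]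
    exact hb


variable (q : ℤ)

/-- the relation `F V - q` -/
def r0 : P2 := X 0 * X 1 - C q

/-- the ideal `(F V - q)` -/
def I0 : Ideal P2 := Ideal.span {r0 q}

theorem r0_mem : r0 q ∈ I0 q := Ideal.mem_span_singleton_self _

theorem theta_r0 {S : Type*} [CommRing S] (t s : S) (h : t * s = (q : S)) :
    theta t s (r0 q) = 0 := by
  unfold r0
  rw [map_sub, map_mul, theta_X0, theta_X1, theta_C, h, sub_self]

theorem theta_I0 {S : Type*} [CommRing S] (t s : S) (h : t * s = (q : S)) (x : P2)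
    (hx : x ∈ I0 q) : theta t s x = 0 := by
  obtain ⟨y, rfl⟩ := Ideal.mem_span_singleton'.1 hx
  rw [map_mul, theta_r0 q t s h, mul_zero]

/-- `F ↦ 0`, `V ↦ x` -/
def tau0 : P2 →+* Polynomial ℤ := theta (0 : Polynomial ℤ) Polynomial.X

theorem T0 (z : P2) :
    z - Polynomial.aeval (X 1 : P2) (tau0 z) ∈ Ideal.span {(X 0 : P2)} := by
  refine MvPolynomial.induction_on
    (motive := fun z => z - Polynomial.aeval (X 1 : P2) (tau0 z) ∈ Ideal.span {(X 0 : P2)})
    z ?_ ?_ ?_
  · intro a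
    have h1 : tau0 (C a) = Polynomial.C a := by
      unfold tau0
      rw [theta_C]
      exact (eq_intCast Polynomial.C a).symm
    rw [h1, Polynomial.aeval_C]
    have h2 : algebraMap ℤ P2 a = C a := rfl
    rw [h2, sub_self]
    exact Ideal.zero_mem _
  · intro p₁ p₂ h₁ h₂
    have e : p₁ + p₂ - Polynomial.aeval (X 1 : P2) (tau0 (p₁ + p₂)) =
        (p₁ - Polynomial.aeval (X 1 : P2) (tau0 p₁)) +
          (p₂ - Polynomial.aeval (X 1 : P2) (tau0 p₂)) := by
      rw [map_add, map_add]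
      ring
    rw [e]
    exact Ideal.add_mem _ h₁ h₂
  · intro p₁ j h₁
    by_cases hj : j = 0
    · subst hj
      have h2 : tau0 (X 0) = 0 := theta_X0 _ _
      rw [map_mul, h2, mul_zero, map_zero, sub_zero]
      exact Ideal.mul_mem_left _ _ (Ideal.mem_span_singleton_self _)
    · have hj1 : j = 1 := Fin.eq_one_of_ne_zero j hj
      subst hj1
      have h2 : tau0 (X 1) = Polynomial.X := theta_X1 _ _
      have e : p₁ * X 1 - Polynomial.aeval (X 1 : P2) (tau0 (p₁ * X 1)) =
          (p₁ - Polynomial.aeval (X 1 : P2) (tau0 p₁)) * X 1 := by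
        rw [map_mul, h2, map_mul, Polynomial.aeval_X]
        ring
      rw [e]
      exact Ideal.mul_mem_right _ _ h₁

/-- clearing `V`: `g F^N ≡ G(F)` modulo `F V - q` -/
theorem clearV (g : P2) : ∃ (N : ℕ) (G : Polynomial ℤ),
    g * X 0 ^ N - Polynomial.aeval (X 0 : P2) G ∈ I0 q := by
  refine MvPolynomial.induction_on
    (motive := fun g => ∃ (N : ℕ) (G : Polynomial ℤ),
      g * X 0 ^ N - Polynomial.aeval (X 0 : P2) G ∈ I0 q) g ?_ ?_ ?_
  · intro a
    refine ⟨0, Polynomial.C a, ?_⟩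
    rw [pow_zero, mul_one, Polynomial.aeval_C]
    have h2 : algebraMap ℤ P2 a = C a := rfl
    rw [h2, sub_self]
    exact Ideal.zero_mem _
  · rintro g₁ g₂ ⟨N₁, G₁, h₁⟩ ⟨N₂, G₂, h₂⟩
    refine ⟨N₁ + N₂, Polynomial.X ^ N₂ * G₁ + Polynomial.X ^ N₁ * G₂, ?_⟩
    have e : (g₁ + g₂) * X 0 ^ (N₁ + N₂) -
        Polynomial.aeval (X 0 : P2) (Polynomial.X ^ N₂ * G₁ + Polynomial.X ^ N₁ * G₂) =
        (g₁ * X 0 ^ N₁ - Polynomial.aeval (X 0 : P2) G₁) * X 0 ^ N₂ +
          (g₂ * X 0 ^ N₂ - Polynomial.aeval (X 0 : P2) G₂) * X 0 ^ N₁ := by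
      rw [map_add, map_mul, map_mul, map_pow, map_pow, Polynomial.aeval_X]
      ring
    rw [e]
    exact Ideal.add_mem _ (Ideal.mul_mem_right _ _ h₁) (Ideal.mul_mem_right _ _ h₂)
  · rintro g j ⟨N, G, hG⟩
    by_cases hj : j = 0
    · subst hj
      refine ⟨N, Polynomial.X * G, ?_⟩
      have e : g * X 0 * X 0 ^ N - Polynomial.aeval (X 0 : P2) (Polynomial.X * G) =
          (g * X 0 ^ N - Polynomial.aeval (X 0 : P2) G) * X 0 := by
        rw [map_mul, Polynomial.aeval_X]
        ring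
      rw [e]
      exact Ideal.mul_mem_right _ _ hG
    · have hj1 : j = 1 := Fin.eq_one_of_ne_zero j hj
      subst hj1
      refine ⟨N + 1, Polynomial.C q * G, ?_⟩
      have e : g * X 1 * X 0 ^ (N + 1) - Polynomial.aeval (X 0 : P2) (Polynomial.C q * G) =
          (g * X 0 ^ N - Polynomial.aeval (X 0 : P2) G) * (X 0 * X 1) +
            Polynomial.aeval (X 0 : P2) G * r0 q := by
        rw [map_mul, Polynomial.aeval_C]
        have h2 : algebraMap ℤ P2 q = C q := rfl
        rw [h2]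
        unfold r0
        ring
      rw [e]
      exact Ideal.add_mem _ (Ideal.mul_mem_right _ _ hG) (Ideal.mul_mem_left _ _ (r0_mem q))

theorem tau0_r0 : tau0 (r0 q) = - Polynomial.C q := by
  unfold r0 tau0
  rw [map_sub, map_mul, theta_X0, theta_C, zero_mul, zero_sub]
  have h : (Polynomial.C q : Polynomial ℤ) = ((q : ℤ) : Polynomial ℤ) := eq_intCast Polynomial.C q
  rw [h]

theorem Reg_I0_X0 (hq : q ≠ 0) : Reg (I0 q) (X 0) := by
  intro x hx
  obtain ⟨y, hy⟩ := Ideal.mem_span_singleton'.1 hx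
  have h1 := congrArg tau0 hy
  have hX0 : tau0 (X 0) = 0 := theta_X0 _ _
  rw [map_mul, map_mul, hX0, zero_mul, tau0_r0, mul_neg, neg_eq_zero] at h1
  have h2 : tau0 y = 0 := by
    rcases mul_eq_zero.1 h1 with h | h
    · exact h
    · exact absurd (Polynomial.C_eq_zero.1 h) hq
  have h3 := T0 y
  rw [h2, map_zero, sub_zero] at h3
  obtain ⟨y', rfl⟩ := Ideal.mem_span_singleton'.1 h3
  have h4 : x = y' * r0 q := by
    apply mul_left_cancel₀ (X_ne_zero 0 : (X 0 : P2) ≠ 0)
    rw [← hy]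
    ring
  rw [h4]
  exact Ideal.mul_mem_left _ _ (r0_mem q)

/-! ### the embedding into a field -/

/-- the fraction field of `ℤ[x]` -/
abbrev KK := FractionRing (Polynomial ℤ)

/-- the image of `x` -/
def tK : KK := algebraMap (Polynomial ℤ) KK Polynomial.X

theorem tK_ne : tK ≠ 0 := by
  unfold tK
  rw [Ne, map_eq_zero_iff _ (IsFractionRing.injective (Polynomial ℤ) KK)]
  exact Polynomial.X_ne_zero

/-- `F ↦ x`, `V ↦ q / x` -/
def psi : P2 →+* KK := theta tK ((q : KK) / tK)

theorem tK_mul : tK * ((q : KK) / tK) = (q : KK) := by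
  field_simp [tK_ne]

theorem psi_I0 (x : P2) (hx : x ∈ I0 q) : psi q x = 0 :=
  theta_I0 q _ _ (tK_mul q) x hx

theorem eval2_tK (G : Polynomial ℤ) :
    Polynomial.eval₂ (Int.castRingHom KK) tK G = algebraMap (Polynomial ℤ) KK G := by
  have h1 : algebraMap (Polynomial ℤ) KK G =
      algebraMap (Polynomial ℤ) KK (Polynomial.eval₂ Polynomial.C Polynomial.X G) := by
    rw [Polynomial.eval₂_C_X]
  rw [h1, Polynomial.hom_eval₂]
  unfold tK
  congr 1
  exact Subsingleton.elim _ _

theorem eval2_tK_eq_zero (G : Polynomial ℤ)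
    (h : Polynomial.eval₂ (Int.castRingHom KK) tK G = 0) : G = 0 := by
  rw [eval2_tK] at h
  exact (map_eq_zero_iff _ (IsFractionRing.injective (Polynomial ℤ) KK)).1 h

theorem ker_psi (hq : q ≠ 0) : RingHom.ker (psi q) = I0 q := by
  apply le_antisymm
  · intro g hg
    rw [RingHom.mem_ker] at hg
    obtain ⟨N, G, hNG⟩ := clearV q g
    have h1 := psi_I0 q _ hNG
    unfold psi at h1 hg
    rw [map_sub, map_mul, hg, zero_mul, zero_sub, neg_eq_zero, theta_aeval0] at h1
    have hG0 := eval2_tK_eq_zero G h1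
    rw [hG0, map_zero, sub_zero] at hNG
    refine Reg_pow (Reg_I0_X0 q hq) N g ?_
    rwa [mul_comm] at hNG
  · intro x hx
    rw [RingHom.mem_ker]
    exact psi_I0 q x hx

theorem I0_prime (hq : q ≠ 0) : (I0 q).IsPrime := by
  rw [← ker_psi q hq]
  exact RingHom.ker_isPrime _

theorem Reg_I0_of_notMem (hq : q ≠ 0) {x : P2} (hx : x ∉ I0 q) : Reg (I0 q) x := by
  intro y hy
  rcases (I0_prime q hq).mem_or_mem hy with h | h
  · exact absurd h hx
  · exact h

theorem r0_ne_zero (hq : q ≠ 0) : r0 q ≠ 0 := by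
  intro h
  have h1 := congrArg tau0 h
  rw [tau0_r0, map_zero, neg_eq_zero, Polynomial.C_eq_zero] at h1
  exact hq h1

/-! ### reduction modulo `(F, q)` -/

/-- `F ↦ 0`, `V ↦ x`, coefficients modulo `q` -/
def rho : P2 →+* Polynomial (ZMod q.natAbs) :=
  theta (0 : Polynomial (ZMod q.natAbs)) Polynomial.X

theorem cast_q_zero : ((q : ℤ) : ZMod q.natAbs) = 0 :=
  (CharP.intCast_eq_zero_iff (ZMod q.natAbs) q.natAbs q).2 (Int.natAbs_dvd.2 dvd_rfl)

theorem rho_eq_map (z : P2) :
    rho q z = (tau0 z).map (Int.castRingHom (ZMod q.natAbs)) := by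
  refine MvPolynomial.induction_on
    (motive := fun z => rho q z = (tau0 z).map (Int.castRingHom (ZMod q.natAbs))) z ?_ ?_ ?_
  · intro a
    unfold rho tau0
    rw [theta_C, theta_C, Polynomial.map_intCast]
  · intro p₁ p₂ h₁ h₂
    rw [map_add, map_add, Polynomial.map_add, h₁, h₂]
  · intro p₁ j h₁
    rw [map_mul, map_mul, Polynomial.map_mul, h₁]
    congr 1
    by_cases hj : j = 0
    · subst hj
      unfold rho tau0
      rw [theta_X0, theta_X0, Polynomial.map_zero]
    · have hj1 : j = 1 := Fin.eq_one_of_ne_zero j hj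
      subst hj1
      unfold rho tau0
      rw [theta_X1, theta_X1, Polynomial.map_X]

theorem rho_J2 (x : P2) (hx : x ∈ I0 q ⊔ Ideal.span {(X 0 : P2)}) : rho q x = 0 := by
  obtain ⟨a, ha, b, hb, rfl⟩ := Submodule.mem_sup.1 hx
  obtain ⟨c, rfl⟩ := Ideal.mem_span_singleton'.1 hb
  have h1 : rho q a = 0 := by
    unfold rho
    refine theta_I0 q _ _ ?_ a ha
    rw [zero_mul]
    have h2 : ((q : ℤ) : Polynomial (ZMod q.natAbs)) =
        Polynomial.C ((q : ℤ) : ZMod q.natAbs) :=
      (map_intCast (Polynomial.C : ZMod q.natAbs →+* Polynomial (ZMod q.natAbs)) q).symm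
    rw [h2, cast_q_zero, Polynomial.C_0]
  have h3 : rho q (X 0) = 0 := theta_X0 _ _
  rw [map_add, map_mul, h1, h3, mul_zero, add_zero]

theorem ker_rho_le (z : P2) (hz : rho q z = 0) : z ∈ I0 q ⊔ Ideal.span {(X 0 : P2)} := by
  have h1 := T0 z
  rw [rho_eq_map] at hz
  have h2 : Polynomial.C q ∣ tau0 z := by
    rw [Polynomial.C_dvd_iff_dvd_coeff]
    intro i
    have h3 := congrArg (fun f => Polynomial.coeff f i) hz
    simp only [Polynomial.coeff_map, Polynomial.coeff_zero] at h3
    have h4 : (((tau0 z).coeff i : ℤ) : ZMod q.natAbs) = 0 := h3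
    rw [CharP.intCast_eq_zero_iff (ZMod q.natAbs) q.natAbs] at h4
    exact Int.natAbs_dvd.1 h4
  obtain ⟨r', hr'⟩ := h2
  have h5 : Polynomial.aeval (X 1 : P2) (tau0 z) = C q * Polynomial.aeval (X 1 : P2) r' := by
    rw [hr', map_mul, Polynomial.aeval_C]
    rfl
  have h6 : (C q : P2) ∈ I0 q ⊔ Ideal.span {(X 0 : P2)} := by
    have e : (C q : P2) = -(r0 q) + X 1 * X 0 := by
      unfold r0
      ring
    rw [e]
    exact Ideal.add_mem _ (Ideal.mem_sup_left (Ideal.neg_mem_iff _ |>.2 (r0_mem q)))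
      (Ideal.mem_sup_right (Ideal.mul_mem_left _ _ (Ideal.mem_span_singleton_self _)))
  have e : z = (z - Polynomial.aeval (X 1 : P2) (tau0 z)) +
      C q * Polynomial.aeval (X 1 : P2) r' := by
    rw [← h5]
    ring
  rw [e]
  exact Ideal.add_mem _ (Ideal.mem_sup_right h1) (Ideal.mul_mem_right _ _ h6)

theorem Reg_J2_monic (M : Polynomial ℤ) (hM : M.Monic) :
    Reg (I0 q ⊔ Ideal.span {(X 0 : P2)}) (Polynomial.aeval (X 1 : P2) M) := by
  intro z hz
  apply ker_rho_le q
  have h1 := rho_J2 q _ hz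
  have h2 : rho q (Polynomial.aeval (X 1 : P2) M) =
      M.map (Int.castRingHom (ZMod q.natAbs)) := by
    have h3 : M.map (Int.castRingHom (ZMod q.natAbs)) =
        Polynomial.eval₂ (Polynomial.C.comp (Int.castRingHom (ZMod q.natAbs))) Polynomial.X M :=
      rfl
    unfold rho
    rw [theta_aeval1, h3]
    congr 1
  rw [map_mul, h2] at h1
  exact (hM.map _).mul_right_eq_zero_iff.1 h1

end Groth.Agent.Lib.Helper6.WeilA
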