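import Mathlib

/-!
# Weil polynomials: the functional equation and divisibility

For a monic separable integer polynomial all of whose complex roots have absolute value `√q`, the
coefficients satisfy `a_{n-j} q^{n-j} = a_0 a_j`.  For a family of pairwise nonconjugate integral
elements, an integer polynomial vanishing at all of them is divisible by the product of the
minimal polynomials.
-/

set_option autoImplicit false

noncomputable section

namespace Groth.Agent.Lib.Helper6.WeilB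

open Polynomial

/-- functional equation for a monic separable integer polynomial all of whose complex roots have
absolute value `√q` -/
theorem FEc (P : ℤ[X]) (hmonic : P.Monic) (q : ℤ) (hq : 0 < q)
    (hsep : (P.map (Int.castRingHom ℂ)).Separable)
    (hweil : ∀ z ∈ (P.map (Int.castRingHom ℂ)).roots, ‖z‖ = Real.sqrt (q : ℝ)) :
    ∀ j ≤ P.natDegree,
      P.coeff (P.natDegree - j) * q ^ (P.natDegree - j) = P.coeff 0 * P.coeff j := by
  classical
  obtain ⟨n, hn⟩ : ∃ n, n = P.natDegree := ⟨_, rfl⟩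
  rw [← hn]
  obtain ⟨Pc, hPc⟩ : ∃ Pc : ℂ[X], Pc = P.map (Int.castRingHom ℂ) := ⟨_, rfl⟩
  rw [← hPc] at hsep hweil
  have hPcmonic : Pc.Monic := by rw [hPc]; exact hmonic.map _
  have hPcdeg : Pc.natDegree = n := by rw [hn, hPc]; exact hmonic.natDegree_map _
  have hPc0 : Pc ≠ 0 := hPcmonic.ne_zero
  have hqpos : (0:ℝ) < (q:ℝ) := Int.cast_pos.mpr hq
  obtain ⟨qc, hqc⟩ : ∃ qc : ℂ, qc = (q : ℂ) := ⟨_, rfl⟩
  have hqreal : (((q:ℝ) : ℝ) : ℂ) = qc := by rw [hqc]; exact Complex.ofReal_intCast q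
  obtain ⟨a, ha⟩ : ∃ a : ℕ → ℂ, a = fun i => (P.coeff i : ℂ) := ⟨_, rfl⟩
  have hcoeff : ∀ i, Pc.coeff i = a i := fun i => by simp [hPc, ha, coeff_map]
  have hnodup : Pc.roots.Nodup := nodup_roots hsep
  have hcard : Pc.roots.card = n := by
    rw [← hPcdeg]; exact splits_iff_card_roots.mp (IsAlgClosed.splits Pc)
  obtain ⟨S, hS⟩ : ∃ S, S = Pc.roots.toFinset := ⟨_, rfl⟩
  have hScard : S.card = n := by rw [hS, Multiset.toFinset_card_of_nodup hnodup, hcard]
  have hmemS : ∀ z, z ∈ S ↔ eval z Pc = 0 := fun z => by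
    rw [hS, Multiset.mem_toFinset, mem_roots hPc0, IsRoot.def]
  have hconj : ∀ z, eval z Pc = 0 → eval (starRingEnd ℂ z) Pc = 0 := by
    intro z hz
    have : eval (starRingEnd ℂ z) Pc = starRingEnd ℂ (eval z Pc) := by
      rw [hPc, eval_map, eval_map, hom_eval₂]
      congr 1
      exact Subsingleton.elim _ _
    rw [this, hz, map_zero]
  have hzz : ∀ z, eval z Pc = 0 → z * starRingEnd ℂ z = qc := by
    intro z hz
    have hzr : z ∈ Pc.roots := (mem_roots hPc0).mpr hz
    rw [Complex.mul_conj, Complex.normSq_eq_norm_sq, hweil z hzr, Real.sq_sqrt hqpos.le, hqreal]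
  -- the polynomial Q
  obtain ⟨Q, hQ⟩ : ∃ Q : ℂ[X], Q = ∑ i ∈ Finset.range (n+1), C (a i * qc^i) * X^(n-i) :=
    ⟨_, rfl⟩
  have hQeval : ∀ w w' : ℂ, w * w' = qc → eval w Q = w^n * eval w' Pc := by
    intro w w' hww
    rw [hQ, eval_finsetSum, eval_eq_sum_range, hPcdeg, Finset.mul_sum]
    refine Finset.sum_congr rfl fun i hi => ?_
    have hi' : i ≤ n := Nat.lt_succ_iff.mp (Finset.mem_range.mp hi)
    rw [eval_mul, eval_C, eval_pow, eval_X, hcoeff, ← hww, mul_pow]
    have : w^n = w^i * w^(n-i) := by rw [← pow_add, Nat.add_sub_cancel' hi']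
    rw [this]; ring
  have hQcoeff : ∀ j, j ≤ n → Q.coeff j = a (n-j) * qc^(n-j) := by
    intro j hj
    rw [hQ, finsetSum_coeff, Finset.sum_eq_single (n-j)]
    · rw [coeff_C_mul_X_pow, if_pos (by omega)]
    · intro i hi hne
      rw [coeff_C_mul_X_pow, if_neg]
      have := Finset.mem_range.mp hi
      omega
    · intro h; exfalso; apply h; rw [Finset.mem_range]; omega
  have hQdeg : Q.natDegree ≤ n := by
    rw [hQ]
    apply natDegree_sum_le_of_forall_le
    intro i _
    exact (natDegree_C_mul_X_pow_le _ _).trans (Nat.sub_le _ _)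
  have han : a n = 1 := by
    rw [ha]
    show ((P.coeff n : ℤ) : ℂ) = 1
    rw [hn, hmonic.coeff_natDegree]; simp
  have hD : Q = C (a 0) * Pc := by
    by_contra hne
    obtain ⟨D, hDdef⟩ : ∃ D, D = Q - C (a 0) * Pc := ⟨_, rfl⟩
    have hD0 : D ≠ 0 := by rw [hDdef]; exact sub_ne_zero.mpr hne
    have hDle : D.natDegree ≤ n := by
      rw [hDdef]
      exact (natDegree_sub_le _ _).trans
        (max_le hQdeg ((natDegree_C_mul_le _ _).trans hPcdeg.le))
    have hDn : D.coeff n = 0 := by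
      rw [hDdef, coeff_sub, hQcoeff n le_rfl, coeff_C_mul, hcoeff, han]
      simp
    have hDlt : D.natDegree < S.card := by
      rw [hScard]
      rcases lt_or_eq_of_le hDle with h | h
      · exact h
      · exfalso; apply hD0; rw [← leadingCoeff_eq_zero, leadingCoeff, h]; exact hDn
    apply hD0
    apply eq_zero_of_natDegree_lt_card_of_eval_eq_zero' D S _ hDlt
    intro z hz
    rw [hmemS] at hz
    rw [hDdef, eval_sub, eval_mul, eval_C, hz, mul_zero, sub_zero, hQeval z _ (hzz z hz),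
      hconj z hz, mul_zero]
  have hstar : ∀ j, j ≤ n → a (n-j) * qc^(n-j) = a 0 * a j := by
    intro j hj
    rw [← hQcoeff j hj, hD, coeff_C_mul, hcoeff]
  intro j hj
  have h' : ((P.coeff (n-j) : ℤ) : ℂ) * (q:ℂ)^(n-j) =
      ((P.coeff 0 : ℤ):ℂ) * ((P.coeff j : ℤ) : ℂ) := by
    have := hstar j hj
    rw [ha, hqc] at this
    exact this
  exact_mod_cast h'

section Family

universe u

variable {ι : Type} [Fintype ι] {K : ι → Type u} [∀ i, Field (K i)] [∀ i, CharZero (K i)]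
  (π : ∀ i, K i) (hint : ∀ i, IsIntegral ℤ (π i))

/-- the product of the minimal polynomials -/
def Pw : ℤ[X] := ∏ i, minpoly ℤ (π i)

include hint

theorem Pw_monic : (Pw π).Monic :=
  monic_prod_of_monic _ _ (fun i _ => minpoly.monic (hint i))

theorem Pw_natDegree : (Pw π).natDegree = ∑ i, (minpoly ℤ (π i)).natDegree :=
  natDegree_prod_of_monic _ _ (fun i _ => minpoly.monic (hint i))

theorem minpolyQ (i : ι) :
    minpoly ℚ (π i) = (minpoly ℤ (π i)).map (algebraMap ℤ ℚ) :=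
  minpoly.isIntegrallyClosed_eq_field_fractions' ℚ (hint i)

theorem irrQ (i : ι) : Irreducible (minpoly ℚ (π i)) :=
  minpoly.irreducible (hint i).tower_top

theorem coprimeQ (hinj : ∀ i j, minpoly ℤ (π i) = minpoly ℤ (π j) → i = j) (i j : ι)
    (hij : i ≠ j) : IsCoprime (minpoly ℚ (π i)) (minpoly ℚ (π j)) := by
  have hi := irrQ π hint i
  have hj := irrQ π hint j
  rw [hi.coprime_iff_not_dvd]
  intro hd
  have h1 := eq_of_monic_of_associated (minpoly.monic (hint i).tower_top)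
    (minpoly.monic (hint j).tower_top) (hi.associated_of_dvd hj hd)
  rw [minpolyQ π hint i, minpolyQ π hint j] at h1
  have h2 := Polynomial.map_injective (algebraMap ℤ ℚ) (IsFractionRing.injective ℤ ℚ) h1
  exact hij (hinj i j h2)

theorem prodQ_eq : ∏ i, minpoly ℚ (π i) = (Pw π).map (algebraMap ℤ ℚ) := by
  unfold Pw
  rw [Polynomial.map_prod]
  exact Finset.prod_congr rfl (fun i _ => minpolyQ π hint i)

/-- an integer polynomial vanishing at all `π i` is divisible by the product of the minimal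
polynomials -/
theorem B2 (hinj : ∀ i j, minpoly ℤ (π i) = minpoly ℤ (π j) → i = j) (G : ℤ[X])
    (hG : ∀ i, eval₂ (Int.castRingHom (K i)) (π i) G = 0) : Pw π ∣ G := by
  have h1 : ∀ i, minpoly ℚ (π i) ∣ G.map (algebraMap ℤ ℚ) := by
    intro i
    apply minpoly.dvd
    rw [aeval_def, eval₂_map]
    have e : (algebraMap ℚ (K i)).comp (algebraMap ℤ ℚ) = Int.castRingHom (K i) :=
      Subsingleton.elim _ _
    rw [e]
    exact hG i
  have h2 : ∏ i, minpoly ℚ (π i) ∣ G.map (algebraMap ℤ ℚ) :=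
    Finset.prod_dvd_of_coprime (fun i _ j _ hij => coprimeQ π hint hinj i j hij)
      (fun i _ => h1 i)
  rw [prodQ_eq π hint] at h2
  exact (map_dvd_map (algebraMap ℤ ℚ) (IsFractionRing.injective ℤ ℚ) (Pw_monic π hint)).1 h2

theorem Pw_sep (hinj : ∀ i j, minpoly ℤ (π i) = minpoly ℤ (π j) → i = j) :
    ((Pw π).map (Int.castRingHom ℂ)).Separable := by
  have h1 : (∏ i, minpoly ℚ (π i)).Separable :=
    separable_prod' (fun i _ j _ hij => coprimeQ π hint hinj i j hij)
      (fun i _ => (irrQ π hint i).separable)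
  rw [prodQ_eq π hint] at h1
  have h2 := h1.map (f := algebraMap ℚ ℂ)
  rw [Polynomial.map_map] at h2
  have e : (algebraMap ℚ ℂ).comp (algebraMap ℤ ℚ) = Int.castRingHom ℂ := Subsingleton.elim _ _
  rwa [e] at h2

theorem Pw_weil (q : ℝ)
    (hweil : ∀ i, ∀ z ∈ (minpoly ℤ (π i)).aroots ℂ, ‖z‖ = Real.sqrt q) :
    ∀ z ∈ ((Pw π).map (Int.castRingHom ℂ)).roots, ‖z‖ = Real.sqrt q := by
  intro z hz
  have hne : (Pw π).map (Int.castRingHom ℂ) ≠ 0 := ((Pw_monic π hint).map _).ne_zero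
  rw [mem_roots hne, IsRoot.def] at hz
  unfold Pw at hz
  rw [Polynomial.map_prod, eval_prod, Finset.prod_eq_zero_iff] at hz
  obtain ⟨i, _, hi⟩ := hz
  apply hweil i
  rw [aroots_def, algebraMap_int_eq, mem_roots ((minpoly.monic (hint i)).map _).ne_zero]
  exact hi

theorem Pw_FE (hinj : ∀ i j, minpoly ℤ (π i) = minpoly ℤ (π j) → i = j) (q : ℤ) (hq : 0 < q)
    (hweil : ∀ i, ∀ z ∈ (minpoly ℤ (π i)).aroots ℂ, ‖z‖ = Real.sqrt (q : ℝ)) :
    ∀ j ≤ (Pw π).natDegree,
      (Pw π).coeff ((Pw π).natDegree - j) * q ^ ((Pw π).natDegree - j) =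
        (Pw π).coeff 0 * (Pw π).coeff j :=
  FEc (Pw π) (Pw_monic π hint) q hq (Pw_sep π hint hinj) (Pw_weil π hint _ hweil)

theorem pi_ne_zero (q : ℝ) (hq : 0 < q)
    (hweil : ∀ i, ∀ z ∈ (minpoly ℤ (π i)).aroots ℂ, ‖z‖ = Real.sqrt q) (i : ι) : π i ≠ 0 := by
  intro h0
  obtain ⟨P, hP⟩ : ∃ P, P = minpoly ℤ (π i) := ⟨_, rfl⟩
  have h1 : aeval (π i) P = 0 := by rw [hP]; exact minpoly.aeval ℤ (π i)
  rw [h0, aeval_def, eval₂_at_zero] at h1
  have h1' : ((P.coeff 0 : ℤ) : K i) = 0 :=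
    (eq_intCast (algebraMap ℤ (K i)) (P.coeff 0)).symm.trans h1
  have h2 : P.coeff 0 = 0 := Int.cast_eq_zero.1 h1'
  have hPne : P.map (Int.castRingHom ℂ) ≠ 0 := by
    rw [hP]
    exact ((minpoly.monic (hint i)).map _).ne_zero
  have h3 : (0:ℂ) ∈ P.aroots ℂ := by
    rw [aroots_def, algebraMap_int_eq, mem_roots hPne, IsRoot.def, eval_map, eval₂_at_zero, h2,
      map_zero]
  rw [hP] at h3
  have h4 := hweil i 0 h3
  rw [norm_zero] at h4
  have h5 := Real.sqrt_pos.2 hq
  rw [← h4] at h5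
  exact lt_irrefl _ h5

omit hint in
theorem Pw_root (i : ι) : eval₂ (Int.castRingHom (K i)) (π i) (Pw π) = 0 := by
  unfold Pw
  rw [eval₂_finsetProd]
  apply Finset.prod_eq_zero (Finset.mem_univ i)
  have h1 := minpoly.aeval ℤ (π i)
  rw [aeval_def] at h1
  have e : algebraMap ℤ (K i) = Int.castRingHom (K i) := Subsingleton.elim _ _
  rw [e] at h1
  exact h1

end Family

end Groth.Agent.Lib.Helper6.WeilB
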