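import Mathlib
import Groth.Agent.Lib.Helper6.WeilA
import Groth.Agent.Lib.Helper6.WeilB

/-!
# The minimal central order as a complete intersection
-/

set_option autoImplicit false

noncomputable section

namespace Groth.Agent.Lib.Helper6.WeilC

open MvPolynomial Groth.Agent.Lib.Helper6.PermReg Groth.Agent.Lib.Helper6.GrassA
  Groth.Agent.Lib.Helper6.WeilA Groth.Agent.Lib.Helper6.WeilB

/-- functional equation in a commutative ring -/
theorem FE_field {L : Type*} [CommRing L] (P : Polynomial ℤ) (q : ℤ)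
    (hFE : ∀ j ≤ P.natDegree,
      P.coeff (P.natDegree - j) * q ^ (P.natDegree - j) = P.coeff 0 * P.coeff j)
    (t s : L) (hts : t * s = (q : L)) :
    t ^ P.natDegree * Polynomial.eval₂ (Int.castRingHom L) s P =
      (P.coeff 0 : L) * Polynomial.eval₂ (Int.castRingHom L) t P := by
  obtain ⟨n, hn⟩ : ∃ n, n = P.natDegree := ⟨_, rfl⟩
  rw [← hn] at hFE
  rw [Polynomial.eval₂_eq_sum_range, Polynomial.eval₂_eq_sum_range, ← hn, Finset.mul_sum,
    Finset.mul_sum]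
  have hflip := Finset.sum_flip (n := n)
    (fun i => t ^ n * ((Int.castRingHom L) (P.coeff i) * s ^ i))
  rw [← hflip]
  apply Finset.sum_congr rfl
  intro r hr
  have hr' : r ≤ n := Nat.lt_succ_iff.mp (Finset.mem_range.mp hr)
  have h1 := hFE r hr'
  have h2 : ((P.coeff (n - r) : ℤ) : L) * (q : L) ^ (n - r) =
      ((P.coeff 0 : ℤ) : L) * ((P.coeff r : ℤ) : L) := by
    have h2' := congrArg (Int.cast : ℤ → L) h1
    push_cast at h2'
    exact h2'
  have h3 : t ^ n = t ^ r * t ^ (n - r) := by rw [← pow_add, Nat.add_sub_cancel' hr']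
  show t ^ n * ((Int.castRingHom L) (P.coeff (n - r)) * s ^ (n - r)) =
    ((P.coeff 0 : ℤ) : L) * ((Int.castRingHom L) (P.coeff r) * t ^ r)
  rw [eq_intCast, eq_intCast, h3]
  have h4 : t ^ (n - r) * s ^ (n - r) = (q : L) ^ (n - r) := by rw [← mul_pow, hts]
  linear_combination ((P.coeff (n - r) : ℤ) : L) * t ^ r * h4 + t ^ r * h2

/-- the symmetry `V^D h ≡ ε P(V)` -/
theorem SYM (q : ℤ) (hq : q ≠ 0) (P : Polynomial ℤ) (D : ℕ) (hdeg : P.natDegree = 2 * D)
    (hmonic : P.Monic)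
    (hFE : ∀ j ≤ P.natDegree,
      P.coeff (P.natDegree - j) * q ^ (P.natDegree - j) = P.coeff 0 * P.coeff j)
    (h : P2) (hh : X 0 ^ D * h - Polynomial.aeval (X 0 : P2) P ∈ I0 q) :
    ∃ ε : ℤ, ε * ε = 1 ∧ X 1 ^ D * h - C ε * Polynomial.aeval (X 1 : P2) P ∈ I0 q := by
  have h0 := hFE 0 (Nat.zero_le _)
  rw [Nat.sub_zero, hmonic.coeff_natDegree, one_mul, hdeg] at h0
  have h1 : (P.coeff 0) ^ 2 = (q ^ D) ^ 2 := by
    rw [← pow_mul, mul_comm D 2, h0]
    ring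
  obtain ⟨ε, hε, ha0⟩ : ∃ ε : ℤ, ε * ε = 1 ∧ P.coeff 0 = ε * q ^ D := by
    rcases sq_eq_sq_iff_eq_or_eq_neg.1 h1 with h2 | h2
    · exact ⟨1, by norm_num, by rw [h2, one_mul]⟩
    · exact ⟨-1, by norm_num, by rw [h2]; ring⟩
  refine ⟨ε, hε, ?_⟩
  rw [← ker_psi q hq, RingHom.mem_ker]
  have hpsi := psi_I0 q _ hh
  rw [map_sub, map_mul, map_pow] at hpsi
  unfold psi at hpsi ⊢
  rw [theta_X0, theta_aeval0] at hpsi
  rw [map_sub, map_mul, map_mul, map_pow, theta_X1, theta_C, theta_aeval1]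
  have hFEf := FE_field P q hFE tK ((q:KK)/tK) (tK_mul q)
  rw [hdeg] at hFEf
  obtain ⟨s, hs⟩ : ∃ s, s = (q:KK)/tK := ⟨_, rfl⟩
  rw [← hs] at hpsi hFEf ⊢
  obtain ⟨H, hH⟩ : ∃ H, H = theta tK s h := ⟨_, rfl⟩
  rw [← hH] at hpsi ⊢
  have hts : tK * s = (q:KK) := by rw [hs]; exact tK_mul q
  obtain ⟨Pt, hPt⟩ : ∃ Pt, Pt = Polynomial.eval₂ (Int.castRingHom KK) tK P := ⟨_, rfl⟩
  obtain ⟨Ps, hPs⟩ : ∃ Ps, Ps = Polynomial.eval₂ (Int.castRingHom KK) s P := ⟨_, rfl⟩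
  rw [← hPt] at hpsi hFEf
  rw [← hPs] at hFEf ⊢
  have h3 : ((P.coeff 0 : ℤ) : KK) = (ε : KK) * (q : KK) ^ D := by
    rw [ha0]
    push_cast
    ring
  have h4 : tK ^ D * s ^ D = (q : KK) ^ D := by rw [← mul_pow, hts]
  have h5 : (ε : KK) * (ε : KK) = 1 := by exact_mod_cast hε
  apply mul_left_cancel₀ (pow_ne_zero (2 * D) tK_ne)
  linear_combination (tK ^ D * H) * h4 + (q:KK) ^ D * hpsi - (ε:KK) * hFEf -
    (ε:KK) * Pt * h3 - (q:KK) ^ D * Pt * h5

theorem Reg_J2_h (q : ℤ) (P : Polynomial ℤ) (hmonic : P.Monic) (D : ℕ) (h : P2) (ε : ℤ)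
    (hε : ε * ε = 1)
    (hsym : X 1 ^ D * h - C ε * Polynomial.aeval (X 1 : P2) P ∈ I0 q) :
    Reg (I0 q ⊔ Ideal.span {(X 0 : P2)}) h := by
  intro z hz
  have h1 : Polynomial.aeval (X 1 : P2) P * (C ε * z) ∈ I0 q ⊔ Ideal.span {(X 0 : P2)} := by
    have e : Polynomial.aeval (X 1 : P2) P * (C ε * z) =
        X 1 ^ D * (h * z) - z * (X 1 ^ D * h - C ε * Polynomial.aeval (X 1 : P2) P) := by ring
    rw [e]
    exact Ideal.sub_mem _ (Ideal.mul_mem_left _ _ hz)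
      (Ideal.mul_mem_left _ _ (Ideal.mem_sup_left hsym))
  have h2 := Reg_J2_monic q P hmonic _ h1
  have e2 : z = C ε * (C ε * z) := by
    rw [← mul_assoc, ← C_mul, hε, C_1, one_mul]
  rw [e2]
  exact Ideal.mul_mem_left _ _ h2

theorem h_notMem (q : ℤ) (P : Polynomial ℤ) (hmonic : P.Monic) (D : ℕ) (h : P2)
    (hh : X 0 ^ D * h - Polynomial.aeval (X 0 : P2) P ∈ I0 q) : h ∉ I0 q := by
  intro hmem
  have h1 : Polynomial.aeval (X 0 : P2) P ∈ I0 q := by
    have e : Polynomial.aeval (X 0 : P2) P =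
        X 0 ^ D * h - (X 0 ^ D * h - Polynomial.aeval (X 0 : P2) P) := by ring
    rw [e]
    exact Ideal.sub_mem _ (Ideal.mul_mem_left _ _ hmem) hh
  have h2 := psi_I0 q _ h1
  unfold psi at h2
  rw [theta_aeval0] at h2
  exact hmonic.ne_zero (eval2_tK_eq_zero P h2)

universe u

/-- components of a ring map into a product -/
theorem comp_eq {ι : Type} {K : ι → Type u} [∀ i, CommRing (K i)]
    (φ : P2 →+* ((i : ι) → K i)) (i : ι) (g : P2) :
    φ g i = theta (φ (X 0) i) (φ (X 1) i) g := by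
  have h := theta_unique (φ (X 0) i) (φ (X 1) i) ((Pi.evalRingHom K i).comp φ) rfl rfl
  exact RingHom.congr_fun h g

theorem main984 (p e : ℕ) [Fact p.Prime] (he : 0 < e)
    (ι : Type) [Fintype ι] (K : ι → Type u) [∀ i, Field (K i)] [∀ i, CharZero (K i)] (π : ∀ i, K i)
    (hint : ∀ i, IsIntegral ℤ (π i))
    (hweil : ∀ i, ∀ z ∈ (minpoly ℤ (π i)).aroots ℂ, ‖z‖ = Real.sqrt ((p : ℝ) ^ e))
    (hinj : ∀ i j, minpoly ℤ (π i) = minpoly ℤ (π j) → i = j)
    (D : ℕ) (hD : ∑ i, (minpoly ℤ (π i)).natDegree = 2 * D)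
    (h : MvPolynomial (Fin 2) ℤ)
    (hh : X 0 ^ D * h - Polynomial.aeval (X 0 : MvPolynomial (Fin 2) ℤ) (∏ i, minpoly ℤ (π i)) ∈
      Ideal.span ({X 0 * X 1 - C ((p : ℤ) ^ e)} : Set (MvPolynomial (Fin 2) ℤ))) :
    RingHom.ker (MvPolynomial.aeval ![fun i => π i, fun i => ((p : K i) ^ e) / π i] :
        MvPolynomial (Fin 2) ℤ →ₐ[ℤ] ((i : ι) → K i)) =
        Ideal.span {X 0 * X 1 - C ((p : ℤ) ^ e), h} ∧
      RingTheory.Sequence.IsWeaklyRegular (MvPolynomial (Fin 2) ℤ) [X 0 * X 1 - C ((p : ℤ) ^ e), h] := by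
  classical
  obtain ⟨φ, hφ⟩ : ∃ φ : MvPolynomial (Fin 2) ℤ →ₐ[ℤ] ((i : ι) → K i),
      φ = MvPolynomial.aeval ![fun i => π i, fun i => ((p : K i) ^ e) / π i] := ⟨_, rfl⟩
  rw [← hφ]
  obtain ⟨q, hqdef⟩ : ∃ q : ℤ, q = (p : ℤ) ^ e := ⟨_, rfl⟩
  rw [← hqdef] at hh ⊢
  have hqpos : 0 < q := by
    rw [hqdef]
    exact pow_pos (by exact_mod_cast (Fact.out : p.Prime).pos) e
  have hq : q ≠ 0 := hqpos.ne'
  have hcast : ((q:ℤ):ℝ) = (p:ℝ)^e := by rw [hqdef]; simp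
  have hweil' : ∀ i, ∀ z ∈ (minpoly ℤ (π i)).aroots ℂ, ‖z‖ = Real.sqrt ((q:ℤ):ℝ) := by
    intro i z hz
    rw [hweil i z hz, hcast]
  obtain ⟨P, hPdef⟩ : ∃ P, P = Pw π := ⟨_, rfl⟩
  have hmonic : P.Monic := hPdef ▸ Pw_monic π hint
  have hdeg : P.natDegree = 2 * D := by rw [hPdef, Pw_natDegree π hint, hD]
  have hFE := Pw_FE π hint hinj q hqpos hweil'
  rw [← hPdef] at hFE
  have hh' : X 0 ^ D * h - Polynomial.aeval (X 0 : P2) P ∈ I0 q := by
    rw [hPdef]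
    exact hh
  have hpi : ∀ i, π i ≠ 0 :=
    pi_ne_zero π hint _ (by rw [hcast.symm]; exact_mod_cast hqpos) hweil
  have hts : ∀ i, π i * (((p : K i) ^ e) / π i) = ((q:ℤ) : K i) := by
    intro i
    rw [mul_div_cancel₀ _ (hpi i), hqdef]
    push_cast
    rfl
  have hX0 : φ (X 0) = fun i => π i := by
    rw [hφ, aeval_X]
    rfl
  have hX1 : φ (X 1) = fun i => ((p : K i) ^ e) / π i := by
    rw [hφ, aeval_X]
    rfl
  have hcomp : ∀ g i, φ g i = theta (π i) (((p : K i) ^ e) / π i) g := by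
    intro g i
    have h1 := comp_eq (K := K) φ.toRingHom i g
    have e0 : φ.toRingHom (X 0) i = π i := congrFun hX0 i
    have e1 : φ.toRingHom (X 1) i = ((p : K i) ^ e) / π i := congrFun hX1 i
    rw [e0, e1] at h1
    exact h1
  obtain ⟨ε, hε, hsym⟩ := SYM q hq P D hdeg hmonic hFE h hh'
  have hRegX0 : Reg (I0 q ⊔ Ideal.span {h}) (X 0) :=
    reg_swap (Reg_I0_X0 q hq) (Reg_J2_h q P hmonic D h ε hε hsym)
  have hker : RingHom.ker φ = I0 q ⊔ Ideal.span {h} := by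
    apply le_antisymm
    · intro g hg
      rw [RingHom.mem_ker] at hg
      obtain ⟨N, G, hNG⟩ := clearV q g
      have hG : ∀ i, Polynomial.eval₂ (Int.castRingHom (K i)) (π i) G = 0 := by
        intro i
        have h1 := theta_I0 q (π i) (((p : K i) ^ e) / π i) (hts i) _ hNG
        rw [map_sub, map_mul, ← hcomp g i, hg, Pi.zero_apply, zero_mul, zero_sub, neg_eq_zero,
          theta_aeval0] at h1
        exact h1
      obtain ⟨G1, hG1⟩ := B2 π hint hinj G hG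
      have h2 : g * X 0 ^ N ∈ I0 q ⊔ Ideal.span {h} := by
        have e : g * X 0 ^ N = (g * X 0 ^ N - Polynomial.aeval (X 0 : P2) G) -
            (X 0 ^ D * h - Polynomial.aeval (X 0 : P2) P) * Polynomial.aeval (X 0 : P2) G1 +
            (X 0 ^ D * Polynomial.aeval (X 0 : P2) G1) * h := by
          rw [hG1, ← hPdef, map_mul]
          ring
        rw [e]
        exact Ideal.add_mem _ (Ideal.sub_mem _ (Ideal.mem_sup_left hNG)
          (Ideal.mem_sup_left (Ideal.mul_mem_right _ _ hh')))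
          (Ideal.mem_sup_right (Ideal.mul_mem_left _ _ (Ideal.mem_span_singleton_self h)))
      refine Reg_pow hRegX0 N g ?_
      rwa [mul_comm] at h2
    · rw [sup_le_iff]
      constructor
      · intro x hx
        rw [RingHom.mem_ker]
        funext i
        rw [hcomp, Pi.zero_apply]
        exact theta_I0 q _ _ (hts i) x hx
      · rw [Ideal.span_singleton_le_iff_mem, RingHom.mem_ker]
        funext i
        rw [hcomp, Pi.zero_apply]
        have h1 := theta_I0 q (π i) (((p : K i) ^ e) / π i) (hts i) _ hh'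
        rw [map_sub, map_mul, map_pow, theta_X0, theta_aeval0] at h1
        have h2 : Polynomial.eval₂ (Int.castRingHom (K i)) (π i) P = 0 := by
          rw [hPdef]
          exact Pw_root π i
        rw [h2, sub_zero] at h1
        rcases mul_eq_zero.1 h1 with h3 | h3
        · exact absurd h3 (pow_ne_zero D (hpi i))
        · exact h3
  refine ⟨?_, ?_⟩
  · show RingHom.ker φ = Ideal.span {r0 q, h}
    rw [Ideal.span_insert]
    exact hker
  · exact wreg_pair (r0 q) h (r0_ne_zero q hq)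
      (Reg_I0_of_notMem q hq (h_notMem q P hmonic D h hh'))

end Groth.Agent.Lib.Helper6.WeilC
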