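import Mathlib
import Groth.Agent.Lib.Helper6.WeilB
import Groth.Agent.Lib.Helper6.WeilC

/-!
# Ordinary Weil numbers and the middle coefficient
-/

set_option autoImplicit false

noncomputable section

namespace Groth.Agent.Lib.Helper6.WeilE

open Polynomial Groth.Agent.Lib.Helper6.WeilB Groth.Agent.Lib.Helper6.WeilC

section Ultra

variable {M : Type*} [SeminormedAddCommGroup M] [IsUltrametricDist M]

theorem norm_sum_lt_one {ι : Type*} (s : Finset ι) (f : ι → M) (h : ∀ i ∈ s, ‖f i‖ < 1) :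
    ‖∑ i ∈ s, f i‖ < 1 := by
  classical
  induction s using Finset.induction_on with
  | empty => simp
  | insert a s ha ih =>
    rw [Finset.sum_insert ha]
    exact lt_of_le_of_lt (IsUltrametricDist.norm_add_le_max _ _)
      (max_lt (h a (Finset.mem_insert_self a s))
        (ih (fun i hi => h i (Finset.mem_insert_of_mem hi))))

theorem norm_sum_le' {ι : Type*} (s : Finset ι) (f : ι → M) (C : ℝ) (hC : 0 ≤ C)
    (h : ∀ i ∈ s, ‖f i‖ ≤ C) : ‖∑ i ∈ s, f i‖ ≤ C := by
  classical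
  induction s using Finset.induction_on with
  | empty => simpa using hC
  | insert a s ha ih =>
    rw [Finset.sum_insert ha]
    exact le_trans (IsUltrametricDist.norm_add_le_max _ _)
      (max_le (h a (Finset.mem_insert_self a s))
        (ih (fun i hi => h i (Finset.mem_insert_of_mem hi))))

theorem norm_add_eq_one {x y : M} (hx : ‖x‖ = 1) (hy : ‖y‖ < 1) : ‖x + y‖ = 1 := by
  apply le_antisymm
  · exact (IsUltrametricDist.norm_add_le_max x y).trans (max_le hx.le hy.le)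
  · by_contra hlt
    push Not at hlt
    have h1 : ‖x‖ ≤ max ‖x + y‖ ‖-y‖ := by
      have h2 := IsUltrametricDist.norm_add_le_max (x + y) (-y)
      rwa [add_neg_cancel_right] at h2
    rw [norm_neg, hx] at h1
    exact absurd h1 (not_le.2 (max_lt hlt hy))

end Ultra

section Padic

variable (p : ℕ) [hp : Fact p.Prime]

theorem cast_eq (a : ℤ) :
    (a : PadicAlgCl p) = algebraMap ℚ_[p] (PadicAlgCl p) (a : ℚ_[p]) :=
  (map_intCast _ a).symm

theorem norm_intCast_le_one (a : ℤ) : ‖(a : PadicAlgCl p)‖ ≤ 1 := by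
  rw [cast_eq, norm_algebraMap']
  exact Padic.norm_int_le_one a

theorem norm_intCast_lt_one_iff (a : ℤ) : ‖(a : PadicAlgCl p)‖ < 1 ↔ (p : ℤ) ∣ a := by
  rw [cast_eq, norm_algebraMap']
  exact Padic.norm_intCast_lt_one_iff (p := p) (k := a)

theorem root_norm_le_one (P : ℤ[X]) (hm : P.Monic) (z : PadicAlgCl p)
    (hz : eval₂ (Int.castRingHom (PadicAlgCl p)) z P = 0) : ‖z‖ ≤ 1 := by
  by_contra hlt
  push Not at hlt
  obtain ⟨n, hn⟩ : ∃ n, n = P.natDegree := ⟨_, rfl⟩
  rw [eval₂_eq_sum_range, ← hn, Finset.sum_range_succ] at hz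
  have hc : P.coeff n = 1 := by rw [hn]; exact hm.coeff_natDegree
  rw [hc, map_one, one_mul] at hz
  have h1 : z ^ n = -∑ i ∈ Finset.range n, (Int.castRingHom (PadicAlgCl p)) (P.coeff i) * z ^ i :=
    eq_neg_of_add_eq_zero_right hz
  rcases Nat.eq_zero_or_pos n with h0 | hpos
  · rw [h0] at h1
    simp at h1
  · have h2 : ‖∑ i ∈ Finset.range n, (Int.castRingHom (PadicAlgCl p)) (P.coeff i) * z ^ i‖ ≤
        ‖z‖ ^ (n - 1) := by
      apply norm_sum_le' _ _ _ (pow_nonneg (norm_nonneg _) _)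
      intro i hi
      have hi' : i ≤ n - 1 := by
        have := Finset.mem_range.1 hi
        omega
      rw [norm_mul, norm_pow, eq_intCast]
      calc ‖((P.coeff i : ℤ) : PadicAlgCl p)‖ * ‖z‖ ^ i ≤ 1 * ‖z‖ ^ i :=
            mul_le_mul_of_nonneg_right (norm_intCast_le_one p _) (pow_nonneg (norm_nonneg _) _)
        _ = ‖z‖ ^ i := one_mul _
        _ ≤ ‖z‖ ^ (n - 1) := pow_le_pow_right₀ hlt.le hi'
    have h3 : ‖z‖ ^ n ≤ ‖z‖ ^ (n - 1) := by
      rw [← norm_pow, h1, norm_neg]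
      exact h2
    have h4 : ‖z‖ ^ (n - 1) < ‖z‖ ^ n := by
      have e : ‖z‖ ^ n = ‖z‖ ^ (n - 1) * ‖z‖ := by
        rw [← pow_succ]
        congr 1
        omega
      rw [e]
      have hpos' : 0 < ‖z‖ ^ (n - 1) := pow_pos (lt_trans zero_lt_one hlt) _
      nlinarith
    exact absurd h3 (not_le.2 h4)

theorem single (e : ℕ) (he : 0 < e) (P : ℤ[X]) (hm : P.Monic) (d : ℕ)
    (hdeg : P.natDegree = 2 * d)
    (hsepL : (P.map (Int.castRingHom (PadicAlgCl p))).Separable)
    (hFE : ∀ j ≤ P.natDegree,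
      P.coeff (P.natDegree - j) * ((p:ℤ)^e) ^ (P.natDegree - j) = P.coeff 0 * P.coeff j) :
    2 * Multiset.card ((P.aroots (PadicAlgCl p)).filter (fun z => ‖z‖ = 1)) = P.natDegree ↔
      ¬ ((p : ℤ) ∣ P.coeff d) := by
  classical
  obtain ⟨q, hq⟩ : ∃ q : ℤ, q = (p:ℤ)^e := ⟨_, rfl⟩
  rw [← hq] at hFE
  have hq0 : q ≠ 0 := by
    rw [hq]
    exact pow_ne_zero _ (by exact_mod_cast (Fact.out : p.Prime).ne_zero)
  have hqL : ‖(q : PadicAlgCl p)‖ < 1 := by
    rw [norm_intCast_lt_one_iff, hq]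
    exact dvd_pow_self _ he.ne'
  have hqL0 : (q : PadicAlgCl p) ≠ 0 := by exact_mod_cast hq0
  obtain ⟨PL, hPL⟩ : ∃ PL, PL = P.map (Int.castRingHom (PadicAlgCl p)) := ⟨_, rfl⟩
  have haroots : P.aroots (PadicAlgCl p) = PL.roots := by
    have e1 : algebraMap ℤ (PadicAlgCl p) = Int.castRingHom (PadicAlgCl p) :=
      Subsingleton.elim _ _
    rw [aroots_def, e1, hPL]
  rw [haroots]
  have hPLm : PL.Monic := hPL ▸ hm.map _
  have hPLdeg : PL.natDegree = 2 * d := by rw [hPL, hm.natDegree_map, hdeg]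
  have hPL0 : PL ≠ 0 := hPLm.ne_zero
  have hnodup : PL.roots.Nodup := nodup_roots (hPL ▸ hsepL)
  have hcard : PL.roots.card = PL.natDegree :=
    splits_iff_card_roots.mp (IsAlgClosed.splits PL)
  obtain ⟨Rf, hRf⟩ : ∃ Rf : Finset (PadicAlgCl p), Rf = PL.roots.toFinset := ⟨_, rfl⟩
  have hRfval : Rf.val = PL.roots := by rw [hRf, Multiset.toFinset_val, hnodup.dedup]
  have hRfcard : Rf.card = 2 * d := by rw [Finset.card_def, hRfval, hcard, hPLdeg]
  have hmemR : ∀ z, z ∈ Rf ↔ eval₂ (Int.castRingHom (PadicAlgCl p)) z P = 0 := by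
    intro z
    rw [hRf, Multiset.mem_toFinset, mem_roots hPL0, IsRoot.def, hPL, eval_map]
  obtain ⟨Uf, hUf⟩ : ∃ Uf, Uf = Rf.filter (fun z => ‖z‖ = 1) := ⟨_, rfl⟩
  have hUcard : Multiset.card (PL.roots.filter (fun z => ‖z‖ = 1)) = Uf.card := by
    rw [hUf, Finset.card_def, Finset.filter_val, hRfval]
  rw [hUcard, hdeg]
  have ha0 : P.coeff 0 ≠ 0 := by
    intro h0
    have h1 := hFE 0 (Nat.zero_le _)
    rw [Nat.sub_zero, hm.coeff_natDegree, one_mul, h0, zero_mul] at h1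
    exact pow_ne_zero _ hq0 h1
  have hz0 : ∀ z ∈ Rf, z ≠ 0 := by
    intro z hz h0
    rw [hmemR, h0, eval₂_at_zero, eq_intCast] at hz
    exact ha0 (by exact_mod_cast hz)
  have hle1 : ∀ z ∈ Rf, ‖z‖ ≤ 1 := fun z hz => root_norm_le_one p P hm z ((hmemR z).1 hz)
  have hpair : ∀ z ∈ Rf, (q : PadicAlgCl p) / z ∈ Rf := by
    intro z hz
    have hzne := hz0 z hz
    rw [hmemR] at hz ⊢
    have h1 := FE_field P q hFE z ((q : PadicAlgCl p) / z) (mul_div_cancel₀ _ hzne)
    rw [hz, mul_zero] at h1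
    rcases mul_eq_zero.1 h1 with h2 | h2
    · exact absurd h2 (pow_ne_zero _ hzne)
    · exact h2
  have hUsub : Uf ⊆ Rf := by
    rw [hUf]
    exact Finset.filter_subset _ _
  have hpairU : ∀ z ∈ Uf, (q : PadicAlgCl p) / z ∈ Rf \ Uf := by
    intro z hz
    rw [hUf, Finset.mem_filter] at hz
    rw [Finset.mem_sdiff]
    refine ⟨hpair z hz.1, ?_⟩
    rw [hUf, Finset.mem_filter]
    rintro ⟨_, h1⟩
    rw [norm_div, hz.2, div_one] at h1
    exact absurd h1 hqL.ne
  have h2u : 2 * Uf.card ≤ 2 * d := by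
    have h1 : Uf.card ≤ (Rf \ Uf).card := by
      apply Finset.card_le_card_of_injOn (fun z => (q : PadicAlgCl p) / z) hpairU
      intro a ha b hb hab
      have ha0' := hz0 a (hUsub ha)
      have hb0' := hz0 b (hUsub hb)
      have h3 : (q : PadicAlgCl p) * b = q * a := (div_eq_div_iff ha0' hb0').1 hab
      exact (mul_left_cancel₀ hqL0 h3).symm
    rw [Finset.card_sdiff_of_subset hUsub, hRfcard] at h1
    have h4 := Finset.card_le_card hUsub
    rw [hRfcard] at h4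
    omega
  have hvieta : PL.coeff d = (-1) ^ d * ∑ t ∈ Rf.powersetCard d, ∏ z ∈ t, z := by
    have h1 := coeff_eq_esymm_roots_of_card hcard (k := d) (by rw [hPLdeg]; omega)
    have e2 : 2 * d - d = d := by omega
    rw [hPLm.leadingCoeff, one_mul, hPLdeg, e2] at h1
    rw [h1, ← hRfval]
    have h2 := Finset.esymm_map_val (fun z : PadicAlgCl p => z) Rf d
    rw [Multiset.map_id'] at h2
    rw [h2]
  have hcoeffL : PL.coeff d = ((P.coeff d : ℤ) : PadicAlgCl p) := by
    rw [hPL, coeff_map, eq_intCast]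
  have hterm : ∀ t ∈ Rf.powersetCard d, (∃ z ∈ t, z ∉ Uf) → ‖∏ z ∈ t, z‖ < 1 := by
    rintro t ht ⟨z0, hz0t, hz0U⟩
    rw [Finset.mem_powersetCard] at ht
    have hz0R : z0 ∈ Rf := ht.1 hz0t
    have hz0lt : ‖z0‖ < 1 := by
      rcases lt_or_eq_of_le (hle1 z0 hz0R) with h | h
      · exact h
      · exact absurd (by rw [hUf, Finset.mem_filter]; exact ⟨hz0R, h⟩) hz0U
    rw [norm_prod, ← Finset.mul_prod_erase t _ hz0t]
    have h1 : ∏ z ∈ t.erase z0, ‖z‖ ≤ 1 :=
      Finset.prod_le_one (fun z _ => norm_nonneg z)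
        (fun z hz => hle1 z (ht.1 (Finset.mem_of_mem_erase hz)))
    calc ‖z0‖ * ∏ z ∈ t.erase z0, ‖z‖ ≤ ‖z0‖ * 1 :=
          mul_le_mul_of_nonneg_left h1 (norm_nonneg _)
      _ < 1 := by rw [mul_one]; exact hz0lt
  have hnorm : ‖PL.coeff d‖ = ‖∑ t ∈ Rf.powersetCard d, ∏ z ∈ t, z‖ := by
    rw [hvieta, norm_mul, norm_pow, norm_neg, norm_one, one_pow, one_mul]
  constructor
  · intro h2
    have hu : Uf.card = d := by omega
    have hUmem : Uf ∈ Rf.powersetCard d := Finset.mem_powersetCard.2 ⟨hUsub, hu⟩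
    have hE : ‖∑ t ∈ Rf.powersetCard d, ∏ z ∈ t, z‖ = 1 := by
      rw [← Finset.add_sum_erase _ _ hUmem]
      apply norm_add_eq_one
      · rw [norm_prod]
        apply Finset.prod_eq_one
        intro z hz
        rw [hUf, Finset.mem_filter] at hz
        exact hz.2
      · apply norm_sum_lt_one
        intro t ht
        have ht' := Finset.mem_of_mem_erase ht
        have hne := Finset.ne_of_mem_erase ht
        apply hterm t ht'
        by_contra hcon
        push Not at hcon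
        have hsub : t ⊆ Uf := hcon
        have h5 : t = Uf :=
          Finset.eq_of_subset_of_card_le hsub (by rw [hu, (Finset.mem_powersetCard.1 ht').2])
        exact hne h5
    intro hdvd
    have h3 := (norm_intCast_lt_one_iff p (P.coeff d)).2 hdvd
    rw [← hcoeffL, hnorm, hE] at h3
    exact lt_irrefl _ h3
  · intro hnd
    by_contra hne
    have hu : Uf.card < d := by omega
    apply hnd
    rw [← norm_intCast_lt_one_iff p, ← hcoeffL, hnorm]
    apply norm_sum_lt_one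
    intro t ht
    apply hterm t ht
    by_contra hcon
    push Not at hcon
    have hsub : t ⊆ Uf := hcon
    have h5 := Finset.card_le_card hsub
    rw [(Finset.mem_powersetCard.1 ht).2] at h5
    omega

end Padic

section Single

variable {K : Type*} [Field K] [CharZero K] (π : K) (hint : IsIntegral ℤ π)

include hint

theorem sep_map (F : Type*) [Field F] [CharZero F] :
    ((minpoly ℤ π).map (Int.castRingHom F)).Separable := by
  have h1 : minpoly ℚ π = (minpoly ℤ π).map (algebraMap ℤ ℚ) :=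
    minpoly.isIntegrallyClosed_eq_field_fractions' ℚ hint
  have h2 : ((minpoly ℤ π).map (algebraMap ℤ ℚ)).Separable := by
    rw [← h1]
    exact (minpoly.irreducible hint.tower_top).separable
  have h3 := h2.map (f := algebraMap ℚ F)
  rw [Polynomial.map_map] at h3
  have e : (algebraMap ℚ F).comp (algebraMap ℤ ℚ) = Int.castRingHom F := Subsingleton.elim _ _
  rwa [e] at h3

theorem single_FE (q : ℤ) (hq : 0 < q)
    (hweil : ∀ z ∈ (minpoly ℤ π).aroots ℂ, ‖z‖ = Real.sqrt (q : ℝ)) :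
    ∀ j ≤ (minpoly ℤ π).natDegree,
      (minpoly ℤ π).coeff ((minpoly ℤ π).natDegree - j) * q ^ ((minpoly ℤ π).natDegree - j) =
        (minpoly ℤ π).coeff 0 * (minpoly ℤ π).coeff j := by
  apply FEc _ (minpoly.monic hint) q hq (sep_map π hint ℂ)
  intro z hz
  apply hweil
  rw [aroots_def, algebraMap_int_eq]
  exact hz

end Single

theorem even_of_nonreal (P : ℤ[X]) (hm : P.Monic) (q : ℤ) (hq : 0 < q)
    (hFE : ∀ j ≤ P.natDegree,
      P.coeff (P.natDegree - j) * q ^ (P.natDegree - j) = P.coeff 0 * P.coeff j)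
    (hnr : ∀ z ∈ P.aroots ℂ, z.im ≠ 0) : Even P.natDegree := by
  have hqpos : (0:ℝ) < (q:ℝ) := Int.cast_pos.mpr hq
  obtain ⟨s, hs⟩ : ∃ s : ℂ, s = ((Real.sqrt (q:ℝ) : ℝ) : ℂ) := ⟨_, rfl⟩
  have hss : s * s = ((q:ℤ):ℂ) := by
    rw [hs, ← Complex.ofReal_mul, Real.mul_self_sqrt hqpos.le]
    exact Complex.ofReal_intCast q
  have hs0 : s ≠ 0 := by
    intro h
    rw [h, mul_zero] at hss
    have : (q:ℂ) ≠ 0 := by exact_mod_cast hq.ne'
    exact this hss.symm
  have hPc0 : P.map (Int.castRingHom ℂ) ≠ 0 := (hm.map _).ne_zero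
  have hreal : ∀ x : ℝ, eval₂ (Int.castRingHom ℂ) (x : ℂ) P ≠ 0 := by
    intro x hx
    have h1 : (x : ℂ) ∈ P.aroots ℂ := by
      rw [aroots_def, algebraMap_int_eq, mem_roots hPc0, IsRoot.def, eval_map]
      exact hx
    exact hnr _ h1 (Complex.ofReal_im x)
  have h1 : s ^ P.natDegree = ((P.coeff 0 : ℤ) : ℂ) := by
    have h2 := FE_field P q hFE s s hss
    have h3 := hreal (Real.sqrt (q:ℝ))
    rw [← hs] at h3
    exact mul_right_cancel₀ h3 h2
  have h2 : (-s) ^ P.natDegree = ((P.coeff 0 : ℤ) : ℂ) := by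
    have h2 := FE_field P q hFE (-s) (-s) (by rw [neg_mul_neg, hss])
    have hneg : (-s) = ((-(Real.sqrt (q:ℝ)) : ℝ) : ℂ) := by
      rw [hs]
      push_cast
      rfl
    have h3 := hreal (-(Real.sqrt (q:ℝ)))
    rw [← hneg] at h3
    exact mul_right_cancel₀ h3 h2
  have h4 : (-1 : ℂ) ^ P.natDegree = 1 := by
    have h3 : (-s) ^ P.natDegree = (-1) ^ P.natDegree * s ^ P.natDegree := by
      rw [neg_eq_neg_one_mul, mul_pow]
    rw [h3, ← h1] at h2
    have hsn : s ^ P.natDegree ≠ 0 := pow_ne_zero _ hs0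
    have h5 : (-1 : ℂ) ^ P.natDegree * s ^ P.natDegree = 1 * s ^ P.natDegree := by
      rw [one_mul]
      exact h2
    exact mul_right_cancel₀ hsn h5
  exact (neg_one_pow_eq_one_iff_even (by norm_num)).mp h4

universe u

theorem main987 (p e : ℕ) [Fact p.Prime] (he : 0 < e)
    (ι : Type) [Fintype ι] (K : ι → Type u) [∀ i, Field (K i)] [∀ i, CharZero (K i)] (π : ∀ i, K i)
    (hint : ∀ i, IsIntegral ℤ (π i))
    (hweil : ∀ i, ∀ z ∈ (minpoly ℤ (π i)).aroots ℂ, ‖z‖ = Real.sqrt ((p : ℝ) ^ e))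
    (hnr : ∀ i, ∀ z ∈ (minpoly ℤ (π i)).aroots ℂ, z.im ≠ 0) :
    (∀ i, 2 * Multiset.card (((minpoly ℤ (π i)).aroots (PadicAlgCl p)).filter (fun z => ‖z‖ = 1)) = (minpoly ℤ (π i)).natDegree) ↔
      ¬ ((p : ℤ) ∣ ∏ i, (minpoly ℤ (π i)).coeff ((minpoly ℤ (π i)).natDegree / 2)) := by
  classical
  obtain ⟨q, hqdef⟩ : ∃ q : ℤ, q = (p : ℤ) ^ e := ⟨_, rfl⟩
  have hqpos : 0 < q := by
    rw [hqdef]
    exact pow_pos (by exact_mod_cast (Fact.out : p.Prime).pos) e
  have hcast : ((q:ℤ):ℝ) = (p:ℝ)^e := by rw [hqdef]; simp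
  have hweil' : ∀ i, ∀ z ∈ (minpoly ℤ (π i)).aroots ℂ, ‖z‖ = Real.sqrt ((q:ℤ):ℝ) := by
    intro i z hz
    rw [hweil i z hz, hcast]
  have hsingle : ∀ i,
      (2 * Multiset.card (((minpoly ℤ (π i)).aroots (PadicAlgCl p)).filter (fun z => ‖z‖ = 1)) =
        (minpoly ℤ (π i)).natDegree) ↔
      ¬ ((p : ℤ) ∣ (minpoly ℤ (π i)).coeff ((minpoly ℤ (π i)).natDegree / 2)) := by
    intro i
    have hFE := single_FE (π i) (hint i) q hqpos (hweil' i)
    have heven := even_of_nonreal _ (minpoly.monic (hint i)) q hqpos hFE (hnr i)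
    rw [hqdef] at hFE
    exact single p e he _ (minpoly.monic (hint i)) _
      (Nat.two_mul_div_two_of_even heven).symm (sep_map (π i) (hint i) (PadicAlgCl p)) hFE
  have hprime : Prime (p : ℤ) := Nat.prime_iff_prime_int.1 Fact.out
  rw [hprime.dvd_finsetProd_iff]
  constructor
  · rintro h ⟨i, _, hi⟩
    exact (hsingle i).1 (h i) hi
  · intro h i
    exact (hsingle i).2 (fun hi => h ⟨i, Finset.mem_univ i, hi⟩)

end Groth.Agent.Lib.Helper6.WeilE
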