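import Groth.Agent.Lib.Helper6.FSAdic

/-! Projectivity of `Ω ⊗ B/𝔄` for an adically formally smooth algebra, via trivial extensions. -/

namespace Groth.Agent.Lib.Helper6.TrivExtDer

universe u

open EGA41 Groth.Agent.Lib.Helper6.FSAdic TensorProduct

theorem tsze_mul_eq_zero {R M : Type*} [CommRing R] [AddCommGroup M] [Module R M]
    [Module Rᵐᵒᵖ M] [IsCentralScalar R M] (x y : TrivSqZeroExt R M)
    (hx : x.fst = 0) (hy : y.fst = 0) : x * y = 0 := by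
  apply TrivSqZeroExt.ext
  · rw [TrivSqZeroExt.fst_mul, hx, zero_mul]; rfl
  · rw [TrivSqZeroExt.snd_mul, hx, hy, zero_smul, MulOpposite.op_zero, zero_smul, add_zero]; rfl

variable {A B : Type u} [CommRing A] [CommRing B] [Algebra A B]

theorem projective_tensor_kaehler (𝔞 : Ideal A) (𝔟 : Ideal B)
    (hAB : ∃ k : ℕ, (𝔞 ^ k).map (algebraMap A B) ≤ 𝔟)
    (h : IsFormallySmoothAdic A 𝔞 B 𝔟) (𝔄 : Ideal B) (h𝔄 : ∃ n : ℕ, 𝔟 ^ n ≤ 𝔄) :
    Module.Projective (B ⧸ 𝔄) ((B ⧸ 𝔄) ⊗[B] Ω[B⁄A]) := by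
  classical
  obtain ⟨k₀, hk₀⟩ := hAB
  obtain ⟨n, hn⟩ := h𝔄
  rw [Module.projective_def']
  let f : (((B ⧸ 𝔄) ⊗[B] Ω[B⁄A]) →₀ (B ⧸ 𝔄)) →ₗ[B ⧸ 𝔄] ((B ⧸ 𝔄) ⊗[B] Ω[B⁄A]) :=
    Finsupp.linearCombination (B ⧸ 𝔄) id
  have hf : Function.Surjective f := Finsupp.linearCombination_id_surjective (B ⧸ 𝔄) _
  let π : TrivSqZeroExt (B ⧸ 𝔄) (((B ⧸ 𝔄) ⊗[B] Ω[B⁄A]) →₀ (B ⧸ 𝔄)) →ₐ[A]
      TrivSqZeroExt (B ⧸ 𝔄) ((B ⧸ 𝔄) ⊗[B] Ω[B⁄A]) :=
    (TrivSqZeroExt.map f).restrictScalars A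
  have hπfst : ∀ x, (π x).fst = x.fst := fun x => TrivSqZeroExt.fst_map f x
  have hπsnd : ∀ x, (π x).snd = f x.snd := fun x => TrivSqZeroExt.snd_map f x
  have hπsurj : Function.Surjective π := by
    intro y
    obtain ⟨l, hl⟩ := hf y.snd
    refine ⟨(y.fst, l), ?_⟩
    apply TrivSqZeroExt.ext
    · rw [hπfst]; rfl
    · rw [hπsnd]; exact hl
  have hπnil : IsNilpotent (RingHom.ker π) := by
    refine ⟨2, ?_⟩
    have h2 : RingHom.ker π ^ 2 = RingHom.ker π * RingHom.ker π := pow_two _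
    rw [h2, Ideal.zero_eq_bot, eq_bot_iff, Ideal.mul_le]
    intro x hx y hy
    have hx0 : x.fst = 0 := by rw [← hπfst, show π x = 0 from hx]; rfl
    have hy0 : y.fst = 0 := by rw [← hπfst, show π y = 0 from hy]; rfl
    rw [tsze_mul_eq_zero x y hx0 hy0]
    exact Submodule.zero_mem _
  have hmem𝔄 : ∀ a ∈ 𝔞 ^ (k₀ * n), algebraMap A B a ∈ 𝔄 := by
    intro a ha
    apply hn
    have h1 : (𝔞 ^ (k₀ * n)).map (algebraMap A B) ≤ 𝔟 ^ n := by
      rw [pow_mul, Ideal.map_pow]; exact Ideal.pow_right_mono hk₀ n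
    exact h1 (Ideal.mem_map_of_mem _ ha)
  have hdisc : ∃ k : ℕ, (𝔞 ^ k).map (algebraMap A
      (TrivSqZeroExt (B ⧸ 𝔄) (((B ⧸ 𝔄) ⊗[B] Ω[B⁄A]) →₀ (B ⧸ 𝔄)))) = ⊥ := by
    refine ⟨k₀ * n, ?_⟩
    rw [eq_bot_iff, Ideal.map_le_iff_le_comap]
    intro a ha
    rw [Ideal.mem_comap, Ideal.mem_bot]
    show TrivSqZeroExt.inl (algebraMap A (B ⧸ 𝔄) a) = 0
    have : algebraMap A (B ⧸ 𝔄) a = 0 := by
      rw [IsScalarTower.algebraMap_apply A B (B ⧸ 𝔄)]
      exact Ideal.Quotient.eq_zero_iff_mem.mpr (hmem𝔄 a ha)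
    rw [this]; rfl
  let δ : B → (B ⧸ 𝔄) ⊗[B] Ω[B⁄A] := fun b => (1 : B ⧸ 𝔄) ⊗ₜ[B] KaehlerDifferential.D A B b
  let u'' : B →ₐ[A] TrivSqZeroExt (B ⧸ 𝔄) ((B ⧸ 𝔄) ⊗[B] Ω[B⁄A]) :=
    { toFun := fun b => (algebraMap B (B ⧸ 𝔄) b, δ b)
      map_one' := by
        apply TrivSqZeroExt.ext
        · exact map_one _
        · show (1 : B ⧸ 𝔄) ⊗ₜ[B] KaehlerDifferential.D A B 1 = 0
          rw [Derivation.map_one_eq_zero, TensorProduct.tmul_zero]
      map_mul' := fun x y => by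
        apply TrivSqZeroExt.ext
        · exact map_mul _ x y
        · show (1 : B ⧸ 𝔄) ⊗ₜ[B] KaehlerDifferential.D A B (x * y) =
            algebraMap B (B ⧸ 𝔄) x • ((1 : B ⧸ 𝔄) ⊗ₜ[B] KaehlerDifferential.D A B y) +
            MulOpposite.op (algebraMap B (B ⧸ 𝔄) y) •
              ((1 : B ⧸ 𝔄) ⊗ₜ[B] KaehlerDifferential.D A B x)
          rw [op_smul_eq_smul, Derivation.leibniz, TensorProduct.tmul_add,
            algebraMap_smul, algebraMap_smul, TensorProduct.tmul_smul, TensorProduct.tmul_smul]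
      map_zero' := by
        apply TrivSqZeroExt.ext
        · exact map_zero _
        · show (1 : B ⧸ 𝔄) ⊗ₜ[B] KaehlerDifferential.D A B 0 = 0
          rw [map_zero, TensorProduct.tmul_zero]
      map_add' := fun x y => by
        apply TrivSqZeroExt.ext
        · exact map_add _ x y
        · show (1 : B ⧸ 𝔄) ⊗ₜ[B] KaehlerDifferential.D A B (x + y) = _
          rw [map_add, TensorProduct.tmul_add]; rfl
      commutes' := fun a => by
        apply TrivSqZeroExt.ext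
        · exact (IsScalarTower.algebraMap_apply A B (B ⧸ 𝔄) a).symm
        · show (1 : B ⧸ 𝔄) ⊗ₜ[B] KaehlerDifferential.D A B (algebraMap A B a) = 0
          rw [Derivation.map_algebraMap, TensorProduct.tmul_zero] }
  have hu''fst : ∀ b, (u'' b).fst = algebraMap B (B ⧸ 𝔄) b := fun b => rfl
  have hu''cont : ∃ k : ℕ, ∀ x ∈ 𝔟 ^ k, u'' x = 0 := by
    refine ⟨n * 2, fun x hx => ?_⟩
    have hx2 : x ∈ 𝔄 ^ 2 := by
      rw [pow_mul] at hx
      exact Ideal.pow_right_mono hn 2 hx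
    rw [pow_two] at hx2
    refine Submodule.mul_induction_on hx2 ?_ ?_
    · intro a ha b hb
      rw [map_mul]
      apply tsze_mul_eq_zero
      · rw [hu''fst]; exact Ideal.Quotient.eq_zero_iff_mem.mpr ha
      · rw [hu''fst]; exact Ideal.Quotient.eq_zero_iff_mem.mpr hb
    · intro a b ha hb
      rw [map_add, ha, hb, add_zero]
  obtain ⟨v, hv⟩ := exists_lift_of_surjective h π hπsurj hπnil hdisc u'' hu''cont
  have hfst : ∀ b, (v b).fst = algebraMap B (B ⧸ 𝔄) b := fun b => by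
    rw [← hπfst, show π (v b) = u'' b from AlgHom.congr_fun hv b]
    rfl
  have hsnd : ∀ b, f (v b).snd = δ b := fun b => by
    rw [← hπsnd, show π (v b) = u'' b from AlgHom.congr_fun hv b]
    rfl
  let D : Derivation A B (((B ⧸ 𝔄) ⊗[B] Ω[B⁄A]) →₀ (B ⧸ 𝔄)) :=
    { toFun := fun b => (v b).snd
      map_add' := fun x y => by rw [map_add, TrivSqZeroExt.snd_add]
      map_smul' := fun a x => by rw [map_smul, TrivSqZeroExt.snd_smul]; rfl
      map_one_eq_zero' := by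
        show (v 1).snd = 0
        rw [map_one]; rfl
      leibniz' := fun x y => by
        show (v (x * y)).snd = x • (v y).snd + y • (v x).snd
        rw [map_mul, TrivSqZeroExt.snd_mul, hfst, hfst, op_smul_eq_smul,
          algebraMap_smul, algebraMap_smul] }
  have hD : ∀ b, D b = (v b).snd := fun b => rfl
  let s : ((B ⧸ 𝔄) ⊗[B] Ω[B⁄A]) →ₗ[B ⧸ 𝔄] (((B ⧸ 𝔄) ⊗[B] Ω[B⁄A]) →₀ (B ⧸ 𝔄)) :=
    LinearMap.liftBaseChange (B ⧸ 𝔄) D.liftKaehlerDifferential
  refine ⟨s, ?_⟩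
  refine LinearMap.ext fun x => ?_
  show f (s x) = x
  induction x using TensorProduct.induction_on with
  | zero => rw [map_zero, map_zero]
  | add x y hx hy => rw [map_add, map_add, hx, hy]
  | tmul c ω =>
    have hω : ω ∈ Submodule.span B (Set.range (KaehlerDifferential.D A B)) := by
      rw [KaehlerDifferential.span_range_derivation]; trivial
    induction hω using Submodule.span_induction generalizing c with
    | mem ω hω =>
      obtain ⟨b, rfl⟩ := hω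
      rw [LinearMap.liftBaseChange_tmul, Derivation.liftKaehlerDifferential_comp_D, map_smul,
        hD, hsnd b]
      show c • ((1 : B ⧸ 𝔄) ⊗ₜ[B] KaehlerDifferential.D A B b) = _
      rw [TensorProduct.smul_tmul', smul_eq_mul, mul_one]
    | zero => rw [TensorProduct.tmul_zero, map_zero, map_zero]
    | add ω₁ ω₂ _ _ h1 h2 =>
      rw [TensorProduct.tmul_add, map_add, map_add, h1, h2]
    | smul r ω _ h1 =>
      rw [← TensorProduct.smul_tmul]
      exact h1 (r • c)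

end Groth.Agent.Lib.Helper6.TrivExtDer
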