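import Mathlib

/-! Finiteness of the completed module of differentials. -/

namespace Groth.Agent.Lib.Helper6.CompletedKaehler

universe u

open TensorProduct

/-- If `M / I M` is finite over an `I`-adically complete ring `R`, then the `I`-adic completion
of `M` is a finite `R`-module. -/
theorem finite_adicCompletion_of_finite_quotient {R : Type*} [CommRing R] (I : Ideal R)
    [IsAdicComplete I R] (M : Type*) [AddCommGroup M] [Module R M]
    [hfin : Module.Finite R (M ⧸ (I • ⊤ : Submodule R M))] :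
    Module.Finite R (AdicCompletion I M) := by
  obtain ⟨n, f, hf⟩ := Module.Finite.exists_fin' R (M ⧸ (I • ⊤ : Submodule R M))
  obtain ⟨g, hg⟩ := Module.projective_lifting_property (I • ⊤ : Submodule R M).mkQ f
    (Submodule.mkQ_surjective _)
  have hsurj : Function.Surjective ((I • ⊤ : Submodule R M).mkQ ∘ₗ g) := by rw [hg]; exact hf
  have h1 : Function.Surjective (AdicCompletion.map I g) :=
    AdicCompletion.map_surjective_of_mkQ_comp_surjective hsurj
  haveI : Module.Finite R (AdicCompletion I R) :=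
    Module.Finite.of_surjective (AdicCompletion.of I R) (AdicCompletion.of_surjective I R)
  haveI : Module.Finite R (AdicCompletion I (Fin n → R)) :=
    Module.Finite.of_surjective
      ((AdicCompletion.ofTensorProduct I (Fin n → R)).restrictScalars R)
      (AdicCompletion.ofTensorProduct_surjective_of_finite I (Fin n → R))
  exact Module.Finite.of_surjective ((AdicCompletion.map I g).restrictScalars R) h1

theorem finite_kaehler_quotient {A B : Type u} [CommRing A] [CommRing B] [Algebra A B]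
    (𝔫 : Ideal B) [Module.Finite (B ⧸ 𝔫) (Ω[B ⧸ 𝔫⁄A])] [Module.Finite (B ⧸ 𝔫) 𝔫.Cotangent] :
    Module.Finite B (Ω[B⁄A] ⧸ (𝔫 • ⊤ : Submodule B Ω[B⁄A])) := by
  have hsurj : Function.Surjective (algebraMap B (B ⧸ 𝔫)) := Ideal.Quotient.mk_surjective
  have hker : RingHom.ker (algebraMap B (B ⧸ 𝔫)) = 𝔫 := Ideal.mk_ker
  haveI : Module.Finite B (B ⧸ 𝔫) :=
    Module.Finite.of_surjective (Algebra.linearMap B (B ⧸ 𝔫)) hsurj
  haveI h1 : Module.Finite B 𝔫.Cotangent := Module.Finite.trans (B ⧸ 𝔫) _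
  haveI h2 : Module.Finite B (RingHom.ker (algebraMap B (B ⧸ 𝔫))).Cotangent := by
    rw [hker]; exact h1
  haveI h3 : Module.Finite B (Ω[B ⧸ 𝔫⁄A]) := Module.Finite.trans (B ⧸ 𝔫) _
  let k := KaehlerDifferential.kerCotangentToTensor A B (B ⧸ 𝔫)
  let g := (KaehlerDifferential.mapBaseChange A B (B ⧸ 𝔫)).restrictScalars B
  have hexact : Function.Exact k g :=
    KaehlerDifferential.exact_kerCotangentToTensor_mapBaseChange A B (B ⧸ 𝔫) hsurj
  have hgsurj : Function.Surjective g :=
    KaehlerDifferential.mapBaseChange_surjective A B (B ⧸ 𝔫) hsurj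
  haveI : Module.Finite B (LinearMap.range k) := Module.Finite.range k
  haveI : Module.Finite B (((B ⧸ 𝔫) ⊗[B] Ω[B⁄A]) ⧸ LinearMap.range k) := by
    have e : (((B ⧸ 𝔫) ⊗[B] Ω[B⁄A]) ⧸ LinearMap.ker g) ≃ₗ[B] Ω[B ⧸ 𝔫⁄A] :=
      g.quotKerEquivOfSurjective hgsurj
    have hk : LinearMap.ker g = LinearMap.range k := LinearMap.exact_iff.mp hexact
    rw [← hk]
    exact Module.Finite.equiv e.symm
  haveI : Module.Finite B ((B ⧸ 𝔫) ⊗[B] Ω[B⁄A]) :=
    Module.Finite.of_submodule_quotient (LinearMap.range k)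
  exact Module.Finite.equiv (TensorProduct.quotTensorEquivQuotSMul Ω[B⁄A] 𝔫)

theorem finite_completedKaehler {A B : Type u} [CommRing A] [CommRing B] [Algebra A B]
    (𝔫 : Ideal B) [IsAdicComplete 𝔫 B] [Module.Finite (B ⧸ 𝔫) (Ω[B ⧸ 𝔫⁄A])]
    [Module.Finite (B ⧸ 𝔫) 𝔫.Cotangent] :
    Module.Finite B (AdicCompletion 𝔫 (Ω[B⁄A])) := by
  haveI := finite_kaehler_quotient (A := A) 𝔫
  exact finite_adicCompletion_of_finite_quotient 𝔫 _

end Groth.Agent.Lib.Helper6.CompletedKaehler
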