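import Mathlib
import Groth.Prelude.Def_Models
import Groth.Agent.Lib.Helper11.NumTypeBasic

/-!
# Contraction of a `(-1)`-index of a numerical type
-/

namespace Groth.Agent.Lib.Helper6.NumContr

open Finset Models
open Groth.Agent.Lib.Helper11.NumType (a_symm sum_a_mul_m)

/-- The per-index integer bookkeeping of a contraction. -/
theorem idx (wi wl A gi w' g' : ℤ) (hwi : 0 < wi) (hwl : 0 < wl) (hA : 0 ≤ A)
    (hdi : wi ∣ A) (hdl : wl ∣ A)
    (hw' : w' = if 2 ∣ A / wl ∧ ¬ 2 ∣ A / wi then wi / 2 else wi)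
    (hg' : g' = wi / w' * (gi - 1) + 1 + (A ^ 2 - wl * A) / (2 * w' * wl)) :
    0 < w' ∧ (wi = w' ∨ wi = 2 * w') ∧ (0 ≤ gi → 0 ≤ g') ∧
      2 * (w' * (g' - 1) - wi * (gi - 1)) = A * (A / wl) - A := by
  obtain ⟨c, rfl⟩ := hdl
  obtain ⟨d, hd⟩ := hdi
  have hc : wl * c / wl = c := Int.mul_ediv_cancel_left c hwl.ne'
  have hdd : wl * c / wi = d := by rw [hd]; exact Int.mul_ediv_cancel_left d hwi.ne'
  rw [hc, hdd] at hw'
  rw [hc]
  have hc0 : 0 ≤ c := by
    by_contra hneg
    push Not at hneg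
    have := mul_neg_of_pos_of_neg hwl hneg
    omega
  have hd0 : 0 ≤ d := by
    by_contra hneg
    push Not at hneg
    have := mul_neg_of_pos_of_neg hwi hneg
    rw [hd] at hA
    omega
  by_cases hcond : 2 ∣ c ∧ ¬ 2 ∣ d
  · rw [if_pos hcond] at hw'
    obtain ⟨⟨c2, hc2⟩, hdodd⟩ := hcond
    have hwe : Even wi := by
      have h1 : Even (wi * d) := by
        rw [← hd, hc2]
        exact ⟨wl * c2, by ring⟩
      rcases Int.even_mul.mp h1 with h | h
      · exact h
      · exact absurd (even_iff_two_dvd.mp h) hdodd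
    obtain ⟨u, hu⟩ := hwe
    have hw'u : w' = u := by rw [hw', hu]; omega
    have hu0 : 0 < u := by omega
    rw [hw'u] at hg' ⊢
    have h2 : wi / u = 2 := by
      rw [hu]
      exact Int.ediv_eq_of_eq_mul_right hu0.ne' (by ring)
    have hd' : wl * c = (u + u) * d := by rw [hd, hu]
    have h3 : ((wl * c) ^ 2 - wl * (wl * c)) / (2 * u * wl) = d * (c - 1) := by
      apply Int.ediv_eq_of_eq_mul_right (mul_pos (mul_pos two_pos hu0) hwl).ne'
      linear_combination (wl * (c - 1)) * hd'
    rw [h2, h3] at hg'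
    refine ⟨hu0, Or.inr (by omega), ?_, ?_⟩
    · intro hgi
      have hd1 : 1 ≤ d := by
        rcases hd0.eq_or_lt with h | h
        · exfalso
          apply hdodd
          rw [← h]
          exact dvd_zero 2
        · omega
      have hcne : c ≠ 0 := by
        intro h0
        rw [h0, mul_zero] at hd
        rcases mul_eq_zero.mp hd.symm with h | h <;> omega
      have hc2' : 2 ≤ c := by omega
      have : 1 ≤ d * (c - 1) := by nlinarith
      omega
    · rw [hg', hu]
      linear_combination (-(c - 1)) * hd'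
  · rw [if_neg hcond] at hw'
    rw [hw'] at hg' ⊢
    have h2 : wi / wi = 1 := Int.ediv_self hwi.ne'
    have hpar : ∃ t, d * (c - 1) = 2 * t := by
      by_cases h2c : 2 ∣ c
      · have h2d : 2 ∣ d := by
          by_contra h
          exact hcond ⟨h2c, h⟩
        obtain ⟨e, he⟩ := h2d
        exact ⟨e * (c - 1), by rw [he]; ring⟩
      · obtain ⟨e, he⟩ : 2 ∣ c - 1 := by omega
        exact ⟨d * e, by rw [he]; ring⟩
    obtain ⟨t, ht⟩ := hpar
    have h3 : ((wl * c) ^ 2 - wl * (wl * c)) / (2 * wi * wl) = t := by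
      apply Int.ediv_eq_of_eq_mul_right (mul_pos (mul_pos two_pos hwi) hwl).ne'
      linear_combination (wl * (c - 1)) * hd + (wi * wl) * ht
    rw [h2, h3] at hg'
    refine ⟨hwi, Or.inl rfl, ?_, ?_⟩
    · intro hgi
      have h0 : 0 ≤ d * (c - 1) := by
        rcases hc0.eq_or_lt with h | h
        · have h1 : wi * d = 0 := by rw [← hd, ← h, mul_zero]
          have hd00 : d = 0 := by
            rcases mul_eq_zero.mp h1 with h' | h'
            · omega
            · exact h'
          rw [hd00, zero_mul]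
        · exact mul_nonneg hd0 (by omega)
      omega
    · rw [hg']
      linear_combination (-(c - 1)) * hd + (-wi) * ht

variable {n : ℕ} (T : NumericalType (n + 1))

/-- The last column. -/
def Acol (i : Fin n) : ℤ := T.a i.castSucc (Fin.last n)

/-- The last column divided by `w_l`. -/
def cc (i : Fin n) : ℤ := Acol T i / T.w (Fin.last n)

lemma Acol_nonneg (i : Fin n) : 0 ≤ Acol T i :=
  T.offDiag_nonneg _ _ (Fin.castSucc_lt_last i).ne

lemma wl_dvd_Acol (i : Fin n) : T.w (Fin.last n) ∣ Acol T i := by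
  unfold Acol
  rw [a_symm T i.castSucc (Fin.last n)]
  exact T.w_dvd _ _

lemma wi_dvd_Acol (i : Fin n) : T.w i.castSucc ∣ Acol T i := T.w_dvd _ _

lemma Acol_eq (i : Fin n) : Acol T i = T.w (Fin.last n) * cc T i :=
  (Int.mul_ediv_cancel' (wl_dvd_Acol T i)).symm

lemma cc_nonneg (i : Fin n) : 0 ≤ cc T i :=
  Int.ediv_nonneg (Acol_nonneg T i) (T.w_pos _).le

lemma cc_mul_comm (i j : Fin n) : cc T i * Acol T j = cc T j * Acol T i := by
  have h1 := Acol_eq T i
  have h2 := Acol_eq T j
  apply mul_left_cancel₀ (T.w_pos (Fin.last n)).ne'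
  calc T.w (Fin.last n) * (cc T i * Acol T j)
      = (T.w (Fin.last n) * cc T i) * Acol T j := by ring
    _ = Acol T i * Acol T j := by rw [← h1]
    _ = Acol T j * Acol T i := mul_comm _ _
    _ = (T.w (Fin.last n) * cc T j) * Acol T i := by rw [← h2]
    _ = T.w (Fin.last n) * (cc T j * Acol T i) := by ring

lemma contr_a_eq (h : T.IsMinusOne (Fin.last n)) (i j : Fin n) :
    T.a i.castSucc j.castSucc - Acol T i * Acol T j / T.a (Fin.last n) (Fin.last n)
      = T.a i.castSucc j.castSucc + cc T i * Acol T j := by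
  have h1 : Acol T i * Acol T j / T.w (Fin.last n) = cc T i * Acol T j := by
    apply Int.ediv_eq_of_eq_mul_right (T.w_pos _).ne'
    have := Acol_eq T i
    calc Acol T i * Acol T j = (T.w (Fin.last n) * cc T i) * Acol T j := by rw [← this]
      _ = T.w (Fin.last n) * (cc T i * Acol T j) := by ring
  rw [h.2, Int.ediv_neg, h1, sub_neg_eq_add]

lemma row (k : Fin (n + 1)) :
    ∑ j : Fin n, T.a k j.castSucc * T.m j.castSucc + T.a k (Fin.last n) * T.m (Fin.last n) = 0 := by
  have := sum_a_mul_m T k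
  rwa [Fin.sum_univ_castSucc] at this

lemma sum_m_Acol (h : T.IsMinusOne (Fin.last n)) :
    ∑ j : Fin n, T.m j.castSucc * Acol T j = T.m (Fin.last n) * T.w (Fin.last n) := by
  have hr := row T (Fin.last n)
  have e : ∑ j : Fin n, T.a (Fin.last n) j.castSucc * T.m j.castSucc
      = ∑ j : Fin n, T.m j.castSucc * Acol T j :=
    Finset.sum_congr rfl (fun j _ => by
      unfold Acol
      rw [a_symm T (Fin.last n) j.castSucc]
      ring)
  rw [e, h.2] at hr
  linear_combination hr

lemma n_pos (h : T.IsMinusOne (Fin.last n)) : 0 < n := by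
  rcases Nat.eq_zero_or_pos n with rfl | hn
  · exfalso
    have hr := row T (Fin.last 0)
    simp only [Finset.univ_eq_empty, Finset.sum_empty, zero_add] at hr
    rw [h.2] at hr
    have hw := T.w_pos (Fin.last 0)
    have hm := T.m_pos (Fin.last 0)
    have := mul_pos hw hm
    linarith
  · exact hn

/-- The contracted weights. -/
def wC (i : Fin n) : ℤ :=
  if 2 ∣ Acol T i / T.w (Fin.last n) ∧ ¬ 2 ∣ Acol T i / T.w i.castSucc
  then T.w i.castSucc / 2 else T.w i.castSucc

/-- The contracted genera. -/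
def gC (i : Fin n) : ℤ :=
  T.w i.castSucc / wC T i * (T.g i.castSucc - 1) + 1 +
    (Acol T i ^ 2 - T.w (Fin.last n) * Acol T i) / (2 * wC T i * T.w (Fin.last n))

/-- The contracted matrix. -/
def aC : Matrix (Fin n) (Fin n) ℤ := fun i j =>
  T.a i.castSucc j.castSucc - Acol T i * Acol T j / T.a (Fin.last n) (Fin.last n)

lemma aC_apply (i j : Fin n) : aC T i j =
    T.a i.castSucc j.castSucc - Acol T i * Acol T j / T.a (Fin.last n) (Fin.last n) := rfl

lemma idxT (i : Fin n) :
    0 < wC T i ∧ (T.w i.castSucc = wC T i ∨ T.w i.castSucc = 2 * wC T i) ∧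
      (0 ≤ T.g i.castSucc → 0 ≤ gC T i) ∧
      2 * (wC T i * (gC T i - 1) - T.w i.castSucc * (T.g i.castSucc - 1))
        = Acol T i * (Acol T i / T.w (Fin.last n)) - Acol T i :=
  idx (T.w i.castSucc) (T.w (Fin.last n)) (Acol T i) (T.g i.castSucc) (wC T i) (gC T i)
    (T.w_pos _) (T.w_pos _) (Acol_nonneg T i) (wi_dvd_Acol T i) (wl_dvd_Acol T i) rfl rfl

lemma aC_symm : (aC T).IsSymm := by
  apply Matrix.IsSymm.ext
  intro i j
  rw [aC_apply, aC_apply, a_symm T j.castSucc i.castSucc, mul_comm (Acol T j)]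

lemma aC_offDiag (h : T.IsMinusOne (Fin.last n)) (i j : Fin n) (hij : i ≠ j) : 0 ≤ aC T i j := by
  rw [aC_apply, contr_a_eq T h]
  have h1 := T.offDiag_nonneg i.castSucc j.castSucc (fun e => hij (Fin.castSucc_injective n e))
  have := mul_nonneg (cc_nonneg T i) (Acol_nonneg T j)
  linarith

lemma aC_connected (h : T.IsMinusOne (Fin.last n)) (I : Finset (Fin n)) (hI : I.Nonempty)
    (hIne : I ≠ univ) : ∃ i ∈ I, ∃ j ∉ I, aC T i j ≠ 0 := by
  classical
  have key1 : ∀ i j : Fin n, i ≠ j → T.a i.castSucc j.castSucc ≠ 0 → aC T i j ≠ 0 := by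
    intro i j hij hne
    rw [aC_apply, contr_a_eq T h]
    have h1 := T.offDiag_nonneg i.castSucc j.castSucc (fun e => hij (Fin.castSucc_injective n e))
    have h2 := mul_nonneg (cc_nonneg T i) (Acol_nonneg T j)
    have h3 : 0 < T.a i.castSucc j.castSucc := lt_of_le_of_ne h1 (Ne.symm hne)
    exact ne_of_gt (by linarith)
  have key2 : ∀ i j : Fin n, i ≠ j → Acol T i ≠ 0 → Acol T j ≠ 0 → aC T i j ≠ 0 := by
    intro i j hij hi hj
    rw [aC_apply, contr_a_eq T h]
    have h1 := T.offDiag_nonneg i.castSucc j.castSucc (fun e => hij (Fin.castSucc_injective n e))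
    have hAi : 0 < Acol T i := lt_of_le_of_ne (Acol_nonneg T i) (Ne.symm hi)
    have hAj : 0 < Acol T j := lt_of_le_of_ne (Acol_nonneg T j) (Ne.symm hj)
    have hci : 0 < cc T i := by
      have h4 := Acol_eq T i
      have hw := T.w_pos (Fin.last n)
      have h5 := cc_nonneg T i
      rcases h5.eq_or_lt with h6 | h6
      · rw [← h6, mul_zero] at h4
        omega
      · exact h6
    have := mul_pos hci hAj
    exact ne_of_gt (by linarith)
  set J : Finset (Fin (n + 1)) := I.image Fin.castSucc with hJ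
  have hJne : J.Nonempty := hI.image _
  have hJuniv : J ≠ univ := by
    intro e
    have : Fin.last n ∈ J := e ▸ mem_univ _
    obtain ⟨x, -, hx⟩ := mem_image.mp this
    exact (Fin.castSucc_lt_last x).ne hx
  obtain ⟨i, hiJ, j, hjJ, hij⟩ := T.connected J hJne hJuniv
  obtain ⟨i0, hi0, rfl⟩ := mem_image.mp hiJ
  rcases Fin.eq_castSucc_or_eq_last j with ⟨j0, rfl⟩ | rfl
  · have hj0 : j0 ∉ I := fun hh => hjJ (mem_image_of_mem _ hh)
    exact ⟨i0, hi0, j0, hj0, key1 i0 j0 (fun e => hj0 (e ▸ hi0)) hij⟩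
  · have hAi0 : Acol T i0 ≠ 0 := hij
    have hJ2ne : (insert (Fin.last n) J).Nonempty := insert_nonempty _ _
    have hJ2univ : insert (Fin.last n) J ≠ univ := by
      intro e
      obtain ⟨j1, hj1⟩ : ∃ j1, j1 ∉ I := by
        by_contra hall
        push Not at hall
        exact hIne (Finset.eq_univ_iff_forall.mpr hall)
      have : j1.castSucc ∈ insert (Fin.last n) J := e ▸ mem_univ _
      rcases mem_insert.mp this with h' | h'
      · exact (Fin.castSucc_lt_last j1).ne h'
      · obtain ⟨x, hx, hxe⟩ := mem_image.mp h'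
        exact hj1 (Fin.castSucc_injective n hxe ▸ hx)
    obtain ⟨i2, hi2, j2, hj2, hij2⟩ := T.connected _ hJ2ne hJ2univ
    have hj2l : j2 ≠ Fin.last n := fun e => hj2 (e ▸ mem_insert_self _ _)
    rcases Fin.eq_castSucc_or_eq_last j2 with ⟨j3, rfl⟩ | rfl
    swap
    · exact absurd rfl hj2l
    have hj3 : j3 ∉ I := fun hh => hj2 (mem_insert_of_mem (mem_image_of_mem _ hh))
    rcases mem_insert.mp hi2 with rfl | hi2'
    · have hAj3 : Acol T j3 ≠ 0 := by
        unfold Acol
        rw [a_symm T j3.castSucc (Fin.last n)]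
        exact hij2
      exact ⟨i0, hi0, j3, hj3, key2 i0 j3 (fun e => hj3 (e ▸ hi0)) hAi0 hAj3⟩
    · obtain ⟨i3, hi3, rfl⟩ := mem_image.mp hi2'
      exact ⟨i3, hi3, j3, hj3, key1 i3 j3 (fun e => hj3 (e ▸ hi3)) hij2⟩

lemma aC_mulVec (h : T.IsMinusOne (Fin.last n)) :
    (aC T).mulVec (fun i => T.m i.castSucc) = 0 := by
  funext i
  simp only [Matrix.mulVec, dotProduct, Pi.zero_apply]
  have e : ∀ j, aC T i j * T.m j.castSucc = T.a i.castSucc j.castSucc * T.m j.castSucc
      + cc T i * (T.m j.castSucc * Acol T j) := by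
    intro j
    rw [aC_apply, contr_a_eq T h]
    ring
  rw [Finset.sum_congr rfl (fun j _ => e j), Finset.sum_add_distrib, ← Finset.mul_sum,
    sum_m_Acol T h]
  have hr := row T i.castSucc
  have hA := Acol_eq T i
  have hr' : ∑ j : Fin n, T.a i.castSucc j.castSucc * T.m j.castSucc
      = - (Acol T i * T.m (Fin.last n)) := by
    unfold Acol
    linarith
  rw [hr', hA]
  ring

lemma wC_dvd_w (i : Fin n) : wC T i ∣ T.w i.castSucc := by
  rcases (idxT T i).2.1 with e | e
  · exact Dvd.intro 1 (by rw [mul_one, e])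
  · exact Dvd.intro 2 (by rw [e]; ring)

lemma wC_dvd_aC (h : T.IsMinusOne (Fin.last n)) (i j : Fin n) : wC T i ∣ aC T i j := by
  have hw := wC_dvd_w T i
  rw [aC_apply, contr_a_eq T h, cc_mul_comm T i j]
  exact dvd_add (hw.trans (T.w_dvd _ _)) (hw.trans (Dvd.dvd.mul_left (wi_dvd_Acol T i) _))

/-- The contraction of the last index. -/
def contr (h : T.IsMinusOne (Fin.last n)) : NumericalType n where
  m := fun i => T.m i.castSucc
  a := aC T
  w := wC T
  g := gC T
  pos := n_pos T h
  m_pos := fun i => T.m_pos _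
  w_pos := fun i => (idxT T i).1
  g_nonneg := fun i => (idxT T i).2.2.1 (T.g_nonneg _)
  symm := aC_symm T
  offDiag_nonneg := aC_offDiag T h
  connected := aC_connected T h
  mulVec_m := aC_mulVec T h
  w_dvd := wC_dvd_aC T h

lemma isContraction_contr (h : T.IsMinusOne (Fin.last n)) : T.IsContraction (contr T h) :=
  ⟨fun _ => rfl, fun _ _ => rfl, fun _ => rfl, fun _ => rfl⟩

lemma idx_of_isContraction (T' : NumericalType n) (hT' : T.IsContraction T') (i : Fin n) :
    0 < T'.w i ∧ (T.w i.castSucc = T'.w i ∨ T.w i.castSucc = 2 * T'.w i) ∧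
      (0 ≤ T.g i.castSucc → 0 ≤ T'.g i) ∧
      2 * (T'.w i * (T'.g i - 1) - T.w i.castSucc * (T.g i.castSucc - 1))
        = Acol T i * cc T i - Acol T i :=
  idx (T.w i.castSucc) (T.w (Fin.last n)) (Acol T i) (T.g i.castSucc) (T'.w i) (T'.g i)
    (T.w_pos _) (T.w_pos _) (Acol_nonneg T i) (wi_dvd_Acol T i) (wl_dvd_Acol T i)
    (hT'.2.2.1 i) (hT'.2.2.2 i)

lemma a_of_isContraction (h : T.IsMinusOne (Fin.last n)) (T' : NumericalType n)
    (hT' : T.IsContraction T') (i j : Fin n) :
    T'.a i j = T.a i.castSucc j.castSucc + cc T i * Acol T j := by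
  rw [hT'.2.1 i j]
  exact contr_a_eq T h i j

theorem genus_eq (h : T.IsMinusOne (Fin.last n)) (T' : NumericalType n)
    (hT' : T.IsContraction T') : T'.genus = T.genus := by
  have hm := hT'.1
  have hidx := fun i => (idx_of_isContraction T T' hT' i).2.2.2
  have haii := fun i => a_of_isContraction T h T' hT' i i
  have hF1 : ∑ i, T'.m i * T'.a i i
      = (∑ i : Fin n, T.m i.castSucc * T.a i.castSucc i.castSucc)
        + ∑ i : Fin n, T.m i.castSucc * (cc T i * Acol T i) := by
    rw [← Finset.sum_add_distrib]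
    exact Finset.sum_congr rfl (fun i _ => by rw [hm i, haii i]; ring)
  have hF2 : 2 * ∑ i, T'.m i * T'.w i * (T'.g i - 1)
      = 2 * (∑ i : Fin n, T.m i.castSucc * T.w i.castSucc * (T.g i.castSucc - 1))
        + ((∑ i : Fin n, T.m i.castSucc * (cc T i * Acol T i))
          - ∑ i : Fin n, T.m i.castSucc * Acol T i) := by
    rw [Finset.mul_sum, Finset.mul_sum, ← Finset.sum_sub_distrib, ← Finset.sum_add_distrib]
    refine Finset.sum_congr rfl (fun i _ => ?_)
    rw [hm i]
    linear_combination (T.m i.castSucc) * hidx i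
  have hF3 := sum_m_Acol T h
  unfold NumericalType.genus
  simp only [Fin.sum_univ_castSucc]
  rw [h.1, h.2, hF1, show T.m (Fin.last n) * -T.w (Fin.last n)
    = -(T.m (Fin.last n) * T.w (Fin.last n)) by ring]
  omega

theorem exists_contraction (h : T.IsMinusOne (Fin.last n)) :
    (∃ T' : NumericalType n, T.IsContraction T') ∧
      ∀ T' : NumericalType n, T.IsContraction T' → T'.genus = T.genus :=
  ⟨⟨contr T h, isContraction_contr T h⟩, fun T' hT' => genus_eq T h T' hT'⟩

end Groth.Agent.Lib.Helper6.NumContr
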