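import Mathlib
import Groth.Agent.Lib.Helper6.NumContr

/-!
# The Picard group of a contraction of a numerical type
-/

namespace Groth.Agent.Lib.Helper6.NumContrPic

open Finset Models
open Groth.Agent.Lib.Helper11.NumType (a_symm sum_a_mul_m)
open Groth.Agent.Lib.Helper6.NumContr

variable {n : ℕ} (T : NumericalType (n + 1)) (T' : NumericalType n)

/-- The ratio `w_i / w'_i`. -/
def rr (i : Fin n) : ℤ := T.w i.castSucc / T'.w i

/-- The last column divided by `w_i`. -/
def dd (i : Fin n) : ℤ := Acol T i / T.w i.castSucc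

lemma Acol_eq_dd (i : Fin n) : Acol T i = T.w i.castSucc * dd T i :=
  (Int.mul_ediv_cancel' (wi_dvd_Acol T i)).symm

lemma rr_spec (hT' : T.IsContraction T') (i : Fin n) :
    T.w i.castSucc = T'.w i * rr T T' i ∧ (rr T T' i = 1 ∨ rr T T' i = 2) := by
  obtain ⟨hpos, hor, -, -⟩ := idx_of_isContraction T T' hT' i
  unfold rr
  rcases hor with e | e
  · rw [e, Int.ediv_self hpos.ne']
    exact ⟨(mul_one _).symm, Or.inl rfl⟩
  · rw [e, Int.mul_ediv_cancel _ hpos.ne']
    exact ⟨mul_comm _ _, Or.inr rfl⟩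

lemma pm_il (i : Fin n) : T.picMatrix i.castSucc (Fin.last n) = dd T i := rfl

lemma pm_lj (j : Fin n) : T.picMatrix (Fin.last n) j.castSucc = cc T j := by
  show T.a (Fin.last n) j.castSucc / T.w (Fin.last n)
    = T.a j.castSucc (Fin.last n) / T.w (Fin.last n)
  rw [a_symm T (Fin.last n) j.castSucc]

lemma pm_ll (h : T.IsMinusOne (Fin.last n)) : T.picMatrix (Fin.last n) (Fin.last n) = -1 := by
  show T.a (Fin.last n) (Fin.last n) / T.w (Fin.last n) = -1
  rw [h.2]
  exact Int.ediv_eq_of_eq_mul_right (T.w_pos _).ne' (by ring)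

lemma pm' (h : T.IsMinusOne (Fin.last n)) (hT' : T.IsContraction T') (i j : Fin n) :
    T'.picMatrix i j
      = rr T T' i * (T.picMatrix i.castSucc j.castSucc + dd T i * cc T j) := by
  show T'.a i j / T'.w i = _
  obtain ⟨hw, -⟩ := rr_spec T T' hT' i
  have hpos := (idx_of_isContraction T T' hT' i).1
  apply Int.ediv_eq_of_eq_mul_right hpos.ne'
  rw [a_of_isContraction T h T' hT' i j, cc_mul_comm T i j]
  have h1 : T.w i.castSucc * T.picMatrix i.castSucc j.castSucc = T.a i.castSucc j.castSucc :=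
    Int.mul_ediv_cancel' (T.w_dvd _ _)
  have h2 := Acol_eq_dd T i
  linear_combination (-1 : ℤ) * h1 + cc T j * h2
    + (T.picMatrix i.castSucc j.castSucc + dd T i * cc T j) * hw

/-- The map on degree vectors. -/
def phi : (Fin (n + 1) → ℤ) →ₗ[ℤ] (Fin n → ℤ) where
  toFun d := fun i => rr T T' i * (d i.castSucc + dd T i * d (Fin.last n))
  map_add' := by
    intro x y
    funext i
    simp only [Pi.add_apply]
    ring
  map_smul' := by
    intro c x
    funext i
    simp only [Pi.smul_apply, smul_eq_mul, RingHom.id_apply]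
    ring

lemma phi_apply (d : Fin (n + 1) → ℤ) (i : Fin n) :
    phi T T' d i = rr T T' i * (d i.castSucc + dd T i * d (Fin.last n)) := rfl

lemma mulVec_split (v : Fin (n + 1) → ℤ) (k : Fin (n + 1)) :
    T.picMatrix.mulVec v k = ∑ j : Fin n, T.picMatrix k j.castSucc * v j.castSucc
      + T.picMatrix k (Fin.last n) * v (Fin.last n) := by
  simp only [Matrix.mulVec, dotProduct]
  rw [Fin.sum_univ_castSucc]

lemma phi_mulVec (h : T.IsMinusOne (Fin.last n)) (hT' : T.IsContraction T')
    (v : Fin (n + 1) → ℤ) :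
    phi T T' (T.picMatrix.mulVec v) = T'.picMatrix.mulVec (fun j => v j.castSucc) := by
  funext i
  rw [phi_apply, mulVec_split, mulVec_split, pm_il, pm_ll T h]
  simp only [pm_lj]
  have e : (T'.picMatrix.mulVec fun j => v j.castSucc) i
      = ∑ j : Fin n, (rr T T' i * (T.picMatrix i.castSucc j.castSucc * v j.castSucc)
        + rr T T' i * dd T i * (cc T j * v j.castSucc)) := by
    simp only [Matrix.mulVec, dotProduct]
    refine Finset.sum_congr rfl (fun j _ => ?_)
    rw [pm' T T' h hT' i j]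
    ring
  rw [e, Finset.sum_add_distrib, ← Finset.mul_sum, ← Finset.mul_sum]
  ring

lemma range_le (h : T.IsMinusOne (Fin.last n)) (hT' : T.IsContraction T') :
    LinearMap.range (Matrix.mulVecLin T.picMatrix)
      ≤ (LinearMap.range (Matrix.mulVecLin T'.picMatrix)).comap (phi T T') := by
  rintro x ⟨v, rfl⟩
  rw [Submodule.mem_comap, Matrix.mulVecLin_apply, phi_mulVec T T' h hT']
  exact LinearMap.mem_range.mpr ⟨fun j => v j.castSucc, rfl⟩

/-- The induced map on Picard groups. -/
noncomputable def picMap (h : T.IsMinusOne (Fin.last n)) (hT' : T.IsContraction T') :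
    T.Pic →ₗ[ℤ] T'.Pic :=
  Submodule.mapQ _ _ (phi T T') (range_le T T' h hT')

lemma picMap_mk (h : T.IsMinusOne (Fin.last n)) (hT' : T.IsContraction T')
    (d : Fin (n + 1) → ℤ) :
    picMap T T' h hT' (Submodule.Quotient.mk d) = Submodule.Quotient.mk (phi T T' d) := rfl

lemma picMap_injective (h : T.IsMinusOne (Fin.last n)) (hT' : T.IsContraction T') :
    Function.Injective (picMap T T' h hT') := by
  rw [injective_iff_map_eq_zero]
  intro x hx
  obtain ⟨d, rfl⟩ := Submodule.Quotient.mk_surjective _ x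
  rw [picMap_mk, Submodule.Quotient.mk_eq_zero] at hx
  obtain ⟨c0, hc0⟩ := hx
  rw [Submodule.Quotient.mk_eq_zero]
  have hS : ∃ S : ℤ, S = ∑ j : Fin n, cc T j * c0 j := ⟨_, rfl⟩
  obtain ⟨S, hS⟩ := hS
  refine LinearMap.mem_range.mpr ⟨Fin.snoc (α := fun _ => ℤ) c0 (S - d (Fin.last n)), ?_⟩
  rw [Matrix.mulVecLin_apply]
  funext k
  rw [mulVec_split]
  simp only [Fin.snoc_castSucc, Fin.snoc_last]
  refine Fin.lastCases ?_ (fun i => ?_) k
  · rw [pm_ll T h]
    simp only [pm_lj]
    rw [← hS]
    ring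
  · rw [pm_il]
    have hi := congrFun hc0 i
    rw [Matrix.mulVecLin_apply, phi_apply] at hi
    have e : (T'.picMatrix.mulVec c0) i
        = rr T T' i * (∑ j : Fin n, T.picMatrix i.castSucc j.castSucc * c0 j)
          + rr T T' i * dd T i * S := by
      simp only [Matrix.mulVec, dotProduct]
      rw [hS, Finset.mul_sum, Finset.mul_sum, ← Finset.sum_add_distrib]
      refine Finset.sum_congr rfl (fun j _ => ?_)
      rw [pm' T T' h hT' i j]
      ring
    have hrr : rr T T' i ≠ 0 := by
      rcases (rr_spec T T' hT' i).2 with e' | e' <;> rw [e'] <;> norm_num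
    have hcancel : ∑ j : Fin n, T.picMatrix i.castSucc j.castSucc * c0 j + dd T i * S
        = d i.castSucc + dd T i * d (Fin.last n) := by
      apply mul_left_cancel₀ hrr
      rw [← hi, e]
      ring
    linear_combination hcancel

lemma picMap_coker (h : T.IsMinusOne (Fin.last n)) (hT' : T.IsContraction T') (y : T'.Pic) :
    ∃ x : T.Pic, 2 • y = picMap T T' h hT' x := by
  obtain ⟨y0, rfl⟩ := Submodule.Quotient.mk_surjective _ y
  refine ⟨Submodule.Quotient.mk
    (Fin.snoc (α := fun _ => ℤ) (fun i => (2 / rr T T' i) * y0 i) 0), ?_⟩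
  rw [picMap_mk, two_nsmul, ← Submodule.Quotient.mk_add]
  congr 1
  funext i
  rw [phi_apply]
  simp only [Fin.snoc_castSucc, Fin.snoc_last, Pi.add_apply]
  rcases (rr_spec T T' hT' i).2 with e | e
  · rw [e, show (2 : ℤ) / 1 = 2 by norm_num]
    ring
  · rw [e, show (2 : ℤ) / 2 = 1 by norm_num]
    ring

theorem pic_contraction (h : T.IsMinusOne (Fin.last n)) (hT' : T.IsContraction T') :
    ∃ f : T.Pic →+ T'.Pic, Function.Injective f ∧ ∀ y : T'.Pic, ∃ x : T.Pic, 2 • y = f x :=
  ⟨(picMap T T' h hT').toAddMonoidHom, picMap_injective T T' h hT', picMap_coker T T' h hT'⟩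

end Groth.Agent.Lib.Helper6.NumContrPic
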