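import Mathlib
import Groth.Agent.Lib.Helper6.NumContrPic

/-!
# Numerical types of genus `≤ 0` have Picard group `ℤ`
-/

namespace Groth.Agent.Lib.Helper6.NumPicZ

open Finset Models
open Groth.Agent.Lib.Helper11.NumType (a_symm sum_a_mul_m one_le_genus)
open Groth.Agent.Lib.Helper6.NumContr
open Groth.Agent.Lib.Helper6.NumContrPic

section Perm

variable {n : ℕ} (T : NumericalType n) (σ : Equiv.Perm (Fin n))

/-- Relabel the indices of a numerical type. -/
def perm : NumericalType n where
  m := fun i => T.m (σ i)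
  a := fun i j => T.a (σ i) (σ j)
  w := fun i => T.w (σ i)
  g := fun i => T.g (σ i)
  pos := T.pos
  m_pos := fun i => T.m_pos _
  w_pos := fun i => T.w_pos _
  g_nonneg := fun i => T.g_nonneg _
  symm := Matrix.IsSymm.ext (fun i j => T.symm.apply (σ i) (σ j))
  offDiag_nonneg := fun i j hij => T.offDiag_nonneg _ _ (fun e => hij (σ.injective e))
  connected := by
    intro I hI hIne
    classical
    obtain ⟨i, hi, j, hj, hij⟩ := T.connected (I.image σ) (hI.image _) (by
      intro e
      apply hIne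
      rw [Finset.eq_univ_iff_forall] at e ⊢
      intro x
      obtain ⟨y, hy, hxy⟩ := Finset.mem_image.mp (e (σ x))
      exact σ.injective hxy ▸ hy)
    obtain ⟨i0, hi0, rfl⟩ := Finset.mem_image.mp hi
    refine ⟨i0, hi0, σ.symm j, fun hh => hj (Finset.mem_image.mpr
      ⟨σ.symm j, hh, σ.apply_symm_apply j⟩), ?_⟩
    show T.a (σ i0) (σ (σ.symm j)) ≠ 0
    rwa [σ.apply_symm_apply]
  mulVec_m := by
    funext i
    simp only [Matrix.mulVec, dotProduct, Pi.zero_apply]
    exact (Equiv.sum_comp σ (fun j => T.a (σ i) j * T.m j)).trans (sum_a_mul_m T (σ i))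
  w_dvd := fun i j => T.w_dvd _ _

lemma genus_perm : (perm T σ).genus = T.genus := by
  have e1 : ∑ i, (perm T σ).m i * (perm T σ).w i * ((perm T σ).g i - 1)
      = ∑ k, T.m k * T.w k * (T.g k - 1) :=
    Equiv.sum_comp σ (fun k => T.m k * T.w k * (T.g k - 1))
  have e2 : ∑ i, (perm T σ).m i * (perm T σ).a i i = ∑ k, T.m k * T.a k k :=
    Equiv.sum_comp σ (fun k => T.m k * T.a k k)
  unfold NumericalType.genus
  rw [e1, e2]

/-- Precomposition with `σ` on degree vectors. -/
def eσ : (Fin n → ℤ) ≃ₗ[ℤ] (Fin n → ℤ) := LinearEquiv.funCongrLeft ℤ ℤ σ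

lemma map_range_perm :
    Submodule.map (eσ σ).toLinearMap (LinearMap.range (Matrix.mulVecLin T.picMatrix))
      = LinearMap.range (Matrix.mulVecLin (perm T σ).picMatrix) := by
  have hcomm : (Matrix.mulVecLin (perm T σ).picMatrix).comp (eσ σ).toLinearMap
      = (eσ σ).toLinearMap.comp (Matrix.mulVecLin T.picMatrix) := by
    apply LinearMap.ext
    intro v
    funext i
    show ∑ j, T.picMatrix (σ i) (σ j) * v (σ j) = ∑ j, T.picMatrix (σ i) j * v j
    exact Equiv.sum_comp σ (fun j => T.picMatrix (σ i) j * v j)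
  rw [← LinearMap.range_comp, ← hcomm,
    LinearMap.range_comp_of_range_eq_top _ (LinearEquiv.range _)]

/-- The Picard group is invariant under relabelling. -/
noncomputable def picPerm : T.Pic ≃ₗ[ℤ] (perm T σ).Pic :=
  Submodule.Quotient.equiv _ _ (eσ σ) (map_range_perm T σ)

lemma deg_mulVec (v : Fin n → ℤ) :
    ∑ k, T.m k * T.w k * (T.picMatrix.mulVec v) k = 0 := by
  simp only [Matrix.mulVec, dotProduct, Finset.mul_sum]
  rw [Finset.sum_comm]
  apply Finset.sum_eq_zero
  intro j _
  have : ∀ k, T.m k * T.w k * (T.picMatrix k j * v j) = v j * (T.a j k * T.m k) := by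
    intro k
    have h1 : T.w k * T.picMatrix k j = T.a k j := Int.mul_ediv_cancel' (T.w_dvd k j)
    rw [a_symm T j k, ← h1]
    ring
  rw [Finset.sum_congr rfl (fun k _ => this k), ← Finset.mul_sum, sum_a_mul_m, mul_zero]

lemma pic_nontrivial : ∃ x : T.Pic, x ≠ 0 := by
  classical
  refine ⟨Submodule.Quotient.mk (Pi.single (⟨0, T.pos⟩ : Fin n) (1 : ℤ) : Fin n → ℤ), fun h0 => ?_⟩
  rw [Submodule.Quotient.mk_eq_zero] at h0
  obtain ⟨v, hv⟩ := h0
  rw [Matrix.mulVecLin_apply] at hv
  have h1 := deg_mulVec T v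
  rw [hv] at h1
  have h2 : ∑ k, T.m k * T.w k * (Pi.single (⟨0, T.pos⟩ : Fin n) (1 : ℤ) : Fin n → ℤ) k
      = T.m ⟨0, T.pos⟩ * T.w ⟨0, T.pos⟩ := by
    rw [Finset.sum_eq_single (⟨0, T.pos⟩ : Fin n)]
    · rw [Pi.single_eq_same, mul_one]
    · intro b _ hb
      rw [Pi.single_eq_of_ne hb, mul_zero]
    · intro hh
      exact absurd (Finset.mem_univ _) hh
  rw [h2] at h1
  have := mul_pos (T.m_pos ⟨0, T.pos⟩) (T.w_pos ⟨0, T.pos⟩)
  omega

end Perm

lemma equiv_int_of_injective {M : Type*} [AddCommGroup M] (g0 : M →+ ℤ)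
    (hg0 : Function.Injective g0) (hne : ∃ x : M, x ≠ 0) : Nonempty (M ≃+ ℤ) := by
  have hg : Function.Injective g0.toIntLinearMap := hg0
  haveI : (LinearMap.range g0.toIntLinearMap).IsPrincipal :=
    IsPrincipalIdealRing.principal (LinearMap.range g0.toIntLinearMap)
  have hk : Submodule.span ℤ
      {Submodule.IsPrincipal.generator (LinearMap.range g0.toIntLinearMap)}
      = LinearMap.range g0.toIntLinearMap :=
    Submodule.IsPrincipal.span_singleton_generator _
  have hk0 : Submodule.IsPrincipal.generator (LinearMap.range g0.toIntLinearMap) ≠ 0 := by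
    intro h0
    rw [h0, Submodule.span_zero_singleton] at hk
    obtain ⟨x, hx⟩ := hne
    have hx' : g0.toIntLinearMap x ∈ LinearMap.range g0.toIntLinearMap := ⟨x, rfl⟩
    rw [← hk, Submodule.mem_bot] at hx'
    exact hx (hg (hx'.trans (map_zero _).symm))
  exact ⟨((LinearEquiv.ofInjective g0.toIntLinearMap hg).trans
    ((LinearEquiv.ofEq _ _ hk.symm).trans
      (LinearEquiv.toSpanNonzeroSingleton ℤ ℤ _ hk0).symm)).toAddEquiv⟩

theorem pic_equiv_int :
    ∀ (n : ℕ) (T : NumericalType (n + 1)), T.genus ≤ 0 → Nonempty (T.Pic ≃+ ℤ)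
  | 0, T, _ => by
    have hall : ∀ k : Fin (0 + 1), k = Fin.last 0 := by
      intro k
      rcases Fin.eq_castSucc_or_eq_last k with ⟨j0, -⟩ | h
      · exact j0.elim0
      · exact h
    have ha : ∀ i j : Fin (0 + 1), T.a i j = 0 := by
      intro i j
      rw [hall j]
      have hrow := sum_a_mul_m T i
      rw [Fin.sum_univ_castSucc] at hrow
      simp only [Finset.univ_eq_empty, Finset.sum_empty, zero_add] at hrow
      exact (mul_eq_zero.mp hrow).resolve_right (T.m_pos _).ne'
    have hP : T.picMatrix = 0 := by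
      ext i j
      show T.a i j / T.w i = 0
      rw [ha, Int.zero_ediv]
    have hr : LinearMap.range (Matrix.mulVecLin T.picMatrix) = ⊥ := by
      rw [hP, Matrix.mulVecLin_zero, LinearMap.range_zero]
    have hginj : Function.Injective
        (((LinearMap.proj (Fin.last 0) : (Fin (0 + 1) → ℤ) →ₗ[ℤ] ℤ).comp
          (Submodule.quotEquivOfEqBot _ hr).toLinearMap).toAddMonoidHom) := by
      intro x y hxy
      apply (Submodule.quotEquivOfEqBot _ hr).injective
      funext k
      rw [hall k]
      exact hxy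
    exact equiv_int_of_injective _ hginj (pic_nontrivial T)
  | (n + 1), T, hg => by
    have hnm : ¬ T.IsMinimal := fun hmin => by
      have := one_le_genus T (by omega) hmin
      omega
    obtain ⟨i, hi⟩ := not_forall_not.mp hnm
    have hlast : (perm T (Equiv.swap i (Fin.last (n + 1)))).IsMinusOne (Fin.last (n + 1)) := by
      show T.IsMinusOne ((Equiv.swap i (Fin.last (n + 1))) (Fin.last (n + 1)))
      rw [Equiv.swap_apply_right]
      exact hi
    have hcon := isContraction_contr _ hlast
    have hg' : (contr _ hlast).genus ≤ 0 := by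
      rw [genus_eq _ hlast _ hcon, genus_perm]
      exact hg
    obtain ⟨e'⟩ := pic_equiv_int n (contr _ hlast) hg'
    obtain ⟨f, hf, -⟩ := pic_contraction _ _ hlast hcon
    have hginj : Function.Injective
        (e'.toAddMonoidHom.comp (f.comp
          (picPerm T (Equiv.swap i (Fin.last (n + 1)))).toAddEquiv.toAddMonoidHom)) := by
      intro x y hxy
      exact (picPerm T _).injective (hf (e'.injective hxy))
    exact equiv_int_of_injective _ hginj (pic_nontrivial T)

theorem pic_equiv_int' {n : ℕ} (T : NumericalType n) (hg : T.genus ≤ 0) :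
    Nonempty (T.Pic ≃+ ℤ) := by
  obtain ⟨m, rfl⟩ : ∃ m, n = m + 1 := Nat.exists_eq_succ_of_ne_zero T.pos.ne'
  exact pic_equiv_int m T hg

end Groth.Agent.Lib.Helper6.NumPicZ
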