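import Mathlib
import Groth.Prelude.Def_W4stkremschemesLRS

/-!
# Closed immersions of locally ringed spaces into affine schemes

A closed immersion (in the sense of `LRSImm.IsClosedImmersion`) of a locally ringed space `Z`
into `Spec R` is `Spec (R ⧸ I) → Spec R` where `I` is the kernel of `R → Γ(Z, O_Z)`.
-/

set_option backward.isDefEq.respectTransparency false
set_option autoImplicit false

universe u

open CategoryTheory Opposite TopologicalSpace AlgebraicGeometry

namespace Groth.Agent.Lib.Helper6.LRSClosed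

section General

variable {Y Z : LocallyRingedSpace.{u}} (i : Z ⟶ Y)

/-- naturality of `i.c` on elements. -/
theorem c_res {V V' : Opens Y.toTopCat} (h : V' ≤ V) (s : Y.presheaf.obj (op V))
    (k : (Opens.map i.base).obj V' ⟶ (Opens.map i.base).obj V) :
    i.c.app (op V') (Y.presheaf.map (homOfLE h).op s) =
      Z.presheaf.map k.op (i.c.app (op V) s) := by
  have hk : k = (Opens.map i.base).map (homOfLE h) := Subsingleton.elim _ _
  subst hk
  exact ConcreteCategory.congr_hom (i.c.naturality (homOfLE h).op) s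

/-- the ring hom `Γ(Y, ⊤) → O_Z(i⁻¹ V)`. -/
noncomputable def kap (V : Opens Y.toTopCat) :
    Y.presheaf.obj (op ⊤) →+* Z.presheaf.obj (op ((Opens.map i.base).obj V)) :=
  (Y.presheaf.map (homOfLE le_top : V ⟶ ⊤).op ≫ i.c.app (op V)).hom

theorem kap_apply (V : Opens Y.toTopCat) (a : Y.presheaf.obj (op ⊤)) :
    kap i V a = i.c.app (op V) (Y.presheaf.map (homOfLE le_top : V ⟶ ⊤).op a) := rfl

/-- A global section of `Y` which dies in `O_Z(i⁻¹ V)` for `V` ranging over an open cover of `Y`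
dies in `Γ(Z, O_Z)`. -/
theorem c_top_eq_zero_of_local (b : Y.presheaf.obj (op ⊤))
    (h : ∀ p : Y.toTopCat, ∃ V : Opens Y.toTopCat, p ∈ V ∧ kap i V b = 0) :
    i.c.app (op ⊤) b = 0 := by
  choose V hpV hV using h
  refine TopCat.Sheaf.eq_of_locally_eq' Z.sheaf
    (fun p : Y.toTopCat => (Opens.map i.base).obj (V p))
    ((Opens.map i.base).obj ⊤) (fun p => (Opens.map i.base).map (homOfLE le_top)) ?_ _ _ ?_
  · intro z _
    exact Opens.mem_iSup.mpr ⟨i.base z, hpV (i.base z)⟩
  · intro p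
    rw [map_zero]
    exact (c_res i le_top b _).symm.trans (hV p)

/-- the stalk maps of a closed immersion are surjective. -/
theorem stalkMap_surjective_of (hind : Topology.IsInducing i.base)
    (hs : TopCat.Presheaf.IsLocallySurjective i.c) (z : Z) :
    Function.Surjective (i.stalkMap z) := by
  have h1 := (TopCat.Presheaf.locally_surjective_iff_surjective_on_stalks i.c).mp hs (i.base z)
  have h2 : IsIso (Z.presheaf.stalkPushforward CommRingCat i.base z) :=
    TopCat.Presheaf.stalkPushforward.stalkPushforward_iso_of_isInducing CommRingCat hind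
      Z.presheaf z
  have h3 := (ConcreteCategory.bijective_of_isIso
    (Z.presheaf.stalkPushforward CommRingCat i.base z)).2
  intro y
  obtain ⟨y1, hy1⟩ := h3 y
  obtain ⟨y2, hy2⟩ := h1 y1
  refine ⟨y2, ?_⟩
  show (Z.presheaf.stalkPushforward CommRingCat i.base z)
    (((TopCat.Presheaf.stalkFunctor CommRingCat (i.base z)).map i.c) y2) = y
  rw [hy2, hy1]

end General

section Affine

variable {X : Scheme.{u}} [IsAffine X]

/-- Local-to-global: if the germ of `a` lies in the extension of `J` at all points of `D(g)`,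
then a power of `g` multiplies `a` into `J`. -/
theorem exists_pow_mul_mem (J : Ideal Γ(X, ⊤)) (a g : Γ(X, ⊤))
    (h : ∀ (q : X) (_ : q ∈ X.basicOpen g),
      X.presheaf.germ ⊤ q trivial a ∈ Ideal.map (X.presheaf.germ ⊤ q trivial).hom J) :
    ∃ N : ℕ, g ^ N * a ∈ J := by
  classical
  let C : Ideal Γ(X, ⊤) :=
    { carrier := {u | u * a ∈ J}
      add_mem' := fun {u v} hu hv => by
        show (u + v) * a ∈ J
        rw [add_mul]; exact J.add_mem hu hv
      zero_mem' := by
        show (0 : Γ(X, ⊤)) * a ∈ J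
        rw [zero_mul]; exact J.zero_mem
      smul_mem' := fun c u hu => by
        show (c • u) * a ∈ J
        rw [smul_eq_mul, mul_assoc]; exact J.mul_mem_left c hu }
  have hC : ∀ u, u ∈ C ↔ u * a ∈ J := fun u => Iff.rfl
  suffices hg : g ∈ C.radical by
    obtain ⟨N, hN⟩ := Ideal.mem_radical_iff.mp hg
    exact ⟨N, (hC _).mp hN⟩
  rw [Ideal.radical_eq_sInf, Ideal.mem_sInf]
  rintro P ⟨hCP, hP⟩
  by_contra hgP
  have hU := isAffineOpen_top X
  let y : PrimeSpectrum Γ(X, ⊤) := ⟨P, hP⟩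
  have hy : hU.fromSpec y ∈ (⊤ : X.Opens) := trivial
  have hyg : hU.fromSpec y ∈ X.basicOpen g := by
    have h1 : y ∈ hU.fromSpec ⁻¹ᵁ X.basicOpen g := by
      rw [hU.fromSpec_preimage_basicOpen]
      exact (PrimeSpectrum.mem_basicOpen g y).mpr hgP
    exact h1
  have hloc := hU.isLocalization_stalk' y hy
  have h1 := h (hU.fromSpec y) hyg
  letI alg : Algebra Γ(X, ⊤) (X.presheaf.stalk (hU.fromSpec y)) :=
    TopCat.Presheaf.algebra_section_stalk X.presheaf ⟨hU.fromSpec y, hy⟩
  have hloc' : IsLocalization y.asIdeal.primeCompl (X.presheaf.stalk (hU.fromSpec y)) := hloc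
  have h2 := (IsLocalization.algebraMap_mem_map_algebraMap_iff y.asIdeal.primeCompl
    (X.presheaf.stalk (hU.fromSpec y)) J a).mp h1
  obtain ⟨m, hm, hmJ⟩ := h2
  exact (Ideal.mem_primeCompl_iff.mp hm) (hCP ((hC m).mpr hmJ))

variable {Z : LocallyRingedSpace.{u}} (i : Z ⟶ X.toLocallyRingedSpace)

/-- The local claim: around every point `p` of `X`, some power of `t` kills `a` on
`i⁻¹ D(h)`. -/
theorem claimL (hK : LRSImm.KerLocallyGenerated i)
    (a t : Γ(X, ⊤)) (h0 : kap i (X.basicOpen t) a = 0) (p : X) :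
    ∃ h : Γ(X, ⊤), p ∈ X.basicOpen h ∧ ∃ N : ℕ, kap i (X.basicOpen h) (t ^ N * a) = 0 := by
  obtain ⟨U, hpU, ι, s, hs0, hsker⟩ := hK p
  obtain ⟨h, hhU, hph⟩ := (isAffineOpen_top X).exists_basicOpen_le (V := U) ⟨p, hpU⟩ trivial
  refine ⟨h, hph, ?_⟩
  obtain ⟨J, hJ⟩ : ∃ J : Ideal Γ(X, ⊤), J = RingHom.ker (kap i (X.basicOpen h)) := ⟨_, rfl⟩
  have key : ∀ (q : X) (_ : q ∈ X.basicOpen (h * t)),
      X.presheaf.germ ⊤ q trivial a ∈ Ideal.map (X.presheaf.germ ⊤ q trivial).hom J := by
    intro q hq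
    rw [X.basicOpen_mul] at hq
    have hq' : q ∈ X.basicOpen h ∧ q ∈ X.basicOpen t := hq
    have hqh : q ∈ X.basicOpen h := hq'.1
    have hqt : q ∈ X.basicOpen t := hq'.2
    have hqU : q ∈ U := hhU hqh
    have h1 : X.presheaf.germ ⊤ q trivial a ∈
        RingHom.ker ((TopCat.Presheaf.stalkFunctor CommRingCat q).map i.c).hom := by
      rw [RingHom.mem_ker]
      have e1 : X.presheaf.germ ⊤ q trivial a = X.presheaf.germ (X.basicOpen t) q hqt
          (X.presheaf.map (homOfLE le_top : X.basicOpen t ⟶ ⊤).op a) :=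
        (TopCat.Presheaf.germ_res_apply X.presheaf (homOfLE le_top) q hqt a).symm
      rw [e1]
      have e2 := TopCat.Presheaf.stalkFunctor_map_germ_apply (X.basicOpen t) q hqt i.c
        (X.presheaf.map (homOfLE le_top : X.basicOpen t ⟶ ⊤).op a)
      refine e2.trans ?_
      have e3 : i.c.app (op (X.basicOpen t))
          (X.presheaf.map (homOfLE le_top : X.basicOpen t ⟶ ⊤).op a) = 0 := h0
      rw [e3, map_zero]
    have h1' : X.presheaf.germ ⊤ q trivial a ∈
        Ideal.span (Set.range fun j => X.presheaf.germ U q hqU (s j)) := by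
      rw [hsker q hqU]; exact h1
    refine (Ideal.span_le.mpr ?_) h1'
    rintro _ ⟨j, rfl⟩
    show X.presheaf.germ U q hqU (s j) ∈ Ideal.map (X.presheaf.germ ⊤ q trivial).hom J
    obtain ⟨n, σ, hσ⟩ := IsLocalization.Away.surj h (X.presheaf.map (homOfLE hhU).op (s j))
    have hσ' : X.presheaf.map (homOfLE hhU).op (s j) *
        X.presheaf.map (homOfLE le_top : X.basicOpen h ⟶ ⊤).op (h ^ n) =
        X.presheaf.map (homOfLE le_top : X.basicOpen h ⟶ ⊤).op σ := by
      rw [map_pow]; exact hσ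
    have hσJ : σ ∈ J := by
      rw [hJ, RingHom.mem_ker]
      have e5 : kap i (X.basicOpen h) σ = i.c.app (op (X.basicOpen h))
          (X.presheaf.map (homOfLE hhU).op (s j) *
            X.presheaf.map (homOfLE le_top : X.basicOpen h ⟶ ⊤).op (h ^ n)) :=
        congrArg (fun x => i.c.app (op (X.basicOpen h)) x) hσ'.symm
      rw [e5, map_mul, c_res i hhU (s j) ((Opens.map i.base).map (homOfLE hhU)), hs0 j,
        map_zero, zero_mul]
    have hu : IsUnit (X.presheaf.germ ⊤ q trivial (h ^ n)) := by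
      rw [map_pow]
      exact ((X.mem_basicOpen_top h q).mp hqh).pow n
    have e4 : X.presheaf.germ U q hqU (s j) * X.presheaf.germ ⊤ q trivial (h ^ n) =
        X.presheaf.germ ⊤ q trivial σ := by
      have g1 : X.presheaf.germ U q hqU (s j) =
          X.presheaf.germ (X.basicOpen h) q hqh (X.presheaf.map (homOfLE hhU).op (s j)) :=
        (TopCat.Presheaf.germ_res_apply X.presheaf (homOfLE hhU) q hqh (s j)).symm
      have g2 : X.presheaf.germ ⊤ q trivial (h ^ n) =
          X.presheaf.germ (X.basicOpen h) q hqh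
            (X.presheaf.map (homOfLE le_top : X.basicOpen h ⟶ ⊤).op (h ^ n)) :=
        (TopCat.Presheaf.germ_res_apply X.presheaf (homOfLE le_top) q hqh (h ^ n)).symm
      have g3 : X.presheaf.germ ⊤ q trivial σ =
          X.presheaf.germ (X.basicOpen h) q hqh
            (X.presheaf.map (homOfLE le_top : X.basicOpen h ⟶ ⊤).op σ) :=
        (TopCat.Presheaf.germ_res_apply X.presheaf (homOfLE le_top) q hqh σ).symm
      rw [g1, g2, g3, ← hσ', map_mul]
    rw [← Ideal.mul_unit_mem_iff_mem _ hu, e4]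
    exact Ideal.mem_map_of_mem _ hσJ
  obtain ⟨N, hN⟩ := exists_pow_mul_mem J a (h * t) key
  refine ⟨N, ?_⟩
  rw [hJ, RingHom.mem_ker] at hN
  have hunit : IsUnit (kap i (X.basicOpen h) h) := by
    have h3 : IsUnit (X.presheaf.map (homOfLE le_top : X.basicOpen h ⟶ ⊤).op h) :=
      IsLocalization.Away.algebraMap_isUnit (S := Γ(X, X.basicOpen h)) h
    exact h3.map (i.c.app (op (X.basicOpen h))).hom
  have e6 : (h * t) ^ N * a = h ^ N * (t ^ N * a) := by ring
  rw [e6, map_mul, map_pow] at hN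
  exact ((hunit.pow N).mul_right_eq_zero).mp hN

/-- **Lemma D**: if `a` dies on `i⁻¹ D(t)` then `t ^ N * a` dies in `Γ(Z, O_Z)`. -/
theorem lemmaD (hK : LRSImm.KerLocallyGenerated i)
    (a t : Γ(X, ⊤)) (h0 : kap i (X.basicOpen t) a = 0) :
    ∃ N : ℕ, i.c.app (op ⊤) (t ^ N * a) = 0 := by
  choose h hph N hN using claimL i hK a t h0
  obtain ⟨T, -, hT⟩ := isCompact_univ.elim_nhds_subcover
    (fun p : X => (X.basicOpen (h p) : Set X))
    (fun p _ => (X.basicOpen (h p)).isOpen.mem_nhds (hph p))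
  refine ⟨T.sup N, ?_⟩
  apply c_top_eq_zero_of_local i
  intro p
  have hp : p ∈ ⋃ x ∈ T, (X.basicOpen (h x) : Set X) := hT (Set.mem_univ p)
  obtain ⟨k, hkT, hpk⟩ := Set.mem_iUnion₂.mp hp
  refine ⟨X.basicOpen (h k), hpk, ?_⟩
  have hle : N k ≤ T.sup N := Finset.le_sup hkT
  have e : t ^ (T.sup N) * a = t ^ (T.sup N - N k) * (t ^ N k * a) := by
    rw [← mul_assoc, ← pow_add, Nat.sub_add_cancel hle]
  rw [e, map_mul, hN k, mul_zero]

/-- **Main lemma**: the kernel of the stalk map of a closed immersion into an affine scheme is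
generated by germs of global sections dying in `Γ(Z, O_Z)`. -/
theorem mainLemma (hi : LRSImm.IsClosedImmersion i) (z : Z)
    (x : X.presheaf.stalk (i.base z)) (hx : i.stalkMap z x = 0) :
    x ∈ Ideal.map (X.presheaf.germ ⊤ (i.base z) trivial).hom
      (RingHom.ker (i.c.app (op ⊤)).hom) := by
  have hU := isAffineOpen_top X
  letI alg : Algebra Γ(X, ⊤) (X.presheaf.stalk (i.base z)) :=
    TopCat.Presheaf.algebra_section_stalk X.presheaf (⟨i.base z, trivial⟩ : (⊤ : X.Opens))
  have hloc : IsLocalization (hU.primeIdealOf ⟨i.base z, trivial⟩).asIdeal.primeCompl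
      (X.presheaf.stalk (i.base z)) :=
    hU.isLocalization_stalk ⟨i.base z, trivial⟩
  obtain ⟨⟨a, s⟩, has⟩ :=
    IsLocalization.surj (hU.primeIdealOf ⟨i.base z, trivial⟩).asIdeal.primeCompl x
  have has' : x * X.presheaf.germ ⊤ (i.base z) trivial (s : Γ(X, ⊤)) =
      X.presheaf.germ ⊤ (i.base z) trivial a := has
  have hsu : IsUnit (X.presheaf.germ ⊤ (i.base z) trivial (s : Γ(X, ⊤))) :=
    IsLocalization.map_units (X.presheaf.stalk (i.base z)) s
  have e0 := LocallyRingedSpace.stalkMap_germ_apply i ⊤ z trivial a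
  have h1 : Z.presheaf.germ ((Opens.map i.base).obj ⊤) z trivial (i.c.app (op ⊤) a) = 0 := by
    rw [← e0, ← has', map_mul, hx, zero_mul]
  have h2 : Z.presheaf.germ ((Opens.map i.base).obj ⊤) z trivial (i.c.app (op ⊤) a) =
      Z.presheaf.germ ((Opens.map i.base).obj ⊤) z trivial 0 := by rw [h1, map_zero]
  obtain ⟨W, hzW, iU, iV, hW⟩ := TopCat.Presheaf.germ_eq Z.presheaf
    (U := (Opens.map i.base).obj ⊤) (V := (Opens.map i.base).obj ⊤) z trivial trivial _ _ h2
  rw [map_zero] at hW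
  obtain ⟨U', hU'open, hU'W⟩ := hi.1.isInducing.isOpen_iff.mp W.isOpen
  have hpU' : i.base z ∈ U' := by
    have h3 : z ∈ i.base ⁻¹' U' := by rw [hU'W]; exact hzW
    exact h3
  obtain ⟨t, htU', hpt⟩ :=
    hU.exists_basicOpen_le (V := ⟨U', hU'open⟩) ⟨i.base z, hpU'⟩ trivial
  have hle : (Opens.map i.base).obj (X.basicOpen t) ≤ W := by
    intro w hw
    have h3 : w ∈ i.base ⁻¹' U' := htU' hw
    rw [hU'W] at h3
    exact h3
  have h0 : kap i (X.basicOpen t) a = 0 := by
    have e1 := c_res i (V' := X.basicOpen t) le_top a (homOfLE hle ≫ iU)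
    have e2 : Z.presheaf.map (homOfLE hle ≫ iU).op (i.c.app (op ⊤) a) = 0 := by
      rw [op_comp, Functor.map_comp, ConcreteCategory.comp_apply, hW, map_zero]
    exact e1.trans e2
  obtain ⟨N, hN⟩ := lemmaD i hi.2.2 a t h0
  have htu : IsUnit (X.presheaf.germ ⊤ (i.base z) trivial t) :=
    (X.mem_basicOpen_top t _).mp hpt
  have e : x * (X.presheaf.germ ⊤ (i.base z) trivial (s : Γ(X, ⊤)) *
      (X.presheaf.germ ⊤ (i.base z) trivial t) ^ N) =
      X.presheaf.germ ⊤ (i.base z) trivial (t ^ N * a) := by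
    rw [← mul_assoc, has', map_mul, map_pow, mul_comm]
  rw [← Ideal.mul_unit_mem_iff_mem _ (hsu.mul (htu.pow N)), e]
  exact Ideal.mem_map_of_mem _ (RingHom.mem_ker.mpr hN)

end Affine

section Final

/-- If a closed immersion `i : Z → X` of locally ringed spaces into an affine scheme factors through
a closed subscheme `j : S → X` such that every global function on `X` dying on `Z` dies on `S`,
then `Z → S` is an isomorphism. -/
theorem isIso_of_factor {X S : Scheme.{u}} [IsAffine X] {Z : LocallyRingedSpace.{u}}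
    (φ : Z ⟶ S.toLocallyRingedSpace) (j : S ⟶ X) [IsClosedImmersion j]
    (i : Z ⟶ X.toLocallyRingedSpace) (hfac : φ ≫ j.toLRSHom = i)
    (hi : LRSImm.IsClosedImmersion i)
    (hker : ∀ a : Γ(X, ⊤), i.c.app (op ⊤) a = 0 → j.toLRSHom.c.app (op ⊤) a = 0) :
    IsIso φ := by
  subst hfac
  have hjemb : Topology.IsClosedEmbedding j.toLRSHom.base := j.isClosedEmbedding
  have hφemb : Topology.IsEmbedding φ.base := by
    have h1 : Topology.IsEmbedding (j.toLRSHom.base ∘ φ.base) := hi.1.toIsEmbedding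
    exact Topology.IsEmbedding.of_comp φ.base.hom.continuous j.toLRSHom.base.hom.continuous h1
  have hφsurj : Function.Surjective φ.base := by
    intro y
    by_contra hy
    push Not at hy
    have hq : j.toLRSHom.base y ∉ Set.range (φ ≫ j.toLRSHom).base := by
      rintro ⟨z, hz⟩
      exact hy z (hjemb.injective hz)
    have hopen : IsOpen (Set.range (φ ≫ j.toLRSHom).base)ᶜ := hi.1.isClosed_range.isOpen_compl
    obtain ⟨t, ht1, ht2⟩ := (isAffineOpen_top X).exists_basicOpen_le
      (V := ⟨(Set.range (φ ≫ j.toLRSHom).base)ᶜ, hopen⟩) ⟨j.toLRSHom.base y, hq⟩ trivial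
    have hempty : (Opens.map (φ ≫ j.toLRSHom).base).obj (X.basicOpen t) = ⊥ :=
      le_bot_iff.mp (fun z hz => (ht1 hz ⟨z, rfl⟩).elim)
    have hsub : Subsingleton (Z.presheaf.obj
        (op ((Opens.map (φ ≫ j.toLRSHom).base).obj (X.basicOpen t)))) :=
      CommRingCat.subsingleton_of_isTerminal (Z.sheaf.isTerminalOfEqEmpty hempty)
    have h0 : kap (φ ≫ j.toLRSHom) (X.basicOpen t) 1 = 0 := @Subsingleton.elim _ hsub _ _
    obtain ⟨N, hN⟩ := lemmaD (φ ≫ j.toLRSHom) hi.2.2 1 t h0
    have hN' : (φ ≫ j.toLRSHom).c.app (op ⊤) (t ^ (N + 1)) = 0 := by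
      have e : t ^ (N + 1) = t * (t ^ N * 1) := by ring
      rw [e, map_mul, hN, mul_zero]
    have hj0 : j.toLRSHom.c.app (op ⊤) (t ^ (N + 1)) = 0 := hker _ hN'
    have hy2 : y ∈ j ⁻¹ᵁ X.basicOpen t := ht2
    rw [Scheme.preimage_basicOpen] at hy2
    have hb : S.basicOpen (j.app ⊤ t) = ⊥ := by
      have h1 : S.basicOpen ((j.app ⊤ t) ^ (N + 1)) = S.basicOpen (j.app ⊤ t) :=
        S.basicOpen_pow (j.app ⊤ t) (by omega)
      have h2 : (j.app ⊤ t) ^ (N + 1) = 0 := by rw [← map_pow]; exact hj0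
      rw [← h1, h2, Scheme.basicOpen_zero]
    rw [hb] at hy2
    exact hy2
  have hφopen : Topology.IsOpenEmbedding φ.base :=
    ⟨hφemb, by rw [hφsurj.range_eq]; exact isOpen_univ⟩
  have hstalk : ∀ z : Z, IsIso (φ.stalkMap z) := by
    intro z
    rw [ConcreteCategory.isIso_iff_bijective]
    have hcompst : (φ ≫ j.toLRSHom).stalkMap z =
        j.toLRSHom.stalkMap (φ.base z) ≫ φ.stalkMap z :=
      LocallyRingedSpace.stalkMap_comp φ j.toLRSHom z
    have hisurj := stalkMap_surjective_of (φ ≫ j.toLRSHom) hi.1.isInducing hi.2.1 z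
    have hjsurj : Function.Surjective (j.toLRSHom.stalkMap (φ.base z)) :=
      j.stalkMap_surjective (φ.base z)
    constructor
    · intro y1 y2 h12
      have hsub : φ.stalkMap z (y1 - y2) = 0 := by rw [map_sub, h12, sub_self]
      obtain ⟨x, hx⟩ := hjsurj (y1 - y2)
      have hix : (φ ≫ j.toLRSHom).stalkMap z x = 0 := by
        have e : (φ ≫ j.toLRSHom).stalkMap z x =
            φ.stalkMap z (j.toLRSHom.stalkMap (φ.base z) x) :=
          ConcreteCategory.congr_hom hcompst x
        rw [e, hx, hsub]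
      have hmem := mainLemma (φ ≫ j.toLRSHom) hi z x hix
      have hle : Ideal.map (X.presheaf.germ ⊤ ((φ ≫ j.toLRSHom).base z) trivial).hom
          (RingHom.ker ((φ ≫ j.toLRSHom).c.app (op ⊤)).hom) ≤
          RingHom.ker (j.toLRSHom.stalkMap (φ.base z)).hom := by
        rw [Ideal.map_le_iff_le_comap]
        intro a ha
        rw [Ideal.mem_comap, RingHom.mem_ker]
        have e := LocallyRingedSpace.stalkMap_germ_apply j.toLRSHom ⊤ (φ.base z) trivial a
        refine e.trans ?_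
        rw [hker a (RingHom.mem_ker.mp ha), map_zero]
      have h3 : y1 - y2 = 0 := by
        rw [← hx]; exact RingHom.mem_ker.mp (hle hmem)
      exact sub_eq_zero.mp h3
    · intro y
      obtain ⟨x, hx⟩ := hisurj y
      exact ⟨j.toLRSHom.stalkMap (φ.base z) x,
        (ConcreteCategory.congr_hom hcompst x).symm.trans hx⟩
  have himm : LocallyRingedSpace.IsOpenImmersion φ :=
    LocallyRingedSpace.IsOpenImmersion.of_stalk_iso φ hφopen
  have hepi : Epi φ.base := (TopCat.epi_iff_surjective _).mpr hφsurj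
  exact LocallyRingedSpace.IsOpenImmersion.to_iso φ

/-- Factorization of `i` through `Spec (R ⧸ I)`. -/
theorem factor (R : Type u) [CommRing R] (Z : LocallyRingedSpace.{u})
    (i : Z ⟶ (Spec (CommRingCat.of R)).toLocallyRingedSpace) (I : Ideal R)
    (hI : I = RingHom.ker ((Scheme.ΓSpecIso (CommRingCat.of R)).inv ≫ i.c.app (op ⊤)).hom) :
    ∃ φ : Z ⟶ (Spec (CommRingCat.of (R ⧸ I))).toLocallyRingedSpace,
      φ ≫ (Spec.map (CommRingCat.ofHom (Ideal.Quotient.mk I))).toLRSHom = i := by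
  let ρ : CommRingCat.of R ⟶ LocallyRingedSpace.Γ.obj (op Z) :=
    (Scheme.ΓSpecIso (CommRingCat.of R)).inv ≫ i.c.app (op ⊤)
  have hρ : ΓSpec.locallyRingedSpaceAdjunction.homEquiv Z (op (CommRingCat.of R)) ρ.op = i := by
    apply (Equiv.eq_symm_apply _).mp
    rw [Adjunction.homEquiv_counit]
    rfl
  have hlift : ∀ a ∈ I, ρ.hom a = 0 := fun a ha => by
    rw [hI] at ha; exact RingHom.mem_ker.mp ha
  let ρbar : CommRingCat.of (R ⧸ I) ⟶ LocallyRingedSpace.Γ.obj (op Z) :=
    CommRingCat.ofHom (Ideal.Quotient.lift I ρ.hom hlift)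
  have hfac : CommRingCat.ofHom (Ideal.Quotient.mk I) ≫ ρbar = ρ := by
    apply CommRingCat.hom_ext
    apply RingHom.ext
    intro a
    exact Ideal.Quotient.lift_mk I ρ.hom hlift
  refine ⟨ΓSpec.locallyRingedSpaceAdjunction.homEquiv Z (op (CommRingCat.of (R ⧸ I))) ρbar.op, ?_⟩
  have hnat := ΓSpec.locallyRingedSpaceAdjunction.homEquiv_naturality_right ρbar.op
    (CommRingCat.ofHom (Ideal.Quotient.mk I)).op
  rw [← op_comp, hfac, hρ] at hnat
  exact hnat.symm

theorem main (R : Type u) [CommRing R] (Z : LocallyRingedSpace.{u})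
    (i : Z ⟶ (Spec (CommRingCat.of R)).toLocallyRingedSpace) (hi : LRSImm.IsClosedImmersion i)
    (I : Ideal R)
    (hI : I = RingHom.ker ((Scheme.ΓSpecIso (CommRingCat.of R)).inv ≫ i.c.app (op ⊤)).hom) :
    ∃ e : Z ≅ (Spec (CommRingCat.of (R ⧸ I))).toLocallyRingedSpace,
      e.hom ≫ (Spec.map (CommRingCat.ofHom (Ideal.Quotient.mk I))).toLRSHom = i := by
  obtain ⟨φ, hφ⟩ := factor R Z i I hI
  have hcl : IsClosedImmersion (Spec.map (CommRingCat.ofHom (Ideal.Quotient.mk I))) :=
    IsClosedImmersion.spec_of_surjective _ Ideal.Quotient.mk_surjective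
  have hiso : IsIso φ := by
    refine isIso_of_factor φ (Spec.map (CommRingCat.ofHom (Ideal.Quotient.mk I))) i hφ hi ?_
    intro a ha
    obtain ⟨r, hr⟩ : ∃ r : R, r = (Scheme.ΓSpecIso (CommRingCat.of R)).hom a := ⟨_, rfl⟩
    have har : a = (Scheme.ΓSpecIso (CommRingCat.of R)).inv r := by
      rw [hr]; exact (Iso.hom_inv_id_apply (Scheme.ΓSpecIso (CommRingCat.of R)) a).symm
    have hrI : r ∈ I := by
      rw [hI, RingHom.mem_ker]
      show i.c.app (op ⊤) ((Scheme.ΓSpecIso (CommRingCat.of R)).inv r) = 0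
      rw [← har]; exact ha
    have hnat := Scheme.ΓSpecIso_inv_naturality (CommRingCat.ofHom (Ideal.Quotient.mk I))
    have e1 : (Spec.map (CommRingCat.ofHom (Ideal.Quotient.mk I))).appTop
        ((Scheme.ΓSpecIso (CommRingCat.of R)).inv r) =
        (Scheme.ΓSpecIso (CommRingCat.of (R ⧸ I))).inv (Ideal.Quotient.mk I r) :=
      (ConcreteCategory.congr_hom hnat r).symm
    show (Spec.map (CommRingCat.ofHom (Ideal.Quotient.mk I))).appTop a = 0
    rw [har, e1, Ideal.Quotient.eq_zero_iff_mem.mpr hrI, map_zero]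
  exact ⟨asIso φ, hφ⟩

end Final

end Groth.Agent.Lib.Helper6.LRSClosed
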