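import Mathlib
import Groth.Prelude.Def_AlgGrp

/-!
Translations for an action of a group scheme over a base, and a homogeneity argument for the
smooth locus of an equivariant morphism over an algebraically closed field.
-/

set_option autoImplicit false
universe u
open CategoryTheory CategoryTheory.Limits MonoidalCategory CartesianMonoidalCategory MonObj GrpObj
  AlgebraicGeometry

namespace Groth.Agent.Lib.Helper6.ActionTranslate

section Cat

variable {S : Scheme.{u}} {G X : Over S} [GrpObj G]

/-- `g • y` on `T`-valued points. -/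
noncomputable def smul (a : AlgGrp.Action G X) {T : Over S} (g : T ⟶ G) (y : T ⟶ X) : T ⟶ X :=
  lift g y ≫ a.act

lemma comp_smul (a : AlgGrp.Action G X) {T T' : Over S} (f : T' ⟶ T) (g : T ⟶ G) (y : T ⟶ X) :
    f ≫ smul a g y = smul a (f ≫ g) (f ≫ y) := by
  simp only [smul, comp_lift_assoc]

lemma one_smul (a : AlgGrp.Action G X) {T : Over S} (y : T ⟶ X) :
    smul a (1 : T ⟶ G) y = y := by
  have h : lift (1 : T ⟶ G) y = lift (toUnit T) y ≫ (η[G] ▷ X) := by
    rw [lift_whiskerRight]; rfl
  simp only [smul]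
  rw [h, Category.assoc, a.one_act, lift_leftUnitor_hom]

lemma mul_smul (a : AlgGrp.Action G X) {T : Over S} (g g' : T ⟶ G) (y : T ⟶ X) :
    smul a (g * g') y = smul a g (smul a g' y) := by
  have h : lift (g * g') y = lift (lift g g') y ≫ (μ[G] ▷ X) := by
    rw [lift_whiskerRight]; rfl
  simp only [smul]
  rw [h, Category.assoc, a.mul_act, lift_lift_associator_hom_assoc, lift_whiskerLeft_assoc]

/-- Translation of `X` by a section `h` of `G`. -/
noncomputable def transl (a : AlgGrp.Action G X) (h : 𝟙_ (Over S) ⟶ G) : X ⟶ X :=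
  smul a (toUnit X ≫ h) (𝟙 X)

lemma transl_comp (a : AlgGrp.Action G X) (h h' : 𝟙_ (Over S) ⟶ G) :
    transl a h ≫ transl a h' = transl a (h' * h) := by
  calc transl a h ≫ transl a h'
      = smul a (transl a h ≫ toUnit X ≫ h') (transl a h ≫ 𝟙 X) := comp_smul a _ _ _
    _ = smul a (toUnit X ≫ h') (smul a (toUnit X ≫ h) (𝟙 X)) := by
        rw [Category.comp_id, comp_toUnit_assoc]; rfl
    _ = smul a ((toUnit X ≫ h') * (toUnit X ≫ h)) (𝟙 X) := (mul_smul a _ _ _).symm
    _ = transl a (h' * h) := by rw [← MonObj.comp_mul]; rfl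

lemma transl_one (a : AlgGrp.Action G X) : transl a (1 : 𝟙_ (Over S) ⟶ G) = 𝟙 X := by
  rw [transl, MonObj.comp_one, one_smul]

/-- Translation by a section is an automorphism. -/
noncomputable def translIso (a : AlgGrp.Action G X) (h : 𝟙_ (Over S) ⟶ G) : X ≅ X where
  hom := transl a h
  inv := transl a h⁻¹
  hom_inv_id := by rw [transl_comp, inv_mul_cancel, transl_one]
  inv_hom_id := by rw [transl_comp, mul_inv_cancel, transl_one]

variable (G) in
/-- The action of `G` on itself by left multiplication. -/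
noncomputable def mulAction : AlgGrp.Action G G where
  act := μ[G]
  one_act := by simp
  mul_act := by simp

lemma comp_transl_mulAction (g0 h : 𝟙_ (Over S) ⟶ G) :
    g0 ≫ transl (mulAction G) h = h * g0 := by
  rw [transl, comp_smul, Category.comp_id, comp_toUnit_assoc, toUnit_unit, Category.id_comp]
  rfl

lemma comp_orbitMap (a : AlgGrp.Action G X) (x : 𝟙_ (Over S) ⟶ X) (σ : 𝟙_ (Over S) ⟶ G) :
    σ ≫ a.orbitMap x = lift σ x ≫ a.act := by
  change σ ≫ smul a (𝟙 G) (toUnit G ≫ x) = smul a σ x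
  rw [comp_smul, Category.comp_id, comp_toUnit_assoc, toUnit_unit, Category.id_comp]

lemma transl_orbitMap (a : AlgGrp.Action G X) (x : 𝟙_ (Over S) ⟶ X) (h : 𝟙_ (Over S) ⟶ G) :
    transl (mulAction G) h ≫ a.orbitMap x = a.orbitMap x ≫ transl a h := by
  have e1 : transl (mulAction G) h = (toUnit G ≫ h) * 𝟙 G := rfl
  change transl (mulAction G) h ≫ smul a (𝟙 G) (toUnit G ≫ x) =
    smul a (𝟙 G) (toUnit G ≫ x) ≫ transl a h
  rw [comp_smul, Category.comp_id, comp_toUnit_assoc, e1, mul_smul]
  rw [transl, comp_smul, Category.comp_id, comp_toUnit_assoc]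

end Cat

section Geom

lemma smoothLocus_congr {X Y : Scheme.{u}} {f g : X ⟶ Y} [LocallyOfFinitePresentation f]
    [LocallyOfFinitePresentation g] (h : f = g) : f.smoothLocus = g.smoothLocus := by
  subst h; rfl

lemma smoothLocus_comp_iso {X Y Z : Scheme.{u}} (f : X ⟶ Y) [LocallyOfFinitePresentation f]
    (e : Y ⟶ Z) [IsIso e] : (f ≫ e).smoothLocus = f.smoothLocus := by
  ext x
  refine Iff.trans ?_ (RingHom.FormallySmooth.respectsIso.cancel_left_isIso
    (e.stalkMap (f x)) (f.stalkMap x))
  rw [← CommRingCat.hom_comp, ← Scheme.Hom.stalkMap_comp]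
  rfl

set_option backward.defeqAttrib.useBackward true in
set_option backward.isDefEq.respectTransparency false in
/-- If the smooth locus of `φ` is nonempty and any two rational points of the source are exchanged
by a pair of compatible automorphisms, then `φ` is smooth. -/
theorem smooth_of_translations {k : Type u} [Field k] [IsAlgClosed k]
    {G X : Over (Spec (CommRingCat.of k))} [LocallyOfFiniteType G.hom] (φ : G ⟶ X)
    [LocallyOfFinitePresentation φ.left]
    (hne : (φ.left.smoothLocus : Set G.left).Nonempty)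
    (H : ∀ g0 g1 : 𝟙_ (Over (Spec (CommRingCat.of k))) ⟶ G,
      ∃ (α : G ≅ G) (β : X ≅ X), g0 ≫ α.hom = g1 ∧ α.hom ≫ φ = φ ≫ β.hom) :
    Smooth φ.left := by
  have := LocallyOfFiniteType.jacobsonSpace G.hom
  rw [← Scheme.Hom.smoothLocus_eq_top_iff, ← TopologicalSpace.Opens.coe_eq_univ,
    ← not_ne_iff, ← Set.nonempty_compl]
  intro Hc
  obtain ⟨g1, hg1, hg1c⟩ :=
    nonempty_inter_closedPoints Hc φ.left.smoothLocus.2.isClosed_compl.isLocallyClosed
  obtain ⟨g0, hg0, hg0c⟩ :=
    nonempty_inter_closedPoints hne φ.left.smoothLocus.2.isLocallyClosed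
  let g1' : 𝟙_ (Over (Spec (CommRingCat.of k))) ⟶ G :=
    Over.homMk _ ((pointEquivClosedPoint G.hom).symm ⟨g1, hg1c⟩).2
  let g0' : 𝟙_ (Over (Spec (CommRingCat.of k))) ⟶ G :=
    Over.homMk _ ((pointEquivClosedPoint G.hom).symm ⟨g0, hg0c⟩).2
  obtain ⟨α, β, hα, hαβ⟩ := H g0' g1'
  have hα' : α.hom.left g0 = g1 := by
    simpa [g0', g1', pointEquivClosedPoint] using
      congr(($hα).left (IsLocalRing.closedPoint k))
  have : IsIso α.hom.left := inferInstanceAs (IsIso ((Over.forget _).map α.hom))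
  have : IsIso β.hom.left := inferInstanceAs (IsIso ((Over.forget _).map β.hom))
  have e1 : α.hom.left ⁻¹ᵁ φ.left.smoothLocus = (α.hom.left ≫ φ.left).smoothLocus :=
    Scheme.Hom.preimage_smoothLocus_eq _ _
  have e2 : (α.hom.left ≫ φ.left).smoothLocus = (φ.left ≫ β.hom.left).smoothLocus :=
    smoothLocus_congr (by rw [← Over.comp_left, hαβ, Over.comp_left])
  have e3 := smoothLocus_comp_iso φ.left β.hom.left
  have h1 : g0 ∈ α.hom.left ⁻¹ᵁ φ.left.smoothLocus := by rw [e1, e2, e3]; exact hg0
  have h2 : α.hom.left g0 ∈ φ.left.smoothLocus := h1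
  rw [hα'] at h2
  exact hg1 h2

end Geom

end Groth.Agent.Lib.Helper6.ActionTranslate
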