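import Mathlib

/-!
# Jacobian minors: general lemmas (matrix rank, cyclic modules, cotangent relations)
-/

set_option autoImplicit false

namespace Groth.Agent.Lib.Helper6.JacMinorA

open TensorProduct

/-- rows independent ⇒ some maximal minor on distinct columns is nonzero -/
theorem exists_minor_ne_zero {κ : Type*} [Field κ] {c n : ℕ} (J : Matrix (Fin c) (Fin n) κ)
    (h : ∀ a : Fin c → κ, Matrix.vecMul a J = 0 → a = 0) :
    ∃ I : Fin c ↪ Fin n, (J.submatrix id I).det ≠ 0 := by
  classical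
  obtain ⟨col, hcol⟩ : ∃ col : Fin n → (Fin c → κ), col = fun i j => J j i := ⟨_, rfl⟩
  have hsingle : ∀ x : Fin c → κ, x = ∑ j, x j • (Pi.single j (1 : κ) : Fin c → κ) := by
    intro x
    ext j'
    simp [Finset.sum_apply, Pi.single_apply]
  have hspan : Submodule.span κ (Set.range col) = ⊤ := by
    by_contra hne
    obtain ⟨φ, hφ, hle⟩ := Submodule.exists_le_ker_of_lt_top _ (lt_top_iff_ne_top.mpr hne)
    apply hφ
    have ha : (fun j => φ (Pi.single j 1)) = (0 : Fin c → κ) := by
      apply h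
      ext i
      have h1 : φ (col i) = 0 := hle (Submodule.subset_span ⟨i, rfl⟩)
      have h3 : Matrix.vecMul (fun j => φ (Pi.single j 1)) J i = φ (col i) := by
        rw [hsingle (col i), map_sum]
        simp only [map_smul, smul_eq_mul, Matrix.vecMul, dotProduct, hcol]
        exact Finset.sum_congr rfl (fun j _ => mul_comm _ _)
      rw [h3, h1]
      rfl
    apply LinearMap.ext
    intro x
    rw [hsingle x, map_sum]
    simp only [map_smul]
    rw [LinearMap.zero_apply]
    apply Finset.sum_eq_zero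
    intro j _
    rw [show φ (Pi.single j 1) = 0 from congrFun ha j, smul_zero]
  obtain ⟨ι', a, ha_inj, ha_span, ha_li⟩ := exists_linearIndependent' κ col
  rw [hspan] at ha_span
  haveI : Finite ι' := Finite.of_injective a ha_inj
  letI : Fintype ι' := Fintype.ofFinite ι'
  let b : Module.Basis ι' κ (Fin c → κ) := Module.Basis.mk ha_li (by rw [ha_span])
  have hcard : Fintype.card ι' = c := by
    have h1 := Module.finrank_eq_card_basis b
    rw [Module.finrank_fin_fun] at h1
    exact h1.symm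
  let e : Fin c ≃ ι' := (Fintype.equivFinOfCardEq hcard).symm
  refine ⟨⟨a ∘ e, ha_inj.comp e.injective⟩, ?_⟩
  have hli : LinearIndependent κ (fun t : Fin c => col (a (e t))) :=
    ha_li.comp e e.injective
  have hli' : LinearIndependent κ (J.submatrix id (a ∘ e)).col := by
    convert hli using 1
    ext t j
    simp [hcol, Matrix.col]
  exact ((Matrix.isUnit_iff_isUnit_det _).mp
    (Matrix.linearIndependent_cols_iff_isUnit.mp hli')).ne_zero

/-- a cyclic module whose generator dies in the fibre has a killing scalar that is a unit in the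
fibre -/
theorem exists_smul_eq_zero {P κ N : Type*} [CommRing P] [Field κ] [Algebra P κ]
    [AddCommGroup N] [Module P N]
    (x : N) (hgen : ∀ y : N, ∃ s : P, s • x = y) (h : (1 : κ) ⊗ₜ[P] x = 0) :
    ∃ s : P, algebraMap P κ s ≠ 0 ∧ s • x = 0 := by
  by_contra hcon
  push Not at hcon
  have hsurj : Function.Surjective (LinearMap.toSpanSingleton P N x) := fun y => by
    obtain ⟨s, hs⟩ := hgen y
    exact ⟨s, by rw [LinearMap.toSpanSingleton_apply]; exact hs⟩
  have hle : LinearMap.ker (LinearMap.toSpanSingleton P N x) ≤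
      LinearMap.ker (Algebra.linearMap P κ) := by
    intro s hs
    rw [LinearMap.mem_ker, LinearMap.toSpanSingleton_apply] at hs
    rw [LinearMap.mem_ker, Algebra.linearMap_apply]
    by_contra h0
    exact hcon s h0 hs
  let e := (LinearMap.toSpanSingleton P N x).quotKerEquivOfSurjective hsurj
  let ψ : N →ₗ[P] κ :=
    (Submodule.liftQ _ (Algebra.linearMap P κ) hle) ∘ₗ e.symm.toLinearMap
  have hψ : ψ x = 1 := by
    have h1 : e.symm x = Submodule.Quotient.mk 1 := by
      rw [LinearEquiv.symm_apply_eq, LinearMap.quotKerEquivOfSurjective_apply_mk,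
        LinearMap.toSpanSingleton_apply, one_smul]
    show (Submodule.liftQ _ (Algebra.linearMap P κ) hle) (e.symm x) = 1
    rw [h1, Submodule.liftQ_apply, Algebra.linearMap_apply, map_one]
  have h2 := congrArg (LinearMap.liftBaseChange κ ψ) h
  rw [LinearMap.liftBaseChange_tmul, hψ, map_zero, one_smul] at h2
  exact one_ne_zero h2

section Cot

variable {P : Type*} [CommRing P] {c : ℕ} (F : Fin c → P) (K : Ideal P)
  (hK : K = Ideal.span (Set.range F))

include hK in
theorem mem (j : Fin c) : F j ∈ K := hK ▸ Ideal.subset_span ⟨j, rfl⟩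

/-- classes of the generators in the cotangent module -/
noncomputable def m (j : Fin c) : K.Cotangent := K.toCotangent ⟨F j, mem F K hK j⟩

theorem exists_repr (y : K.Cotangent) : ∃ p : Fin c → P, y = ∑ j, p j • m F K hK j := by
  obtain ⟨⟨w, hw⟩, rfl⟩ := K.toCotangent_surjective y
  have hw' : w ∈ Ideal.span (Set.range F) := hK ▸ hw
  obtain ⟨p, hp⟩ := Ideal.mem_span_range_iff_exists_fun.mp hw'
  refine ⟨p, ?_⟩
  have h1 : (⟨w, hw⟩ : K) = ∑ j, p j • (⟨F j, mem F K hK j⟩ : K) := by
    apply Subtype.ext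
    rw [Submodule.coe_sum]
    simp only [Submodule.coe_smul, smul_eq_mul]
    exact hp.symm
  rw [h1, map_sum]
  simp only [map_smul]
  rfl

include hK in
theorem sq_repr (w : P) (hw : w ∈ K ^ 2) :
    ∃ k : Fin c → P, (∀ j, k j ∈ K) ∧ w = ∑ j, k j * F j := by
  rw [pow_two] at hw
  refine Submodule.mul_induction_on hw ?_ ?_
  · intro a ha b hb
    have hb' : b ∈ Ideal.span (Set.range F) := hK ▸ hb
    obtain ⟨r, hr⟩ := Ideal.mem_span_range_iff_exists_fun.mp hb'
    refine ⟨fun j => a * r j, fun j => K.mul_mem_right _ ha, ?_⟩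
    rw [← hr, Finset.mul_sum]
    exact Finset.sum_congr rfl (fun j _ => by ring)
  · rintro x y ⟨k1, hk1, rfl⟩ ⟨k2, hk2, rfl⟩
    refine ⟨fun j => k1 j + k2 j, fun j => K.add_mem (hk1 j) (hk2 j), ?_⟩
    rw [← Finset.sum_add_distrib]
    exact Finset.sum_congr rfl (fun j _ => by ring)

theorem exists_repr_tensor {κ : Type*} [CommRing κ] [Algebra P κ] (z : κ ⊗[P] K.Cotangent) :
    ∃ a : Fin c → κ, z = ∑ j, a j • ((1 : κ) ⊗ₜ[P] m F K hK j) := by
  induction z using TensorProduct.induction_on with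
  | zero => exact ⟨0, by simp⟩
  | tmul b y =>
    obtain ⟨p, rfl⟩ := exists_repr F K hK y
    refine ⟨fun j => p j • b, ?_⟩
    rw [TensorProduct.tmul_sum]
    refine Finset.sum_congr rfl (fun j _ => ?_)
    rw [TensorProduct.smul_tmul', ← TensorProduct.smul_tmul, smul_eq_mul, mul_one]
  | add z1 z2 h1 h2 =>
    obtain ⟨a1, rfl⟩ := h1
    obtain ⟨a2, rfl⟩ := h2
    refine ⟨fun j => a1 j + a2 j, ?_⟩
    rw [← Finset.sum_add_distrib]
    exact Finset.sum_congr rfl (fun j _ => (add_smul _ _ _).symm)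

theorem step3 {κ : Type*} [Field κ] [Algebra P κ] (hKκ : ∀ k ∈ K, algebraMap P κ k = 0)
    (a : Fin c → κ) (j0 : Fin c) (ha : a j0 ≠ 0)
    (hz : ∑ j, a j • ((1 : κ) ⊗ₜ[P] m F K hK j) = 0) :
    ∃ s : P, algebraMap P κ s ≠ 0 ∧
      s * F j0 ∈ Ideal.span (Set.range fun j : {j : Fin c // j ≠ j0} => F j) := by
  classical
  obtain ⟨M', hM'⟩ : ∃ M' : Submodule P K.Cotangent, M' = Submodule.span P
      (Set.range fun j : {j : Fin c // j ≠ j0} => m F K hK j) := ⟨_, rfl⟩
  have hπ0 : ∀ j : Fin c, j ≠ j0 → M'.mkQ (m F K hK j) = 0 := fun j hj => by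
    rw [Submodule.mkQ_apply, Submodule.Quotient.mk_eq_zero, hM']
    exact Submodule.subset_span ⟨⟨j, hj⟩, rfl⟩
  have hgen : ∀ y : K.Cotangent ⧸ M', ∃ s : P, s • M'.mkQ (m F K hK j0) = y := by
    intro y
    obtain ⟨y', rfl⟩ := M'.mkQ_surjective y
    obtain ⟨p, hp⟩ := exists_repr F K hK y'
    refine ⟨p j0, ?_⟩
    rw [hp, map_sum]
    simp only [map_smul]
    rw [Finset.sum_eq_single j0]
    · intro j _ hj
      rw [hπ0 j hj, smul_zero]
    · intro h
      exact absurd (Finset.mem_univ _) h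
  have h1 : (1 : κ) ⊗ₜ[P] M'.mkQ (m F K hK j0) = 0 := by
    have h2 := congrArg (M'.mkQ.baseChange κ) hz
    rw [map_sum, map_zero] at h2
    simp only [map_smul, LinearMap.baseChange_tmul] at h2
    rw [Finset.sum_eq_single j0] at h2
    · rcases smul_eq_zero.mp h2 with h3 | h3
      · exact absurd h3 ha
      · exact h3
    · intro j _ hj
      rw [hπ0 j hj, TensorProduct.tmul_zero, smul_zero]
    · intro h
      exact absurd (Finset.mem_univ _) h
  obtain ⟨s, hs, hsx⟩ := exists_smul_eq_zero (M'.mkQ (m F K hK j0)) hgen h1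
  have h3 : s • m F K hK j0 ∈ M' := by
    rw [← Submodule.Quotient.mk_eq_zero, Submodule.Quotient.mk_smul]
    exact hsx
  rw [hM'] at h3
  obtain ⟨p, hp⟩ := (Submodule.mem_span_range_iff_exists_fun P).mp h3
  have hmemK : s * F j0 - ∑ j : {j : Fin c // j ≠ j0}, p j * F j ∈ K :=
    K.sub_mem (K.mul_mem_left _ (mem F K hK j0))
      (K.sum_mem fun j _ => K.mul_mem_left _ (mem F K hK j))
  have h4 : K.toCotangent ⟨_, hmemK⟩ = 0 := by
    have h5 : (⟨_, hmemK⟩ : K) = s • (⟨F j0, mem F K hK j0⟩ : K) -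
        ∑ j : {j : Fin c // j ≠ j0}, p j • (⟨F j, mem F K hK j⟩ : K) := by
      apply Subtype.ext
      rw [Submodule.coe_sub, Submodule.coe_smul, Submodule.coe_sum]
      simp only [Submodule.coe_smul, smul_eq_mul]
    rw [h5, map_sub, map_smul, map_sum]
    simp only [map_smul]
    rw [sub_eq_zero]
    exact hp.symm
  rw [Ideal.toCotangent_eq_zero] at h4
  obtain ⟨k, hk, hk2⟩ := sq_repr F K hK _ h4
  refine ⟨s - k j0, ?_, ?_⟩
  · rw [map_sub, hKκ _ (hk j0), sub_zero]
    exact hs
  · have h6 : (s - k j0) * F j0 = ∑ j : {j : Fin c // j ≠ j0}, (p j + k j) * F j := by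
      rw [Fintype.sum_eq_add_sum_subtype_ne _ j0] at hk2
      simp only [add_mul, Finset.sum_add_distrib]
      linear_combination hk2
    rw [h6]
    exact Ideal.sum_mem _ fun j _ => Ideal.mul_mem_left _ _ (Ideal.subset_span ⟨j, rfl⟩)

end Cot

end Groth.Agent.Lib.Helper6.JacMinorA
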