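import Mathlib
import Groth.Agent.Lib.Helper6.JacMinorA

/-!
# Standard smooth neighbourhoods

A finite type algebra `B` over `A`, locally around a prime `q`, is a quotient of a standard smooth
`A`-algebra of relative dimension `dim_κ(q) Ω_{B/A} ⊗ κ(q)`.
-/

set_option autoImplicit false

namespace Groth.Agent.Lib.Helper6.StdSmoothNhd

open MvPolynomial TensorProduct

universe u

noncomputable section

section Fibre

variable {A B : Type u} [CommRing A] [CommRing B] [Algebra A B] {n : ℕ}
  (f : MvPolynomial (Fin n) A →ₐ[A] B) (q : Ideal B) [q.IsPrime]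

/-- the Jacobian vector of `p` at `q` -/
def Jv (p : MvPolynomial (Fin n) A) : Fin n → q.ResidueField :=
  fun i => algebraMap B q.ResidueField (f (pderiv i p))

theorem Jv_add (p p' : MvPolynomial (Fin n) A) : Jv f q (p + p') = Jv f q p + Jv f q p' := by
  funext i
  simp only [Jv, map_add, Pi.add_apply]

theorem Jv_C (a : A) : Jv f q (C a) = 0 := by
  funext i
  simp only [Jv, pderiv_C, map_zero, Pi.zero_apply]

theorem Jv_mul (p p' : MvPolynomial (Fin n) A) :
    Jv f q (p * p') = algebraMap B q.ResidueField (f p) • Jv f q p'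
      + algebraMap B q.ResidueField (f p') • Jv f q p := by
  funext i
  simp only [Jv, Derivation.leibniz, map_add, smul_eq_mul, map_mul, Pi.add_apply, Pi.smul_apply]

theorem Jv_X (j : Fin n) : Jv f q (X j) = Pi.single j 1 := by
  funext i
  by_cases h : i = j
  · rw [h]
    simp only [Jv, pderiv_X_self, map_one, Pi.single_eq_same]
  · have h' : j ≠ i := fun e => h e.symm
    simp only [Jv, pderiv_X_of_ne h', map_zero, Pi.single_eq_of_ne h]

/-- the generators of the fibre of the module of differentials -/
def vv (i : Fin n) : q.ResidueField ⊗[B] Ω[B⁄A] :=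
  (1 : q.ResidueField) ⊗ₜ[B] KaehlerDifferential.D A B (f (X i))

/-- the presentation map of the fibre of the module of differentials -/
def TT : (Fin n → q.ResidueField) →ₗ[q.ResidueField] q.ResidueField ⊗[B] Ω[B⁄A] :=
  Fintype.linearCombination q.ResidueField (vv f q)

theorem TT_apply (a : Fin n → q.ResidueField) : TT f q a = ∑ i, a i • vv f q i :=
  Fintype.linearCombination_apply _ _ _

theorem D_eq (p : MvPolynomial (Fin n) A) :
    KaehlerDifferential.D A B (f p)
      = ∑ i, f (pderiv i p) • KaehlerDifferential.D A B (f (X i)) := by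
  induction p using MvPolynomial.induction_on with
  | C a =>
    have h1 : f (C a) = algebraMap A B a := by
      rw [← MvPolynomial.algebraMap_eq, AlgHom.commutes]
    rw [h1, Derivation.map_algebraMap]
    symm
    apply Finset.sum_eq_zero
    intro i _
    rw [pderiv_C, map_zero, zero_smul]
  | add p p' hp hp' =>
    rw [map_add, map_add, hp, hp', ← Finset.sum_add_distrib]
    apply Finset.sum_congr rfl
    intro i _
    rw [map_add, map_add, add_smul]
  | mul_X p j hp =>
    have h1 : ∀ i, f (pderiv i (p * X j)) • KaehlerDifferential.D A B (f (X i))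
        = (if i = j then f p • KaehlerDifferential.D A B (f (X j)) else 0)
          + f (X j) • (f (pderiv i p) • KaehlerDifferential.D A B (f (X i))) := by
      intro i
      rw [Derivation.leibniz, smul_eq_mul, smul_eq_mul, map_add, map_mul, map_mul, add_smul,
        mul_smul, mul_smul]
      congr 1
      by_cases h : i = j
      · rw [if_pos h, h, pderiv_X_self, map_one, one_smul]
      · rw [if_neg h, pderiv_X_of_ne (fun e => h e.symm), map_zero, zero_smul, smul_zero]
    rw [map_mul, Derivation.leibniz, Finset.sum_congr rfl (fun i _ => h1 i),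
      Finset.sum_add_distrib, Finset.sum_ite_eq', if_pos (Finset.mem_univ j), ← Finset.smul_sum,
      ← hp]

theorem aux_tmul (b : B) (y : Ω[B⁄A]) :
    (1 : q.ResidueField) ⊗ₜ[B] (b • y)
      = (algebraMap B q.ResidueField b) • ((1 : q.ResidueField) ⊗ₜ[B] y) := by
  rw [← TensorProduct.smul_tmul, TensorProduct.smul_tmul', smul_eq_mul, mul_one,
    Algebra.algebraMap_eq_smul_one]

theorem one_tmul_D (p : MvPolynomial (Fin n) A) :
    (1 : q.ResidueField) ⊗ₜ[B] KaehlerDifferential.D A B (f p) = TT f q (Jv f q p) := by
  rw [TT_apply, D_eq, TensorProduct.tmul_sum]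
  apply Finset.sum_congr rfl
  intro i _
  rw [aux_tmul]
  rfl

theorem TT_surj (hf : Function.Surjective f) : Function.Surjective (TT f q) := by
  rw [← LinearMap.range_eq_top, eq_top_iff]
  intro z hz
  clear hz
  have h1 : ∀ ω : Ω[B⁄A], (1 : q.ResidueField) ⊗ₜ[B] ω ∈ LinearMap.range (TT f q) := by
    intro ω
    have hω : ω ∈ Submodule.span B (Set.range (KaehlerDifferential.D A B)) := by
      rw [KaehlerDifferential.span_range_derivation]
      exact Submodule.mem_top
    induction hω using Submodule.span_induction with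
    | mem x hx =>
      obtain ⟨b, rfl⟩ := hx
      obtain ⟨p, rfl⟩ := hf b
      exact ⟨Jv f q p, (one_tmul_D f q p).symm⟩
    | zero =>
      rw [TensorProduct.tmul_zero]
      exact Submodule.zero_mem _
    | add x y _ _ hx hy =>
      rw [TensorProduct.tmul_add]
      exact Submodule.add_mem _ hx hy
    | smul b x _ hx =>
      rw [aux_tmul]
      exact Submodule.smul_mem _ _ hx
  induction z using TensorProduct.induction_on with
  | zero => exact Submodule.zero_mem _
  | tmul x ω =>
    have h2 : x ⊗ₜ[B] ω = x • ((1 : q.ResidueField) ⊗ₜ[B] ω) := by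
      rw [TensorProduct.smul_tmul', smul_eq_mul, mul_one]
    rw [h2]
    exact Submodule.smul_mem _ _ (h1 ω)
  | add x y hx hy => exact Submodule.add_mem _ hx hy

/-- the span of the Jacobian vectors of the relations -/
def NN : Submodule q.ResidueField (Fin n → q.ResidueField) :=
  Submodule.span q.ResidueField (Set.range fun g : ↥(RingHom.ker f) => Jv f q g.1)

theorem NN_le_ker : NN f q ≤ LinearMap.ker (TT f q) := by
  unfold NN
  rw [Submodule.span_le]
  rintro _ ⟨g, rfl⟩
  rw [SetLike.mem_coe, LinearMap.mem_ker]
  show TT f q (Jv f q g.1) = 0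
  rw [← one_tmul_D, (RingHom.mem_ker).mp g.2, map_zero, TensorProduct.tmul_zero]

theorem phi_Jv_congr (φ : (Fin n → q.ResidueField) →ₗ[q.ResidueField] q.ResidueField)
    (hφ : NN f q ≤ LinearMap.ker φ) (p p' : MvPolynomial (Fin n) A) (h : f p = f p') :
    φ (Jv f q p) = φ (Jv f q p') := by
  have hmem : p - p' ∈ RingHom.ker f := by
    rw [RingHom.mem_ker, map_sub, h, sub_self]
  have h1 : Jv f q (p - p') ∈ NN f q := Submodule.subset_span ⟨⟨p - p', hmem⟩, rfl⟩
  have h2 := hφ h1
  rw [LinearMap.mem_ker] at h2
  have h3 : Jv f q p = Jv f q (p - p') + Jv f q p' := by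
    rw [← Jv_add, sub_add_cancel]
  rw [h3, map_add, h2, zero_add]

variable (hf : Function.Surjective f)
  (φ : (Fin n → q.ResidueField) →ₗ[q.ResidueField] q.ResidueField)
  (hφ : NN f q ≤ LinearMap.ker φ)

/-- the function underlying the derivation attached to a functional killing `NN` -/
def deltaFun : B → q.ResidueField := fun b => φ (Jv f q (Function.surjInv hf b))

include hφ in
theorem deltaFun_f (p : MvPolynomial (Fin n) A) : deltaFun f q hf φ (f p) = φ (Jv f q p) :=
  phi_Jv_congr f q φ hφ _ _ (Function.surjInv_eq hf (f p))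

/-- the linear map underlying the derivation attached to a functional killing `NN` -/
def deltaLin : B →ₗ[A] q.ResidueField where
  toFun := deltaFun f q hf φ
  map_add' b b' := by
    obtain ⟨p, rfl⟩ := hf b
    obtain ⟨p', rfl⟩ := hf b'
    rw [← map_add, deltaFun_f f q hf φ hφ, deltaFun_f f q hf φ hφ, deltaFun_f f q hf φ hφ,
      Jv_add, map_add]
  map_smul' a b := by
    obtain ⟨p, rfl⟩ := hf b
    have h1 : a • f p = f (C a * p) := by
      rw [map_mul, ← MvPolynomial.algebraMap_eq, AlgHom.commutes, Algebra.smul_def]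
    rw [h1, deltaFun_f f q hf φ hφ, deltaFun_f f q hf φ hφ, Jv_mul, Jv_C, smul_zero, add_zero,
      map_smul, ← MvPolynomial.algebraMap_eq, AlgHom.commutes, RingHom.id_apply, smul_eq_mul,
      Algebra.smul_def, IsScalarTower.algebraMap_apply A B q.ResidueField]

/-- the derivation attached to a functional killing `NN` -/
def delta : Derivation A B q.ResidueField :=
  Derivation.mk' (deltaLin f q hf φ hφ) (by
    intro b b'
    obtain ⟨p, rfl⟩ := hf b
    obtain ⟨p', rfl⟩ := hf b'
    show deltaFun f q hf φ (f p * f p') = f p • deltaFun f q hf φ (f p')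
      + f p' • deltaFun f q hf φ (f p)
    rw [← map_mul, deltaFun_f f q hf φ hφ, deltaFun_f f q hf φ hφ, deltaFun_f f q hf φ hφ,
      Jv_mul, map_add, map_smul, map_smul, smul_eq_mul, smul_eq_mul, Algebra.smul_def,
      Algebra.smul_def])

theorem delta_f (p : MvPolynomial (Fin n) A) : delta f q hf φ hφ (f p) = φ (Jv f q p) :=
  deltaFun_f f q hf φ hφ p

theorem Lam_TT (a' : Fin n → q.ResidueField) :
    LinearMap.liftBaseChange q.ResidueField (delta f q hf φ hφ).liftKaehlerDifferential
      (TT f q a') = φ a' := by
  classical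
  have hsingle : a' = ∑ j, a' j • (Pi.single j (1 : q.ResidueField) : Fin n → q.ResidueField) := by
    ext j'
    simp [Finset.sum_apply, Pi.single_apply]
  rw [TT_apply, map_sum]
  conv_rhs => rw [hsingle, map_sum]
  apply Finset.sum_congr rfl
  intro i _
  rw [map_smul, map_smul, vv, LinearMap.liftBaseChange_tmul, one_smul,
    Derivation.liftKaehlerDifferential_comp_D, delta_f, Jv_X]

include hf in
theorem ker_le_NN : LinearMap.ker (TT f q) ≤ NN f q := by
  intro a ha
  by_contra hna
  obtain ⟨φ, hφa, hφ⟩ := Submodule.exists_le_ker_of_notMem hna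
  apply hφa
  rw [← Lam_TT f q hf φ hφ a, LinearMap.mem_ker.mp ha, map_zero]

include hf in
theorem finrank_NN (r : ℕ)
    (hr : Module.finrank q.ResidueField (q.ResidueField ⊗[B] Ω[B⁄A]) = r) :
    Module.finrank q.ResidueField (NN f q) + r = n := by
  have hker : NN f q = LinearMap.ker (TT f q) :=
    le_antisymm (NN_le_ker f q) (ker_le_NN f q hf)
  have h1 := LinearMap.finrank_range_add_finrank_ker (TT f q)
  rw [LinearMap.range_eq_top.mpr (TT_surj f q hf), finrank_top, hr, Module.finrank_fin_fun,
    ← hker] at h1
  omega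

include hf in
theorem exists_gens (r : ℕ)
    (hr : Module.finrank q.ResidueField (q.ResidueField ⊗[B] Ω[B⁄A]) = r) :
    ∃ (c : ℕ) (g : Fin c → MvPolynomial (Fin n) A), c + r = n ∧ (∀ j, f (g j) = 0) ∧
      LinearIndependent q.ResidueField (fun j => Jv f q (g j)) := by
  obtain ⟨κ', a, ha_inj, ha_span, ha_li⟩ := exists_linearIndependent' q.ResidueField
    (fun g : ↥(RingHom.ker f) => Jv f q g.1)
  haveI : Finite κ' := ha_li.finite
  letI : Fintype κ' := Fintype.ofFinite κ'
  have hNN : NN f q = Submodule.span q.ResidueField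
      (Set.range ((fun g : ↥(RingHom.ker f) => Jv f q g.1) ∘ a)) := ha_span.symm
  have hcard : Module.finrank q.ResidueField (NN f q) = Fintype.card κ' := by
    rw [hNN]
    exact finrank_span_eq_card ha_li
  let e : Fin (Fintype.card κ') ≃ κ' := (Fintype.equivFin κ').symm
  refine ⟨Fintype.card κ', fun j => (a (e j)).1, ?_,
    fun j => RingHom.mem_ker.mp (a (e j)).2, ?_⟩
  · rw [← hcard]
    exact finrank_NN f q hf r hr
  · exact ha_li.comp e e.injective

end Fibre

section Pres

variable {A : Type u} [CommRing A] {n c : ℕ} (g : Fin c → MvPolynomial (Fin n) A)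
  (I : Fin c ↪ Fin n)

/-- the complete intersection quotient -/
abbrev CC : Type u := MvPolynomial (Fin n) A ⧸ Ideal.span (Set.range g)

/-- its naive presentation, with the chosen columns -/
def PP : Algebra.PreSubmersivePresentation A (CC g) (Fin n) (Fin c) :=
  Algebra.PreSubmersivePresentation.naive (v := g) I I.injective

/-- the presentation of the localization at the Jacobian -/
def QQ : Algebra.PreSubmersivePresentation (CC g) (Localization.Away (PP g I).jacobian)
    Unit Unit :=
  Algebra.PreSubmersivePresentation.localizationAway (Localization.Away (PP g I).jacobian)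
    (PP g I).jacobian

/-- the submersive presentation of the localization at the Jacobian over the base -/
def SS : Algebra.SubmersivePresentation A (Localization.Away (PP g I).jacobian)
    (Unit ⊕ Fin n) (Unit ⊕ Fin c) where
  toPreSubmersivePresentation := (QQ g I).comp (PP g I)
  jacobian_isUnit := by
    rw [Algebra.PreSubmersivePresentation.comp_jacobian_eq_jacobian_smul_jacobian,
      Algebra.smul_def]
    unfold QQ
    rw [Algebra.PreSubmersivePresentation.localizationAway_jacobian]
    exact (IsLocalization.Away.algebraMap_isUnit _).mul (IsLocalization.Away.algebraMap_isUnit _)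

theorem SS_dim : (SS g I).dimension = n - c := by
  have h1 : Nat.card (Unit ⊕ Fin n) = 1 + n := by simp
  have h2 : Nat.card (Unit ⊕ Fin c) = 1 + c := by simp
  show Nat.card (Unit ⊕ Fin n) - Nat.card (Unit ⊕ Fin c) = n - c
  rw [h1, h2]
  omega

variable {B : Type u} [CommRing B] [Algebra A B] (f : MvPolynomial (Fin n) A →ₐ[A] B)
  (hg : ∀ j, f (g j) = 0)

/-- the induced map from the complete intersection quotient -/
def fC : CC g →ₐ[A] B :=
  Ideal.Quotient.liftₐ (Ideal.span (Set.range g)) f (by
    intro a ha
    have hle : Ideal.span (Set.range g) ≤ RingHom.ker f := by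
      rw [Ideal.span_le]
      rintro _ ⟨j, rfl⟩
      exact RingHom.mem_ker.mpr (hg j)
    exact RingHom.mem_ker.mp (hle ha))

theorem fC_mk (p : MvPolynomial (Fin n) A) :
    fC g f hg (Ideal.Quotient.mk (Ideal.span (Set.range g)) p) = f p := rfl

theorem fC_surj (hf : Function.Surjective f) : Function.Surjective (fC g f hg) := by
  intro b
  obtain ⟨p, rfl⟩ := hf b
  exact ⟨Ideal.Quotient.mk _ p, fC_mk g f hg p⟩

theorem fC_jacobian [DecidableEq (Fin c)] :
    fC g f hg (PP g I).jacobian = f (PP g I).jacobiMatrix.det := by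
  rw [Algebra.PreSubmersivePresentation.jacobian_eq_jacobiMatrix_det]
  exact fC_mk g f hg _

theorem gB_notMem (q : Ideal B) [q.IsPrime]
    (hI : ((Matrix.of fun (j : Fin c) (i : Fin n) => Jv f q (g j) i).submatrix id I).det ≠ 0) :
    fC g f hg (PP g I).jacobian ∉ q := by
  classical
  intro hmem
  apply hI
  rw [← Ideal.algebraMap_residueField_eq_zero, fC_jacobian] at hmem
  rw [← Matrix.det_transpose, ← hmem]
  have h1 : algebraMap B q.ResidueField (f (PP g I).jacobiMatrix.det)
      = ((algebraMap B q.ResidueField).comp f.toRingHom) (PP g I).jacobiMatrix.det := rfl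
  rw [h1, RingHom.map_det]
  congr 1
  apply Matrix.ext
  intro i j
  rw [RingHom.mapMatrix_apply, Matrix.map_apply, Matrix.transpose_apply, Matrix.submatrix_apply]
  unfold PP
  rw [Algebra.PreSubmersivePresentation.jacobiMatrix_naive]
  rfl

end Pres

theorem main (A B : Type u) [CommRing A] [CommRing B] [Algebra A B] [Algebra.FiniteType A B]
    (q : Ideal B) [q.IsPrime] (r : ℕ)
    (hr : Module.finrank q.ResidueField (q.ResidueField ⊗[B] Ω[B⁄A]) = r) :
    ∃ g : B, g ∉ q ∧ ∃ (D : Type u) (_ : CommRing D) (_ : Algebra A D),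
      Algebra.IsStandardSmoothOfRelativeDimension r A D ∧
        ∃ φ : D →ₐ[A] Localization.Away g, Function.Surjective φ := by
  classical
  obtain ⟨n, f, hf⟩ := Algebra.FiniteType.iff_quotient_mvPolynomial''.mp
    (inferInstance : Algebra.FiniteType A B)
  obtain ⟨c, g, hcr, hg, hli⟩ := exists_gens f q hf r hr
  have hJ : ∀ a : Fin c → q.ResidueField,
      Matrix.vecMul a (Matrix.of fun (j : Fin c) (i : Fin n) => Jv f q (g j) i) = 0 → a = 0 := by
    intro a ha
    funext j
    refine Fintype.linearIndependent_iff.mp hli a ?_ j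
    funext i
    rw [Finset.sum_apply]
    simp only [Pi.smul_apply, smul_eq_mul, Pi.zero_apply]
    exact congrFun ha i
  obtain ⟨I, hI⟩ := JacMinorA.exists_minor_ne_zero _ hJ
  refine ⟨fC g f hg (PP g I).jacobian, gB_notMem g I f hg q hI,
    Localization.Away (PP g I).jacobian, inferInstance, inferInstance, ?_,
    Localization.awayMapₐ (fC g f hg) (PP g I).jacobian, ?_⟩
  · exact (SS g I).isStandardSmoothOfRelativeDimension (by rw [SS_dim]; omega)
  · exact IsLocalization.Away.mapₐ_surjective_of_surjective _ (fC_surj g f hg hf)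

end

end Groth.Agent.Lib.Helper6.StdSmoothNhd
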