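import Mathlib.RingTheory.Ideal.KrullsHeightTheorem
import Mathlib.RingTheory.LocalRing.Quotient
import Mathlib.RingTheory.LocalRing.RingHom.Basic

/-!
# The dimension inequality for a local homomorphism of Noetherian local rings

`dim B ≤ dim A + dim B ⧸ 𝔪_A B`.
-/

set_option autoImplicit false

namespace Groth.Agent.Lib.Helper6

theorem ringKrullDim_le_add_quotient_of_isLocalHom {A B : Type*} [CommRing A] [CommRing B]
    [IsLocalRing A] [IsLocalRing B] [IsNoetherianRing A] [IsNoetherianRing B]
    (φ : A →+* B) [hφ : IsLocalHom φ] :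
    ringKrullDim B ≤
      ringKrullDim A + ringKrullDim (B ⧸ (IsLocalRing.maximalIdeal A).map φ) := by
  letI : Algebra A B := φ.toAlgebra
  have hcomap : (IsLocalRing.maximalIdeal B).comap φ = IsLocalRing.maximalIdeal A :=
    ((IsLocalRing.local_hom_TFAE φ).out 0 4).mp hφ
  haveI : (IsLocalRing.maximalIdeal B).LiesOver (IsLocalRing.maximalIdeal A) := ⟨hcomap.symm⟩
  have hle : (IsLocalRing.maximalIdeal A).map φ ≤ IsLocalRing.maximalIdeal B :=
    ((IsLocalRing.local_hom_TFAE φ).out 0 2).mp hφ
  have hne : (IsLocalRing.maximalIdeal A).map φ ≠ ⊤ := fun h =>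
    (inferInstance : (IsLocalRing.maximalIdeal B).IsMaximal).ne_top (top_le_iff.mp (h ▸ hle))
  haveI : Nontrivial (B ⧸ (IsLocalRing.maximalIdeal A).map φ) :=
    Ideal.Quotient.nontrivial_iff.mpr hne
  haveI : IsLocalRing (B ⧸ (IsLocalRing.maximalIdeal A).map φ) :=
    IsLocalRing.of_surjective' (Ideal.Quotient.mk _) Ideal.Quotient.mk_surjective
  haveI : IsLocalHom (Ideal.Quotient.mk ((IsLocalRing.maximalIdeal A).map φ)) :=
    IsLocalHom.of_surjective _ Ideal.Quotient.mk_surjective
  have hmax : (IsLocalRing.maximalIdeal B).map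
      (Ideal.Quotient.mk ((IsLocalRing.maximalIdeal A).map φ)) =
      IsLocalRing.maximalIdeal (B ⧸ (IsLocalRing.maximalIdeal A).map φ) := by
    ext x
    obtain ⟨x, rfl⟩ := Ideal.Quotient.mk_surjective x
    simp [sup_eq_left.mpr (IsLocalRing.le_maximalIdeal hne)]
  have h := Ideal.height_le_height_add_of_liesOver (IsLocalRing.maximalIdeal A)
    (IsLocalRing.maximalIdeal B)
  have h' : (IsLocalRing.maximalIdeal B).height ≤ (IsLocalRing.maximalIdeal A).height +
      (IsLocalRing.maximalIdeal (B ⧸ (IsLocalRing.maximalIdeal A).map φ)).height := by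
    rw [← hmax]
    exact h
  rw [← IsLocalRing.maximalIdeal_height_eq_ringKrullDim,
    ← IsLocalRing.maximalIdeal_height_eq_ringKrullDim (R := A),
    ← IsLocalRing.maximalIdeal_height_eq_ringKrullDim
      (R := B ⧸ (IsLocalRing.maximalIdeal A).map φ), ← WithBot.coe_add]
  exact WithBot.coe_le_coe.mpr h'

end Groth.Agent.Lib.Helper6
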