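import Mathlib
import Groth.Prelude.Def_KRR
import Groth.Agent.Lib.Helper6.LambdaBasic

/-!
# Adams operations on λ-rings with positive structure (helper6)

Additivity of the Adams operations, their value on line elements, compatibility with
extensions, and the splitting-principle computation of `ψ^j(λ_{-1}(e))`.
-/

set_option autoImplicit false
open LambdaRing PowerSeries

namespace Groth.Agent.Lib.Helper6.LambdaAdams

open Groth.Agent.Lib.Helper6.LambdaBasic

universe u
variable {K : Type u} [CommRing K] [LambdaOps K]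

/-- `G x = λ_{-t}(x)`. -/
noncomputable def G (x : K) : PowerSeries K := rescale (-1 : K) (lamSeries x)

lemma G_add (x y : K) : G (x + y) = G x * G y := by
  unfold G
  rw [lamSeries_add, map_mul]

lemma constantCoeff_G (x : K) : constantCoeff (G x) = 1 := by
  unfold G
  rw [← coeff_zero_eq_constantCoeff_apply, coeff_rescale, pow_zero, one_mul,
    coeff_zero_eq_constantCoeff_apply, constantCoeff_lamSeries]

lemma isUnit_G (x : K) : IsUnit (G x) := by
  rw [isUnit_iff_constantCoeff, constantCoeff_G]
  exact isUnit_one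

lemma adamsSeries_mul_G (P : PosStructure K) (x : K) :
    adamsSeries P x * G x = C (P.aug x : K) * G x - X * derivative K (G x) := by
  have h : (G x).invOfUnit 1 * G x = 1 :=
    invOfUnit_mul (G x) 1 (by rw [constantCoeff_G]; rfl)
  change (C (P.aug x : K) - X * derivative K (G x) * (G x).invOfUnit 1) * G x = _
  linear_combination (-(X * derivative K (G x))) * h

lemma eq_adamsSeries_of_mul_G (P : PosStructure K) (x : K) (Ψ : PowerSeries K)
    (h : Ψ * G x = C (P.aug x : K) * G x - X * derivative K (G x)) : Ψ = adamsSeries P x :=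
  (isUnit_G x).mul_right_cancel (by rw [h, adamsSeries_mul_G])

lemma adamsSeries_add (P : PosStructure K) (x y : K) :
    adamsSeries P (x + y) = adamsSeries P x + adamsSeries P y := by
  symm
  apply eq_adamsSeries_of_mul_G
  have hx := adamsSeries_mul_G P x
  have hy := adamsSeries_mul_G P y
  rw [G_add, Derivation.leibniz]
  simp only [map_add, Int.cast_add, smul_eq_mul]
  linear_combination (G y) * hx + (G x) * hy

lemma adams_add (P : PosStructure K) (j : ℕ) (x y : K) :
    adams P j (x + y) = adams P j x + adams P j y := by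
  unfold adams
  rw [adamsSeries_add, map_add]

/-- The Adams operation as an additive map. -/
noncomputable def adamsHom (P : PosStructure K) (j : ℕ) : K →+ K :=
  AddMonoidHom.mk' (adams P j) (adams_add P j)

lemma adamsHom_apply (P : PosStructure K) (j : ℕ) (x : K) : adamsHom P j x = adams P j x := rfl

lemma adams_neg_one_pow_mul (P : PosStructure K) (j k : ℕ) (x : K) :
    adams P j ((-1) ^ k * x) = (-1) ^ k * adams P j x := by
  rcases neg_one_pow_eq_or K k with h | h
  · rw [h, one_mul, one_mul]
  · rw [h, neg_one_mul, neg_one_mul, ← adamsHom_apply, ← adamsHom_apply, map_neg]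

lemma G_line (P : PosStructure K) {w : K} (hw : P.IsLine w) : G w = 1 - C w * X := by
  unfold G
  rw [lamSeries_line P hw]
  ext n
  rcases n with _ | _ | n
  · simp [coeff_rescale]
  · simp [coeff_rescale, coeff_one, coeff_X]
  · simp [coeff_rescale, coeff_one, coeff_X]

lemma mk_pow_mul (w : K) : (mk fun k => w ^ k) * (1 - C w * X) = 1 := by
  ext n
  rw [mul_sub, mul_one, ← mul_assoc, map_sub]
  rcases n with _ | n
  · rw [coeff_zero_mul_X, coeff_mk, pow_zero, sub_zero, coeff_zero_eq_constantCoeff_apply,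
      map_one]
  · rw [coeff_succ_mul_X, coeff_mul_C, coeff_mk, coeff_mk, coeff_one, pow_succ, sub_self]
    simp

lemma adamsSeries_line (P : PosStructure K) {w : K} (hw : P.IsLine w) :
    adamsSeries P w = mk fun k => w ^ k := by
  symm
  apply eq_adamsSeries_of_mul_G
  rw [G_line P hw, hw.2, Int.cast_one, map_one, one_mul, mk_pow_mul]
  have hD : derivative K (1 - C w * X : PowerSeries K) = - C w := by
    rw [map_sub, Derivation.leibniz, derivative_X, derivative_C]
    simp
  rw [hD]
  ring

lemma adams_line (P : PosStructure K) {w : K} (hw : P.IsLine w) (j : ℕ) :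
    adams P j w = w ^ j := by
  unfold adams
  rw [adamsSeries_line P hw, coeff_mk]

section Ext
variable {K' : Type u} [CommRing K'] [LambdaOps K']

lemma map_lamSeries (f : K →+* K') (hf : IsLambdaHom f) (x : K) :
    PowerSeries.map f (lamSeries x) = lamSeries (f x) := by
  ext n
  rw [coeff_map, lamSeries, coeff_mk, lamSeries, coeff_mk, hf n x]

lemma map_G (f : K →+* K') (hf : IsLambdaHom f) (x : K) :
    PowerSeries.map f (G x) = G (f x) := by
  unfold G
  rw [← map_lamSeries f hf, ← rescale_map, map_neg, map_one]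

lemma map_derivative (f : K →+* K') (F : PowerSeries K) :
    PowerSeries.map f (derivative K F) = derivative K' (PowerSeries.map f F) := by
  ext n
  rw [coeff_map, coeff_derivative, coeff_derivative, coeff_map, map_mul, map_add, map_natCast,
    map_one]

lemma map_adamsSeries (P : PosStructure K) (P' : PosStructure K') (f : K →+* K')
    (hf : IsExtension P P' f) (x : K) :
    PowerSeries.map f (adamsSeries P x) = adamsSeries P' (f x) := by
  apply eq_adamsSeries_of_mul_G
  rw [hf.aug_comp, ← map_G f hf.isLambdaHom, ← map_mul, adamsSeries_mul_G, map_sub, map_mul,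
    map_mul, map_C, map_X, map_derivative, map_intCast]

lemma map_adams (P : PosStructure K) (P' : PosStructure K') (f : K →+* K')
    (hf : IsExtension P P' f) (j : ℕ) (x : K) :
    f (adams P j x) = adams P' j (f x) := by
  unfold adams
  rw [← map_adamsSeries P P' f hf, coeff_map]

end Ext

section Split
variable (P : PosStructure K) {n : ℕ} (u : Fin n → K)

lemma isLine_prod (hu : ∀ i, P.IsLine (u i)) (t : Finset (Fin n)) :
    P.IsLine (∏ i ∈ t, u i) := by
  classical
  induction t using Finset.induction_on with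
  | empty => simpa using one_isLine P
  | insert a t ha ih =>
    rw [Finset.prod_insert ha]
    exact isLine_mul P (hu a) ih

lemma lamSeries_sum (hu : ∀ i, P.IsLine (u i)) :
    lamSeries (∑ i, u i) = ∏ i, (1 + C (u i) * X) := by
  have h : ∀ t : Finset (Fin n),
      lamSeries (∑ i ∈ t, u i) = ∏ i ∈ t, (1 + C (u i) * X) := by
    classical
    intro t
    induction t using Finset.induction_on with
    | empty => simp [lamSeries_zero]
    | insert a t ha ih =>
      rw [Finset.sum_insert ha, Finset.prod_insert ha, lamSeries_add, ih,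
        lamSeries_line P (hu a)]
  exact h Finset.univ

lemma lam_sum (hu : ∀ i, P.IsLine (u i)) (k : ℕ) :
    LambdaOps.lam k (∑ i, u i) =
      ∑ t ∈ Finset.powersetCard k Finset.univ, ∏ i ∈ t, u i := by
  classical
  have h := congrArg (coeff k) (lamSeries_sum P u hu)
  rw [lamSeries, coeff_mk] at h
  rw [h, Finset.prod_one_add, map_sum, Finset.powersetCard_eq_filter, Finset.sum_filter]
  refine Finset.sum_congr rfl fun t _ => ?_
  rw [Finset.prod_mul_distrib, Finset.prod_const, ← map_prod, coeff_C_mul_X_pow]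
  by_cases hk : t.card = k
  · rw [if_pos hk, if_pos hk.symm]
  · rw [if_neg hk, if_neg (fun h' => hk h'.symm)]

lemma prod_one_sub_eq (v : Fin n → K) :
    ∏ i, (1 - v i) = ∑ t ∈ (Finset.univ : Finset (Fin n)).powerset,
      (-1 : K) ^ t.card * ∏ i ∈ t, v i := by
  have h : ∀ i, (1 - v i) = 1 + (- v i) := fun i => sub_eq_add_neg _ _
  simp only [h]
  rw [Finset.prod_one_add]
  refine Finset.sum_congr rfl fun t _ => ?_
  rw [Finset.prod_neg]

lemma alt_lam_sum (hu : ∀ i, P.IsLine (u i)) :
    ∑ k ∈ Finset.range (n + 1), (-1 : K) ^ k * LambdaOps.lam k (∑ i, u i) =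
      ∏ i, (1 - u i) := by
  rw [prod_one_sub_eq, Finset.sum_powerset, Finset.card_univ, Fintype.card_fin]
  refine Finset.sum_congr rfl fun k _ => ?_
  rw [lam_sum P u hu, Finset.mul_sum]
  refine Finset.sum_congr rfl fun t ht => ?_
  rw [(Finset.mem_powersetCard.1 ht).2]

lemma adams_prod_one_sub (hu : ∀ i, P.IsLine (u i)) (j : ℕ) :
    adams P j (∏ i, (1 - u i)) = ∏ i, (1 - u i ^ j) := by
  rw [prod_one_sub_eq, prod_one_sub_eq, ← adamsHom_apply, map_sum]
  refine Finset.sum_congr rfl fun t _ => ?_
  rw [adamsHom_apply, adams_neg_one_pow_mul, adams_line P (isLine_prod P u hu t),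
    Finset.prod_pow]

lemma prod_one_sub_pow (j : ℕ) :
    ∏ i, (1 - u i ^ j) = (∏ i, (1 - u i)) * ∏ i, ∑ k ∈ Finset.range j, u i ^ k := by
  rw [← Finset.prod_mul_distrib]
  refine Finset.prod_congr rfl fun i _ => ?_
  rw [mul_neg_geom_sum]

end Split

section Bott

lemma aeval_esymm_bottPoly (j n : ℕ) :
    MvPolynomial.aeval (fun i : Fin n => MvPolynomial.esymm (Fin n) ℤ (i + 1))
      (KRR.bottPoly j n) = KRR.bottSym j n := by
  rw [← MvPolynomial.esymmAlgHom_apply]
  unfold KRR.bottPoly
  have h2 := (MvPolynomial.esymmAlgEquiv (Fin n) ℤ (Fintype.card_fin n)).apply_symm_apply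
    ⟨KRR.bottSym j n, KRR.bottSym_isSymmetric j n⟩
  rw [MvPolynomial.esymmAlgEquiv_apply] at h2
  rw [h2]

lemma aeval_bottPoly {R : Type*} [CommRing R] (j n : ℕ) (u : Fin n → R) :
    MvPolynomial.aeval
      (fun i : Fin n => ∑ t ∈ Finset.powersetCard (i.1 + 1) Finset.univ, ∏ l ∈ t, u l)
      (KRR.bottPoly j n) = ∏ i, ∑ k ∈ Finset.range j, u i ^ k := by
  have h3 := congrArg (MvPolynomial.aeval u) (aeval_esymm_bottPoly j n)
  rw [MvPolynomial.comp_aeval_apply] at h3
  have h4 : (fun i : Fin n => MvPolynomial.aeval u (MvPolynomial.esymm (Fin n) ℤ (i + 1))) =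
      fun i : Fin n => ∑ t ∈ Finset.powersetCard (i.1 + 1) Finset.univ, ∏ l ∈ t, u l := by
    funext i
    simp only [MvPolynomial.esymm, map_sum, map_prod, MvPolynomial.aeval_X]
  rw [h4] at h3
  rw [h3]
  simp only [KRR.bottSym, map_sum, map_prod, map_pow, MvPolynomial.aeval_X]

lemma bott_eq (P : PosStructure K) (j : ℕ) (e : K) :
    ∀ n : ℕ, (P.aug e).toNat = n → KRR.bott P j e =
      MvPolynomial.aeval (fun i : Fin n => LambdaOps.lam (i.1 + 1) e) (KRR.bottPoly j n) := by
  rintro n rfl
  rfl

lemma lamAlt_eq (P : PosStructure K) (e : K) :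
    ∀ n : ℕ, (P.aug e).toNat = n → KRR.lamAlt P e =
      ∑ k ∈ Finset.range (n + 1), (-1 : K) ^ k * LambdaOps.lam k e := by
  rintro n rfl
  rfl

end Bott

lemma exists_fin_family {α : Type*} (s : Multiset α) :
    ∃ u : Fin s.card → α, Multiset.map u Finset.univ.val = s := by
  obtain ⟨l, rfl⟩ := Quot.exists_rep s
  change ∃ u : Fin l.length → α, Multiset.map u Finset.univ.val = (l : Multiset α)
  exact ⟨l.get, by rw [Fin.univ_val_map, List.ofFn_get]⟩

/-- `ψ^j(λ_{-1}(e)) = λ_{-1}(e) · θ^j(e)` for positive `e` in a λ-ring with the splitting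
property. -/
theorem adams_lamAlt (P : PosStructure K) (hK : HasSplitting K P) (e : K) (he : e ∈ P.pos)
    (j : ℕ) : adams P j (KRR.lamAlt P e) = KRR.lamAlt P e * KRR.bott P j e := by
  obtain ⟨𝒞, hK𝒞, h𝒞⟩ := hK
  obtain ⟨L', _, f, hf, s, hs, hsum⟩ := h𝒞 ⟨K, P⟩ hK𝒞 e he
  obtain ⟨u, hu⟩ := exists_fin_family s
  have hline : ∀ i, L'.posStr.IsLine (u i) := fun i =>
    hs _ (by rw [← hu]; exact Multiset.mem_map_of_mem u (Finset.mem_univ_val i))
  have hsum' : ∑ i, u i = f e := by
    change (Multiset.map u Finset.univ.val).sum = f e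
    rw [hu, hsum]
  have hn : (P.aug e).toNat = s.card := by
    have h1 : L'.posStr.aug (∑ i, u i) = (s.card : ℤ) := by
      rw [map_sum]
      simp only [(hline _).2, Finset.sum_const, Finset.card_univ, Fintype.card_fin, nsmul_eq_mul,
        mul_one]
    rw [hsum', hf.aug_comp] at h1
    rw [h1, Int.toNat_natCast]
  apply hf.injective
  change f (adams P j (KRR.lamAlt P e)) = f (KRR.lamAlt P e * KRR.bott P j e)
  have hfalt : f (KRR.lamAlt P e) = ∏ i, (1 - u i) := by
    rw [lamAlt_eq P e _ hn, map_sum, ← alt_lam_sum L'.posStr u hline, hsum']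
    refine Finset.sum_congr rfl fun k _ => ?_
    rw [map_mul, map_pow, map_neg, map_one, hf.isLambdaHom]
  have hfbott : f (KRR.bott P j e) = ∏ i, ∑ k ∈ Finset.range j, u i ^ k := by
    have hg : (fun i : Fin s.card => f.toIntAlgHom (LambdaOps.lam (i.1 + 1) e)) =
        fun i : Fin s.card =>
          ∑ t ∈ Finset.powersetCard (i.1 + 1) Finset.univ, ∏ l ∈ t, u l := by
      funext i
      rw [RingHom.toIntAlgHom_apply, hf.isLambdaHom, ← hsum', lam_sum L'.posStr u hline]
    rw [bott_eq P j e _ hn, ← RingHom.toIntAlgHom_apply f, MvPolynomial.comp_aeval_apply, hg,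
      aeval_bottPoly j s.card u]
  rw [map_adams P L'.posStr f hf, map_mul, hfalt, hfbott, adams_prod_one_sub L'.posStr u hline,
    prod_one_sub_pow]

end Groth.Agent.Lib.Helper6.LambdaAdams
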