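import Groth.Agent.Lib.Helper6.LambdaBasic

/-!
# Functionals on the elementary extension `K[T]/(p_e)` of a λ-ring (helper6)
-/

set_option autoImplicit false
open LambdaRing PowerSeries

namespace Groth.Agent.Lib.Helper6.LambdaExt

open Groth.Agent.Lib.Helper6.LambdaBasic

universe u
variable {K : Type u} [CommRing K] [LambdaOps K]

/-- The coefficients `(-1)^i λ^i(e)`. -/
def cc (e : K) (i : ℕ) : K := (-1 : K) ^ i * LambdaOps.lam i e

lemma cc_zero (e : K) : cc e 0 = 1 := by simp [cc, LambdaOps.lam_zero]

lemma sigma_rec (e : K) (N : ℕ) (hN : 1 ≤ N) :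
    ∑ i ∈ Finset.range (N + 1), cc e i * KRR.sigma (N - i) e = 0 := by
  have h : rescale (-1 : K) (lamSeries e) * KRR.sigmaSeries e = 1 := by
    unfold KRR.sigmaSeries
    apply PowerSeries.mul_invOfUnit
    rw [← coeff_zero_eq_constantCoeff_apply, coeff_rescale, pow_zero, one_mul,
      coeff_zero_eq_constantCoeff_apply, constantCoeff_lamSeries]
    rfl
  have h2 := congrArg (coeff N) h
  rw [coeff_mul, Finset.Nat.sum_antidiagonal_eq_sum_range_succ_mk, coeff_one,
    if_neg (by omega)] at h2
  rw [← h2]
  apply Finset.sum_congr rfl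
  intro i _
  rw [coeff_rescale, lamSeries, coeff_mk]
  rfl

theorem functional_values (P : PosStructure K) (e : K) (he : e ∈ P.pos) (r : ℕ)
    (hr : P.aug e = r + 1) (p : Polynomial K)
    (hp : p = ∑ i ∈ Finset.range (r + 2),
      Polynomial.C ((-1 : K) ^ i * LambdaOps.lam i e) * Polynomial.X ^ (r + 1 - i))
    (f : AdjoinRoot p →ₗ[K] K)
    (hf : ∀ i : ℕ, i ≤ r → f (AdjoinRoot.root p ^ i) = KRR.sigma i e)
    (linv : AdjoinRoot p) (hlinv : linv * AdjoinRoot.root p = 1) :
    (∀ i : ℕ, f (AdjoinRoot.root p ^ i) = KRR.sigma i e) ∧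
      ∀ n : ℕ, 1 ≤ n → n ≤ r → f (linv ^ n) = 0 := by
  have hm : (P.aug e).toNat = r + 1 := by rw [hr]; norm_cast
  have hrel : ∑ i ∈ Finset.range (r + 2), cc e i • (AdjoinRoot.root p) ^ (r + 1 - i) = 0 := by
    have h := AdjoinRoot.eval₂_root p
    have h2 : Polynomial.eval₂ (AdjoinRoot.of p) (AdjoinRoot.root p)
        (∑ i ∈ Finset.range (r + 2),
          Polynomial.C ((-1 : K) ^ i * LambdaOps.lam i e) * Polynomial.X ^ (r + 1 - i)) = 0 := by
      rw [← hp]; exact h
    rw [Polynomial.eval₂_finset_sum] at h2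
    rw [← h2]
    apply Finset.sum_congr rfl
    intro i _
    rw [Polynomial.eval₂_mul, Polynomial.eval₂_C, Polynomial.eval₂_pow, Polynomial.eval₂_X,
      Algebra.smul_def, AdjoinRoot.algebraMap_eq]
    rfl
  have cc_eq_zero : ∀ i, r + 1 < i → cc e i = 0 := by
    intro i hi
    rw [cc, P.lam_eq_zero e he i (by rw [hr]; exact_mod_cast hi), mul_zero]
  have cc_unit : IsUnit (cc e (r + 1)) := by
    have h := P.isUnit_lam e he
    rw [hm] at h
    exact ((isUnit_one.neg).pow (r + 1)).mul h
  have sigma_trunc : ∀ N, r + 1 ≤ N →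
      ∑ i ∈ Finset.range (r + 2), cc e i * KRR.sigma (N - i) e = 0 := by
    intro N hN
    rw [← sigma_rec e N (by omega)]
    apply Finset.sum_subset (Finset.range_mono (by omega))
    intro i _ hi
    rw [Finset.mem_range, not_lt] at hi
    rw [cc_eq_zero i (by omega), zero_mul]
  have part1 : ∀ N, f (AdjoinRoot.root p ^ N) = KRR.sigma N e := by
    intro N
    induction N using Nat.strong_induction_on with
    | _ N ih =>
      by_cases hN : N ≤ r
      · exact hf N hN
      · push_neg at hN
        have h1 : ∑ i ∈ Finset.range (r + 2), cc e i • (AdjoinRoot.root p) ^ (N - i) = 0 := by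
          have h0 := congrArg (· * (AdjoinRoot.root p) ^ (N - (r + 1))) hrel
          simp only [Finset.sum_mul, zero_mul, smul_mul_assoc, ← pow_add] at h0
          rw [← h0]
          apply Finset.sum_congr rfl
          intro i hi
          rw [Finset.mem_range] at hi
          congr 2
          omega
        have h2 := congrArg f h1
        rw [map_sum, map_zero] at h2
        simp only [map_smul, smul_eq_mul] at h2
        rw [Finset.sum_range_succ'] at h2
        have h3 := sigma_trunc N (by omega)
        rw [Finset.sum_range_succ'] at h3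
        have h4 : ∀ i ∈ Finset.range (r + 1),
            cc e (i + 1) * f ((AdjoinRoot.root p) ^ (N - (i + 1))) =
              cc e (i + 1) * KRR.sigma (N - (i + 1)) e := fun i _ => by
          rw [ih (N - (i + 1)) (by omega)]
        rw [Finset.sum_congr rfl h4] at h2
        simp only [cc_zero, one_mul, Nat.sub_zero] at h2 h3
        linear_combination h2 - h3
  refine ⟨part1, ?_⟩
  have hpow : ∀ a n : ℕ, (AdjoinRoot.root p) ^ (a + n) * linv ^ n = (AdjoinRoot.root p) ^ a := by
    intro a n
    rw [pow_add, mul_assoc, ← mul_pow, mul_comm (AdjoinRoot.root p) linv, hlinv, one_pow, mul_one]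
  have hpow2 : ∀ a j : ℕ, (AdjoinRoot.root p) ^ a * linv ^ (a + j) = linv ^ j := by
    intro a j
    rw [pow_add, ← mul_assoc, ← mul_pow, mul_comm (AdjoinRoot.root p) linv, hlinv, one_pow, one_mul]
  intro n
  induction n using Nat.strong_induction_on with
  | _ n ih =>
    intro h1n hnr
    have h1 := congrArg (· * linv ^ n) hrel
    simp only [Finset.sum_mul, zero_mul, smul_mul_assoc] at h1
    have hsplit : r + 2 = (r + 1 - n + 1) + n := by omega
    rw [hsplit, Finset.sum_range_add] at h1
    have hA : ∑ i ∈ Finset.range (r + 1 - n + 1),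
        cc e i • ((AdjoinRoot.root p) ^ (r + 1 - i) * linv ^ n) =
        ∑ i ∈ Finset.range (r + 1 - n + 1), cc e i • (AdjoinRoot.root p) ^ (r + 1 - n - i) := by
      apply Finset.sum_congr rfl
      intro i hi
      rw [Finset.mem_range] at hi
      rw [show r + 1 - i = (r + 1 - n - i) + n by omega, hpow]
    have hB : ∑ j ∈ Finset.range n, cc e (r + 1 - n + 1 + j) •
        ((AdjoinRoot.root p) ^ (r + 1 - (r + 1 - n + 1 + j)) * linv ^ n) =
        ∑ j ∈ Finset.range n, cc e (r + 1 - n + 1 + j) • linv ^ (j + 1) := by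
      apply Finset.sum_congr rfl
      intro j hj
      rw [Finset.mem_range] at hj
      have h := hpow2 (n - 1 - j) (j + 1)
      rw [show n - 1 - j + (j + 1) = n by omega] at h
      rw [show r + 1 - (r + 1 - n + 1 + j) = n - 1 - j by omega, h]
    rw [hA, hB] at h1
    have h2 := congrArg f h1
    rw [map_add, map_sum, map_sum, map_zero] at h2
    simp only [map_smul, smul_eq_mul, part1] at h2
    rw [sigma_rec e (r + 1 - n) (by omega), zero_add] at h2
    rw [Finset.sum_eq_single (n - 1)] at h2
    · rw [show r + 1 - n + 1 + (n - 1) = r + 1 by omega, show n - 1 + 1 = n by omega] at h2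
      exact (cc_unit.mul_right_eq_zero).1 h2
    · intro j hj hjn
      rw [Finset.mem_range] at hj
      rw [ih (j + 1) (by omega) (by omega) (by omega), mul_zero]
    · intro h
      exact absurd (Finset.mem_range.2 (by omega)) h

end Groth.Agent.Lib.Helper6.LambdaExt
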