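import Mathlib

set_option autoImplicit false

universe u

open TensorProduct

namespace Groth.Agent.Lib.Helper6.TensorEmb

variable (k κ Ω : Type u) [Field k] [Field κ] [Algebra k κ] [Field Ω] [Algebra k Ω]

variable {k κ Ω} in
/-- Evaluation `Ω ⊗[k] κ → Ω`, `a ⊗ x ↦ a * φ x`. -/
noncomputable def ev (φ : κ →ₐ[k] Ω) : Ω ⊗[k] κ →ₐ[Ω] Ω :=
  Algebra.TensorProduct.lift (AlgHom.id Ω Ω) φ (fun _ _ => Commute.all _ _)

variable {k κ Ω} in
@[simp] lemma ev_tmul (φ : κ →ₐ[k] Ω) (a : Ω) (x : κ) : ev φ (a ⊗ₜ[k] x) = a * φ x := by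
  simp [ev]

variable {k κ Ω} in
lemma ev_surjective (φ : κ →ₐ[k] Ω) : Function.Surjective (ev φ) := fun a =>
  ⟨a ⊗ₜ 1, by simp⟩

variable {k κ Ω} in
instance ker_ev_isMaximal (φ : κ →ₐ[k] Ω) : (RingHom.ker (ev φ)).IsMaximal :=
  RingHom.ker_isMaximal_of_surjective _ (ev_surjective φ)

variable {k κ Ω} in
lemma ker_ev_injective : Function.Injective
    (fun φ : κ →ₐ[k] Ω => RingHom.ker (ev φ)) := by
  intro φ φ' h
  ext x
  have hx : ((1 : Ω) ⊗ₜ[k] x - (φ x) ⊗ₜ[k] (1 : κ)) ∈ RingHom.ker (ev φ) := by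
    simp [RingHom.mem_ker]
  have h' : RingHom.ker (ev φ) = RingHom.ker (ev φ') := h
  rw [h', RingHom.mem_ker] at hx
  simp at hx
  exact (sub_eq_zero.mp hx).symm

section Main

variable [FiniteDimensional k κ] [IsAlgClosed Ω]

instance : IsArtinianRing (Ω ⊗[k] κ) := IsArtinianRing.of_finite Ω _

variable {k κ Ω} in
theorem exists_emb_of_isPrime (Q : Ideal (Ω ⊗[k] κ)) [Q.IsPrime] :
    ∃ φ : κ →ₐ[k] Ω, Q = RingHom.ker (ev φ) := by
  have : Q.IsMaximal := IsArtinianRing.isMaximal_of_isPrime Q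
  let _ : Field ((Ω ⊗[k] κ) ⧸ Q) := Ideal.Quotient.field Q
  have hbij : Function.Bijective (algebraMap Ω ((Ω ⊗[k] κ) ⧸ Q)) :=
    IsAlgClosed.algebraMap_bijective_of_isIntegral
  let e : Ω ≃ₐ[Ω] ((Ω ⊗[k] κ) ⧸ Q) := AlgEquiv.ofBijective (Algebra.ofId Ω _) hbij
  let ψ : (Ω ⊗[k] κ) →ₐ[Ω] Ω := (e.symm : _ →ₐ[Ω] Ω).comp (Ideal.Quotient.mkₐ Ω Q)
  let φ : κ →ₐ[k] Ω := (ψ.restrictScalars k).comp Algebra.TensorProduct.includeRight
  have hψ : ψ = ev φ := by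
    apply Algebra.TensorProduct.ext
    · ext
    · ext x
      simp [φ, ev]
  refine ⟨φ, ?_⟩
  rw [← hψ]
  ext a
  rw [RingHom.mem_ker]
  have h1 : ψ a = e.symm (Ideal.Quotient.mk Q a) := rfl
  rw [h1, EmbeddingLike.map_eq_zero_iff, Ideal.Quotient.eq_zero_iff_mem]

/-- The bijection `(κ →ₐ[k] Ω) → MaximalSpectrum (Ω ⊗[k] κ)`. -/
noncomputable def toMax (φ : κ →ₐ[k] Ω) : MaximalSpectrum (Ω ⊗[k] κ) :=
  ⟨RingHom.ker (ev φ), inferInstance⟩

theorem toMax_bijective : Function.Bijective (toMax k κ Ω) := by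
  constructor
  · intro φ φ' h
    exact ker_ev_injective (congrArg MaximalSpectrum.asIdeal h)
  · intro m
    have := m.isMaximal.isPrime
    obtain ⟨φ, hφ⟩ := exists_emb_of_isPrime (k := k) m.asIdeal
    exact ⟨φ, MaximalSpectrum.ext hφ.symm⟩

theorem card_maximalSpectrum :
    Nat.card (MaximalSpectrum (Ω ⊗[k] κ)) = Field.finSepDegree k κ := by
  rw [Field.finSepDegree_eq_of_isAlgClosed k κ Ω]
  exact (Nat.card_eq_of_bijective _ (toMax_bijective k κ Ω)).symm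

end Main

end Groth.Agent.Lib.Helper6.TensorEmb
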