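import Groth.Agent.Lib.Helper6.FSAdic

/-! Lifting continuous maps from an adically formally smooth algebra to a complete ring. -/

namespace Groth.Agent.Lib.Helper6.AdicLift

universe u

open EGA41 Groth.Agent.Lib.Helper6.FSAdic Ideal.Quotient

variable {A B C : Type u} [CommRing A] [CommRing B] [CommRing C] [Algebra A B] [Algebra A C]

/-- The algebra map into a trivial algebra. -/
def zeroAlgHom (T : Type*) [CommRing T] [Algebra A T] [Subsingleton T] : B →ₐ[A] T where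
  toFun _ := 0
  map_one' := Subsingleton.elim _ _
  map_mul' _ _ := Subsingleton.elim _ _
  map_zero' := rfl
  map_add' _ _ := Subsingleton.elim _ _
  commutes' _ := Subsingleton.elim _ _

theorem sup_pow_le (𝔠 J : Ideal C) (t : ℕ) (hJ : J ^ t ≤ 𝔠) (n : ℕ) :
    (J ⊔ 𝔠 ^ n) ^ (t * n + 1) ≤ 𝔠 ^ n := by
  refine Ideal.sup_pow_add_le_pow_sup_pow.trans ?_
  rw [pow_one, pow_mul]
  exact sup_le (Ideal.pow_right_mono hJ n) le_rfl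

theorem comp_u_kills (𝔟 : Ideal B) (𝔠 J : Ideal C) (u : B →ₐ[A] C ⧸ J) (k : ℕ)
    (hu : (𝔟 ^ k).map u.toRingHom ≤ 𝔠.map (Ideal.Quotient.mk J)) (n : ℕ) :
    ∀ x ∈ 𝔟 ^ (k * n), (factorₐ A (le_sup_left : J ≤ J ⊔ 𝔠 ^ n)) (u x) = 0 := by
  intro x hx
  have h1 : (𝔟 ^ (k * n)).map u.toRingHom ≤ (𝔠 ^ n).map (Ideal.Quotient.mk J) := by
    calc (𝔟 ^ (k * n)).map u.toRingHom = ((𝔟 ^ k).map u.toRingHom) ^ n := by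
          rw [pow_mul, Ideal.map_pow]
      _ ≤ (𝔠.map (Ideal.Quotient.mk J)) ^ n := Ideal.pow_right_mono hu n
      _ = (𝔠 ^ n).map (Ideal.Quotient.mk J) := (Ideal.map_pow _ _ _).symm
  have h2 : u x ∈ (𝔠 ^ n).map (Ideal.Quotient.mk J) := h1 (Ideal.mem_map_of_mem _ hx)
  have h3 : (𝔠 ^ n).map (Ideal.Quotient.mk J) ≤
      RingHom.ker (factorₐ A (le_sup_left : J ≤ J ⊔ 𝔠 ^ n)) := by
    rw [Ideal.map_le_iff_le_comap]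
    intro c hc
    rw [Ideal.mem_comap, RingHom.mem_ker]
    show Ideal.Quotient.mk (J ⊔ 𝔠 ^ n) c = 0
    exact Ideal.Quotient.eq_zero_iff_mem.mpr (Ideal.mem_sup_right hc)
  exact h3 h2

theorem ker_alpha_pow (𝔠 J : Ideal C) (t : ℕ) (hJ : J ^ t ≤ 𝔠) (n : ℕ) :
    RingHom.ker (factorₐ A (le_sup_right : 𝔠 ^ n ≤ J ⊔ 𝔠 ^ n)) ^ (t * n + 1) = ⊥ := by
  have h1 : RingHom.ker (factorₐ A (le_sup_right : 𝔠 ^ n ≤ J ⊔ 𝔠 ^ n)) ≤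
      (J ⊔ 𝔠 ^ n).map (Ideal.Quotient.mk (𝔠 ^ n)) := by
    intro y hy
    obtain ⟨c, rfl⟩ := Ideal.Quotient.mk_surjective y
    have : Ideal.Quotient.mk (J ⊔ 𝔠 ^ n) c = 0 := hy
    exact Ideal.mem_map_of_mem _ (Ideal.Quotient.eq_zero_iff_mem.mp this)
  rw [eq_bot_iff]
  calc _ ≤ ((J ⊔ 𝔠 ^ n).map (Ideal.Quotient.mk (𝔠 ^ n))) ^ (t * n + 1) :=
        Ideal.pow_right_mono h1 _
    _ = ((J ⊔ 𝔠 ^ n) ^ (t * n + 1)).map (Ideal.Quotient.mk (𝔠 ^ n)) :=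
        (Ideal.map_pow _ _ _).symm
    _ ≤ (𝔠 ^ n).map (Ideal.Quotient.mk (𝔠 ^ n)) := Ideal.map_mono (sup_pow_le 𝔠 J t hJ n)
    _ = ⊥ := Ideal.map_quotient_self _

theorem v_kills (𝔟 : Ideal B) (𝔠 J : Ideal C) (t : ℕ) (hJ : J ^ t ≤ 𝔠) (u : B →ₐ[A] C ⧸ J)
    (k : ℕ) (hu : (𝔟 ^ k).map u.toRingHom ≤ 𝔠.map (Ideal.Quotient.mk J)) (n : ℕ)
    (v : B →ₐ[A] C ⧸ 𝔠 ^ n)
    (hv : (factorₐ A (le_sup_right : 𝔠 ^ n ≤ J ⊔ 𝔠 ^ n)).comp v =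
      (factorₐ A (le_sup_left : J ≤ J ⊔ 𝔠 ^ n)).comp u) :
    ∀ x ∈ 𝔟 ^ (k * n * (t * n + 1)), v x = 0 :=
  kills_pow_of_comp (factorₐ A (le_sup_right : 𝔠 ^ n ≤ J ⊔ 𝔠 ^ n)) (t * n + 1)
    (ker_alpha_pow 𝔠 J t hJ n) v 𝔟 (k * n)
    (fun x hx => by
      have := AlgHom.congr_fun hv x
      rw [AlgHom.comp_apply, AlgHom.comp_apply] at this
      rw [this]; exact comp_u_kills 𝔟 𝔠 J u k hu n x hx)

theorem discrete_quot (𝔞 : Ideal A) (𝔠 : Ideal C) (k : ℕ)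
    (h : (𝔞 ^ k).map (algebraMap A C) ≤ 𝔠) (n : ℕ) :
    (𝔞 ^ (k * n)).map (algebraMap A (C ⧸ 𝔠 ^ n)) = ⊥ := by
  have : algebraMap A (C ⧸ 𝔠 ^ n) = (Ideal.Quotient.mk (𝔠 ^ n)).comp (algebraMap A C) := rfl
  rw [this, ← Ideal.map_map, eq_bot_iff, pow_mul, Ideal.map_pow]
  calc _ ≤ (𝔠 ^ n).map (Ideal.Quotient.mk (𝔠 ^ n)) := Ideal.map_mono (Ideal.pow_right_mono h n)
    _ = ⊥ := Ideal.map_quotient_self _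

theorem step (𝔞 : Ideal A) (𝔟 : Ideal B) (𝔠 : Ideal C) (hB : IsFormallySmoothAdic A 𝔞 B 𝔟)
    (k₀ : ℕ) (hAC : (𝔞 ^ k₀).map (algebraMap A C) ≤ 𝔠) (J : Ideal C) (t : ℕ) (hJ : J ^ t ≤ 𝔠)
    (u : B →ₐ[A] C ⧸ J) (k : ℕ) (hu : (𝔟 ^ k).map u.toRingHom ≤ 𝔠.map (Ideal.Quotient.mk J))
    (n : ℕ) (v : B →ₐ[A] C ⧸ 𝔠 ^ n)
    (hv : (factorₐ A (le_sup_right : 𝔠 ^ n ≤ J ⊔ 𝔠 ^ n)).comp v =
      (factorₐ A (le_sup_left : J ≤ J ⊔ 𝔠 ^ n)).comp u) :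
    ∃ v' : B →ₐ[A] C ⧸ 𝔠 ^ (n + 1),
      (factorₐ A (le_sup_right : 𝔠 ^ (n + 1) ≤ J ⊔ 𝔠 ^ (n + 1))).comp v' =
        (factorₐ A (le_sup_left : J ≤ J ⊔ 𝔠 ^ (n + 1))).comp u ∧
      (factorₐ A (Ideal.pow_le_pow_right n.le_succ : 𝔠 ^ (n + 1) ≤ 𝔠 ^ n)).comp v' = v := by
  have hle1 : 𝔠 ^ (n + 1) ≤ 𝔠 ^ n := Ideal.pow_le_pow_right n.le_succ
  have hle2 : J ⊔ 𝔠 ^ (n + 1) ≤ J ⊔ 𝔠 ^ n := sup_le_sup_left hle1 J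
  let α : (C ⧸ 𝔠 ^ n) →ₐ[A] C ⧸ (J ⊔ 𝔠 ^ n) := factorₐ A le_sup_right
  let α' : (C ⧸ 𝔠 ^ (n + 1)) →ₐ[A] C ⧸ (J ⊔ 𝔠 ^ (n + 1)) := factorₐ A le_sup_right
  let β' : (C ⧸ J) →ₐ[A] C ⧸ (J ⊔ 𝔠 ^ (n + 1)) := factorₐ A le_sup_left
  let γ : (C ⧸ (J ⊔ 𝔠 ^ (n + 1))) →ₐ[A] C ⧸ (J ⊔ 𝔠 ^ n) := factorₐ A hle2
  let ρ : (C ⧸ 𝔠 ^ (n + 1)) →ₐ[A] C ⧸ 𝔠 ^ n := factorₐ A hle1
  let φ : ((C ⧸ 𝔠 ^ n) × (C ⧸ (J ⊔ 𝔠 ^ (n + 1)))) →ₐ[A] C ⧸ (J ⊔ 𝔠 ^ n) :=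
    α.comp (AlgHom.fst A _ _)
  let ψ : ((C ⧸ 𝔠 ^ n) × (C ⧸ (J ⊔ 𝔠 ^ (n + 1)))) →ₐ[A] C ⧸ (J ⊔ 𝔠 ^ n) :=
    γ.comp (AlgHom.snd A _ _)
  let F : Subalgebra A ((C ⧸ 𝔠 ^ n) × (C ⧸ (J ⊔ 𝔠 ^ (n + 1)))) := AlgHom.equalizer φ ψ
  have hgmem : ∀ c : C ⧸ 𝔠 ^ (n + 1), (AlgHom.prod ρ α') c ∈ F := fun c => by
    obtain ⟨c₀, rfl⟩ := Ideal.Quotient.mk_surjective c
    rfl
  let g : (C ⧸ 𝔠 ^ (n + 1)) →ₐ[A] F := (AlgHom.prod ρ α').codRestrict F hgmem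
  have hwmem : ∀ b : B, (AlgHom.prod v (β'.comp u)) b ∈ F := fun b => by
    show α (v b) = γ (β' (u b))
    have h1 : α (v b) = (factorₐ A (le_sup_left : J ≤ J ⊔ 𝔠 ^ n)) (u b) :=
      AlgHom.congr_fun hv b
    rw [h1]
    obtain ⟨c₀, hc₀⟩ := Ideal.Quotient.mk_surjective (u b)
    rw [← hc₀]
    rfl
  let w : B →ₐ[A] F := (AlgHom.prod v (β'.comp u)).codRestrict F hwmem
  have hgsurj : Function.Surjective g := by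
    rintro ⟨⟨x, y⟩, hmem⟩
    obtain ⟨x₀, rfl⟩ := Ideal.Quotient.mk_surjective x
    obtain ⟨y₀, rfl⟩ := Ideal.Quotient.mk_surjective y
    have h1 : Ideal.Quotient.mk (J ⊔ 𝔠 ^ n) x₀ = Ideal.Quotient.mk (J ⊔ 𝔠 ^ n) y₀ := hmem
    rw [Ideal.Quotient.eq, Submodule.mem_sup] at h1
    obtain ⟨j, hj, c', hc', hsum⟩ := h1
    refine ⟨Ideal.Quotient.mk _ (x₀ - c'), ?_⟩
    apply Subtype.ext
    refine Prod.ext ?_ ?_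
    · show Ideal.Quotient.mk (𝔠 ^ n) (x₀ - c') = Ideal.Quotient.mk _ x₀
      rw [Ideal.Quotient.eq]
      have : x₀ - c' - x₀ = -c' := by ring
      rw [this]; exact (𝔠 ^ n).neg_mem hc'
    · show Ideal.Quotient.mk (J ⊔ 𝔠 ^ (n + 1)) (x₀ - c') = Ideal.Quotient.mk _ y₀
      rw [Ideal.Quotient.eq]
      have : x₀ - c' - y₀ = j := by linear_combination (-1 : C) * hsum
      rw [this]; exact Ideal.mem_sup_left hj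
  have hgker : RingHom.ker g ≤ RingHom.ker α' := by
    intro c hc
    have h1 : g c = 0 := hc
    have h2 : (g c).1.2 = 0 := by rw [h1]; rfl
    exact h2
  have hgnil : IsNilpotent (RingHom.ker g) := by
    refine ⟨t * (n + 1) + 1, ?_⟩
    rw [Ideal.zero_eq_bot, eq_bot_iff, ← ker_alpha_pow (A := A) 𝔠 J t hJ (n + 1)]
    exact Ideal.pow_right_mono hgker _
  have hdisc : ∃ m : ℕ, (𝔞 ^ m).map (algebraMap A (C ⧸ 𝔠 ^ (n + 1))) = ⊥ :=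
    ⟨_, discrete_quot 𝔞 𝔠 k₀ hAC (n + 1)⟩
  have hw : ∃ m : ℕ, ∀ x ∈ 𝔟 ^ m, w x = 0 := by
    refine ⟨k * n * (t * n + 1) + k * (n + 1), fun x hx => ?_⟩
    apply Subtype.ext
    refine Prod.ext ?_ ?_
    · exact v_kills 𝔟 𝔠 J t hJ u k hu n v hv x
        (Ideal.pow_le_pow_right (Nat.le_add_right _ _) hx)
    · exact comp_u_kills 𝔟 𝔠 J u k hu (n + 1) x
        (Ideal.pow_le_pow_right (Nat.le_add_left _ _) hx)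
  obtain ⟨v', hv'⟩ := exists_lift_of_surjective hB g hgsurj hgnil hdisc w hw
  refine ⟨v', ?_, ?_⟩
  · ext b
    have := AlgHom.congr_fun hv' b
    exact congrArg (fun p : F => p.1.2) this
  · ext b
    have := AlgHom.congr_fun hv' b
    exact congrArg (fun p : F => p.1.1) this

end Groth.Agent.Lib.Helper6.AdicLift
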