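import Mathlib
import Groth.Prelude.Def_RegImm

/-!
A monic polynomial splits over a syntomic finite free faithfully flat algebra.
-/

set_option autoImplicit false
universe u

namespace Groth.Agent.Lib.Helper6.SplitSynt

open Polynomial TensorProduct

/-- a field algebra with a square presentation which is finite is a local complete intersection -/
theorem isLCIOver_of_pres (κ F : Type u) [Field κ] [CommRing F] [Algebra κ F] [Module.Finite κ F]
    (n : ℕ) (P : Algebra.Presentation κ F (Fin n) (Fin n)) : Synt.IsLCIOver κ F := by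
  refine ⟨inferInstance, fun Q => ?_⟩
  refine ⟨1, fun h => Q.isPrime.ne_top ((Ideal.eq_top_iff_one _).mpr h), ?_⟩
  let e₃ : F ≃ₐ[κ] Localization.Away (1 : F) :=
    (IsLocalization.atOne F (Localization.Away (1 : F))).restrictScalars κ
  rcases subsingleton_or_nontrivial F with hF | hF
  · left
    exact e₃.symm.toEquiv.subsingleton
  · right
    have hsurj0 : Function.Surjective (MvPolynomial.aeval P.val : MvPolynomial (Fin n) κ →ₐ[κ] F) := by
      have h := P.toGenerators.algebraMap_surjective
      rw [P.toGenerators.algebraMap_eq] at h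
      exact h
    refine ⟨n, n, le_rfl, (e₃ : F →ₐ[κ] Localization.Away (1 : F)).comp (MvPolynomial.aeval P.val),
      P.relation, e₃.surjective.comp hsurj0, ?_, ?_⟩
    · rw [P.span_range_relation_eq_ker]
      ext x
      have h1 : ((e₃ : F →ₐ[κ] Localization.Away (1 : F)).comp
          (MvPolynomial.aeval P.val)).toRingHom x = e₃ (MvPolynomial.aeval P.val x) := rfl
      have h2 : x ∈ P.ker ↔ MvPolynomial.aeval P.val x = 0 := by
        change x ∈ RingHom.ker (algebraMap P.Ring F) ↔ _
        rw [RingHom.mem_ker, P.toGenerators.algebraMap_eq]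
        rfl
      rw [RingHom.mem_ker, h1, h2, map_eq_zero_iff _ e₃.injective]
    · simp only [Nat.sub_self, Nat.cast_zero]
      rw [← ringKrullDim_eq_of_ringEquiv e₃.toRingEquiv]
      haveI : IsArtinianRing F := IsArtinianRing.of_finite κ F
      have h0 : Ring.KrullDimLE 0 F := inferInstance
      exact le_antisymm (Ring.krullDimLE_iff.mp h0) ringKrullDim_nonneg_of_nontrivial

/-- square presentation + finite + flat implies syntomic -/
theorem isSyntomic_of_pres {A S : Type u} [CommRing A] [CommRing S] [Algebra A S] (n : ℕ)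
    (P : Algebra.Presentation A S (Fin n) (Fin n)) [Module.Finite A S] [Module.Flat A S] :
    Synt.IsSyntomic A S := by
  refine ⟨inferInstance, P.finitePresentation_of_isFinite, fun pr => ?_⟩
  exact isLCIOver_of_pres pr.asIdeal.ResidueField (pr.asIdeal.ResidueField ⊗[A] S) n
    (P.baseChange pr.asIdeal.ResidueField)

/-- the presentation of `AdjoinRoot P` with one generator and one relation -/
noncomputable def presAdjoinRoot {A : Type u} [CommRing A] (P : A[X]) :
    Algebra.Presentation A (AdjoinRoot P) (Fin 1) (Fin 1) :=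
  (Algebra.Presentation.naive
    (v := fun _ : Fin 1 => (MvPolynomial.uniqueAlgEquiv A (Fin 1)).symm P)).ofAlgEquiv
    (Ideal.quotientEquivAlg _ (Ideal.span {P}) (MvPolynomial.uniqueAlgEquiv A (Fin 1)) (by
      rw [Set.range_const, Ideal.map_span, Set.image_singleton]
      congr 2
      exact ((MvPolynomial.uniqueAlgEquiv A (Fin 1)).apply_symm_apply P).symm))

theorem trivial_case (A : Type u) [CommRing A] [Subsingleton A] (P : A[X]) :
    ∃ (A' : Type u) (_ : CommRing A') (_ : Algebra A A'),
      (∃ m : ℕ, Nonempty (Algebra.Presentation A A' (Fin m) (Fin m))) ∧ Module.Finite A A' ∧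
        Module.Free A A' ∧ Module.FaithfullyFlat A A' ∧
        ∃ s : Multiset A', P.map (algebraMap A A') = (s.map fun b => X - C b).prod := by
  refine ⟨A, inferInstance, Algebra.id A,
    ⟨0, ⟨(Algebra.Presentation.id.{0, 0, u} A).reindex (Equiv.equivPEmpty _) (Equiv.equivPEmpty _)⟩⟩,
    inferInstance, inferInstance, inferInstance, 0, Subsingleton.elim _ _⟩

theorem tower : ∀ (n : ℕ) (A : Type u) [CommRing A] (P : A[X]), P.Monic → P.natDegree = n →
    ∃ (A' : Type u) (_ : CommRing A') (_ : Algebra A A'),
      (∃ m : ℕ, Nonempty (Algebra.Presentation A A' (Fin m) (Fin m))) ∧ Module.Finite A A' ∧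
        Module.Free A A' ∧ Module.FaithfullyFlat A A' ∧
        ∃ s : Multiset A', P.map (algebraMap A A') = (s.map fun b => X - C b).prod := by
  intro n
  induction n with
  | zero =>
    intro A _ P hP hdeg
    have h1 : P = 1 := eq_one_of_monic_natDegree_zero hP hdeg
    refine ⟨A, inferInstance, Algebra.id A,
      ⟨0, ⟨(Algebra.Presentation.id.{0, 0, u} A).reindex (Equiv.equivPEmpty _) (Equiv.equivPEmpty _)⟩⟩,
      inferInstance, inferInstance, inferInstance, 0, ?_⟩
    rw [h1]
    simp
  | succ n ih =>
    intro A _ P hP hdeg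
    rcases subsingleton_or_nontrivial A with hA | hA
    · exact trivial_case A P
    · haveI : Module.Free A (AdjoinRoot P) := hP.free_adjoinRoot
      haveI : Module.Finite A (AdjoinRoot P) := hP.finite_adjoinRoot
      haveI : Nontrivial (AdjoinRoot P) := by
        refine Ideal.Quotient.nontrivial_iff.mpr ?_
        rw [Ne, Ideal.span_singleton_eq_top, hP.isUnit_iff]
        intro h1
        have := congrArg natDegree h1
        rw [hdeg, natDegree_one] at this
        exact Nat.succ_ne_zero n this
      have hff1 : Module.FaithfullyFlat A (AdjoinRoot P) := inferInstance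
      have hPm : (P.map (algebraMap A (AdjoinRoot P))).Monic := hP.map _
      have hroot : (P.map (algebraMap A (AdjoinRoot P))).IsRoot (AdjoinRoot.root P) := by
        rw [AdjoinRoot.algebraMap_eq]
        exact AdjoinRoot.isRoot_root P
      obtain ⟨Q, hQ⟩ : ∃ Q, Q = (P.map (algebraMap A (AdjoinRoot P))) /ₘ
          (X - C (AdjoinRoot.root P)) := ⟨_, rfl⟩
      have hfac : (X - C (AdjoinRoot.root P)) * Q = P.map (algebraMap A (AdjoinRoot P)) := by
        rw [hQ]
        exact Polynomial.mul_divByMonic_eq_iff_isRoot.mpr hroot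
      have hdegm : (P.map (algebraMap A (AdjoinRoot P))).natDegree = n + 1 := by
        rw [hP.natDegree_map, hdeg]
      have hQm : Q.Monic := by
        unfold Polynomial.Monic
        rw [hQ, leadingCoeff_divByMonic_of_monic (monic_X_sub_C _) ?_, hPm.leadingCoeff]
        rw [degree_X_sub_C, degree_eq_natDegree hPm.ne_zero, hdegm]
        exact_mod_cast Nat.succ_le_succ (Nat.zero_le n)
      have hQdeg : Q.natDegree = n := by
        rw [hQ, natDegree_divByMonic _ (monic_X_sub_C _), natDegree_X_sub_C, hdegm]
        rfl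
      obtain ⟨A', iR, iA, ⟨m, ⟨Pr⟩⟩, hfin, hfree, hff, s, hs⟩ := ih (AdjoinRoot P) Q hQm hQdeg
      letI := iR
      letI := iA
      letI iAA' : Algebra A A' :=
        ((algebraMap (AdjoinRoot P) A').comp (algebraMap A (AdjoinRoot P))).toAlgebra
      haveI : IsScalarTower A (AdjoinRoot P) A' := IsScalarTower.of_algebraMap_eq (fun _ => rfl)
      haveI := hfin
      haveI := hfree
      haveI := hff
      refine ⟨A', iR, iAA',
        ⟨m + 1, ⟨(Pr.comp (presAdjoinRoot P)).reindex finSumFinEquiv.symm finSumFinEquiv.symm⟩⟩,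
        Module.Finite.trans (AdjoinRoot P) A', Module.Free.trans (S := AdjoinRoot P),
        Module.FaithfullyFlat.trans A (AdjoinRoot P) A',
        algebraMap (AdjoinRoot P) A' (AdjoinRoot.root P) ::ₘ s, ?_⟩
      rw [IsScalarTower.algebraMap_eq A (AdjoinRoot P) A', ← Polynomial.map_map, ← hfac,
        Polynomial.map_mul, hs, Multiset.map_cons, Multiset.prod_cons, Polynomial.map_sub,
        Polynomial.map_X, Polynomial.map_C]

theorem main (A : Type u) [CommRing A] (P : A[X]) (hP : P.Monic) :
    ∃ (A' : Type u) (_ : CommRing A') (_ : Algebra A A'),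
      Synt.IsSyntomic A A' ∧ Module.Finite A A' ∧ Module.Free A A' ∧ Module.FaithfullyFlat A A' ∧
        ∃ s : Multiset A', P.map (algebraMap A A') = (s.map fun b => X - C b).prod := by
  obtain ⟨A', iR, iA, ⟨m, ⟨Pr⟩⟩, hfin, hfree, hff, hs⟩ := tower P.natDegree A P hP rfl
  letI := iR
  letI := iA
  haveI := hfin
  haveI := hfree
  exact ⟨A', iR, iA, isSyntomic_of_pres m Pr, hfin, hfree, hff, hs⟩

end Groth.Agent.Lib.Helper6.SplitSynt
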