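import Mathlib
import Groth.Prelude.Def_RegImm
import Groth.Agent.Lib.Helper21.PBasisJ

namespace Groth.Agent.Lib.Helper6.FrobMvPoly

open MvPolynomial TensorProduct Groth.Agent.Lib.Helper21.PBasis

universe u

instance finite_redIdx (m p : ℕ) : Finite {e : Fin m →₀ ℕ // ∀ i, e i < p} := by
  apply Finite.of_injective (fun e => fun i => (⟨e.1 i, e.2 i⟩ : Fin p))
  intro e e' h
  apply Subtype.ext
  ext i
  exact congrArg Fin.val (congrFun h i)

section generic

theorem isGlobalCI_of_isQBasis (κ : Type u) [Field κ] (F : Type u) [CommRing F] [Algebra κ F]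
    (m p : ℕ) (hp : 0 < p) (x : Fin m → F) (h : IsQBasis κ p x) (c : Fin m → κ)
    (hc : ∀ i, algebraMap κ F (c i) = x i ^ p) : Synt.IsGlobalCI κ F := by
  right
  refine ⟨m, m, le_rfl, aeval x, fun i => X i ^ p - C (c i), aeval_surjective h, ?_, ?_⟩
  · exact ker_aeval_eq h hp c hc
  · simp only [Nat.sub_self, Nat.cast_zero]
    let b : Module.Basis {e : Fin m →₀ ℕ // ∀ i, e i < p} κ F := Module.Basis.mk h.li h.sp.ge
    haveI : Module.Finite κ F := Module.Finite.of_basis b
    haveI : IsArtinianRing F := IsArtinianRing.of_finite κ F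
    haveI : Nontrivial F :=
      nontrivial_of_ne _ _ (b.ne_zero ⟨0, fun i => by simpa using hp⟩)
    have h0 : Ring.KrullDimLE 0 F := inferInstance
    exact le_antisymm (Ring.krullDimLE_iff.mp h0) ringKrullDim_nonneg_of_nontrivial

theorem isGlobalCI_of_algEquiv {κ : Type u} [Field κ] {F F' : Type u} [CommRing F] [CommRing F']
    [Algebra κ F] [Algebra κ F'] (e : F ≃ₐ[κ] F') (h : Synt.IsGlobalCI κ F) :
    Synt.IsGlobalCI κ F' := by
  rcases h with h | ⟨n, c, hle, φ, r, hsurj, hker, hdim⟩
  · left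
    exact e.symm.injective.subsingleton
  · right
    refine ⟨n, c, hle, (e : F →ₐ[κ] F').comp φ, r, e.surjective.comp hsurj, ?_, ?_⟩
    · rw [← hker]
      ext y
      simp only [RingHom.mem_ker]
      exact map_eq_zero_iff _ e.injective
    · rw [← ringKrullDim_eq_of_ringEquiv e.toRingEquiv]
      exact hdim

theorem isSyntomic_of_isQBasis (R R' : Type u) [CommRing R] [CommRing R'] [Algebra R R']
    (m p : ℕ) (hp : 0 < p) (x : Fin m → R') (h : IsQBasis R p x) (c : Fin m → R)
    (hc : ∀ i, algebraMap R R' (c i) = x i ^ p) :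
    Synt.IsSyntomic R R' ∧ Module.FaithfullyFlat R R' := by
  let b : Module.Basis {e : Fin m →₀ ℕ // ∀ i, e i < p} R R' := Module.Basis.mk h.li h.sp.ge
  haveI : Module.Free R R' := Module.Free.of_basis b
  haveI : Module.Finite R R' := Module.Finite.of_basis b
  have hfp : Algebra.FinitePresentation R R' := by
    refine Algebra.FinitePresentation.of_surjective (f := aeval x) (aeval_surjective h) ?_
    have := ker_aeval_eq h hp c hc
    rw [show RingHom.ker (aeval x : MvPolynomial (Fin m) R →ₐ[R] R').toRingHom =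
      RingHom.ker (aeval x : MvPolynomial (Fin m) R →ₐ[R] R') from rfl, this]
    exact Submodule.fg_span (Set.finite_range _)
  have hff : Module.FaithfullyFlat R R' := by
    rcases subsingleton_or_nontrivial R with hR | hR
    · exact ⟨fun m hm => absurd (Subsingleton.elim m ⊤) hm.ne_top⟩
    · haveI : Nontrivial R' :=
        nontrivial_of_ne _ _ (b.ne_zero ⟨0, fun i => by simpa using hp⟩)
      infer_instance
  refine ⟨⟨inferInstance, hfp, ?_⟩, hff⟩
  intro pr
  refine ⟨inferInstance, fun P =>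
    ⟨1, fun h1 => P.isPrime.ne_top ((Ideal.eq_top_iff_one _).mpr h1), ?_⟩⟩
  have hb : ∀ e, (b.baseChange pr.asIdeal.ResidueField) e =
      mon (fun i => (1 : pr.asIdeal.ResidueField) ⊗ₜ[R] x i) e.1 := by
    intro e
    rw [Module.Basis.baseChange_apply, Module.Basis.mk_apply]
    exact map_mon (Algebra.TensorProduct.includeRight :
      R' →ₐ[R] pr.asIdeal.ResidueField ⊗[R] R').toRingHom x e.1
  have hQ : IsQBasis pr.asIdeal.ResidueField p
      (fun i => (1 : pr.asIdeal.ResidueField) ⊗ₜ[R] x i) := by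
    constructor
    · have hfun : (fun e : {e : Fin m →₀ ℕ // ∀ i, e i < p} =>
          mon (fun i => (1 : pr.asIdeal.ResidueField) ⊗ₜ[R] x i) e.1) =
          ⇑(b.baseChange pr.asIdeal.ResidueField) := funext (fun e => (hb e).symm)
      rw [hfun]
      exact (b.baseChange pr.asIdeal.ResidueField).linearIndependent
    · rw [eq_top_iff, ← (b.baseChange pr.asIdeal.ResidueField).span_eq]
      apply Submodule.span_mono
      rintro _ ⟨e, rfl⟩
      exact ⟨e, (hb e).symm⟩
  have hG := isGlobalCI_of_isQBasis pr.asIdeal.ResidueField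
    (pr.asIdeal.ResidueField ⊗[R] R') m p hp _ hQ
    (fun i => algebraMap R pr.asIdeal.ResidueField (c i)) (by
      intro i
      rw [Algebra.TensorProduct.algebraMap_apply, Algebra.algebraMap_self_apply,
        Algebra.algebraMap_eq_smul_one, TensorProduct.smul_tmul, ← Algebra.algebraMap_eq_smul_one,
        hc, Algebra.TensorProduct.tmul_pow, one_pow])
  exact isGlobalCI_of_algEquiv ((IsLocalization.atOne (pr.asIdeal.ResidueField ⊗[R] R')
    (Localization.Away (1 : pr.asIdeal.ResidueField ⊗[R] R'))).restrictScalars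
      pr.asIdeal.ResidueField) hG

end generic

section frob

/-- Division with remainder on exponent vectors. -/
noncomputable def dm (m p : ℕ) (hp : 0 < p) :
    {e : Fin m →₀ ℕ // ∀ i, e i < p} × (Fin m →₀ ℕ) ≃ (Fin m →₀ ℕ) where
  toFun x := p • x.2 + x.1.1
  invFun d := (⟨d.mapRange (· % p) (Nat.zero_mod p), fun i => by
    simp only [Finsupp.mapRange_apply]; exact Nat.mod_lt _ hp⟩,
    d.mapRange (· / p) (Nat.zero_div p))
  left_inv := by
    rintro ⟨⟨e, he⟩, k⟩
    refine Prod.ext (Subtype.ext ?_) ?_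
    · ext i
      simp [Nat.mod_eq_of_lt (he i)]
    · ext i
      simp only [Finsupp.mapRange_apply, Finsupp.add_apply, Finsupp.smul_apply, smul_eq_mul]
      rw [Nat.mul_add_div hp, Nat.div_eq_of_lt (he i), add_zero]
  right_inv d := by
    ext i
    simp only [Finsupp.mapRange_apply, Finsupp.add_apply, Finsupp.smul_apply, smul_eq_mul]
    exact Nat.div_add_mod (d i) p

variable {A : Type u} [CommRing A] (m p : ℕ)

theorem mon_X (e : Fin m →₀ ℕ) : mon (X : Fin m → MvPolynomial (Fin m) A) e = monomial e 1 := by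
  rw [monomial_eq, C_1, one_mul]
  rfl

theorem phi_monomial (φ : MvPolynomial (Fin m) A →ₐ[A] MvPolynomial (Fin m) A)
    (hφ : ∀ i : Fin m, φ (X i) = X i ^ p) (k : Fin m →₀ ℕ) (a : A) :
    φ (monomial k a) = monomial (p • k) a := by
  have h1 : φ = aeval (fun i : Fin m => (X i : MvPolynomial (Fin m) A) ^ p) := by
    apply MvPolynomial.algHom_ext
    intro i
    rw [hφ, aeval_X]
  rw [h1, aeval_monomial, monomial_eq, MvPolynomial.algebraMap_eq]
  congr 1
  rw [Finsupp.prod_of_support_subset (s := k.support) _ Finsupp.support_smul _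
    (fun i _ => pow_zero _)]
  unfold Finsupp.prod
  refine Finset.prod_congr rfl (fun i _ => ?_)
  rw [Finsupp.smul_apply, smul_eq_mul, pow_mul]

/-- The comparison of coefficient vectors. -/
noncomputable def gamma (hp : 0 < p) (R' : Type u) [CommRing R']
    (ψ : MvPolynomial (Fin m) A ≃+* R') :
    ({e : Fin m →₀ ℕ // ∀ i, e i < p} →₀ MvPolynomial (Fin m) A) ≃+ R' :=
  (Finsupp.mapRange.addEquiv (AddMonoidAlgebra.coeffAddEquiv (R := A) (M := Fin m →₀ ℕ))).trans
    ((Finsupp.curryAddEquiv (α := {e : Fin m →₀ ℕ // ∀ i, e i < p}) (β := Fin m →₀ ℕ)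
      (M := A)).symm.trans
    ((Finsupp.domCongr (dm m p hp)).trans
    ((AddMonoidAlgebra.coeffAddEquiv (R := A) (M := Fin m →₀ ℕ)).symm.trans ψ.toAddEquiv)))

theorem gamma_single (hp : 0 < p) (R' : Type u) [CommRing R']
    (ψ : MvPolynomial (Fin m) A ≃+* R') (e : {e : Fin m →₀ ℕ // ∀ i, e i < p})
    (k : Fin m →₀ ℕ) (a : A) :
    gamma m p hp R' ψ (Finsupp.single e (monomial k a)) = ψ (monomial (p • k + e.1) a) := by
  simp only [gamma, AddEquiv.trans_apply, Finsupp.mapRange.addEquiv_apply,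
    Finsupp.mapRange_single, AddMonoidAlgebra.coeffAddEquiv_apply]
  rw [← single_eq_monomial, AddMonoidAlgebra.coeff_single]
  simp only [Finsupp.curryAddEquiv_symm_apply, Finsupp.uncurry_single, Finsupp.domCongr_apply,
    Finsupp.equivMapDomain_single, AddMonoidAlgebra.coeffAddEquiv_symm_apply,
    AddMonoidAlgebra.ofCoeff_single, RingEquiv.toAddEquiv_eq_coe, RingEquiv.coe_toAddEquiv]
  rfl

theorem isQBasis_frob (hp : 0 < p) (φ : MvPolynomial (Fin m) A →ₐ[A] MvPolynomial (Fin m) A)
    (hφ : ∀ i : Fin m, φ (X i) = X i ^ p) (R' : Type u) [CommRing R']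
    [Algebra (MvPolynomial (Fin m) A) R'] (ψ : MvPolynomial (Fin m) A ≃+* R')
    (hψ : ∀ r, algebraMap (MvPolynomial (Fin m) A) R' r = ψ (φ r)) :
    IsQBasis (MvPolynomial (Fin m) A) p (fun i => ψ (X i)) := by
  have key : (Finsupp.linearCombination (MvPolynomial (Fin m) A)
      (fun e : {e : Fin m →₀ ℕ // ∀ i, e i < p} => mon (fun i => ψ (X i)) e.1)).toAddMonoidHom =
      (gamma m p hp R' ψ).toAddMonoidHom := by
    apply Finsupp.addHom_ext'
    intro e
    apply AddMonoidAlgebra.addMonoidHom_ext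
    intro k a
    rw [single_eq_monomial]
    simp only [AddMonoidHom.comp_apply, Finsupp.singleAddHom_apply, LinearMap.toAddMonoidHom_coe,
      Finsupp.linearCombination_single, AddEquiv.coe_toAddMonoidHom]
    rw [gamma_single, Algebra.smul_def, hψ, phi_monomial m p φ hφ]
    have hm : mon (fun i => ψ (X i)) e.1 = ψ (mon (X : Fin m → MvPolynomial (Fin m) A) e.1) :=
      (map_mon ψ.toRingHom (X : Fin m → MvPolynomial (Fin m) A) e.1).symm
    rw [hm, ← map_mul, mon_X, monomial_mul, mul_one]
  have hbij : Function.Bijective (Finsupp.linearCombination (MvPolynomial (Fin m) A)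
      (fun e : {e : Fin m →₀ ℕ // ∀ i, e i < p} => mon (fun i => ψ (X i)) e.1)) := by
    have h2 := (gamma m p hp R' ψ).bijective
    have h3 : ⇑(Finsupp.linearCombination (MvPolynomial (Fin m) A)
      (fun e : {e : Fin m →₀ ℕ // ∀ i, e i < p} => mon (fun i => ψ (X i)) e.1)) =
      ⇑(gamma m p hp R' ψ) := by
      funext l
      exact DFunLike.congr_fun key l
    rw [h3]
    exact h2
  constructor
  · exact linearIndependent_iff_injective_finsuppLinearCombination.mpr hbij.1
  · rw [← Finsupp.range_linearCombination]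
    exact LinearMap.range_eq_top.mpr hbij.2

theorem main (p : ℕ) [Fact p.Prime] (A : Type u) [CommRing A] (m : ℕ)
    (φ : MvPolynomial (Fin m) A →ₐ[A] MvPolynomial (Fin m) A)
    (hφ : ∀ i : Fin m, φ (MvPolynomial.X i) = MvPolynomial.X i ^ p) :
    @Synt.IsSyntomic (MvPolynomial (Fin m) A) _ (MvPolynomial (Fin m) A) _
        φ.toRingHom.toAlgebra ∧
      φ.toRingHom.FaithfullyFlat := by
  have hp : 0 < p := (Fact.out : p.Prime).pos
  have hQ := @isQBasis_frob A _ m p hp φ hφ (MvPolynomial (Fin m) A) _ φ.toRingHom.toAlgebra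
    (RingEquiv.refl _) (fun r => rfl)
  exact @isSyntomic_of_isQBasis (MvPolynomial (Fin m) A) (MvPolynomial (Fin m) A) _ _
    φ.toRingHom.toAlgebra m p hp _ hQ (fun i => X i) (fun i => hφ i)

end frob

end Groth.Agent.Lib.Helper6.FrobMvPoly
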