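import Mathlib

/-!
# Realising `Ext¹` classes by short exact sequences (helper6)

In an abelian category, every class in `Ext¹(E, P)` is the class of a short exact sequence
`0 ⟶ P ⟶ X ⟶ E ⟶ 0`, and a compatibility between extension classes is realised by a morphism of
short exact sequences.
-/

set_option autoImplicit false
open CategoryTheory CategoryTheory.Limits CategoryTheory.Pretriangulated CategoryTheory.Abelian

namespace Groth.Agent.Lib.Helper6.ExtRealize

universe w' w v u

section derived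

variable {C : Type u} [Category.{v} C] [Abelian C] [HasDerivedCategory.{w} C]

open DerivedCategory

/-- Every morphism `E[0] ⟶ P[1]` in the derived category is the connecting morphism of a short
exact sequence. -/
theorem exists_shortExact_singleδ {E P : C}
    (h : (singleFunctor C 0).obj E ⟶ ((singleFunctor C 0).obj P)⟦(1 : ℤ)⟧) :
    ∃ (X : C) (i : P ⟶ X) (p : X ⟶ E) (w : i ≫ p = 0)
      (hS : (ShortComplex.mk i p w).ShortExact), hS.singleδ = h := by
  obtain ⟨Z, f, g, hT⟩ := distinguished_cocone_triangle₂ h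
  have hle : Z.IsLE 0 := TStructure.t.isLE₂ _ hT 0
    (show ((singleFunctor C 0).obj P).IsLE 0 from inferInstance)
    (show ((singleFunctor C 0).obj E).IsLE 0 from inferInstance)
  have hge : Z.IsGE 0 := TStructure.t.isGE₂ _ hT 0
    (show ((singleFunctor C 0).obj P).IsGE 0 from inferInstance)
    (show ((singleFunctor C 0).obj E).IsGE 0 from inferInstance)
  obtain ⟨X, ⟨e⟩⟩ := exists_iso_singleFunctor_obj_of_isGE_of_isLE Z 0
  obtain ⟨i, hi⟩ := (singleFunctor C 0).map_surjective (f ≫ e.hom)
  obtain ⟨p, hp⟩ := (singleFunctor C 0).map_surjective (e.inv ≫ g)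
  have hT' : Triangle.mk ((singleFunctor C 0).map i) ((singleFunctor C 0).map p) h ∈
      distTriang (DerivedCategory C) := by
    rw [hi, hp]
    refine isomorphic_distinguished _ hT _ ?_
    refine Triangle.isoMk _ _ (Iso.refl _) e.symm (Iso.refl _) ?_ ?_ ?_
    · show (f ≫ e.hom) ≫ e.inv = 𝟙 _ ≫ f
      rw [Category.assoc, e.hom_inv_id, Category.comp_id, Category.id_comp]
    · show (e.inv ≫ g) ≫ 𝟙 _ = e.inv ≫ g
      rw [Category.comp_id]
    · show h ≫ (𝟙 _)⟦(1 : ℤ)⟧' = 𝟙 _ ≫ h
      rw [CategoryTheory.Functor.map_id, Category.comp_id, Category.id_comp]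
  have w : i ≫ p = 0 := by
    apply (singleFunctor C 0).map_injective
    rw [CategoryTheory.Functor.map_comp, CategoryTheory.Functor.map_zero]
    exact comp_distTriang_mor_zero₁₂ _ hT'
  have hex := HomologySequence.exact₂ _ hT' 0
  have hmono : Mono ((homologyFunctor C 0).map ((singleFunctor C 0).map i)) := by
    have h1 := HomologySequence.mono_homologyMap_mor₁_iff _ hT' (-1) 0 (by omega)
    refine h1.2 ?_
    exact (isZero_of_isGE ((singleFunctor C 0).obj E) 0 (-1) (by omega)).eq_of_src _ _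
  have hepi : Epi ((homologyFunctor C 0).map ((singleFunctor C 0).map p)) := by
    have h1 := HomologySequence.epi_homologyMap_mor₂_iff _ hT' 0 1 (by omega)
    refine h1.2 ?_
    exact (isZero_of_isLE ((singleFunctor C 0).obj P) 0 1 (by omega)).eq_of_tgt _ _
  have hSE' : ((ShortComplex.mk i p w).map
      (singleFunctor C 0 ⋙ homologyFunctor C 0)).ShortExact :=
    ShortComplex.ShortExact.mk' hex hmono hepi
  have hSE : (ShortComplex.mk i p w).ShortExact :=
    ShortComplex.shortExact_of_iso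
      ((ShortComplex.mk i p w).mapNatIso (singleFunctorCompHomologyFunctorIso C 0)) hSE'
  refine ⟨X, i, p, w, hSE, ?_⟩
  obtain ⟨φ, hφ₁, hφ₂⟩ : ∃ φ : (singleFunctor C 0).obj E ⟶ (singleFunctor C 0).obj E,
      (singleFunctor C 0).map p ≫ φ = 𝟙 _ ≫ (singleFunctor C 0).map p ∧
        hSE.singleδ ≫ (𝟙 ((singleFunctor C 0).obj P))⟦(1 : ℤ)⟧' = φ ≫ h :=
    complete_distinguished_triangle_morphism hSE.singleTriangle
      (Triangle.mk ((singleFunctor C 0).map i) ((singleFunctor C 0).map p) h)
      hSE.singleTriangle_distinguished hT' (𝟙 _) (𝟙 _)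
      (by
        show (singleFunctor C 0).map i ≫ 𝟙 _ = 𝟙 _ ≫ (singleFunctor C 0).map i
        rw [Category.comp_id, Category.id_comp])
  obtain ⟨φ₀, rfl⟩ := (singleFunctor C 0).map_surjective φ
  have h1 : p ≫ φ₀ = p := by
    apply (singleFunctor C 0).map_injective
    rw [CategoryTheory.Functor.map_comp, hφ₁, Category.id_comp]
  have h2 : φ₀ = 𝟙 E := by
    have : Epi p := hSE.epi_g
    exact (cancel_epi p).1 (by rw [h1, Category.comp_id])
  rw [h2] at hφ₂
  simpa using hφ₂

/-- A compatibility between connecting morphisms is realised by a morphism of short exact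
sequences. -/
theorem exists_map_of_singleδ {S₁ S₂ : ShortComplex C} (h₁ : S₁.ShortExact)
    (h₂ : S₂.ShortExact) (α : S₁.X₁ ⟶ S₂.X₁) (γ : S₁.X₃ ⟶ S₂.X₃)
    (comm : h₁.singleδ ≫ ((singleFunctor C 0).map α)⟦(1 : ℤ)⟧' =
      (singleFunctor C 0).map γ ≫ h₂.singleδ) :
    ∃ β : S₁.X₂ ⟶ S₂.X₂, S₁.f ≫ β = α ≫ S₂.f ∧ S₁.g ≫ γ = β ≫ S₂.g := by
  obtain ⟨b, hb₁, hb₂⟩ : ∃ b : (singleFunctor C 0).obj S₁.X₂ ⟶ (singleFunctor C 0).obj S₂.X₂,
      (singleFunctor C 0).map S₁.f ≫ b = (singleFunctor C 0).map α ≫ (singleFunctor C 0).map S₂.f ∧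
      (singleFunctor C 0).map S₁.g ≫ (singleFunctor C 0).map γ =
        b ≫ (singleFunctor C 0).map S₂.g :=
    complete_distinguished_triangle_morphism₂ h₁.singleTriangle h₂.singleTriangle
      h₁.singleTriangle_distinguished h₂.singleTriangle_distinguished
      ((singleFunctor C 0).map α) ((singleFunctor C 0).map γ) comm
  obtain ⟨β, rfl⟩ := (singleFunctor C 0).map_surjective b
  refine ⟨β, ?_, ?_⟩
  · apply (singleFunctor C 0).map_injective
    rw [CategoryTheory.Functor.map_comp, CategoryTheory.Functor.map_comp, hb₁]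
  · apply (singleFunctor C 0).map_injective
    rw [CategoryTheory.Functor.map_comp, CategoryTheory.Functor.map_comp, hb₂]

end derived

section ext

variable {C : Type u} [Category.{v} C] [Abelian C] [HasExt.{w} C]

/-- Every class in `Ext¹(E, P)` is the class of a short exact sequence. -/
theorem exists_shortExact_extClass {E P : C} (x : Ext E P 1) :
    ∃ (X : C) (i : P ⟶ X) (p : X ⟶ E) (w : i ≫ p = 0)
      (hS : (ShortComplex.mk i p w).ShortExact), hS.extClass = x := by
  let := HasDerivedCategory.standard C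
  obtain ⟨X, i, p, w, hS, h⟩ := exists_shortExact_singleδ x.hom
  refine ⟨X, i, p, w, hS, ?_⟩
  apply Ext.ext
  rw [ShortComplex.ShortExact.extClass_hom]
  exact h

/-- A compatibility between extension classes is realised by a morphism of short exact
sequences. -/
theorem exists_map_of_extClass {S₁ S₂ : ShortComplex C} (h₁ : S₁.ShortExact)
    (h₂ : S₂.ShortExact) (α : S₁.X₁ ⟶ S₂.X₁) (γ : S₁.X₃ ⟶ S₂.X₃)
    (comm : h₁.extClass.comp (Ext.mk₀ α) (add_zero 1) =
      (Ext.mk₀ γ).comp h₂.extClass (zero_add 1)) :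
    ∃ β : S₁.X₂ ⟶ S₂.X₂, S₁.f ≫ β = α ≫ S₂.f ∧ S₁.g ≫ γ = β ≫ S₂.g := by
  let := HasDerivedCategory.standard C
  refine exists_map_of_singleδ h₁ h₂ α γ ?_
  have h := congrArg Ext.hom comm
  simpa [ShiftedHom.comp_mk₀, ShiftedHom.mk₀_comp] using h

end ext

end Groth.Agent.Lib.Helper6.ExtRealize
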