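import Mathlib

/-!
# Fibre squares of commutative rings (helper6)

`IsFibSq π₁ π₂ q p`: the square `R → B → A`, `R → A' → A` exhibits `R` as the fibre product
`B ×_A A'`, with `p : A' → A` surjective.  Such squares localise (`IsFibSq.loc`), every prime of `R`
comes from `B` or from `A'` (`IsFibSq.exists_prime`), and ring maps into `R` are pairs of compatible
ring maps (`IsFibSq.exists_lift`).
-/

set_option autoImplicit false
universe u

namespace Groth.Agent.Lib.Helper6.FibSquare

/-- A fibre square of commutative rings with `p` surjective. -/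
structure IsFibSq {R B A' A : Type u} [CommRing R] [CommRing B] [CommRing A'] [CommRing A]
    (π₁ : R →+* B) (π₂ : R →+* A') (q : B →+* A) (p : A' →+* A) : Prop where
  comm : ∀ r, q (π₁ r) = p (π₂ r)
  exists_of_eq : ∀ b a', q b = p a' → ∃ r, π₁ r = b ∧ π₂ r = a'
  inj : ∀ r r', π₁ r = π₁ r' → π₂ r = π₂ r' → r = r'
  surj : Function.Surjective p

variable {R B A' A : Type u} [CommRing R] [CommRing B] [CommRing A'] [CommRing A]
  {π₁ : R →+* B} {π₂ : R →+* A'} {q : B →+* A} {p : A' →+* A}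

theorem IsFibSq.exists_lift (h : IsFibSq π₁ π₂ q p) {C : Type u} [CommRing C] (α : C →+* B)
    (β : C →+* A') (hαβ : ∀ c, q (α c) = p (β c)) :
    ∃ γ : C →+* R, (∀ c, π₁ (γ c) = α c) ∧ (∀ c, π₂ (γ c) = β c) := by
  choose g hg1 hg2 using fun c => h.exists_of_eq (α c) (β c) (hαβ c)
  refine ⟨{ toFun := g, map_one' := ?_, map_mul' := ?_, map_zero' := ?_, map_add' := ?_ },
    hg1, hg2⟩
  · exact h.inj _ _ (by rw [hg1, map_one, map_one]) (by rw [hg2, map_one, map_one])
  · intro x y
    exact h.inj _ _ (by rw [hg1, map_mul, map_mul, hg1, hg1])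
      (by rw [hg2, map_mul, map_mul, hg2, hg2])
  · exact h.inj _ _ (by rw [hg1, map_zero, map_zero]) (by rw [hg2, map_zero, map_zero])
  · intro x y
    exact h.inj _ _ (by rw [hg1, map_add, map_add, hg1, hg1])
      (by rw [hg2, map_add, map_add, hg2, hg2])

theorem IsFibSq.surjective_fst (h : IsFibSq π₁ π₂ q p) : Function.Surjective π₁ := by
  intro b
  obtain ⟨a', ha'⟩ := h.surj (q b)
  obtain ⟨r, hr, -⟩ := h.exists_of_eq b a' ha'.symm
  exact ⟨r, hr⟩

/-- A prime of `R` not containing an element `κ` killed by `π₁` comes from `A'`. -/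
theorem IsFibSq.exists_prime (h : IsFibSq π₁ π₂ q p) (P : Ideal R) [hP : P.IsPrime] (κ : R)
    (hκ1 : π₁ κ = 0) (hκP : κ ∉ P) :
    ∃ 𝔭' : Ideal A', 𝔭'.IsPrime ∧ 𝔭'.comap π₂ = P := by
  have hex : ∀ a' : A', ∃ ρ, π₁ ρ = 0 ∧ π₂ ρ = π₂ κ * a' := fun a' =>
    h.exists_of_eq 0 (π₂ κ * a') (by rw [map_zero, map_mul, ← h.comm κ, hκ1, map_zero, zero_mul])
  choose e he1 he2 using hex
  have key : ∀ (ρ : R) (a' : A'), π₁ ρ = 0 → π₂ ρ = π₂ κ * a' → ρ = e a' := fun ρ a' h1 h2 =>
    h.inj _ _ (by rw [h1, he1]) (by rw [h2, he2])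
  have hadd : ∀ x y, e (x + y) = e x + e y := fun x y =>
    (key _ _ (by rw [map_add, he1, he1, add_zero]) (by rw [map_add, he2, he2, mul_add])).symm
  have hmul : ∀ x y, κ * e (x * y) = e x * e y := fun x y =>
    h.inj _ _ (by simp only [map_mul, he1, mul_zero, zero_mul])
      (by simp only [map_mul, he2]; ring)
  have hsmul : ∀ ρ : R, κ * ρ = e (π₂ ρ) := fun ρ =>
    key _ _ (by rw [map_mul, hκ1, zero_mul]) (by rw [map_mul])
  have hzero : e 0 = 0 := (key 0 0 (map_zero _) (by rw [map_zero, mul_zero])).symm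
  have hone : e 1 = κ := (key κ 1 hκ1 (by rw [mul_one])).symm
  let 𝔭' : Ideal A' :=
    { carrier := {a' | e a' ∈ P}
      add_mem' := by
        intro x y hx hy
        change e (x + y) ∈ P
        rw [hadd]
        exact P.add_mem hx hy
      zero_mem' := by
        change e 0 ∈ P
        rw [hzero]
        exact P.zero_mem
      smul_mem' := by
        intro c x hx
        change e (c * x) ∈ P
        have h1 : κ * e (c * x) ∈ P := by
          rw [hmul]
          exact P.mul_mem_left _ hx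
        exact (hP.mem_or_mem h1).resolve_left hκP }
  have hmem : ∀ a', a' ∈ 𝔭' ↔ e a' ∈ P := fun a' => Iff.rfl
  refine ⟨𝔭', ⟨?_, ?_⟩, ?_⟩
  · intro htop
    have h1 : (1 : A') ∈ 𝔭' := by rw [htop]; exact Submodule.mem_top
    rw [hmem, hone] at h1
    exact hκP h1
  · intro x y hxy
    rw [hmem] at hxy
    have h1 : e x * e y ∈ P := by
      rw [← hmul]
      exact P.mul_mem_left _ hxy
    exact hP.mem_or_mem h1
  · ext ρ
    rw [Ideal.mem_comap, hmem, ← hsmul]
    constructor
    · intro hh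
      exact (hP.mem_or_mem hh).resolve_left hκP
    · intro hh
      exact P.mul_mem_left _ hh

/-- Every prime of `R` comes from `B`, or from `A'` at a point where some `κ` with `π₁ κ = 0` is
invertible. -/
theorem IsFibSq.prime_cases (h : IsFibSq π₁ π₂ q p) (P : Ideal R) [hP : P.IsPrime] :
    (∃ 𝔮 : Ideal B, 𝔮.IsPrime ∧ 𝔮.comap π₁ = P) ∨
      (∃ (𝔭' : Ideal A') (κ : R), 𝔭'.IsPrime ∧ 𝔭'.comap π₂ = P ∧ π₁ κ = 0 ∧ κ ∉ P) := by
  by_cases hk : RingHom.ker π₁ ≤ P
  · left
    refine ⟨P.map π₁, Ideal.map_isPrime_of_surjective h.surjective_fst hk, ?_⟩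
    rw [Ideal.comap_map_of_surjective π₁ h.surjective_fst]
    exact sup_eq_left.2 hk
  · right
    obtain ⟨κ, hκ1, hκP⟩ := SetLike.not_le_iff_exists.1 hk
    obtain ⟨𝔭', h1, h2⟩ := h.exists_prime P κ hκ1 hκP
    exact ⟨𝔭', κ, h1, h2, hκ1, hκP⟩

section Loc

lemma awayMap_algebraMap {S S' : Type u} [CommRing S] [CommRing S'] (f : S →+* S') (r x : S) :
    Localization.awayMap f r (algebraMap S (Localization.Away r) x) =
      algebraMap S' (Localization.Away (f r)) (f x) :=
  IsLocalization.map_eq _ x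

lemma eq_of_mul_pow_eq {S : Type u} [CommRing S] {v : S} (hv : IsUnit v) {x y : S} (n : ℕ)
    (hxy : x * v ^ n = y * v ^ n) : x = y :=
  (hv.pow n).mul_left_injective hxy

/-- The map `A'_{π₂ r} → A_{q (π₁ r)}` induced by `p`. -/
noncomputable def pLoc (h : IsFibSq π₁ π₂ q p) (r : R) :
    Localization.Away (π₂ r) →+* Localization.Away (q (π₁ r)) :=
  IsLocalization.Away.lift (π₂ r)
    (g := (algebraMap A (Localization.Away (q (π₁ r)))).comp p)
    (by
      change IsUnit (algebraMap A (Localization.Away (q (π₁ r))) (p (π₂ r)))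
      rw [← h.comm r]
      exact IsLocalization.Away.algebraMap_isUnit (q (π₁ r)))

lemma pLoc_algebraMap (h : IsFibSq π₁ π₂ q p) (r : R) (a' : A') :
    pLoc h r (algebraMap A' (Localization.Away (π₂ r)) a') =
      algebraMap A (Localization.Away (q (π₁ r))) (p a') :=
  IsLocalization.Away.lift_eq _ _ a'

/-- Fibre squares localise. -/
theorem IsFibSq.loc (h : IsFibSq π₁ π₂ q p) (r : R) :
    IsFibSq (Localization.awayMap π₁ r) (Localization.awayMap π₂ r)
      (Localization.awayMap q (π₁ r)) (pLoc h r) := by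
  have hcomm : ∀ ρ, Localization.awayMap q (π₁ r) (Localization.awayMap π₁ r ρ) =
      pLoc h r (Localization.awayMap π₂ r ρ) := by
    have h1 : (Localization.awayMap q (π₁ r)).comp (Localization.awayMap π₁ r) =
        (pLoc h r).comp (Localization.awayMap π₂ r) := by
      apply IsLocalization.ringHom_ext (Submonoid.powers r)
      ext x
      rw [RingHom.comp_apply, RingHom.comp_apply, RingHom.comp_apply, RingHom.comp_apply,
        awayMap_algebraMap, awayMap_algebraMap, awayMap_algebraMap, pLoc_algebraMap, h.comm x]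
    intro ρ
    exact congrArg (fun ψ => ψ ρ) h1
  have hu1 : IsUnit (algebraMap B (Localization.Away (π₁ r)) (π₁ r)) :=
    IsLocalization.Away.algebraMap_isUnit (π₁ r)
  have hu2 : IsUnit (algebraMap A' (Localization.Away (π₂ r)) (π₂ r)) :=
    IsLocalization.Away.algebraMap_isUnit (π₂ r)
  have hu0 : IsUnit (algebraMap A (Localization.Away (q (π₁ r))) (q (π₁ r))) :=
    IsLocalization.Away.algebraMap_isUnit (q (π₁ r))
  have hur : IsUnit (algebraMap R (Localization.Away r) r) :=
    IsLocalization.Away.algebraMap_isUnit r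
  refine ⟨hcomm, ?_, ?_, ?_⟩
  · -- existence
    intro β α' hβα
    obtain ⟨n, x, hx⟩ := IsLocalization.Away.surj (π₁ r) β
    obtain ⟨m, y, hy⟩ := IsLocalization.Away.surj (π₂ r) α'
    -- images in `A₀`
    have hx' := congrArg (Localization.awayMap q (π₁ r)) hx
    have hy' := congrArg (pLoc h r) hy
    rw [map_mul, map_pow, awayMap_algebraMap, awayMap_algebraMap] at hx'
    rw [map_mul, map_pow, pLoc_algebraMap, pLoc_algebraMap, ← h.comm r, ← hβα] at hy'
    have h2 : algebraMap A (Localization.Away (q (π₁ r))) (q x * q (π₁ r) ^ m) =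
        algebraMap A (Localization.Away (q (π₁ r))) (p y * q (π₁ r) ^ n) := by
      rw [map_mul, map_mul, map_pow, map_pow, ← hx', ← hy']
      ring
    obtain ⟨N, hN⟩ := IsLocalization.Away.exists_of_eq (q (π₁ r)) h2
    obtain ⟨ρ₀, hρ1, hρ2⟩ := h.exists_of_eq (π₁ r ^ (N + m) * x) (π₂ r ^ (N + n) * y) (by
      rw [map_mul, map_mul, map_pow, map_pow, ← h.comm r, pow_add, pow_add]
      calc q (π₁ r) ^ N * q (π₁ r) ^ m * q x = q (π₁ r) ^ N * (q x * q (π₁ r) ^ m) := by ring
        _ = q (π₁ r) ^ N * (p y * q (π₁ r) ^ n) := hN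
        _ = q (π₁ r) ^ N * q (π₁ r) ^ n * p y := by ring)
    obtain ⟨ρ, hρ⟩ : ∃ ρ : Localization.Away r,
        ρ * algebraMap R (Localization.Away r) r ^ (N + n + m) =
          algebraMap R (Localization.Away r) ρ₀ := by
      refine ⟨algebraMap R (Localization.Away r) ρ₀ * ((hur.pow (N + n + m)).unit⁻¹ : _), ?_⟩
      rw [mul_assoc, IsUnit.val_inv_mul, mul_one]
    refine ⟨ρ, ?_, ?_⟩
    · apply eq_of_mul_pow_eq hu1 (N + n + m)
      have h3 := congrArg (Localization.awayMap π₁ r) hρ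
      rw [map_mul, map_pow, awayMap_algebraMap, awayMap_algebraMap, hρ1] at h3
      rw [h3, map_mul, map_pow, ← hx]
      ring
    · apply eq_of_mul_pow_eq hu2 (N + n + m)
      have h3 := congrArg (Localization.awayMap π₂ r) hρ
      rw [map_mul, map_pow, awayMap_algebraMap, awayMap_algebraMap, hρ2] at h3
      rw [h3, map_mul, map_pow, ← hy]
      ring
  · -- injectivity
    intro ρ ρ' h1 h2
    rw [← sub_eq_zero]
    have h1' : Localization.awayMap π₁ r (ρ - ρ') = 0 := by rw [map_sub, h1, sub_self]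
    have h2' : Localization.awayMap π₂ r (ρ - ρ') = 0 := by rw [map_sub, h2, sub_self]
    obtain ⟨n, σ₀, hσ⟩ := IsLocalization.Away.surj r (ρ - ρ')
    have e1 := congrArg (Localization.awayMap π₁ r) hσ
    have e2 := congrArg (Localization.awayMap π₂ r) hσ
    rw [map_mul, h1', zero_mul, awayMap_algebraMap] at e1
    rw [map_mul, h2', zero_mul, awayMap_algebraMap] at e2
    obtain ⟨N₁, hN₁⟩ := IsLocalization.Away.exists_of_eq (π₁ r)
      (e1.symm.trans (map_zero (algebraMap B (Localization.Away (π₁ r)))).symm)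
    obtain ⟨N₂, hN₂⟩ := IsLocalization.Away.exists_of_eq (π₂ r)
      (e2.symm.trans (map_zero (algebraMap A' (Localization.Away (π₂ r)))).symm)
    have h3 : r ^ (N₁ + N₂) * σ₀ = 0 := by
      apply h.inj
      · rw [map_mul, map_pow, map_zero, pow_add, mul_assoc, mul_comm (π₁ r ^ N₂), ← mul_assoc,
          hN₁, mul_zero, zero_mul]
      · rw [map_mul, map_pow, map_zero, pow_add, mul_assoc, hN₂, mul_zero, mul_zero]
    have h4 : algebraMap R (Localization.Away r) σ₀ = 0 := by
      have h5 := congrArg (algebraMap R (Localization.Away r)) h3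
      rw [map_mul, map_pow, map_zero] at h5
      exact (hur.pow (N₁ + N₂)).mul_right_eq_zero.1 h5
    rw [h4] at hσ
    exact (hur.pow n).mul_left_eq_zero.1 hσ
  · -- surjectivity of `pLoc`
    intro z
    obtain ⟨n, a, ha⟩ := IsLocalization.Away.surj (q (π₁ r)) z
    obtain ⟨a', rfl⟩ := h.surj a
    obtain ⟨y, hy⟩ : ∃ y : Localization.Away (π₂ r),
        y * algebraMap A' (Localization.Away (π₂ r)) (π₂ r) ^ n =
          algebraMap A' (Localization.Away (π₂ r)) a' := by
      refine ⟨algebraMap A' (Localization.Away (π₂ r)) a' * ((hu2.pow n).unit⁻¹ : _), ?_⟩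
      rw [mul_assoc, IsUnit.val_inv_mul, mul_one]
    refine ⟨y, ?_⟩
    apply eq_of_mul_pow_eq hu0 n
    have h3 := congrArg (pLoc h r) hy
    rw [map_mul, map_pow, pLoc_algebraMap, pLoc_algebraMap, ← h.comm r] at h3
    rw [h3, ha]

end Loc

end Groth.Agent.Lib.Helper6.FibSquare
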