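import Mathlib
import Groth.Agent.Lib.Helper6.ConeGlue
import Groth.Agent.Lib.Helper6.FibSquare

/-!
# The spectrum of a fibre product of rings is a pushout of schemes (helper6)

For a fibre square of rings `R = B ×_A A'` with `A' → A` surjective, `Spec R` is the pushout of
`Spec A' ← Spec A → Spec B` in the category of schemes (`IsFibSq.isPushout`).
-/

set_option autoImplicit false
universe u
open CategoryTheory CategoryTheory.Limits AlgebraicGeometry

namespace Groth.Agent.Lib.Helper6.FibSquare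

section General

variable {S S' : Type u} [CommRing S] [CommRing S'] (g : S →+* S')

lemma specAwayι_comp_SpecMap (s : S) :
    specAwayι (g s) ≫ Spec.map (CommRingCat.ofHom g) =
      Spec.map (CommRingCat.ofHom (Localization.awayMap g s)) ≫ specAwayι s := by
  have key : (Localization.awayMap g s).comp (algebraMap S (Localization.Away s)) =
      (algebraMap S' (Localization.Away (g s))).comp g := IsLocalization.map_comp _
  change Spec.map _ ≫ Spec.map _ = Spec.map _ ≫ Spec.map _
  rw [← Spec.map_comp, ← Spec.map_comp]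
  congr 1
  apply CommRingCat.hom_ext
  exact key.symm

lemma comap_mem_basicOpen (s : S) (x : PrimeSpectrum S') :
    PrimeSpectrum.comap g x ∈ PrimeSpectrum.basicOpen s ↔
      x ∈ PrimeSpectrum.basicOpen (g s) := Iff.rfl

lemma exists_transition (s t : S)
    (c : Spec (CommRingCat.of (Localization.Away t)) ⟶ Spec (CommRingCat.of (Localization.Away s)))
    (hc : c ≫ specAwayι s = specAwayι t) :
    ∃ ρ : Spec (CommRingCat.of (Localization.Away (g t))) ⟶
        Spec (CommRingCat.of (Localization.Away (g s))),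
      ρ ≫ specAwayι (g s) = specAwayι (g t) ∧
      Spec.map (CommRingCat.ofHom (Localization.awayMap g t)) ≫ c =
        ρ ≫ Spec.map (CommRingCat.ofHom (Localization.awayMap g s)) := by
  have hrange : Set.range (specAwayι (g t)).base ⊆ Set.range (specAwayι (g s)).base := by
    rintro _ ⟨w, rfl⟩
    rw [range_specAwayι]
    have h0 : specAwayι (g t) ≫ Spec.map (CommRingCat.ofHom g) =
        (Spec.map (CommRingCat.ofHom (Localization.awayMap g t)) ≫ c) ≫ specAwayι s := by
      rw [Category.assoc, hc, specAwayι_comp_SpecMap]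
    have h1 := congrArg (fun ψ => ψ.base w) h0
    have h2 : (specAwayι s).base
        ((Spec.map (CommRingCat.ofHom (Localization.awayMap g t)) ≫ c).base w) ∈
        (PrimeSpectrum.basicOpen s : Set (PrimeSpectrum S)) := by
      rw [← range_specAwayι]; exact ⟨_, rfl⟩
    have h3 : (Spec.map (CommRingCat.ofHom g)).base ((specAwayι (g t)).base w) =
        (specAwayι s).base
          ((Spec.map (CommRingCat.ofHom (Localization.awayMap g t)) ≫ c).base w) := h1
    rw [← h3] at h2
    exact (comap_mem_basicOpen g s _).1 h2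
  have hl : IsOpenImmersion.lift (specAwayι (g s)) (specAwayι (g t)) hrange ≫ specAwayι (g s) =
      specAwayι (g t) := IsOpenImmersion.lift_fac _ _ _
  set ρ := IsOpenImmersion.lift (specAwayι (g s)) (specAwayι (g t)) hrange with hρdef
  refine ⟨ρ, hl, ?_⟩
  rw [← cancel_mono (specAwayι s)]
  calc (Spec.map (CommRingCat.ofHom (Localization.awayMap g t)) ≫ c) ≫ specAwayι s
      = Spec.map (CommRingCat.ofHom (Localization.awayMap g t)) ≫ specAwayι t := by
        rw [Category.assoc, hc]
    _ = specAwayι (g t) ≫ Spec.map (CommRingCat.ofHom g) := (specAwayι_comp_SpecMap g t).symm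
    _ = (ρ ≫ specAwayι (g s)) ≫ Spec.map (CommRingCat.ofHom g) := by rw [hl]
    _ = ρ ≫ (Spec.map (CommRingCat.ofHom (Localization.awayMap g s)) ≫ specAwayι s) := by
        rw [Category.assoc, specAwayι_comp_SpecMap]
    _ = (ρ ≫ Spec.map (CommRingCat.ofHom (Localization.awayMap g s))) ≫ specAwayι s :=
        (Category.assoc _ _ _).symm

lemma exists_factor_affine {T : Scheme.{u}} {W : T.Opens} (hW : IsAffineOpen W)
    {C : CommRingCat.{u}} (φ : Spec C ⟶ T) (hφ : Set.range φ.base ⊆ (W : Set T)) :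
    ∃ γ : Γ(T, W) ⟶ C, Spec.map γ ≫ hW.fromSpec = φ := by
  have h1 : Set.range φ.base ⊆ Set.range hW.fromSpec.base := by
    rw [hW.range_fromSpec]; exact hφ
  refine ⟨Spec.preimage (IsOpenImmersion.lift hW.fromSpec φ h1), ?_⟩
  rw [Spec.map_preimage, IsOpenImmersion.lift_fac]

end General

variable {R B A' A : Type u} [CommRing R] [CommRing B] [CommRing A'] [CommRing A]
  {π₁ : R →+* B} {π₂ : R →+* A'} {q : B →+* A} {p : A' →+* A}

/-- Morphisms out of `Spec R` are determined by their restrictions to `Spec A'` and `Spec B`. -/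
theorem IsFibSq.hom_ext (h : IsFibSq π₁ π₂ q p) {T : Scheme.{u}}
    (w w' : Spec (CommRingCat.of R) ⟶ T)
    (h2 : Spec.map (CommRingCat.ofHom π₂) ≫ w = Spec.map (CommRingCat.ofHom π₂) ≫ w')
    (h1 : Spec.map (CommRingCat.ofHom π₁) ≫ w = Spec.map (CommRingCat.ofHom π₁) ≫ w') :
    w = w' := by
  have hpt : ∀ P : PrimeSpectrum R, w.base P = w'.base P := by
    intro P
    haveI : P.asIdeal.IsPrime := P.isPrime
    rcases h.prime_cases P.asIdeal with ⟨𝔮, h𝔮, hq⟩ | ⟨𝔭', κ, h𝔭', hp', -, -⟩
    · have hP : P = PrimeSpectrum.comap π₁ (⟨𝔮, h𝔮⟩ : PrimeSpectrum B) :=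
        PrimeSpectrum.ext hq.symm
      rw [hP]
      exact congrArg (fun ψ => ψ.base (⟨𝔮, h𝔮⟩ : PrimeSpectrum B)) h1
    · have hP : P = PrimeSpectrum.comap π₂ (⟨𝔭', h𝔭'⟩ : PrimeSpectrum A') :=
        PrimeSpectrum.ext hp'.symm
      rw [hP]
      exact congrArg (fun ψ => ψ.base (⟨𝔭', h𝔭'⟩ : PrimeSpectrum A')) h2
  have hloc : ∀ P : PrimeSpectrum R, ∃ r : R,
      P ∈ (PrimeSpectrum.basicOpen r : Set (PrimeSpectrum R)) ∧
        specAwayι r ≫ w = specAwayι r ≫ w' := by
    intro P
    obtain ⟨_, ⟨W, hW, rfl⟩, hPW, -⟩ := T.isBasis_affineOpens.exists_subset_of_mem_open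
      (Set.mem_univ (w.base P)) isOpen_univ
    have hopen : IsOpen ({z : PrimeSpectrum R | w.base z ∈ W} ∩
        {z : PrimeSpectrum R | w'.base z ∈ W}) :=
      (w ⁻¹ᵁ W).isOpen.inter (w' ⁻¹ᵁ W).isOpen
    have hPW' : w'.base P ∈ W := by rw [← hpt P]; exact hPW
    obtain ⟨_, ⟨_, ⟨r, rfl⟩, rfl⟩, hPr, hsub⟩ :=
      PrimeSpectrum.isBasis_basic_opens.exists_subset_of_mem_open
        (show P ∈ {z : PrimeSpectrum R | w.base z ∈ W} ∩
          {z : PrimeSpectrum R | w'.base z ∈ W} from ⟨hPW, hPW'⟩) hopen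
    refine ⟨r, hPr, ?_⟩
    obtain ⟨γ, hγ⟩ := exists_factor_affine hW (specAwayι r ≫ w) (by
      rintro _ ⟨z, rfl⟩
      change w.base ((specAwayι r).base z) ∈ W
      exact (hsub (by rw [← range_specAwayι]; exact ⟨z, rfl⟩)).1)
    obtain ⟨γ', hγ'⟩ := exists_factor_affine hW (specAwayι r ≫ w') (by
      rintro _ ⟨z, rfl⟩
      change w'.base ((specAwayι r).base z) ∈ W
      exact (hsub (by rw [← range_specAwayι]; exact ⟨z, rfl⟩)).2)
    have k1 : ∀ w₀ : Spec (CommRingCat.of R) ⟶ T,
        Spec.map (CommRingCat.ofHom (Localization.awayMap π₁ r)) ≫ specAwayι r ≫ w₀ =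
          specAwayι (π₁ r) ≫ Spec.map (CommRingCat.ofHom π₁) ≫ w₀ := fun w₀ => by
      rw [← Category.assoc, ← specAwayι_comp_SpecMap, Category.assoc]
    have k2 : ∀ w₀ : Spec (CommRingCat.of R) ⟶ T,
        Spec.map (CommRingCat.ofHom (Localization.awayMap π₂ r)) ≫ specAwayι r ≫ w₀ =
          specAwayι (π₂ r) ≫ Spec.map (CommRingCat.ofHom π₂) ≫ w₀ := fun w₀ => by
      rw [← Category.assoc, ← specAwayι_comp_SpecMap, Category.assoc]
    have e1 : γ ≫ CommRingCat.ofHom (Localization.awayMap π₁ r) =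
        γ' ≫ CommRingCat.ofHom (Localization.awayMap π₁ r) := by
      apply Spec.map_injective
      rw [← cancel_mono hW.fromSpec, Spec.map_comp, Spec.map_comp, Category.assoc,
        Category.assoc, hγ, hγ', k1, k1, h1]
    have e2 : γ ≫ CommRingCat.ofHom (Localization.awayMap π₂ r) =
        γ' ≫ CommRingCat.ofHom (Localization.awayMap π₂ r) := by
      apply Spec.map_injective
      rw [← cancel_mono hW.fromSpec, Spec.map_comp, Spec.map_comp, Category.assoc,
        Category.assoc, hγ, hγ', k2, k2, h2]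
    have hγγ' : γ = γ' :=
      CommRingCat.hom_ext (RingHom.ext fun c => (h.loc r).inj _ _
        (congrArg (fun ψ => ψ.hom c) e1) (congrArg (fun ψ => ψ.hom c) e2))
    rw [← hγ, ← hγ', hγγ']
  choose r hPr hr using hloc
  have hcov : ∀ x : Spec (CommRingCat.of R), ∃ (P : PrimeSpectrum R) (y : _),
      (specAwayι (r P)).base y = x := fun x => by
    have hx : x ∈ Set.range (specAwayι (r x)).base := by
      rw [range_specAwayι]; exact hPr x
    exact ⟨x, hx⟩
  let 𝒰 : (Spec (CommRingCat.of R)).OpenCover :=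
    Scheme.Cover.mkOfCovers (PrimeSpectrum R)
      (fun P => Spec (CommRingCat.of (Localization.Away (r P))))
      (fun P => specAwayι (r P)) hcov (fun _ => inferInstance)
  exact 𝒰.hom_ext _ _ fun P => hr P

/-- Compatible morphisms out of `Spec A'` and `Spec B` glue to a morphism out of `Spec R`. -/
theorem IsFibSq.exists_desc (h : IsFibSq π₁ π₂ q p) {T : Scheme.{u}}
    (u : Spec (CommRingCat.of A') ⟶ T) (v : Spec (CommRingCat.of B) ⟶ T)
    (huv : Spec.map (CommRingCat.ofHom p) ≫ u = Spec.map (CommRingCat.ofHom q) ≫ v) :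
    ∃ w : Spec (CommRingCat.of R) ⟶ T,
      Spec.map (CommRingCat.ofHom π₂) ≫ w = u ∧ Spec.map (CommRingCat.ofHom π₁) ≫ w = v := by
  have hC : ∀ P : PrimeSpectrum R, ∃ (r : R) (W : T.Opens), IsAffineOpen W ∧
      P ∈ (PrimeSpectrum.basicOpen r : Set (PrimeSpectrum R)) ∧
      (∀ z : PrimeSpectrum A',
        z ∈ (PrimeSpectrum.basicOpen (π₂ r) : Set (PrimeSpectrum A')) → u.base z ∈ W) ∧
      (∀ z : PrimeSpectrum B,
        z ∈ (PrimeSpectrum.basicOpen (π₁ r) : Set (PrimeSpectrum B)) → v.base z ∈ W) := by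
    intro P
    haveI : P.asIdeal.IsPrime := P.isPrime
    rcases h.prime_cases P.asIdeal with ⟨𝔮, h𝔮, hq⟩ | ⟨𝔭', κ, h𝔭', hp', hκ1, hκP⟩
    · -- the point comes from `Spec B`
      obtain ⟨_, ⟨W, hW, rfl⟩, hQW, -⟩ := T.isBasis_affineOpens.exists_subset_of_mem_open
        (Set.mem_univ (v.base (⟨𝔮, h𝔮⟩ : PrimeSpectrum B))) isOpen_univ
      have hopenV : IsOpen {z : PrimeSpectrum B | v.base z ∈ W} := (v ⁻¹ᵁ W).isOpen
      obtain ⟨_, ⟨_, ⟨b, rfl⟩, rfl⟩, hQb, hbsub⟩ :=
        PrimeSpectrum.isBasis_basic_opens.exists_subset_of_mem_open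
          (show (⟨𝔮, h𝔮⟩ : PrimeSpectrum B) ∈ {z : PrimeSpectrum B | v.base z ∈ W} from hQW)
          hopenV
      obtain ⟨a'₀, ha'₀⟩ := h.surj (q b)
      have hopenU : IsOpen {z : PrimeSpectrum A' | u.base z ∈ W} := (u ⁻¹ᵁ W).isOpen
      have hZc : IsClosed ({z : PrimeSpectrum A' | u.base z ∈ W}ᶜ) := hopenU.isClosed_compl
      have hZJ : PrimeSpectrum.zeroLocus
          (PrimeSpectrum.vanishingIdeal ({z : PrimeSpectrum A' | u.base z ∈ W}ᶜ) : Set A') =
          {z : PrimeSpectrum A' | u.base z ∈ W}ᶜ := by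
        rw [PrimeSpectrum.zeroLocus_vanishingIdeal_eq_closure, hZc.closure_eq]
      set J := PrimeSpectrum.vanishingIdeal ({z : PrimeSpectrum A' | u.base z ∈ W}ᶜ) with hJ
      have hrad : a'₀ ∈ (RingHom.ker p ⊔ J).radical := by
        rw [← PrimeSpectrum.vanishingIdeal_zeroLocus_eq_radical, PrimeSpectrum.mem_vanishingIdeal]
        intro x hx
        rw [PrimeSpectrum.mem_zeroLocus] at hx
        have hx1 : RingHom.ker p ≤ x.asIdeal := fun y hy => hx (Ideal.mem_sup_left hy)
        have hx2 : J ≤ x.asIdeal := fun y hy => hx (Ideal.mem_sup_right hy)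
        by_contra hax
        have h𝔞 : (x.asIdeal.map p).IsPrime := Ideal.map_isPrime_of_surjective h.surj hx1
        have hcm : (x.asIdeal.map p).comap p = x.asIdeal := by
          rw [Ideal.comap_map_of_surjective p h.surj]
          exact sup_eq_left.2 hx1
        have hx𝔞 : x = PrimeSpectrum.comap p (⟨x.asIdeal.map p, h𝔞⟩ : PrimeSpectrum A) :=
          PrimeSpectrum.ext hcm.symm
        have hqb : q b ∉ x.asIdeal.map p := by
          intro hmem
          apply hax
          rw [← hcm, Ideal.mem_comap, ha'₀]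
          exact hmem
        have h1 : PrimeSpectrum.comap q (⟨x.asIdeal.map p, h𝔞⟩ : PrimeSpectrum A) ∈
            (PrimeSpectrum.basicOpen b : Set (PrimeSpectrum B)) := hqb
        have h2 : v.base (PrimeSpectrum.comap q (⟨x.asIdeal.map p, h𝔞⟩ : PrimeSpectrum A)) ∈ W :=
          hbsub h1
        have h3 : u.base (PrimeSpectrum.comap p (⟨x.asIdeal.map p, h𝔞⟩ : PrimeSpectrum A)) =
            v.base (PrimeSpectrum.comap q (⟨x.asIdeal.map p, h𝔞⟩ : PrimeSpectrum A)) :=
          congrArg (fun ψ => ψ.base (⟨x.asIdeal.map p, h𝔞⟩ : PrimeSpectrum A)) huv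
        have h4 : x ∈ {z : PrimeSpectrum A' | u.base z ∈ W}ᶜ := by
          rw [← hZJ, PrimeSpectrum.mem_zeroLocus]
          exact hx2
        apply h4
        change u.base x ∈ W
        rw [hx𝔞, h3]
        exact h2
      obtain ⟨n, hn⟩ := hrad
      have hn' : a'₀ ^ (n + 1) ∈ RingHom.ker p ⊔ J := by
        rw [pow_succ]
        exact Ideal.mul_mem_right _ _ hn
      obtain ⟨k, hk, j, hj, hkj⟩ := Submodule.mem_sup.1 hn'
      have hk0 : p k = 0 := hk
      obtain ⟨r, hr1, hr2⟩ := h.exists_of_eq (b ^ (n + 1)) j (by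
        rw [map_pow, ← ha'₀, ← map_pow, ← hkj, map_add, hk0, zero_add])
      refine ⟨r, W, hW, ?_, ?_, ?_⟩
      · change r ∉ P.asIdeal
        rw [← hq, Ideal.mem_comap, hr1]
        intro hmem
        exact hQb (h𝔮.mem_of_pow_mem (n + 1) hmem)
      · intro z hz
        rw [hr2] at hz
        by_contra hzW
        have hzZ : z ∈ {z : PrimeSpectrum A' | u.base z ∈ W}ᶜ := hzW
        rw [← hZJ, PrimeSpectrum.mem_zeroLocus] at hzZ
        exact hz (hzZ hj)
      · intro z hz
        rw [hr1] at hz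
        apply hbsub
        intro hb
        exact hz (Ideal.pow_mem_of_mem _ hb (n + 1) (Nat.succ_pos n))
    · -- the point comes from the open part of `Spec A'`
      obtain ⟨_, ⟨W, hW, rfl⟩, hQW, -⟩ := T.isBasis_affineOpens.exists_subset_of_mem_open
        (Set.mem_univ (u.base (⟨𝔭', h𝔭'⟩ : PrimeSpectrum A'))) isOpen_univ
      have hopenU : IsOpen {z : PrimeSpectrum A' | u.base z ∈ W} := (u ⁻¹ᵁ W).isOpen
      obtain ⟨_, ⟨_, ⟨a'₁, rfl⟩, rfl⟩, hQa, hasub⟩ :=
        PrimeSpectrum.isBasis_basic_opens.exists_subset_of_mem_open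
          (show (⟨𝔭', h𝔭'⟩ : PrimeSpectrum A') ∈ {z : PrimeSpectrum A' | u.base z ∈ W} from hQW)
          hopenU
      have hk0 : p (π₂ κ) = 0 := by rw [← h.comm κ, hκ1, map_zero]
      obtain ⟨r, hr1, hr2⟩ := h.exists_of_eq 0 (π₂ κ * a'₁) (by
        rw [map_zero, map_mul, hk0, zero_mul])
      have hκ𝔭' : π₂ κ ∉ 𝔭' := by
        intro hmem
        apply hκP
        rw [← hp']
        exact hmem
      refine ⟨r, W, hW, ?_, ?_, ?_⟩
      · change r ∉ P.asIdeal
        rw [← hp', Ideal.mem_comap, hr2]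
        intro hmem
        rcases h𝔭'.mem_or_mem hmem with h' | h'
        · exact hκ𝔭' h'
        · exact hQa h'
      · intro z hz
        rw [hr2] at hz
        apply hasub
        intro hmem
        exact hz (z.asIdeal.mul_mem_left _ hmem)
      · intro z hz
        rw [hr1] at hz
        exact absurd z.asIdeal.zero_mem hz
  choose r W hW hPr huW hvW using hC
  have hlocal : ∀ P : PrimeSpectrum R,
      ∃ wP : Spec (CommRingCat.of (Localization.Away (r P))) ⟶ T,
      Spec.map (CommRingCat.ofHom (Localization.awayMap π₂ (r P))) ≫ wP =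
        specAwayι (π₂ (r P)) ≫ u ∧
      Spec.map (CommRingCat.ofHom (Localization.awayMap π₁ (r P))) ≫ wP =
        specAwayι (π₁ (r P)) ≫ v := by
    intro P
    obtain ⟨μ, hμ⟩ := exists_factor_affine (hW P) (specAwayι (π₂ (r P)) ≫ u) (by
      rintro _ ⟨z, rfl⟩
      change u.base ((specAwayι (π₂ (r P))).base z) ∈ W P
      exact huW P _ (by rw [← range_specAwayι]; exact ⟨z, rfl⟩))
    obtain ⟨ν, hν⟩ := exists_factor_affine (hW P) (specAwayι (π₁ (r P)) ≫ v) (by
      rintro _ ⟨z, rfl⟩
      change v.base ((specAwayι (π₁ (r P))).base z) ∈ W P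
      exact hvW P _ (by rw [← range_specAwayι]; exact ⟨z, rfl⟩))
    have hsqp : Spec.map (CommRingCat.ofHom (pLoc h (r P))) ≫ specAwayι (π₂ (r P)) =
        specAwayι (q (π₁ (r P))) ≫ Spec.map (CommRingCat.ofHom p) := by
      have key : (pLoc h (r P)).comp (algebraMap A' (Localization.Away (π₂ (r P)))) =
          (algebraMap A (Localization.Away (q (π₁ (r P))))).comp p :=
        IsLocalization.Away.lift_comp _ _
      change Spec.map _ ≫ Spec.map _ = Spec.map _ ≫ Spec.map _
      rw [← Spec.map_comp, ← Spec.map_comp]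
      congr 1
      apply CommRingCat.hom_ext
      exact key
    have eL : Spec.map (CommRingCat.ofHom (pLoc h (r P))) ≫ (specAwayι (π₂ (r P)) ≫ u) =
        specAwayι (q (π₁ (r P))) ≫ Spec.map (CommRingCat.ofHom q) ≫ v := by
      rw [← Category.assoc, hsqp, Category.assoc, huv]
    have eR : Spec.map (CommRingCat.ofHom (Localization.awayMap q (π₁ (r P)))) ≫
        (specAwayι (π₁ (r P)) ≫ v) =
        specAwayι (q (π₁ (r P))) ≫ Spec.map (CommRingCat.ofHom q) ≫ v := by
      rw [← Category.assoc, ← specAwayι_comp_SpecMap, Category.assoc]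
    have hcompat : μ ≫ CommRingCat.ofHom (pLoc h (r P)) =
        ν ≫ CommRingCat.ofHom (Localization.awayMap q (π₁ (r P))) := by
      apply Spec.map_injective
      rw [← cancel_mono (hW P).fromSpec, Spec.map_comp, Spec.map_comp, Category.assoc,
        Category.assoc, hμ, hν, eL, eR]
    obtain ⟨γ, hγ1, hγ2⟩ := (h.loc (r P)).exists_lift ν.hom μ.hom
      (fun c => (congrArg (fun ψ => ψ.hom c) hcompat).symm)
    refine ⟨Spec.map (CommRingCat.ofHom γ) ≫ (hW P).fromSpec, ?_, ?_⟩
    · have e : CommRingCat.ofHom γ ≫ CommRingCat.ofHom (Localization.awayMap π₂ (r P)) = μ :=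
        CommRingCat.hom_ext (RingHom.ext hγ2)
      rw [← Category.assoc, ← Spec.map_comp, e, hμ]
    · have e : CommRingCat.ofHom γ ≫ CommRingCat.ofHom (Localization.awayMap π₁ (r P)) = ν :=
        CommRingCat.hom_ext (RingHom.ext hγ1)
      rw [← Category.assoc, ← Spec.map_comp, e, hν]
  choose wl hw2 hw1 using hlocal
  have hcompat : ∀ P P' : PrimeSpectrum R,
      specAwayRight (r P) (r P') ≫ wl P = specAwayLeft (r P) (r P') ≫ wl P' := by
    intro P P'
    apply (h.loc (r P * r P')).hom_ext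
    · obtain ⟨ρ, hρ1, hρ2⟩ := exists_transition π₂ (r P) (r P * r P')
        (specAwayRight (r P) (r P')) (specAwayRight_ι _ _)
      obtain ⟨ρ', hρ1', hρ2'⟩ := exists_transition π₂ (r P') (r P * r P')
        (specAwayLeft (r P) (r P')) (specAwayLeft_ι _ _)
      have e1 : Spec.map (CommRingCat.ofHom (Localization.awayMap π₂ (r P * r P'))) ≫
          specAwayRight (r P) (r P') ≫ wl P = specAwayι (π₂ (r P * r P')) ≫ u := by
        rw [← Category.assoc, hρ2, Category.assoc, hw2, ← Category.assoc, hρ1]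
      have e2 : Spec.map (CommRingCat.ofHom (Localization.awayMap π₂ (r P * r P'))) ≫
          specAwayLeft (r P) (r P') ≫ wl P' = specAwayι (π₂ (r P * r P')) ≫ u := by
        rw [← Category.assoc, hρ2', Category.assoc, hw2, ← Category.assoc, hρ1']
      exact e1.trans e2.symm
    · obtain ⟨ρ, hρ1, hρ2⟩ := exists_transition π₁ (r P) (r P * r P')
        (specAwayRight (r P) (r P')) (specAwayRight_ι _ _)
      obtain ⟨ρ', hρ1', hρ2'⟩ := exists_transition π₁ (r P') (r P * r P')
        (specAwayLeft (r P) (r P')) (specAwayLeft_ι _ _)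
      have e1 : Spec.map (CommRingCat.ofHom (Localization.awayMap π₁ (r P * r P'))) ≫
          specAwayRight (r P) (r P') ≫ wl P = specAwayι (π₁ (r P * r P')) ≫ v := by
        rw [← Category.assoc, hρ2, Category.assoc, hw1, ← Category.assoc, hρ1]
      have e2 : Spec.map (CommRingCat.ofHom (Localization.awayMap π₁ (r P * r P'))) ≫
          specAwayLeft (r P) (r P') ≫ wl P' = specAwayι (π₁ (r P * r P')) ≫ v := by
        rw [← Category.assoc, hρ2', Category.assoc, hw1, ← Category.assoc, hρ1']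
      exact e1.trans e2.symm
  have hcov : ∀ x : Spec (CommRingCat.of R), ∃ (P : PrimeSpectrum R) (y : _),
      (specAwayι (r P)).base y = x := fun x => by
    have hx : x ∈ Set.range (specAwayι (r x)).base := by
      rw [range_specAwayι]; exact hPr x
    exact ⟨x, hx⟩
  let 𝒰 : (Spec (CommRingCat.of R)).OpenCover :=
    Scheme.Cover.mkOfCovers (PrimeSpectrum R)
      (fun P => Spec (CommRingCat.of (Localization.Away (r P))))
      (fun P => specAwayι (r P)) hcov (fun _ => inferInstance)
  have hglue : ∀ P P' : PrimeSpectrum R,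
      pullback.fst (𝒰.f P) (𝒰.f P') ≫ wl P = pullback.snd (𝒰.f P) (𝒰.f P') ≫ wl P' := by
    intro P P'
    have sq : IsPullback (specAwayRight (r P) (r P')) (specAwayLeft (r P) (r P'))
        (𝒰.f P) (𝒰.f P') := isPullback_specAway (r P) (r P')
    have e1 : sq.isoPullback.hom ≫ pullback.fst (𝒰.f P) (𝒰.f P') =
        specAwayRight (r P) (r P') := sq.isoPullback_hom_fst
    have e2 : sq.isoPullback.hom ≫ pullback.snd (𝒰.f P) (𝒰.f P') =
        specAwayLeft (r P) (r P') := sq.isoPullback_hom_snd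
    have e3 : sq.isoPullback.hom ≫ (pullback.fst (𝒰.f P) (𝒰.f P') ≫ wl P) =
        sq.isoPullback.hom ≫ (pullback.snd (𝒰.f P) (𝒰.f P') ≫ wl P') := by
      rw [← Category.assoc, e1, ← Category.assoc, e2]
      exact hcompat P P'
    exact (cancel_epi _).1 e3
  have hL : ∀ P, specAwayι (r P) ≫ 𝒰.glueMorphisms wl hglue = wl P := fun P =>
    𝒰.ι_glueMorphisms wl hglue P
  refine ⟨𝒰.glueMorphisms wl hglue, ?_, ?_⟩
  · have hcov' : ∀ x : Spec (CommRingCat.of A'), ∃ (P : PrimeSpectrum R) (y : _),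
        (specAwayι (π₂ (r P))).base y = x := fun x => by
      have hx : x ∈ Set.range (specAwayι (π₂ (r (PrimeSpectrum.comap π₂ x)))).base := by
        rw [range_specAwayι]
        exact (comap_mem_basicOpen π₂ _ x).1 (hPr _)
      exact ⟨_, hx⟩
    let 𝒰' : (Spec (CommRingCat.of A')).OpenCover :=
      Scheme.Cover.mkOfCovers (PrimeSpectrum R)
        (fun P => Spec (CommRingCat.of (Localization.Away (π₂ (r P)))))
        (fun P => specAwayι (π₂ (r P))) hcov' (fun _ => inferInstance)
    refine 𝒰'.hom_ext _ _ fun P => ?_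
    change specAwayι (π₂ (r P)) ≫ Spec.map (CommRingCat.ofHom π₂) ≫ 𝒰.glueMorphisms wl hglue =
      specAwayι (π₂ (r P)) ≫ u
    rw [← Category.assoc, specAwayι_comp_SpecMap, Category.assoc, hL, hw2]
  · have hcov' : ∀ x : Spec (CommRingCat.of B), ∃ (P : PrimeSpectrum R) (y : _),
        (specAwayι (π₁ (r P))).base y = x := fun x => by
      have hx : x ∈ Set.range (specAwayι (π₁ (r (PrimeSpectrum.comap π₁ x)))).base := by
        rw [range_specAwayι]
        exact (comap_mem_basicOpen π₁ _ x).1 (hPr _)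
      exact ⟨_, hx⟩
    let 𝒰' : (Spec (CommRingCat.of B)).OpenCover :=
      Scheme.Cover.mkOfCovers (PrimeSpectrum R)
        (fun P => Spec (CommRingCat.of (Localization.Away (π₁ (r P)))))
        (fun P => specAwayι (π₁ (r P))) hcov' (fun _ => inferInstance)
    refine 𝒰'.hom_ext _ _ fun P => ?_
    change specAwayι (π₁ (r P)) ≫ Spec.map (CommRingCat.ofHom π₁) ≫ 𝒰.glueMorphisms wl hglue =
      specAwayι (π₁ (r P)) ≫ v
    rw [← Category.assoc, specAwayι_comp_SpecMap, Category.assoc, hL, hw1]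

/-- `Spec` of a fibre product of rings along a surjection is a pushout of schemes. -/
theorem IsFibSq.isPushout (h : IsFibSq π₁ π₂ q p) :
    IsPushout (Spec.map (CommRingCat.ofHom p)) (Spec.map (CommRingCat.ofHom q))
      (Spec.map (CommRingCat.ofHom π₂)) (Spec.map (CommRingCat.ofHom π₁)) := by
  have w : Spec.map (CommRingCat.ofHom p) ≫ Spec.map (CommRingCat.ofHom π₂) =
      Spec.map (CommRingCat.ofHom q) ≫ Spec.map (CommRingCat.ofHom π₁) := by
    rw [← Spec.map_comp, ← Spec.map_comp]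
    congr 1
    apply CommRingCat.hom_ext
    exact RingHom.ext fun r => (h.comm r).symm
  exact IsPushout.of_isColimit' ⟨w⟩ (PushoutCocone.IsColimit.mk w
    (fun s => (h.exists_desc s.inl s.inr s.condition).choose)
    (fun s => (h.exists_desc s.inl s.inr s.condition).choose_spec.1)
    (fun s => (h.exists_desc s.inl s.inr s.condition).choose_spec.2)
    (fun s m h1 h2 => h.hom_ext _ _
      (h1.trans (h.exists_desc s.inl s.inr s.condition).choose_spec.1.symm)
      (h2.trans (h.exists_desc s.inl s.inr s.condition).choose_spec.2.symm)))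

end Groth.Agent.Lib.Helper6.FibSquare
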