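import Mathlib
import Groth.Prelude.Def_AffAlg

/-!
# The direct image algebra of a scheme over a base: components of `A(h)` (helper6)
-/

set_option autoImplicit false
universe u
open CategoryTheory CategoryTheory.Limits AlgebraicGeometry Opposite

namespace Groth.Agent.Lib.Helper6

variable {X Y S : Scheme.{u}} (f : X ⟶ S) (g : Y ⟶ S)

/-- The component of `A(h)` over an open `U` of the base is `h.app (f ⁻¹ U)` up to an
isomorphism of the target. -/
lemma algHom_app_eq (h : Y ⟶ X) (w : h ≫ f = g) (U : S.Opens) :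
    ∃ (e : Γ(Y, h ⁻¹ᵁ f ⁻¹ᵁ U) ≅ Γ(Y, g ⁻¹ᵁ U)),
      (AffAlg.algHom f g h w).app (op U) = h.app (f ⁻¹ᵁ U) ≫ e.hom := by
  subst w
  refine ⟨Iso.refl _, ?_⟩
  simp only [AffAlg.algHom, Iso.refl_hom]
  rfl

lemma iSup_preimage_affineOpens_eq_top :
    ⨆ U : S.affineOpens, f ⁻¹ᵁ U.1 = ⊤ := by
  rw [← Scheme.Hom.preimage_iSup, iSup_affineOpens_eq_top]
  rfl

lemma app_surjective_congr (h : Y ⟶ X) {W W' : X.Opens} (e : W = W')
    (hs : Function.Surjective (h.app W).hom) : Function.Surjective (h.app W').hom := by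
  subst e; exact hs

lemma app_isIso_congr (h : Y ⟶ X) {W W' : X.Opens} (e : W = W')
    (hs : IsIso (h.app W)) : IsIso (h.app W') := by
  subst e; exact hs

lemma isIso_presheaf_map_eqToHom {Z : Scheme.{u}} {U V : Z.Opens} (e : U = V) :
    IsIso (Z.presheaf.map (eqToHom e).op) := by
  subst e
  simp only [eqToHom_refl, op_id, CategoryTheory.Functor.map_id]
  infer_instance

lemma surjective_comp_of_isIso {R₁ R₂ R₃ : CommRingCat.{u}} (a : R₁ ⟶ R₂) (b : R₂ ⟶ R₃) [IsIso b]
    (ha : Function.Surjective a.hom) : Function.Surjective (a ≫ b).hom := by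
  rw [CommRingCat.hom_comp, RingHom.coe_comp]
  exact Function.Surjective.comp (ConcreteCategory.bijective_of_isIso b).2 ha

lemma surjective_of_comp_iso {R₁ R₂ R₃ : CommRingCat.{u}} (a : R₁ ⟶ R₂) (b : R₂ ⟶ R₃) [IsIso b]
    (hab : Function.Surjective (a ≫ b).hom) : Function.Surjective a.hom := by
  rw [CommRingCat.hom_comp, RingHom.coe_comp] at hab
  exact Function.Surjective.of_comp_left hab (ConcreteCategory.bijective_of_isIso b).1

end Groth.Agent.Lib.Helper6
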