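import Mathlib

/-!
# Dehomogenisation at an element of degree one, for gradings by additive subgroups (helper6)

Same as `AwayDeg1` but for `GradedRing` over an arbitrary `SetLike` carrier.
-/

set_option autoImplicit false
open HomogeneousLocalization

namespace Groth.Agent.Lib.Helper6.AwayDeg1G

variable {A σ : Type*} [CommRing A] [SetLike σ A] [AddSubgroupClass σ A] (𝒜 : ℕ → σ)
  [GradedRing 𝒜]

/-- Ring homs out of a graded ring from multiplicative families on the graded pieces. -/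
theorem exists_ringHom_of_graded {S : Type*} [CommRing S] (μ : ∀ n, 𝒜 n →+ S)
    (hone : μ 0 (GradedMonoid.GOne.one (A := fun i => 𝒜 i)) = 1)
    (hmul : ∀ {i j : ℕ} (ai : 𝒜 i) (aj : 𝒜 j),
      μ (i + j) (GradedMonoid.GMul.mul (A := fun i => 𝒜 i) ai aj) = μ i ai * μ j aj) :
    ∃ Ψ : A →+* S, ∀ (n : ℕ) (a : A) (ha : a ∈ 𝒜 n), Ψ a = μ n ⟨a, ha⟩ := by
  refine ⟨(DirectSum.toSemiring μ hone hmul).comp (DirectSum.decomposeRingEquiv 𝒜).toRingHom, ?_⟩
  intro n a ha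
  show DirectSum.toSemiring μ hone hmul (DirectSum.decompose 𝒜 a) = _
  rw [DirectSum.decompose_of_mem 𝒜 ha, DirectSum.toSemiring_of]

variable {f : A} (hf : f ∈ 𝒜 1)

/-- `a ↦ a / f ^ n` on the degree `n` piece. -/
noncomputable def mkHom (n : ℕ) : 𝒜 n →+ Away 𝒜 f where
  toFun a := Away.mk 𝒜 hf n a.1 (by simp only [smul_eq_mul, mul_one]; exact a.2)
  map_zero' := by
    ext
    rw [val_zero, Away.val_mk]
    exact Localization.mk_zero _
  map_add' a b := by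
    ext
    rw [val_add, Away.val_mk, Away.val_mk, Away.val_mk]
    exact (Localization.add_mk_self _ _ _).symm

lemma val_mkHom (n : ℕ) (a : 𝒜 n) :
    (mkHom 𝒜 hf n a).val = Localization.mk a.1 ⟨f ^ n, pow_mem (Submonoid.mem_powers f) n⟩ := rfl

lemma mkHom_eq (n : ℕ) (a : A) (ha : a ∈ 𝒜 (n • 1)) (ha' : a ∈ 𝒜 n) :
    mkHom 𝒜 hf n ⟨a, ha'⟩ = Away.mk 𝒜 hf n a ha := rfl

lemma mkHom_one : mkHom 𝒜 hf 0 (GradedMonoid.GOne.one (A := fun i => 𝒜 i)) = 1 := by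
  ext
  rw [val_one, val_mkHom]
  have h1 : (⟨f ^ 0, pow_mem (Submonoid.mem_powers f) 0⟩ : Submonoid.powers f) = 1 :=
    Subtype.ext (pow_zero f)
  rw [h1]
  exact Localization.mk_one

lemma mkHom_mul {i j : ℕ} (a : 𝒜 i) (b : 𝒜 j) :
    mkHom 𝒜 hf (i + j) (GradedMonoid.GMul.mul (A := fun i => 𝒜 i) a b) =
      mkHom 𝒜 hf i a * mkHom 𝒜 hf j b := by
  ext
  rw [val_mul, val_mkHom, val_mkHom, val_mkHom, Localization.mk_mul]
  congr 1
  exact Subtype.ext (pow_add f i j)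

lemma mkHom_self : mkHom 𝒜 hf 1 ⟨f, hf⟩ = 1 := by
  ext
  rw [val_one, val_mkHom]
  have h1 : (⟨f ^ 1, pow_mem (Submonoid.mem_powers f) 1⟩ : Submonoid.powers f) =
      ⟨f, Submonoid.mem_powers f⟩ := Subtype.ext (pow_one f)
  rw [h1]
  exact Localization.mk_self (⟨f, Submonoid.mem_powers f⟩ : Submonoid.powers f)

/-- Dehomogenisation with respect to `f`. -/
theorem exists_dehom : ∃ D : A →+* Away 𝒜 f, ∀ (n : ℕ) (a : A) (ha : a ∈ 𝒜 n),
    D a = mkHom 𝒜 hf n ⟨a, ha⟩ :=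
  exists_ringHom_of_graded 𝒜 (mkHom 𝒜 hf) (mkHom_one 𝒜 hf) (mkHom_mul 𝒜 hf)

end Groth.Agent.Lib.Helper6.AwayDeg1G
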