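import Mathlib

/-!
# Fibres and local properties of a morphism through affine charts (helper6)

If `p : E ⟶ X` is, over an affine chart `Spec A' ⟶ X`, the spectrum of a monoid algebra
`A' ⟶ A'[M]`, then its fibres over points of the chart are spectra of `κ(x)[M]`.
-/

set_option autoImplicit false
universe u
open CategoryTheory CategoryTheory.Limits AlgebraicGeometry TensorProduct

namespace Groth.Agent.Lib.Helper6.FibreChart

/-- A property local on the target holds if it holds on charts forming pullback squares. -/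
theorem of_forall_exists_isPullback (P : MorphismProperty Scheme.{u}) [IsZariskiLocalAtTarget P]
    {E X : Scheme.{u}} (p : E ⟶ X)
    (H : ∀ x : X, ∃ (U V : Scheme.{u}) (ι : U ⟶ X) (_ : IsOpenImmersion ι) (j : V ⟶ E)
      (q : V ⟶ U), x ∈ ι.opensRange ∧ IsPullback j q p ι ∧ P q) : P p := by
  refine IsZariskiLocalAtTarget.of_forall_exists_morphismRestrict fun x => ?_
  obtain ⟨U, V, ι, hι, j, q, hx, sq, hq⟩ := H x
  refine ⟨ι.opensRange, hx, ?_⟩
  rw [P.arrow_mk_iso_iff (morphismRestrictOpensRange p ι)]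
  have h3 : P (sq.isoPullback.hom ≫ pullback.snd p ι) := by
    rw [sq.isoPullback_hom_snd]
    exact hq
  exact (P.cancel_left_of_respectsIso sq.isoPullback.hom _).1 h3

section

variable {E X : Scheme.{u}} (p : E ⟶ X) {A' B' K : Type u} [CommRing A'] [CommRing B']
  [CommRing K] (ρ : A' →+* B') (τ : A' →+* K)
  (ι : Spec (CommRingCat.of A') ⟶ X) (j : Spec (CommRingCat.of B') ⟶ E)

theorem exists_fibre_iso' (sq : IsPullback j (Spec.map (CommRingCat.ofHom ρ)) p ι)
    (M : Type) [AddCommMonoid M]
    (α : AddMonoidAlgebra A' M ≃+* B') (hα : ∀ a, α (AddMonoidAlgebra.single 0 a) = ρ a) :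
    ∃ e : pullback p (Spec.map (CommRingCat.ofHom τ) ≫ ι) ≅
        Spec (CommRingCat.of (AddMonoidAlgebra K M)),
      e.hom ≫ Spec.map (CommRingCat.ofHom (algebraMap K (AddMonoidAlgebra K M))) =
        pullback.snd p (Spec.map (CommRingCat.ofHom τ) ≫ ι) := by
  letI := ρ.toAlgebra
  letI := τ.toAlgebra
  have big : IsPullback
      (pullback.fst (Spec.map (CommRingCat.ofHom (algebraMap A' B')))
        (Spec.map (CommRingCat.ofHom (algebraMap A' K))) ≫ j)
      (pullback.snd (Spec.map (CommRingCat.ofHom (algebraMap A' B')))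
        (Spec.map (CommRingCat.ofHom (algebraMap A' K)))) p
      (Spec.map (CommRingCat.ofHom τ) ≫ ι) :=
    (IsPullback.of_hasPullback _ _).paste_horiz sq
  let αₐ : AddMonoidAlgebra A' M ≃ₐ[A'] B' := AlgEquiv.ofRingEquiv (f := α) (fun a => by
    rw [AddMonoidAlgebra.coe_algebraMap]
    exact hα a)
  let θ : AddMonoidAlgebra K M ≃+* B' ⊗[A'] K :=
    ((AddMonoidAlgebra.scalarTensorEquiv A' K (M := M)).symm.toRingEquiv.trans
      (Algebra.TensorProduct.congr (AlgEquiv.refl : K ≃ₐ[K] K) αₐ).toRingEquiv).trans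
      (Algebra.TensorProduct.comm A' K B').toRingEquiv
  have hθ : ∀ c : K, θ (algebraMap K _ c) = (1 : B') ⊗ₜ[A'] c := by
    intro c
    show Algebra.TensorProduct.comm A' K B'
      ((Algebra.TensorProduct.congr (AlgEquiv.refl : K ≃ₐ[K] K) αₐ)
        ((AddMonoidAlgebra.scalarTensorEquiv A' K (M := M)).symm (algebraMap K _ c))) = _
    rw [AlgEquiv.commutes, AlgEquiv.commutes, Algebra.TensorProduct.algebraMap_apply,
      Algebra.TensorProduct.comm_tmul]
    rfl
  let eθ : Spec (CommRingCat.of (B' ⊗[A'] K)) ≅ Spec (CommRingCat.of (AddMonoidAlgebra K M)) :=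
    Scheme.Spec.mapIso θ.toCommRingCatIso.op
  have h1 : eθ.hom ≫ Spec.map (CommRingCat.ofHom (algebraMap K (AddMonoidAlgebra K M))) =
      Spec.map (CommRingCat.ofHom (RingHomClass.toRingHom
        (Algebra.TensorProduct.includeRight : K →ₐ[A'] B' ⊗[A'] K))) := by
    show Spec.map (CommRingCat.ofHom θ.toRingHom) ≫ Spec.map _ = _
    rw [← Spec.map_comp]
    congr 1
    ext c
    exact hθ c
  have h2 := pullbackSpecIso_hom_snd A' B' K
  have h3 : big.isoPullback.inv ≫ pullback.snd _ _ = pullback.snd _ _ :=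
    big.isoPullback_inv_snd
  refine ⟨big.isoPullback.symm ≪≫ pullbackSpecIso A' B' K ≪≫ eθ, ?_⟩
  rw [Iso.trans_hom, Iso.trans_hom, Iso.symm_hom, Category.assoc, Category.assoc, h1, h2, h3]

end

theorem exists_fibre_iso {E X : Scheme.{u}} (p : E ⟶ X) (x : X)
    {A' B' : Type u} [CommRing A'] [CommRing B'] (ρ : A' →+* B')
    (ι : Spec (CommRingCat.of A') ⟶ X) [IsOpenImmersion ι] (j : Spec (CommRingCat.of B') ⟶ E)
    (sq : IsPullback j (Spec.map (CommRingCat.ofHom ρ)) p ι) (hx : x ∈ ι.opensRange)
    (M : Type) [AddCommMonoid M]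
    (α : AddMonoidAlgebra A' M ≃+* B') (hα : ∀ a, α (AddMonoidAlgebra.single 0 a) = ρ a) :
    ∃ e : pullback p (X.fromSpecResidueField x) ≅
        Spec (CommRingCat.of (AddMonoidAlgebra (X.residueField x) M)),
      e.hom ≫ Spec.map (CommRingCat.ofHom (algebraMap (X.residueField x)
        (AddMonoidAlgebra (X.residueField x) M))) =
        pullback.snd p (X.fromSpecResidueField x) := by
  have key : ∀ s : Spec (X.residueField x) ⟶ X, Set.range s ⊆ Set.range ι →
      ∃ e : pullback p s ≅ Spec (CommRingCat.of (AddMonoidAlgebra (X.residueField x) M)),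
        e.hom ≫ Spec.map (CommRingCat.ofHom (algebraMap (X.residueField x)
          (AddMonoidAlgebra (X.residueField x) M))) = pullback.snd p s := by
    intro s hs
    obtain ⟨τ, hτ⟩ := Spec.map_surjective (IsOpenImmersion.lift ι s hs)
    have hτι : Spec.map τ ≫ ι = s := by
      rw [hτ]
      exact IsOpenImmersion.lift_fac _ _ _
    subst hτι
    exact exists_fibre_iso' p ρ τ.hom ι j sq M α hα
  refine key _ ?_
  rw [Scheme.range_fromSpecResidueField]
  rintro _ rfl
  exact hx

/-- Finite type of a ring map which is, up to isomorphism, a monoid algebra on a finitely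
generated monoid. -/
theorem finiteType_of_addMonoidAlgebra {A' B' : Type u} [CommRing A'] [CommRing B']
    (ρ : A' →+* B') (M : Type) [AddCommMonoid M] [AddMonoid.FG M]
    (α : AddMonoidAlgebra A' M ≃+* B') (hα : ∀ a, α (AddMonoidAlgebra.single 0 a) = ρ a) :
    ρ.FiniteType := by
  have h1 : (algebraMap A' (AddMonoidAlgebra A' M)).FiniteType :=
    RingHom.finiteType_algebraMap.2 inferInstance
  have h2 : (α.toRingHom.comp (algebraMap A' (AddMonoidAlgebra A' M))).FiniteType :=
    RingHom.FiniteType.comp (RingHom.FiniteType.of_surjective α.toRingHom α.surjective) h1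
  have h3 : α.toRingHom.comp (algebraMap A' (AddMonoidAlgebra A' M)) = ρ := by
    ext a
    show α (algebraMap A' (AddMonoidAlgebra A' M) a) = ρ a
    rw [AddMonoidAlgebra.coe_algebraMap]
    exact hα a
  rw [← h3]
  exact h2

end Groth.Agent.Lib.Helper6.FibreChart
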