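import Mathlib

/-!
# Localisation of a graded ring at an element of degree one (helper6)

For `f` homogeneous of degree one in a graded ring `A`: the dehomogenisation `A ⟶ A_(f)`,
and the isomorphism `A_(f)[T, T⁻¹] ≃ A_f`.
-/

set_option autoImplicit false
universe u
open HomogeneousLocalization

namespace Groth.Agent.Lib.Helper6.AwayDeg1

variable {R A : Type u} [CommRing R] [CommRing A] [Algebra R A] (𝒜 : ℕ → Submodule R A)
  [GradedAlgebra 𝒜]

/-- Ring homs out of a graded ring from multiplicative families on the graded pieces. -/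
theorem exists_ringHom_of_graded {S : Type*} [CommRing S] (μ : ∀ n, 𝒜 n →+ S)
    (hone : μ 0 (GradedMonoid.GOne.one (A := fun i => 𝒜 i)) = 1)
    (hmul : ∀ {i j : ℕ} (ai : 𝒜 i) (aj : 𝒜 j),
      μ (i + j) (GradedMonoid.GMul.mul (A := fun i => 𝒜 i) ai aj) = μ i ai * μ j aj) :
    ∃ Ψ : A →+* S, ∀ (n : ℕ) (a : A) (ha : a ∈ 𝒜 n), Ψ a = μ n ⟨a, ha⟩ := by
  refine ⟨(DirectSum.toSemiring μ hone hmul).comp (DirectSum.decomposeRingEquiv 𝒜).toRingHom, ?_⟩
  intro n a ha
  show DirectSum.toSemiring μ hone hmul (DirectSum.decompose 𝒜 a) = _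
  rw [DirectSum.decompose_of_mem 𝒜 ha, DirectSum.toSemiring_of]

/-- Two ring homs out of a graded ring agreeing on homogeneous elements are equal. -/
theorem ringHom_ext_of_homogeneous {S : Type*} [Semiring S] {F G : A →+* S}
    (h : ∀ (n : ℕ) (a : A), a ∈ 𝒜 n → F a = G a) : F = G := by
  ext a
  induction a using DirectSum.Decomposition.inductionOn 𝒜 with
  | zero => rw [map_zero, map_zero]
  | homogeneous m => exact h _ _ m.2
  | add m m' h1 h2 => rw [map_add, map_add, h1, h2]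

variable {f : A} (hf : f ∈ 𝒜 1)

/-- `a ↦ a / f ^ n` on the degree `n` piece. -/
noncomputable def mkHom (n : ℕ) : 𝒜 n →+ Away 𝒜 f where
  toFun a := Away.mk 𝒜 hf n a.1 (by simp only [smul_eq_mul, mul_one]; exact a.2)
  map_zero' := by
    ext
    rw [val_zero, Away.val_mk]
    exact Localization.mk_zero _
  map_add' a b := by
    ext
    rw [val_add, Away.val_mk, Away.val_mk, Away.val_mk]
    exact (Localization.add_mk_self _ _ _).symm

lemma val_mkHom (n : ℕ) (a : 𝒜 n) :
    (mkHom 𝒜 hf n a).val = Localization.mk a.1 ⟨f ^ n, pow_mem (Submonoid.mem_powers f) n⟩ := rfl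

lemma mkHom_eq (n : ℕ) (a : A) (ha : a ∈ 𝒜 (n • 1)) (ha' : a ∈ 𝒜 n) :
    mkHom 𝒜 hf n ⟨a, ha'⟩ = Away.mk 𝒜 hf n a ha := rfl

lemma mkHom_one : mkHom 𝒜 hf 0 (GradedMonoid.GOne.one (A := fun i => 𝒜 i)) = 1 := by
  ext
  rw [val_one, val_mkHom]
  have h1 : (⟨f ^ 0, pow_mem (Submonoid.mem_powers f) 0⟩ : Submonoid.powers f) = 1 := Subtype.ext (pow_zero f)
  rw [h1]
  exact Localization.mk_one

lemma mkHom_mul {i j : ℕ} (a : 𝒜 i) (b : 𝒜 j) :
    mkHom 𝒜 hf (i + j) (GradedMonoid.GMul.mul (A := fun i => 𝒜 i) a b) = mkHom 𝒜 hf i a * mkHom 𝒜 hf j b := by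
  ext
  rw [val_mul, val_mkHom, val_mkHom, val_mkHom, Localization.mk_mul]
  congr 1
  exact Subtype.ext (pow_add f i j)

lemma mkHom_self : mkHom 𝒜 hf 1 ⟨f, hf⟩ = 1 := by
  ext
  rw [val_one, val_mkHom]
  have h1 : (⟨f ^ 1, pow_mem (Submonoid.mem_powers f) 1⟩ : Submonoid.powers f) = ⟨f, Submonoid.mem_powers f⟩ :=
    Subtype.ext (pow_one f)
  rw [h1]
  exact Localization.mk_self (⟨f, Submonoid.mem_powers f⟩ : Submonoid.powers f)

/-- Dehomogenisation with respect to `f`. -/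
theorem exists_dehom : ∃ D : A →+* Away 𝒜 f, ∀ (n : ℕ) (a : A) (ha : a ∈ 𝒜 n),
    D a = mkHom 𝒜 hf n ⟨a, ha⟩ :=
  exists_ringHom_of_graded 𝒜 (mkHom 𝒜 hf) (mkHom_one 𝒜 hf) (mkHom_mul 𝒜 hf)

include hf in
/-- `A_(f)[T, T⁻¹] ≃ A_f` for `f` of degree one. -/
theorem exists_laurent_equiv :
    ∃ α : AddMonoidAlgebra (Away 𝒜 f) ℤ ≃+* Localization.Away f,
      ∀ c, α (AddMonoidAlgebra.single 0 c) = algebraMap (Away 𝒜 f) (Localization.Away f) c := by
  classical
  obtain ⟨ψ, hψ⟩ := exists_ringHom_of_graded 𝒜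
    (fun n => (AddMonoidAlgebra.singleAddHom ((n : ℕ) : ℤ)).comp (mkHom 𝒜 hf n))
    (by
      show AddMonoidAlgebra.single ((0 : ℕ) : ℤ) (mkHom 𝒜 hf 0 (GradedMonoid.GOne.one (A := fun i => 𝒜 i))) = 1
      rw [mkHom_one, Nat.cast_zero]
      rfl)
    (by
      intro i j a b
      show AddMonoidAlgebra.single ((i + j : ℕ) : ℤ) (mkHom 𝒜 hf (i + j) (GradedMonoid.GMul.mul (A := fun i => 𝒜 i) a b))
        = AddMonoidAlgebra.single (i : ℤ) (mkHom 𝒜 hf i a) *
          AddMonoidAlgebra.single (j : ℤ) (mkHom 𝒜 hf j b)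
      rw [AddMonoidAlgebra.single_mul_single, mkHom_mul, Nat.cast_add])
  have hψ' : ∀ (n : ℕ) (a : A) (ha : a ∈ 𝒜 n),
      ψ a = AddMonoidAlgebra.single (n : ℤ) (mkHom 𝒜 hf n ⟨a, ha⟩) := hψ
  have hψf : ψ f = AddMonoidAlgebra.single (1 : ℤ) 1 := by
    rw [hψ' 1 f hf, mkHom_self, Nat.cast_one]
  have hψfn : ∀ n : ℕ, ψ (f ^ n) = AddMonoidAlgebra.single (n : ℤ) 1 := by
    intro n
    rw [map_pow, hψf, AddMonoidAlgebra.single_pow, one_pow, nsmul_eq_mul, mul_one]
  have hunitn : ∀ n : ℕ, IsUnit (AddMonoidAlgebra.single (n : ℤ) (1 : Away 𝒜 f)) := by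
    intro n
    refine IsUnit.of_mul_eq_one (AddMonoidAlgebra.single (-(n : ℤ)) 1) ?_
    rw [AddMonoidAlgebra.single_mul_single, add_neg_cancel, one_mul]
    rfl
  have hunit : IsUnit (ψ f) := by
    rw [hψf]
    exact_mod_cast hunitn 1
  let β : Localization.Away f →+* AddMonoidAlgebra (Away 𝒜 f) ℤ :=
    IsLocalization.Away.lift f hunit
  have hβ : ∀ a : A, β (algebraMap A (Localization.Away f) a) = ψ a :=
    fun a => IsLocalization.Away.lift_eq f hunit a
  let fU : (Localization.Away f)ˣ :=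
    (IsLocalization.Away.algebraMap_isUnit (S := Localization.Away f) f).unit
  have hfU : (fU : Localization.Away f) = algebraMap A (Localization.Away f) f :=
    IsUnit.unit_spec _
  let αhom : AddMonoidAlgebra (Away 𝒜 f) ℤ →+* Localization.Away f :=
    AddMonoidAlgebra.liftNCRingHom (algebraMap (Away 𝒜 f) (Localization.Away f))
      ((Units.coeHom _).comp (zpowersHom _ fU)) (fun _ _ => Commute.all _ _)
  have hα : ∀ (n : ℤ) (c : Away 𝒜 f), αhom (AddMonoidAlgebra.single n c) =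
      c.val * ((fU ^ n : (Localization.Away f)ˣ) : Localization.Away f) := by
    intro n c
    rw [AddMonoidAlgebra.liftNCRingHom_single]
    rfl
  have hmkspec : ∀ (n : ℕ) (a : A),
      Localization.mk a (⟨f ^ n, pow_mem (Submonoid.mem_powers f) n⟩ : Submonoid.powers f) *
        algebraMap A (Localization.Away f) (f ^ n) = algebraMap A (Localization.Away f) a := by
    intro n a
    rw [Localization.mk_eq_mk']
    exact IsLocalization.mk'_spec _ a ⟨f ^ n, pow_mem (Submonoid.mem_powers f) n⟩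
  have h₁ : αhom.comp β = RingHom.id _ := by
    refine IsLocalization.ringHom_ext (Submonoid.powers f) ?_
    refine ringHom_ext_of_homogeneous 𝒜 fun n a ha => ?_
    show αhom (β (algebraMap A _ a)) = algebraMap A _ a
    rw [hβ, hψ' n a ha, hα, zpow_natCast, Units.val_pow_eq_pow_val, hfU, ← map_pow, val_mkHom]
    exact hmkspec n a
  have h₂ : β.comp αhom = RingHom.id _ := by
    refine AddMonoidAlgebra.ringHom_ext' ?_ ?_
    · refine RingHom.ext fun c => ?_
      show β (αhom (AddMonoidAlgebra.single 0 c)) = AddMonoidAlgebra.single 0 c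
      rw [hα, zpow_zero, Units.val_one, mul_one]
      obtain ⟨n, a, ha, rfl⟩ := Away.mk_surjective 𝒜 hf c
      have ha' : a ∈ 𝒜 n := by simpa using ha
      have h3 : β (Localization.mk a (⟨f ^ n, pow_mem (Submonoid.mem_powers f) n⟩ : Submonoid.powers f)) *
          AddMonoidAlgebra.single (n : ℤ) 1 =
          AddMonoidAlgebra.single 0 (Away.mk 𝒜 hf n a ha) * AddMonoidAlgebra.single (n : ℤ) 1 := by
        calc β (Localization.mk a (⟨f ^ n, pow_mem (Submonoid.mem_powers f) n⟩ : Submonoid.powers f)) *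
              AddMonoidAlgebra.single (n : ℤ) 1
            = β (Localization.mk a (⟨f ^ n, pow_mem (Submonoid.mem_powers f) n⟩ : Submonoid.powers f)) *
              β (algebraMap A (Localization.Away f) (f ^ n)) := by rw [hβ, hψfn]
          _ = β (algebraMap A (Localization.Away f) a) := by rw [← map_mul, hmkspec]
          _ = AddMonoidAlgebra.single (n : ℤ) (mkHom 𝒜 hf n ⟨a, ha'⟩) := by rw [hβ, hψ' n a ha']
          _ = AddMonoidAlgebra.single 0 (Away.mk 𝒜 hf n a ha) *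
              AddMonoidAlgebra.single (n : ℤ) 1 := by
            rw [AddMonoidAlgebra.single_mul_single, zero_add, mul_one]
            rfl
      exact (hunitn n).mul_left_inj.1 h3
    · refine MonoidHom.ext_mint ?_
      show β (αhom (AddMonoidAlgebra.of _ _ (Multiplicative.ofAdd 1))) =
        AddMonoidAlgebra.of _ _ (Multiplicative.ofAdd 1)
      rw [AddMonoidAlgebra.of_apply]
      show β (αhom (AddMonoidAlgebra.single (1 : ℤ) 1)) = AddMonoidAlgebra.single (1 : ℤ) 1
      rw [hα, zpow_one, hfU, val_one, one_mul, hβ, hψf]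
  refine ⟨RingEquiv.ofRingHom αhom β h₁ h₂, fun c => ?_⟩
  show αhom (AddMonoidAlgebra.single 0 c) = _
  rw [hα, zpow_zero, Units.val_one, mul_one]
  rfl

end Groth.Agent.Lib.Helper6.AwayDeg1
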