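import Mathlib
import Groth.Agent.Lib.Helper6.AwayDeg1

/-!
# The degree-zero localisation of `A[z]` at an element of degree one of `A` (helper6)

For `B = A[z]` graded with `z` of degree one and `f ∈ A` of degree one: `A_(f)[T] ≃ B_(f)`.
-/

set_option autoImplicit false
universe u
open HomogeneousLocalization CategoryTheory AlgebraicGeometry

namespace Groth.Agent.Lib.Helper6.PConeAway

open Groth.Agent.Lib.Helper6.AwayDeg1

section alg

variable {R A B : Type u} [CommRing R] [CommRing A] [Algebra R A] (𝒜 : ℕ → Submodule R A)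
  [GradedAlgebra 𝒜] [CommRing B] [Algebra R B] (ℬ : ℕ → Submodule R B) [GradedAlgebra ℬ]
  [Algebra A B] (φ : 𝒜 →+*ᵍ ℬ) (hφ : ∀ a : A, φ a = algebraMap A B a) (z : B) (hz : z ∈ ℬ 1)
  (hhat : Function.Bijective (Polynomial.aeval (R := A) z)) {f : A} (hf : f ∈ 𝒜 1)

include hφ hz hhat hf in
theorem exists_polynomial_equiv :
    ∃ α : AddMonoidAlgebra (Away 𝒜 f) ℕ ≃+* Away ℬ (φ f),
      ∀ c, α (AddMonoidAlgebra.single 0 c) = Away.map φ f c := by
  classical
  have hg : φ f ∈ ℬ 1 := Graded.map_mem φ hf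
  obtain ⟨DA, hDA⟩ := exists_dehom 𝒜 hf
  obtain ⟨DB, hDB⟩ := exists_dehom ℬ hg
  let e : Polynomial A ≃ₐ[A] B := AlgEquiv.ofBijective (Polynomial.aeval z) hhat
  have heX : e Polynomial.X = z := Polynomial.aeval_X z
  have heC : ∀ a : A, e (Polynomial.C a) = algebraMap A B a := fun a => Polynomial.aeval_C z a
  let Γ₀ : Polynomial A →+* AddMonoidAlgebra (Away 𝒜 f) ℕ :=
    Polynomial.eval₂RingHom (AddMonoidAlgebra.singleZeroRingHom.comp DA)
      (AddMonoidAlgebra.single 1 1)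
  let Γ : B →+* AddMonoidAlgebra (Away 𝒜 f) ℕ := Γ₀.comp e.symm.toAlgHom.toRingHom
  have hΓe : ∀ P, Γ (e P) = Γ₀ P := fun P => by
    show Γ₀ (e.symm (e P)) = _
    rw [AlgEquiv.symm_apply_apply]
  have hΓz : Γ z = AddMonoidAlgebra.single 1 1 := by
    rw [← heX, hΓe]
    exact Polynomial.eval₂_X _ _
  have hΓa : ∀ a : A, Γ (algebraMap A B a) = AddMonoidAlgebra.single 0 (DA a) := fun a => by
    rw [← heC, hΓe]
    exact Polynomial.eval₂_C _ _
  have hΓg : Γ (φ f) = 1 := by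
    rw [hφ, hΓa, hDA 1 f hf, mkHom_self]
    rfl
  have hunit : IsUnit (Γ (φ f)) := by
    rw [hΓg]
    exact isUnit_one
  let Γ' : Localization.Away (φ f) →+* AddMonoidAlgebra (Away 𝒜 f) ℕ :=
    IsLocalization.Away.lift (φ f) hunit
  have hΓ' : ∀ b : B, Γ' (algebraMap B _ b) = Γ b :=
    fun b => IsLocalization.Away.lift_eq (φ f) hunit b
  have hΓ'mk : ∀ (n : ℕ) (b : B), Γ' (Localization.mk b
      (⟨(φ f) ^ n, pow_mem (Submonoid.mem_powers _) n⟩ : Submonoid.powers (φ f))) = Γ b := by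
    intro n b
    have h1 : Localization.mk b
        (⟨(φ f) ^ n, pow_mem (Submonoid.mem_powers _) n⟩ : Submonoid.powers (φ f)) *
        algebraMap B (Localization.Away (φ f)) ((φ f) ^ n) = algebraMap B _ b := by
      rw [Localization.mk_eq_mk']
      exact IsLocalization.mk'_spec _ b ⟨(φ f) ^ n, pow_mem (Submonoid.mem_powers _) n⟩
    have h2 := congrArg Γ' h1
    rw [map_mul, hΓ', hΓ', map_pow, hΓg, one_pow, mul_one] at h2
    exact h2
  let t : Away ℬ (φ f) := mkHom ℬ hg 1 ⟨z, hz⟩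
  let ρ : Away 𝒜 f →+* Away ℬ (φ f) := Away.map φ f
  let αhom : AddMonoidAlgebra (Away 𝒜 f) ℕ →+* Away ℬ (φ f) :=
    AddMonoidAlgebra.liftNCRingHom ρ (powersHom _ t) (fun _ _ => Commute.all _ _)
  have hα : ∀ (n : ℕ) (c : Away 𝒜 f), αhom (AddMonoidAlgebra.single n c) = ρ c * t ^ n := by
    intro n c
    rw [AddMonoidAlgebra.liftNCRingHom_single]
    rfl
  have hρmk : ∀ (n : ℕ) (a : A) (ha : a ∈ 𝒜 n),
      ρ (mkHom 𝒜 hf n ⟨a, ha⟩) = mkHom ℬ hg n ⟨φ a, Graded.map_mem φ ha⟩ := by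
    intro n a ha
    show Away.map φ f (Away.mk 𝒜 hf n a _) = _
    rw [Away.map_mk]
    rfl
  let β : Away ℬ (φ f) →+* AddMonoidAlgebra (Away 𝒜 f) ℕ :=
    Γ'.comp (algebraMap (Away ℬ (φ f)) (Localization.Away (φ f)))
  have hβmk : ∀ (n : ℕ) (b : B) (hb : b ∈ ℬ n), β (mkHom ℬ hg n ⟨b, hb⟩) = Γ b := by
    intro n b hb
    show Γ' ((mkHom ℬ hg n ⟨b, hb⟩).val) = _
    rw [val_mkHom]
    exact hΓ'mk n b
  have hc1 : ∀ b : B, αhom (Γ b) = DB b := by
    have h0 : (αhom.comp Γ).comp e.toAlgHom.toRingHom = DB.comp e.toAlgHom.toRingHom := by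
      refine Polynomial.ringHom_ext (fun a => ?_) ?_
      · show αhom (Γ (e (Polynomial.C a))) = DB (e (Polynomial.C a))
        rw [heC]
        have h1 : (αhom.comp Γ).comp (algebraMap A B) = DB.comp (algebraMap A B) := by
          refine ringHom_ext_of_homogeneous 𝒜 fun n a ha => ?_
          show αhom (Γ (algebraMap A B a)) = DB (algebraMap A B a)
          rw [hΓa, hα, pow_zero, mul_one, hDA n a ha, hρmk n a ha, ← hφ,
            hDB n (φ a) (Graded.map_mem φ ha)]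
        exact RingHom.congr_fun h1 a
      · show αhom (Γ (e Polynomial.X)) = DB (e Polynomial.X)
        rw [heX, hΓz, hα, map_one, one_mul, pow_one, hDB 1 z hz]
    intro b
    have h2 : αhom (Γ (e (e.symm b))) = DB (e (e.symm b)) := RingHom.congr_fun h0 (e.symm b)
    rw [e.apply_symm_apply] at h2
    exact h2
  have h₁ : αhom.comp β = RingHom.id _ := by
    refine RingHom.ext fun y => ?_
    obtain ⟨n, b, hb, rfl⟩ := Away.mk_surjective ℬ hg y
    have hb' : b ∈ ℬ n := by simpa using hb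
    show αhom (β (Away.mk ℬ hg n b hb)) = Away.mk ℬ hg n b hb
    rw [← mkHom_eq ℬ hg n b hb hb', hβmk, hc1, hDB n b hb']
  have h₂ : β.comp αhom = RingHom.id _ := by
    refine AddMonoidAlgebra.ringHom_ext' ?_ ?_
    · refine RingHom.ext fun c => ?_
      show β (αhom (AddMonoidAlgebra.single 0 c)) = AddMonoidAlgebra.single 0 c
      rw [hα, pow_zero, mul_one]
      obtain ⟨n, a, ha, rfl⟩ := Away.mk_surjective 𝒜 hf c
      have ha' : a ∈ 𝒜 n := by simpa using ha
      rw [← mkHom_eq 𝒜 hf n a ha ha', hρmk n a ha', hβmk, hφ, hΓa, hDA n a ha']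
    · refine MonoidHom.ext_mnat ?_
      show β (αhom (AddMonoidAlgebra.of _ _ (Multiplicative.ofAdd 1))) =
        AddMonoidAlgebra.of _ _ (Multiplicative.ofAdd 1)
      rw [AddMonoidAlgebra.of_apply]
      show β (αhom (AddMonoidAlgebra.single (1 : ℕ) 1)) = AddMonoidAlgebra.single (1 : ℕ) 1
      rw [hα, map_one, one_mul, pow_one]
      exact (hβmk 1 z hz).trans hΓz
  refine ⟨RingEquiv.ofRingHom αhom β h₁ h₂, fun c => ?_⟩
  show αhom (AddMonoidAlgebra.single 0 c) = _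
  rw [hα, pow_zero, mul_one]

end alg

/-- Transport an isomorphism with `Spec K[ℕ]` to one with `Spec K[X]`. -/
theorem exists_iso_polynomial {Y : Scheme.{u}} {K : Type u} [CommRing K]
    (s : Y ⟶ Spec (CommRingCat.of K))
    (h : ∃ e : Y ≅ Spec (CommRingCat.of (AddMonoidAlgebra K ℕ)),
      e.hom ≫ Spec.map (CommRingCat.ofHom (algebraMap K (AddMonoidAlgebra K ℕ))) = s) :
    ∃ e : Y ≅ Spec (CommRingCat.of (Polynomial K)),
      e.hom ≫ Spec.map (CommRingCat.ofHom (algebraMap K (Polynomial K))) = s := by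
  obtain ⟨e, he⟩ := h
  refine ⟨e ≪≫ Scheme.Spec.mapIso (Polynomial.toFinsuppIso K).toCommRingCatIso.op, ?_⟩
  rw [Iso.trans_hom, Category.assoc, ← he]
  congr 1
  show Spec.map (CommRingCat.ofHom (Polynomial.toFinsuppIso K).toRingHom) ≫ Spec.map _ = _
  rw [← Spec.map_comp]
  congr 1

end Groth.Agent.Lib.Helper6.PConeAway
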