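import Mathlib
import Groth.Prelude.Def_GrMod2
import Groth.Agent.Lib.Helper6.ProjMap

/-!
# Basic facts on the sheaf `M~` on `Proj` attached to a graded module (helper6)
-/

set_option autoImplicit false
universe u
open CategoryTheory CategoryTheory.Limits AlgebraicGeometry Opposite

namespace Groth.Agent.Lib.Helper6

section graded
variable {R A : Type u} [CommRing R] [CommRing A] [Algebra R A] (𝒜 : ℕ → Submodule R A)
  [GradedAlgebra 𝒜]
  {M : Type u} [AddCommGroup M] [Module R M] [Module A M] (ℳ : ℕ → Submodule R M)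
  [DirectSum.Decomposition ℳ] [SetLike.GradedSMul 𝒜 ℳ]

/-- Homogeneous components of a scalar act on a homogeneous element by the corresponding
homogeneous component of the product. -/
lemma coe_decompose_smul_of_mem {i : ℕ} {z : M} (hz : z ∈ ℳ i) (a : A) (j : ℕ) :
    ((DirectSum.decompose ℳ (a • z) (j + i) : ℳ (j + i)) : M) =
      (DirectSum.decompose 𝒜 a j : A) • z := by
  induction a using DirectSum.Decomposition.inductionOn 𝒜 with
  | zero => simp
  | @homogeneous k a =>
    have hmem : (a : A) • z ∈ ℳ (k + i) := SetLike.GradedSMul.smul_mem a.2 hz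
    by_cases hk : k = j
    · subst hk
      rw [DirectSum.decompose_of_mem_same ℳ hmem, DirectSum.decompose_coe, DirectSum.of_eq_same]
    · rw [DirectSum.decompose_of_mem_ne ℳ hmem (by omega : k + i ≠ j + i),
        DirectSum.decompose_of_mem_ne 𝒜 a.2 hk, zero_smul]
  | add a b ha hb =>
    rw [add_smul, DirectSum.decompose_add, DirectSum.add_apply, Submodule.coe_add, ha, hb,
      DirectSum.decompose_add, DirectSum.add_apply, Submodule.coe_add, add_smul]

/-- If a scalar kills a homogeneous element, so do all its homogeneous components. -/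
lemma decompose_smul_eq_zero_of_mem {i : ℕ} {z : M} (hz : z ∈ ℳ i) {u : A} (hu : u • z = 0)
    (j : ℕ) : (DirectSum.decompose 𝒜 u j : A) • z = 0 := by
  rw [← coe_decompose_smul_of_mem 𝒜 ℳ hz u j, hu]
  simp

end graded

section sections
variable {R A : Type u} [CommRing R] [CommRing A] [Algebra R A] (𝒜 : ℕ → Submodule R A)
  [GradedAlgebra 𝒜]
  {M : Type u} [AddCommGroup M] [Module R M] [Module A M] (ℳ : ℕ → Submodule R M)
  [SetLike.GradedSMul 𝒜 ℳ]

/-- If `M(n)~` is a zero object, all its sections vanish. -/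
lemma sect_eq_zero_of_isZero (n : ℤ) (h : IsZero (GrTilde.tilde 𝒜 ℳ n))
    (U : (Proj 𝒜).Opens) (σ : GrTilde.sect 𝒜 ℳ n (op U)) : σ = 0 := by
  have hid : 𝟙 (GrTilde.tilde 𝒜 ℳ n) = 0 := (IsZero.iff_id_eq_zero _).1 h
  have h1 : Scheme.Modules.Hom.app (𝟙 (GrTilde.tilde 𝒜 ℳ n)) U = Scheme.Modules.Hom.app 0 U := by
    rw [hid]
  have h2 := congrArg (fun φ => φ.hom σ) h1
  exact h2

/-- The section `m / s` of `M(n)~` over `D₊(s)`. -/
def fracSection {i j : ℕ} (n : ℤ) (m : ℳ i) (s : 𝒜 j) (hij : (i : ℤ) = j + n) :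
    GrTilde.sect 𝒜 ℳ n (op (ProjectiveSpectrum.basicOpen 𝒜 (s : A))) :=
  ⟨fun y => ⟨LocalizedModule.mk m.1 ⟨s.1, y.2⟩,
      Submodule.subset_span ⟨i, j, m, s, y.2, hij, rfl⟩⟩,
    fun y => ⟨_, y.2, 𝟙 _, i, j, m, s, fun y => y.2, Or.inl hij, fun _ => rfl⟩⟩

end sections

end Groth.Agent.Lib.Helper6
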