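import Mathlib
import Groth.Prelude.Def_GrMod2
import Groth.Agent.Lib.Helper6.ProjBasic
import Groth.Agent.Lib.Helper6.GrTildeBasic

/-!
# Sections of `M(n)~` over `D₊(f)` are single fractions: the algebraic ingredients (helper6)
-/

set_option autoImplicit false
universe u
open CategoryTheory CategoryTheory.Limits AlgebraicGeometry Opposite

namespace Groth.Agent.Lib.Helper6

/-- Homogeneous components commute with finite sums. -/
lemma coe_decompose_finset_sum {κ M σ ι' : Type*} [DecidableEq κ] [AddCommMonoid M] [SetLike σ M]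
    [AddSubmonoidClass σ M] (ℳ : κ → σ) [DirectSum.Decomposition ℳ] (s : Finset ι') (g : ι' → M)
    (k : κ) :
    ((DirectSum.decompose ℳ (∑ t ∈ s, g t) k : ℳ k) : M) =
      ∑ t ∈ s, ((DirectSum.decompose ℳ (g t) k : ℳ k) : M) := by
  classical
  induction s using Finset.induction_on with
  | empty => simp
  | insert a s ha ih =>
    rw [Finset.sum_insert ha, Finset.sum_insert ha, DirectSum.decompose_add,
      DirectSum.add_apply, AddMemClass.coe_add, ih]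

section fracglue
variable {R A : Type u} [CommRing R] [CommRing A] [Algebra R A] (𝒜 : ℕ → Submodule R A)
  [GradedAlgebra 𝒜]

/-- If the sets `D₊(h)`, `h ∈ H` homogeneous, cover `D₊(f)` (with `f` in the irrelevant ideal),
then a power of `f` lies in the ideal generated by `H`. -/
lemma exists_pow_mem_span_of_cover {f : A} (hf : f ∈ (HomogeneousIdeal.irrelevant 𝒜).toIdeal)
    (H : Set A) (hH : ∀ h ∈ H, SetLike.IsHomogeneousElem 𝒜 h)
    (hcov : ∀ x : ProjectiveSpectrum 𝒜, f ∉ x.asHomogeneousIdeal.toIdeal →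
      ∃ h ∈ H, h ∉ x.asHomogeneousIdeal.toIdeal) :
    ∃ N : ℕ, f ^ N ∈ Ideal.span H := by
  suffices hfI : f ∈ (Ideal.span H).radical by
    obtain ⟨N, hN⟩ := hfI
    exact ⟨N, hN⟩
  rw [Ideal.radical_eq_sInf, Ideal.mem_sInf]
  rintro q ⟨hHq, hq⟩
  have := hq
  by_contra hfq
  have hle : ¬ (HomogeneousIdeal.irrelevant 𝒜).toIdeal ≤ q := fun h => hfq (h hf)
  obtain ⟨h, hhH, hhx⟩ := hcov (projPointOfPrime 𝒜 q hle)
    (fun hmem => hfq (projPointOfPrime_le 𝒜 q hle hmem))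
  exact hhx (mem_projPointOfPrime_of_homogeneous 𝒜 q hle (hH h hhH)
    (hHq (Ideal.subset_span hhH)))

variable {M : Type u} [AddCommGroup M] [Module R M] [Module A M] (ℳ : ℕ → Submodule R M)
  [DirectSum.Decomposition ℳ] [SetLike.GradedSMul 𝒜 ℳ]

/-- A homogeneous element which is killed locally on `D₊(g)` is killed by a power of `g`. -/
lemma exists_pow_smul_eq_zero_of_locally_killed {g : A}
    (hg : g ∈ (HomogeneousIdeal.irrelevant 𝒜).toIdeal) {i : ℕ} {w : M} (hw : w ∈ ℳ i)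
    (h : ∀ x : ProjectiveSpectrum 𝒜, g ∉ x.asHomogeneousIdeal.toIdeal →
      ∃ u : A, u ∉ x.asHomogeneousIdeal.toIdeal ∧ u • w = 0) :
    ∃ K : ℕ, g ^ K • w = 0 := by
  classical
  let I : Ideal A := LinearMap.ker (LinearMap.toSpanSingleton A M w)
  have hI : ∀ a : A, a ∈ I ↔ a • w = 0 := fun a => by
    simp [I, LinearMap.mem_ker, LinearMap.toSpanSingleton_apply]
  suffices hfI : g ∈ I.radical by
    obtain ⟨N, hN⟩ := hfI
    exact ⟨N, (hI _).1 hN⟩
  rw [Ideal.radical_eq_sInf, Ideal.mem_sInf]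
  rintro q ⟨hIq, hq⟩
  have := hq
  by_contra hgq
  have hle : ¬ (HomogeneousIdeal.irrelevant 𝒜).toIdeal ≤ q := fun h => hgq (h hg)
  obtain ⟨u, hux, huw⟩ := h (projPointOfPrime 𝒜 q hle)
    (fun hmem => hgq (projPointOfPrime_le 𝒜 q hle hmem))
  have hcomp : ∃ j, (DirectSum.decompose 𝒜 u j : A) ∉ q := by
    by_contra hcon
    push Not at hcon
    apply hux
    change u ∈ (q.homogeneousCore 𝒜).toIdeal
    rw [← DirectSum.sum_support_decompose 𝒜 u]
    exact Ideal.sum_mem _ fun j _ =>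
      Ideal.mem_homogeneousCore_of_homogeneous_of_mem ⟨j, SetLike.coe_mem _⟩ (hcon j)
  obtain ⟨j, hj⟩ := hcomp
  exact hj (hIq ((hI _).2 (decompose_smul_eq_zero_of_mem 𝒜 ℳ hw huw j)))

omit [DirectSum.Decomposition ℳ] in
/-- Gluing compatible numerators: if `h x' • m x = h x • m x'` and the homogeneous element `F`
lies in the ideal generated by the `h x`, there is a homogeneous `mt` with
`h x • mt = F • m x` for all `x`. -/
lemma exists_glue_numerator {ι : Type*} [Fintype ι] (n : ℤ) {D : ℕ} {F : A} (hF : F ∈ 𝒜 D)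
    (h : ι → A) (j : ι → ℕ) (m : ι → M) (i : ι → ℕ)
    (hh : ∀ x, h x ∈ 𝒜 (j x)) (hm : ∀ x, m x ∈ ℳ (i x)) (hij : ∀ x, (i x : ℤ) = j x + n)
    (hcompat : ∀ x x', h x' • m x = h x • m x')
    (I : ℕ) (hI : (I : ℤ) = D + n) (hN : F ∈ Ideal.span (Set.range h)) :
    ∃ mt : M, mt ∈ ℳ I ∧ ∀ x, h x • mt = F • m x := by
  classical
  obtain ⟨c, hc⟩ := Ideal.mem_span_range_iff_exists_fun.1 hN
  obtain ⟨c', hc'def⟩ : ∃ c' : ι → A, ∀ x, c' x =
      if j x ≤ D then (DirectSum.decompose 𝒜 (c x) (D - j x) : A) else 0 :=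
    ⟨_, fun _ => rfl⟩
  have hc' : ∑ x, c' x * h x = F := by
    have h1 : ((DirectSum.decompose 𝒜 (∑ x, c x * h x) D : 𝒜 D) : A) = F := by
      rw [hc, DirectSum.decompose_of_mem_same 𝒜 hF]
    rw [← h1, coe_decompose_finset_sum 𝒜]
    apply Finset.sum_congr rfl
    intro x _
    rw [DirectSum.coe_decompose_mul_of_right_mem 𝒜 D (hh x), hc'def, ite_mul, zero_mul]
  have hterm : ∀ x, c' x • m x ∈ ℳ I := by
    intro x
    rw [hc'def]
    split_ifs with hle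
    · have hcm : (DirectSum.decompose 𝒜 (c x) (D - j x) : A) ∈ 𝒜 (D - j x) := SetLike.coe_mem _
      have h2 : (DirectSum.decompose 𝒜 (c x) (D - j x) : A) • m x ∈ ℳ (D - j x + i x) :=
        SetLike.GradedSMul.smul_mem hcm (hm x)
      have h3 : D - j x + i x = I := by
        have := hij x
        omega
      rwa [h3] at h2
    · rw [zero_smul]
      exact zero_mem _
  refine ⟨∑ x, c' x • m x, Submodule.sum_mem _ fun x _ => hterm x, fun x => ?_⟩
  rw [Finset.smul_sum, ← hc', Finset.sum_smul]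
  apply Finset.sum_congr rfl
  intro x' _
  rw [smul_comm, hcompat x' x, smul_smul]

omit [DirectSum.Decomposition ℳ] in
/-- Local normal form of a section of `M(n)~` over `D₊(f)`: near each point it is a fraction
`m / h` with `h` homogeneous, a multiple of `f`, valid on all of `D₊(h)`. -/
lemma exists_local_fraction (n : ℤ) {d : ℕ} (hd : 0 < d) {f : A} (hf : f ∈ 𝒜 d)
    (s : GrTilde.sect 𝒜 ℳ n (op (ProjectiveSpectrum.basicOpen 𝒜 f)))
    (x : ProjectiveSpectrum.basicOpen 𝒜 f) :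
    ∃ (j i : ℕ) (h : A) (m : M), h ∈ 𝒜 j ∧ m ∈ ℳ i ∧ (i : ℤ) = j + n ∧
      h ∈ (HomogeneousIdeal.irrelevant 𝒜).toIdeal ∧ h ∉ x.1.asHomogeneousIdeal.toIdeal ∧
      (∀ y : ProjectiveSpectrum 𝒜, h ∉ y.asHomogeneousIdeal.toIdeal →
        y ∈ ProjectiveSpectrum.basicOpen 𝒜 f) ∧
      ∀ (y : ProjectiveSpectrum.basicOpen 𝒜 f) (hy : h ∉ y.1.asHomogeneousIdeal.toIdeal),
        ((s.1 y : GrTilde.tildeAt 𝒜 ℳ n y.1) : GrTilde.LocMod 𝒜 (M := M) y.1) =
          LocalizedModule.mk m ⟨h, hy⟩ := by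
  classical
  have hs2 : (GrTilde.isLocFrac 𝒜 ℳ n).pred s.1 := s.2
  obtain ⟨V, hxV, iVU, i₀, j₀, m₀, t, t_nin, hdeg, hs⟩ := hs2 x
  obtain ⟨S, hS⟩ := (ProjectiveSpectrum.isOpen_iff 𝒜 (V : Set (ProjectiveSpectrum.top 𝒜))).1 V.2
  have hS' : ∀ y : ProjectiveSpectrum 𝒜, y ∉ V ↔ S ⊆ (y.asHomogeneousIdeal : Set A) := by
    intro y
    have := Set.ext_iff.1 hS y
    exact this
  have hxS : ¬ (S ⊆ (x.1.asHomogeneousIdeal : Set A)) := fun hsub => ((hS' x.1).2 hsub) hxV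
  obtain ⟨r, hrS, hrx⟩ := Set.not_subset.1 hxS
  have hrx' : r ∉ x.1.asHomogeneousIdeal.toIdeal := hrx
  have hrV : ∀ y : ProjectiveSpectrum 𝒜, r ∉ y.asHomogeneousIdeal.toIdeal → y ∈ V := by
    intro y hry
    by_contra hyV
    exact hry ((hS' y).1 hyV hrS)
  obtain ⟨k, hk⟩ : ∃ k, (DirectSum.decompose 𝒜 r k : A) ∉ x.1.asHomogeneousIdeal.toIdeal := by
    by_contra hcon
    push Not at hcon
    apply hrx'
    rw [← DirectSum.sum_support_decompose 𝒜 r]
    exact Ideal.sum_mem _ (fun k _ => hcon k)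
  obtain ⟨g, hgdef⟩ : ∃ g : A, g = (DirectSum.decompose 𝒜 r k : A) := ⟨_, rfl⟩
  rw [← hgdef] at hk
  have hg : g ∈ 𝒜 k := by
    rw [hgdef]
    exact SetLike.coe_mem _
  have hgV : ∀ y : ProjectiveSpectrum 𝒜, g ∉ y.asHomogeneousIdeal.toIdeal → y ∈ V := by
    intro y hgy
    apply hrV y
    intro hry
    apply hgy
    rw [hgdef]
    exact y.asHomogeneousIdeal.isHomogeneous k hry
  obtain ⟨a, ha1, han⟩ : ∃ a : ℕ, 1 ≤ a ∧ 0 ≤ (a : ℤ) + n :=
    ⟨1 + n.natAbs, by omega, by omega⟩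
  obtain ⟨D, hD⟩ : ∃ D : ℕ, D = a * d := ⟨_, rfl⟩
  have haD : a ≤ D := by
    rw [hD]
    exact Nat.le_mul_of_pos_right a hd
  have hfa : f ^ a ∈ 𝒜 D := by
    have := SetLike.pow_mem_graded a hf
    rwa [smul_eq_mul, ← hD] at this
  obtain ⟨e, hedef⟩ : ∃ e : A, e = f ^ a * g := ⟨_, rfl⟩
  have he : e ∈ 𝒜 (D + k) := by
    rw [hedef]
    exact SetLike.mul_mem_graded hfa hg
  have hh : t.1 * e ∈ 𝒜 (j₀ + (D + k)) := SetLike.mul_mem_graded t.2 he
  have hpos : 0 < j₀ + (D + k) := by omega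
  have hirr : t.1 * e ∈ (HomogeneousIdeal.irrelevant 𝒜).toIdeal :=
    HomogeneousIdeal.mem_irrelevant_of_mem 𝒜 hpos hh
  have hfx : f ∉ x.1.asHomogeneousIdeal.toIdeal := x.2
  have htx : t.1 ∉ x.1.asHomogeneousIdeal.toIdeal := t_nin ⟨x.1, hxV⟩
  have hhx : t.1 * e ∉ x.1.asHomogeneousIdeal.toIdeal := by
    intro hmem
    rcases x.1.isPrime.mem_or_mem hmem with h1 | h1
    · exact htx h1
    · rw [hedef] at h1
      rcases x.1.isPrime.mem_or_mem h1 with h2 | h2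
      · exact hfx (x.1.isPrime.mem_of_pow_mem a h2)
      · exact hk h2
  have hey : ∀ y : ProjectiveSpectrum 𝒜, t.1 * e ∉ y.asHomogeneousIdeal.toIdeal →
      f ∉ y.asHomogeneousIdeal.toIdeal ∧ g ∉ y.asHomogeneousIdeal.toIdeal := by
    intro y hy
    constructor
    · intro hfy
      apply hy
      rw [hedef]
      exact Ideal.mul_mem_left _ _
        (Ideal.mul_mem_right _ _ (Ideal.pow_mem_of_mem _ hfy a ha1))
    · intro hgy
      apply hy
      rw [hedef]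
      exact Ideal.mul_mem_left _ _ (Ideal.mul_mem_left _ _ hgy)
  have hsy : ∀ (y : ProjectiveSpectrum.basicOpen 𝒜 f)
      (hy : t.1 * e ∉ y.1.asHomogeneousIdeal.toIdeal),
      ∃ hty : t.1 ∉ y.1.asHomogeneousIdeal.toIdeal,
      ((s.1 y : GrTilde.tildeAt 𝒜 ℳ n y.1) : GrTilde.LocMod 𝒜 (M := M) y.1) =
        LocalizedModule.mk m₀.1 ⟨t.1, hty⟩ := by
    intro y hy
    have hyV : y.1 ∈ V := hgV y.1 (hey y.1 hy).2
    exact ⟨t_nin ⟨y.1, hyV⟩, hs ⟨y.1, hyV⟩⟩
  rcases hdeg with hdeg | hm0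
  · refine ⟨j₀ + (D + k), D + k + i₀, t.1 * e, e • m₀.1, hh, ?_, ?_, hirr, hhx,
      fun y hy => (hey y hy).1, fun y hy => ?_⟩
    · exact SetLike.GradedSMul.smul_mem he m₀.2
    · push_cast
      rw [hdeg]
      ring
    · obtain ⟨hty, hsy'⟩ := hsy y hy
      rw [hsy', LocalizedModule.mk_eq]
      refine ⟨1, ?_⟩
      rw [one_smul, one_smul]
      show (t.1 * e) • m₀.1 = t.1 • e • m₀.1
      rw [mul_smul]
  · refine ⟨j₀ + (D + k), (((j₀ + (D + k) : ℕ) : ℤ) + n).toNat, t.1 * e, 0, hh, zero_mem _, ?_,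
      hirr, hhx, fun y hy => (hey y hy).1, fun y hy => ?_⟩
    · exact Int.toNat_of_nonneg (by omega)
    · obtain ⟨hty, hsy'⟩ := hsy y hy
      rw [hsy', hm0, LocalizedModule.zero_mk, LocalizedModule.zero_mk]

end fracglue

end Groth.Agent.Lib.Helper6
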