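import Mathlib
import Groth.Prelude.Def_RelSpec2
import Groth.Agent.Lib.Helper6.AwayDeg1G

/-!
# Algebra of `𝒮[z]` over an affine open (helper6)

For a presentation `IsPolyOver 𝒮 𝒮h ι z` and an affine open `U`: the homomorphism
`awayZToBase : 𝒮h(U)_(z) → 𝒮(U)` is bijective; a relevant homogeneous prime of `𝒮h(U)` containing
`ι(𝒮(U)_+)` does not contain `z`.
-/

set_option autoImplicit false
universe u
open CategoryTheory AlgebraicGeometry Opposite HomogeneousLocalization

namespace Groth.Agent.Lib.Helper6.PolyConeAlg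

open Groth.Agent.Lib.Helper6.AwayDeg1G

variable {S : Scheme.{u}} {𝒮 𝒮h : RelProj.QCGrAlg S} {ι : 𝒮.toQCAlg ⟶ 𝒮h.toQCAlg}
  {z : 𝒮h.presheaf.obj (op ⊤)} (h : RelCone.IsPolyOver 𝒮 𝒮h ι z)
  (U : S.Opens) (hU : IsAffineOpen U)

include h in
theorem ι_mem {d : ℕ} {a : 𝒮.presheaf.obj (op U)} (ha : a ∈ 𝒮.deg U hU d) :
    (ι.hom.app (op U)).hom a ∈ 𝒮h.deg U hU d :=
  h.graded U hU d a ha

theorem awayZ_mk (k : ℕ) (b : 𝒮h.presheaf.obj (op U)) (hb : b ∈ 𝒮h.deg U hU (k • 1)) :
    h.awayZToBase U hU (Away.mk (𝒮h.deg U hU) (h.deg_z U hU) k b hb) = h.evalOne U hU b :=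
  h.awayZToBase_of_val U hU _ b k rfl

theorem polyEquiv_C (a : 𝒮.presheaf.obj (op U)) :
    h.polyEquiv U hU (Polynomial.C a) = (ι.hom.app (op U)).hom a := by
  rw [RelCone.IsPolyOver.polyEquiv_apply, Polynomial.eval₂_C]

theorem polyEquiv_X :
    h.polyEquiv U hU Polynomial.X = RelCone.restrictTop 𝒮h z U := by
  rw [RelCone.IsPolyOver.polyEquiv_apply, Polynomial.eval₂_X]

theorem awayZ_bijective : Function.Bijective (h.awayZToBase U hU) := by
  classical
  obtain ⟨D, hD⟩ := exists_dehom (𝒮h.deg U hU) (h.deg_z U hU)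
  have hDcomp : ∀ b : 𝒮h.presheaf.obj (op U),
      D ((ι.hom.app (op U)).hom (h.evalOne U hU b)) = D b := by
    have key : ((D.comp ((ι.hom.app (op U)).hom.comp (h.evalOne U hU))).comp
        (h.polyEquiv U hU).toRingHom) = D.comp (h.polyEquiv U hU).toRingHom := by
      refine Polynomial.ringHom_ext (fun a => ?_) ?_
      · show D ((ι.hom.app (op U)).hom (h.evalOne U hU (h.polyEquiv U hU (Polynomial.C a)))) =
          D (h.polyEquiv U hU (Polynomial.C a))
        rw [polyEquiv_C, RelCone.IsPolyOver.evalOne_ι]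
      · show D ((ι.hom.app (op U)).hom (h.evalOne U hU (h.polyEquiv U hU Polynomial.X))) =
          D (h.polyEquiv U hU Polynomial.X)
        rw [polyEquiv_X, RelCone.IsPolyOver.evalOne_z, map_one, map_one,
          hD 1 _ (h.deg_z U hU), mkHom_self]
    intro b
    have h1 := RingHom.congr_fun key ((h.polyEquiv U hU).symm b)
    have h2 : (h.polyEquiv U hU) ((h.polyEquiv U hU).symm b) = b :=
      (h.polyEquiv U hU).apply_symm_apply b
    have h3 : D ((ι.hom.app (op U)).hom (h.evalOne U hU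
        ((h.polyEquiv U hU) ((h.polyEquiv U hU).symm b)))) =
        D ((h.polyEquiv U hU) ((h.polyEquiv U hU).symm b)) := h1
    rw [h2] at h3
    exact h3
  have hleft : ∀ q, D ((ι.hom.app (op U)).hom (h.awayZToBase U hU q)) = q := by
    intro q
    obtain ⟨k, b, hb, rfl⟩ := Away.mk_surjective (𝒮h.deg U hU) (h.deg_z U hU) q
    have hb' : b ∈ 𝒮h.deg U hU k := by simpa using hb
    rw [awayZ_mk, hDcomp, hD k b hb']
    rfl
  have hright : ∀ a : 𝒮.presheaf.obj (op U),
      h.awayZToBase U hU (D ((ι.hom.app (op U)).hom a)) = a := by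
    intro a
    induction a using DirectSum.Decomposition.inductionOn (𝒮.deg U hU) with
    | zero => rw [map_zero, map_zero, map_zero]
    | homogeneous m =>
      rw [hD _ _ (ι_mem h U hU m.2)]
      have e : mkHom (𝒮h.deg U hU) (h.deg_z U hU) _
          ⟨(ι.hom.app (op U)).hom m.1, ι_mem h U hU m.2⟩ =
          Away.mk (𝒮h.deg U hU) (h.deg_z U hU) _ ((ι.hom.app (op U)).hom m.1)
            (by simp only [smul_eq_mul, mul_one]; exact ι_mem h U hU m.2) := rfl
      rw [e, awayZ_mk, RelCone.IsPolyOver.evalOne_ι]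
    | add m m' h1 h2 => rw [map_add, map_add, map_add, h1, h2]
  constructor
  · intro q q' hqq'
    rw [← hleft q, ← hleft q', hqq']
  · intro a
    exact ⟨_, hright a⟩

theorem awayZ_isLocalizationElem {d : ℕ} {a : 𝒮.presheaf.obj (op U)} (ha : a ∈ 𝒮.deg U hU d) :
    h.awayZToBase U hU (Away.isLocalizationElem (h.deg_z U hU) (ι_mem h U hU ha)) = a := by
  rw [awayZ_mk, pow_one, RelCone.IsPolyOver.evalOne_ι]

/-- `x - x_0` lies in the irrelevant ideal. -/
theorem sub_proj_zero_mem_irrelevant {A σ : Type*} [CommRing A] [SetLike σ A]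
    [AddSubgroupClass σ A] (𝒜 : ℕ → σ) [GradedRing 𝒜] (x : A) :
    x - (DirectSum.decompose 𝒜 x 0 : A) ∈ (HomogeneousIdeal.irrelevant 𝒜).toIdeal := by
  classical
  change x - (DirectSum.decompose 𝒜 x 0 : A) ∈ HomogeneousIdeal.irrelevant 𝒜
  rw [HomogeneousIdeal.mem_irrelevant_iff, map_sub, GradedRing.proj_apply, GradedRing.proj_apply,
    DirectSum.decompose_of_mem_same 𝒜 (SetLike.coe_mem _), sub_self]

include h in
/-- A relevant homogeneous prime containing `ι(𝒮_+)` does not contain `z`. -/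
theorem z_not_mem (p : Proj (𝒮h.deg U hU))
    (hp : ∀ (d : ℕ), 0 < d → ∀ a ∈ 𝒮.deg U hU d,
      (ι.hom.app (op U)).hom a ∈ p.asHomogeneousIdeal) :
    RelCone.restrictTop 𝒮h z U ∉ p.asHomogeneousIdeal := by
  classical
  intro hzp
  have hirr : (HomogeneousIdeal.irrelevant (𝒮.deg U hU)).toIdeal ≤
      Ideal.comap (ι.hom.app (op U)).hom p.asHomogeneousIdeal.toIdeal := by
    rw [HomogeneousIdeal.toIdeal_irrelevant_le]
    intro d hd a ha
    exact hp d hd a ha
  refine p.not_irrelevant_le ((HomogeneousIdeal.irrelevant_le _).2 fun k hk b hb => ?_)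
  change b ∈ p.asHomogeneousIdeal.toIdeal
  have hb' : b ∈ 𝒮h.deg U hU k := hb
  set P := (h.polyEquiv U hU).symm b with hP
  have hbP : b = h.polyEquiv U hU P := ((h.polyEquiv U hU).apply_symm_apply b).symm
  set a0 := P.coeff 0 with ha0
  set a00 : 𝒮.presheaf.obj (op U) :=
    ((DirectSum.decompose (𝒮.deg U hU) a0 0 : 𝒮.deg U hU 0) : 𝒮.presheaf.obj (op U)) with ha00
  have hdecomp : b = h.polyEquiv U hU P.divX * RelCone.restrictTop 𝒮h z U +
      (ι.hom.app (op U)).hom (a0 - a00) + (ι.hom.app (op U)).hom a00 := by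
    have h1 : P = P.divX * Polynomial.X + Polynomial.C a0 := (Polynomial.divX_mul_X_add P).symm
    have h2 := congrArg (h.polyEquiv U hU) h1
    rw [map_add, map_mul, polyEquiv_X, polyEquiv_C, ← hbP] at h2
    rw [h2, add_assoc, ← map_add, sub_add_cancel]
  have hmem : b - (ι.hom.app (op U)).hom a00 ∈ p.asHomogeneousIdeal.toIdeal := by
    have e : b - (ι.hom.app (op U)).hom a00 =
        h.polyEquiv U hU P.divX * RelCone.restrictTop 𝒮h z U +
          (ι.hom.app (op U)).hom (a0 - a00) := by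
      rw [sub_eq_iff_eq_add]
      exact hdecomp
    rw [e]
    exact Ideal.add_mem _ (Ideal.mul_mem_left _ _ hzp)
      (hirr (sub_proj_zero_mem_irrelevant (𝒮.deg U hU) a0))
  have hhom := p.asHomogeneousIdeal.isHomogeneous k hmem
  have h00 : (ι.hom.app (op U)).hom a00 ∈ 𝒮h.deg U hU 0 :=
    ι_mem h U hU (SetLike.coe_mem _)
  rw [DirectSum.decompose_sub, DirectSum.sub_apply, AddSubgroupClass.coe_sub,
    DirectSum.decompose_of_mem_same _ hb',
    DirectSum.decompose_of_mem_ne _ h00 (Nat.pos_iff_ne_zero.1 hk).symm, sub_zero] at hhom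
  exact hhom

end Groth.Agent.Lib.Helper6.PolyConeAlg
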