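import Mathlib
import Groth.Prelude.Def_RelSpec2
import Groth.Agent.Lib.Helper6.PolyConeAlg
import Groth.Agent.Lib.Helper13.PointedCone

/-!
# The pointed projective cone is the complement of the vertex (helper6)
-/

set_option autoImplicit false
universe u
open CategoryTheory CategoryTheory.Limits AlgebraicGeometry Opposite TopologicalSpace
open HomogeneousLocalization

noncomputable section
namespace Groth.Agent.Lib.Helper6.PointedProjCone

open Groth.Agent.Lib.Helper6.PolyConeAlg Groth.Agent.Lib.Helper13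

variable {Y PC : Scheme.{u}} {𝒮 𝒮h : RelProj.QCGrAlg Y}
  {ι : 𝒮.toQCAlg ⟶ 𝒮h.toQCAlg} {z : 𝒮h.presheaf.obj (op ⊤)} (hz : RelCone.IsPolyOver 𝒮 𝒮h ι z)

/-- The chart map `Spec 𝒮(U) ⟶ Proj 𝒮h(U)` (onto `D₊(z)`). -/
def kappa (U : Y.Opens) (hU : IsAffineOpen U) :
    Spec (𝒮.presheaf.obj (op U)) ⟶ Proj (𝒮h.deg U hU) :=
  Spec.map (CommRingCat.ofHom (hz.awayZToBase U hU)) ≫
    Proj.awayι (𝒮h.deg U hU) (RelCone.restrictTop 𝒮h z U) (hz.deg_z U hU) one_pos

/-- Key membership: for `a` homogeneous of positive degree, `ι a` lies in the prime `κ(P)` iff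
`a ∈ P`. -/
theorem mem_kappa_iff (U : Y.Opens) (hU : IsAffineOpen U) (P : Spec (𝒮.presheaf.obj (op U)))
    {d : ℕ} (hd : 0 < d) {a : 𝒮.presheaf.obj (op U)} (ha : a ∈ 𝒮.deg U hU d) :
    (ι.hom.app (op U)).hom a ∈ ((kappa hz U hU).base P).asHomogeneousIdeal ↔ a ∈ P.asIdeal := by
  have h1 := Proj.awayι_preimage_basicOpen (𝒮h.deg U hU) (hz.deg_z U hU) one_pos
    (ι_mem hz U hU ha) hd
  set q := (Spec.map (CommRingCat.ofHom (hz.awayZToBase U hU))).base P with hq
  have h2 : q ∈ Proj.awayι (𝒮h.deg U hU) (RelCone.restrictTop 𝒮h z U) (hz.deg_z U hU) one_pos ⁻¹ᵁ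
      Proj.basicOpen (𝒮h.deg U hU) ((ι.hom.app (op U)).hom a) ↔
      q ∈ PrimeSpectrum.basicOpen
        (Away.isLocalizationElem (hz.deg_z U hU) (ι_mem hz U hU ha)) := by
    rw [h1]
    exact Iff.rfl
  have h3 : (q ∈ Proj.awayι (𝒮h.deg U hU) (RelCone.restrictTop 𝒮h z U) (hz.deg_z U hU)
      one_pos ⁻¹ᵁ Proj.basicOpen (𝒮h.deg U hU) ((ι.hom.app (op U)).hom a)) ↔
      (ι.hom.app (op U)).hom a ∉ ((kappa hz U hU).base P).asHomogeneousIdeal :=
    Proj.mem_basicOpen (𝒮h.deg U hU) _ _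
  have h4 : q ∈ PrimeSpectrum.basicOpen
      (Away.isLocalizationElem (hz.deg_z U hU) (ι_mem hz U hU ha)) ↔ a ∉ P.asIdeal := by
    change hz.awayZToBase U hU
      (Away.isLocalizationElem (hz.deg_z U hU) (ι_mem hz U hU ha)) ∉ P.asIdeal ↔ _
    rw [awayZ_isLocalizationElem hz U hU ha]
  rw [← not_iff_not, ← h3, h2, h4]

theorem irrelevant_le_iff (U : Y.Opens) (hU : IsAffineOpen U)
    (P : Spec (𝒮.presheaf.obj (op U))) :
    (HomogeneousIdeal.irrelevant (𝒮.deg U hU)).toIdeal ≤ P.asIdeal ↔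
      (kappa hz U hU).base P ∉ RelCone.domOpen (RelProj.gradedHomAt ι hz.graded U hU) := by
  rw [RelCone.mem_domOpen]
  constructor
  · rintro hle ⟨f, hf, hfp⟩
    apply hfp
    have hirr : (HomogeneousIdeal.irrelevant (𝒮.deg U hU)).toIdeal ≤
        Ideal.comap (ι.hom.app (op U)).hom
          ((kappa hz U hU).base P).asHomogeneousIdeal.toIdeal := by
      rw [HomogeneousIdeal.toIdeal_irrelevant_le]
      intro d hd a ha
      exact (mem_kappa_iff hz U hU P hd ha).2
        (hle (HomogeneousIdeal.mem_irrelevant_of_mem _ hd ha))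
    exact hirr hf
  · intro hnot
    rw [HomogeneousIdeal.toIdeal_irrelevant_le]
    intro d hd a ha
    refine (mem_kappa_iff hz U hU P hd ha).1 ?_
    by_contra hcon
    exact hnot ⟨a, HomogeneousIdeal.mem_irrelevant_of_mem _ hd ha, hcon⟩

/-- A point outside `G(ι(U))` comes from the affine cone. -/
theorem exists_kappa_of_not_mem_domOpen (U : Y.Opens) (hU : IsAffineOpen U)
    (p : Proj (𝒮h.deg U hU))
    (hp : p ∉ RelCone.domOpen (RelProj.gradedHomAt ι hz.graded U hU)) :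
    ∃ P : Spec (𝒮.presheaf.obj (op U)), (kappa hz U hU).base P = p := by
  rw [RelCone.mem_domOpen] at hp
  push_neg at hp
  have hzp : RelCone.restrictTop 𝒮h z U ∉ p.asHomogeneousIdeal := by
    apply z_not_mem hz U hU p
    intro d hd a ha
    exact hp a (HomogeneousIdeal.mem_irrelevant_of_mem _ hd ha)
  have hmem : p ∈ (Proj.awayι (𝒮h.deg U hU) (RelCone.restrictTop 𝒮h z U) (hz.deg_z U hU)
      one_pos).opensRange := by
    rw [Proj.opensRange_awayι]
    exact (Proj.mem_basicOpen _ _ _).2 hzp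
  obtain ⟨q, hq⟩ := hmem
  have hiso : IsIso (CommRingCat.ofHom (hz.awayZToBase U hU)) := by
    rw [ConcreteCategory.isIso_iff_bijective]
    exact awayZ_bijective hz U hU
  obtain ⟨P, hP⟩ := (Spec.map (CommRingCat.ofHom (hz.awayZToBase U hU))).homeomorph.surjective q
  refine ⟨P, ?_⟩
  have hP' : (Spec.map (CommRingCat.ofHom (hz.awayZToBase U hU))).base P = q := hP
  change (Proj.awayι (𝒮h.deg U hU) (RelCone.restrictTop 𝒮h z U) (hz.deg_z U hU) one_pos).base
    ((Spec.map (CommRingCat.ofHom (hz.awayZToBase U hU))).base P) = p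
  rw [hP']
  exact hq

variable (pC : PC ⟶ Y)
  (chartC : ∀ (U : Y.Opens) (hU : IsAffineOpen U),
    (((pC ⁻¹ᵁ U : PC.Opens) : Scheme.{u}) ≅ Proj (𝒮h.deg U hU)))

theorem emb_injective (U : Y.Opens) (hU : IsAffineOpen U) :
    Function.Injective (RelProj.emb pC chartC U hU).base :=
  (RelProj.emb pC chartC U hU).isOpenEmbedding.injective

theorem pC_emb_mem (U : Y.Opens) (hU : IsAffineOpen U) (p : Proj (𝒮h.deg U hU)) :
    pC.base ((RelProj.emb pC chartC U hU).base p) ∈ U :=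
  ((chartC U hU).inv.base p).2

theorem exists_emb_of_mem (U : Y.Opens) (hU : IsAffineOpen U) (x : PC) (hx : pC.base x ∈ U) :
    ∃ p : Proj (𝒮h.deg U hU), (RelProj.emb pC chartC U hU).base p = x := by
  refine ⟨(chartC U hU).hom.base ⟨x, hx⟩, ?_⟩
  have h1 : (chartC U hU).hom ≫ RelProj.emb pC chartC U hU = (pC ⁻¹ᵁ U).ι := by
    rw [RelProj.emb, Iso.hom_inv_id_assoc]
  have h2 := congrArg (fun f => f.base ⟨x, hx⟩) h1
  exact h2

variable {pC chartC}

theorem coneImm_over (hPC : RelProj.IsRelProj 𝒮h pC chartC) {i : 𝒮.toQCAlg.spec ⟶ PC}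
    (hi : RelCone.IsConeImm 𝒮 hz pC chartC i) : i ≫ pC = 𝒮.toQCAlg.π := by
  apply spec_hom_ext
  intro U hU
  rw [← Category.assoc, hi U hU, 𝒮.toQCAlg.ι_π]
  have hemb : RelProj.emb pC chartC U hU ≫ pC =
      Proj.toSpecZero (𝒮h.deg U hU) ≫ Spec.map (𝒮h.strZero U hU) ≫ hU.fromSpec := by
    rw [RelProj.emb, Category.assoc, ← hPC.chart_over U hU, Iso.inv_hom_id_assoc]
  rw [Category.assoc, Category.assoc, hemb, Proj.awayι_toSpecZero_assoc,
    ← Spec.map_comp_assoc, ← Spec.map_comp_assoc]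
  congr 2
  ext r
  have hstr : (𝒮h.str.app (op U)).hom r =
      (ι.hom.app (op U)).hom ((𝒮.str.app (op U)).hom r) :=
    (congrArg (fun φ => (φ.app (op U)).hom r) ι.comm).symm
  have hval : hz.awayZToBase U hU (fromZeroRingHom (𝒮h.deg U hU) _ ((𝒮h.strZero U hU).hom r)) =
      hz.evalOne U hU ((𝒮h.str.app (op U)).hom r) := by
    refine hz.awayZToBase_of_val U hU _ _ 0 ?_
    have e : (⟨RelCone.restrictTop 𝒮h z U ^ 0, pow_mem (Submonoid.mem_powers _) 0⟩ :
        Submonoid.powers (RelCone.restrictTop 𝒮h z U)) = 1 := Subtype.ext (pow_zero _)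
    rw [e]
    rfl
  change hz.awayZToBase U hU (fromZeroRingHom (𝒮h.deg U hU) _ ((𝒮h.strZero U hU).hom r)) =
    (𝒮.str.app (op U)).hom r
  rw [hval, hstr, RelCone.IsPolyOver.evalOne_ι]

/-- `i` on the chart over `U`, pointwise. -/
theorem coneImm_apply {i : 𝒮.toQCAlg.spec ⟶ PC} (hi : RelCone.IsConeImm 𝒮 hz pC chartC i)
    (U : Y.Opens) (hU : IsAffineOpen U) (P : Spec (𝒮.presheaf.obj (op U))) :
    i.base ((𝒮.toQCAlg.ι U hU).base P) =
      (RelProj.emb pC chartC U hU).base ((kappa hz U hU).base P) := by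
  have h1 : 𝒮.toQCAlg.ι U hU ≫ i = kappa hz U hU ≫ RelProj.emb pC chartC U hU := by
    rw [hi U hU, kappa, Category.assoc]
  exact congrArg (fun f => f.base P) h1

theorem pointedProjCone_eq (h0 : RelCone.StrZeroBij 𝒮)
    (hPC : RelProj.IsRelProj 𝒮h pC chartC)
    (aug : 𝒮.toQCAlg ⟶ RelSpec.QCAlg.unit Y) (haug : RelCone.IsAugmentation 𝒮 aug)
    (ε : Y ⟶ 𝒮.toQCAlg.spec) (hε : RelCone.IsVertex 𝒮 aug ε)
    (i : 𝒮.toQCAlg.spec ⟶ PC) (hi : RelCone.IsConeImm 𝒮 hz pC chartC i) :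
    ((RelCone.pointedProjCone 𝒮 hz pC chartC : PC.Opens) : Set PC) =
      (Set.range (ε ≫ i).base)ᶜ := by
  have hover := coneImm_over hz hPC hi
  ext x
  rw [Set.mem_compl_iff, SetLike.mem_coe, RelCone.pointedProjCone, Opens.mem_iSup]
  constructor
  · rintro ⟨⟨U, hU⟩, p, hp, hpx⟩ ⟨t, ht⟩
    have hpx' : (RelProj.emb pC chartC U hU).base p = x := hpx
    have ht' : i.base (ε.base t) = x := ht
    have htU : t ∈ U := by
      have h1 := pC_emb_mem pC chartC U hU p
      rw [hpx', ← ht'] at h1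
      have h2 : pC.base (i.base (ε.base t)) = t := by
        have e1 : (ε ≫ i ≫ pC).base t = t := by
          rw [hover, hε.comp_π]
          rfl
        exact e1
      rw [h2] at h1
      exact h1
    obtain ⟨t', rfl⟩ : ∃ t' : Spec Γ(Y, U), hU.fromSpec.base t' = t := by
      have h2 : t ∈ Set.range hU.fromSpec.base := by
        rw [hU.range_fromSpec]
        exact htU
      exact h2
    rw [vertex_apply 𝒮 aug ε hε U hU t', coneImm_apply hz hi U hU, ← hpx'] at ht'
    have hpk := emb_injective pC chartC U hU ht'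
    have hle : (HomogeneousIdeal.irrelevant (𝒮.deg U hU)).toIdeal ≤
        ((Spec.map (augApp 𝒮.toQCAlg aug U)).base t').asIdeal := by
      intro a ha
      change (augApp 𝒮.toQCAlg aug U).hom a ∈ t'.asIdeal
      rw [irrelevant_le_ker_aug 𝒮 aug haug U hU a ha]
      exact zero_mem _
    have hnot := (irrelevant_le_iff hz U hU _).1 hle
    rw [hpk] at hnot
    exact hnot hp
  · intro hx
    obtain ⟨U, hU, hxU, -⟩ := exists_isAffineOpen_mem_and_subset
      (x := pC.base x) (U := ⊤) trivial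
    obtain ⟨p, rfl⟩ := exists_emb_of_mem pC chartC U hU x hxU
    refine ⟨⟨U, hU⟩, p, ?_, rfl⟩
    by_contra hp
    apply hx
    obtain ⟨P, rfl⟩ := exists_kappa_of_not_mem_domOpen hz U hU p hp
    have hle := (irrelevant_le_iff hz U hU P).2 hp
    have hnot : (𝒮.toQCAlg.ι U hU).base P ∉ RelCone.pointedCone 𝒮 :=
      fun hmem => ((ι_mem_pointedCone_iff 𝒮 U hU P).1 hmem) hle
    have hrange : (𝒮.toQCAlg.ι U hU).base P ∈ Set.range ε.base := by
      have h3 := pointedCone_eq 𝒮 h0 aug haug ε hε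
      by_contra hcon
      apply hnot
      have h4 : (𝒮.toQCAlg.ι U hU).base P ∈
          ((RelCone.pointedCone 𝒮 : 𝒮.toQCAlg.spec.Opens) : Set 𝒮.toQCAlg.spec) := by
        rw [h3]
        exact hcon
      exact h4
    obtain ⟨t, ht⟩ := hrange
    refine ⟨t, ?_⟩
    change i.base (ε.base t) = _
    rw [ht, coneImm_apply hz hi U hU]

end Groth.Agent.Lib.Helper6.PointedProjCone
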