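import Mathlib

/-!
# Upper semicontinuity of fibre rank of a finite module under generization.
-/

namespace Groth.Agent.Lib.Helper6.FiberRankMono

open TensorProduct Module

variable {A : Type*} [CommRing A] (M : Type*) [AddCommGroup M] [Module A M] [Module.Finite A M]

/-- Generators of the localization `M_P`, as many as the dimension of the fibre at `P`. -/
theorem exists_span_localization (P : Ideal A) [P.IsPrime] :
    ∃ f : Fin (finrank P.ResidueField (P.ResidueField ⊗[A] M)) → Localization.AtPrime P ⊗[A] M,
      Submodule.span (Localization.AtPrime P) (Set.range f) = ⊤ := by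
  let e := AlgebraTensorModule.cancelBaseChange A (Localization.AtPrime P) P.ResidueField
    P.ResidueField M
  have hr : finrank P.ResidueField (P.ResidueField ⊗[Localization.AtPrime P]
      (Localization.AtPrime P ⊗[A] M)) = finrank P.ResidueField (P.ResidueField ⊗[A] M) :=
    e.finrank_eq
  let b := Module.finBasis P.ResidueField (P.ResidueField ⊗[Localization.AtPrime P]
      (Localization.AtPrime P ⊗[A] M))
  have hsurj := TensorProduct.mk_surjective (Localization.AtPrime P)
    (Localization.AtPrime P ⊗[A] M) P.ResidueField IsLocalRing.residue_surjective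
  choose f hf using fun i => hsurj (b i)
  have hspan := IsLocalRing.span_eq_top_of_tmul_eq_basis f b hf
  refine ⟨f ∘ (finCongr hr.symm), ?_⟩
  rw [(finCongr hr.symm).surjective.range_comp f]
  exact hspan

theorem finrank_fiber_mono (q P : Ideal A) [q.IsPrime] [P.IsPrime] (h : q ≤ P) :
    finrank q.ResidueField (q.ResidueField ⊗[A] M) ≤
      finrank P.ResidueField (P.ResidueField ⊗[A] M) := by
  obtain ⟨f, hf⟩ := exists_span_localization M P
  have hunit : ∀ y : P.primeCompl, IsUnit (algebraMap A q.ResidueField y) := by
    intro y
    rw [isUnit_iff_ne_zero, Ne, Ideal.algebraMap_residueField_eq_zero]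
    exact fun hy => y.2 (h hy)
  let _ : Algebra (Localization.AtPrime P) q.ResidueField :=
    (IsLocalization.lift (M := P.primeCompl) (g := algebraMap A q.ResidueField) hunit).toAlgebra
  have : IsScalarTower A (Localization.AtPrime P) q.ResidueField :=
    IsScalarTower.of_algebraMap_eq (fun x => (IsLocalization.lift_eq hunit x).symm)
  let e := AlgebraTensorModule.cancelBaseChange A (Localization.AtPrime P) q.ResidueField
    q.ResidueField M
  rw [← e.finrank_eq]
  have hspan : Submodule.span q.ResidueField
      (TensorProduct.mk (Localization.AtPrime P) q.ResidueField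
        (Localization.AtPrime P ⊗[A] M) 1 '' Set.range f) = ⊤ := by
    rw [← Submodule.baseChange_span, hf, Submodule.baseChange_top]
  have hcard := finrank_range_le_card (R := q.ResidueField)
    (fun i => TensorProduct.mk (Localization.AtPrime P) q.ResidueField
        (Localization.AtPrime P ⊗[A] M) 1 (f i))
  have hrange : Set.range (fun i => TensorProduct.mk (Localization.AtPrime P) q.ResidueField
        (Localization.AtPrime P ⊗[A] M) 1 (f i)) =
      TensorProduct.mk (Localization.AtPrime P) q.ResidueField
        (Localization.AtPrime P ⊗[A] M) 1 '' Set.range f := by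
    rw [← Set.range_comp]; rfl
  rw [hrange, Set.finrank, hspan, finrank_top, Fintype.card_fin] at hcard
  exact hcard

end Groth.Agent.Lib.Helper6.FiberRankMono
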