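import Mathlib
import Groth.Prelude.Def_PP16
import Groth.Agent.Lib.Helper6.QuasiRegChange
import Groth.Agent.Lib.Helper6.QuasiRegBasis

/-!
Helper6: faithfully flat descent of (locally) quasi-regular ideals.

The quasi-regularity of a sequence in a localization `R_g` is rephrased intrinsically over `R`
(`QRA`, `GenA`), which makes changes of the basic open harmless.
-/

set_option autoImplicit false

namespace Groth.Agent.Lib.Helper6.QRDescent

universe u

open MvPolynomial

section intrinsic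

variable {R : Type u} [CommRing R]

/-- intrinsic quasi-regularity of `f` for the ideal `𝔞` after inverting `g`. -/
def QRA (g : R) (𝔞 : Ideal R) {c : ℕ} (f : Fin c → R) : Prop :=
  ∀ (n : ℕ) (P : MvPolynomial (Fin c) R), P.IsHomogeneous n →
    (∃ N : ℕ, g ^ N * eval f P ∈ 𝔞 ^ (n + 1)) → ∀ d : Fin c →₀ ℕ, ∃ N : ℕ, g ^ N * P.coeff d ∈ 𝔞

/-- `f` generates `𝔞` after inverting `g`. -/
def GenA (g : R) (𝔞 : Ideal R) {c : ℕ} (f : Fin c → R) : Prop :=
  (∀ i, ∃ N : ℕ, g ^ N * f i ∈ 𝔞) ∧ ∀ x ∈ 𝔞, ∃ N : ℕ, g ^ N * x ∈ Ideal.span (Set.range f)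

theorem mem_map_away (g : R) (T : Type u) [CommRing T] [Algebra R T] [IsLocalization.Away g T]
    (𝔞 : Ideal R) (x : R) :
    algebraMap R T x ∈ 𝔞.map (algebraMap R T) ↔ ∃ N : ℕ, g ^ N * x ∈ 𝔞 := by
  constructor
  · intro h
    rw [IsLocalization.mem_map_algebraMap_iff (Submonoid.powers g) T] at h
    obtain ⟨⟨i, m⟩, hm⟩ := h
    rw [← map_mul] at hm
    obtain ⟨c, hc⟩ := (IsLocalization.eq_iff_exists (Submonoid.powers g) T).mp hm
    obtain ⟨k, hk⟩ := (Submonoid.mem_powers_iff _ _).mp c.2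
    obtain ⟨l, hl⟩ := (Submonoid.mem_powers_iff _ _).mp m.2
    refine ⟨k + l, ?_⟩
    have h1 : g ^ (k + l) * x = (c : R) * (x * (m : R)) := by
      rw [← hk, ← hl]; ring
    rw [h1, hc]
    exact 𝔞.mul_mem_left _ i.2
  · rintro ⟨N, hN⟩
    have h1 : algebraMap R T (g ^ N * x) ∈ 𝔞.map (algebraMap R T) := Ideal.mem_map_of_mem _ hN
    rw [map_mul] at h1
    have hu : IsUnit (algebraMap R T (g ^ N)) :=
      IsLocalization.map_units T (⟨g ^ N, (Submonoid.powers g).pow_mem (Submonoid.mem_powers g) N⟩ : Submonoid.powers g)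
    exact (Ideal.unit_mul_mem_iff_mem _ hu).mp h1

theorem clear_denoms (g : R) (T : Type u) [CommRing T] [Algebra R T] [IsLocalization.Away g T]
    {c : ℕ} (P : MvPolynomial (Fin c) T) (n : ℕ) (hP : P.IsHomogeneous n) :
    ∃ (k : ℕ) (P₁ : MvPolynomial (Fin c) R), P₁.IsHomogeneous n ∧
      ∀ d, algebraMap R T (P₁.coeff d) = algebraMap R T (g ^ k) * P.coeff d := by
  classical
  obtain ⟨b, hb⟩ := IsLocalization.exist_integer_multiples_of_finset (Submonoid.powers g)
    (P.support.image (fun d => P.coeff d))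
  obtain ⟨k, hk⟩ := (Submonoid.mem_powers_iff _ _).mp b.2
  have hb' : ∀ d ∈ P.support, ∃ r : R, algebraMap R T r = algebraMap R T (g ^ k) * P.coeff d := by
    intro d hd
    obtain ⟨r, hr⟩ := hb (P.coeff d) (Finset.mem_image_of_mem _ hd)
    refine ⟨r, ?_⟩
    rw [hr, hk, Algebra.smul_def]
  choose! r hr using hb'
  refine ⟨k, ∑ d ∈ P.support, monomial d (r d), ?_, ?_⟩
  · apply IsHomogeneous.sum
    intro d hd
    apply isHomogeneous_monomial
    rw [Finsupp.degree_eq_weight_one]
    exact hP (mem_support_iff.mp hd)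
  · intro d
    rw [coeff_sum]
    simp only [coeff_monomial]
    rw [Finset.sum_ite_eq']
    split_ifs with hd
    · exact hr d hd
    · rw [map_zero, notMem_support_iff.mp hd, mul_zero]

theorem span_comp {T : Type u} [CommRing T] (ψ : R →+* T) {c : ℕ} (f : Fin c → R) :
    Ideal.span (Set.range (fun i => ψ (f i))) = (Ideal.span (Set.range f)).map ψ := by
  rw [Ideal.map_span, ← Set.range_comp]
  rfl

theorem eval_map_comp {T : Type u} [CommRing T] (ψ : R →+* T) {c : ℕ} (f : Fin c → R)
    (P : MvPolynomial (Fin c) R) :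
    eval (fun i => ψ (f i)) (map ψ P) = ψ (eval f P) := by
  have h := eval₂_comp_left ψ (RingHom.id R) f P
  rw [eval₂_id, RingHom.comp_id] at h
  rw [eval_map, h]
  rfl

theorem genA_iff (g : R) (T : Type u) [CommRing T] [Algebra R T] [IsLocalization.Away g T]
    (𝔞 : Ideal R) {c : ℕ} (f : Fin c → R) :
    Ideal.span (Set.range (fun i => algebraMap R T (f i))) = 𝔞.map (algebraMap R T) ↔
      GenA g 𝔞 f := by
  rw [span_comp]
  constructor
  · intro h
    refine ⟨fun i => ?_, fun x hx => ?_⟩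
    · rw [← mem_map_away g T, ← h]
      exact Ideal.mem_map_of_mem _ (Ideal.subset_span ⟨i, rfl⟩)
    · rw [← mem_map_away g T, h]
      exact Ideal.mem_map_of_mem _ hx
  · rintro ⟨h1, h2⟩
    apply le_antisymm
    · rw [Ideal.map_le_iff_le_comap, Ideal.span_le]
      rintro _ ⟨i, rfl⟩
      exact (mem_map_away g T 𝔞 (f i)).mpr (h1 i)
    · rw [Ideal.map_le_iff_le_comap]
      intro x hx
      exact (mem_map_away g T _ x).mpr (h2 x hx)

theorem qr_iff_qra (g : R) (T : Type u) [CommRing T] [Algebra R T] [IsLocalization.Away g T]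
    (𝔞 : Ideal R) {c : ℕ} (f : Fin c → R)
    (hspan : Ideal.span (Set.range (fun i => algebraMap R T (f i))) = 𝔞.map (algebraMap R T)) :
    CAlgX.IsQuasiRegular (fun i => algebraMap R T (f i)) ↔ QRA g 𝔞 f := by
  constructor
  · intro hq n P hP hN d
    obtain ⟨N, hN⟩ := hN
    have hmem : eval (fun i => algebraMap R T (f i)) (map (algebraMap R T) P) ∈
        Ideal.span (Set.range (fun i => algebraMap R T (f i))) ^ (n + 1) := by
      rw [eval_map_comp, hspan, ← Ideal.map_pow]
      have h2 : algebraMap R T (g ^ N * eval f P) ∈ (𝔞 ^ (n + 1)).map (algebraMap R T) :=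
        Ideal.mem_map_of_mem _ hN
      rw [map_mul] at h2
      exact (Ideal.unit_mul_mem_iff_mem _ (IsLocalization.map_units T
        (⟨g ^ N, (Submonoid.powers g).pow_mem (Submonoid.mem_powers g) N⟩ : Submonoid.powers g))).mp h2
    have h1 := hq n (map (algebraMap R T) P) (hP.map _) hmem d
    rw [coeff_map, hspan] at h1
    exact (mem_map_away g T 𝔞 _).mp h1
  · intro hq n P hP hev d
    obtain ⟨k, P₁, hP₁, hc⟩ := clear_denoms g T P n hP
    have hmap : map (algebraMap R T) P₁ = C (algebraMap R T (g ^ k)) * P := by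
      ext e
      rw [coeff_map, coeff_C_mul, hc]
    have h1 : algebraMap R T (eval f P₁) ∈ (𝔞 ^ (n + 1)).map (algebraMap R T) := by
      rw [← eval_map_comp, hmap, map_mul, eval_C, Ideal.map_pow, ← hspan]
      exact Ideal.mul_mem_left _ _ hev
    obtain ⟨N, hN⟩ := (mem_map_away g T _ _).mp h1
    obtain ⟨N', hN'⟩ := hq n P₁ hP₁ ⟨N, hN⟩ d
    have h2 : algebraMap R T (P₁.coeff d) ∈ 𝔞.map (algebraMap R T) :=
      (mem_map_away g T 𝔞 _).mpr ⟨N', hN'⟩
    rw [hc] at h2
    rw [hspan]
    exact (Ideal.unit_mul_mem_iff_mem _ (IsLocalization.map_units T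
      (⟨g ^ k, (Submonoid.powers g).pow_mem (Submonoid.mem_powers g) k⟩ : Submonoid.powers g))).mp h2

theorem QRA.mono {g : R} {𝔞 : Ideal R} {c : ℕ} {f : Fin c → R} (h : QRA g 𝔞 f) (u : R) :
    QRA (g * u) 𝔞 f := by
  intro n P hP hN d
  obtain ⟨N, hN⟩ := hN
  have h0 : g ^ N * eval f (C (u ^ N) * P) ∈ 𝔞 ^ (n + 1) := by
    rw [map_mul, eval_C]
    have h1 : g ^ N * (u ^ N * eval f P) = (g * u) ^ N * eval f P := by ring
    rw [h1]
    exact hN
  obtain ⟨N', hN'⟩ := h n (C (u ^ N) * P) (hP.C_mul _) ⟨N, h0⟩ d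
  rw [coeff_C_mul] at hN'
  refine ⟨N + N', ?_⟩
  have h2 : (g * u) ^ (N + N') * coeff d P = (g ^ N * u ^ N') * (g ^ N' * (u ^ N * coeff d P)) := by
    ring
  rw [h2]
  exact 𝔞.mul_mem_left _ hN'

theorem GenA.mono {g : R} {𝔞 : Ideal R} {c : ℕ} {f : Fin c → R} (h : GenA g 𝔞 f) (u : R) :
    GenA (g * u) 𝔞 f := by
  refine ⟨fun i => ?_, fun x hx => ?_⟩
  · obtain ⟨N, hN⟩ := h.1 i
    refine ⟨N, ?_⟩
    have h1 : (g * u) ^ N * f i = u ^ N * (g ^ N * f i) := by ring
    rw [h1]
    exact 𝔞.mul_mem_left _ hN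
  · obtain ⟨N, hN⟩ := h.2 x hx
    refine ⟨N, ?_⟩
    have h1 : (g * u) ^ N * x = u ^ N * (g ^ N * x) := by ring
    rw [h1]
    exact Ideal.mul_mem_left _ _ hN

theorem exists_intrinsic (g : R) {r : ℕ} (e : Fin r → Localization.Away g) (𝔞 : Ideal R)
    (hq : CAlgX.IsQuasiRegular e)
    (hs : Ideal.span (Set.range e) = 𝔞.map (algebraMap R (Localization.Away g))) :
    ∃ ε : Fin r → R, QRA g 𝔞 ε ∧ GenA g 𝔞 ε := by
  classical
  choose x hx using fun j => IsLocalization.surj (Submonoid.powers g) (e j)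
  have hu : ∀ j, IsUnit (algebraMap R (Localization.Away g) ((x j).2 : R)) :=
    fun j => IsLocalization.map_units _ (x j).2
  have hspan' : Ideal.span (Set.range (fun j => algebraMap R (Localization.Away g) (x j).1)) =
      Ideal.span (Set.range e) := by
    apply le_antisymm
    · rw [Ideal.span_le]
      rintro _ ⟨j, rfl⟩
      show algebraMap R _ (x j).1 ∈ _
      rw [← hx j, mul_comm]
      exact Ideal.mul_mem_left _ _ (Ideal.subset_span ⟨j, rfl⟩)
    · rw [Ideal.span_le]
      rintro _ ⟨j, rfl⟩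
      have h1 : e j * algebraMap R (Localization.Away g) ((x j).2 : R) ∈
          Ideal.span (Set.range (fun j => algebraMap R (Localization.Away g) (x j).1)) := by
        rw [hx j]
        exact Ideal.subset_span ⟨j, rfl⟩
      rw [mul_comm] at h1
      exact (Ideal.unit_mul_mem_iff_mem _ (hu j)).mp h1
  have hq' : CAlgX.IsQuasiRegular (fun j => algebraMap R (Localization.Away g) (x j).1) :=
    Groth.Agent.Lib.Helper6.QuasiRegChange.isQuasiRegular_of_span_eq e _ hq hspan'
  have hs' := hspan'.trans hs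
  exact ⟨fun j => (x j).1, (qr_iff_qra g _ 𝔞 _ hs').mp hq', (genA_iff g _ 𝔞 _).mp hs'⟩

end intrinsic

/-- every relation among the `f i` has its coefficients in `P`. -/
def MinRel {A : Type u} [CommRing A] {ρ : ℕ} (f : Fin ρ → A) (P : Ideal A) : Prop :=
  ∀ a : Fin ρ → A, ∑ i, a i * f i = 0 → ∀ i, a i ∈ P

theorem rel_coeff_mem {A C : Type u} [CommRing A] [CommRing C] [Algebra A C] [Module.Flat A C]
    {ρ : ℕ} (f : Fin ρ → A) (P : Ideal A) (hmin : MinRel f P)
    (b : Fin ρ → C) (hb : ∑ i, b i * algebraMap A C (f i) = 0) (i : Fin ρ) :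
    b i ∈ P.map (algebraMap A C) := by
  have h0 : ∑ i, f i • b i = 0 := by
    rw [← hb]
    apply Finset.sum_congr rfl
    intro i _
    rw [Algebra.smul_def, mul_comm]
  obtain ⟨k, a, y, hxy, ha⟩ :=
    Module.Flat.isTrivialRelation_of_sum_smul_eq_zero (R := A) (M := C) (f := f) (x := b) h0
  rw [hxy i]
  apply Ideal.sum_mem
  intro j _
  rw [Algebra.smul_def]
  apply Ideal.mul_mem_right
  apply Ideal.mem_map_of_mem
  refine hmin (fun i => a i j) ?_ i
  rw [← ha j]
  exact Finset.sum_congr rfl (fun i _ => mul_comm _ _)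

theorem minRel_of_minimal {A : Type u} [CommRing A] (I : Ideal A) (P : Ideal A) [P.IsPrime]
    (ρ : ℕ) (f : Fin ρ → A) (g : A) (hg : g ∉ P) (hgen : GenA g I f)
    (hmin : ∀ ρ' < ρ, ¬ ∃ (f' : Fin ρ' → A) (g' : A), g' ∉ P ∧ GenA g' I f') :
    MinRel f P := by
  intro a ha j
  by_contra hj
  obtain ⟨ρ', rfl⟩ := Nat.exists_eq_succ_of_ne_zero (Nat.pos_iff_ne_zero.mp j.pos)
  refine hmin ρ' (Nat.lt_succ_self _) ⟨fun k => f (j.succAbove k), g * a j, ?_, ?_, ?_⟩
  · exact fun h => (Ideal.IsPrime.mem_or_mem ‹_› h).elim hg hj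
  · intro k
    obtain ⟨N, hN⟩ := hgen.1 (j.succAbove k)
    refine ⟨N, ?_⟩
    have h1 : (g * a j) ^ N * f (j.succAbove k) = a j ^ N * (g ^ N * f (j.succAbove k)) := by ring
    rw [h1]
    exact I.mul_mem_left _ hN
  · intro x hx
    obtain ⟨N, hN⟩ := hgen.2 x hx
    obtain ⟨c, hc⟩ := Ideal.mem_span_range_iff_exists_fun.mp hN
    refine ⟨N + 1, ?_⟩
    have hS : a j * (g ^ N * x) =
        ∑ k, (c (j.succAbove k) * a j - c j * a (j.succAbove k)) * f (j.succAbove k) := by
      rw [← hc, Finset.mul_sum, Fin.sum_univ_succAbove _ j]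
      have ha' := ha
      rw [Fin.sum_univ_succAbove _ j] at ha'
      have h3 : a j * f j = - ∑ k, a (j.succAbove k) * f (j.succAbove k) :=
        eq_neg_of_add_eq_zero_left ha'
      have h4 : a j * (c j * f j) = - ∑ k, c j * (a (j.succAbove k) * f (j.succAbove k)) := by
        rw [← Finset.mul_sum, ← mul_neg, ← h3]
        ring
      rw [h4, neg_add_eq_sub, ← Finset.sum_sub_distrib]
      apply Finset.sum_congr rfl
      intro k _
      ring
    have h5 : (g * a j) ^ (N + 1) * x = (g * a j ^ N) * (a j * (g ^ N * x)) := by ring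
    rw [h5, hS]
    apply Ideal.mul_mem_left
    exact Ideal.mem_span_range_iff_exists_fun.mpr ⟨_, rfl⟩

theorem rank_eq {A B : Type u} [CommRing A] [CommRing B] [Algebra A B]
    (T : Type u) [CommRing T] [Algebra B T] [Algebra A T] [IsScalarTower A B T] [Module.Flat A T]
    (h : B) [IsLocalization.Away h T]
    (I' : Ideal B) {ρ r : ℕ} (f : Fin ρ → A) (ε : Fin r → B)
    (Q : Ideal B) [Q.IsPrime] (hIQ : I' ≤ Q) (hhQ : h ∉ Q)
    (hmin : MinRel f (Q.comap (algebraMap A B)))
    (hspε : Ideal.span (Set.range fun j => algebraMap B T (ε j)) = I'.map (algebraMap B T))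
    (hspf : Ideal.span (Set.range fun i => algebraMap B T (algebraMap A B (f i))) =
      I'.map (algebraMap B T))
    (hqe : CAlgX.IsQuasiRegular (fun j => algebraMap B T (ε j))) : ρ = r := by
  classical
  have hχ₀ : ∀ b : B, algebraMap B Q.ResidueField b = 0 ↔ b ∈ Q :=
    fun b => Ideal.algebraMap_residueField_eq_zero
  have hunit : IsUnit (algebraMap B Q.ResidueField h) :=
    isUnit_iff_ne_zero.mpr (fun h0 => hhQ ((hχ₀ h).mp h0))
  let χ : T →+* Q.ResidueField := IsLocalization.Away.lift h hunit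
  have hχψ : ∀ b : B, χ (algebraMap B T b) = algebraMap B Q.ResidueField b :=
    fun b => IsLocalization.Away.lift_eq h hunit b
  have hker1 : ∀ t ∈ I'.map (algebraMap B T), χ t = 0 := by
    intro t ht
    have h1 : I'.map (algebraMap B T) ≤ RingHom.ker χ := by
      rw [Ideal.map_le_iff_le_comap]
      intro b hb
      rw [Ideal.mem_comap, RingHom.mem_ker, hχψ, hχ₀]
      exact hIQ hb
    exact h1 ht
  have hker2 : ∀ t ∈ (Q.comap (algebraMap A B)).map (algebraMap A T), χ t = 0 := by
    intro t ht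
    have h1 : (Q.comap (algebraMap A B)).map (algebraMap A T) ≤ RingHom.ker χ := by
      rw [Ideal.map_le_iff_le_comap]
      intro a ha
      rw [Ideal.mem_comap, RingHom.mem_ker, IsScalarTower.algebraMap_apply A B T, hχψ, hχ₀]
      exact ha
    exact h1 ht
  have hfT : ∀ l, algebraMap A T (f l) = algebraMap B T (algebraMap A B (f l)) :=
    fun l => IsScalarTower.algebraMap_apply A B T (f l)
  have h1 : ∀ j, algebraMap B T (ε j) ∈
      Ideal.span (Set.range fun i => algebraMap B T (algebraMap A B (f i))) := fun j => by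
    rw [hspf, ← hspε]
    exact Ideal.subset_span ⟨j, rfl⟩
  have h2 : ∀ i, algebraMap B T (algebraMap A B (f i)) ∈
      Ideal.span (Set.range fun j => algebraMap B T (ε j)) := fun i => by
    rw [hspε, ← hspf]
    exact Ideal.subset_span ⟨i, rfl⟩
  choose Nm hNm using fun j => Ideal.mem_span_range_iff_exists_fun.mp (h1 j)
  choose Mm hMm using fun i => Ideal.mem_span_range_iff_exists_fun.mp (h2 i)
  have hNM : ∀ j l, χ (∑ i, Nm j i * Mm i l) = if j = l then 1 else 0 := by
    intro j l
    have hrel : ∑ l', ((∑ i, Nm j i * Mm i l') - (if j = l' then 1 else 0)) *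
        algebraMap B T (ε l') = 0 := by
      simp only [sub_mul, Finset.sum_sub_distrib, ite_mul, one_mul, zero_mul, Finset.sum_ite_eq,
        Finset.mem_univ, if_true]
      rw [sub_eq_zero]
      calc ∑ l', (∑ i, Nm j i * Mm i l') * algebraMap B T (ε l')
          = ∑ l', ∑ i, Nm j i * (Mm i l' * algebraMap B T (ε l')) := by
            apply Finset.sum_congr rfl
            intro l' _
            rw [Finset.sum_mul]
            apply Finset.sum_congr rfl
            intro i _
            ring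
        _ = ∑ i, ∑ l', Nm j i * (Mm i l' * algebraMap B T (ε l')) := Finset.sum_comm
        _ = ∑ i, Nm j i * algebraMap B T (algebraMap A B (f i)) := by
            apply Finset.sum_congr rfl
            intro i _
            rw [← Finset.mul_sum, hMm i]
        _ = algebraMap B T (ε j) := hNm j
    have hmem := Groth.Agent.Lib.Helper6.QuasiRegBasis.coeff_mem_of_sum_mem_sq _ hqe
      (fun l' => (∑ i, Nm j i * Mm i l') - (if j = l' then 1 else 0))
      (by rw [hrel]; exact zero_mem _) l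
    rw [hspε] at hmem
    have h3 := hker1 _ hmem
    rw [map_sub, sub_eq_zero] at h3
    rw [h3]
    split_ifs
    · exact map_one χ
    · exact map_zero χ
  have hMN : ∀ i l, χ (∑ j, Mm i j * Nm j l) = if i = l then 1 else 0 := by
    intro i l
    have hrel : ∑ l', ((∑ j, Mm i j * Nm j l') - (if i = l' then 1 else 0)) *
        algebraMap A T (f l') = 0 := by
      simp only [hfT, sub_mul, Finset.sum_sub_distrib, ite_mul, one_mul, zero_mul,
        Finset.sum_ite_eq, Finset.mem_univ, if_true]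
      rw [sub_eq_zero]
      calc ∑ l', (∑ j, Mm i j * Nm j l') * algebraMap B T (algebraMap A B (f l'))
          = ∑ l', ∑ j, Mm i j * (Nm j l' * algebraMap B T (algebraMap A B (f l'))) := by
            apply Finset.sum_congr rfl
            intro l' _
            rw [Finset.sum_mul]
            apply Finset.sum_congr rfl
            intro j _
            ring
        _ = ∑ j, ∑ l', Mm i j * (Nm j l' * algebraMap B T (algebraMap A B (f l'))) :=
            Finset.sum_comm
        _ = ∑ j, Mm i j * algebraMap B T (ε j) := by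
            apply Finset.sum_congr rfl
            intro j _
            rw [← Finset.mul_sum, hNm j]
        _ = algebraMap B T (algebraMap A B (f i)) := hMm i
    have hmem := rel_coeff_mem f _ hmin
      (fun l' => (∑ j, Mm i j * Nm j l') - (if i = l' then 1 else 0)) hrel l
    have h3 := hker2 _ hmem
    rw [map_sub, sub_eq_zero] at h3
    rw [h3]
    split_ifs
    · exact map_one χ
    · exact map_zero χ
  let X : Matrix (Fin r) (Fin ρ) Q.ResidueField := Matrix.of (fun j i => χ (Nm j i))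
  let Y : Matrix (Fin ρ) (Fin r) Q.ResidueField := Matrix.of (fun i j => χ (Mm i j))
  have hXY : X * Y = 1 := by
    ext j l
    rw [Matrix.mul_apply, Matrix.one_apply, ← hNM j l, map_sum]
    apply Finset.sum_congr rfl
    intro i _
    rw [map_mul]
    rfl
  have hYX : Y * X = 1 := by
    ext i l
    rw [Matrix.mul_apply, Matrix.one_apply, ← hMN i l, map_sum]
    apply Finset.sum_congr rfl
    intro j _
    rw [map_mul]
    rfl
  have hle1 : r ≤ ρ := by
    have h3 := Matrix.rank_mul_le_left X Y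
    rw [hXY, Matrix.rank_one, Fintype.card_fin] at h3
    have h4 := Matrix.rank_le_card_width X
    rw [Fintype.card_fin] at h4
    exact h3.trans h4
  have hle2 : ρ ≤ r := by
    have h3 := Matrix.rank_mul_le_left Y X
    rw [hYX, Matrix.rank_one, Fintype.card_fin] at h3
    have h4 := Matrix.rank_le_card_width Y
    rw [Fintype.card_fin] at h4
    exact h3.trans h4
  exact le_antisymm hle2 hle1

theorem lemmaL {A B : Type u} [CommRing A] [CommRing B] [Algebra A B] [Module.Flat A B]
    (I : Ideal A) {ρ : ℕ} (f : Fin ρ → A) (g₁ : A) (hgen : GenA g₁ I f)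
    (Q : Ideal B) [Q.IsPrime] (hIQ : I.map (algebraMap A B) ≤ Q)
    (hmin : MinRel f (Q.comap (algebraMap A B)))
    (h₀ : B) (hh₀ : h₀ ∉ Q) {r : ℕ} (ε : Fin r → B)
    (hqε : QRA h₀ (I.map (algebraMap A B)) ε) (hgε : GenA h₀ (I.map (algebraMap A B)) ε)
    (u : B) (hu : u ∉ Q) (hdiv : algebraMap A B g₁ ∣ u) :
    QRA (h₀ * u) (I.map (algebraMap A B)) (fun i => algebraMap A B (f i)) := by
  classical
  have hhQ : h₀ * u ∉ Q := fun hmem => (Ideal.IsPrime.mem_or_mem ‹_› hmem).elim hh₀ hu
  have hqε' : QRA (h₀ * u) (I.map (algebraMap A B)) ε := hqε.mono u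
  have hgε' : GenA (h₀ * u) (I.map (algebraMap A B)) ε := hgε.mono u
  have hgf : GenA (h₀ * u) (I.map (algebraMap A B)) (fun i => algebraMap A B (f i)) := by
    obtain ⟨w, hw⟩ := hdiv
    refine ⟨fun i => ?_, ?_⟩
    · obtain ⟨N, hN⟩ := hgen.1 i
      refine ⟨N, ?_⟩
      have h1 : algebraMap A B (g₁ ^ N * f i) ∈ I.map (algebraMap A B) :=
        Ideal.mem_map_of_mem _ hN
      have h2 : (h₀ * u) ^ N * algebraMap A B (f i) =
          (h₀ * w) ^ N * algebraMap A B (g₁ ^ N * f i) := by
        rw [hw, map_mul, map_pow]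
        ring
      rw [h2]
      exact Ideal.mul_mem_left _ _ h1
    · intro x hx
      have hx' : x ∈ Submodule.span B (algebraMap A B '' (I : Set A)) := hx
      refine Submodule.span_induction (p := fun x _ => ∃ N : ℕ, (h₀ * u) ^ N * x ∈
        Ideal.span (Set.range fun i => algebraMap A B (f i))) ?_ ?_ ?_ ?_ hx'
      · rintro _ ⟨y, hy, rfl⟩
        obtain ⟨N, hN⟩ := hgen.2 y hy
        refine ⟨N, ?_⟩
        have h1 : algebraMap A B (g₁ ^ N * y) ∈
            (Ideal.span (Set.range f)).map (algebraMap A B) := Ideal.mem_map_of_mem _ hN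
        rw [← span_comp] at h1
        have h2 : (h₀ * u) ^ N * algebraMap A B y =
            (h₀ * w) ^ N * algebraMap A B (g₁ ^ N * y) := by
          rw [hw, map_mul, map_pow]
          ring
        rw [h2]
        exact Ideal.mul_mem_left _ _ h1
      · exact ⟨0, by rw [mul_zero]; exact zero_mem _⟩
      · rintro x y _ _ ⟨N, hN⟩ ⟨N', hN'⟩
        refine ⟨N + N', ?_⟩
        have h2 : (h₀ * u) ^ (N + N') * (x + y) =
            (h₀ * u) ^ N' * ((h₀ * u) ^ N * x) + (h₀ * u) ^ N * ((h₀ * u) ^ N' * y) := by ring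
        rw [h2]
        exact Ideal.add_mem _ (Ideal.mul_mem_left _ _ hN) (Ideal.mul_mem_left _ _ hN')
      · rintro a x _ ⟨N, hN⟩
        refine ⟨N, ?_⟩
        have h2 : (h₀ * u) ^ N * (a • x) = a * ((h₀ * u) ^ N * x) := by
          rw [smul_eq_mul]
          ring
        rw [h2]
        exact Ideal.mul_mem_left _ _ hN
  have hspε := (genA_iff (h₀ * u) (Localization.Away (h₀ * u)) (I.map (algebraMap A B)) ε).mpr hgε'
  have hspf := (genA_iff (h₀ * u) (Localization.Away (h₀ * u)) (I.map (algebraMap A B))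
    (fun i => algebraMap A B (f i))).mpr hgf
  have hqe := (qr_iff_qra (h₀ * u) (Localization.Away (h₀ * u)) (I.map (algebraMap A B)) ε
    hspε).mpr hqε'
  have hρr : ρ = r := rank_eq (Localization.Away (h₀ * u)) (h₀ * u) (I.map (algebraMap A B)) f ε Q
    hIQ hhQ hmin hspε hspf hqe
  subst hρr
  have hqf : CAlgX.IsQuasiRegular (fun i => algebraMap B (Localization.Away (h₀ * u))
      (algebraMap A B (f i))) :=
    Groth.Agent.Lib.Helper6.QuasiRegChange.isQuasiRegular_of_span_eq _ _ hqe (hspf.trans hspε.symm)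
  exact (qr_iff_qra (h₀ * u) (Localization.Away (h₀ * u)) (I.map (algebraMap A B)) _ hspf).mp hqf

theorem fg_of_locQR {R : Type u} [CommRing R] (J : Ideal R)
    (h : PP16.IsLocallyQuasiRegular R J) : J.FG := by
  classical
  apply Ideal.fg_of_localizationSpan {g : R | (J.map (algebraMap R (Localization.Away g))).FG} ?_
    (fun g => g.2)
  by_contra hne
  obtain ⟨M, hM, hle⟩ := Ideal.exists_le_maximal _ hne
  haveI := hM.isPrime
  by_cases hJ : J ≤ M
  · obtain ⟨g, hg, r, f, _, hs⟩ := h M hJ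
    apply hg
    apply hle
    apply Ideal.subset_span
    show (J.map _).FG
    rw [← hs]
    exact Submodule.fg_span (Set.finite_range f)
  · obtain ⟨x, hxJ, hxM⟩ := SetLike.not_le_iff_exists.mp hJ
    apply hxM
    apply hle
    apply Ideal.subset_span
    show (J.map (algebraMap R (Localization.Away x))).FG
    have h1 : J.map (algebraMap R (Localization.Away x)) = ⊤ := by
      apply Ideal.eq_top_of_isUnit_mem _ (Ideal.mem_map_of_mem _ hxJ)
      exact IsLocalization.map_units _ (⟨x, Submonoid.mem_powers x⟩ : Submonoid.powers x)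
    rw [h1]
    exact ⟨{1}, by rw [Finset.coe_singleton]; exact Ideal.span_singleton_one⟩

theorem main9252 (A B : Type u) [CommRing A] [CommRing B]
    [Algebra A B] [Module.FaithfullyFlat A B] (I : Ideal A)
    (h : PP16.IsLocallyQuasiRegular B (Ideal.map (algebraMap A B) I)) :
    PP16.IsLocallyQuasiRegular A I := by
  classical
  intro P _ hIP
  have hfgI : I.FG := Ideal.FG.of_FG_map_of_faithfullyFlat (S := B) (fg_of_locQR _ h)
  have hex : ∃ ρ : ℕ, ∃ (f : Fin ρ → A) (g : A), g ∉ P ∧ GenA g I f := by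
    obtain ⟨n, s, hs⟩ := Submodule.fg_iff_exists_fin_generating_family.mp hfgI
    refine ⟨n, s, 1, ?_, ?_, ?_⟩
    · exact fun h1 => (Ideal.IsPrime.ne_top ‹_›) ((Ideal.eq_top_iff_one _).mpr h1)
    · intro i
      refine ⟨0, ?_⟩
      rw [pow_zero, one_mul, ← hs]
      exact Submodule.subset_span ⟨i, rfl⟩
    · intro x hx
      refine ⟨0, ?_⟩
      rw [pow_zero, one_mul]
      show x ∈ Submodule.span A (Set.range s)
      rw [hs]
      exact hx
  obtain ⟨f, g₁, hg₁, hgen⟩ := Nat.find_spec hex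
  have hminP : MinRel f P :=
    minRel_of_minimal I P (Nat.find hex) f g₁ hg₁ hgen (fun ρ' hρ' => Nat.find_min hex hρ')
  let W : Set (PrimeSpectrum A) :=
    {q | g₁ ∉ q.asIdeal ∧ (I ≤ q.asIdeal → MinRel f q.asIdeal)}
  have hWopen : IsOpen W := by
    have hq : Topology.IsQuotientMap (PrimeSpectrum.comap (algebraMap A B)) :=
      PrimeSpectrum.isQuotientMap_of_generalizingMap
        PrimeSpectrum.comap_surjective_of_faithfullyFlat
        (Algebra.HasGoingDown.iff_generalizingMap_primeSpectrumComap.mp inferInstance)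
    rw [← hq.isCoinducing.isOpen_preimage, isOpen_iff_forall_mem_open]
    intro Q hQ
    obtain ⟨hQ1, hQ2⟩ := hQ
    have hQ1' : algebraMap A B g₁ ∉ Q.asIdeal := hQ1
    by_cases hIQ : I ≤ (PrimeSpectrum.comap (algebraMap A B) Q).asIdeal
    · have hmin : MinRel f (Q.asIdeal.comap (algebraMap A B)) := hQ2 hIQ
      have hI'Q : I.map (algebraMap A B) ≤ Q.asIdeal := Ideal.map_le_iff_le_comap.mpr hIQ
      obtain ⟨h₀, hh₀, r, e, hqe, hse⟩ := h Q.asIdeal hI'Q
      obtain ⟨ε, hqε, hgε⟩ := exists_intrinsic h₀ e _ hqe hse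
      have hL := lemmaL I f g₁ hgen Q.asIdeal hI'Q hmin h₀ hh₀ ε hqε hgε (algebraMap A B g₁) hQ1'
        (dvd_refl _)
      refine ⟨(PrimeSpectrum.basicOpen (h₀ * algebraMap A B g₁) : Set _), ?_,
        (PrimeSpectrum.basicOpen _).isOpen, ?_⟩
      · intro Q₂ hQ₂
        have hQ₂' : h₀ * algebraMap A B g₁ ∉ Q₂.asIdeal := hQ₂
        refine ⟨fun hmem => hQ₂' (Q₂.asIdeal.mul_mem_left _ hmem), fun hI2 a ha i => ?_⟩
        have hI'2 : I.map (algebraMap A B) ≤ Q₂.asIdeal := Ideal.map_le_iff_le_comap.mpr hI2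
        have hev : (h₀ * algebraMap A B g₁) ^ 0 *
            eval (fun i => algebraMap A B (f i)) (∑ k, C (algebraMap A B (a k)) * X k) ∈
            (I.map (algebraMap A B)) ^ (1 + 1) := by
          simp only [map_sum, map_mul, eval_C, eval_X]
          rw [pow_zero, one_mul]
          have h0 : ∑ k, algebraMap A B (a k) * algebraMap A B (f k) = 0 := by
            rw [← map_zero (algebraMap A B), ← ha, map_sum]
            simp only [map_mul]
          rw [h0]
          exact zero_mem _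
        obtain ⟨N, hN⟩ := hL 1 (∑ k, C (algebraMap A B (a k)) * X k)
          (IsHomogeneous.sum _ _ _ (fun k _ => isHomogeneous_C_mul_X _ _)) ⟨0, hev⟩
          (Finsupp.single i 1)
        have hcoeff : coeff (Finsupp.single i 1)
            (∑ k, C (algebraMap A B (a k)) * X k : MvPolynomial (Fin (Nat.find hex)) B) =
            algebraMap A B (a i) := by
          simp only [coeff_sum, coeff_C_mul, coeff_X', Finsupp.single_left_inj one_ne_zero,
            mul_ite, mul_one, mul_zero, Finset.sum_ite_eq', Finset.mem_univ, if_true]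
        rw [hcoeff] at hN
        have h5 := hI'2 hN
        rcases Ideal.IsPrime.mem_or_mem Q₂.isPrime h5 with h6 | h6
        · exact absurd (Ideal.IsPrime.mem_of_pow_mem Q₂.isPrime _ h6) hQ₂'
        · exact h6
      · exact fun hmem => (Ideal.IsPrime.mem_or_mem Q.isPrime hmem).elim hh₀ hQ1'
    · obtain ⟨x, hxI, hxQ⟩ := SetLike.not_le_iff_exists.mp hIQ
      have hxQ' : algebraMap A B x ∉ Q.asIdeal := hxQ
      refine ⟨(PrimeSpectrum.basicOpen (algebraMap A B (g₁ * x)) : Set _), ?_,
        (PrimeSpectrum.basicOpen _).isOpen, ?_⟩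
      · intro Q₂ hQ₂
        have hQ₂' : algebraMap A B (g₁ * x) ∉ Q₂.asIdeal := hQ₂
        refine ⟨fun hmem => hQ₂' ?_, fun hI2 => absurd (hI2 hxI) (fun hmem => hQ₂' ?_)⟩
        · rw [map_mul]
          exact Q₂.asIdeal.mul_mem_right _ hmem
        · rw [map_mul]
          exact Q₂.asIdeal.mul_mem_left _ hmem
      · show algebraMap A B (g₁ * x) ∉ Q.asIdeal
        rw [map_mul]
        exact fun hmem => (Ideal.IsPrime.mem_or_mem Q.isPrime hmem).elim hQ1' hxQ'
  have hPW : (⟨P, inferInstance⟩ : PrimeSpectrum A) ∈ W := ⟨hg₁, fun _ => hminP⟩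
  obtain ⟨v, ⟨g₂, rfl⟩, hPv, hvW⟩ :=
    PrimeSpectrum.isTopologicalBasis_basic_opens.exists_subset_of_mem_open hPW hWopen
  have hg₂ : g₂ ∉ P := hPv
  have hgP : g₁ * g₂ ∉ P := fun hmem => (Ideal.IsPrime.mem_or_mem ‹_› hmem).elim hg₁ hg₂
  have hgenA : GenA (g₁ * g₂) I f := hgen.mono g₂
  have hqra : QRA (g₁ * g₂) I f := by
    intro n F hF hN d
    obtain ⟨N, hN⟩ := hN
    let K : Ideal B := Submodule.comap (LinearMap.mulRight B (algebraMap A B (F.coeff d)))
      (I.map (algebraMap A B))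
    have hK : ∀ x : B, x ∈ K ↔ x * algebraMap A B (F.coeff d) ∈ I.map (algebraMap A B) :=
      fun x => Iff.rfl
    have hrad : algebraMap A B (g₁ * g₂) ∈ K.radical := by
      rw [Ideal.radical_eq_sInf, Ideal.mem_sInf]
      rintro Q ⟨hKQ, hQp⟩
      by_contra hgQ
      haveI := hQp
      have hI'Q : I.map (algebraMap A B) ≤ Q :=
        fun x hx => hKQ ((hK x).mpr (Ideal.mul_mem_right _ _ hx))
      have hIQ : I ≤ Q.comap (algebraMap A B) := Ideal.map_le_iff_le_comap.mp hI'Q
      have hg₂Q : g₂ ∉ Q.comap (algebraMap A B) := fun hmem => hgQ (by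
        rw [map_mul]
        exact Q.mul_mem_left _ hmem)
      have hW : (⟨Q.comap (algebraMap A B), inferInstance⟩ : PrimeSpectrum A) ∈ W :=
        hvW hg₂Q
      have hmin : MinRel f (Q.comap (algebraMap A B)) := hW.2 hIQ
      obtain ⟨h₀, hh₀, r, e, hqe, hse⟩ := h Q hI'Q
      obtain ⟨ε, hqε, hgε⟩ := exists_intrinsic h₀ e _ hqe hse
      have hL := lemmaL I f g₁ hgen Q hI'Q hmin h₀ hh₀ ε hqε hgε (algebraMap A B (g₁ * g₂)) hgQ
        ⟨algebraMap A B g₂, map_mul _ _ _⟩
      have hev : (h₀ * algebraMap A B (g₁ * g₂)) ^ N *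
          eval (fun i => algebraMap A B (f i)) (map (algebraMap A B) F) ∈
          (I.map (algebraMap A B)) ^ (n + 1) := by
        rw [eval_map_comp]
        have h1 : algebraMap A B ((g₁ * g₂) ^ N * eval f F) ∈ (I.map (algebraMap A B)) ^ (n + 1) := by
          rw [← Ideal.map_pow]
          exact Ideal.mem_map_of_mem _ hN
        have h2 : (h₀ * algebraMap A B (g₁ * g₂)) ^ N * algebraMap A B (eval f F) =
            h₀ ^ N * algebraMap A B ((g₁ * g₂) ^ N * eval f F) := by
          rw [map_mul (algebraMap A B) ((g₁ * g₂) ^ N), map_pow]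
          ring
        rw [h2]
        exact Ideal.mul_mem_left _ _ h1
      obtain ⟨N', hN'⟩ := hL n (map (algebraMap A B) F) (hF.map _) ⟨N, hev⟩ d
      rw [coeff_map] at hN'
      have h6 : (h₀ * algebraMap A B (g₁ * g₂)) ^ N' ∈ K := (hK _).mpr hN'
      have h7 := Ideal.IsPrime.mem_of_pow_mem hQp _ (hKQ h6)
      exact (Ideal.IsPrime.mem_or_mem hQp h7).elim hh₀ hgQ
    obtain ⟨M, hM⟩ := Ideal.mem_radical_iff.mp hrad
    refine ⟨M, ?_⟩
    have h8 : (g₁ * g₂) ^ M * F.coeff d ∈
        Ideal.comap (algebraMap A B) (I.map (algebraMap A B)) := by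
      rw [Ideal.mem_comap, map_mul, map_pow]
      exact (hK _).mp hM
    rwa [Ideal.comap_map_eq_self_of_faithfullyFlat] at h8
  have hsp := (genA_iff (g₁ * g₂) (Localization.Away (g₁ * g₂)) I f).mpr hgenA
  exact ⟨g₁ * g₂, hgP, Nat.find hex, fun i => algebraMap A (Localization.Away (g₁ * g₂)) (f i),
    (qr_iff_qra (g₁ * g₂) _ I f hsp).mpr hqra, hsp⟩

end Groth.Agent.Lib.Helper6.QRDescent
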