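import Mathlib
import Groth.Prelude.Def_EGA41

/-!
# Adic formal smoothness is insensitive to completion (helper6)
-/

set_option autoImplicit false
universe u

namespace Groth.Agent.Lib.Helper6.AdicFSCompl

section Ker
variable {R : Type u} [CommRing R] (I : Ideal R)

lemma evalₐ_eq_zero_of_mem_map (n : ℕ) (x : AdicCompletion I R)
    (hx : x ∈ (I ^ n).map (algebraMap R (AdicCompletion I R))) :
    AdicCompletion.evalₐ I n x = 0 := by
  have hle : (I ^ n).map (algebraMap R (AdicCompletion I R)) ≤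
      RingHom.ker (AdicCompletion.evalₐ I n).toRingHom := by
    rw [Ideal.map_le_iff_le_comap]
    intro a ha
    rw [Ideal.mem_comap, RingHom.mem_ker]
    change AdicCompletion.evalₐ I n (algebraMap R (AdicCompletion I R) a) = 0
    rw [AlgHom.commutes, Ideal.Quotient.algebraMap_eq, Ideal.Quotient.eq_zero_iff_mem]
    exact ha
  exact hle hx

lemma mem_map_of_evalₐ_eq_zero (hI : I.FG) (n : ℕ) (x : AdicCompletion I R)
    (hx : AdicCompletion.evalₐ I n x = 0) :
    x ∈ (I ^ n).map (algebraMap R (AdicCompletion I R)) := by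
  have h1 : x ∈ LinearMap.ker (AdicCompletion.eval I R n) := by
    rw [LinearMap.mem_ker, ← AdicCompletion.factor_evalₐ_eq_eval I x
      (le_of_eq (by simp only [smul_eq_mul, Ideal.mul_top])), hx, map_zero]
  rw [← AdicCompletion.pow_smul_top_eq_ker_eval hI] at h1
  have h2 := Ideal.smul_top_eq_map (R := R) (S := AdicCompletion I R) (I ^ n)
  rw [h2] at h1
  exact h1

end Ker

section Main
variable {A B : Type u} [CommRing A] [CommRing B] [Algebra A B] (𝔟 : Ideal B)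

/-- The canonical map `B → B̂` as an `A`-algebra map. -/
noncomputable def ι : B →ₐ[A] AdicCompletion 𝔟 B :=
  { (algebraMap B (AdicCompletion 𝔟 B)) with
    commutes' := fun _ => rfl }

lemma ι_apply (b : B) : ι (A := A) 𝔟 b = algebraMap B (AdicCompletion 𝔟 B) b := rfl

/-- The projection `B̂ → B/𝔟ⁿ` as an `A`-algebra map. -/
noncomputable def ε (n : ℕ) : AdicCompletion 𝔟 B →ₐ[A] B ⧸ 𝔟 ^ n :=
  { (AdicCompletion.evalₐ 𝔟 n).toRingHom with
    commutes' := fun a => by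
      change AdicCompletion.evalₐ 𝔟 n (algebraMap A (AdicCompletion 𝔟 B) a) =
        algebraMap A (B ⧸ 𝔟 ^ n) a
      rw [AdicCompletion.algebraMap_apply, AdicCompletion.evalₐ_of]
      rfl }

lemma ε_apply (n : ℕ) (x : AdicCompletion 𝔟 B) :
    ε (A := A) 𝔟 n x = AdicCompletion.evalₐ 𝔟 n x := rfl

lemma ε_ι (n : ℕ) (b : B) : ε (A := A) 𝔟 n (ι (A := A) 𝔟 b) = Ideal.Quotient.mk (𝔟 ^ n) b := by
  rw [ε_apply, ι_apply, AlgHom.commutes, Ideal.Quotient.algebraMap_eq]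

theorem main (𝔞 : Ideal A) [IsNoetherianRing B] :
    EGA41.IsFormallySmoothAdic A 𝔞 B 𝔟 ↔
      EGA41.IsFormallySmoothAdic A 𝔞 (AdicCompletion 𝔟 B)
        (𝔟.map (algebraMap B (AdicCompletion 𝔟 B))) := by
  have hfg : 𝔟.FG := IsNoetherian.noetherian 𝔟
  constructor
  · intro hB C _ _ J hJ hk u hu
    obtain ⟨k, hu⟩ := hu
    obtain ⟨N, hN⟩ := hJ
    have hu₀ : ∀ x ∈ 𝔟 ^ k, (u.comp (ι (A := A) 𝔟)) x = 0 := by
      intro x hx
      apply hu
      rw [← Ideal.map_pow]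
      exact Ideal.mem_map_of_mem _ hx
    obtain ⟨v₀, hv₀⟩ := hB C J ⟨N, hN⟩ hk (u.comp (ι (A := A) 𝔟)) ⟨k, hu₀⟩
    have hv₀J : (𝔟 ^ k).map v₀.toRingHom ≤ J := by
      rw [Ideal.map_le_iff_le_comap]
      intro y hy
      rw [Ideal.mem_comap]
      have h1 := hu₀ y hy
      rw [← hv₀] at h1
      exact Ideal.Quotient.eq_zero_iff_mem.1 h1
    have hkill : ∀ x ∈ 𝔟 ^ (k * N + k), v₀ x = 0 := by
      intro x hx
      have hx' : x ∈ (𝔟 ^ k) ^ N := by
        rw [← pow_mul]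
        exact Ideal.pow_le_pow_right (Nat.le_add_right _ _) hx
      have h2 : v₀.toRingHom x ∈ ((𝔟 ^ k) ^ N).map v₀.toRingHom := Ideal.mem_map_of_mem _ hx'
      rw [Ideal.map_pow] at h2
      have h3 := Ideal.pow_right_mono hv₀J N h2
      rw [hN] at h3
      exact h3
    refine ⟨(Ideal.Quotient.liftₐ (𝔟 ^ (k * N + k)) v₀ hkill).comp (ε (A := A) 𝔟 (k * N + k)), ?_⟩
    apply AlgHom.ext
    intro x
    obtain ⟨b, hb⟩ := Ideal.Quotient.mk_surjective (ε (A := A) 𝔟 (k * N + k) x)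
    have hx0 : x - ι (A := A) 𝔟 b ∈ (𝔟.map (algebraMap B (AdicCompletion 𝔟 B))) ^ k := by
      have h4 : AdicCompletion.evalₐ 𝔟 (k * N + k) (x - ι (A := A) 𝔟 b) = 0 := by
        rw [map_sub, ← ε_apply (A := A), ← ε_apply (A := A), ε_ι, hb, sub_self]
      have h5 := mem_map_of_evalₐ_eq_zero 𝔟 hfg _ _ h4
      rw [Ideal.map_pow] at h5
      exact Ideal.pow_le_pow_right (Nat.le_add_left _ _) h5
    have hux : u x = u (ι (A := A) 𝔟 b) := by
      have h6 := hu _ hx0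
      rw [map_sub, sub_eq_zero] at h6
      exact h6
    rw [AlgHom.comp_apply, AlgHom.comp_apply, ← hb, Ideal.Quotient.liftₐ_apply,
      Ideal.Quotient.lift_mk, hux]
    exact (AlgHom.congr_fun hv₀ b)
  · intro hB C _ _ J hJ hk u hu
    obtain ⟨k, hu⟩ := hu
    have hû : ∀ x ∈ (𝔟.map (algebraMap B (AdicCompletion 𝔟 B))) ^ k,
        ((Ideal.Quotient.liftₐ (𝔟 ^ k) u hu).comp (ε (A := A) 𝔟 k)) x = 0 := by
      intro x hx
      rw [← Ideal.map_pow] at hx
      have h1 := evalₐ_eq_zero_of_mem_map 𝔟 k x hx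
      rw [AlgHom.comp_apply, ε_apply, h1, map_zero]
    obtain ⟨v, hv⟩ := hB C J hJ hk _ ⟨k, hû⟩
    refine ⟨v.comp (ι (A := A) 𝔟), ?_⟩
    apply AlgHom.ext
    intro b
    have h2 := AlgHom.congr_fun hv (ι (A := A) 𝔟 b)
    rw [AlgHom.comp_apply, AlgHom.comp_apply, ε_ι, Ideal.Quotient.liftₐ_apply,
      Ideal.Quotient.lift_mk] at h2
    rw [AlgHom.comp_apply, AlgHom.comp_apply]
    exact h2

end Main

end Groth.Agent.Lib.Helper6.AdicFSCompl
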