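import Mathlib
import Groth.Agent.Lib.Helper7.AdicFlat
import Groth.Agent.Lib.Helper3.AffinePoints

set_option autoImplicit false
universe u
open CategoryTheory AlgebraicGeometry TopologicalSpace TensorProduct

namespace Groth.Agent.Lib.Helper6.AdicFlatSch

section Alg
attribute [local instance] Algebra.TensorProduct.rightAlgebra

variable {R : Type u} [CommRing R]

/-- The swap `B ⊗ K ≃ K ⊗ B`, linear over `K` (acting on the right factor of the source). -/
noncomputable def commK (K B : Type u) [CommRing K] [Algebra R K] [CommRing B] [Algebra R B] :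
    (B ⊗[R] K) ≃ₗ[K] (K ⊗[R] B) :=
  { (TensorProduct.comm R B K) with
    map_smul' := by
      intro k x
      induction x using TensorProduct.induction_on with
      | zero => simp
      | tmul b k' =>
        simp only [AddHom.toFun_eq_coe, LinearMap.coe_toAddHom, LinearEquiv.coe_coe,
          RingHom.id_apply]
        rw [Algebra.smul_def]
        change (TensorProduct.comm R B K) ((1 : B) ⊗ₜ[R] k * b ⊗ₜ[R] k') = _
        rw [Algebra.TensorProduct.tmul_mul_tmul, one_mul, TensorProduct.comm_tmul,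
          TensorProduct.comm_tmul, TensorProduct.smul_tmul', smul_eq_mul]
      | add x y hx hy =>
        simp only [AddHom.toFun_eq_coe, LinearMap.coe_toAddHom, LinearEquiv.coe_coe,
          RingHom.id_apply] at hx hy ⊢
        rw [smul_add, map_add, map_add, hx, hy, smul_add] }

theorem flat_localRingHom {R T : Type u} [CommRing R] [CommRing T] [IsNoetherianRing R]
    [IsNoetherianRing T] [Algebra R T]
    (q : Ideal T) [q.IsPrime] (p : Ideal R) [p.IsPrime] (hpq : p = q.comap (algebraMap R T))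
    (J : Ideal R) (hJ : J ≤ p)
    (h : ∀ n : ℕ, 0 < n → Module.Flat (R ⧸ J ^ n) (T ⊗[R] (R ⧸ J ^ n))) :
    (Localization.localRingHom p q (algebraMap R T) hpq).Flat := by
  have hRB : Module.Flat R (Localization.AtPrime q) := by
    refine Groth.Agent.Lib.Helper7.flat_of_forall_flat_quotient_pow_of_finite (A := R)
      (B := Localization.AtPrime q) J ?_
      (Localization.AtPrime q) ?_
    · rw [IsLocalRing.jacobson_eq_maximalIdeal ⊥ bot_ne_top, Ideal.map_le_iff_le_comap]
      intro j hj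
      have hjq : algebraMap R T j ∈ q := by
        have := hJ hj
        rw [hpq] at this
        exact this
      rw [Ideal.mem_comap, IsScalarTower.algebraMap_apply R T (Localization.AtPrime q)]
      exact (IsLocalization.AtPrime.to_map_mem_maximal_iff (Localization.AtPrime q) q _).mpr hjq
    · intro n hn
      have h1 : Module.Flat (R ⧸ J ^ n) (T ⊗[R] (R ⧸ J ^ n)) := h n hn
      let ψ : T ⊗[R] (R ⧸ J ^ n) →ₐ[T] (Localization.AtPrime q) ⊗[R] (R ⧸ J ^ n) :=
        Algebra.TensorProduct.map (Algebra.ofId T (Localization.AtPrime q))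
          (AlgHom.id R (R ⧸ J ^ n))
      letI : Algebra (T ⊗[R] (R ⧸ J ^ n)) ((Localization.AtPrime q) ⊗[R] (R ⧸ J ^ n)) :=
        ψ.toRingHom.toAlgebra
      have tower1 : IsScalarTower T (T ⊗[R] (R ⧸ J ^ n))
          ((Localization.AtPrime q) ⊗[R] (R ⧸ J ^ n)) := IsScalarTower.of_algHom ψ
      have loc := IsLocalization.tensorProduct_tensorProduct R (R ⧸ J ^ n) q.primeCompl
        (Localization.AtPrime q) (by
          ext k
          simp [ψ, RingHom.algebraMap_toAlgebra])
      have h2 : Module.Flat (T ⊗[R] (R ⧸ J ^ n)) ((Localization.AtPrime q) ⊗[R] (R ⧸ J ^ n)) :=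
        IsLocalization.flat _ (Algebra.algebraMapSubmonoid (T ⊗[R] (R ⧸ J ^ n)) q.primeCompl)
      have tower2 : IsScalarTower (R ⧸ J ^ n) (T ⊗[R] (R ⧸ J ^ n))
          ((Localization.AtPrime q) ⊗[R] (R ⧸ J ^ n)) :=
        IsScalarTower.of_algebraMap_eq' (by
          ext k
          simp [ψ, RingHom.algebraMap_toAlgebra])
      have h3 : Module.Flat (R ⧸ J ^ n) ((Localization.AtPrime q) ⊗[R] (R ⧸ J ^ n)) :=
        Module.Flat.trans (R ⧸ J ^ n) (T ⊗[R] (R ⧸ J ^ n)) _
      exact Module.Flat.of_linearEquiv (commK (R ⧸ J ^ n) (Localization.AtPrime q)).symm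
  let _ : Algebra (Localization.AtPrime p) (Localization.AtPrime q) :=
    (Localization.localRingHom p q (algebraMap R T) hpq).toAlgebra
  have tower : IsScalarTower R (Localization.AtPrime p) (Localization.AtPrime q) :=
    IsScalarTower.of_algebraMap_eq' (by
      ext r
      simp [RingHom.algebraMap_toAlgebra, Localization.localRingHom_to_map,
        IsScalarTower.algebraMap_apply R T (Localization.AtPrime q)])
  change Module.Flat (Localization.AtPrime p) (Localization.AtPrime q)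
  exact (Module.flat_iff_of_isLocalization (Localization.AtPrime p) p.primeCompl
    (Localization.AtPrime q)).mpr hRB

end Alg

section Geom
attribute [local instance] Algebra.TensorProduct.rightAlgebra
open Limits

/-- If the base change of `f` to the closed subscheme `V(I)` is flat, then for affine opens
`V ⊆ f⁻¹ U` the ring `Γ(X,V) ⊗ Γ(S,U)/I(U)` is flat over `Γ(S,U)/I(U)`. -/
theorem flat_tensor_of_flat_pullback {X S : Scheme.{u}} (f : X ⟶ S) (I : S.IdealSheafData)
    (hfl : Flat (pullback.snd f I.subschemeι))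
    (U : S.Opens) (hU : IsAffineOpen U) (V : X.Opens) (hV : IsAffineOpen V) (e : V ≤ f ⁻¹ᵁ U) :
    letI := (f.appLE U V e).hom.toAlgebra
    Module.Flat (Γ(S, U) ⧸ I.ideal ⟨U, hU⟩)
      (Γ(X, V) ⊗[Γ(S, U)] (Γ(S, U) ⧸ I.ideal ⟨U, hU⟩)) := by
  letI := (f.appLE U V e).hom.toAlgebra
  have hi₂ : IsOpenImmersion (I.subschemeCover.f ⟨U, hU⟩) := I.subschemeCover.map_prop ⟨U, hU⟩
  have e₁ : Spec.map (CommRingCat.ofHom (algebraMap Γ(S, U) Γ(X, V))) ≫ hU.fromSpec =
      hV.fromSpec ≫ f := IsAffineOpen.SpecMap_appLE_fromSpec f hU hV e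
  have e₂ : Spec.map (CommRingCat.ofHom (algebraMap Γ(S, U) (Γ(S, U) ⧸ I.ideal ⟨U, hU⟩))) ≫
      hU.fromSpec = I.subschemeCover.f ⟨U, hU⟩ ≫ I.subschemeι := by
    rw [I.subschemeCover_map_subschemeι, I.glueDataObjι_ι]
  have hm : IsOpenImmersion (pullback.map _ _ f I.subschemeι hV.fromSpec
      (I.subschemeCover.f ⟨U, hU⟩) hU.fromSpec e₁ e₂) :=
    Scheme.pullback_map_isOpenImmersion _ _ _ _ _ _ _ _ _
  have hmf : Flat (pullback.map _ _ f I.subschemeι hV.fromSpec
      (I.subschemeCover.f ⟨U, hU⟩) hU.fromSpec e₁ e₂) := inferInstance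
  have h1 : Flat (pullback.map _ _ f I.subschemeι hV.fromSpec (I.subschemeCover.f ⟨U, hU⟩)
      hU.fromSpec e₁ e₂ ≫ pullback.snd f I.subschemeι) := Flat.comp _ _
  have h2 : pullback.map _ _ f I.subschemeι hV.fromSpec (I.subschemeCover.f ⟨U, hU⟩)
      hU.fromSpec e₁ e₂ ≫ pullback.snd f I.subschemeι =
      pullback.snd _ _ ≫ I.subschemeCover.f ⟨U, hU⟩ := pullback.lift_snd _ _ _
  rw [h2] at h1
  have h3 : Flat (pullback.snd (Spec.map (CommRingCat.ofHom (algebraMap Γ(S, U) Γ(X, V))))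
      (Spec.map (CommRingCat.ofHom (algebraMap Γ(S, U) (Γ(S, U) ⧸ I.ideal ⟨U, hU⟩))))) :=
    haveI := AlgebraicGeometry.instHasOfPostcompPropertySchemeIsOpenImmersionOfIsStableUnderBaseChange
      (@Flat.{u})
    MorphismProperty.of_postcomp (W := @Flat) (W' := @IsOpenImmersion) _
      (I.subschemeCover.f ⟨U, hU⟩) hi₂ h1
  have h4 : Flat (Spec.map (CommRingCat.ofHom (RingHomClass.toRingHom
      (Algebra.TensorProduct.includeRight (R := Γ(S, U)) (A := Γ(X, V))
        (B := Γ(S, U) ⧸ I.ideal ⟨U, hU⟩))))) := by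
    rw [← pullbackSpecIso_inv_snd]
    infer_instance
  rw [Flat.SpecMap_iff] at h4
  exact h4

/-- **I-adic local criterion for schemes**: `f : X ⟶ S` between locally Noetherian schemes,
`I` an ideal sheaf on `S`; if all base changes of `f` to `V(Iⁿ⁺¹)` are flat then `f` is flat at
all points over `V(I)`. -/
theorem flat_stalkMap_of_flat_thickenings_aux {X S : Scheme.{u}} (f : X ⟶ S)
    [IsLocallyNoetherian X] [IsLocallyNoetherian S] (I : S.IdealSheafData)
    (h : ∀ n : ℕ, Flat (pullback.snd f (I ^ (n + 1)).subschemeι)) (x : X)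
    (hx : f x ∈ I.support)
    (U : S.Opens) (hU : IsAffineOpen U) (V : X.Opens) (hV : IsAffineOpen V) (e : V ≤ f ⁻¹ᵁ U)
    (hxV : x ∈ V) : (f.stalkMap x).hom.Flat := by
  have : IsNoetherianRing Γ(X, V) := IsLocallyNoetherian.component_noetherian ⟨V, hV⟩
  have : IsNoetherianRing Γ(S, U) := IsLocallyNoetherian.component_noetherian ⟨U, hU⟩
  letI := (f.appLE U V e).hom.toAlgebra
  have hcomap := IsAffineOpen.comap_primeIdealOf_appLE U hU V hV e hxV
  have hpq : (hU.primeIdealOf ⟨f x, e hxV⟩).asIdeal =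
      (hV.primeIdealOf ⟨x, hxV⟩).asIdeal.comap (algebraMap Γ(S, U) Γ(X, V)) := by
    rw [← hcomap]
    rfl
  have hJ : I.ideal ⟨U, hU⟩ ≤ (hU.primeIdealOf ⟨f x, e hxV⟩).asIdeal :=
    (Groth.Agent.Lib.Helper3.mem_support_iff_le_primeIdealOf I ⟨U, hU⟩ (f x) (e hxV)).mp hx
  have key := flat_localRingHom (hV.primeIdealOf ⟨x, hxV⟩).asIdeal
    (hU.primeIdealOf ⟨f x, e hxV⟩).asIdeal hpq (I.ideal ⟨U, hU⟩) hJ (by
      intro n hn
      obtain ⟨m, rfl⟩ := Nat.exists_eq_succ_of_ne_zero hn.ne'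
      exact flat_tensor_of_flat_pullback f (I ^ (m + 1)) (h m) U hU V hV e)
  exact (RingHom.Flat.respectsIso.arrow_mk_iso_iff
    (IsAffineOpen.arrowStalkMapIso f U hU V hV e hxV)).mpr key

theorem flat_stalkMap_of_flat_thickenings_aux2 {X S : Scheme.{u}} (f : X ⟶ S)
    [IsLocallyNoetherian X] [IsLocallyNoetherian S] (I : S.IdealSheafData)
    (h : ∀ n : ℕ, Flat (pullback.snd f (I ^ (n + 1)).subschemeι)) (x : X)
    (hx : f x ∈ I.support)
    (U : S.Opens) (hU : IsAffineOpen U) (hxU : f x ∈ U) : (f.stalkMap x).hom.Flat := by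
  obtain ⟨_, ⟨V, hV, rfl⟩, hxV, hVU⟩ := X.isBasis_affineOpens.exists_subset_of_mem_open
    (show x ∈ ((f ⁻¹ᵁ U : X.Opens) : Set X) from hxU) (f ⁻¹ᵁ U).isOpen
  exact flat_stalkMap_of_flat_thickenings_aux f I h x hx U hU V hV hVU hxV

theorem flat_stalkMap_of_flat_thickenings {X S : Scheme.{u}} (f : X ⟶ S)
    [IsLocallyNoetherian X] [IsLocallyNoetherian S] (I : S.IdealSheafData)
    (h : ∀ n : ℕ, Flat (pullback.snd f (I ^ (n + 1)).subschemeι)) (x : X)
    (hx : f x ∈ I.support) : (f.stalkMap x).hom.Flat := by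
  obtain ⟨_, ⟨U, hU, rfl⟩, hxU, -⟩ := S.isBasis_affineOpens.exists_subset_of_mem_open
    (Set.mem_univ (f x)) isOpen_univ
  exact flat_stalkMap_of_flat_thickenings_aux2 f I h x hx U hU hxU

end Geom

end Groth.Agent.Lib.Helper6.AdicFlatSch
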