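import Groth.Prelude.Def_FSch3
import Groth.Agent.Lib.Helper6.IdealComap
import Mathlib.AlgebraicGeometry.PullbackCarrier

/-!
# Adic morphisms of systems: transfer of formal and adic
-/

universe u

open CategoryTheory CategoryTheory.Limits AlgebraicGeometry

namespace Groth.Agent.Lib.Helper6.AdicHom

open AlgebraicGeometry.Scheme AlgebraicGeometry.Scheme.IdealSheafData
open Groth.Agent.Lib.Helper6.IdealComap

theorem ker_eq_comap_of_isPullback {P X Y Z : Scheme.{u}} {fst : P ⟶ X} {snd : P ⟶ Y}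
    {f : X ⟶ Z} {i : Y ⟶ Z} [IsClosedImmersion i] (sq : IsPullback fst snd f i) :
    fst.ker = i.ker.comap f := by
  rw [← ker_fst_of_isClosedImmersion i f]
  conv_lhs => rw [← sq.isoPullback_hom_fst]
  exact Scheme.Hom.ker_comp_of_isIso _ _

theorem isClosedImmersion_toX (𝔖 : FSch.Sys.{u}) (hF : 𝔖.IsFormal) (n : ℕ) :
    IsClosedImmersion (𝔖.toX n) := by
  induction n with
  | zero => exact inferInstanceAs (IsClosedImmersion (𝟙 _))
  | succ n ih =>
    have := (hF n).1
    exact inferInstanceAs (IsClosedImmersion (𝔖.toX n ≫ 𝔖.ι n))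

theorem isPullback_toX {𝔛 𝔖 : FSch.Sys.{u}} (f : 𝔛 ⟶ 𝔖) (hf : FSch.IsAdicHom f) (n : ℕ) :
    IsPullback (𝔛.toX n) ((f : FSch.Hom 𝔛 𝔖).app 0) ((f : FSch.Hom 𝔛 𝔖).app n) (𝔖.toX n) := by
  induction n with
  | zero => exact IsPullback.id_horiz _
  | succ n ih => exact ih.paste_horiz (hf n)

theorem isFormal_isAdic_of_isAdicHom {𝔛 𝔖 : FSch.Sys.{u}} (f : 𝔛 ⟶ 𝔖) (hf : FSch.IsAdicHom f)
    (hF : 𝔖.IsFormal) (hA : 𝔖.IsAdic) : 𝔛.IsFormal ∧ 𝔛.IsAdic := by
  constructor
  · intro n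
    constructor
    · exact MorphismProperty.of_isPullback (P := @IsClosedImmersion) (hf n).flip (hF n).1
    · have h1 : Surjective (𝔖.ι n) := ⟨(hF n).2⟩
      have h2 : Surjective (𝔛.ι n) :=
        MorphismProperty.of_isPullback (P := @Surjective) (hf n).flip h1
      exact h2.surj
  · intro n
    have := (hF n).1
    have := isClosedImmersion_toX 𝔖 hF (n + 1)
    rw [ker_eq_comap_of_isPullback (hf n), ker_eq_comap_of_isPullback (isPullback_toX f hf (n + 1)),
      hA n, comap_pow]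

end Groth.Agent.Lib.Helper6.AdicHom
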