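import Mathlib

/-!
# Formal base-change calculus for adjunctions (helper6)

Given functors `F F' G G' L L' a a'` with adjunctions `F ⊣ a`, `F' ⊣ a'`, `L ⊣ G`, `L' ⊣ G'` and
an isomorphism `e : G' ⋙ F ≅ F' ⋙ G`, the base-change maps are compatible with the units and
counits (trace maps).
-/

set_option autoImplicit false
open CategoryTheory

namespace Groth.Agent.Lib.Helper6.AdjBC

universe v₁ v₂ v₃ v₄ u₁ u₂ u₃ u₄
variable {CX : Type u₁} {CY : Type u₂} {CX' : Type u₃} {CY' : Type u₄}
  [Category.{v₁} CX] [Category.{v₂} CY] [Category.{v₃} CX'] [Category.{v₄} CY']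
  {F : CX ⥤ CY} {F' : CX' ⥤ CY'} {G : CY' ⥤ CY} {G' : CX' ⥤ CX} {L : CY ⥤ CY'} {L' : CX ⥤ CX'}
  {a : CY ⥤ CX} {a' : CY' ⥤ CX'}
  (adj : F ⊣ a) (adj' : F' ⊣ a') (adjg : L ⊣ G) (adjg' : L' ⊣ G') (e : G' ⋙ F ≅ F' ⋙ G)

/-- The comparison `G' a' M ⟶ a G M`. -/
def xi (M : CY') : G'.obj (a'.obj M) ⟶ a.obj (G.obj M) :=
  (adj.homEquiv _ _) (e.hom.app (a'.obj M) ≫ G.map (adj'.counit.app M))

/-- The base change map `L' a K ⟶ a' L K`. -/
noncomputable def bcMap (K : CY) (hξ : IsIso (xi adj adj' e (L.obj K))) :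
    L'.obj (a.obj K) ⟶ a'.obj (L.obj K) :=
  haveI := hξ
  L'.map (a.map (adjg.unit.app K)) ≫ L'.map (inv (xi adj adj' e (L.obj K))) ≫
    adjg'.counit.app (a'.obj (L.obj K))

/-- The base change map `L F K ⟶ F' L' K`. -/
def bcPush (K : CX) : L.obj (F.obj K) ⟶ F'.obj (L'.obj K) :=
  (adjg.homEquiv _ _).symm (F.map (adjg'.unit.app K) ≫ e.hom.app (L'.obj K))

lemma map_xi_counit (M : CY') :
    F.map (xi adj adj' e M) ≫ adj.counit.app (G.obj M) =
      e.hom.app (a'.obj M) ≫ G.map (adj'.counit.app M) := by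
  have := (adj.homEquiv _ _).symm_apply_apply (e.hom.app (a'.obj M) ≫ G.map (adj'.counit.app M))
  rw [Adjunction.homEquiv_counit] at this
  exact this

lemma unit_map_bcMap (K : CY) (hξ : IsIso (xi adj adj' e (L.obj K))) :
    adjg'.unit.app (a.obj K) ≫ G'.map (bcMap adj adj' adjg adjg' e K hξ) =
      haveI := hξ
      a.map (adjg.unit.app K) ≫ inv (xi adj adj' e (L.obj K)) := by
  have := hξ
  unfold bcMap
  simp only [Functor.map_comp]
  erw [adjg'.unit_naturality_assoc, adjg'.unit_naturality_assoc,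
    adjg'.right_triangle_components, Category.comp_id]

lemma unit_map_bcPush (M : CX) :
    adjg.unit.app (F.obj M) ≫ G.map (bcPush adjg adjg' e M) =
      F.map (adjg'.unit.app M) ≫ e.hom.app (L'.obj M) := by
  have := (adjg.homEquiv _ _).apply_symm_apply (F.map (adjg'.unit.app M) ≫ e.hom.app (L'.obj M))
  rw [Adjunction.homEquiv_unit] at this
  exact this

lemma xi_naturality {N N' : CY'} (ν : N ⟶ N') :
    G'.map (a'.map ν) ≫ xi adj adj' e N' = xi adj adj' e N ≫ a.map (G.map ν) := by
  unfold xi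
  rw [← Adjunction.homEquiv_naturality_left, ← Adjunction.homEquiv_naturality_right]
  congr 1
  have h1 := e.hom.naturality (a'.map ν)
  simp only [Functor.comp_map] at h1
  rw [reassoc_of% h1, Category.assoc, ← G.map_comp, ← G.map_comp, adj'.counit_naturality]

lemma map_unit_xi (N' : CX') :
    G'.map (adj'.unit.app N') ≫ xi adj adj' e (F'.obj N') =
      adj.unit.app (G'.obj N') ≫ a.map (e.hom.app N') := by
  unfold xi
  have h1 := e.hom.naturality (adj'.unit.app N')
  dsimp only [Functor.id_obj, Functor.comp_obj, Functor.comp_map, Functor.id_map] at h1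
  have h3 : F.map (G'.map (adj'.unit.app N')) ≫ e.hom.app (a'.obj (F'.obj N')) ≫
      G.map (adj'.counit.app (F'.obj N')) = e.hom.app N' := by
    erw [reassoc_of% h1, ← G.map_comp, adj'.left_triangle_components]
    simp
  have h2 := (adj.homEquiv_naturality_left (G'.map (adj'.unit.app N'))
    (e.hom.app (a'.obj (F'.obj N')) ≫ G.map (adj'.counit.app (F'.obj N')))).symm
  refine h2.trans ?_
  rw [Adjunction.homEquiv_unit]
  erw [h3]
  rfl

/-- Compatibility of the trace (counit) with base change. -/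
theorem trace_compat (K : CY) (hξ : IsIso (xi adj adj' e (L.obj K))) :
    bcPush adjg adjg' e (a.obj K) ≫ F'.map (bcMap adj adj' adjg adjg' e K hξ) ≫
      adj'.counit.app (L.obj K) = L.map (adj.counit.app K) := by
  haveI := hξ
  apply (adjg.homEquiv _ _).injective
  rw [Adjunction.homEquiv_unit, Adjunction.homEquiv_unit]
  have hnat := e.hom.naturality (bcMap adj adj' adjg adjg' e K hξ)
  simp only [Functor.comp_map] at hnat
  calc adjg.unit.app (F.obj (a.obj K)) ≫ G.map (bcPush adjg adjg' e (a.obj K) ≫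
        F'.map (bcMap adj adj' adjg adjg' e K hξ) ≫ adj'.counit.app (L.obj K))
      = (adjg.unit.app (F.obj (a.obj K)) ≫ G.map (bcPush adjg adjg' e (a.obj K))) ≫
          G.map (F'.map (bcMap adj adj' adjg adjg' e K hξ)) ≫
            G.map (adj'.counit.app (L.obj K)) := by
        simp only [Functor.map_comp, Category.assoc]
    _ = F.map (adjg'.unit.app (a.obj K)) ≫ F.map (G'.map (bcMap adj adj' adjg adjg' e K hξ)) ≫
          e.hom.app (a'.obj (L.obj K)) ≫ G.map (adj'.counit.app (L.obj K)) := by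
        rw [unit_map_bcPush, Category.assoc, reassoc_of% hnat]
    _ = F.map (adjg'.unit.app (a.obj K) ≫ G'.map (bcMap adj adj' adjg adjg' e K hξ)) ≫
          F.map (xi adj adj' e (L.obj K)) ≫ adj.counit.app (G.obj (L.obj K)) := by
        rw [map_xi_counit, Functor.map_comp, Category.assoc]
    _ = F.map (a.map (adjg.unit.app K)) ≫ adj.counit.app (G.obj (L.obj K)) := by
        rw [unit_map_bcMap, ← Category.assoc, ← Functor.map_comp, Category.assoc,
          IsIso.inv_hom_id, Category.comp_id]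
    _ = adj.counit.app K ≫ adjg.unit.app K := adj.counit_naturality _
    _ = adjg.unit.app (F.obj (a.obj K)) ≫ G.map (L.map (adj.counit.app K)) :=
        (adjg.unit_naturality _).symm

/-- Compatibility of the unit with base change. -/
theorem unit_compat (hξ : ∀ N : CY', IsIso (xi adj adj' e N)) (M : CX) :
    adj'.unit.app (L'.obj M) = L'.map (adj.unit.app M) ≫
      bcMap adj adj' adjg adjg' e (F.obj M) (hξ _) ≫ a'.map (bcPush adjg adjg' e M) := by
  haveI := hξ (L.obj (F.obj M))
  haveI := hξ (F'.obj (L'.obj M))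
  apply (adjg'.homEquiv _ _).injective
  rw [Adjunction.homEquiv_unit, Adjunction.homEquiv_unit]
  rw [← cancel_mono (xi adj adj' e (F'.obj (L'.obj M)))]
  calc (adjg'.unit.app M ≫ G'.map (adj'.unit.app (L'.obj M))) ≫ xi adj adj' e (F'.obj (L'.obj M))
      = adjg'.unit.app M ≫ adj.unit.app (G'.obj (L'.obj M)) ≫ a.map (e.hom.app (L'.obj M)) := by
        rw [Category.assoc, map_unit_xi]
    _ = adj.unit.app M ≫ a.map (F.map (adjg'.unit.app M) ≫ e.hom.app (L'.obj M)) := by
        have h := adj.unit_naturality_assoc (adjg'.unit.app M) (a.map (e.hom.app (L'.obj M)))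
        rw [a.map_comp]
        exact h.symm
    _ = adj.unit.app M ≫ a.map (adjg.unit.app (F.obj M) ≫ G.map (bcPush adjg adjg' e M)) := by
        rw [unit_map_bcPush]
    _ = adj.unit.app M ≫ (a.map (adjg.unit.app (F.obj M)) ≫ inv (xi adj adj' e (L.obj (F.obj M)))) ≫
          xi adj adj' e (L.obj (F.obj M)) ≫ a.map (G.map (bcPush adjg adjg' e M)) := by
        rw [Category.assoc, IsIso.inv_hom_id_assoc, a.map_comp]
    _ = adj.unit.app M ≫ (adjg'.unit.app (a.obj (F.obj M)) ≫
          G'.map (bcMap adj adj' adjg adjg' e (F.obj M) (hξ _))) ≫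
          G'.map (a'.map (bcPush adjg adjg' e M)) ≫ xi adj adj' e (F'.obj (L'.obj M)) := by
        rw [unit_map_bcMap, xi_naturality]
    _ = (adjg'.unit.app M ≫ G'.map (L'.map (adj.unit.app M) ≫
          bcMap adj adj' adjg adjg' e (F.obj M) (hξ _) ≫ a'.map (bcPush adjg adjg' e M))) ≫
          xi adj adj' e (F'.obj (L'.obj M)) := by
        simp only [Functor.map_comp, Category.assoc]
        exact (adjg'.unit_naturality_assoc (adj.unit.app M) _).symm

end Groth.Agent.Lib.Helper6.AdjBC
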