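import Mathlib
import Groth.Agent.Lib.Helper19.ArtFunLength

/-!
# Essential surjections of Artinian local `Λ`-algebras and differentials

General (unbundled) lemmas: functionals on `k ⊗ Ω_{S/R}` are `R`-derivations `S → k`.
-/

set_option autoImplicit false

namespace Groth.Agent.Lib.Helper6.ArtEss

open TensorProduct

section General

variable {R S k : Type*} [CommRing R] [CommRing S] [Field k] [Algebra R S] [Algebra S k]
  [Algebra R k] [IsScalarTower R S k]

/-- `k`-linear version of `linearMapEquivDerivation` with values in the residue field. -/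
noncomputable def homEquivDer : (Ω[S⁄R] →ₗ[S] k) ≃ₗ[k] Derivation R S k :=
  LinearEquiv.ofBijective
    { toFun := fun l => l.compDer (KaehlerDifferential.D R S)
      map_add' := fun l l' => by ext s; rfl
      map_smul' := fun c l => by ext s; rfl }
    (by
      have h := (KaehlerDifferential.linearMapEquivDerivation R S (M := k)).bijective
      constructor
      · intro l l' hl
        apply h.1
        exact hl
      · intro d
        obtain ⟨l, hl⟩ := h.2 d
        exact ⟨l, hl⟩)

theorem homEquivDer_apply (l : Ω[S⁄R] →ₗ[S] k) (s : S) :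
    homEquivDer (R := R) l s = l (KaehlerDifferential.D R S s) := rfl

/-- functionals on `k ⊗ Ω` are derivations into `k` -/
noncomputable def dualEquivDer : Module.Dual k (k ⊗[S] Ω[S⁄R]) ≃ₗ[k] Derivation R S k :=
  (LinearMap.liftBaseChangeEquiv k).symm.trans homEquivDer

theorem finrank_der_eq :
    Module.finrank k (Derivation R S k) = Module.finrank k (k ⊗[S] Ω[S⁄R]) := by
  rw [← (dualEquivDer (R := R) (S := S) (k := k)).finrank_eq, Subspace.dual_finrank_eq]

theorem finite_der [Module.Finite S Ω[S⁄R]] : Module.Finite k (Derivation R S k) :=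
  Module.Finite.equiv (dualEquivDer (R := R) (S := S) (k := k))

/-- If every `S`-linear map `M → k` vanishes then `k ⊗ M = 0`. -/
theorem subsingleton_tensor_of_forall_hom_eq_zero {M : Type*} [AddCommGroup M] [Module S M]
    (h : ∀ l : M →ₗ[S] k, l = 0) : Subsingleton (k ⊗[S] M) := by
  refine ⟨fun x y => ?_⟩
  have h0 : ∀ z : k ⊗[S] M, z = 0 := by
    intro z
    rw [← Module.forall_dual_apply_eq_zero_iff k z]
    intro φ
    have hl : (LinearMap.liftBaseChangeEquiv k).symm φ = 0 := h _
    have hφ : φ = 0 := by
      have := congrArg (LinearMap.liftBaseChangeEquiv (R := S) (M := M) (N := k) k) hl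
      simpa using this
    rw [hφ]; rfl
  rw [h0 x, h0 y]

/-- If every `R`-derivation `S → k` vanishes then `k ⊗ Ω_{S/R} = 0`. -/
theorem subsingleton_tensor_kaehler_of_forall_der_eq_zero
    (h : ∀ d : Derivation R S k, d = 0) : Subsingleton (k ⊗[S] Ω[S⁄R]) := by
  apply subsingleton_tensor_of_forall_hom_eq_zero
  intro l
  apply (homEquivDer (R := R) (S := S) (k := k)).injective
  rw [h (homEquivDer l), map_zero]

end General

end Groth.Agent.Lib.Helper6.ArtEss
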