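import Mathlib
import Groth.Agent.Lib.Helper6.ArtEss1

/-!
# Essential surjections in `ArtFun.Art Λ k` and differentials (bundled part)

`surjective_of_subsingleton` reproduces helper15's argument for S12751 (hard direction) as a library
lemma.  `essential_iff` is the criterion "essential surjection iff `Ω_{B/Λ} ⊗ k → Ω_{A/Λ} ⊗ k` is an
isomorphism".
-/

set_option autoImplicit false
universe u

open CategoryTheory
open scoped TensorProduct
open ArtFun ArtFun.Art

namespace Groth.Agent.Lib.Helper6.ArtEss

variable {Λ : Type u} {k : Type u} [CommRing Λ] [Field k] [Algebra Λ k]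

theorem subsingleton_of_surjective {A B : ArtFun.Art Λ k} (f : B ⟶ A) :
    letI : Algebra B A := f.toAlgHom.toRingHom.toAlgebra
    letI : Algebra A k := A.res.toRingHom.toAlgebra
    Function.Surjective f → Subsingleton (k ⊗[A] Ω[A⁄B]) := by
  letI algBA : Algebra B A := f.toAlgHom.toRingHom.toAlgebra
  letI algAk : Algebra A k := A.res.toRingHom.toAlgebra
  show Function.Surjective f → Subsingleton (k ⊗[A] Ω[A⁄B])
  intro hf
  have : Subsingleton (Ω[A⁄B]) := KaehlerDifferential.subsingleton_of_surjective B A hf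
  refine ⟨fun x y => ?_⟩
  have h0 : ∀ z : k ⊗[A] Ω[A⁄B], z = 0 := by
    intro z
    induction z using TensorProduct.induction_on with
    | zero => rfl
    | tmul a w => rw [Subsingleton.elim w 0, TensorProduct.tmul_zero]
    | add a b ha hb => rw [ha, hb, add_zero]
  rw [h0 x, h0 y]

theorem surjective_of_subsingleton [IsNoetherianRing Λ] [Module.Finite Λ k]
    {A B : ArtFun.Art Λ k} (f : B ⟶ A) :
    letI : Algebra B A := f.toAlgHom.toRingHom.toAlgebra
    letI : Algebra A k := A.res.toRingHom.toAlgebra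
    Subsingleton (k ⊗[A] Ω[A⁄B]) → Function.Surjective f := by
  letI algBA : Algebra B A := f.toAlgHom.toRingHom.toAlgebra
  letI algAk : Algebra A k := A.res.toRingHom.toAlgebra
  show Subsingleton (k ⊗[A] Ω[A⁄B]) → Function.Surjective f
  intro hsub
  have hsurjres : Function.Surjective (Algebra.linearMap A k) := A.res_surjective
  have hex : Function.Exact ((IsLocalRing.maximalIdeal A).subtype)
      (Algebra.linearMap A k) := by
    intro a
    constructor
    · intro ha
      exact ⟨⟨a, (mem_maximalIdeal_iff A a).mpr ha⟩, rfl⟩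
    · rintro ⟨m, rfl⟩
      exact (mem_maximalIdeal_iff A m.1).mp m.2
  have hex2 := rTensor_exact (Ω[A⁄B]) hex hsurjres
  have htop : (⊤ : Submodule A (Ω[A⁄B])) ≤ (IsLocalRing.maximalIdeal A) • ⊤ := by
    intro ω _
    have h1 : LinearMap.rTensor (Ω[A⁄B]) (Algebra.linearMap A k) ((1 : A) ⊗ₜ ω) = 0 :=
      Subsingleton.elim _ _
    obtain ⟨t, ht⟩ := (hex2 _).mp h1
    have h2 : ∀ t : (IsLocalRing.maximalIdeal A) ⊗[A] Ω[A⁄B],
        TensorProduct.lid A _ (LinearMap.rTensor _ ((IsLocalRing.maximalIdeal A).subtype) t) ∈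
          (IsLocalRing.maximalIdeal A) • (⊤ : Submodule A (Ω[A⁄B])) := by
      intro t
      induction t using TensorProduct.induction_on with
      | zero => simp
      | tmul m w =>
        rw [LinearMap.rTensor_tmul, TensorProduct.lid_tmul]
        exact Submodule.smul_mem_smul m.2 Submodule.mem_top
      | add x y hx hy =>
        rw [map_add, map_add]
        exact add_mem hx hy
    have h3 := h2 t
    rw [ht, TensorProduct.lid_tmul, one_smul] at h3
    exact h3
  obtain ⟨n, hn⟩ := Groth.Agent.Lib.Helper19.ArtFunBasic.exists_maximalIdeal_pow_eq_bot A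
  have hpow : ∀ j : ℕ, (⊤ : Submodule A (Ω[A⁄B])) ≤ (IsLocalRing.maximalIdeal A ^ j) • ⊤ := by
    intro j
    induction j with
    | zero => rw [pow_zero, Ideal.one_eq_top, Submodule.top_smul]
    | succ j ih =>
      rw [pow_succ, Submodule.mul_smul]
      exact ih.trans (Submodule.smul_mono le_rfl htop)
  have hΩ : Subsingleton (Ω[A⁄B]) := by
    have h4 := hpow n
    rw [hn, Submodule.bot_smul] at h4
    refine ⟨fun x y => ?_⟩
    have hx := h4 (Submodule.mem_top : x ∈ ⊤)
    have hy := h4 (Submodule.mem_top : y ∈ ⊤)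
    rw [Submodule.mem_bot] at hx hy
    rw [hx, hy]
  have : Algebra.FormallyUnramified B A := ⟨hΩ⟩
  obtain ⟨I, hI⟩ : ∃ I : Ideal A, I = Ideal.map f.toAlgHom (IsLocalRing.maximalIdeal B) ⊔
      IsLocalRing.maximalIdeal A ^ 2 := ⟨_, rfl⟩
  have hIle : I ≤ IsLocalRing.maximalIdeal A := by
    rw [hI]
    exact sup_le (Groth.Agent.Lib.Helper19.ArtFunBasic.map_maximalIdeal_le f)
      (Ideal.pow_le_self two_ne_zero)
  have halg : ∀ b : B, algebraMap B (A ⧸ I) b = Ideal.Quotient.mk I (f b) := fun b => rfl
  have hker : RingHom.ker (B.res : B →+* k) ≤ RingHom.ker (algebraMap B (A ⧸ I)) := by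
    intro b hb
    rw [RingHom.mem_ker] at hb ⊢
    have hb' : b ∈ IsLocalRing.maximalIdeal B := (mem_maximalIdeal_iff B b).mpr hb
    rw [halg, Ideal.Quotient.eq_zero_iff_mem, hI]
    exact Ideal.mem_sup_left (Ideal.mem_map_of_mem _ hb')
  obtain ⟨σ, hσ⟩ : ∃ σ : k →+* (A ⧸ I), ∀ b : B, σ (B.res b) = algebraMap B (A ⧸ I) b := by
    refine ⟨(B.res : B →+* k).liftOfRightInverse (Function.surjInv B.res_surjective)
      (Function.rightInverse_surjInv B.res_surjective) ⟨algebraMap B (A ⧸ I), hker⟩,
      fun b => ?_⟩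
    exact RingHom.liftOfRightInverse_comp_apply _ _ _ _ b
  obtain ⟨g₂, hg₂⟩ : ∃ g₂ : A →ₐ[B] (A ⧸ I), ∀ a, g₂ a = σ (A.res a) :=
    ⟨{ toRingHom := σ.comp (A.res : A →+* k)
       commutes' := fun b => by
        show σ (A.res (f b)) = algebraMap B (A ⧸ I) b
        rw [res_app f b, hσ] }, fun a => rfl⟩
  have hJ : IsNilpotent ((IsLocalRing.maximalIdeal A).map (Ideal.Quotient.mk I)) := by
    refine ⟨2, ?_⟩
    rw [← Ideal.map_pow, Ideal.zero_eq_bot, eq_bot_iff]
    calc Ideal.map (Ideal.Quotient.mk I) (IsLocalRing.maximalIdeal A ^ 2)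
        ≤ Ideal.map (Ideal.Quotient.mk I) I :=
          Ideal.map_mono (by rw [hI]; exact le_sup_right)
      _ = ⊥ := Ideal.map_quotient_self I
  have hagree : ∀ a, Ideal.Quotient.mk ((IsLocalRing.maximalIdeal A).map (Ideal.Quotient.mk I))
      (Ideal.Quotient.mkₐ B I a) =
      Ideal.Quotient.mk ((IsLocalRing.maximalIdeal A).map (Ideal.Quotient.mk I)) (g₂ a) := by
    intro a
    obtain ⟨b, hb⟩ := B.res_surjective (A.res a)
    rw [Ideal.Quotient.eq, hg₂, ← hb, hσ, halg]
    have h1 : (Ideal.Quotient.mkₐ B I a) - Ideal.Quotient.mk I (f b) =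
        Ideal.Quotient.mk I (a - f b) := by
      rw [map_sub]; rfl
    rw [h1]
    apply Ideal.mem_map_of_mem
    rw [mem_maximalIdeal_iff, map_sub, res_app, hb, sub_self]
  have heq : Ideal.Quotient.mkₐ B I = g₂ := Algebra.FormallyUnramified.ext _ hJ hagree
  have hmI : IsLocalRing.maximalIdeal A ≤ I := by
    intro a ha
    have h1 : Ideal.Quotient.mkₐ B I a = g₂ a := by rw [heq]
    rw [hg₂, (mem_maximalIdeal_iff A a).mp ha, map_zero] at h1
    exact Ideal.Quotient.eq_zero_iff_mem.mp h1
  apply Groth.Agent.Lib.Helper19.ArtFunBasic.surjective_of_map_sup_sq f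
  rw [← hI]
  exact le_antisymm hIle hmI

/-- The morphism `B ⟶ k[ε]` defined by a derivation-like map `D : B → k`. -/
noncomputable def derHom (B : ArtFun.Art Λ k) (D : B → k)
    (hadd : ∀ a b, D (a + b) = D a + D b)
    (hmul : ∀ a b, D (a * b) = B.res a * D b + B.res b * D a)
    (hΛ : ∀ l : Λ, D (algebraMap Λ B l) = 0) : B ⟶ dual Λ k :=
  have h0 : D 0 = 0 := by
    have := hadd 0 0
    rw [add_zero] at this
    exact left_eq_add.mp this
  have h1 : D 1 = 0 := by
    have := hmul 1 1
    rw [mul_one, map_one, one_mul] at this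
    exact left_eq_add.mp this
  ⟨{ toFun := fun b => ((B.res b, D b) : TrivSqZeroExt k k)
     map_one' := TrivSqZeroExt.ext (map_one B.res) h1
     map_mul' := fun x y => TrivSqZeroExt.ext (map_mul B.res x y) (by
       change D (x * y) = B.res x • D y + MulOpposite.op (B.res y) • D x
       rw [hmul, MulOpposite.smul_eq_mul_unop, MulOpposite.unop_op, smul_eq_mul, mul_comm (D x)])
     map_zero' := TrivSqZeroExt.ext (map_zero B.res) h0
     map_add' := fun x y => TrivSqZeroExt.ext (map_add B.res x y) (hadd x y)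
     commutes' := fun l => by
       have hl : algebraMap Λ (TrivSqZeroExt k k) l = TrivSqZeroExt.inl (algebraMap Λ k l) :=
         TrivSqZeroExt.algebraMap_eq_inl' Λ k k l
       change ((B.res (algebraMap Λ B l), D (algebraMap Λ B l)) : TrivSqZeroExt k k) =
         algebraMap Λ (TrivSqZeroExt k k) l
       rw [hl]
       exact TrivSqZeroExt.ext (B.res.commutes l) (hΛ l) },
   AlgHom.ext fun _ => rfl⟩

theorem derHom_snd (B : ArtFun.Art Λ k) (D : B → k) (hadd hmul hΛ) (b : B) :
    TrivSqZeroExt.snd ((derHom B D hadd hmul hΛ) b : DualNumber k) = D b := rfl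

theorem derHom_fst (B : ArtFun.Art Λ k) (D : B → k) (hadd hmul hΛ) (b : B) :
    TrivSqZeroExt.fst ((derHom B D hadd hmul hΛ) b : DualNumber k) = B.res b := rfl

/-- If `f` is an essential surjection, every derivation-like map `B → k` kills `ker f`. -/
theorem der_ker_eq_zero_of_essential [IsNoetherianRing Λ] [Module.Finite Λ k]
    {A B : ArtFun.Art Λ k} (f : B ⟶ A) (hf : Function.Surjective f)
    (hess : ∀ (C : ArtFun.Art Λ k) (g : C ⟶ B), Function.Surjective (g ≫ f) → Function.Surjective g)
    (D : B → k) (hadd : ∀ a b, D (a + b) = D a + D b)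
    (hmul : ∀ a b, D (a * b) = B.res a * D b + B.res b * D a)
    (hΛ : ∀ l : Λ, D (algebraMap Λ B l) = 0) (x : B) (hx : f x = 0) : D x = 0 := by
  by_contra hDx
  have hresx : B.res x = 0 := by rw [← res_app f x, hx, map_zero]
  have hneg : ∀ a, D (-a) = - D a := by
    intro a
    have h0 : D 0 = 0 := by
      have := hadd 0 0
      rw [add_zero] at this
      exact left_eq_add.mp this
    have := hadd a (-a)
    rw [add_neg_cancel, h0] at this
    exact eq_neg_of_add_eq_zero_right this.symm
  let δ := derHom B D hadd hmul hΛ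
  have hδ : Function.Surjective δ := by
    intro y
    obtain ⟨b₀, hb₀⟩ := B.res_surjective (TrivSqZeroExt.fst (y : DualNumber k))
    obtain ⟨t, ht⟩ := B.res_surjective ((TrivSqZeroExt.snd (y : DualNumber k) - D b₀) / D x)
    refine ⟨b₀ + t * x, ?_⟩
    apply TrivSqZeroExt.ext
    · show B.res (b₀ + t * x) = _
      rw [map_add, map_mul, hresx, mul_zero, add_zero, hb₀]
    · show D (b₀ + t * x) = _
      rw [hadd, hmul, hresx, zero_mul, add_zero, ht]
      field_simp
      ring
  obtain ⟨C, p₁, p₂, hfp⟩ := Groth.Agent.Lib.Helper19.ArtFunLength.exists_isFibreProd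
    (baseToDual (Λ := Λ) (k := k)) δ hδ
  have hsurj : Function.Surjective (p₂ ≫ f) := by
    intro a
    obtain ⟨b₀, hb₀⟩ := hf a
    obtain ⟨t, ht⟩ := B.res_surjective (D b₀ / D x)
    have hDb : D (b₀ + -(t * x)) = 0 := by
      rw [hadd, hneg, hmul, hresx, zero_mul, add_zero, ht]
      field_simp
      ring
    have heq : (baseToDual (Λ := Λ) (k := k)) (B.res (b₀ + -(t * x)) : k) = δ (b₀ + -(t * x)) := by
      apply TrivSqZeroExt.ext
      · rfl
      · show (0 : k) = D (b₀ + -(t * x))
        rw [hDb]
    obtain ⟨c, -, hc⟩ := hfp.surj _ _ heq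
    refine ⟨c, ?_⟩
    show f (p₂ c) = a
    rw [hc]
    have : f (b₀ + -(t * x)) = f b₀ + -(f t * f x) := by
      have h1 : f (b₀ + -(t * x)) = f b₀ + f (-(t * x)) := map_add f.toAlgHom _ _
      have h2 : f (-(t * x)) = - f (t * x) := map_neg f.toAlgHom _
      have h3 : f (t * x) = f t * f x := map_mul f.toAlgHom _ _
      rw [h1, h2, h3]
    rw [this, hx, mul_zero, neg_zero, add_zero, hb₀]
  obtain ⟨c, hc⟩ := hess C p₂ hsurj x
  have h1 := hfp.w_apply c
  rw [hc] at h1
  have h2 := congrArg TrivSqZeroExt.snd h1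
  have h3 : TrivSqZeroExt.snd ((baseToDual (Λ := Λ) (k := k)) (p₁ c) : DualNumber k) = 0 := rfl
  rw [h3] at h2
  exact hDx h2.symm

set_option maxHeartbeats 1000000 in
/-- `f : B ⟶ A` is an essential surjection iff `Ω_{B/Λ} ⊗ k → Ω_{A/Λ} ⊗ k` is an isomorphism. -/
theorem essential_iff [IsNoetherianRing Λ] [Module.Finite Λ k] {A B : ArtFun.Art Λ k} (f : B ⟶ A) :
    letI : Algebra B A := f.toAlgHom.toRingHom.toAlgebra
    letI : Algebra A k := A.res.toRingHom.toAlgebra
    letI : Algebra B k := B.res.toRingHom.toAlgebra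
    (Function.Surjective f ∧ ∀ (C : ArtFun.Art Λ k) (g : C ⟶ B),
        Function.Surjective (g ≫ f) → Function.Surjective g) ↔
      (Subsingleton (k ⊗[A] Ω[A⁄B]) ∧
        Module.finrank k (k ⊗[B] Ω[B⁄Λ]) = Module.finrank k (k ⊗[A] Ω[A⁄Λ])) := by
  letI algBA : Algebra B A := f.toAlgHom.toRingHom.toAlgebra
  letI algAk : Algebra A k := A.res.toRingHom.toAlgebra
  letI algBk : Algebra B k := B.res.toRingHom.toAlgebra
  show (Function.Surjective f ∧ ∀ (C : ArtFun.Art Λ k) (g : C ⟶ B),
        Function.Surjective (g ≫ f) → Function.Surjective g) ↔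
      (Subsingleton (k ⊗[A] Ω[A⁄B]) ∧
        Module.finrank k (k ⊗[B] Ω[B⁄Λ]) = Module.finrank k (k ⊗[A] Ω[A⁄Λ]))
  have tBAk : IsScalarTower B A k := IsScalarTower.of_algebraMap_eq (fun b => (res_app f b).symm)
  have tΛBA : IsScalarTower Λ B A :=
    IsScalarTower.of_algebraMap_eq (fun l => (f.toAlgHom.commutes l).symm)
  have tΛAk : IsScalarTower Λ A k :=
    IsScalarTower.of_algebraMap_eq (fun l => (A.res.commutes l).symm)
  have tΛBk : IsScalarTower Λ B k :=
    IsScalarTower.of_algebraMap_eq (fun l => (B.res.commutes l).symm)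
  have finB : Module.Finite Λ B := Groth.Agent.Lib.Helper19.ArtFunLength.finite_art B
  have finA : Module.Finite Λ A := Groth.Agent.Lib.Helper19.ArtFunLength.finite_art A
  -- restriction of derivations
  let ρ : Derivation Λ A k →ₗ[k] Derivation Λ B k :=
    { toFun := fun d => d.compAlgebraMap B
      map_add' := fun d d' => by ext b; rfl
      map_smul' := fun c d => by ext b; rfl }
  have hρ : ∀ (d : Derivation Λ A k) (b : B), ρ d b = d (f b) := fun d b => rfl
  have hfdB : Module.Finite k (Derivation Λ B k) := finite_der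
  have hfdA : Module.Finite k (Derivation Λ A k) := finite_der
  have hrB : Module.finrank k (Derivation Λ B k) = Module.finrank k (k ⊗[B] Ω[B⁄Λ]) :=
    finrank_der_eq
  have hrA : Module.finrank k (Derivation Λ A k) = Module.finrank k (k ⊗[A] Ω[A⁄Λ]) :=
    finrank_der_eq
  have hinj : Function.Surjective f → Function.Injective ρ := by
    intro hf d d' hdd
    ext a
    obtain ⟨b, rfl⟩ := hf a
    have := congrArg (fun e : Derivation Λ B k => e b) hdd
    exact this
  constructor
  · rintro ⟨hf, hess⟩
    refine ⟨subsingleton_of_surjective f hf, ?_⟩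
    have hsurj : Function.Surjective ρ := by
      intro D
      have hker : ∀ x : B, f x = 0 → D x = 0 := fun x hx =>
        der_ker_eq_zero_of_essential f hf hess D (fun a b => map_add D a b)
          (fun a b => by rw [D.leibniz]; rfl) (fun l => D.map_algebraMap l) x hx
      have hker' : ∀ b b' : B, f b = f b' → D b = D b' := by
        intro b b' h
        have h0 : D (b - b') = 0 := hker _ (by
          have : f (b - b') = f b - f b' := map_sub f.toAlgHom b b'
          rw [this, h, sub_self])
        rwa [map_sub, sub_eq_zero] at h0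
      let s := Function.surjInv hf
      have hs : ∀ a, f (s a) = a := Function.surjInv_eq hf
      let L : A →ₗ[Λ] k :=
        { toFun := fun a => D (s a)
          map_add' := fun a a' => by
            rw [← map_add]
            apply hker'
            have : f (s a + s a') = f (s a) + f (s a') := map_add f.toAlgHom _ _
            rw [this, hs, hs, hs]
          map_smul' := fun l a => by
            rw [RingHom.id_apply, ← D.map_smul]
            apply hker'
            have : f (l • s a) = l • f (s a) := map_smul f.toAlgHom l (s a)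
            rw [this, hs, hs] }
      let D' : Derivation Λ A k := Derivation.mk' L (fun a a' => by
        show D (s (a * a')) = a • D (s a') + a' • D (s a)
        have h1 : D (s (a * a')) = D (s a * s a') := by
          apply hker'
          have : f (s a * s a') = f (s a) * f (s a') := map_mul f.toAlgHom _ _
          rw [this, hs, hs, hs]
        rw [h1, D.leibniz]
        have e1 : ∀ (b : B) (c : k), b • c = (f b) • c := fun b c => by
          rw [Algebra.smul_def, Algebra.smul_def]; congr 1; exact (res_app f b).symm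
        rw [e1, e1, hs, hs])
      refine ⟨D', ?_⟩
      ext b
      show D (s (f b)) = D b
      exact hker' _ _ (hs _)
    have e := LinearEquiv.ofBijective ρ ⟨hinj hf, hsurj⟩
    rw [← hrB, ← hrA, e.finrank_eq]
  · rintro ⟨hsub, hrk⟩
    have hf : Function.Surjective f := surjective_of_subsingleton f hsub
    have hsurj : Function.Surjective ρ :=
      (LinearMap.injective_iff_surjective_of_finrank_eq_finrank
        (by rw [hrA, hrB, hrk])).mp (hinj hf)
    refine ⟨hf, ?_⟩
    intro C g hgf
    apply surjective_of_subsingleton g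
    letI algCB : Algebra C B := g.toAlgHom.toRingHom.toAlgebra
    letI algCk : Algebra C k := C.res.toRingHom.toAlgebra
    have tCBk : IsScalarTower C B k :=
      IsScalarTower.of_algebraMap_eq (fun c => (res_app g c).symm)
    have tΛCB : IsScalarTower Λ C B :=
      IsScalarTower.of_algebraMap_eq (fun l => (g.toAlgHom.commutes l).symm)
    have tΛCk : IsScalarTower Λ C k :=
      IsScalarTower.of_algebraMap_eq (fun l => (C.res.commutes l).symm)
    show Subsingleton (k ⊗[B] Ω[B⁄C])
    apply subsingleton_tensor_kaehler_of_forall_der_eq_zero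
    intro d
    obtain ⟨D', hD'⟩ := hsurj (d.restrictScalars Λ)
    have hD'0 : D' = 0 := by
      ext a
      obtain ⟨c, rfl⟩ := hgf a
      have h1 : D' (f (g c)) = (d.restrictScalars Λ) (g c) := by rw [← hD']; rfl
      have h2 : D' ((g ≫ f) c) = D' (f (g c)) := rfl
      rw [h2, h1]
      show d (algebraMap C B c) = 0
      exact d.map_algebraMap c
    ext b
    have h2 : d b = (d.restrictScalars Λ) b := rfl
    rw [h2, ← hD', hD'0]
    rfl

end Groth.Agent.Lib.Helper6.ArtEss
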