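import Mathlib
import Groth.Agent.Lib.Helper6.ArtEss2

/-!
# Essential surjections and relative cotangent spaces, separable residue field case
-/

set_option autoImplicit false
universe u

open CategoryTheory
open scoped TensorProduct
open ArtFun ArtFun.Art

namespace Groth.Agent.Lib.Helper6.ArtEss

section General

variable {Λ k B : Type u} [CommRing Λ] [Field k] [Algebra Λ k] [CommRing B] [Algebra Λ B]

theorem ker_algebraMap_isMaximal [Algebra.IsSeparable (↥(algebraMap Λ k).range) k] :
    (RingHom.ker (algebraMap Λ k)).IsMaximal := by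
  have hint : Algebra.IsIntegral (↥(algebraMap Λ k).range) k :=
    ⟨fun x => Algebra.IsSeparable.isIntegral _ x⟩
  have h1 : IsField (↥(algebraMap Λ k).range) :=
    isField_of_isIntegral_of_isField (S := k) Subtype.val_injective (Field.toIsField k)
  have h2 : IsField (Λ ⧸ RingHom.ker (algebraMap Λ k)) :=
    MulEquiv.isField h1 (RingHom.quotientKerEquivRange (algebraMap Λ k)).toMulEquiv
  exact Ideal.Quotient.maximal_of_isField _ h2

theorem exists_section [Algebra.IsSeparable (↥(algebraMap Λ k).range) k]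
    (res : B →ₐ[Λ] k) (hres : Function.Surjective res)
    (hsq : ∀ z w : B, res z = 0 → res w = 0 → z * w = 0)
    (hΛ : ∀ l : Λ, algebraMap Λ k l = 0 → algebraMap Λ B l = 0) :
    ∃ σ : k →ₐ[Λ] B, ∀ c, res (σ c) = c := by
  let I : Ideal Λ := RingHom.ker (algebraMap Λ k)
  have hmax : I.IsMaximal := ker_algebraMap_isMaximal
  letI : Field (Λ ⧸ I) := Ideal.Quotient.field I
  let φk : Λ ⧸ I →+* k := Ideal.Quotient.lift I (algebraMap Λ k) (fun a ha => ha)
  let φB : Λ ⧸ I →+* B := Ideal.Quotient.lift I (algebraMap Λ B) (fun a ha => hΛ a ha)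
  letI a1 : Algebra (Λ ⧸ I) k := φk.toAlgebra
  letI a2 : Algebra (Λ ⧸ I) B := φB.toAlgebra
  have hk : ∀ l : Λ, algebraMap (Λ ⧸ I) k (Ideal.Quotient.mk I l) = algebraMap Λ k l :=
    fun l => rfl
  have hB : ∀ l : Λ, algebraMap (Λ ⧸ I) B (Ideal.Quotient.mk I l) = algebraMap Λ B l :=
    fun l => rfl
  have hsep : Algebra.IsSeparable (Λ ⧸ I) k := by
    let e := RingHom.quotientKerEquivRange (algebraMap Λ k)
    have hcomp : ∀ y : Λ ⧸ I, algebraMap (↥(algebraMap Λ k).range) k (e y) =
        algebraMap (Λ ⧸ I) k y := by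
      intro y
      obtain ⟨l, rfl⟩ := Ideal.Quotient.mk_surjective y
      rfl
    have hcomp' : (algebraMap (Λ ⧸ I) k).comp (e.symm : ↥(algebraMap Λ k).range →+* Λ ⧸ I) =
        algebraMap (↥(algebraMap Λ k).range) k := by
      apply RingHom.ext
      intro z
      have := hcomp (e.symm z)
      rw [RingEquiv.apply_symm_apply] at this
      exact this.symm
    refine ⟨fun x => ?_⟩
    have hs : (minpoly (↥(algebraMap Λ k).range) x).Separable :=
      Algebra.IsSeparable.isSeparable _ x
    have hq : ((minpoly (↥(algebraMap Λ k).range) x).map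
        (e.symm : ↥(algebraMap Λ k).range →+* Λ ⧸ I)).Separable := hs.map
    have hqx : Polynomial.aeval x ((minpoly (↥(algebraMap Λ k).range) x).map
        (e.symm : ↥(algebraMap Λ k).range →+* Λ ⧸ I)) = 0 := by
      rw [Polynomial.aeval_def, Polynomial.eval₂_map, hcomp', ← Polynomial.aeval_def,
        minpoly.aeval]
    exact hq.of_dvd (minpoly.dvd _ x hqx)
  have fe : Algebra.FormallyEtale (Λ ⧸ I) k := Algebra.FormallyEtale.of_isSeparable _ _
  let res₀ : B →ₐ[Λ ⧸ I] k :=
    { res.toRingHom with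
      commutes' := fun x => by
        obtain ⟨l, rfl⟩ := Ideal.Quotient.mk_surjective x
        show res (algebraMap (Λ ⧸ I) B (Ideal.Quotient.mk I l)) =
          algebraMap (Λ ⧸ I) k (Ideal.Quotient.mk I l)
        rw [hk, hB, res.commutes] }
  have hres₀ : ∀ x, res₀ x = res x := fun x => rfl
  have hnil : IsNilpotent (RingHom.ker (res₀ : B →+* k)) := by
    refine ⟨2, ?_⟩
    rw [pow_two, Ideal.zero_eq_bot, eq_bot_iff, Ideal.mul_le]
    intro z hz w hw
    rw [Ideal.mem_bot]
    exact hsq z w hz hw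
  let σ₀ := Algebra.FormallySmooth.liftOfSurjective (AlgHom.id (Λ ⧸ I) k) res₀ hres hnil
  have hσ₀ : ∀ c, res (σ₀ c) = c := fun c =>
    Algebra.FormallySmooth.liftOfSurjective_apply (AlgHom.id (Λ ⧸ I) k) res₀ hres hnil c
  refine ⟨{ σ₀.toRingHom with
      commutes' := fun l => by
        show σ₀ (algebraMap Λ k l) = algebraMap Λ B l
        rw [← hk, σ₀.commutes, hB] }, hσ₀⟩

theorem der_eq_zero_of_mem (res : B →ₐ[Λ] k) (D : B → k)
    (hadd : ∀ a b, D (a + b) = D a + D b)
    (hmul : ∀ a b, D (a * b) = res a * D b + res b * D a)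
    (hΛ : ∀ l : Λ, D (algebraMap Λ B l) = 0) (x : B)
    (hx : x ∈ Ideal.map (algebraMap Λ B) (RingHom.ker (algebraMap Λ k)) ⊔
      (RingHom.ker (res : B →+* k)) ^ 2) : D x = 0 := by
  have h0 : D 0 = 0 := by
    have := hadd 0 0
    rw [add_zero] at this
    exact left_eq_add.mp this
  have hPadd : ∀ x y, (res x = 0 ∧ D x = 0) → (res y = 0 ∧ D y = 0) →
      (res (x + y) = 0 ∧ D (x + y) = 0) := by
    rintro x y ⟨h1, h2⟩ ⟨h3, h4⟩
    exact ⟨by rw [map_add, h1, h3, add_zero], by rw [hadd, h2, h4, add_zero]⟩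
  have hPmul : ∀ a x, (res x = 0 ∧ D x = 0) → (res (a * x) = 0 ∧ D (a * x) = 0) := by
    rintro a x ⟨h1, h2⟩
    exact ⟨by rw [map_mul, h1, mul_zero], by rw [hmul, h1, h2, mul_zero, zero_mul, add_zero]⟩
  have hP1 : ∀ y ∈ Ideal.map (algebraMap Λ B) (RingHom.ker (algebraMap Λ k)),
      (res y = 0 ∧ D y = 0) := by
    intro y hy
    refine Submodule.span_induction ?_ ?_ ?_ ?_ hy
    · rintro _ ⟨l, hl, rfl⟩
      refine ⟨?_, hΛ l⟩
      show res (algebraMap Λ B l) = 0
      rw [res.commutes]
      exact hl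
    · exact ⟨map_zero _, h0⟩
    · intro x y _ _ hx hy
      exact hPadd x y hx hy
    · intro a x _ hx
      exact hPmul a x hx
  have hP2 : ∀ y ∈ (RingHom.ker (res : B →+* k)) ^ 2, (res y = 0 ∧ D y = 0) := by
    intro y hy
    rw [pow_two] at hy
    refine Submodule.mul_induction_on hy ?_ ?_
    · intro m hm n hn
      have hm' : res m = 0 := hm
      have hn' : res n = 0 := hn
      exact ⟨by rw [map_mul, hm', zero_mul], by rw [hmul, hm', hn', zero_mul, zero_mul, add_zero]⟩
    · intro x y hx hy
      exact hPadd x y hx hy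
  obtain ⟨y, hy, z, hz, rfl⟩ := Submodule.mem_sup.mp hx
  exact (hPadd y z (hP1 y hy) (hP2 z hz)).2

theorem exists_der_ne_zero [Algebra.IsSeparable (↥(algebraMap Λ k).range) k]
    (res : B →ₐ[Λ] k) (hres : Function.Surjective res) (b : B) (hb0 : res b = 0)
    (hb : b ∉ Ideal.map (algebraMap Λ B) (RingHom.ker (algebraMap Λ k)) ⊔
      (RingHom.ker (res : B →+* k)) ^ 2) :
    ∃ D : B → k, (∀ x y, D (x + y) = D x + D y) ∧
      (∀ x y, D (x * y) = res x * D y + res y * D x) ∧
      (∀ l : Λ, D (algebraMap Λ B l) = 0) ∧ D b ≠ 0 := by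
  let J : Ideal B := Ideal.map (algebraMap Λ B) (RingHom.ker (algebraMap Λ k)) ⊔
    (RingHom.ker (res : B →+* k)) ^ 2
  have hJle : J ≤ RingHom.ker (res : B →+* k) := by
    refine sup_le ?_ (Ideal.pow_le_self two_ne_zero)
    rw [Ideal.map_le_iff_le_comap]
    intro l hl
    rw [Ideal.mem_comap, RingHom.mem_ker]
    show res (algebraMap Λ B l) = 0
    rw [res.commutes]
    exact hl
  let resbar : B ⧸ J →ₐ[Λ] k := Ideal.Quotient.liftₐ J res (fun x hx => hJle hx)
  have hresbar : ∀ x : B, resbar (Ideal.Quotient.mk J x) = res x := fun x => rfl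
  have hsurj : Function.Surjective resbar := fun c => by
    obtain ⟨x, hx⟩ := hres c
    exact ⟨Ideal.Quotient.mk J x, hx⟩
  have hsq : ∀ z w : B ⧸ J, resbar z = 0 → resbar w = 0 → z * w = 0 := by
    intro z w hz hw
    obtain ⟨x, rfl⟩ := Ideal.Quotient.mk_surjective z
    obtain ⟨y, rfl⟩ := Ideal.Quotient.mk_surjective w
    rw [← map_mul, Ideal.Quotient.eq_zero_iff_mem]
    apply Ideal.mem_sup_right
    rw [pow_two]
    exact Ideal.mul_mem_mul hz hw
  have hΛ' : ∀ l : Λ, algebraMap Λ k l = 0 → algebraMap Λ (B ⧸ J) l = 0 := by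
    intro l hl
    show Ideal.Quotient.mk J (algebraMap Λ B l) = 0
    rw [Ideal.Quotient.eq_zero_iff_mem]
    exact Ideal.mem_sup_left (Ideal.mem_map_of_mem _ hl)
  obtain ⟨σ, hσ⟩ := exists_section resbar hsurj hsq hΛ'
  letI : Algebra k (B ⧸ J) := σ.toRingHom.toAlgebra
  have hbne : Ideal.Quotient.mk J b ≠ 0 := fun h => hb (Ideal.Quotient.eq_zero_iff_mem.mp h)
  obtain ⟨φ, hφ⟩ := Module.Projective.exists_dual_ne_zero k hbne
  have hsmul : ∀ (c : k) (z : B ⧸ J), c • z = σ c * z := fun c z => rfl
  let π : B → B ⧸ J := fun x => Ideal.Quotient.mk J x - σ (res x)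
  have hπdef : ∀ x, π x = Ideal.Quotient.mk J x - σ (res x) := fun x => rfl
  have hπ : ∀ x, resbar (π x) = 0 := fun x => by
    rw [hπdef, map_sub, hresbar, hσ, sub_self]
  refine ⟨fun x => φ (π x), ?_, ?_, ?_, ?_⟩
  · intro x y
    show φ (π (x + y)) = φ (π x) + φ (π y)
    rw [← map_add]
    congr 1
    rw [hπdef, hπdef, hπdef]
    simp only [map_add]
    ring
  · intro x y
    have key : π (x * y) = res x • π y + res y • π x := by
      have h1 := hsq _ _ (hπ x) (hπ y)
      rw [hsmul, hsmul]
      rw [hπdef, hπdef] at h1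
      rw [hπdef, hπdef, hπdef]
      simp only [map_mul]
      linear_combination h1
    show φ (π (x * y)) = res x * φ (π y) + res y * φ (π x)
    rw [key, map_add, map_smul, map_smul, smul_eq_mul, smul_eq_mul]
  · intro l
    show φ (π (algebraMap Λ B l)) = 0
    have : π (algebraMap Λ B l) = 0 := by
      rw [hπdef, res.commutes, σ.commutes]
      exact sub_self _
    rw [this, map_zero]
  · show φ (π b) ≠ 0
    have : π b = Ideal.Quotient.mk J b := by
      rw [hπdef, hb0, map_zero, sub_zero]
    rw [this]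
    exact hφ

end General

section Bundled

open Groth.Agent.Lib.Helper19.ArtFunBasic

variable {Λ : Type u} {k : Type u} [CommRing Λ] [Field k] [Algebra Λ k]

/-- A surjection such that every derivation-like map `B → k` kills its kernel is essential. -/
theorem essential_of_der_ker [IsNoetherianRing Λ] [Module.Finite Λ k] {A B : ArtFun.Art Λ k}
    (f : B ⟶ A)
    (hD : ∀ (D : B → k), (∀ a b, D (a + b) = D a + D b) →
      (∀ a b, D (a * b) = B.res a * D b + B.res b * D a) →
      (∀ l : Λ, D (algebraMap Λ B l) = 0) → ∀ x : B, f x = 0 → D x = 0)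
    (C : ArtFun.Art Λ k) (g : C ⟶ B) (hgf : Function.Surjective (g ≫ f)) :
    Function.Surjective g := by
  apply surjective_of_subsingleton g
  letI algCB : Algebra C B := g.toAlgHom.toRingHom.toAlgebra
  letI algBk : Algebra B k := B.res.toRingHom.toAlgebra
  letI algCk : Algebra C k := C.res.toRingHom.toAlgebra
  have tCBk : IsScalarTower C B k :=
    IsScalarTower.of_algebraMap_eq (fun c => (res_app g c).symm)
  show Subsingleton (k ⊗[B] Ω[B⁄C])
  apply subsingleton_tensor_kaehler_of_forall_der_eq_zero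
  intro d
  ext y
  obtain ⟨c, hc⟩ := hgf (f y)
  have hc' : f (g c) = f y := hc
  have hker : f (y - g c) = 0 := by
    have : f (y - g c) = f y - f (g c) := map_sub f.toAlgHom _ _
    rw [this, hc', sub_self]
  have h1 : d (y - g c) = 0 := hD d (fun a b => map_add d a b)
    (fun a b => by rw [d.leibniz]; rfl)
    (fun l => by
      have : algebraMap Λ B l = algebraMap C B (algebraMap Λ C l) :=
        (g.toAlgHom.commutes l).symm
      rw [this]; exact d.map_algebraMap _) _ hker
  have h2 : d (g c) = 0 := d.map_algebraMap c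
  rw [map_sub, h2, sub_zero] at h1
  rw [h1]; rfl

/-- For `k` separable over the image of `Λ`: essential surjections are the morphisms inducing an
isomorphism on relative cotangent spaces. -/
theorem essential_iff_cotangent [IsNoetherianRing Λ] [Module.Finite Λ k]
    [Algebra.IsSeparable (↥(algebraMap Λ k).range) k] {A B : ArtFun.Art Λ k} (f : B ⟶ A) :
    (Function.Surjective f ∧ ∀ (C : ArtFun.Art Λ k) (g : C ⟶ B),
        Function.Surjective (g ≫ f) → Function.Surjective g) ↔
      (Ideal.map (algebraMap Λ A) (RingHom.ker (algebraMap Λ k)) ⊔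
            Ideal.map f.toAlgHom (IsLocalRing.maximalIdeal B) ⊔ IsLocalRing.maximalIdeal A ^ 2 =
          IsLocalRing.maximalIdeal A ∧
        ∀ b ∈ IsLocalRing.maximalIdeal B,
          f b ∈ Ideal.map (algebraMap Λ A) (RingHom.ker (algebraMap Λ k)) ⊔
            IsLocalRing.maximalIdeal A ^ 2 →
          b ∈ Ideal.map (algebraMap Λ B) (RingHom.ker (algebraMap Λ k)) ⊔
            IsLocalRing.maximalIdeal B ^ 2) := by
  have hkerB : RingHom.ker (B.res : B →+* k) = IsLocalRing.maximalIdeal B := by
    ext x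
    rw [RingHom.mem_ker, mem_maximalIdeal_iff]
    rfl
  have hΛA : Ideal.map (algebraMap Λ A) (RingHom.ker (algebraMap Λ k)) ≤
      IsLocalRing.maximalIdeal A := by
    rw [Ideal.map_le_iff_le_comap]
    intro l hl
    exact algebraMap_mem_maximalIdeal A hl
  constructor
  · rintro ⟨hf, hess⟩
    have hmap : Ideal.map f.toAlgHom (IsLocalRing.maximalIdeal B) = IsLocalRing.maximalIdeal A := by
      apply le_antisymm (map_maximalIdeal_le f)
      intro a ha
      obtain ⟨b, rfl⟩ := hf a
      apply Ideal.mem_map_of_mem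
      rw [mem_maximalIdeal_iff] at ha ⊢
      rw [← res_app f b]
      exact ha
    refine ⟨?_, ?_⟩
    · apply le_antisymm
      · exact sup_le (sup_le hΛA (map_maximalIdeal_le f)) (Ideal.pow_le_self two_ne_zero)
      · exact le_sup_of_le_left (le_sup_of_le_right hmap.ge)
    · intro b hb hfb
      by_contra hbJ
      rw [← hkerB] at hbJ
      obtain ⟨D, hadd, hmul, hΛ, hDb⟩ := exists_der_ne_zero B.res B.res_surjective b
        ((mem_maximalIdeal_iff B b).mp hb) hbJ
      apply hDb
      have hJ : Ideal.map (algebraMap Λ A) (RingHom.ker (algebraMap Λ k)) ⊔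
          IsLocalRing.maximalIdeal A ^ 2 =
          Ideal.map f.toAlgHom (Ideal.map (algebraMap Λ B) (RingHom.ker (algebraMap Λ k)) ⊔
            IsLocalRing.maximalIdeal B ^ 2) := by
        have e1 : Ideal.map f.toAlgHom (Ideal.map (algebraMap Λ B)
            (RingHom.ker (algebraMap Λ k))) =
            Ideal.map (algebraMap Λ A) (RingHom.ker (algebraMap Λ k)) := by
          apply le_antisymm
          · rw [Ideal.map_le_iff_le_comap, Ideal.map_le_iff_le_comap]
            intro l hl
            rw [Ideal.mem_comap, Ideal.mem_comap, f.toAlgHom.commutes]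
            exact Ideal.mem_map_of_mem _ hl
          · rw [Ideal.map_le_iff_le_comap]
            intro l hl
            rw [Ideal.mem_comap, ← f.toAlgHom.commutes l]
            exact Ideal.mem_map_of_mem _ (Ideal.mem_map_of_mem _ hl)
        have e2 : Ideal.map f.toAlgHom (IsLocalRing.maximalIdeal B ^ 2) =
            IsLocalRing.maximalIdeal A ^ 2 := by
          rw [Ideal.map_pow, hmap]
        rw [Ideal.map_sup, e1, e2]
      rw [hJ] at hfb
      obtain ⟨x, hx, hxb⟩ := (Ideal.mem_map_iff_of_surjective f.toAlgHom hf).mp hfb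
      have hk : D (b - x) = 0 := der_ker_eq_zero_of_essential f hf hess D hadd hmul hΛ (b - x) (by
        have : f (b - x) = f b - f x := map_sub f.toAlgHom _ _
        rw [this]
        have hxb' : f x = f b := hxb
        rw [hxb', sub_self])
      have hx0 : D x = 0 := der_eq_zero_of_mem B.res D hadd hmul hΛ x (by rw [hkerB]; exact hx)
      have : D b = D ((b - x) + x) := by rw [sub_add_cancel]
      rw [this, hadd, hk, hx0, add_zero]
  · rintro ⟨h1, h2⟩
    have hf : Function.Surjective f := by
      apply surjective_of_map_sup_sq f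
      apply le_antisymm
      · exact sup_le (map_maximalIdeal_le f) (Ideal.pow_le_self two_ne_zero)
      · have hΛle : Ideal.map (algebraMap Λ A) (RingHom.ker (algebraMap Λ k)) ≤
            Ideal.map f.toAlgHom (IsLocalRing.maximalIdeal B) := by
          rw [Ideal.map_le_iff_le_comap]
          intro l hl
          rw [Ideal.mem_comap, ← f.toAlgHom.commutes l]
          exact Ideal.mem_map_of_mem _ (algebraMap_mem_maximalIdeal B hl)
        calc IsLocalRing.maximalIdeal A = _ := h1.symm
          _ ≤ _ := sup_le (sup_le (hΛle.trans le_sup_left) le_sup_left) le_sup_right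
    refine ⟨hf, essential_of_der_ker f ?_⟩
    intro D hadd hmul hΛ x hx
    have hxm : x ∈ IsLocalRing.maximalIdeal B := ker_le_maximalIdeal f hx
    have hxJ := h2 x hxm (by rw [hx]; exact Submodule.zero_mem _)
    exact der_eq_zero_of_mem B.res D hadd hmul hΛ x (by rw [hkerB]; exact hxJ)

end Bundled

end Groth.Agent.Lib.Helper6.ArtEss
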