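import Mathlib
import Groth.Agent.Lib.Helper16.AffDescEtale
import Groth.Agent.Lib.Helper16.QsField
import Groth.Agent.Lib.Helper16.SchemeTop

/-!
# Helper library (helper6): morphisms from the spectrum of an Artinian ring to a quasi-separated algebraic space are
affine
-/

set_option autoImplicit false
universe u
open CategoryTheory CategoryTheory.Limits AlgebraicGeometry
open AlgSp Groth.Agent.Lib.Helper16

namespace Groth.Agent.Lib.Helper6.ArtinAff

/-- A quasi-compact scheme etale over the spectrum of an Artinian ring is affine. -/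
theorem isAffine_of_etale_artinian {W : Scheme.{u}} {A : Type u} [CommRing A] [IsArtinianRing A]
    (q : W ⟶ Spec (CommRingCat.of A)) [Etale q] [CompactSpace W] : IsAffine W := by
  have : LocallyQuasiFinite q := locallyQuasiFinite_of_etale q
  have hdA : DiscreteTopology (Spec (CommRingCat.of A)) := inferInstanceAs (DiscreteTopology (PrimeSpectrum A))
  have hd : _root_.IsDiscrete (q ⁻¹' (Set.univ : Set (Spec (CommRingCat.of A)))) :=
    q.isDiscrete_preimage (isDiscrete_univ_iff.mpr hdA)
  rw [Set.preimage_univ, isDiscrete_univ_iff] at hd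
  have : DiscreteTopology W := hd
  have : Finite W := finite_of_compact_of_discrete
  infer_instance

theorem main9945 {S : Scheme.{u}} [QuasiSeparatedSpace ↥S] (X : AlgSp.Space S)
    (hX : AlgSp.IsQuasiSeparatedSp X.obj) (A : Type u) [CommRing A] [IsArtinianRing A]
    (str : Spec (CommRingCat.of A) ⟶ S) (a : (AlgSp.yon S).obj (Over.mk str) ⟶ X.obj) :
    AlgSp.IsAffineMor a := by
  refine isAffineMor_of_affine_etale_charts (IsAlgSpace.yon_obj _) X.property a ?_
  intro V hV b hbe P fst snd sq
  obtain ⟨W, w, fst', sq'⟩ := hbe.rep a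
  have hwe : Etale w.left := hbe.property a fst' w sq'
  obtain ⟨r, hr⟩ := (yon S).map_surjective fst'
  have sqR : IsPullback ((yon S).map w) ((yon S).map r) a b := by
    rw [hr]
    exact sq'.flip
  have : IsAffine V.left := hV
  have hTq : QuasiCompact (Over.mk str).hom := by
    show QuasiCompact str
    infer_instance
  have hWc : CompactSpace ↥W.left := compactSpace_of_isPullback_of_quasiCompact_diag hX a b w r sqR hTq
  have hWa : IsAffine W.left := isAffine_of_etale_artinian (A := A) w.left
  exact ⟨W, hWa, ⟨sqR.isoIsPullback _ _ sq⟩⟩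

end Groth.Agent.Lib.Helper6.ArtinAff
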