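import Mathlib

/-!
# Base change of the degree-zero localisations `A_(f)` (helper6)

For a graded `R'`-algebra `B`, a ring map `R' → R` and `A = R ⊗[R'] B` with a compatible grading,
the square `R' → R`, `R' → B_(g)`, `R → A_(g)`, `B_(g) → A_(g)` is a pushout of commutative rings.
-/

set_option autoImplicit false
universe u
open CategoryTheory CategoryTheory.Limits HomogeneousLocalization TensorProduct

namespace Groth.Agent.Lib.Helper6

section awaymk
variable {R A : Type u} [CommRing R] [CommRing A] [Algebra R A] (𝒜 : ℕ → Submodule R A)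
  [GradedAlgebra 𝒜] {d : ℕ} {f : A} (hf : f ∈ 𝒜 d)

lemma awayMk_congr (k : ℕ) {a a' : A} (h : a = a') (ha : a ∈ 𝒜 (k • d)) (ha' : a' ∈ 𝒜 (k • d)) :
    Away.mk 𝒜 hf k a ha = Away.mk 𝒜 hf k a' ha' := by
  subst h
  rfl

lemma awayMk_zero (k : ℕ) (h0 : (0 : A) ∈ 𝒜 (k • d)) : Away.mk 𝒜 hf k 0 h0 = 0 := by
  apply HomogeneousLocalization.val_injective
  rw [Away.val_mk, HomogeneousLocalization.val_zero, Localization.mk_zero]

lemma awayMk_add (k : ℕ) {a a' : A} (ha : a ∈ 𝒜 (k • d)) (ha' : a' ∈ 𝒜 (k • d))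
    (hs : a + a' ∈ 𝒜 (k • d)) :
    Away.mk 𝒜 hf k (a + a') hs = Away.mk 𝒜 hf k a ha + Away.mk 𝒜 hf k a' ha' := by
  apply HomogeneousLocalization.val_injective
  rw [HomogeneousLocalization.val_add, Away.val_mk, Away.val_mk, Away.val_mk,
    Localization.add_mk_self]

variable (f) in
/-- The structure map `R → A_(f)`. -/
noncomputable def awayStruct : R →+* Away 𝒜 f :=
  (fromZeroRingHom 𝒜 (Submonoid.powers f)).comp (algebraMap R (𝒜 0))

lemma awayStruct_val (r : R) :
    (awayStruct 𝒜 f r).val = Localization.mk (algebraMap R A r) 1 := rfl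

lemma awayStruct_mul_mk (k : ℕ) (r : R) {a : A} (ha : a ∈ 𝒜 (k • d))
    (hra : r • a ∈ 𝒜 (k • d)) :
    awayStruct 𝒜 f r * Away.mk 𝒜 hf k a ha = Away.mk 𝒜 hf k (r • a) hra := by
  apply HomogeneousLocalization.val_injective
  rw [HomogeneousLocalization.val_mul, awayStruct_val, Away.val_mk, Away.val_mk,
    Localization.mk_mul, one_mul, Algebra.smul_def]

lemma awayStruct_eq_mk (r : R) (h : algebraMap R A r ∈ 𝒜 (0 • d)) :
    awayStruct 𝒜 f r = Away.mk 𝒜 hf 0 (algebraMap R A r) h := by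
  apply HomogeneousLocalization.val_injective
  rw [awayStruct_val, Away.val_mk]
  congr 1
  exact Subtype.ext (pow_zero f).symm

lemma awayMk_pow_mul (c k : ℕ) {a : A} (ha : a ∈ 𝒜 (k • d))
    (h' : f ^ c * a ∈ 𝒜 ((c + k) • d)) :
    Away.mk 𝒜 hf (c + k) (f ^ c * a) h' = Away.mk 𝒜 hf k a ha := by
  apply HomogeneousLocalization.val_injective
  rw [Away.val_mk, Away.val_mk, Localization.mk_eq_mk_iff, Localization.r_iff_exists]
  refine ⟨1, ?_⟩
  show (1 : A) * (f ^ k * (f ^ c * a)) = 1 * (f ^ (c + k) * a)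
  ring

lemma awayMk_eq_zero (k : ℕ) {a : A} (ha : a ∈ 𝒜 (k • d)) (h : Away.mk 𝒜 hf k a ha = 0) :
    ∃ N : ℕ, f ^ N * a = 0 := by
  have h' := congrArg HomogeneousLocalization.val h
  rw [Away.val_mk, HomogeneousLocalization.val_zero, Localization.mk_eq_mk',
    IsLocalization.mk'_eq_zero_iff] at h'
  obtain ⟨⟨_, N, rfl⟩, hN⟩ := h'
  exact ⟨N, hN⟩

/-- `a ↦ a_{kd} / f^k`. -/
noncomputable def awayComp (k : ℕ) (a : A) : Away 𝒜 f :=
  Away.mk 𝒜 hf k (DirectSum.decompose 𝒜 a (k • d) : A) (SetLike.coe_mem _)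

lemma awayComp_zero (k : ℕ) : awayComp 𝒜 hf k 0 = 0 := by
  unfold awayComp
  exact (awayMk_congr 𝒜 hf k
    (by rw [DirectSum.decompose_zero, DirectSum.zero_apply, ZeroMemClass.coe_zero]) _
    (zero_mem _)).trans (awayMk_zero 𝒜 hf k _)

lemma awayComp_add (k : ℕ) (a a' : A) :
    awayComp 𝒜 hf k (a + a') = awayComp 𝒜 hf k a + awayComp 𝒜 hf k a' := by
  unfold awayComp
  rw [← awayMk_add 𝒜 hf k (SetLike.coe_mem _) (SetLike.coe_mem _)
    (add_mem (SetLike.coe_mem _) (SetLike.coe_mem _))]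
  apply awayMk_congr
  rw [DirectSum.decompose_add, DirectSum.add_apply, Submodule.coe_add]

lemma awayComp_smul (k : ℕ) (r : R) (a : A) :
    awayComp 𝒜 hf k (r • a) = awayStruct 𝒜 f r * awayComp 𝒜 hf k a := by
  unfold awayComp
  rw [awayStruct_mul_mk 𝒜 hf k r (SetLike.coe_mem _)
    (Submodule.smul_mem _ r (SetLike.coe_mem _))]
  apply awayMk_congr
  rw [DirectSum.decompose_smul, DirectSum.smul_apply, Submodule.coe_smul]

lemma awayComp_of_mem (k : ℕ) {a : A} (ha : a ∈ 𝒜 (k • d)) :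
    awayComp 𝒜 hf k a = Away.mk 𝒜 hf k a ha := by
  unfold awayComp
  exact awayMk_congr 𝒜 hf k (DirectSum.decompose_of_mem_same 𝒜 ha) _ _

lemma awayComp_surjective (y : Away 𝒜 f) : ∃ k a, awayComp 𝒜 hf k a = y := by
  obtain ⟨k, a, ha, rfl⟩ := Away.mk_surjective 𝒜 hf y
  exact ⟨k, a, awayComp_of_mem 𝒜 hf k ha⟩

include hf in
lemma decompose_pow_mul (c k : ℕ) (a : A) :
    ((DirectSum.decompose 𝒜 (f ^ c * a) ((c + k) • d) : 𝒜 ((c + k) • d)) : A) =
      f ^ c * (DirectSum.decompose 𝒜 a (k • d) : A) := by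
  have hcast : ∀ (x : A) (i i' : ℕ), i = i' →
      ((DirectSum.decompose 𝒜 x i : 𝒜 i) : A) = (DirectSum.decompose 𝒜 x i' : 𝒜 i') := by
    rintro x _ _ rfl
    rfl
  rw [hcast _ _ (c • d + k • d) (add_smul c k d)]
  exact DirectSum.coe_decompose_mul_add_of_left_mem 𝒜 (SetLike.pow_mem_graded c hf)

lemma awayComp_pow_mul (c k : ℕ) (a : A) :
    awayComp 𝒜 hf (c + k) (f ^ c * a) = awayComp 𝒜 hf k a := by
  have h' : f ^ c * (DirectSum.decompose 𝒜 a (k • d) : A) ∈ 𝒜 ((c + k) • d) := by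
    rw [add_smul]
    exact SetLike.mul_mem_graded (SetLike.pow_mem_graded c hf) (SetLike.coe_mem _)
  unfold awayComp
  exact (awayMk_congr 𝒜 hf (c + k) (decompose_pow_mul 𝒜 hf c k a) _ h').trans
    (awayMk_pow_mul 𝒜 hf c k (SetLike.coe_mem _) h')

lemma awayComp_eq_zero (k : ℕ) (a : A) (h : awayComp 𝒜 hf k a = 0) :
    ∃ N : ℕ, f ^ N * (DirectSum.decompose 𝒜 a (k • d) : A) = 0 :=
  awayMk_eq_zero 𝒜 hf k _ h

lemma awayComp_decompose (k : ℕ) (a : A) :
    awayComp 𝒜 hf k (DirectSum.decompose 𝒜 a (k • d) : A) = awayComp 𝒜 hf k a :=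
  awayComp_of_mem 𝒜 hf k (SetLike.coe_mem _)

variable (f d) in
/-- `a ↦ f^c * a_{kd}` as a linear map. -/
noncomputable def shiftₗ (c k : ℕ) : A →ₗ[R] A where
  toFun a := f ^ c * (DirectSum.decompose 𝒜 a (k • d) : A)
  map_add' a a' := by
    rw [DirectSum.decompose_add, DirectSum.add_apply, Submodule.coe_add, mul_add]
  map_smul' r a := by
    rw [DirectSum.decompose_smul, DirectSum.smul_apply, Submodule.coe_smul, RingHom.id_apply,
      mul_smul_comm]

lemma shiftₗ_apply (c k : ℕ) (a : A) :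
    shiftₗ 𝒜 d f c k a = f ^ c * (DirectSum.decompose 𝒜 a (k • d) : A) := rfl

end awaymk

section gradedhom
variable {R' R B A : Type u} [CommRing R'] [CommRing R]
  [CommRing B] [Algebra R' B] (ℬ : ℕ → Submodule R' B) [GradedAlgebra ℬ]
  [CommRing A] [Algebra R A] (𝒜 : ℕ → Submodule R A) [GradedAlgebra 𝒜]
  (φ : ℬ →+*ᵍ 𝒜) {d : ℕ} {g : B} (hg : g ∈ ℬ d)

lemma awayMap_awayComp (k : ℕ) (b : B) :
    Away.map φ g (awayComp ℬ hg k b) = awayComp 𝒜 (Graded.map_mem φ hg) k (φ b) := by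
  unfold awayComp
  rw [Away.map_mk]
  apply awayMk_congr
  exact φ.map_directSumDecompose

end gradedhom

section abstractbc
variable {R' R : Type u} [CommRing R'] [CommRing R] [Algebra R' R]
  {B A Bg Ag : Type u} [AddCommGroup B] [Module R' B]
  [AddCommGroup A] [Module R A] [Module R' A] [IsScalarTower R' R A]
  [AddCommGroup Bg] [Module R' Bg]
  [AddCommGroup Ag] [Module R Ag] [Module R' Ag] [IsScalarTower R' R Ag]

/-- An abstract criterion for base change, modelled on filtered colimits of graded pieces. -/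
lemma isBaseChange_of_family (j : B →ₗ[R'] A) (hj : IsBaseChange R j) (μ : Bg →ₗ[R'] Ag)
    (ψ : ℕ → B →ₗ[R'] Bg) (χ : ℕ → A →ₗ[R] Ag)
    (hμψ : ∀ k b, μ (ψ k b) = χ k (j b))
    (hψsurj : ∀ x : Bg, ∃ k b, ψ k b = x) (hχsurj : ∀ y : Ag, ∃ k a, χ k a = y)
    (ν : ℕ → B →ₗ[R'] B) (hν : ∀ c k b, ψ (c + k) (ν c b) = ψ k b)
    (σ : ℕ → ℕ → B →ₗ[R'] B) (τ : ℕ → ℕ → A →ₗ[R] A)
    (hστ : ∀ c k b, j (σ c k b) = τ c k (j b))
    (hσ : ∀ c k b, ψ (c + k) (σ c k b) = ψ k b)
    (hker : ∀ k a, χ k a = 0 → ∃ N, τ N k a = 0) :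
    IsBaseChange R μ := by
  have ha : ∀ k (s : R ⊗[R'] B),
      μ.liftBaseChange R ((ψ k).baseChange R s) = χ k (hj.equiv s) := by
    intro k s
    induction s using TensorProduct.induction_on with
    | zero => simp
    | tmul r b =>
      rw [LinearMap.baseChange_tmul, LinearMap.liftBaseChange_tmul, hμψ, IsBaseChange.equiv_tmul,
        map_smul]
    | add s s' hs hs' => rw [map_add, map_add, hs, hs', map_add, map_add]
  have hd : ∀ c k (s : R ⊗[R'] B),
      hj.equiv ((σ c k).baseChange R s) = τ c k (hj.equiv s) := by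
    intro c k s
    induction s using TensorProduct.induction_on with
    | zero => simp
    | tmul r b =>
      rw [LinearMap.baseChange_tmul, IsBaseChange.equiv_tmul, IsBaseChange.equiv_tmul, hστ,
        map_smul]
    | add s s' hs hs' => rw [map_add, map_add, hs, hs', map_add, map_add]
  have hc : ∀ c k (s : R ⊗[R'] B),
      (ψ (c + k)).baseChange R ((σ c k).baseChange R s) = (ψ k).baseChange R s := by
    intro c k s
    induction s using TensorProduct.induction_on with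
    | zero => simp
    | tmul r b =>
      rw [LinearMap.baseChange_tmul, LinearMap.baseChange_tmul, LinearMap.baseChange_tmul, hσ]
    | add s s' hs hs' => rw [map_add, map_add, hs, hs', map_add]
  have he : ∀ c k (s : R ⊗[R'] B),
      (ψ (c + k)).baseChange R ((ν c).baseChange R s) = (ψ k).baseChange R s := by
    intro c k s
    induction s using TensorProduct.induction_on with
    | zero => simp
    | tmul r b =>
      rw [LinearMap.baseChange_tmul, LinearMap.baseChange_tmul, LinearMap.baseChange_tmul, hν]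
    | add s s' hs hs' => rw [map_add, map_add, hs, hs', map_add]
  have hrep : ∀ t : R ⊗[R'] Bg, ∃ k s, (ψ k).baseChange R s = t := by
    intro t
    induction t using TensorProduct.induction_on with
    | zero => exact ⟨0, 0, map_zero _⟩
    | tmul r x =>
      obtain ⟨k, b, rfl⟩ := hψsurj x
      exact ⟨k, r ⊗ₜ b, LinearMap.baseChange_tmul _ _ _⟩
    | add t t' ht ht' =>
      obtain ⟨k, s, rfl⟩ := ht
      obtain ⟨k', s', rfl⟩ := ht'
      refine ⟨k' + k, (ν k').baseChange R s + (ν k).baseChange R s', ?_⟩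
      rw [map_add, he k' k s, Nat.add_comm k' k, he k k' s']
  have hinj : Function.Injective (μ.liftBaseChange R) := by
    rw [injective_iff_map_eq_zero]
    intro t ht
    obtain ⟨k, s, rfl⟩ := hrep t
    rw [ha] at ht
    obtain ⟨N, hN⟩ := hker k (hj.equiv s) ht
    have h3 : hj.equiv ((σ N k).baseChange R s) = 0 := by rw [hd, hN]
    have h4 : (σ N k).baseChange R s = 0 := (LinearEquiv.map_eq_zero_iff _).1 h3
    rw [← hc N k s, h4, map_zero]
  have hsurj : Function.Surjective (μ.liftBaseChange R) := by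
    intro y
    obtain ⟨k, a, rfl⟩ := hχsurj y
    exact ⟨(ψ k).baseChange R (hj.equiv.symm a), by rw [ha, LinearEquiv.apply_symm_apply]⟩
  exact IsBaseChange.of_equiv (LinearEquiv.ofBijective (μ.liftBaseChange R) ⟨hinj, hsurj⟩)
    (fun x => by simp)

end abstractbc

section concrete
variable {R' R B A : Type u} [CommRing R'] [CommRing R] [Algebra R' R]
  [CommRing B] [Algebra R' B] (ℬ : ℕ → Submodule R' B) [GradedAlgebra ℬ]
  [CommRing A] [Algebra R A] [Algebra R' A] [IsScalarTower R' R A]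
  (𝒜 : ℕ → Submodule R A) [GradedAlgebra 𝒜]
  [Algebra B A] [IsScalarTower R' B A]
  (φ : ℬ →+*ᵍ 𝒜) (hφA : ∀ b : B, φ b = algebraMap B A b)
  {d : ℕ} {g : B} (hg : g ∈ ℬ d)

include hφA hg in
lemma awayMap_awayStruct (r : R') :
    Away.map φ g (awayStruct ℬ g r) = awayStruct 𝒜 (φ g) (algebraMap R' R r) := by
  have h1 : algebraMap R' B r ∈ ℬ (0 • d) := by
    rw [zero_smul]
    exact SetLike.algebraMap_mem_graded ℬ r
  have h2 : algebraMap R A (algebraMap R' R r) ∈ 𝒜 (0 • d) := by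
    rw [zero_smul]
    exact SetLike.algebraMap_mem_graded 𝒜 _
  rw [awayStruct_eq_mk ℬ hg r h1, awayStruct_eq_mk 𝒜 (Graded.map_mem φ hg) _ h2, Away.map_mk]
  apply awayMk_congr
  rw [hφA, ← IsScalarTower.algebraMap_apply, ← IsScalarTower.algebraMap_apply]

include hφA hg in
/-- Base change of `B_(g)`: the square of rings `R' → R`, `B_(g) → A_(φ g)` is a pushout. -/
lemma away_isPushout [Algebra.IsPushout R' R B A] :
    IsPushout (CommRingCat.ofHom (algebraMap R' R)) (CommRingCat.ofHom (awayStruct ℬ g))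
      (CommRingCat.ofHom (awayStruct 𝒜 (φ g))) (CommRingCat.ofHom (Away.map φ g)) := by
  have hφg : φ g ∈ 𝒜 d := Graded.map_mem φ hg
  letI iB : Algebra R' (Away ℬ g) := (awayStruct ℬ g).toAlgebra
  letI iA : Algebra R (Away 𝒜 (φ g)) := (awayStruct 𝒜 (φ g)).toAlgebra
  letI iA' : Algebra R' (Away 𝒜 (φ g)) :=
    ((awayStruct 𝒜 (φ g)).comp (algebraMap R' R)).toAlgebra
  letI iBA : Algebra (Away ℬ g) (Away 𝒜 (φ g)) := (Away.map φ g).toAlgebra
  haveI := IsScalarTower.of_algebraMap_eq (R := R') (S := R) (A := Away 𝒜 (φ g)) (fun r => rfl)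
  haveI := IsScalarTower.of_algebraMap_eq (R := R') (S := Away ℬ g) (A := Away 𝒜 (φ g))
    (fun r => (awayMap_awayStruct ℬ 𝒜 φ hφA hg r).symm)
  let ψ : ℕ → B →ₗ[R'] Away ℬ g := fun k =>
    { toFun := awayComp ℬ hg k
      map_add' := awayComp_add ℬ hg k
      map_smul' := fun r b => by
        rw [awayComp_smul, RingHom.id_apply, Algebra.smul_def]
        rfl }
  let χ : ℕ → A →ₗ[R] Away 𝒜 (φ g) := fun k =>
    { toFun := awayComp 𝒜 hφg k
      map_add' := awayComp_add 𝒜 hφg k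
      map_smul' := fun r a => by
        rw [awayComp_smul, RingHom.id_apply, Algebra.smul_def]
        rfl }
  haveI : Algebra.IsPushout R' R (Away ℬ g) (Away 𝒜 (φ g)) := by
    constructor
    refine isBaseChange_of_family (IsScalarTower.toAlgHom R' B A).toLinearMap
      (Algebra.IsPushout.out) _ ψ χ ?_ (awayComp_surjective ℬ hg) (awayComp_surjective 𝒜 hφg)
      (fun c => LinearMap.mulLeft R' (g ^ c)) (fun c k b => awayComp_pow_mul ℬ hg c k b)
      (fun c k => shiftₗ ℬ d g c k) (fun c k => shiftₗ 𝒜 d (φ g) c k) ?_ ?_ ?_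
    · intro k b
      show Away.map φ g (awayComp ℬ hg k b) = awayComp 𝒜 hφg k (algebraMap B A b)
      rw [← hφA]
      exact awayMap_awayComp ℬ 𝒜 φ hg k b
    · intro c k b
      show algebraMap B A (g ^ c * (DirectSum.decompose ℬ b (k • d) : B)) =
        φ g ^ c * (DirectSum.decompose 𝒜 (algebraMap B A b) (k • d) : A)
      rw [← hφA, ← hφA, map_mul, map_pow, φ.map_directSumDecompose]
    · intro c k b
      show awayComp ℬ hg (c + k) (g ^ c * (DirectSum.decompose ℬ b (k • d) : B)) =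
        awayComp ℬ hg k b
      rw [awayComp_pow_mul, awayComp_decompose]
    · intro k a h
      exact awayComp_eq_zero 𝒜 hφg k a h
  exact CommRingCat.isPushout_of_isPushout R' R (Away ℬ g) (Away 𝒜 (φ g))

end concrete

end Groth.Agent.Lib.Helper6
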