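import Mathlib

namespace Groth.Agent.Lib.Helper6.BasisNhds

open Module PrimeSpectrum TensorProduct

universe u

section general

variable {A : Type u} [CommRing A] {M : Type u} [AddCommGroup M] [Module A M]

/-- Spanning in a localization versus denominators. -/
theorem span_localized_eq_top_iff (S : Submonoid A) (N : Submodule A M) :
    Submodule.localized' (Localization S) S (LocalizedModule.mkLinearMap S M) N = ⊤ ↔
      ∀ m : M, ∃ r ∈ S, r • m ∈ N := by
  constructor
  · intro h m
    have hm : LocalizedModule.mkLinearMap S M m ∈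
        Submodule.localized' (Localization S) S (LocalizedModule.mkLinearMap S M) N := by
      rw [h]; trivial
    obtain ⟨n, hn, t, hnt⟩ := (Submodule.mem_localized' _ _ _ _ _).mp hm
    have h1 : LocalizedModule.mkLinearMap S M ((t : A) • m - n) = 0 := by
      rw [map_sub, map_smul, ← hnt, ← Submonoid.smul_def, IsLocalizedModule.mk'_cancel', sub_self]
    obtain ⟨u, hu⟩ := (IsLocalizedModule.eq_zero_iff S (LocalizedModule.mkLinearMap S M)).mp h1
    refine ⟨u * t, mul_mem u.2 t.2, ?_⟩
    have h2 : (u : A) • ((t : A) • m - n) = 0 := hu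
    rw [smul_sub, sub_eq_zero] at h2
    rw [mul_smul, h2]
    exact N.smul_mem _ hn
  · intro h
    rw [eq_top_iff]
    intro x _
    obtain ⟨⟨m, t⟩, rfl⟩ := IsLocalizedModule.mk'_surjective S (LocalizedModule.mkLinearMap S M) x
    obtain ⟨r, hr, hrm⟩ := h m
    refine (Submodule.mem_localized' _ _ _ _ _).mpr ⟨r • m, hrm, ⟨r, hr⟩ * t, ?_⟩
    simp only [Function.uncurry_apply_pair]
    exact IsLocalizedModule.mk'_cancel_left (f := LocalizedModule.mkLinearMap S M) m ⟨r, hr⟩ t

end general

section main

variable (A : Type u) [CommRing A] (M : Type u) [AddCommGroup M] [Module A M]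
  [Module.Finite A M] [Module.Projective A M]

theorem rankAtStalk_eq_of_away (n : ℕ) (p : PrimeSpectrum A) (g : A) (hg : g ∉ p.asIdeal)
    (b : Module.Basis (Fin n) (Localization.Away g) (LocalizedModule (Submonoid.powers g) M)) :
    Module.rankAtStalk M p = n := by
  have hp : p ∈ Set.range (PrimeSpectrum.comap (algebraMap A (Localization.Away g))) := by
    rw [PrimeSpectrum.localization_away_comap_range (Localization.Away g) g]
    exact hg
  obtain ⟨p', rfl⟩ := hp
  have : Nontrivial (Localization.Away g) := p'.nontrivial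
  rw [← Module.rankAtStalk_isBaseChange
    (LocalizedModule.isBaseChange (S := Submonoid.powers g) M) p']
  haveI : Module.Free (Localization.Away g) (LocalizedModule (Submonoid.powers g) M) :=
    Module.Free.of_basis b
  have := congrFun (Module.rankAtStalk_eq_finrank_of_free (R := Localization.Away g)
    (M := LocalizedModule (Submonoid.powers g) M)) p'
  rw [this]
  simp [Module.finrank_eq_card_basis b]

variable {A} in
/-- The complement of the union of finitely many primes. -/
def unionCompl (P : Finset (PrimeSpectrum A)) : Submonoid A := ⨅ p ∈ P, p.asIdeal.primeCompl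

variable {A} in
theorem mem_unionCompl {P : Finset (PrimeSpectrum A)} {a : A} :
    a ∈ unionCompl P ↔ ∀ p ∈ P, a ∉ p.asIdeal := by
  simp [unionCompl, Submonoid.mem_iInf, Ideal.mem_primeCompl_iff]

theorem exists_le_of_disjoint (P : Finset (PrimeSpectrum A)) (I : Ideal A)
    (hI : Disjoint (unionCompl P : Set A) (I : Set A)) : ∃ p ∈ P, I ≤ p.asIdeal := by
  have hsub : (I : Set A) ⊆ ⋃ p ∈ (P : Set (PrimeSpectrum A)), (p.asIdeal : Set A) := by
    intro a ha
    by_contra hcon
    have : a ∈ unionCompl P := by
      rw [mem_unionCompl]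
      intro p hp hap
      exact hcon (Set.mem_biUnion (Finset.mem_coe.mpr hp) hap)
    exact Set.disjoint_left.mp hI this ha
  rcases P.eq_empty_or_nonempty with rfl | ⟨p₀, hp₀⟩
  · exfalso
    have := hsub I.zero_mem
    simp at this
  · exact (Ideal.subset_union_prime p₀ p₀ (fun p _ _ _ => p.isPrime)).mp hsub

instance finite_maxSpec (P : Finset (PrimeSpectrum A)) :
    Finite (MaximalSpectrum (Localization (unionCompl P))) := by
  classical
  have key : ∀ mx : MaximalSpectrum (Localization (unionCompl P)), ∃ p ∈ P,
      mx.asIdeal = p.asIdeal.map (algebraMap A (Localization (unionCompl P))) := by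
    intro mx
    have hprime : mx.asIdeal.IsPrime := mx.isMaximal.isPrime
    have hdis := ((IsLocalization.isPrime_iff_isPrime_disjoint (unionCompl P)
      (Localization (unionCompl P)) mx.asIdeal).mp hprime).2
    obtain ⟨p, hp, hle⟩ := exists_le_of_disjoint A P _ hdis
    refine ⟨p, hp, ?_⟩
    have hpd : Disjoint (unionCompl P : Set A) (p.asIdeal : Set A) :=
      Set.disjoint_left.mpr (fun a ha hap => mem_unionCompl.mp ha p hp hap)
    have hne : p.asIdeal.map (algebraMap A (Localization (unionCompl P))) ≠ ⊤ :=
      (IsLocalization.isPrime_of_isPrime_disjoint (unionCompl P) (Localization (unionCompl P)) _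
        p.isPrime hpd).ne_top
    have hle' : mx.asIdeal ≤ p.asIdeal.map (algebraMap A (Localization (unionCompl P))) := by
      rw [← IsLocalization.map_under (unionCompl P) (Localization (unionCompl P)) mx.asIdeal]
      exact Ideal.map_mono hle
    exact mx.isMaximal.eq_of_le hne hle'
  choose φ hφ hφ' using key
  apply Finite.of_injective (fun mx => (⟨φ mx, hφ mx⟩ : {p // p ∈ P}))
  intro mx mx' h
  have : φ mx = φ mx' := congrArg Subtype.val h
  apply MaximalSpectrum.ext
  rw [hφ' mx, hφ' mx', this]

theorem rank_condition (n : ℕ) (P : Finset (PrimeSpectrum A))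
    (hrank : ∀ p ∈ P, Module.rankAtStalk M p = n)
    (mx : MaximalSpectrum (Localization (unionCompl P))) :
    Module.finrank (Localization (unionCompl P) ⧸ mx.asIdeal)
      ((Localization (unionCompl P) ⧸ mx.asIdeal) ⊗[Localization (unionCompl P)]
        LocalizedModule (unionCompl P) M) = n := by
  haveI : mx.asIdeal.IsPrime := mx.isMaximal.isPrime
  have h1 : Module.rankAtStalk (LocalizedModule (unionCompl P) M)
      (⟨mx.asIdeal, inferInstance⟩ : PrimeSpectrum (Localization (unionCompl P))) = n := by
    rw [Module.rankAtStalk_isBaseChange (LocalizedModule.isBaseChange (S := unionCompl P) M)]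
    have hdis := ((IsLocalization.isPrime_iff_isPrime_disjoint (unionCompl P)
      (Localization (unionCompl P)) mx.asIdeal).mp inferInstance).2
    obtain ⟨p, hp, hle⟩ := exists_le_of_disjoint A P _ hdis
    rw [Module.rankAtStalk_eq_of_le_of_finite_of_flat M (q := p) hle]
    exact hrank p hp
  rw [Module.rankAtStalk_eq] at h1
  letI := Ideal.Quotient.field mx.asIdeal
  rw [← h1, ← Module.finrank_baseChange (S := Localization (unionCompl P) ⧸ mx.asIdeal)
    (R := mx.asIdeal.ResidueField)]
  exact (AlgebraTensorModule.cancelBaseChange (Localization (unionCompl P))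
    (Localization (unionCompl P) ⧸ mx.asIdeal) mx.asIdeal.ResidueField mx.asIdeal.ResidueField
    (LocalizedModule (unionCompl P) M)).finrank_eq

theorem main (n : ℕ) (P : Finset (PrimeSpectrum A))
    (hP : ∀ p ∈ P, ∃ g : A, g ∉ p.asIdeal ∧
      Nonempty (Module.Basis (Fin n) (Localization.Away g)
        (LocalizedModule (Submonoid.powers g) M))) :
    ∃ (s : Fin n → M) (U : Set (PrimeSpectrum A)), IsOpen U ∧ (∀ p ∈ P, p ∈ U) ∧
      ∀ q ∈ U,
        LinearIndependent (Localization.AtPrime q.asIdeal)
            (fun j => LocalizedModule.mkLinearMap q.asIdeal.primeCompl M (s j)) ∧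
          Submodule.span (Localization.AtPrime q.asIdeal)
            (Set.range fun j => LocalizedModule.mkLinearMap q.asIdeal.primeCompl M (s j)) = ⊤ := by
  classical
  haveI : Module.FinitePresentation A M := Module.finitePresentation_of_projective A M
  have hrank : ∀ p ∈ P, Module.rankAtStalk M p = n := by
    intro p hp
    obtain ⟨g, hg, ⟨b⟩⟩ := hP p hp
    exact rankAtStalk_eq_of_away A M n p g hg b
  obtain ⟨b⟩ := Module.nonempty_basis_of_flat_of_finrank_eq (Localization (unionCompl P))
    (LocalizedModule (unionCompl P) M) n (rank_condition A M n P hrank)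
  have hb : ∀ j, ∃ (m : M) (t : unionCompl P),
      IsLocalizedModule.mk' (LocalizedModule.mkLinearMap (unionCompl P) M) m t = b j := fun j => by
    obtain ⟨⟨m, t⟩, h⟩ := IsLocalizedModule.mk'_surjective (unionCompl P)
      (LocalizedModule.mkLinearMap (unionCompl P) M) (b j)
    exact ⟨m, t, h⟩
  choose s t hst using hb
  have hNS : ∀ m : M, ∃ r ∈ unionCompl P, r • m ∈ Submodule.span A (Set.range s) := by
    rw [← span_localized_eq_top_iff, Submodule.localized'_span, eq_top_iff, ← b.span_eq,
      Submodule.span_le]
    rintro _ ⟨j, rfl⟩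
    have h1 : (t j : A) • b j = LocalizedModule.mkLinearMap (unionCompl P) M (s j) := by
      rw [← hst j, ← Submonoid.smul_def, IsLocalizedModule.mk'_cancel']
    have hu : IsUnit (algebraMap A (Localization (unionCompl P)) (t j)) :=
      IsLocalization.map_units _ (t j)
    have h2 : b j = ((hu.unit⁻¹ : (Localization (unionCompl P))ˣ) : Localization (unionCompl P)) •
        LocalizedModule.mkLinearMap (unionCompl P) M (s j) := by
      rw [← h1, ← algebraMap_smul (Localization (unionCompl P)) (t j : A) (b j), smul_smul]
      simp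
    rw [h2]
    exact Submodule.smul_mem _ _ (Submodule.subset_span ⟨s j, ⟨j, rfl⟩, rfl⟩)
  refine ⟨s, {q | Module.rankAtStalk M q = n} ∩
    (Module.support A (M ⧸ Submodule.span A (Set.range s)))ᶜ, ?_, ?_, ?_⟩
  · apply IsOpen.inter
    · exact (Module.isLocallyConstant_rankAtStalk (R := A) (M := M)).isOpen_fiber n
    · exact (Module.isClosed_support).isOpen_compl
  · intro p hp
    refine ⟨hrank p hp, ?_⟩
    rw [Set.mem_compl_iff, Module.notMem_support_iff']
    intro x
    obtain ⟨m, rfl⟩ := (Submodule.span A (Set.range s)).mkQ_surjective x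
    obtain ⟨r, hr, hrm⟩ := hNS m
    refine ⟨r, mem_unionCompl.mp hr p hp, ?_⟩
    rw [← map_smul, Submodule.mkQ_apply, Submodule.Quotient.mk_eq_zero]
    exact hrm
  · rintro q ⟨hq1, hq2⟩
    rw [Set.mem_compl_iff, Module.notMem_support_iff'] at hq2
    have hspan : Submodule.span (Localization.AtPrime q.asIdeal)
        (Set.range fun j => LocalizedModule.mkLinearMap q.asIdeal.primeCompl M (s j)) = ⊤ := by
      have : ∀ m : M, ∃ r ∈ q.asIdeal.primeCompl, r • m ∈ Submodule.span A (Set.range s) := by
        intro m
        obtain ⟨r, hr, hrm⟩ := hq2 ((Submodule.span A (Set.range s)).mkQ m)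
        refine ⟨r, hr, ?_⟩
        rwa [← map_smul, Submodule.mkQ_apply, Submodule.Quotient.mk_eq_zero] at hrm
      rw [← span_localized_eq_top_iff, Submodule.localized'_span] at this
      rw [← this]
      congr 1
      ext x
      simp [Set.mem_image, Set.mem_range]
    refine ⟨?_, hspan⟩
    apply linearIndependent_of_top_le_span_of_card_eq_finrank hspan.ge
    rw [Fintype.card_fin]
    exact hq1.symm

end main

end Groth.Agent.Lib.Helper6.BasisNhds
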