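import Mathlib

/-!
# Sheaves on the basis of affine opens of a scheme

A presheaf of sets on the poset of affine opens of a scheme is the restriction of a sheaf on the
scheme iff its value on the empty open is a singleton and it satisfies gluing for binary standard
covers `U = D(f) ∪ D(g)`.
-/

set_option autoImplicit false
set_option backward.isDefEq.respectTransparency false

universe u

open CategoryTheory TopologicalSpace Opposite AlgebraicGeometry

namespace Groth.Agent.Lib.Helper6.BasisSheaf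

/-! ## Presheaves on preorders -/
section Pre

variable {α : Type u} [Preorder α] (P : αᵒᵖ ⥤ Type u)

/-- restriction map of a presheaf on a preorder -/
def res {a b : α} (h : b ≤ a) (s : P.obj (op a)) : P.obj (op b) := P.map (homOfLE h).op s

lemma map_thin {a b : αᵒᵖ} (k k' : a ⟶ b) (s : P.obj a) : P.map k s = P.map k' s := by
  have : k = k' := Quiver.Hom.unop_inj (Subsingleton.elim _ _)
  rw [this]

lemma res_res {a b c : α} (h : b ≤ a) (h' : c ≤ b) (s : P.obj (op a)) :
    res P h' (res P h s) = res P (h'.trans h) s := by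
  show (P.map (homOfLE h').op) ((P.map (homOfLE h).op) s) = (P.map (homOfLE (h'.trans h)).op) s
  rw [← ConcreteCategory.comp_apply, ← P.map_comp]
  exact map_thin P _ _ s

lemma map_eq_res {a b : α} (k : b ⟶ a) (s : P.obj (op a)) :
    P.map k.op s = res P (leOfHom k) s :=
  map_thin P _ _ s

end Pre

variable {X : Scheme.{u}}

/-- the inclusion of affine opens into opens -/
abbrev ιF (X : Scheme.{u}) : X.affineOpens ⥤ X.Opens :=
  Monotone.functor (f := fun U : X.affineOpens => (U : X.Opens)) (fun _ _ h => h)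

instance : (ιF X).Full :=
  ⟨fun {U V} k => ⟨homOfLE (show U ≤ V from leOfHom k), Subsingleton.elim _ _⟩⟩

instance : (ιF X).Faithful := ⟨fun {U V} _ _ _ => Subsingleton.elim _ _⟩

instance : (ιF X).IsCoverDense (Opens.grothendieckTopology X) := by
  refine (TopCat.Opens.coverDense_iff_isBasis (X := X.carrier) (ιF X)).2 ?_
  have h : Set.range (ιF X).obj = X.affineOpens := Subtype.range_coe
  rw [h]
  exact X.isBasis_affineOpens

lemma aff (U : X.affineOpens) : IsAffineOpen (U : X.Opens) := U.2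

/-- basic open of an affine open, as an affine open -/
def bo (U : X.affineOpens) (f : Γ(X, (U : X.Opens))) : X.affineOpens :=
  ⟨X.basicOpen f, (aff U).basicOpen f⟩

lemma bo_le (U : X.affineOpens) (f : Γ(X, (U : X.Opens))) : bo U f ≤ U :=
  show X.basicOpen f ≤ (U : X.Opens) from X.basicOpen_le f

/-- restriction of sections of the structure sheaf -/
def rs {U V : X.Opens} (h : V ≤ U) : Γ(X, U) →+* Γ(X, V) := (X.presheaf.map (homOfLE h).op).hom

lemma rs_rs {U V W : X.Opens} (h : V ≤ U) (h' : W ≤ V) (x : Γ(X, U)) :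
    rs h' (rs h x) = rs (h'.trans h) x := by
  show (X.presheaf.map (homOfLE h).op ≫ X.presheaf.map (homOfLE h').op).hom x =
    (X.presheaf.map (homOfLE (h'.trans h)).op).hom x
  rw [← Functor.map_comp]
  rfl

lemma bo_rs {U V : X.Opens} (h : V ≤ U) (f : Γ(X, U)) :
    X.basicOpen (rs h f) = V ⊓ X.basicOpen f :=
  X.basicOpen_res f (homOfLE h).op

lemma isUnit_rs_of_le {U W : X.Opens} (g : Γ(X, U)) (hWU : W ≤ U) (hWg : W ≤ X.basicOpen g) :
    IsUnit (rs hWU g) := by
  have h0 : IsUnit (rs (X.basicOpen_le g) g) := X.toRingedSpace.isUnit_res_basicOpen g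
  have h1 := h0.map (rs hWg)
  rw [rs_rs] at h1
  exact h1

lemma span_rs_eq_top {U V : X.Opens} (h : V ≤ U) {n : ℕ} (f : Fin n → Γ(X, U))
    (hf : Ideal.span (Set.range f) = ⊤) :
    Ideal.span (Set.range fun i => rs h (f i)) = ⊤ := by
  have h1 := congrArg (Ideal.map (rs h)) hf
  rw [Ideal.map_span, Ideal.map_top, ← Set.range_comp] at h1
  exact h1

lemma span_rs_succ_eq_top {U W : X.Opens} (hWU : W ≤ U) {n : ℕ} (f a : Fin (n + 1) → Γ(X, U))
    (g : Γ(X, U)) (hg : g = ∑ i : Fin n, a i.succ * f i.succ) (hWg : W ≤ X.basicOpen g) :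
    Ideal.span (Set.range fun i : Fin n => rs hWU (f i.succ)) = ⊤ := by
  have hu : IsUnit (rs hWU g) := isUnit_rs_of_le g hWU hWg
  have hsum : rs hWU g = ∑ i : Fin n, rs hWU (a i.succ) * rs hWU (f i.succ) := by
    rw [hg, map_sum]
    exact Finset.sum_congr rfl (fun i _ => map_mul _ _ _)
  refine Ideal.eq_top_of_isUnit_mem _ ?_ hu
  rw [hsum]
  exact Ideal.sum_mem _ (fun i _ => Ideal.mul_mem_left _ _ (Ideal.subset_span ⟨i, rfl⟩))

lemma cover_of_add_eq_one {U : X.Opens} (a f g : Γ(X, U)) (h : a * f + g = 1) :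
    U = X.basicOpen f ⊔ X.basicOpen g := by
  apply le_antisymm
  · intro x hx
    by_contra hcon
    have hf : ¬ IsUnit (X.presheaf.germ U x hx f) := fun hu =>
      hcon ((le_sup_left : X.basicOpen f ≤ X.basicOpen f ⊔ X.basicOpen g)
        ((X.mem_basicOpen f x hx).2 hu))
    have hg : ¬ IsUnit (X.presheaf.germ U x hx g) := fun hu =>
      hcon ((le_sup_right : X.basicOpen g ≤ X.basicOpen f ⊔ X.basicOpen g)
        ((X.mem_basicOpen g x hx).2 hu))
    have h1 : X.presheaf.germ U x hx (a * f + g) = 1 := by rw [h, map_one]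
    rw [map_add, map_mul] at h1
    have h2 := IsLocalRing.nonunits_add
      (a := X.presheaf.germ U x hx a * X.presheaf.germ U x hx f) (b := X.presheaf.germ U x hx g)
      (by rw [mem_nonunits_iff]; exact fun hu => hf (isUnit_of_mul_isUnit_right hu))
      (by rw [mem_nonunits_iff]; exact hg)
    rw [h1, mem_nonunits_iff] at h2
    exact h2 isUnit_one
  · exact sup_le (X.basicOpen_le f) (X.basicOpen_le g)

variable (F : (X.affineOpens)ᵒᵖ ⥤ Type u)

/-- the binary standard gluing condition -/
def PairGlue : Prop :=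
  ∀ (U V W VW : X.affineOpens) (f g : Γ(X, (U : X.Opens))),
    (V : X.Opens) = X.basicOpen f → (W : X.Opens) = X.basicOpen g →
    (VW : X.Opens) = X.basicOpen (f * g) → (U : X.Opens) = (V : X.Opens) ⊔ (W : X.Opens) →
    ∀ (hV : V ≤ U) (hW : W ≤ U) (h1 : VW ≤ V) (h2 : VW ≤ W),
    Function.Injective
      (fun s : F.obj (op U) => (F.map (homOfLE hV).op s, F.map (homOfLE hW).op s)) ∧
    Set.range (fun s : F.obj (op U) => (F.map (homOfLE hV).op s, F.map (homOfLE hW).op s)) =
      {p | F.map (homOfLE h1).op p.1 = F.map (homOfLE h2).op p.2}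

variable {F}

lemma pair_sep (hb : PairGlue F) {U V W : X.affineOpens} (f g : Γ(X, (U : X.Opens)))
    (eV : (V : X.Opens) = X.basicOpen f) (eW : (W : X.Opens) = X.basicOpen g)
    (hcov : (U : X.Opens) = (V : X.Opens) ⊔ (W : X.Opens)) (hV : V ≤ U) (hW : W ≤ U)
    (s t : F.obj (op U)) (h1 : res F hV s = res F hV t) (h2 : res F hW s = res F hW t) :
    s = t := by
  have k1 : bo U (f * g) ≤ V := by
    show X.basicOpen (f * g) ≤ (V : X.Opens)
    rw [eV, X.basicOpen_mul]
    exact inf_le_left
  have k2 : bo U (f * g) ≤ W := by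
    show X.basicOpen (f * g) ≤ (W : X.Opens)
    rw [eW, X.basicOpen_mul]
    exact inf_le_right
  have h := (hb U V W (bo U (f * g)) f g eV eW rfl hcov hV hW k1 k2).1
  exact h (Prod.ext h1 h2)

lemma pair_glue (hb : PairGlue F) {U V W : X.affineOpens} (f g : Γ(X, (U : X.Opens)))
    (eV : (V : X.Opens) = X.basicOpen f) (eW : (W : X.Opens) = X.basicOpen g)
    (hcov : (U : X.Opens) = (V : X.Opens) ⊔ (W : X.Opens)) (hV : V ≤ U) (hW : W ≤ U)
    (sV : F.obj (op V)) (sW : F.obj (op W))
    (hc : ∀ (Y : X.affineOpens) (h1 : Y ≤ V) (h2 : Y ≤ W), res F h1 sV = res F h2 sW) :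
    ∃ s : F.obj (op U), res F hV s = sV ∧ res F hW s = sW := by
  have k1 : bo U (f * g) ≤ V := by
    show X.basicOpen (f * g) ≤ (V : X.Opens)
    rw [eV, X.basicOpen_mul]
    exact inf_le_left
  have k2 : bo U (f * g) ≤ W := by
    show X.basicOpen (f * g) ≤ (W : X.Opens)
    rw [eW, X.basicOpen_mul]
    exact inf_le_right
  have h := (hb U V W (bo U (f * g)) f g eV eW rfl hcov hV hW k1 k2).2
  have hmem : ((sV, sW) : F.obj (op V) × F.obj (op W)) ∈
      {p : F.obj (op V) × F.obj (op W) | F.map (homOfLE k1).op p.1 = F.map (homOfLE k2).op p.2} :=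
    hc (bo U (f * g)) k1 k2
  rw [← h] at hmem
  obtain ⟨s, hs⟩ := hmem
  exact ⟨s, congrArg Prod.fst hs, congrArg Prod.snd hs⟩

/-- separation and gluing for a finite family of affine opens of `U` -/
def StdOK (F : (X.affineOpens)ᵒᵖ ⥤ Type u) (U : X.affineOpens) {n : ℕ}
    (V : Fin n → X.affineOpens) (hVU : ∀ i, V i ≤ U) : Prop :=
  (∀ s t : F.obj (op U), (∀ i, res F (hVU i) s = res F (hVU i) t) → s = t) ∧
  (∀ σ : ∀ i, F.obj (op (V i)),
    (∀ i j (W : X.affineOpens) (h1 : W ≤ V i) (h2 : W ≤ V j), res F h1 (σ i) = res F h2 (σ j)) →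
    ∃ s : F.obj (op U), ∀ i, res F (hVU i) s = σ i)

theorem stdOK (E : X.affineOpens) (hE : (E : X.Opens) = ⊥)
    (ha : Nonempty (F.obj (op E)) ∧ Subsingleton (F.obj (op E))) (hb : PairGlue F) :
    ∀ (n : ℕ) (U : X.affineOpens) (f : Fin n → Γ(X, (U : X.Opens)))
      (_ : Ideal.span (Set.range f) = ⊤) (V : Fin n → X.affineOpens)
      (_ : ∀ i, (V i : X.Opens) = X.basicOpen (f i)) (hVU : ∀ i, V i ≤ U), StdOK F U V hVU := by
  intro n
  induction n with
  | zero =>
    intro U f hspan V hV hVU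
    have h0 : (1 : Γ(X, (U : X.Opens))) = 0 := by
      have h1 : (1 : Γ(X, (U : X.Opens))) ∈ Ideal.span (Set.range f) := by
        rw [hspan]; exact Submodule.mem_top
      have hr : Set.range f = ∅ := Set.range_eq_empty f
      rw [hr, Ideal.span_empty] at h1
      exact (Ideal.mem_bot).1 h1
    have hU : (U : X.Opens) = ⊥ := by
      have h1 := X.basicOpen_of_isUnit (U := (U : X.Opens)) (f := (1 : Γ(X, (U : X.Opens))))
        isUnit_one
      rw [h0, X.basicOpen_zero] at h1
      exact h1.symm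
    have hUE : U = E := Subtype.ext (hU.trans hE.symm)
    subst hUE
    exact ⟨fun s t _ => ha.2.elim s t, fun σ _ => ⟨ha.1.some, fun i => i.elim0⟩⟩
  | succ n ih =>
    intro U f hspan V hV hVU
    obtain ⟨a, ha1⟩ : ∃ a : Fin (n + 1) → Γ(X, (U : X.Opens)), ∑ i, a i * f i = 1 := by
      have h1 : (1 : Γ(X, (U : X.Opens))) ∈ Ideal.span (Set.range f) := by
        rw [hspan]; exact Submodule.mem_top
      exact Ideal.mem_span_range_iff_exists_fun.1 h1
    obtain ⟨g, hg⟩ : ∃ g : Γ(X, (U : X.Opens)), g = ∑ i : Fin n, a i.succ * f i.succ := ⟨_, rfl⟩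
    have hsum : a 0 * f 0 + g = 1 := by rw [← ha1, Fin.sum_univ_succ, hg]
    have hcov0 : (U : X.Opens) = X.basicOpen (f 0) ⊔ X.basicOpen g :=
      cover_of_add_eq_one (a 0) (f 0) g hsum
    have hcov : (U : X.Opens) = (V 0 : X.Opens) ⊔ (bo U g : X.Opens) := by
      rw [hV 0]; exact hcov0
    -- the affine opens `Wg = D(g)` and `V0g = D(f 0 * g)`
    have hWgU : (bo U g : X.Opens) ≤ (U : X.Opens) := X.basicOpen_le g
    have hV0gU : (bo U (f 0 * g) : X.Opens) ≤ (U : X.Opens) := X.basicOpen_le _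
    have hV0g_g : (bo U (f 0 * g) : X.Opens) ≤ X.basicOpen g := by
      show X.basicOpen (f 0 * g) ≤ X.basicOpen g
      rw [X.basicOpen_mul]; exact inf_le_right
    have hV0g_V0 : bo U (f 0 * g) ≤ V 0 := by
      show X.basicOpen (f 0 * g) ≤ (V 0 : X.Opens)
      rw [hV 0, X.basicOpen_mul]; exact inf_le_left
    have hV0g_Wg : bo U (f 0 * g) ≤ bo U g := hV0g_g
    -- the family on `Wg`
    have key' : ∀ i : Fin n, (bo (bo U g) (rs hWgU (f i.succ)) : X.Opens) =
        (bo U g : X.Opens) ⊓ X.basicOpen (f i.succ) := fun i => bo_rs hWgU (f i.succ)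
    have hV'V : ∀ i : Fin n, bo (bo U g) (rs hWgU (f i.succ)) ≤ V i.succ := by
      intro i
      show (bo (bo U g) (rs hWgU (f i.succ)) : X.Opens) ≤ (V i.succ : X.Opens)
      rw [hV i.succ, key' i]; exact inf_le_right
    have hV'W : ∀ i : Fin n, bo (bo U g) (rs hWgU (f i.succ)) ≤ bo U g := fun i => bo_le _ _
    obtain ⟨sepW, glueW⟩ := ih (bo U g) (fun i => rs hWgU (f i.succ))
      (span_rs_succ_eq_top hWgU f a g hg le_rfl)
      (fun i => bo (bo U g) (rs hWgU (f i.succ))) (fun _ => rfl) hV'W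
    -- the family on `V0g`
    have key'' : ∀ i : Fin n, (bo (bo U (f 0 * g)) (rs hV0gU (f i.succ)) : X.Opens) =
        (bo U (f 0 * g) : X.Opens) ⊓ X.basicOpen (f i.succ) := fun i => bo_rs hV0gU (f i.succ)
    have hV''V : ∀ i : Fin n, bo (bo U (f 0 * g)) (rs hV0gU (f i.succ)) ≤ V i.succ := by
      intro i
      show (bo (bo U (f 0 * g)) (rs hV0gU (f i.succ)) : X.Opens) ≤ (V i.succ : X.Opens)
      rw [hV i.succ, key'' i]; exact inf_le_right
    have hV''V' : ∀ i : Fin n, bo (bo U (f 0 * g)) (rs hV0gU (f i.succ)) ≤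
        bo (bo U g) (rs hWgU (f i.succ)) := by
      intro i
      show (bo (bo U (f 0 * g)) (rs hV0gU (f i.succ)) : X.Opens) ≤
        (bo (bo U g) (rs hWgU (f i.succ)) : X.Opens)
      rw [key' i, key'' i]
      exact inf_le_inf_right _ hV0g_g
    have hV''0 : ∀ i : Fin n, bo (bo U (f 0 * g)) (rs hV0gU (f i.succ)) ≤ bo U (f 0 * g) :=
      fun i => bo_le _ _
    obtain ⟨sep0g, -⟩ := ih (bo U (f 0 * g)) (fun i => rs hV0gU (f i.succ))
      (span_rs_succ_eq_top hV0gU f a g hg hV0g_g)
      (fun i => bo (bo U (f 0 * g)) (rs hV0gU (f i.succ))) (fun _ => rfl) hV''0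
    refine ⟨fun s t hst => ?_, fun σ hσ => ?_⟩
    · -- separation
      refine pair_sep hb (f 0) g (hV 0) rfl hcov (hVU 0) (bo_le U g) s t (hst 0) ?_
      apply sepW
      intro i
      rw [res_res, res_res]
      have h3 := congrArg (res F (hV'V i)) (hst i.succ)
      rw [res_res, res_res] at h3
      exact h3
    · -- gluing
      obtain ⟨t, ht0⟩ := glueW (fun i => res F (hV'V i) (σ i.succ)) (by
        intro i j Y h1 h2
        rw [res_res, res_res]
        exact hσ i.succ j.succ Y _ _)
      have ht : ∀ i : Fin n, res F (hV'W i) t = res F (hV'V i) (σ i.succ) := ht0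
      have hkey : res F hV0g_V0 (σ 0) = res F hV0g_Wg t := by
        apply sep0g
        intro i
        rw [res_res, res_res]
        have e1 : res F ((hV''0 i).trans hV0g_V0) (σ 0) = res F (hV''V i) (σ i.succ) :=
          hσ 0 i.succ _ _ _
        have e2 : res F ((hV''0 i).trans hV0g_Wg) t = res F (hV''V i) (σ i.succ) := by
          have h3 := congrArg (res F (hV''V' i)) (ht i)
          rw [res_res, res_res] at h3
          exact h3
        rw [e1, e2]
      have hcomp : ∀ (Y : X.affineOpens) (h1 : Y ≤ V 0) (h2 : Y ≤ bo U g),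
          res F h1 (σ 0) = res F h2 t := by
        intro Y h1 h2
        have hY : Y ≤ bo U (f 0 * g) := by
          show (Y : X.Opens) ≤ X.basicOpen (f 0 * g)
          rw [X.basicOpen_mul, ← hV 0]
          exact le_inf h1 h2
        have h3 := congrArg (res F hY) hkey
        rw [res_res, res_res] at h3
        exact h3
      obtain ⟨s, hs0, hsW⟩ := pair_glue hb (f 0) g (hV 0) rfl hcov (hVU 0) (bo_le U g) (σ 0) t hcomp
      refine ⟨s, Fin.cases hs0 (fun i => ?_)⟩
      -- on `V i.succ`, use the binary cover by `D(f 0)` and `D(g)`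
      have hViU : (V i.succ : X.Opens) ≤ (U : X.Opens) := hVU i.succ
      have hcovi : (V i.succ : X.Opens) =
          (bo (V i.succ) (rs hViU (f 0)) : X.Opens) ⊔ (bo (V i.succ) (rs hViU g) : X.Opens) := by
        refine cover_of_add_eq_one (rs hViU (a 0)) (rs hViU (f 0)) (rs hViU g) ?_
        rw [← map_mul, ← map_add, hsum, map_one]
      have keyA : (bo (V i.succ) (rs hViU (f 0)) : X.Opens) =
          (V i.succ : X.Opens) ⊓ X.basicOpen (f 0) := bo_rs hViU (f 0)
      have keyB : (bo (V i.succ) (rs hViU g) : X.Opens) =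
          (V i.succ : X.Opens) ⊓ X.basicOpen g := bo_rs hViU g
      have hA0 : bo (V i.succ) (rs hViU (f 0)) ≤ V 0 := by
        show (bo (V i.succ) (rs hViU (f 0)) : X.Opens) ≤ (V 0 : X.Opens)
        rw [hV 0, keyA]; exact inf_le_right
      have hBW : bo (V i.succ) (rs hViU g) ≤ bo U g := by
        show (bo (V i.succ) (rs hViU g) : X.Opens) ≤ X.basicOpen g
        rw [keyB]; exact inf_le_right
      have hBV' : bo (V i.succ) (rs hViU g) ≤ bo (bo U g) (rs hWgU (f i.succ)) := by
        show (bo (V i.succ) (rs hViU g) : X.Opens) ≤ (bo (bo U g) (rs hWgU (f i.succ)) : X.Opens)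
        rw [keyB, key' i, hV i.succ]
        exact le_inf inf_le_right inf_le_left
      refine pair_sep hb (rs hViU (f 0)) (rs hViU g) rfl rfl hcovi (bo_le _ _) (bo_le _ _)
        (res F (hVU i.succ) s) (σ i.succ) ?_ ?_
      · have e := congrArg (res F hA0) hs0
        rw [res_res] at e
        rw [res_res, e]
        exact hσ 0 i.succ _ hA0 _
      · have e := congrArg (res F hBW) hsW
        rw [res_res] at e
        have e2 := congrArg (res F hBV') (ht i)
        rw [res_res, res_res] at e2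
        rw [res_res, e, e2]

/-- the Grothendieck topology on `X.Opens` -/
abbrev KX (X : Scheme.{u}) : GrothendieckTopology X.Opens := Opens.grothendieckTopology X

/-- the induced Grothendieck topology on affine opens -/
abbrev JX (X : Scheme.{u}) : GrothendieckTopology X.affineOpens := (ιF X).inducedTopology (KX X)

theorem isSheaf_of_pairGlue (E : X.affineOpens) (hE : (E : X.Opens) = ⊥)
    (ha : Nonempty (F.obj (op E)) ∧ Subsingleton (F.obj (op E))) (hb : PairGlue F) :
    Presieve.IsSheaf (JX X) F := by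
  intro U S hS
  have hS1 := (Functor.mem_inducedTopology_iff_of_isCoverDense _ _ S).1 hS
  have hS' : ∀ x ∈ (U : X.Opens), ∃ (Y : X.Opens) (k : Y ⟶ (U : X.Opens)),
      (S.functorPushforward (ιF X)).arrows k ∧ x ∈ Y := hS1
  -- the set of sections whose basic open lies in the sieve
  have hT : Ideal.span {f : Γ(X, (U : X.Opens)) | S.arrows (homOfLE (bo_le U f))} = ⊤ := by
    rw [← (aff U).self_le_iSup_basicOpen_iff]
    intro x hx
    obtain ⟨Y, k, ⟨W, g, h, hg, -⟩, hxY⟩ := hS' x hx
    have hxW : x ∈ (W : X.Opens) := leOfHom h hxY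
    obtain ⟨f, hfW, hxf⟩ := (aff U).exists_basicOpen_le (V := (W : X.Opens)) ⟨x, hxW⟩ hx
    have hfT : S.arrows (homOfLE (bo_le U f)) := by
      have h2 : (homOfLE (bo_le U f) : bo U f ⟶ U) =
          (homOfLE (show bo U f ≤ W from hfW) : bo U f ⟶ W) ≫ g := Subsingleton.elim _ _
      rw [h2]
      exact S.downward_closed hg _
    exact (le_iSup (fun f : {f : Γ(X, (U : X.Opens)) | S.arrows (homOfLE (bo_le U f))} =>
      X.basicOpen f.1) ⟨f, hfT⟩) hxf
  obtain ⟨s', hs'T, hs'span⟩ := (Ideal.span_eq_top_iff_finite _).1 hT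
  obtain ⟨n, hn⟩ : ∃ n : ℕ, n = s'.card := ⟨_, rfl⟩
  have e : s' ≃ Fin n := hn ▸ s'.equivFin
  obtain ⟨f, hf⟩ : ∃ f : Fin n → Γ(X, (U : X.Opens)), f = fun i => (e.symm i).1 := ⟨_, rfl⟩
  have hrange : Set.range f = (s' : Set Γ(X, (U : X.Opens))) := by
    ext y
    constructor
    · rintro ⟨i, rfl⟩
      rw [hf]
      exact (e.symm i).2
    · intro hy
      refine ⟨e ⟨y, hy⟩, ?_⟩
      rw [hf]
      simp
  have hspan : Ideal.span (Set.range f) = ⊤ := by rw [hrange]; exact hs'span
  have hfT : ∀ i, S.arrows (homOfLE (bo_le U (f i))) := by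
    intro i
    have h1 : f i ∈ (s' : Set Γ(X, (U : X.Opens))) := by rw [← hrange]; exact ⟨i, rfl⟩
    exact hs'T h1
  obtain ⟨sep, glue⟩ := stdOK E hE ha hb n U f hspan (fun i => bo U (f i)) (fun _ => rfl)
    (fun i => bo_le U (f i))
  intro x hx
  obtain ⟨s, hs⟩ := glue (fun i => x (homOfLE (bo_le U (f i))) (hfT i)) (by
    intro i j Y h1 h2
    exact hx (homOfLE h1) (homOfLE h2) (hfT i) (hfT j) (Subsingleton.elim _ _))
  have hs2 : ∀ i, res F (bo_le U (f i)) s = x (homOfLE (bo_le U (f i))) (hfT i) := hs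
  refine ⟨s, ?_, ?_⟩
  · intro Y k hk
    have hYU : (Y : X.Opens) ≤ (U : X.Opens) := leOfHom k
    obtain ⟨sepY, -⟩ := stdOK E hE ha hb n Y (fun i => rs hYU (f i))
      (span_rs_eq_top hYU f hspan) (fun i => bo Y (rs hYU (f i))) (fun _ => rfl)
      (fun i => bo_le Y _)
    apply sepY
    intro i
    have hYiVi : bo Y (rs hYU (f i)) ≤ bo U (f i) := by
      show X.basicOpen (rs hYU (f i)) ≤ X.basicOpen (f i)
      rw [bo_rs]; exact inf_le_right
    have e1 : res F (bo_le Y (rs hYU (f i))) (F.map k.op s) =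
        res F hYiVi (res F (bo_le U (f i)) s) := by
      rw [map_eq_res F k s, res_res, res_res]
    rw [e1, hs2 i]
    exact hx (homOfLE hYiVi) (homOfLE (bo_le Y (rs hYU (f i)))) (hfT i) hk (Subsingleton.elim _ _)
  · intro s2 hs2'
    apply sep
    intro i
    rw [hs2 i]
    exact hs2' (homOfLE (bo_le U (f i))) (hfT i)

theorem exists_sheaf_of_isSheaf (hF : Presieve.IsSheaf (JX X) F) :
    ∃ G : TopCat.Sheaf (Type u) X.carrier, Nonempty ((ιF X).op ⋙ G.1 ≅ F) := by
  have hΦ : ((ιF X).sheafPushforwardContinuous (Type u) (JX X) (KX X)).IsEquivalence :=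
    inferInstance
  exact ⟨((ιF X).sheafPushforwardContinuous (Type u) (JX X) (KX X)).objPreimage
      ⟨F, (isSheaf_iff_isSheaf_of_type (JX X) F).2 hF⟩,
    ⟨(sheafToPresheaf (JX X) (Type u)).mapIso
      (((ιF X).sheafPushforwardContinuous (Type u) (JX X) (KX X)).objObjPreimageIso
        ⟨F, (isSheaf_iff_isSheaf_of_type (JX X) F).2 hF⟩)⟩⟩

/-! ## The forward direction -/

section Fwd

variable (G : TopCat.Sheaf (Type u) X.carrier) (α : (ιF X).op ⋙ G.1 ≅ F)

include α in
lemma fwd_a (E : X.affineOpens) (hE : (E : X.Opens) = ⊥) :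
    Nonempty (F.obj (op E)) ∧ Subsingleton (F.obj (op E)) := by
  have hT : Limits.IsTerminal (G.1.obj (op (E : X.Opens))) := G.isTerminalOfEqEmpty hE
  have u : Unique (G.1.obj (op (E : X.Opens))) := (Limits.Types.isTerminalEquivUnique _) hT
  refine ⟨⟨α.hom.app (op E) u.default⟩, ⟨fun a b => ?_⟩⟩
  have h1 : α.inv.app (op E) a = α.inv.app (op E) b := (u.uniq _).trans (u.uniq _).symm
  calc a = α.hom.app (op E) (α.inv.app (op E) a) := (Iso.inv_hom_id_app_apply α (op E) a).symm
    _ = α.hom.app (op E) (α.inv.app (op E) b) := by rw [h1]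
    _ = b := Iso.inv_hom_id_app_apply α (op E) b

include α in
lemma fwd_b : PairGlue F := by
  intro U V W VW f g eV eW eVW hcov hV hW h1 h2
  have natH : ∀ {A B : X.affineOpens} (h : B ≤ A) (s : G.1.obj (op (A : X.Opens))),
      α.hom.app (op B) (G.1.map (homOfLE (show (B : X.Opens) ≤ (A : X.Opens) from h)).op s) =
        F.map (homOfLE h).op (α.hom.app (op A) s) := by
    intro A B h s
    exact NatTrans.naturality_apply α.hom (homOfLE h).op s
  have natI : ∀ {A B : X.affineOpens} (h : B ≤ A) (s : F.obj (op A)),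
      α.inv.app (op B) (F.map (homOfLE h).op s) =
        G.1.map (homOfLE (show (B : X.Opens) ≤ (A : X.Opens) from h)).op (α.inv.app (op A) s) := by
    intro A B h s
    exact NatTrans.naturality_apply α.inv (homOfLE h).op s
  refine ⟨?_, ?_⟩
  · intro s t hst
    have e1 : F.map (homOfLE hV).op s = F.map (homOfLE hV).op t := congrArg Prod.fst hst
    have e2 : F.map (homOfLE hW).op s = F.map (homOfLE hW).op t := congrArg Prod.snd hst
    have key : α.inv.app (op U) s = α.inv.app (op U) t := by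
      apply G.eq_of_locally_eq₂ (homOfLE (show (V : X.Opens) ≤ (U : X.Opens) from hV))
        (homOfLE (show (W : X.Opens) ≤ (U : X.Opens) from hW)) (le_of_eq hcov)
      · rw [← natI hV s, ← natI hV t, e1]
      · rw [← natI hW s, ← natI hW t, e2]
    calc s = α.hom.app (op U) (α.inv.app (op U) s) := (Iso.inv_hom_id_app_apply α (op U) s).symm
      _ = α.hom.app (op U) (α.inv.app (op U) t) := by rw [key]
      _ = t := Iso.inv_hom_id_app_apply α (op U) t
  · ext p
    constructor
    · rintro ⟨s, rfl⟩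
      show F.map (homOfLE h1).op (F.map (homOfLE hV).op s) =
        F.map (homOfLE h2).op (F.map (homOfLE hW).op s)
      exact (res_res F hV h1 s).trans (res_res F hW h2 s).symm
    · intro hp
      have hp' : F.map (homOfLE h1).op p.1 = F.map (homOfLE h2).op p.2 := hp
      have hVWeq : (VW : X.Opens) = (V : X.Opens) ⊓ (W : X.Opens) := by
        rw [eVW, eV, eW, X.basicOpen_mul]
      have compat : ∀ (Y : X.Opens) (hYV : Y ≤ (V : X.Opens)) (hYW : Y ≤ (W : X.Opens)),
          G.1.map (homOfLE hYV).op (α.inv.app (op V) p.1) =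
            G.1.map (homOfLE hYW).op (α.inv.app (op W) p.2) := by
        intro Y hYV hYW
        have hY : Y ≤ (VW : X.Opens) := by rw [hVWeq]; exact le_inf hYV hYW
        have a1 : G.1.map (homOfLE hYV).op (α.inv.app (op V) p.1) =
            G.1.map (homOfLE hY).op (G.1.map (homOfLE (show (VW : X.Opens) ≤ (V : X.Opens)
              from h1)).op (α.inv.app (op V) p.1)) :=
          (res_res G.1 (show (VW : X.Opens) ≤ (V : X.Opens) from h1) hY _).symm
        have a2 : G.1.map (homOfLE hYW).op (α.inv.app (op W) p.2) =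
            G.1.map (homOfLE hY).op (G.1.map (homOfLE (show (VW : X.Opens) ≤ (W : X.Opens)
              from h2)).op (α.inv.app (op W) p.2)) :=
          (res_res G.1 (show (VW : X.Opens) ≤ (W : X.Opens) from h2) hY _).symm
        rw [a1, a2, ← natI h1 p.1, ← natI h2 p.2, hp']
      obtain ⟨U', hU'⟩ : ∃ U' : Bool → X.Opens, U' = fun b => cond b (V : X.Opens) (W : X.Opens) :=
        ⟨_, rfl⟩
      have hle : ∀ b, U' b ≤ (U : X.Opens) := by
        intro b; rw [hU']; cases b
        · exact hW
        · exact hV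
      have hcover : (U : X.Opens) ≤ iSup U' := by
        rw [hcov]
        refine sup_le ?_ ?_
        · have := le_iSup U' true
          rw [hU'] at this ⊢
          exact this
        · have := le_iSup U' false
          rw [hU'] at this ⊢
          exact this
      subst hU'
      obtain ⟨s', hs', -⟩ := G.existsUnique_gluing'
        (fun b => cond b (V : X.Opens) (W : X.Opens)) (U : X.Opens)
        (fun b => homOfLE (hle b)) hcover
        (fun b => match b with
          | true => α.inv.app (op V) p.1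
          | false => α.inv.app (op W) p.2)
        (by
          intro i j
          cases i <;> cases j
          · exact map_thin G.1 _ _ _
          · exact (compat _ inf_le_right inf_le_left).symm
          · exact compat _ inf_le_left inf_le_right
          · exact map_thin G.1 _ _ _)
      have hsV : G.1.map (homOfLE (show (V : X.Opens) ≤ (U : X.Opens) from hV)).op s' =
          α.inv.app (op V) p.1 := hs' true
      have hsW : G.1.map (homOfLE (show (W : X.Opens) ≤ (U : X.Opens) from hW)).op s' =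
          α.inv.app (op W) p.2 := hs' false
      refine ⟨α.hom.app (op U) s', Prod.ext ?_ ?_⟩
      · show F.map (homOfLE hV).op (α.hom.app (op U) s') = p.1
        rw [← natH hV s', hsV]
        exact Iso.inv_hom_id_app_apply α (op V) p.1
      · show F.map (homOfLE hW).op (α.hom.app (op U) s') = p.2
        rw [← natH hW s', hsW]
        exact Iso.inv_hom_id_app_apply α (op W) p.2

end Fwd

/-- The main theorem. -/
theorem main (X : Scheme.{u}) (F : (X.affineOpens)ᵒᵖ ⥤ Type u) (E : X.affineOpens)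
    (hE : (E : X.Opens) = ⊥) :
    (∃ G : TopCat.Sheaf (Type u) X.carrier,
        Nonempty ((Monotone.functor (f := fun U : X.affineOpens => (U : X.Opens))
          (fun _ _ h => h)).op ⋙ G.1 ≅ F)) ↔
    ((Nonempty (F.obj (op E)) ∧ Subsingleton (F.obj (op E))) ∧
      ∀ (U V W VW : X.affineOpens) (f g : Γ(X, (U : X.Opens))),
        (V : X.Opens) = X.basicOpen f → (W : X.Opens) = X.basicOpen g →
        (VW : X.Opens) = X.basicOpen (f * g) → (U : X.Opens) = (V : X.Opens) ⊔ (W : X.Opens) →
        ∀ (hV : V ≤ U) (hW : W ≤ U) (h1 : VW ≤ V) (h2 : VW ≤ W),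
        Function.Injective
          (fun s : F.obj (op U) => (F.map (homOfLE hV).op s, F.map (homOfLE hW).op s)) ∧
        Set.range (fun s : F.obj (op U) => (F.map (homOfLE hV).op s, F.map (homOfLE hW).op s)) =
          {p | F.map (homOfLE h1).op p.1 = F.map (homOfLE h2).op p.2}) := by
  constructor
  · rintro ⟨G, ⟨α⟩⟩
    exact ⟨fwd_a G α E hE, fwd_b G α⟩
  · rintro ⟨ha, hb⟩
    exact exists_sheaf_of_isSheaf (isSheaf_of_pairGlue E hE ha hb)

end Groth.Agent.Lib.Helper6.BasisSheaf
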