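import Mathlib

set_option autoImplicit false

namespace Groth.Agent.Lib.Helper6.BiHomA

open MvPolynomial

universe u v w
variable {k : Type u} [Field k] {σ : Type v} [DecidableEq σ] {M : Type w} [AddCancelCommMonoid M]

/-- weighted homogeneous component of a product with a weighted homogeneous polynomial
(general cancellative weights) -/
lemma comp_add_mul (wt : σ → M) (g Ψ : MvPolynomial σ k) (δ m : M)
    (hΨ : IsWeightedHomogeneous wt Ψ δ) :
    weightedHomogeneousComponent wt (m + δ) (g * Ψ)
      = weightedHomogeneousComponent wt m g * Ψ := by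
  classical
  ext d
  rw [coeff_weightedHomogeneousComponent, coeff_mul, coeff_mul]
  by_cases hd : Finsupp.weight wt d = m + δ
  · rw [if_pos hd]
    apply Finset.sum_congr rfl
    intro x hx
    rw [coeff_weightedHomogeneousComponent]
    by_cases hb : coeff x.2 Ψ = 0
    · rw [hb, mul_zero, mul_zero]
    · have hw2 := hΨ hb
      have hxd : x.1 + x.2 = d := Finset.HasAntidiagonal.mem_antidiagonal.1 hx
      have h3 : Finsupp.weight wt x.1 + Finsupp.weight wt x.2 = Finsupp.weight wt d := by
        rw [← map_add, hxd]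
      rw [hw2, hd] at h3
      rw [if_pos (add_right_cancel h3)]
  · rw [if_neg hd]
    symm
    apply Finset.sum_eq_zero
    intro x hx
    rw [coeff_weightedHomogeneousComponent]
    by_cases hb : coeff x.2 Ψ = 0
    · rw [hb, mul_zero]
    · have hw2 := hΨ hb
      have hxd : x.1 + x.2 = d := Finset.HasAntidiagonal.mem_antidiagonal.1 hx
      have h3 : Finsupp.weight wt x.1 + Finsupp.weight wt x.2 = Finsupp.weight wt d := by
        rw [← map_add, hxd]
      rw [if_neg, zero_mul]
      intro h4
      apply hd
      rw [← h3, h4, hw2]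

lemma exists_homog_rep {τ : Type*} [Fintype τ] (wt : σ → M) (Ψ : τ → MvPolynomial σ k) (δ : M)
    (hΨ : ∀ l, IsWeightedHomogeneous wt (Ψ l) δ) (q : MvPolynomial σ k) (m : M)
    (hq : IsWeightedHomogeneous wt q (m + δ)) (hqI : q ∈ Ideal.span (Set.range Ψ)) :
    ∃ h : τ → MvPolynomial σ k, (∀ l, IsWeightedHomogeneous wt (h l) m) ∧ q = ∑ l, h l * Ψ l := by
  classical
  obtain ⟨g, hg⟩ := (Ideal.mem_span_range_iff_exists_fun).1 hqI
  refine ⟨fun l => weightedHomogeneousComponent wt m (g l), ?_, ?_⟩
  · intro l
    exact weightedHomogeneousComponent_isWeightedHomogeneous _ _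
  · have h1 : weightedHomogeneousComponent wt (m + δ) q = q :=
      weightedHomogeneousComponent_eq_self hq
    rw [← h1, ← hg, map_sum]
    apply Finset.sum_congr rfl
    intro l _
    exact comp_add_mul wt (g l) (Ψ l) δ m (hΨ l)

omit [DecidableEq σ] in
lemma mem_of_monomials (wt : σ → M) (T : Submodule k (MvPolynomial σ k)) (q : MvPolynomial σ k)
    (n : M) (hq : IsWeightedHomogeneous wt q n)
    (hT : ∀ β : σ →₀ ℕ, Finsupp.weight wt β = n → monomial β (1 : k) ∈ T) : q ∈ T := by
  rw [q.as_sum]
  apply Submodule.sum_mem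
  intro β hβ
  have hc : coeff β q ≠ 0 := by rwa [mem_support_iff] at hβ
  have h2 : monomial β (coeff β q) = coeff β q • monomial β (1 : k) := by
    rw [smul_monomial, smul_eq_mul, mul_one]
  rw [h2]
  exact T.smul_mem _ (hT β (hq hc))

end Groth.Agent.Lib.Helper6.BiHomA
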