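import Mathlib
import Groth.Agent.Lib.Helper6.BiHomA

set_option autoImplicit false

namespace Groth.Agent.Lib.Helper6.BiHomB

open MvPolynomial

universe u
variable {k : Type u} [Field k]

/-- variables `x_i`, `y_j` -/
abbrev Var (a b : ℕ) := Fin a ⊕ Fin b

/-- bidegree weights -/
def bw (a b : ℕ) : Var a b → ℕ × ℕ := Sum.elim (fun _ => (1, 0)) (fun _ => (0, 1))

lemma weight_eq (a b : ℕ) (β : Var a b →₀ ℕ) :
    Finsupp.weight (bw a b) β = (∑ i, β (Sum.inl i), ∑ j, β (Sum.inr j)) := by
  rw [Finsupp.weight_apply, Finsupp.sum_fintype _ _ (by intro i; simp), Fintype.sum_sum_type]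
  simp only [bw, Sum.elim_inl, Sum.elim_inr]
  ext
  · simp [Prod.fst_sum]
  · simp [Prod.snd_sum]

/-- diagonal bigraded piece -/
noncomputable def U (a b n : ℕ) : Submodule k (MvPolynomial (Var a b) k) :=
  weightedHomogeneousSubmodule k (bw a b) (n, n)

lemma U_le_total (a b n : ℕ) :
    (U a b n : Submodule k (MvPolynomial (Var a b) k))
      ≤ weightedHomogeneousSubmodule k (1 : Var a b → ℕ) (2 * n) := by
  intro q hq
  rw [U, mem_weightedHomogeneousSubmodule] at hq
  rw [mem_weightedHomogeneousSubmodule]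
  intro d hd
  have h1 := hq hd
  rw [weight_eq] at h1
  have h2 : ∑ i, d (Sum.inl i) = n := congrArg Prod.fst h1
  have h3 : ∑ j, d (Sum.inr j) = n := congrArg Prod.snd h1
  rw [Finsupp.weight_apply, Finsupp.sum_fintype _ _ (by intro i; simp), Fintype.sum_sum_type]
  simp only [Pi.one_apply, smul_eq_mul, mul_one]
  omega

instance U_finite (a b n : ℕ) : Module.Finite k (U a b n : Submodule k (MvPolynomial (Var a b) k)) := by
  have hfg := weightedHomogeneousSubmodule_fg (R := k) (1 : Var a b → ℕ) (by intro x; simp) (2 * n)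
  haveI : Module.Finite k (weightedHomogeneousSubmodule k (1 : Var a b → ℕ) (2 * n)) :=
    Module.Finite.iff_fg.2 hfg
  exact Module.Finite.of_injective (Submodule.inclusion (U_le_total a b n))
    (Submodule.inclusion_injective _)

section forms

variable {a b r : ℕ} (N : Fin r → Fin a → Fin b → k)

/-- the bilinear forms as polynomials -/
noncomputable def Psi (l : Fin r) : MvPolynomial (Var a b) k :=
  ∑ i, ∑ j, C (N l i j) * X (Sum.inl i) * X (Sum.inr j)

lemma Psi_homog (l : Fin r) : IsWeightedHomogeneous (bw a b) (Psi N l) (1, 1) := by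
  unfold Psi
  apply IsWeightedHomogeneous.sum
  intro i _
  apply IsWeightedHomogeneous.sum
  intro j _
  have h := ((isWeightedHomogeneous_C (bw a b) (N l i j)).mul
    (isWeightedHomogeneous_X k (bw a b) (Sum.inl i))).mul
    (isWeightedHomogeneous_X k (bw a b) (Sum.inr j))
  simpa [bw] using h

lemma eval_Psi (z : Var a b → k) (l : Fin r) :
    eval z (Psi N l) = ∑ i, ∑ j, N l i j * z (Sum.inl i) * z (Sum.inr j) := by
  unfold Psi
  simp only [map_sum, map_mul, eval_C, eval_X]

lemma exists_pow_mem [IsAlgClosed k]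
    (hnd : ∀ (x : Fin a → k) (y : Fin b → k),
      (∀ l, ∑ i, ∑ j, N l i j * x i * y j = 0) → x = 0 ∨ y = 0) :
    ∃ M : ℕ, ∀ i j, ((X (Sum.inl i) * X (Sum.inr j) : MvPolynomial (Var a b) k)) ^ M
      ∈ Ideal.span (Set.range (Psi N)) := by
  classical
  have hrad : ∀ (ij : Fin a × Fin b), ∃ m,
      ((X (Sum.inl ij.1) * X (Sum.inr ij.2) : MvPolynomial (Var a b) k)) ^ m
        ∈ Ideal.span (Set.range (Psi N)) := by
    intro ij
    have h1 : (X (Sum.inl ij.1) * X (Sum.inr ij.2) : MvPolynomial (Var a b) k) ∈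
        vanishingIdeal k (zeroLocus k (Ideal.span (Set.range (Psi N)))) := by
      rw [mem_vanishingIdeal_iff]
      intro z hz
      rw [mem_zeroLocus_iff] at hz
      have hz' : ∀ l, ∑ i, ∑ j, N l i j * z (Sum.inl i) * z (Sum.inr j) = 0 := by
        intro l
        have := hz (Psi N l) (Ideal.subset_span ⟨l, rfl⟩)
        rw [← eval_Psi]; simpa using this
      rcases hnd (fun i => z (Sum.inl i)) (fun j => z (Sum.inr j)) hz' with h | h
      · have := congrFun h ij.1
        simp only [Pi.zero_apply] at this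
        simp [this]
      · have := congrFun h ij.2
        simp only [Pi.zero_apply] at this
        simp [this]
    rw [vanishingIdeal_zeroLocus_eq_radical] at h1
    exact Ideal.mem_radical_iff.1 h1
  choose Mi hMi using hrad
  refine ⟨Finset.univ.sup Mi, fun i j => ?_⟩
  have hle : Mi (i, j) ≤ Finset.univ.sup Mi := Finset.le_sup (Finset.mem_univ (i, j))
  have hpow : ∀ (q : MvPolynomial (Var a b) k),
      q ^ (Finset.univ.sup Mi) = q ^ (Finset.univ.sup Mi - Mi (i, j)) * q ^ (Mi (i, j)) := by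
    intro q; rw [← pow_add]; congr 1; omega
  rw [hpow]
  exact Ideal.mul_mem_left _ _ (hMi (i, j))

lemma monomial_mem_of_large (ha : 1 ≤ a) (hb : 1 ≤ b) (M : ℕ)
    (hM : ∀ i j, ((X (Sum.inl i) * X (Sum.inr j) : MvPolynomial (Var a b) k)) ^ M
      ∈ Ideal.span (Set.range (Psi N)))
    (n : ℕ) (hn : (a + b) * M ≤ n) (β : Var a b →₀ ℕ)
    (hβ : Finsupp.weight (bw a b) β = (n, n)) :
    monomial β (1 : k) ∈ Ideal.span (Set.range (Psi N)) := by
  classical
  rw [weight_eq] at hβ
  have h1 : ∑ i, β (Sum.inl i) = n := congrArg Prod.fst hβ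
  have h2 : ∑ j, β (Sum.inr j) = n := congrArg Prod.snd hβ
  have haM : a * M ≤ (a + b) * M := Nat.mul_le_mul_right _ (by omega)
  have hbM : b * M ≤ (a + b) * M := Nat.mul_le_mul_right _ (by omega)
  have hi : ∃ i : Fin a, M ≤ β (Sum.inl i) := by
    by_contra hcon
    push Not at hcon
    haveI : Nonempty (Fin a) := ⟨⟨0, ha⟩⟩
    have := Finset.sum_lt_sum_of_nonempty (Finset.univ_nonempty) (fun i _ => hcon i)
    simp only [Finset.sum_const, Finset.card_univ, Fintype.card_fin, smul_eq_mul] at this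
    omega
  have hj : ∃ j : Fin b, M ≤ β (Sum.inr j) := by
    by_contra hcon
    push Not at hcon
    haveI : Nonempty (Fin b) := ⟨⟨0, hb⟩⟩
    have := Finset.sum_lt_sum_of_nonempty (Finset.univ_nonempty) (fun j _ => hcon j)
    simp only [Finset.sum_const, Finset.card_univ, Fintype.card_fin, smul_eq_mul] at this
    omega
  obtain ⟨i, hi⟩ := hi
  obtain ⟨j, hj⟩ := hj
  obtain ⟨γ, hγ⟩ : ∃ γ : Var a b →₀ ℕ,
      γ = Finsupp.single (Sum.inl i) M + Finsupp.single (Sum.inr j) M := ⟨_, rfl⟩
  have hle : γ ≤ β := by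
    intro s
    rw [hγ]
    simp only [Finsupp.add_apply, Finsupp.single_apply]
    rcases s with s | s
    · by_cases hs : i = s
      · subst hs; simpa using hi
      · simp [hs]
    · by_cases hs : j = s
      · subst hs; simpa using hj
      · simp [hs]
  have hmono : monomial β (1 : k)
      = monomial (β - γ) 1 * (X (Sum.inl i) * X (Sum.inr j)) ^ M := by
    rw [mul_pow, X_pow_eq_monomial, X_pow_eq_monomial, monomial_mul, monomial_mul, ← hγ,
      tsub_add_cancel_of_le hle, one_mul, one_mul]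
  rw [hmono]
  exact Ideal.mul_mem_left _ _ (hM i j)

/-- monomials in the forms -/
noncomputable def mon (γ : Fin r →₀ ℕ) : MvPolynomial (Var a b) k := ∏ l, Psi N l ^ γ l

lemma mon_zero : mon N (0 : Fin r →₀ ℕ) = 1 := by
  unfold mon
  simp

lemma mon_add_single (γ : Fin r →₀ ℕ) (l : Fin r) :
    mon N (γ + Finsupp.single l 1) = mon N γ * Psi N l := by
  classical
  unfold mon
  simp only [Finsupp.add_apply, pow_add, Finset.prod_mul_distrib]
  congr 1
  rw [Finset.prod_eq_single l]
  · simp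
  · intro l' _ hne
    simp [Ne.symm hne]
  · intro h; exact absurd (Finset.mem_univ l) h

/-- the spanning sets -/
noncomputable def Fset (B₀ : Finset (MvPolynomial (Var a b) k)) (t : ℕ) :
    Finset (MvPolynomial (Var a b) k) := by
  classical
  exact ((Finset.univ : Finset (Fin r)).finsuppAntidiag t ×ˢ B₀).image (fun p => mon N p.1 * p.2)

lemma mem_Fset (B₀ : Finset (MvPolynomial (Var a b) k)) (t : ℕ) (γ : Fin r →₀ ℕ)
    (hγ : ∑ l, γ l = t) (u : MvPolynomial (Var a b) k) (hu : u ∈ B₀) :
    mon N γ * u ∈ Fset N B₀ t := by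
  classical
  unfold Fset
  rw [Finset.mem_image]
  refine ⟨(γ, u), ?_, rfl⟩
  rw [Finset.mem_product, Finset.mem_finsuppAntidiag]
  exact ⟨⟨hγ, Finset.subset_univ _⟩, hu⟩

lemma exists_of_mem_Fset (B₀ : Finset (MvPolynomial (Var a b) k)) (t : ℕ)
    (q : MvPolynomial (Var a b) k) (hq : q ∈ Fset N B₀ t) :
    ∃ (γ : Fin r →₀ ℕ) (u : MvPolynomial (Var a b) k), ∑ l, γ l = t ∧ u ∈ B₀ ∧ q = mon N γ * u := by
  classical
  unfold Fset at hq
  rw [Finset.mem_image] at hq
  obtain ⟨⟨γ, u⟩, hp, rfl⟩ := hq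
  rw [Finset.mem_product, Finset.mem_finsuppAntidiag] at hp
  exact ⟨γ, u, hp.1.1, hp.2, rfl⟩

lemma card_Fset_le (B₀ : Finset (MvPolynomial (Var a b) k)) (t : ℕ) :
    (Fset N B₀ t).card ≤ (r + t - 1).choose t * B₀.card := by
  classical
  unfold Fset
  refine Finset.card_image_le.trans ?_
  rw [Finset.card_product, Finset.card_finsuppAntidiag_nat_eq_choose, Finset.card_univ,
    Fintype.card_fin]

lemma span_step (ha : 1 ≤ a) (hb : 1 ≤ b) (M : ℕ)
    (hM : ∀ i j, ((X (Sum.inl i) * X (Sum.inr j) : MvPolynomial (Var a b) k)) ^ M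
      ∈ Ideal.span (Set.range (Psi N)))
    (B₀ : Finset (MvPolynomial (Var a b) k))
    (hB₀ : U a b ((a + b) * M) ≤ Submodule.span k (B₀ : Set (MvPolynomial (Var a b) k)))
    (t : ℕ) :
    U a b ((a + b) * M + t)
      ≤ Submodule.span k ((Fset N B₀ t : Finset _) : Set (MvPolynomial (Var a b) k)) := by
  classical
  induction t with
  | zero =>
    intro q hq
    have h1 := hB₀ hq
    refine Submodule.span_mono ?_ h1
    intro u hu
    have := mem_Fset N B₀ 0 0 (by simp) u hu
    rw [mon_zero, one_mul] at this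
    exact this
  | succ t ih =>
    intro q hq
    have hq' : IsWeightedHomogeneous (bw a b) q
        (((a + b) * M + t, (a + b) * M + t) + (1, 1)) := by
      have := hq
      rw [U, mem_weightedHomogeneousSubmodule] at this
      exact this
    have hqI : q ∈ Ideal.span (Set.range (Psi N)) := by
      have := BiHomA.mem_of_monomials (bw a b)
        ((Ideal.span (Set.range (Psi N))).restrictScalars k) q _ hq' (by
          intro β hβ
          rw [Submodule.restrictScalars_mem]
          exact monomial_mem_of_large N ha hb M hM ((a + b) * M + t + 1) (by omega) β hβ)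
      rwa [Submodule.restrictScalars_mem] at this
    obtain ⟨h, hh, hrep⟩ := BiHomA.exists_homog_rep (bw a b) (Psi N) (1, 1) (Psi_homog N) q
      ((a + b) * M + t, (a + b) * M + t) hq' hqI
    rw [hrep]
    apply Submodule.sum_mem
    intro l _
    have hl : h l ∈ Submodule.span k ((Fset N B₀ t : Finset _) : Set (MvPolynomial (Var a b) k)) := by
      apply ih
      rw [U, mem_weightedHomogeneousSubmodule]
      exact hh l
    refine Submodule.span_induction
      (p := fun x _ => x * Psi N l ∈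
        Submodule.span k ((Fset N B₀ (t + 1) : Finset _) : Set (MvPolynomial (Var a b) k)))
      ?_ ?_ ?_ ?_ hl
    · intro x hx
      obtain ⟨γ, u, hγ, hu, rfl⟩ := exists_of_mem_Fset N B₀ t x hx
      apply Submodule.subset_span
      have := mem_Fset N B₀ (t + 1) (γ + Finsupp.single l 1) (by
        simp only [Finsupp.add_apply, Finset.sum_add_distrib, hγ]
        congr 1
        rw [Finset.sum_eq_single l]
        · simp
        · intro l' _ hne; simp [Ne.symm hne]
        · intro h; exact absurd (Finset.mem_univ l) h) u hu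
      rw [mon_add_single] at this
      have h2 : mon N γ * u * Psi N l = mon N γ * Psi N l * u := by ring
      rw [h2]
      exact this
    · rw [zero_mul]; exact Submodule.zero_mem _
    · intro x y _ _ hx hy
      rw [add_mul]; exact Submodule.add_mem _ hx hy
    · intro c x _ hx
      rw [smul_mul_assoc]; exact Submodule.smul_mem _ c hx

lemma finrank_le (ha : 1 ≤ a) (hb : 1 ≤ b) (M : ℕ)
    (hM : ∀ i j, ((X (Sum.inl i) * X (Sum.inr j) : MvPolynomial (Var a b) k)) ^ M
      ∈ Ideal.span (Set.range (Psi N))) (t : ℕ) :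
    Module.finrank k (U a b ((a + b) * M + t) : Submodule k (MvPolynomial (Var a b) k))
      ≤ (r + t - 1).choose t *
        Module.finrank k (U a b ((a + b) * M) : Submodule k (MvPolynomial (Var a b) k)) := by
  classical
  let bs := Module.finBasis k (U a b ((a + b) * M) : Submodule k (MvPolynomial (Var a b) k))
  obtain ⟨B₀, hB₀def⟩ : ∃ B₀ : Finset (MvPolynomial (Var a b) k),
      B₀ = Finset.univ.image (fun i => (bs i : MvPolynomial (Var a b) k)) := ⟨_, rfl⟩
  have hcard : B₀.card ≤ Module.finrank k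
      (U a b ((a + b) * M) : Submodule k (MvPolynomial (Var a b) k)) := by
    rw [hB₀def]
    refine Finset.card_image_le.trans ?_
    simp
  have hB₀ : U a b ((a + b) * M) ≤ Submodule.span k (B₀ : Set (MvPolynomial (Var a b) k)) := by
    intro q hq
    have h1 : (⟨q, hq⟩ : U a b ((a + b) * M)) ∈ Submodule.span k (Set.range bs) := by
      rw [bs.span_eq]; trivial
    have h2 := Submodule.apply_mem_span_image_of_mem_span
      (U a b ((a + b) * M) : Submodule k (MvPolynomial (Var a b) k)).subtype h1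
    simp only [Submodule.subtype_apply] at h2
    refine Submodule.span_mono ?_ h2
    rintro _ ⟨_, ⟨i, rfl⟩, rfl⟩
    rw [hB₀def]
    simp
  have h := span_step N ha hb M hM B₀ hB₀ t
  calc Module.finrank k (U a b ((a + b) * M + t) : Submodule k (MvPolynomial (Var a b) k))
      ≤ Module.finrank k (Submodule.span k
          ((Fset N B₀ t : Finset _) : Set (MvPolynomial (Var a b) k))) :=
        Submodule.finrank_mono h
    _ ≤ (Fset N B₀ t).card := finrank_span_finset_le_card _
    _ ≤ (r + t - 1).choose t * B₀.card := card_Fset_le N B₀ t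
    _ ≤ _ := Nat.mul_le_mul_left _ hcard

end forms

/-- lower bound for the dimension of the diagonal pieces -/
lemma pow_le_finrank (a' b' m n : ℕ) (hn : (a' + b' + 2) * m ≤ n) :
    (m + 1) ^ (a' + b') ≤ Module.finrank k
      (U (a' + 1) (b' + 1) n : Submodule k (MvPolynomial (Var (a' + 1) (b' + 1)) k)) := by
  classical
  let J := (Fin a' → Fin (m + 1)) × (Fin b' → Fin (m + 1))
  let E : J → (Var (a' + 1) (b' + 1) →₀ ℕ) := fun p =>
    Finsupp.equivFunOnFinite.symm (Sum.elim
      (Fin.cons (n - ∑ i, (p.1 i : ℕ)) (fun i => (p.1 i : ℕ)) : Fin (a' + 1) → ℕ)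
      (Fin.cons (n - ∑ j, (p.2 j : ℕ)) (fun j => (p.2 j : ℕ)) : Fin (b' + 1) → ℕ))
  have hEinj : Function.Injective E := by
    intro p p' h
    have h1 : ∀ s, E p s = E p' s := fun s => by rw [h]
    apply Prod.ext
    · funext i
      have := h1 (Sum.inl i.succ)
      simp only [E, Finsupp.equivFunOnFinite_symm_apply_apply, Sum.elim_inl, Fin.cons_succ] at this
      exact Fin.ext this
    · funext j
      have := h1 (Sum.inr j.succ)
      simp only [E, Finsupp.equivFunOnFinite_symm_apply_apply, Sum.elim_inr, Fin.cons_succ] at this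
      exact Fin.ext this
  have ham : a' * m ≤ (a' + b' + 2) * m := Nat.mul_le_mul_right _ (by omega)
  have hbm : b' * m ≤ (a' + b' + 2) * m := Nat.mul_le_mul_right _ (by omega)
  have hsum1 : ∀ p : J, ∑ i, (p.1 i : ℕ) ≤ n := by
    intro p
    have : ∑ i, (p.1 i : ℕ) ≤ ∑ _i : Fin a', m :=
      Finset.sum_le_sum (fun i _ => Nat.lt_succ_iff.1 (p.1 i).2)
    simp only [Finset.sum_const, Finset.card_univ, Fintype.card_fin, smul_eq_mul] at this
    omega
  have hsum2 : ∀ p : J, ∑ j, (p.2 j : ℕ) ≤ n := by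
    intro p
    have : ∑ j, (p.2 j : ℕ) ≤ ∑ _j : Fin b', m :=
      Finset.sum_le_sum (fun j _ => Nat.lt_succ_iff.1 (p.2 j).2)
    simp only [Finset.sum_const, Finset.card_univ, Fintype.card_fin, smul_eq_mul] at this
    omega
  have hEw : ∀ p : J, Finsupp.weight (bw (a' + 1) (b' + 1)) (E p) = (n, n) := by
    intro p
    rw [weight_eq]
    simp only [E, Finsupp.equivFunOnFinite_symm_apply_apply, Sum.elim_inl, Sum.elim_inr,
      Fin.sum_univ_succ, Fin.cons_zero, Fin.cons_succ]
    have h1 := hsum1 p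
    have h2 := hsum2 p
    ext <;> simp <;> omega
  let v : J → (U (a' + 1) (b' + 1) n : Submodule k (MvPolynomial (Var (a' + 1) (b' + 1)) k)) :=
    fun p => ⟨monomial (E p) 1, by
      rw [U, mem_weightedHomogeneousSubmodule]
      exact isWeightedHomogeneous_monomial _ _ _ (hEw p)⟩
  have hli : LinearIndependent k v := by
    apply LinearIndependent.of_comp
      (U (a' + 1) (b' + 1) n : Submodule k (MvPolynomial (Var (a' + 1) (b' + 1)) k)).subtype
    have h1 := (basisMonomials (Var (a' + 1) (b' + 1)) k).linearIndependent.comp E hEinj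
    have h2 : ((U (a' + 1) (b' + 1) n : Submodule k
        (MvPolynomial (Var (a' + 1) (b' + 1)) k)).subtype ∘ v)
        = (basisMonomials (Var (a' + 1) (b' + 1)) k) ∘ E := by
      funext p
      simp [v]
    rw [h2]
    exact h1
  have h3 := hli.fintype_card_le_finrank
  have h4 : Fintype.card J = (m + 1) ^ (a' + b') := by
    simp only [J, Fintype.card_prod, Fintype.card_fun, Fintype.card_fin, pow_add]
  rw [h4] at h3
  exact h3

/-- a system of at most `a + b - 2` bilinear equations has a nontrivial solution -/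
theorem bilinear_system [IsAlgClosed k] (a b r : ℕ) (ha : 1 ≤ a) (hb : 1 ≤ b) (hr : r + 2 ≤ a + b)
    (N : Fin r → Fin a → Fin b → k) :
    ∃ (x : Fin a → k) (y : Fin b → k), x ≠ 0 ∧ y ≠ 0 ∧ ∀ l, ∑ i, ∑ j, N l i j * x i * y j = 0 := by
  by_contra hcon
  have hnd : ∀ (x : Fin a → k) (y : Fin b → k),
      (∀ l, ∑ i, ∑ j, N l i j * x i * y j = 0) → x = 0 ∨ y = 0 := by
    intro x y h
    by_contra h2
    push Not at h2
    exact hcon ⟨x, y, h2.1, h2.2, h⟩
  obtain ⟨M, hM⟩ := exists_pow_mem N hnd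
  obtain ⟨a', rfl⟩ : ∃ a', a = a' + 1 := ⟨a - 1, by omega⟩
  obtain ⟨b', rfl⟩ : ∃ b', b = b' + 1 := ⟨b - 1, by omega⟩
  obtain ⟨D, hD⟩ : ∃ D, D = Module.finrank k
      (U (a' + 1) (b' + 1) ((a' + 1 + (b' + 1)) * M) :
        Submodule k (MvPolynomial (Var (a' + 1) (b' + 1)) k)) := ⟨_, rfl⟩
  have key : ∀ m, M ≤ m → (m + 1) ^ (a' + b')
      ≤ (r + (a' + 1 + (b' + 1)) * (m - M) - 1).choose ((a' + 1 + (b' + 1)) * (m - M)) * D := by
    intro m hm
    have h1 := pow_le_finrank (k := k) a' b' m ((a' + 1 + (b' + 1)) * m) (by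
      have : a' + b' + 2 = a' + 1 + (b' + 1) := by omega
      rw [this])
    have h2 := finrank_le N ha hb M hM ((a' + 1 + (b' + 1)) * (m - M))
    have h3 : (a' + 1 + (b' + 1)) * M + (a' + 1 + (b' + 1)) * (m - M) = (a' + 1 + (b' + 1)) * m := by
      rw [← Nat.mul_add]; congr 1; omega
    rw [h3, ← hD] at h2
    exact h1.trans h2
  rcases Nat.eq_zero_or_pos r with hr0 | hrpos
  · -- no equations
    subst hr0
    have h1 := key (M + 1) (by omega)
    have h2 : (0 + (a' + 1 + (b' + 1)) * (M + 1 - M) - 1).choose ((a' + 1 + (b' + 1)) * (M + 1 - M)) = 0 := by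
      apply Nat.choose_eq_zero_of_lt
      have : (a' + 1 + (b' + 1)) * (M + 1 - M) = a' + 1 + (b' + 1) := by
        rw [Nat.add_sub_cancel_left, mul_one]
      rw [this]; omega
    rw [h2, zero_mul] at h1
    have : 0 < (M + 1 + 1) ^ (a' + b') := Nat.pow_pos (by omega)
    omega
  · obtain ⟨r', rfl⟩ : ∃ r', r = r' + 1 := ⟨r - 1, by omega⟩
    obtain ⟨c, hc⟩ : ∃ c, c = r' + (a' + 1 + (b' + 1)) := ⟨_, rfl⟩
    obtain ⟨m, hm⟩ : ∃ m, m = max M (c ^ r' * D) := ⟨_, rfl⟩
    have hmM : M ≤ m := by rw [hm]; exact le_max_left _ _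
    have hmK : c ^ r' * D ≤ m := by rw [hm]; exact le_max_right _ _
    have h1 := key m hmM
    obtain ⟨t, ht⟩ : ∃ t, t = (a' + 1 + (b' + 1)) * (m - M) := ⟨_, rfl⟩
    rw [← ht] at h1
    have h2 : (r' + 1 + t - 1).choose t ≤ (c * (m + 1)) ^ r' := by
      have e1 : r' + 1 + t - 1 = t + r' := by omega
      rw [e1, Nat.choose_symm_add]
      refine (Nat.choose_le_pow _ _).trans ?_
      apply Nat.pow_le_pow_left
      have : t ≤ (a' + 1 + (b' + 1)) * m := by
        rw [ht]; exact Nat.mul_le_mul_left _ (Nat.sub_le _ _)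
      rw [hc]
      nlinarith
    have h3 : (m + 1) ^ (a' + b') ≤ (c * (m + 1)) ^ r' * D := h1.trans (Nat.mul_le_mul_right _ h2)
    have hr' : r' + 1 ≤ a' + b' := by omega
    have h4 : (m + 1) ^ r' * (m + 1) ≤ (m + 1) ^ (a' + b') := by
      rw [← pow_succ]
      exact Nat.pow_le_pow_right (by omega) hr'
    have h5 : (m + 1) ^ r' * (m + 1) ≤ (m + 1) ^ r' * (c ^ r' * D) := by
      calc (m + 1) ^ r' * (m + 1) ≤ (c * (m + 1)) ^ r' * D := h4.trans h3
        _ = (m + 1) ^ r' * (c ^ r' * D) := by rw [mul_pow]; ring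
    have h6 : m + 1 ≤ c ^ r' * D := Nat.le_of_mul_le_mul_left h5 (Nat.pow_pos (by omega))
    omega

end Groth.Agent.Lib.Helper6.BiHomB
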