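import Mathlib
import Groth.Agent.Lib.Helper6.BiHomB

set_option autoImplicit false

namespace Groth.Agent.Lib.Helper6.BiHomC

open TensorProduct

universe u v w u'

/-- Hopf's lemma over an algebraically closed field -/
theorem hopf (k : Type u') [Field k] [IsAlgClosed k]
    (A : Type u) (B : Type v) (C : Type w) [AddCommGroup A] [Module k A] [AddCommGroup B]
    [Module k B] [AddCommGroup C] [Module k C] [FiniteDimensional k A] [FiniteDimensional k B]
    [Nontrivial A] [Nontrivial B] (ν : A ⊗[k] B →ₗ[k] C)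
    (hA : ∀ a : A, a ≠ 0 → Function.Injective (fun b : B => ν (a ⊗ₜ[k] b))) :
    Module.finrank k A + Module.finrank k B ≤ Module.finrank k (LinearMap.range ν) + 1 := by
  classical
  by_contra hcon
  push Not at hcon
  have ha : 1 ≤ Module.finrank k A := Module.finrank_pos
  have hb : 1 ≤ Module.finrank k B := Module.finrank_pos
  let bA := Module.finBasis k A
  let bB := Module.finBasis k B
  let bR := Module.finBasis k (LinearMap.range ν)
  obtain ⟨N, hN⟩ : ∃ N : Fin (Module.finrank k (LinearMap.range ν)) → Fin (Module.finrank k A) →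
      Fin (Module.finrank k B) → k,
      N = fun l i j => bR.repr (ν.rangeRestrict (bA i ⊗ₜ[k] bB j)) l := ⟨_, rfl⟩
  obtain ⟨x, y, hx, hy, hxy⟩ := BiHomB.bilinear_system (k := k) _ _ _ ha hb (by omega) N
  obtain ⟨u, hu⟩ : ∃ u : A, u = ∑ i, x i • bA i := ⟨_, rfl⟩
  obtain ⟨v, hv⟩ : ∃ v : B, v = ∑ j, y j • bB j := ⟨_, rfl⟩
  have hu0 : u ≠ 0 := by
    intro h
    apply hx
    funext i
    exact Fintype.linearIndependent_iff.1 bA.linearIndependent x (by rw [← hu, h]) i
  have hv0 : v ≠ 0 := by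
    intro h
    apply hy
    funext j
    exact Fintype.linearIndependent_iff.1 bB.linearIndependent y (by rw [← hv, h]) j
  have htens : u ⊗ₜ[k] v = ∑ i, ∑ j, (x i * y j) • (bA i ⊗ₜ[k] bB j) := by
    rw [hu, hv, TensorProduct.sum_tmul]
    apply Finset.sum_congr rfl
    intro i _
    rw [TensorProduct.tmul_sum]
    apply Finset.sum_congr rfl
    intro j _
    rw [TensorProduct.smul_tmul_smul]
  have hzero : ν.rangeRestrict (u ⊗ₜ[k] v) = 0 := by
    apply bR.ext_elem
    intro l
    rw [htens]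
    simp only [map_sum, map_smul, Finsupp.coe_finsetSum, Finset.sum_apply, Finsupp.coe_smul,
      Pi.smul_apply, smul_eq_mul, map_zero, Finsupp.coe_zero, Pi.zero_apply]
    have := hxy l
    rw [hN] at this
    rw [← this]
    apply Finset.sum_congr rfl
    intro i _
    apply Finset.sum_congr rfl
    intro j _
    ring
  have hzero' : ν (u ⊗ₜ[k] v) = 0 := by
    have := congrArg Subtype.val hzero
    simpa using this
  have := hA u hu0 (a₁ := v) (a₂ := 0) (by
    show ν (u ⊗ₜ[k] v) = ν (u ⊗ₜ[k] (0 : B))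
    rw [hzero', TensorProduct.tmul_zero, map_zero])
  exact hv0 this

theorem main546
    (A : Type u) (B : Type v) (C : Type w) [AddCommGroup A] [Module ℂ A] [AddCommGroup B] [Module ℂ B]
    [AddCommGroup C] [Module ℂ C] [FiniteDimensional ℂ A] [FiniteDimensional ℂ B]
    [Nontrivial A] [Nontrivial B] (ν : A ⊗[ℂ] B →ₗ[ℂ] C)
    (hA : ∀ a : A, a ≠ 0 → Function.Injective (fun b : B => ν (a ⊗ₜ[ℂ] b)))
    (_hB : ∀ b : B, b ≠ 0 → Function.Injective (fun a : A => ν (a ⊗ₜ[ℂ] b))) :
    Module.finrank ℂ A + Module.finrank ℂ B ≤ Module.finrank ℂ (LinearMap.range ν) + 1 :=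
  hopf ℂ A B C ν hA

end Groth.Agent.Lib.Helper6.BiHomC
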