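import Mathlib
import Groth.Prelude.Def_Pi1
import Groth.Agent.Lib.Helper11.NormalBir

/-!
# Birational morphisms onto normal schemes and Zariski's main theorem (helper6)

For a separated, quasi-compact morphism locally of finite type `f : X ⟶ Y` of integral schemes
with `Y` normal which is an isomorphism over a nonempty open, the restriction of `f` to its
quasi-finite locus is an open immersion.
-/

set_option autoImplicit false
set_option linter.style.haveILetI false
universe u

open CategoryTheory CategoryTheory.Limits AlgebraicGeometry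

namespace Groth.Agent.Lib.Helper6.BirZMT

theorem injective_of_isField {A B : Type*} [CommRing A] [CommRing B] [Nontrivial B]
    (hA : IsField A) (φ : A →+* B) : Function.Injective φ := by
  rw [injective_iff_map_eq_zero]
  intro a ha
  by_contra hne
  obtain ⟨c, hc⟩ := hA.mul_inv_cancel hne
  have h1 : φ (a * c) = 1 := by rw [hc, map_one]
  rw [map_mul, ha, zero_mul] at h1
  exact zero_ne_one h1

theorem isIso_stalkMap_of_isOpenImmersion_ι_comp {X Y : Scheme.{u}} (f : X ⟶ Y) (W : X.Opens)
    [IsOpenImmersion (W.ι ≫ f)] (x' : W.toScheme) : IsIso (f.stalkMap (W.ι x')) := by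
  have h := Scheme.Hom.stalkMap_comp W.ι f x'
  have h0 : IsIso ((W.ι ≫ f).stalkMap x') := inferInstance
  haveI : IsIso (W.ι.stalkMap x') := inferInstance
  haveI : IsIso (f.stalkMap (W.ι x') ≫ W.ι.stalkMap x') := by rw [← h]; exact h0
  exact IsIso.of_isIso_comp_right (f.stalkMap (W.ι x')) (W.ι.stalkMap x')

theorem isIso_stalkMap_of_isIso_restrict {X Y : Scheme.{u}} (f : X ⟶ Y) (U : Y.Opens)
    [IsIso (f ∣_ U)] (x : X) (hx : f x ∈ U) : IsIso (f.stalkMap x) := by
  haveI : IsOpenImmersion ((f ⁻¹ᵁ U).ι ≫ f) := by
    rw [← morphismRestrict_ι]; infer_instance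
  exact isIso_stalkMap_of_isOpenImmersion_ι_comp f (f ⁻¹ᵁ U) ⟨x, hx⟩

theorem genericPoint_mem {Y : Scheme.{u}} [IsIntegral Y] (U : Y.Opens)
    (hU : (U : Set Y).Nonempty) : genericPoint Y ∈ U :=
  ((genericPoint_spec Y).mem_open_set_iff U.isOpen).mpr (by simpa using hU)

theorem map_genericPoint {X Y : Scheme.{u}} [IsIntegral X] [IsIntegral Y] (f : X ⟶ Y)
    (U : Y.Opens) (hU : (U : Set Y).Nonempty) [IsIso (f ∣_ U)] :
    f (genericPoint X) = genericPoint Y := by
  have hηU : genericPoint Y ∈ U := genericPoint_mem U hU
  obtain ⟨x', hx'⟩ := (f ∣_ U).surjective ⟨genericPoint Y, hηU⟩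
  have hx'' : f x'.1 = genericPoint Y :=
    (morphismRestrict_base_coe f U x').symm.trans (congrArg Subtype.val hx')
  have h1 : genericPoint Y ⤳ f (genericPoint X) :=
    (genericPoint_spec Y).specializes (Set.mem_univ _)
  have h2 : f (genericPoint X) ⤳ genericPoint Y := by
    rw [← hx'']
    exact ((genericPoint_spec X).specializes (Set.mem_univ _)).map f.continuous
  exact (h2.antisymm h1).eq

theorem toNormalization_genericPoint {X Y : Scheme.{u}} [IsIntegral X] (f : X ⟶ Y)
    [QuasiCompact f] [QuasiSeparated f] :
    f.toNormalization (genericPoint X) = genericPoint f.normalization := by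
  have h1 : IsGenericPoint (f.toNormalization (genericPoint X))
      (closure (f.toNormalization '' (⊤ : Set X))) :=
    (genericPoint_spec X).image f.toNormalization.continuous
  have h2 : closure (f.toNormalization '' (⊤ : Set X)) = ⊤ := by
    rw [Set.top_eq_univ, Set.image_univ]
    exact f.toNormalization.denseRange.closure_range
  rw [h2] at h1
  exact h1.eq (genericPoint_spec _)

theorem surjective_stalkMap_fromNormalization {X Y : Scheme.{u}} [IsIntegral X] (f : X ⟶ Y)
    [QuasiCompact f] [QuasiSeparated f]
    (hs : Function.Surjective (f.stalkMap (genericPoint X)).hom) :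
    Function.Surjective
      (f.fromNormalization.stalkMap (f.toNormalization (genericPoint X))).hom := by
  have hfield : IsField (f.normalization.presheaf.stalk
      (f.toNormalization (genericPoint X))) := by
    rw [toNormalization_genericPoint]
    exact Field.toIsField f.normalization.functionField
  have hinj : Function.Injective (f.toNormalization.stalkMap (genericPoint X)).hom :=
    injective_of_isField hfield _
  have h1 := Scheme.Hom.stalkMap_congr_hom f (f.toNormalization ≫ f.fromNormalization)
    f.toNormalization_fromNormalization.symm (genericPoint X)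
  have h2 := Scheme.Hom.stalkMap_comp f.toNormalization f.fromNormalization (genericPoint X)
  rw [h2] at h1
  obtain ⟨e, he⟩ : ∃ e : Y.presheaf.stalk (f (genericPoint X)) ⟶
      Y.presheaf.stalk (f.fromNormalization (f.toNormalization (genericPoint X))),
      f.stalkMap (genericPoint X) = e ≫ f.fromNormalization.stalkMap _ ≫
        f.toNormalization.stalkMap _ := ⟨_, h1⟩
  intro z
  obtain ⟨u, hu⟩ := hs ((f.toNormalization.stalkMap (genericPoint X)).hom z)
  refine ⟨e.hom u, hinj ?_⟩
  rw [← hu, he]
  rfl

theorem isIso_fromNormalization {X Y : Scheme.{u}} [IsIntegral X] [IsIntegral Y] (f : X ⟶ Y)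
    [QuasiCompact f] [QuasiSeparated f] (hN : Pi1.IsNormalScheme Y)
    (hgen : f (genericPoint X) = genericPoint Y)
    (hs : Function.Surjective (f.stalkMap (genericPoint X)).hom) :
    IsIso f.fromNormalization := by
  have hgen' := toNormalization_genericPoint f
  have hcomp : (f.toNormalization ≫ f.fromNormalization) (genericPoint X) =
      f (genericPoint X) := by rw [f.toNormalization_fromNormalization]
  have hgenN : f.fromNormalization.base (genericPoint f.normalization) = genericPoint Y := by
    rw [← hgen', ← hgen]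
    exact hcomp
  have hsm : ∀ n, n = f.toNormalization (genericPoint X) →
      Function.Surjective (f.fromNormalization.stalkMap n).hom := by
    rintro n rfl
    exact surjective_stalkMap_fromNormalization f hs
  exact Helper11.NormalBir.isIso_of_integral_birational hN f.fromNormalization hgenN
    (hsm _ hgen'.symm)

theorem isOpenImmersion_quasiFiniteLocus {X Y : Scheme.{u}} [IsIntegral X] [IsIntegral Y]
    (f : X ⟶ Y) [LocallyOfFiniteType f] [IsSeparated f] [QuasiCompact f]
    (hN : Pi1.IsNormalScheme Y) (hgen : f (genericPoint X) = genericPoint Y)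
    (hs : Function.Surjective (f.stalkMap (genericPoint X)).hom) :
    IsOpenImmersion (f.quasiFiniteLocus.ι ≫ f) := by
  haveI := isIso_fromNormalization f hN hgen hs
  have h : f.quasiFiniteLocus.ι ≫ f =
      (f.quasiFiniteLocus.ι ≫ f.toNormalization) ≫ f.fromNormalization := by
    rw [Category.assoc, f.toNormalization_fromNormalization]
  rw [h]
  infer_instance

theorem isOpenImmersion_quasiFiniteLocus_of_birational {X Y : Scheme.{u}} [IsIntegral X]
    [IsIntegral Y] (f : X ⟶ Y) [LocallyOfFiniteType f] [IsSeparated f] [QuasiCompact f]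
    (hN : Pi1.IsNormalScheme Y) (U : Y.Opens) (hU : (U : Set Y).Nonempty) [IsIso (f ∣_ U)] :
    IsOpenImmersion (f.quasiFiniteLocus.ι ≫ f) := by
  have hgen := map_genericPoint f U hU
  have hηU : f (genericPoint X) ∈ U := by rw [hgen]; exact genericPoint_mem U hU
  haveI := isIso_stalkMap_of_isIso_restrict f U (genericPoint X) hηU
  exact isOpenImmersion_quasiFiniteLocus f hN hgen
    (ConcreteCategory.bijective_of_isIso (f.stalkMap (genericPoint X))).2

theorem isIso_stalkMap_of_quasiFiniteAt {X Y : Scheme.{u}} [IsIntegral X]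
    [IsIntegral Y] (f : X ⟶ Y) [LocallyOfFiniteType f] [IsSeparated f] [QuasiCompact f]
    (hN : Pi1.IsNormalScheme Y) (U : Y.Opens) (hU : (U : Set Y).Nonempty) [IsIso (f ∣_ U)]
    (x : X) (hx : f.QuasiFiniteAt x) : IsIso (f.stalkMap x) := by
  haveI := isOpenImmersion_quasiFiniteLocus_of_birational f hN U hU
  exact isIso_stalkMap_of_isOpenImmersion_ι_comp f f.quasiFiniteLocus ⟨x, hx⟩

theorem quasiFiniteAt_of_isOpen_singleton {X Y : Scheme.{u}} (f : X ⟶ Y)
    [LocallyOfFiniteType f] (s : Y) (x : ↥(f.base ⁻¹' {s}))
    (h : IsOpen ({x} : Set ↥(f.base ⁻¹' {s}))) : f.QuasiFiniteAt x.1 := by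
  obtain ⟨x, hx⟩ := x
  have hx' : f x = s := hx
  subst hx'
  rw [Scheme.Hom.quasiFiniteAt_iff_isOpen_singleton_asFiber,
    ← (f.fiberHomeo (f x)).isOpen_image]
  simpa [Scheme.Hom.asFiber] using h

end Groth.Agent.Lib.Helper6.BirZMT
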