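import Mathlib

/-!
# Lattice computation: quotient of `Hom(ℤ^r, ℤ/δ)` by the "boundary forms"
-/

namespace Groth.Agent.Lib.Helper6.BoundaryForms

open scoped BigOperators

/-- The generating set. -/
def S (δ : ℕ) (g : ℤ) {r : ℕ} (d : Fin r → ℤ) : Set ((Fin r → ℤ) →+ ZMod δ) :=
  {φ | ∃ b : LinearMap.BilinForm ℤ (Fin r → ℤ), b.IsSymm ∧
      ∀ x, φ x = ((b d x + (1 - g) * b x x : ℤ) : ZMod δ)}

section Pull

variable {δ : ℕ} {g : ℤ} {r : ℕ}

/-- Precomposition with a linear automorphism. -/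
def pull (A : (Fin r → ℤ) ≃ₗ[ℤ] (Fin r → ℤ)) :
    ((Fin r → ℤ) →+ ZMod δ) ≃+ ((Fin r → ℤ) →+ ZMod δ) where
  toFun φ := φ.comp (A : (Fin r → ℤ) →ₗ[ℤ] (Fin r → ℤ)).toAddMonoidHom
  invFun φ := φ.comp (A.symm : (Fin r → ℤ) →ₗ[ℤ] (Fin r → ℤ)).toAddMonoidHom
  left_inv φ := AddMonoidHom.ext (fun x => by
    show φ (A (A.symm x)) = φ x
    rw [LinearEquiv.apply_symm_apply])
  right_inv φ := AddMonoidHom.ext (fun x => by
    show φ (A.symm (A x)) = φ x
    rw [LinearEquiv.symm_apply_apply])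
  map_add' φ ψ := AddMonoidHom.ext (fun x => rfl)

lemma pull_apply (A : (Fin r → ℤ) ≃ₗ[ℤ] (Fin r → ℤ)) (φ : (Fin r → ℤ) →+ ZMod δ)
    (x : Fin r → ℤ) : pull A φ x = φ (A x) := rfl

lemma pull_mem_S (A : (Fin r → ℤ) ≃ₗ[ℤ] (Fin r → ℤ)) (d' : Fin r → ℤ)
    (φ : (Fin r → ℤ) →+ ZMod δ) (h : φ ∈ S δ g (A d')) : pull A φ ∈ S δ g d' := by
  obtain ⟨b, hb, hφ⟩ := h
  refine ⟨b.comp (A : (Fin r → ℤ) →ₗ[ℤ] (Fin r → ℤ)) (A : (Fin r → ℤ) →ₗ[ℤ] (Fin r → ℤ)),
    ⟨fun x y => ?_⟩, fun x => ?_⟩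
  · simp only [LinearMap.BilinForm.comp_apply]
    exact hb.eq _ _
  · rw [pull_apply, hφ]
    simp only [LinearMap.BilinForm.comp_apply, LinearEquiv.coe_coe]

lemma map_pull_closure (A : (Fin r → ℤ) ≃ₗ[ℤ] (Fin r → ℤ)) (d' : Fin r → ℤ) :
    (AddSubgroup.closure (S δ g (A d'))).map (pull (δ := δ) A).toAddMonoidHom =
      AddSubgroup.closure (S δ g d') := by
  rw [AddMonoidHom.map_closure]
  congr 1
  ext ψ
  constructor
  · rintro ⟨φ, hφ, rfl⟩
    exact pull_mem_S A d' φ hφ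
  · intro hψ
    refine ⟨pull A.symm ψ, ?_, ?_⟩
    · apply pull_mem_S A.symm (A d') ψ
      rw [LinearEquiv.symm_apply_apply]; exact hψ
    · exact AddMonoidHom.ext (fun x => by
        show ψ (A.symm (A x)) = ψ x
        rw [LinearEquiv.symm_apply_apply])

end Pull

section BasisChange

lemma exists_functional {r : ℕ} (v : Fin r → ℤ) (hv : Finset.univ.gcd v = 1) :
    ∃ c : Fin r → ℤ, ∑ i, c i * v i = 1 := by
  obtain ⟨a, ha⟩ := (IsPrincipalIdealRing.principal (Ideal.span (Set.range v))).principal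
  have hav : ∀ i, a ∣ v i := by
    intro i
    have : v i ∈ Ideal.span (Set.range v) := Ideal.subset_span ⟨i, rfl⟩
    rw [ha] at this
    exact Ideal.mem_span_singleton.mp this
  have ha1 : a ∣ 1 := by
    rw [← hv]; exact Finset.dvd_gcd (fun i _ => hav i)
  have h1 : (1 : ℤ) ∈ Ideal.span (Set.range v) := by
    rw [ha]; exact Ideal.mem_span_singleton.mpr ha1
  exact Ideal.mem_span_range_iff_exists_fun.mp h1

lemma exists_equiv_of_primitive (n : ℕ) (v : Fin (n + 1) → ℤ) (hv : Finset.univ.gcd v = 1) :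
    ∃ A : (Fin (n + 1) → ℤ) ≃ₗ[ℤ] (Fin (n + 1) → ℤ), A (Pi.single 0 1) = v := by
  obtain ⟨c, hc⟩ := exists_functional v hv
  let lam : (Fin (n + 1) → ℤ) →ₗ[ℤ] ℤ :=
    ∑ i, c i • (LinearMap.proj i : (Fin (n + 1) → ℤ) →ₗ[ℤ] ℤ)
  have hlam : ∀ x, lam x = ∑ i, c i * x i := by
    intro x
    simp [lam, LinearMap.sum_apply]
  have hlamv : lam v = 1 := by rw [hlam]; exact hc
  let N : Submodule ℤ (Fin (n + 1) → ℤ) := LinearMap.ker lam
  let q : (Fin (n + 1) → ℤ) →ₗ[ℤ] (Fin (n + 1) → ℤ) := LinearMap.id - lam.smulRight v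
  have hq : ∀ x, q x = x - lam x • v := fun x => rfl
  have hqmem : ∀ x, q x ∈ N := by
    intro x
    show lam (q x) = 0
    rw [hq, map_sub, map_smul, hlamv, smul_eq_mul, mul_one, sub_self]
  let f : (Fin (n + 1) → ℤ) →ₗ[ℤ] (ℤ × N) := lam.prod (q.codRestrict N hqmem)
  let gg : (ℤ × N) →ₗ[ℤ] (Fin (n + 1) → ℤ) :=
    (LinearMap.toSpanSingleton ℤ (Fin (n + 1) → ℤ) v).coprod N.subtype
  have hgg : ∀ (a : ℤ) (y : N), gg (a, y) = a • v + (y : Fin (n + 1) → ℤ) := by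
    intro a y
    simp [gg, LinearMap.coprod_apply, LinearMap.toSpanSingleton_apply]
  have hf : ∀ x, f x = (lam x, ⟨q x, hqmem x⟩) := fun x => rfl
  have h₁ : f.comp gg = LinearMap.id := by
    apply LinearMap.ext
    rintro ⟨a, y⟩
    have hy : lam (y : Fin (n + 1) → ℤ) = 0 := y.2
    rw [LinearMap.comp_apply, hgg, hf, LinearMap.id_apply]
    apply Prod.ext
    · show lam (a • v + (y : Fin (n + 1) → ℤ)) = a
      rw [map_add, map_smul, hlamv, hy, smul_eq_mul, mul_one, add_zero]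
    · apply Subtype.ext
      show q (a • v + (y : Fin (n + 1) → ℤ)) = (y : Fin (n + 1) → ℤ)
      rw [hq, map_add, map_smul, hlamv, hy, smul_eq_mul, mul_one, add_zero]
      abel
  have h₂ : gg.comp f = LinearMap.id := by
    apply LinearMap.ext
    intro x
    rw [LinearMap.comp_apply, hf, hgg, LinearMap.id_apply]
    show lam x • v + q x = x
    rw [hq]; abel
  let e₁ : (Fin (n + 1) → ℤ) ≃ₗ[ℤ] (ℤ × N) := LinearEquiv.ofLinear f gg h₁ h₂
  obtain ⟨m, bN⟩ := Submodule.basisOfPid (Pi.basisFun ℤ (Fin (n + 1))) N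
  haveI : Module.Free ℤ N := Module.Free.of_basis bN
  haveI : Module.Finite ℤ N := Module.Finite.of_basis bN
  have hm : m = n := by
    have h1 := LinearEquiv.finrank_eq e₁
    rw [Module.finrank_prod, Module.finrank_self, Module.finrank_eq_card_basis bN] at h1
    simp at h1
    omega
  let e₂ : N ≃ₗ[ℤ] (Fin n → ℤ) := (bN.reindex (finCongr hm)).equivFun
  let E : (Fin (n + 1) → ℤ) ≃ₗ[ℤ] (Fin (n + 1) → ℤ) :=
    e₁ ≪≫ₗ ((LinearEquiv.refl ℤ ℤ).prodCongr e₂) ≪≫ₗ (Fin.consLinearEquiv ℤ (fun _ => ℤ))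
  have hE : E v = Pi.single 0 1 := by
    have h1 : e₁ v = (1, 0) := by
      show f v = (1, 0)
      rw [hf]
      apply Prod.ext
      · exact hlamv
      · apply Subtype.ext
        show q v = 0
        rw [hq, hlamv, one_smul, sub_self]
    show (Fin.consLinearEquiv ℤ (fun _ => ℤ))
      (((LinearEquiv.refl ℤ ℤ).prodCongr e₂) (e₁ v)) = Pi.single 0 1
    rw [h1]
    show Fin.cons (α := fun _ => ℤ) (1 : ℤ) (e₂ 0) = Pi.single 0 1
    rw [map_zero]
    funext i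
    refine Fin.cases ?_ (fun j => ?_) i
    · rw [Fin.cons_zero, Pi.single_eq_same]
    · rw [Fin.cons_succ, Pi.single_eq_of_ne (Fin.succ_ne_zero j)]; rfl
  refine ⟨E.symm, ?_⟩
  rw [← hE]
  exact E.symm_apply_apply v

theorem exists_equiv (n : ℕ) (d : Fin (n + 1) → ℤ) :
    ∃ A : (Fin (n + 1) → ℤ) ≃ₗ[ℤ] (Fin (n + 1) → ℤ),
      A ((Finset.univ.gcd d) • Pi.single 0 1) = d := by
  obtain ⟨v, hdv, hv⟩ := Finset.extract_gcd d Finset.univ_nonempty
  obtain ⟨A, hA⟩ := exists_equiv_of_primitive n v hv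
  refine ⟨A, ?_⟩
  rw [map_smul, hA]
  funext i
  rw [Pi.smul_apply, smul_eq_mul]
  exact (hdv i (Finset.mem_univ i)).symm

end BasisChange

section HomBasics

variable {r δ : ℕ}

lemma hom_ext (φ ψ : (Fin r → ℤ) →+ ZMod δ)
    (h : ∀ i, φ (Pi.single i 1) = ψ (Pi.single i 1)) : φ = ψ := by
  refine AddMonoidHom.functions_ext _ _ _ (fun i x => ?_)
  have hx : (Pi.single i x : Fin r → ℤ) = x • (Pi.single i 1 : Fin r → ℤ) := by
    rw [← Pi.single_smul, smul_eq_mul, mul_one]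
  rw [hx, map_zsmul, map_zsmul, h i]

/-- The additive map with prescribed values on the standard basis. -/
def mkFun (w : Fin r → ZMod δ) : (Fin r → ℤ) →+ ZMod δ :=
  AddMonoidHom.mk' (fun x => ∑ i, x i • w i) (by
    intro x y
    simp only [Pi.add_apply, add_smul, Finset.sum_add_distrib])

lemma mkFun_apply (w : Fin r → ZMod δ) (x : Fin r → ℤ) : mkFun w x = ∑ i, x i • w i := rfl

lemma mkFun_single (w : Fin r → ZMod δ) (i : Fin r) : mkFun w (Pi.single i 1) = w i := by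
  rw [mkFun_apply, Finset.sum_eq_single i]
  · rw [Pi.single_eq_same, one_smul]
  · intro j _ hji
    rw [Pi.single_eq_of_ne hji, zero_smul]
  · intro h; exact absurd (Finset.mem_univ i) h

/-- `mkFun` as an additive map. -/
def mkHom : (Fin r → ZMod δ) →+ ((Fin r → ℤ) →+ ZMod δ) :=
  AddMonoidHom.mk' mkFun (by
    intro w w'
    apply AddMonoidHom.ext; intro x
    simp only [mkFun_apply, AddMonoidHom.add_apply, Pi.add_apply, smul_add,
      Finset.sum_add_distrib])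

lemma mkHom_single (w : Fin r → ZMod δ) (i : Fin r) :
    mkHom w (Pi.single i 1) = w i := mkFun_single w i

end HomBasics

section Psi

variable {r δ : ℕ} {g : ℤ}

lemma qf_additive (hδ : (δ : ℤ) ∣ 2 * (g - 1)) (d : Fin r → ℤ)
    (b : LinearMap.BilinForm ℤ (Fin r → ℤ)) (hb : b.IsSymm) (x y : Fin r → ℤ) :
    ((b d (x + y) + (1 - g) * b (x + y) (x + y) : ℤ) : ZMod δ) =
      ((b d x + (1 - g) * b x x : ℤ) : ZMod δ) + ((b d y + (1 - g) * b y y : ℤ) : ZMod δ) := by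
  rw [← Int.cast_add, ZMod.intCast_eq_intCast_iff_dvd_sub]
  have hxy : b y x = b x y := hb.eq y x
  obtain ⟨c, hc⟩ := hδ
  refine ⟨c * b x y, ?_⟩
  simp only [map_add, LinearMap.add_apply, hxy]
  linear_combination (b x y) * hc

/-- The additive map attached to a symmetric form. -/
def psi (hδ : (δ : ℤ) ∣ 2 * (g - 1)) (d : Fin r → ℤ)
    (b : LinearMap.BilinForm ℤ (Fin r → ℤ)) (hb : b.IsSymm) : (Fin r → ℤ) →+ ZMod δ :=
  AddMonoidHom.mk' (fun x => ((b d x + (1 - g) * b x x : ℤ) : ZMod δ)) (qf_additive hδ d b hb)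

lemma psi_apply (hδ : (δ : ℤ) ∣ 2 * (g - 1)) (d : Fin r → ℤ)
    (b : LinearMap.BilinForm ℤ (Fin r → ℤ)) (hb : b.IsSymm) (x : Fin r → ℤ) :
    psi hδ d b hb x = ((b d x + (1 - g) * b x x : ℤ) : ZMod δ) := rfl

lemma psi_mem (hδ : (δ : ℤ) ∣ 2 * (g - 1)) (d : Fin r → ℤ)
    (b : LinearMap.BilinForm ℤ (Fin r → ℤ)) (hb : b.IsSymm) : psi hδ d b hb ∈ S δ g d :=
  ⟨b, hb, fun _ => rfl⟩

end Psi

end Groth.Agent.Lib.Helper6.BoundaryForms
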