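import Mathlib
import Groth.Agent.Lib.Helper6.BoundaryForms

/-!
# Lattice computation: the normal-form case and the final statements
-/

namespace Groth.Agent.Lib.Helper6.BoundaryForms

open scoped BigOperators

section Main

variable {n δ : ℕ} {g : ℤ}

/-- Evaluation at the standard basis followed by reduction. -/
def Phi (n δ m₁ m₂ : ℕ) (h₁ : m₁ ∣ δ) (h₂ : m₂ ∣ δ) :
    ((Fin (n + 1) → ℤ) →+ ZMod δ) →+ (ZMod m₁ × (Fin n → ZMod m₂)) :=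
  AddMonoidHom.mk' (fun φ => (ZMod.castHom h₁ (ZMod m₁) (φ (Pi.single 0 1)),
      fun j => ZMod.castHom h₂ (ZMod m₂) (φ (Pi.single j.succ 1))))
    (by
      intro φ ψ
      refine Prod.ext ?_ (funext fun j => ?_)
      · simp only [AddMonoidHom.add_apply, map_add, Prod.fst_add]
      · simp only [AddMonoidHom.add_apply, map_add, Prod.snd_add, Pi.add_apply])

lemma Phi_fst (m₁ m₂ : ℕ) (h₁ : m₁ ∣ δ) (h₂ : m₂ ∣ δ) (φ : (Fin (n + 1) → ℤ) →+ ZMod δ) :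
    (Phi n δ m₁ m₂ h₁ h₂ φ).1 = ZMod.castHom h₁ (ZMod m₁) (φ (Pi.single 0 1)) := rfl

lemma Phi_snd (m₁ m₂ : ℕ) (h₁ : m₁ ∣ δ) (h₂ : m₂ ∣ δ) (φ : (Fin (n + 1) → ℤ) →+ ZMod δ)
    (j : Fin n) :
    (Phi n δ m₁ m₂ h₁ h₂ φ).2 j = ZMod.castHom h₂ (ZMod m₂) (φ (Pi.single j.succ 1)) := rfl

lemma S_apply_single (D : ℤ) (φ : (Fin (n + 1) → ℤ) →+ ZMod δ)
    (b : LinearMap.BilinForm ℤ (Fin (n + 1) → ℤ))
    (hφ : ∀ x, φ x = ((b (D • (Pi.single 0 1 : Fin (n + 1) → ℤ)) x + (1 - g) * b x x : ℤ) : ZMod δ))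
    (i : Fin (n + 1)) :
    φ (Pi.single i 1) = ((D * b (Pi.single 0 1) (Pi.single i 1) +
      (1 - g) * b (Pi.single i 1) (Pi.single i 1) : ℤ) : ZMod δ) := by
  rw [hφ, map_smul, LinearMap.smul_apply, smul_eq_mul]

lemma closure_le_ker (D : ℤ) (m₁ m₂ : ℕ) (h₁ : m₁ ∣ δ) (h₂ : m₂ ∣ δ)
    (hm₁ : (m₁ : ℤ) ∣ D + 1 - g) (hm₂D : (m₂ : ℤ) ∣ D) (hm₂g : (m₂ : ℤ) ∣ g - 1) :
    AddSubgroup.closure (S δ g (D • (Pi.single 0 1 : Fin (n + 1) → ℤ))) ≤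
      (Phi n δ m₁ m₂ h₁ h₂).ker := by
  rw [AddSubgroup.closure_le]
  rintro φ ⟨b, hb, hφ⟩
  rw [SetLike.mem_coe, AddMonoidHom.mem_ker]
  refine Prod.ext ?_ (funext fun j => ?_)
  · rw [Phi_fst, S_apply_single D φ b hφ, map_intCast]
    show ((_ : ℤ) : ZMod m₁) = 0
    rw [ZMod.intCast_zmod_eq_zero_iff_dvd]
    have : D * b (Pi.single 0 1) (Pi.single 0 1) + (1 - g) * b (Pi.single 0 1) (Pi.single 0 1) =
        (D + 1 - g) * b (Pi.single 0 1) (Pi.single 0 1) := by ring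
    rw [this]
    exact dvd_mul_of_dvd_left hm₁ _
  · rw [Phi_snd, S_apply_single D φ b hφ, map_intCast]
    show ((_ : ℤ) : ZMod m₂) = 0
    rw [ZMod.intCast_zmod_eq_zero_iff_dvd]
    have hg' : (m₂ : ℤ) ∣ 1 - g := by
      have := dvd_neg.mpr hm₂g
      rwa [neg_sub] at this
    exact dvd_add (dvd_mul_of_dvd_left hm₂D _) (dvd_mul_of_dvd_left hg' _)

lemma cast_congr (a b c : ℤ) (h : b - a = δ * c) : (a : ZMod δ) = (b : ZMod δ) :=
  (ZMod.intCast_eq_intCast_iff_dvd_sub a b δ).mpr ⟨c, h⟩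

lemma ker_le_closure (hδ : (δ : ℤ) ∣ 2 * (g - 1)) (D : ℤ) (m₁ m₂ : ℕ) (h₁ : m₁ ∣ δ)
    (h₂ : m₂ ∣ δ)
    (hb₁ : ∃ α β : ℤ, (m₁ : ℤ) = δ * α + (D + 1 - g) * β)
    (hb₂ : ∃ α μ ν : ℤ, (m₂ : ℤ) = δ * α + (g - 1) * μ + D * ν) :
    (Phi n δ m₁ m₂ h₁ h₂).ker ≤
      AddSubgroup.closure (S δ g (D • (Pi.single 0 1 : Fin (n + 1) → ℤ))) := by
  intro φ hφ
  rw [AddMonoidHom.mem_ker] at hφ
  have h0 : ZMod.castHom h₁ (ZMod m₁) (φ (Pi.single 0 1)) = 0 := congrArg Prod.fst hφ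
  have hj : ∀ j : Fin n, ZMod.castHom h₂ (ZMod m₂) (φ (Pi.single j.succ 1)) = 0 :=
    fun j => congrFun (congrArg Prod.snd hφ) j
  have key : ∀ (m : ℕ) (hm : m ∣ δ) (a : ZMod δ), ZMod.castHom hm (ZMod m) a = 0 →
      ∃ t : ℤ, a = (((m : ℤ) * t : ℤ) : ZMod δ) := by
    intro m hm a ha
    obtain ⟨z, rfl⟩ := ZMod.intCast_surjective a
    rw [map_intCast, ZMod.intCast_zmod_eq_zero_iff_dvd] at ha
    obtain ⟨t, rfl⟩ := ha
    exact ⟨t, rfl⟩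
  obtain ⟨t₀, ht₀⟩ := key m₁ h₁ _ h0
  have hjt : ∀ j : Fin n, ∃ t : ℤ, φ (Pi.single j.succ 1) = (((m₂ : ℤ) * t : ℤ) : ZMod δ) :=
    fun j => key m₂ h₂ _ (hj j)
  choose t ht using hjt
  obtain ⟨α, β, hαβ⟩ := hb₁
  obtain ⟨α', μ, ν, hαμν⟩ := hb₂
  let p : Fin (n + 1) → ((Fin (n + 1) → ℤ) →ₗ[ℤ] ℤ) := fun i => LinearMap.proj i
  have hp : ∀ i (x : Fin (n + 1) → ℤ), p i x = x i := fun i x => rfl
  have h00 : (Pi.single 0 1 : Fin (n + 1) → ℤ) 0 = 1 := Pi.single_eq_same _ _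
  have hs0 : ∀ k : Fin n, (Pi.single 0 1 : Fin (n + 1) → ℤ) k.succ = 0 := fun k =>
    Pi.single_eq_of_ne (Fin.succ_ne_zero k) 1
  have h0s : ∀ k : Fin n, (Pi.single k.succ 1 : Fin (n + 1) → ℤ) 0 = 0 := fun k =>
    Pi.single_eq_of_ne (Fin.succ_ne_zero k).symm 1
  have hss : ∀ k l : Fin n, (Pi.single k.succ 1 : Fin (n + 1) → ℤ) l.succ =
      if l = k then 1 else 0 := by
    intro k l
    rw [Pi.single_apply]
    simp only [Fin.succ_inj]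
  let b0 : LinearMap.BilinForm ℤ (Fin (n + 1) → ℤ) :=
    β • LinearMap.BilinForm.linMulLin (p 0) (p 0)
  have hb0app : ∀ x y, b0 x y = β * (x 0 * y 0) := fun x y => rfl
  have hb0 : b0.IsSymm := ⟨fun x y => by rw [hb0app, hb0app]; ring⟩
  let bj : Fin n → LinearMap.BilinForm ℤ (Fin (n + 1) → ℤ) := fun j =>
    ν • (LinearMap.BilinForm.linMulLin (p 0) (p j.succ) +
      LinearMap.BilinForm.linMulLin (p j.succ) (p 0))
      - μ • LinearMap.BilinForm.linMulLin (p j.succ) (p j.succ)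
  have hbjapp : ∀ j x y, bj j x y =
      ν * (x 0 * y j.succ + x j.succ * y 0) - μ * (x j.succ * y j.succ) := fun j x y => rfl
  have hbj : ∀ j, (bj j).IsSymm := fun j => ⟨fun x y => by rw [hbjapp, hbjapp]; ring⟩
  set d₀ : Fin (n + 1) → ℤ := D • (Pi.single 0 1) with hd₀
  have psi_single : ∀ (b : LinearMap.BilinForm ℤ (Fin (n + 1) → ℤ)) (hb : b.IsSymm)
      (i : Fin (n + 1)), psi hδ d₀ b hb (Pi.single i 1) =
        ((D * b (Pi.single 0 1) (Pi.single i 1) +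
          (1 - g) * b (Pi.single i 1) (Pi.single i 1) : ℤ) : ZMod δ) := by
    intro b hb i
    exact S_apply_single D _ b (fun x => psi_apply hδ d₀ b hb x) i
  have P0_0 : psi hδ d₀ b0 hb0 (Pi.single 0 1) = ((m₁ : ℤ) : ZMod δ) := by
    rw [psi_single, hb0app, h00]
    apply cast_congr _ _ α
    rw [hαβ]; ring
  have P0_s : ∀ k : Fin n, psi hδ d₀ b0 hb0 (Pi.single k.succ 1) = 0 := by
    intro k
    rw [psi_single, hb0app, hb0app, h0s]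
    simp
  have Pj_0 : ∀ j : Fin n, psi hδ d₀ (bj j) (hbj j) (Pi.single 0 1) = 0 := by
    intro j
    rw [psi_single, hbjapp, hs0]
    simp
  have Pj_s : ∀ j k : Fin n, psi hδ d₀ (bj j) (hbj j) (Pi.single k.succ 1) =
      if j = k then ((m₂ : ℤ) : ZMod δ) else 0 := by
    intro j k
    rw [psi_single]
    simp only [hbjapp, h00, h0s, hs0, hss]
    by_cases hjk : j = k
    · subst hjk
      simp only [eq_self_iff_true, if_true]
      apply cast_congr _ _ α'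
      rw [hαμν]; ring
    · simp only [if_neg hjk]
      simp
  have hz : ∀ (c : ℤ) (f : (Fin (n + 1) → ℤ) →+ ZMod δ) (x : Fin (n + 1) → ℤ),
      (c • f) x = c • f x := fun c f x => rfl
  have hφeq : φ = t₀ • psi hδ d₀ b0 hb0 + ∑ j, t j • psi hδ d₀ (bj j) (hbj j) := by
    apply hom_ext
    intro i
    rw [AddMonoidHom.add_apply, AddMonoidHom.finsetSum_apply]
    refine Fin.cases ?_ (fun k => ?_) i
    · rw [hz, P0_0, ht₀]
      simp only [hz, Pj_0, smul_zero, Finset.sum_const_zero, add_zero]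
      rw [zsmul_eq_mul, Int.cast_mul, mul_comm]
    · rw [hz, P0_s, ht k, smul_zero, zero_add]
      rw [Finset.sum_eq_single k]
      · rw [hz, Pj_s, if_pos rfl, zsmul_eq_mul, Int.cast_mul, mul_comm]
      · intro j _ hjk
        rw [hz, Pj_s, if_neg hjk, smul_zero]
      · intro h; exact absurd (Finset.mem_univ k) h
  rw [hφeq]
  refine AddSubgroup.add_mem _ (AddSubgroup.zsmul_mem _ (AddSubgroup.subset_closure
    (psi_mem hδ d₀ b0 hb0)) _) (AddSubgroup.sum_mem _ (fun j _ => ?_))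
  exact AddSubgroup.zsmul_mem _ (AddSubgroup.subset_closure (psi_mem hδ d₀ (bj j) (hbj j))) _

lemma Phi_surjective (m₁ m₂ : ℕ) (h₁ : m₁ ∣ δ) (h₂ : m₂ ∣ δ) :
    Function.Surjective (Phi n δ m₁ m₂ h₁ h₂) := by
  rintro ⟨u₀, u⟩
  obtain ⟨z₀, hz₀⟩ := ZMod.intCast_surjective u₀
  have hu : ∀ j, ∃ z : ℤ, (z : ZMod m₂) = u j := fun j => ZMod.intCast_surjective (u j)
  choose z hz using hu
  refine ⟨mkHom (Fin.cons (α := fun _ => ZMod δ) ((z₀ : ℤ) : ZMod δ)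
    (fun j => ((z j : ℤ) : ZMod δ))), ?_⟩
  refine Prod.ext ?_ (funext fun j => ?_)
  · rw [Phi_fst, mkHom_single, Fin.cons_zero, map_intCast]; exact hz₀
  · rw [Phi_snd, mkHom_single, Fin.cons_succ, map_intCast]; exact hz j

end Main

end Groth.Agent.Lib.Helper6.BoundaryForms
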