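import Mathlib
import Groth.Agent.Lib.Helper6.BoundaryForms2

/-!
# Lattice computation: the subgroup itself, and the final statements
-/

namespace Groth.Agent.Lib.Helper6.BoundaryForms

open scoped BigOperators

section Iota

variable {δ : ℕ}

/-- Multiplication by `m` as a map `ℤ/(δ/m) → ℤ/δ`. -/
def iota (m : ℕ) (hm : m ∣ δ) : ZMod (δ / m) →+ ZMod δ :=
  ZMod.lift (δ / m) ⟨(zmultiplesHom (ZMod δ)) ((m : ℕ) : ZMod δ), by
    rw [zmultiplesHom_apply, zsmul_eq_mul, Int.cast_natCast, ← Nat.cast_mul,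
      Nat.div_mul_cancel hm, ZMod.natCast_self]⟩

lemma iota_intCast (m : ℕ) (hm : m ∣ δ) (k : ℤ) :
    iota m hm (k : ZMod (δ / m)) = ((k * m : ℤ) : ZMod δ) := by
  rw [iota, ZMod.lift_coe]
  show (zmultiplesHom (ZMod δ)) ((m : ℕ) : ZMod δ) k = _
  rw [zmultiplesHom_apply, zsmul_eq_mul, Int.cast_mul, Int.cast_natCast]

lemma iota_injective (hδ0 : 0 < δ) (m : ℕ) (hm : m ∣ δ) : Function.Injective (iota m hm) := by
  rw [injective_iff_map_eq_zero]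
  intro x hx
  obtain ⟨k, rfl⟩ := ZMod.intCast_surjective x
  rw [iota_intCast, ZMod.intCast_zmod_eq_zero_iff_dvd] at hx
  rw [ZMod.intCast_zmod_eq_zero_iff_dvd]
  have hm0 : (m : ℤ) ≠ 0 := by
    have := Nat.pos_of_dvd_of_pos hm hδ0
    exact_mod_cast this.ne'
  have hδm : (δ : ℤ) = ((δ / m : ℕ) : ℤ) * m := by
    rw [← Nat.cast_mul, Nat.div_mul_cancel hm]
  rw [hδm] at hx
  exact Int.dvd_of_mul_dvd_mul_right hm0 hx

lemma castHom_iota (m : ℕ) (hm : m ∣ δ) (x : ZMod (δ / m)) :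
    ZMod.castHom hm (ZMod m) (iota m hm x) = 0 := by
  obtain ⟨k, rfl⟩ := ZMod.intCast_surjective x
  rw [iota_intCast, map_intCast, ZMod.intCast_zmod_eq_zero_iff_dvd]
  exact dvd_mul_left _ _

lemma exists_iota_eq (m : ℕ) (hm : m ∣ δ) (a : ZMod δ)
    (ha : ZMod.castHom hm (ZMod m) a = 0) : ∃ x, iota m hm x = a := by
  obtain ⟨z, rfl⟩ := ZMod.intCast_surjective a
  rw [map_intCast, ZMod.intCast_zmod_eq_zero_iff_dvd] at ha
  obtain ⟨k, rfl⟩ := ha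
  exact ⟨(k : ZMod (δ / m)), by rw [iota_intCast, mul_comm]⟩

variable (n : ℕ) (m₁ m₂ : ℕ) (h₁ : m₁ ∣ δ) (h₂ : m₂ ∣ δ)

/-- The vector of values. -/
def vec : (ZMod (δ / m₁) × (Fin n → ZMod (δ / m₂))) →+ (Fin (n + 1) → ZMod δ) :=
  AddMonoidHom.mk' (fun p => Fin.cons (α := fun _ => ZMod δ) (iota m₁ h₁ p.1)
      (fun j => iota m₂ h₂ (p.2 j))) (by
    intro p q
    funext i
    refine Fin.cases ?_ (fun j => ?_) i
    · simp only [Fin.cons_zero, Prod.fst_add, map_add, Pi.add_apply]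
    · simp only [Fin.cons_succ, Prod.snd_add, Pi.add_apply, map_add])

/-- The parametrisation of the kernel. -/
def Psi : (ZMod (δ / m₁) × (Fin n → ZMod (δ / m₂))) →+ ((Fin (n + 1) → ℤ) →+ ZMod δ) :=
  mkHom.comp (vec n m₁ m₂ h₁ h₂)

lemma Psi_single_zero (p : ZMod (δ / m₁) × (Fin n → ZMod (δ / m₂))) :
    Psi n m₁ m₂ h₁ h₂ p (Pi.single 0 1) = iota m₁ h₁ p.1 := by
  show mkHom (vec n m₁ m₂ h₁ h₂ p) (Pi.single 0 1) = _
  rw [mkHom_single]
  rfl

lemma Psi_single_succ (p : ZMod (δ / m₁) × (Fin n → ZMod (δ / m₂))) (j : Fin n) :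
    Psi n m₁ m₂ h₁ h₂ p (Pi.single j.succ 1) = iota m₂ h₂ (p.2 j) := by
  show mkHom (vec n m₁ m₂ h₁ h₂ p) (Pi.single j.succ 1) = _
  rw [mkHom_single]
  rfl

lemma Psi_injective (hδ0 : 0 < δ) : Function.Injective (Psi n m₁ m₂ h₁ h₂) := by
  rw [injective_iff_map_eq_zero]
  intro p hp
  refine Prod.ext ?_ (funext fun j => ?_)
  · have h := congrArg (fun f : (Fin (n + 1) → ℤ) →+ ZMod δ => f (Pi.single 0 1)) hp
    simp only [Psi_single_zero, AddMonoidHom.zero_apply] at h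
    exact (injective_iff_map_eq_zero _).mp (iota_injective hδ0 m₁ h₁) _ h
  · have h := congrArg (fun f : (Fin (n + 1) → ℤ) →+ ZMod δ => f (Pi.single j.succ 1)) hp
    simp only [Psi_single_succ, AddMonoidHom.zero_apply] at h
    exact (injective_iff_map_eq_zero _).mp (iota_injective hδ0 m₂ h₂) _ h

lemma range_Psi : (Psi n m₁ m₂ h₁ h₂).range = (Phi n δ m₁ m₂ h₁ h₂).ker := by
  ext φ
  rw [AddMonoidHom.mem_range, AddMonoidHom.mem_ker]
  constructor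
  · rintro ⟨p, rfl⟩
    refine Prod.ext ?_ (funext fun j => ?_)
    · rw [Phi_fst, Psi_single_zero]; exact castHom_iota m₁ h₁ _
    · rw [Phi_snd, Psi_single_succ]; exact castHom_iota m₂ h₂ _
  · intro h
    have h0 : ZMod.castHom h₁ (ZMod m₁) (φ (Pi.single 0 1)) = 0 := congrArg Prod.fst h
    have hj : ∀ j : Fin n, ZMod.castHom h₂ (ZMod m₂) (φ (Pi.single j.succ 1)) = 0 :=
      fun j => congrFun (congrArg Prod.snd h) j
    obtain ⟨x₀, hx₀⟩ := exists_iota_eq m₁ h₁ _ h0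
    have hx' := fun j => exists_iota_eq m₂ h₂ _ (hj j)
    choose x hx using hx'
    refine ⟨(x₀, x), ?_⟩
    apply hom_ext
    intro i
    refine Fin.cases ?_ (fun j => ?_) i
    · rw [Psi_single_zero]; exact hx₀
    · rw [Psi_single_succ]; exact hx j

end Iota

section Final

variable (n δ : ℕ) (g : ℤ) (hδ : (δ : ℤ) ∣ 2 * (g - 1)) (d : Fin (n + 1) → ℤ)

include hδ

lemma facts :
    ∃ (h₁ : Int.gcd δ (Finset.univ.gcd d + 1 - g) ∣ δ)
      (h₂ : Int.gcd δ (Int.gcd (g - 1) (Finset.univ.gcd d)) ∣ δ),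
      (Phi n δ _ _ h₁ h₂).ker =
        AddSubgroup.closure (S δ g ((Finset.univ.gcd d) • (Pi.single 0 1 : Fin (n + 1) → ℤ))) := by
  set D := Finset.univ.gcd d with hD
  have h₁ : Int.gcd δ (D + 1 - g) ∣ δ :=
    Int.natCast_dvd_natCast.mp (Int.gcd_dvd_left (δ : ℤ) (D + 1 - g))
  have h₂ : Int.gcd δ (Int.gcd (g - 1) D) ∣ δ :=
    Int.natCast_dvd_natCast.mp (Int.gcd_dvd_left (δ : ℤ) _)
  refine ⟨h₁, h₂, le_antisymm ?_ ?_⟩
  · apply ker_le_closure hδ D _ _ h₁ h₂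
    · exact ⟨Int.gcdA δ (D + 1 - g), Int.gcdB δ (D + 1 - g), Int.gcd_eq_gcd_ab _ _⟩
    · have e1 := Int.gcd_eq_gcd_ab (δ : ℤ) ((Int.gcd (g - 1) D : ℕ) : ℤ)
      have e2 := Int.gcd_eq_gcd_ab (g - 1) D
      refine ⟨Int.gcdA δ ((Int.gcd (g - 1) D : ℕ) : ℤ),
        Int.gcdA (g - 1) D * Int.gcdB δ ((Int.gcd (g - 1) D : ℕ) : ℤ),
        Int.gcdB (g - 1) D * Int.gcdB δ ((Int.gcd (g - 1) D : ℕ) : ℤ), ?_⟩
      linear_combination e1 + (Int.gcdB (δ : ℤ) ((Int.gcd (g - 1) D : ℕ) : ℤ)) * e2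
  · apply closure_le_ker D _ _ h₁ h₂
    · exact Int.gcd_dvd_right _ _
    · exact dvd_trans (Int.gcd_dvd_right (δ : ℤ) _) (Int.gcd_dvd_right _ _)
    · exact dvd_trans (Int.gcd_dvd_right (δ : ℤ) _) (Int.gcd_dvd_left _ _)

theorem quot_equiv :
    Nonempty ((((Fin (n + 1) → ℤ) →+ ZMod δ) ⧸ AddSubgroup.closure (S δ g d)) ≃+
      (ZMod (Int.gcd δ (Finset.univ.gcd d + 1 - g)) ×
        (Fin n → ZMod (Int.gcd δ (Int.gcd (g - 1) (Finset.univ.gcd d)))))) := by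
  obtain ⟨A, hA⟩ := exists_equiv n d
  have hmap := map_pull_closure (δ := δ) (g := g) A
    ((Finset.univ.gcd d) • (Pi.single 0 1 : Fin (n + 1) → ℤ))
  rw [hA] at hmap
  obtain ⟨h₁, h₂, hker⟩ := facts n δ g hδ d
  exact ⟨(QuotientAddGroup.congr (AddSubgroup.closure (S δ g d))
      (AddSubgroup.closure (S δ g ((Finset.univ.gcd d) • (Pi.single 0 1 : Fin (n + 1) → ℤ))))
      (pull (δ := δ) A) hmap).trans
    ((QuotientAddGroup.quotientAddEquivOfEq hker.symm).trans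
      (QuotientAddGroup.quotientKerEquivOfSurjective _ (Phi_surjective _ _ h₁ h₂)))⟩

theorem sub_equiv (hδ0 : 0 < δ) :
    Nonempty (AddSubgroup.closure (S δ g d) ≃+
      (ZMod (δ / Int.gcd δ (Finset.univ.gcd d + 1 - g)) ×
        (Fin n → ZMod (δ / Int.gcd δ (Int.gcd (g - 1) (Finset.univ.gcd d)))))) := by
  obtain ⟨A, hA⟩ := exists_equiv n d
  have hmap := map_pull_closure (δ := δ) (g := g) A
    ((Finset.univ.gcd d) • (Pi.single 0 1 : Fin (n + 1) → ℤ))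
  rw [hA] at hmap
  obtain ⟨h₁, h₂, hker⟩ := facts n δ g hδ d
  have hrange := range_Psi n _ _ h₁ h₂
  rw [hker] at hrange
  exact ⟨((pull (δ := δ) A).addSubgroupMap (AddSubgroup.closure (S δ g d))).trans
    ((AddEquiv.addSubgroupCongr (hmap.trans hrange.symm)).trans
      (AddMonoidHom.ofInjective (Psi_injective n _ _ h₁ h₂ hδ0)).symm)⟩

end Final

end Groth.Agent.Lib.Helper6.BoundaryForms
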