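import Mathlib
import Groth.Prelude
import Groth.Agent.Lib.Helper12.SchemeDimFT
import Groth.Agent.Lib.Helper1.ProjSpaceFT
import Groth.Agent.S10829

/-!
# Lemma B for helper1 (S14335): the function field of `P^n_k` has transcendence degree `n` (helper6)

Route: `dim P^n_k = n` (landed S10829) and, for an irreducible scheme locally of finite type over a
field, `dim X = trdeg_k κ(generic point)` (Helper12.SchemeDimFT).
-/

set_option autoImplicit false
set_option linter.style.haveILetI false
universe u
open CategoryTheory CategoryTheory.Limits AlgebraicGeometry Opposite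

namespace Groth.Agent.Lib.Helper6.CIDimB

open Groth.Agent.Lib.Helper12

attribute [local instance] Curv2.resAlgebra

/-- (B) function field of `P^n_k` has transcendence degree `n`. -/
theorem trdeg_genericPoint_projSpace (k : Type u) [Field k] (n : ℕ)
    [IrreducibleSpace ↥(CohB1.ProjSpace n k)] :
    letI : (CohB1.ProjSpace n k).Over (Spec (CommRingCat.of k)) := ⟨CohB1.ProjSpace.toSpec n k⟩
    Algebra.trdeg k ((CohB1.ProjSpace n k).residueField (genericPoint ↥(CohB1.ProjSpace n k))) = n := by
  letI : (CohB1.ProjSpace n k).Over (Spec (CommRingCat.of k)) := ⟨CohB1.ProjSpace.toSpec n k⟩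
  haveI : LocallyOfFiniteType ((CohB1.ProjSpace n k) ↘ Spec (CommRingCat.of k)) :=
    inferInstanceAs (LocallyOfFiniteType (CohB1.ProjSpace.toSpec n k))
  obtain ⟨U, hU, hx⟩ := SchemeDimFT.exists_affineOpen_mem (CohB1.ProjSpace n k)
    (genericPoint ↥(CohB1.ProjSpace n k))
  obtain ⟨m, hm, -⟩ := SchemeDimFT.exists_trdeg_eq_coheight k (CohB1.ProjSpace n k) U hU _ hx
  have h1 := SchemeDimFT.topologicalKrullDim_eq_of_irreducible k (CohB1.ProjSpace n k) m hm
  have h2 := Groth.Agent.S10829.result k n
  rw [h2] at h1
  have h3 : m = n := by exact_mod_cast h1.symm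
  rw [hm, h3]

end Groth.Agent.Lib.Helper6.CIDimB
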