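import Mathlib
import Groth.Prelude
import Groth.Agent.S3557

/-!
# Lemma B0 for helper1 (S14335): `P^n_k` is irreducible  (helper6)
-/

set_option autoImplicit false
universe u
open CategoryTheory CategoryTheory.Limits AlgebraicGeometry Opposite MvPolynomial

namespace Groth.Agent.Lib.Helper6.CIDimB0

theorem isIntegral_projSpace (k : Type u) [Field k] (n : ℕ) :
    IsIntegral (CohB1.ProjSpace n k) := by
  have hX : (X (0 : Fin (n + 1)) : MvPolynomial (Fin (n + 1)) k) ∈
      (HomogeneousIdeal.irrelevant (CohB1.polyGrading n k)).toIdeal :=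
    HomogeneousIdeal.mem_irrelevant_of_mem _ one_pos (isHomogeneous_X k 0)
  exact (Groth.Agent.S3557.result (CohB1.polyGrading n k) (fun f _ hf => hf.eq_zero)).mpr
    ⟨⟨_, hX, X_ne_zero _⟩, fun f _ g _ h => mul_eq_zero.mp h⟩

/-- (B0) irreducibility of `P^n_k`. -/
theorem irreducibleSpace_projSpace (k : Type u) [Field k] (n : ℕ) :
    IrreducibleSpace ↥(CohB1.ProjSpace n k) := by
  haveI := isIntegral_projSpace k n
  infer_instance

end Groth.Agent.Lib.Helper6.CIDimB0
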