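import Mathlib
import Groth.Prelude.Def_CAlg
import Groth.Agent.Lib.Helper4.CMChain
import Groth.Agent.Lib.Helper12.DimFT2

/-!
In an equidimensional Cohen–Macaulay finite type algebra over a field, elements cutting down the
dimension by their number form a regular sequence at every prime containing them.
-/

set_option autoImplicit false
universe u

namespace Groth.Agent.Lib.Helper6.CMEquidim

open Groth.Agent.Lib.Helper4 Groth.Agent.Lib.Helper12 RingTheory.Sequence

theorem le_height_aux {S : Type u} [CommRing S] (d n : ℕ) (I P : Ideal S)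
    [hP : P.IsPrime] (hIP : I ≤ P)
    (hA : (Order.height (⟨P, hP⟩ : PrimeSpectrum S) : ℕ∞) +
      Order.coheight (⟨P, hP⟩ : PrimeSpectrum S) = d)
    (hle : ringKrullDim (S ⧸ I) ≤ ((d - n : ℕ) : WithBot ℕ∞)) (hn : n ≤ d) :
    (n : ℕ∞) ≤ P.height := by
  let y : PrimeSpectrum S := ⟨P, hP⟩
  have h5 : ringKrullDim (S ⧸ P) = (Order.coheight y : WithBot ℕ∞) :=
    DimFT.ringKrullDim_quotient_eq_coheight y
  have h6 : ringKrullDim (S ⧸ P) ≤ ringKrullDim (S ⧸ I) :=
    ringKrullDim_le_of_surjective (Ideal.Quotient.factor hIP) (Ideal.Quotient.factor_surjective hIP)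
  have h7 : ((Order.coheight y : ℕ∞) : WithBot ℕ∞) ≤ (((d - n : ℕ) : ℕ∞) : WithBot ℕ∞) := by
    rw [← h5]
    exact h6.trans hle
  have h8 : Order.coheight y ≤ ((d - n : ℕ) : ℕ∞) := WithBot.coe_le_coe.mp h7
  have h9 : P.height = Order.height y := PrimeSpectrum.height_eq_orderHeight y
  rw [h9]
  have hle' : Order.height y ≤ (d : ℕ∞) := by
    rw [← hA]
    exact le_self_add
  obtain ⟨a, ha⟩ := ENat.ne_top_iff_exists.mp (ne_top_of_le_ne_top (ENat.natCast_ne_top d) hle')
  obtain ⟨b, hb⟩ := ENat.ne_top_iff_exists.mp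
    (ne_top_of_le_ne_top (ENat.natCast_ne_top (d - n)) h8)
  have hA' : (Order.height y : ℕ∞) + Order.coheight y = d := hA
  rw [← ha, ← hb] at hA'
  rw [← hb] at h8
  rw [← ha]
  have h4' : a + b = d := by exact_mod_cast hA'
  have h8' : b ≤ d - n := by exact_mod_cast h8
  have : n ≤ a := by omega
  exact_mod_cast this

theorem regular_at {S : Type u} [CommRing S] [hS : LocCoh.IsCohenMacaulayRing S] (q : Ideal S)
    [hq : q.IsPrime] (f : List S) (hfq : Ideal.ofList f ≤ q)
    (hht : ∀ (P : Ideal S) [P.IsPrime], Ideal.ofList f ≤ P → (f.length : ℕ∞) ≤ P.height) :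
    IsRegular (Localization.AtPrime q) (f.map (algebraMap S (Localization.AtPrime q))) := by
  have hCMloc := hS.isCohenMacaulayLocalRing_localization q
  have hCM : LocCoh.IsCohenMacaulayModule (Localization.AtPrime q) (Localization.AtPrime q) :=
    hCMloc.supportDim_eq_depth
  have hsupp : Module.support (Localization.AtPrime q) (Localization.AtPrime q) = Set.univ := by
    rw [Module.support_of_algebra]
    have hk : RingHom.ker (algebraMap (Localization.AtPrime q) (Localization.AtPrime q)) = ⊥ :=
      (RingHom.injective_iff_ker_eq_bot _).mp (fun a b h => h)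
    rw [hk]
    simp
  obtain ⟨xs, hxsdef⟩ : ∃ xs, xs = f.map (algebraMap S (Localization.AtPrime q)) := ⟨_, rfl⟩
  rw [← hxsdef]
  have hlen : xs.length = f.length := by rw [hxsdef, List.length_map]
  have hxs : ∀ x ∈ xs, x ∈ IsLocalRing.maximalIdeal (Localization.AtPrime q) := by
    intro x hx
    rw [hxsdef, List.mem_map] at hx
    obtain ⟨a, ha, rfl⟩ := hx
    exact (IsLocalization.AtPrime.to_map_mem_maximal_iff (Localization.AtPrime q) q a).mpr
      (hfq (Ideal.subset_span ha))
  have hJmap : ∀ a ∈ Ideal.ofList f,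
      algebraMap S (Localization.AtPrime q) a ∈ Ideal.ofList xs := by
    intro a ha
    have h1 : Ideal.ofList f ≤ (Ideal.ofList xs).comap (algebraMap S (Localization.AtPrime q)) := by
      change Ideal.span {x | x ∈ f} ≤ _
      refine Ideal.span_le.mpr (fun x hx => ?_)
      have hx' : algebraMap S (Localization.AtPrime q) x ∈ xs := by
        rw [hxsdef, List.mem_map]
        exact ⟨x, hx, rfl⟩
      exact Ideal.subset_span hx'
    exact h1 ha
  have hJle : Ideal.ofList xs ≤ IsLocalRing.maximalIdeal (Localization.AtPrime q) := by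
    change Ideal.span {x | x ∈ xs} ≤ _
    exact Ideal.span_le.mpr (fun x hx => hxs x hx)
  have hJtop : Ideal.ofList xs ≠ ⊤ := fun h =>
    (IsLocalRing.maximalIdeal.isMaximal (Localization.AtPrime q)).ne_top (top_le_iff.mp (h ▸ hJle))
  -- the height of q
  have hqfin : q.height ≠ ⊤ := Ideal.height_ne_top hq.ne_top
  obtain ⟨h, hh⟩ := ENat.ne_top_iff_exists.mp hqfin
  have hdimR : ringKrullDim (Localization.AtPrime q) = (h : WithBot ℕ∞) := by
    rw [IsLocalization.AtPrime.ringKrullDim_eq_height q (Localization.AtPrime q), ← hh]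
    rfl
  have hlenh : f.length ≤ h := by
    have := hht q hfq
    rw [← hh] at this
    exact_mod_cast this
  -- the dimension of the quotient
  have hsm : (Ideal.ofList xs • (⊤ : Submodule (Localization.AtPrime q) (Localization.AtPrime q))) =
      Ideal.ofList xs := by
    rw [smul_eq_mul, Ideal.mul_top]
  let e : ((Localization.AtPrime q) ⧸ Ideal.ofList xs •
      (⊤ : Submodule (Localization.AtPrime q) (Localization.AtPrime q))) ≃ₗ[Localization.AtPrime q]
      ((Localization.AtPrime q) ⧸ Ideal.ofList xs) := Submodule.quotEquivOfEq _ _ hsm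
  haveI : Nontrivial ((Localization.AtPrime q) ⧸ Ideal.ofList xs) :=
    Ideal.Quotient.nontrivial_iff.mpr hJtop
  haveI : Nontrivial ((Localization.AtPrime q) ⧸ Ideal.ofList xs •
      (⊤ : Submodule (Localization.AtPrime q) (Localization.AtPrime q))) := e.toEquiv.nontrivial
  obtain ⟨D, hD⟩ := exists_nat_supportDim (R := Localization.AtPrime q)
    (M := (Localization.AtPrime q) ⧸ Ideal.ofList xs •
      (⊤ : Submodule (Localization.AtPrime q) (Localization.AtPrime q)))
  have hD' : ringKrullDim ((Localization.AtPrime q) ⧸ Ideal.ofList xs) = ((D : ℕ∞) : WithBot ℕ∞) := by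
    rw [← Module.supportDim_quotient_eq_ringKrullDim, ← Module.supportDim_eq_of_equiv e, hD]
  have hupper : ringKrullDim ((Localization.AtPrime q) ⧸ Ideal.ofList xs) ≤
      (((h - f.length : ℕ) : ℕ∞) : WithBot ℕ∞) := by
    apply DimFT2.ringKrullDim_le_of_minimalPrimes
    intro Pb _ hPb
    obtain ⟨P, hPdef⟩ : ∃ P, P = Pb.comap (Ideal.Quotient.mk (Ideal.ofList xs)) := ⟨_, rfl⟩
    haveI hPp : P.IsPrime := by rw [hPdef]; exact Ideal.IsPrime.comap _
    have hJP : Ideal.ofList xs ≤ P := by
      intro a ha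
      rw [hPdef, Ideal.mem_comap, Ideal.Quotient.eq_zero_iff_mem.mpr ha]
      exact zero_mem _
    have hPb' : Pb = P.map (Ideal.Quotient.mk (Ideal.ofList xs)) := by
      rw [hPdef]
      exact (Ideal.map_comap_of_surjective _ Ideal.Quotient.mk_surjective Pb).symm
    clear hPdef
    subst hPb'
    rw [ringKrullDim_eq_of_ringEquiv (DoubleQuot.quotQuotEquivQuotOfLE hJP)]
    -- heights
    have hform := cm_height_add_ringKrullDim_quotient hCM hsupp ⟨P, hPp⟩
    rw [hdimR, DimFT.ringKrullDim_quotient_eq_coheight] at hform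
    have hform' : (P.height : ℕ∞) + Order.coheight (⟨P, hPp⟩ : PrimeSpectrum _) = (h : ℕ∞) := by
      exact_mod_cast hform
    have hPht : (f.length : ℕ∞) ≤ P.height := by
      rw [← IsLocalization.height_under q.primeCompl P]
      haveI : (Ideal.under S P).IsPrime := Ideal.IsPrime.comap _
      apply hht
      intro a ha
      exact hJP (hJmap a ha)
    rw [DimFT.ringKrullDim_quotient_eq_coheight (⟨P, hPp⟩ : PrimeSpectrum _)]
    have hle1 : P.height ≤ (h : ℕ∞) := by
      rw [← hform']
      exact le_self_add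
    have hle2 : Order.coheight (⟨P, hPp⟩ : PrimeSpectrum _) ≤ (h : ℕ∞) := by
      rw [← hform']
      exact le_add_self
    obtain ⟨a, ha⟩ := ENat.ne_top_iff_exists.mp (ne_top_of_le_ne_top (ENat.natCast_ne_top h) hle1)
    obtain ⟨b, hb⟩ := ENat.ne_top_iff_exists.mp (ne_top_of_le_ne_top (ENat.natCast_ne_top h) hle2)
    rw [← ha, ← hb] at hform'
    rw [← ha] at hPht
    rw [← hb]
    have e1 : a + b = h := by exact_mod_cast hform'
    have e2 : f.length ≤ a := by exact_mod_cast hPht
    have e3 : b ≤ h - f.length := by omega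
    exact WithBot.coe_le_coe.mpr (by exact_mod_cast e3)
  have h3 := supportDim_le_supportDim_quot_ofList_add_length (R := Localization.AtPrime q)
    (M := Localization.AtPrime q) xs hxs
  rw [Module.supportDim_self_eq_ringKrullDim, hdimR, hD, hlen] at h3
  rw [hD'] at hupper
  have h3' : h ≤ D + f.length := by exact_mod_cast h3
  have hupper' : D ≤ h - f.length := by
    have := WithBot.coe_le_coe.mp hupper
    exact_mod_cast this
  have hsum : D + f.length = h := by omega
  have hdim : Module.supportDim (Localization.AtPrime q) ((Localization.AtPrime q) ⧸ Ideal.ofList xs •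
      (⊤ : Submodule (Localization.AtPrime q) (Localization.AtPrime q))) + (xs.length : ℕ) =
      Module.supportDim (Localization.AtPrime q) (Localization.AtPrime q) := by
    rw [Module.supportDim_self_eq_ringKrullDim, hdimR, hD, hlen]
    exact_mod_cast hsum
  have hreg := cm_isWeaklyRegular_of_supportDim hCM xs hxs hdim
  exact IsRegular.of_isWeaklyRegular_of_mem_maximalIdeal (Localization.AtPrime q) hxs hreg

theorem main (k S : Type u) [Field k] [CommRing S] [Algebra k S]
    [Algebra.FiniteType k S] [LocCoh.IsCohenMacaulayRing S] (d : ℕ)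
    (heq : ∀ p ∈ minimalPrimes S, ringKrullDim (S ⧸ p) = d) (f : List S) (hi : f.length ≤ d)
    (hne : Ideal.ofList f ≠ ⊤)
    (hle : ringKrullDim (S ⧸ Ideal.ofList f) ≤ ((d - f.length : ℕ) : WithBot ℕ∞)) :
    ringKrullDim (S ⧸ Ideal.ofList f) = ((d - f.length : ℕ) : WithBot ℕ∞) ∧
      ∀ (q : Ideal S) [q.IsPrime], Ideal.ofList f ≤ q →
        RingTheory.Sequence.IsRegular (Localization.AtPrime q)
          (f.map (algebraMap S (Localization.AtPrime q))) := by
  classical
  have hA : ∀ Q : PrimeSpectrum S, (Order.height Q : ℕ∞) + Order.coheight Q = d :=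
    fun Q => DimFT2.height_add_coheight_of_equidim k S d (fun P hP _ => heq P hP) Q
  refine ⟨le_antisymm hle ?_, fun q hq hfq => ?_⟩
  · obtain ⟨Q, hQ⟩ := Ideal.nonempty_minimalPrimes hne
    haveI hQp : Q.IsPrime := hQ.1.1
    let y : PrimeSpectrum S := ⟨Q, hQp⟩
    have h1 : Q.height ≤ (f.toFinset.card : ℕ∞) := by
      apply Ideal.height_le_card_of_mem_minimalPrimes_span_finset
      rw [List.coe_toFinset]
      exact hQ
    have h2 : f.toFinset.card ≤ f.length := List.toFinset_card_le f
    have h3 : Order.height y ≤ (f.length : ℕ∞) := by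
      rw [← PrimeSpectrum.height_eq_orderHeight y]
      exact h1.trans (by exact_mod_cast h2)
    have h5 : ringKrullDim (S ⧸ Q) = (Order.coheight y : WithBot ℕ∞) :=
      DimFT.ringKrullDim_quotient_eq_coheight y
    have h6 : ringKrullDim (S ⧸ Q) ≤ ringKrullDim (S ⧸ Ideal.ofList f) :=
      ringKrullDim_le_of_surjective (Ideal.Quotient.factor hQ.1.2)
        (Ideal.Quotient.factor_surjective hQ.1.2)
    refine le_trans ?_ h6
    rw [h5]
    have hAy := hA y
    obtain ⟨a, ha⟩ := ENat.ne_top_iff_exists.mp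
      (ne_top_of_le_ne_top (ENat.natCast_ne_top f.length) h3)
    have hle2 : Order.coheight y ≤ (d : ℕ∞) := by
      rw [← hAy]
      exact le_add_self
    obtain ⟨b, hb⟩ := ENat.ne_top_iff_exists.mp (ne_top_of_le_ne_top (ENat.natCast_ne_top d) hle2)
    rw [← ha, ← hb] at hAy
    rw [← ha] at h3
    rw [← hb]
    have e1 : a + b = d := by exact_mod_cast hAy
    have e2 : a ≤ f.length := by exact_mod_cast h3
    have e3 : d - f.length ≤ b := by omega
    have : (((d - f.length : ℕ) : ℕ∞) : WithBot ℕ∞) ≤ ((b : ℕ∞) : WithBot ℕ∞) :=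
      WithBot.coe_le_coe.mpr (by exact_mod_cast e3)
    exact this
  · exact regular_at q f hfq (fun P hP hfP =>
      le_height_aux d f.length (Ideal.ofList f) P hfP (hA ⟨P, hP⟩) hle hi)

end Groth.Agent.Lib.Helper6.CMEquidim
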