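import Mathlib
import Groth.Prelude.Def_W4c1btstackcountsChain

set_option autoImplicit false

namespace Groth.Agent.Lib.Helper6.ChainA

open W4c1btstackcounts Module

noncomputable section

variable {k : Type*} [Field k] {d : ℕ → ℕ}

/-- The image of `k^{d i}` in `k^{d j}` (cast-free version of `iterImage`). -/
def U (f : (i : ℕ) → Matrix (Fin (d (i + 1))) (Fin (d i)) k) (i : ℕ) :
    (j : ℕ) → Submodule k (Fin (d j) → k)
  | 0 => if i = 0 then ⊤ else ⊥
  | j + 1 => if i = j + 1 then ⊤ else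
      if i ≤ j then (U f i j).map (Matrix.toLin' (f j)) else ⊥

theorem U_self (f : (i : ℕ) → Matrix (Fin (d (i + 1))) (Fin (d i)) k) (i : ℕ) :
    U f i i = ⊤ := by
  cases i with
  | zero => rw [U, if_pos rfl]
  | succ n => rw [U, if_pos rfl]

theorem U_succ (f : (i : ℕ) → Matrix (Fin (d (i + 1))) (Fin (d i)) k) {i j : ℕ} (h : i ≤ j) :
    U f i (j + 1) = (U f i j).map (Matrix.toLin' (f j)) := by
  have h1 : ¬ i = j + 1 := by omega
  rw [U, if_neg h1, if_pos h]

theorem iterImage_eq (f : (i : ℕ) → Matrix (Fin (d (i + 1))) (Fin (d i)) k) (i n : ℕ) :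
    iterImage f i n = U f i (i + n) := by
  induction n with
  | zero =>
      rw [iterImage]
      exact (U_self f i).symm
  | succ n ih =>
      rw [iterImage, ih]
      exact (U_succ f (Nat.le_add_right i n)).symm

theorem finrank_iterImage_congr (f : (i : ℕ) → Matrix (Fin (d (i + 1))) (Fin (d i)) k) (i : ℕ)
    {m n : ℕ} (h : m = n) :
    finrank k (iterImage f i m) = finrank k (iterImage f i n) := by
  subst h; rfl

theorem rankArray_eq (f : (i : ℕ) → Matrix (Fin (d (i + 1))) (Fin (d i)) k) {i j : ℕ}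
    (h : i ≤ j) : rankArray f i j = finrank k (U f i j) := by
  obtain ⟨n, rfl⟩ := Nat.exists_eq_add_of_le h
  have h2 : i + n - i = n := by omega
  rw [rankArray, if_pos h, finrank_iterImage_congr f i h2, iterImage_eq]

/-- linear equivalence attached to an invertible matrix -/
def GE {n : ℕ} (g : Matrix.GeneralLinearGroup (Fin n) k) : (Fin n → k) ≃ₗ[k] (Fin n → k) :=
  LinearEquiv.ofLinearMap (Matrix.toLin' (g : Matrix (Fin n) (Fin n) k))
    (Matrix.toLin' ((g⁻¹ : Matrix.GeneralLinearGroup (Fin n) k) : Matrix (Fin n) (Fin n) k))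
    (by rw [← Matrix.toLin'_mul, Units.mul_inv, Matrix.toLin'_one])
    (by rw [← Matrix.toLin'_mul, Units.inv_mul, Matrix.toLin'_one])

theorem GE_coe {n : ℕ} (g : Matrix.GeneralLinearGroup (Fin n) k) :
    ((GE g : (Fin n → k) ≃ₗ[k] (Fin n → k)) : (Fin n → k) →ₗ[k] (Fin n → k)) =
      Matrix.toLin' (g : Matrix (Fin n) (Fin n) k) :=
  LinearMap.ext fun _ => rfl

theorem conj_mul (g : (j : ℕ) → Matrix.GeneralLinearGroup (Fin (d j)) k)
    (f : (i : ℕ) → Matrix (Fin (d (i + 1))) (Fin (d i)) k) (j : ℕ) :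
    conj g f j * (g j : Matrix (Fin (d j)) (Fin (d j)) k) =
      (g (j + 1) : Matrix (Fin (d (j + 1))) (Fin (d (j + 1))) k) * f j := by
  simp only [conj]
  rw [Matrix.mul_assoc, Units.inv_mul, Matrix.mul_one]

theorem lin_conj (g : (j : ℕ) → Matrix.GeneralLinearGroup (Fin (d j)) k)
    (f : (i : ℕ) → Matrix (Fin (d (i + 1))) (Fin (d i)) k) (j : ℕ) :
    (Matrix.toLin' (conj g f j)).comp
        ((GE (g j) : (Fin (d j) → k) ≃ₗ[k] (Fin (d j) → k)) : (Fin (d j) → k) →ₗ[k] (Fin (d j) → k)) =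
      ((GE (g (j + 1)) : (Fin (d (j + 1)) → k) ≃ₗ[k] (Fin (d (j + 1)) → k)) :
        (Fin (d (j + 1)) → k) →ₗ[k] (Fin (d (j + 1)) → k)).comp (Matrix.toLin' (f j)) := by
  rw [GE_coe, GE_coe, ← Matrix.toLin'_mul, ← Matrix.toLin'_mul, conj_mul]

theorem U_conj (g : (j : ℕ) → Matrix.GeneralLinearGroup (Fin (d j)) k)
    (f : (i : ℕ) → Matrix (Fin (d (i + 1))) (Fin (d i)) k) (i : ℕ) :
    ∀ j, i ≤ j → U (conj g f) i j =
      (U f i j).map ((GE (g j) : (Fin (d j) → k) ≃ₗ[k] (Fin (d j) → k)) :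
        (Fin (d j) → k) →ₗ[k] (Fin (d j) → k)) := by
  intro j hj
  induction j, hj using Nat.le_induction with
  | base =>
      rw [U_self, U_self, Submodule.map_top, LinearMap.range_eq_top.mpr (GE (g i)).surjective]
  | succ j hj ih =>
      rw [U_succ _ hj, U_succ _ hj, ih, ← Submodule.map_comp, ← Submodule.map_comp, lin_conj]

theorem part1 (g : (j : ℕ) → Matrix.GeneralLinearGroup (Fin (d j)) k)
    (f : (i : ℕ) → Matrix (Fin (d (i + 1))) (Fin (d i)) k) {i j : ℕ} (h : i ≤ j) :
    rankArray (conj g f) i j = rankArray f i j := by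
  rw [rankArray_eq _ h, rankArray_eq _ h, U_conj g f i j h]
  exact (Submodule.equivMapOfInjective _ (GE (g j)).injective _).finrank_eq.symm

theorem U_mono (f : (i : ℕ) → Matrix (Fin (d (i + 1))) (Fin (d i)) k) {i j : ℕ}
    (h : i + 1 ≤ j) : U f i j ≤ U f (i + 1) j := by
  induction j, h using Nat.le_induction with
  | base => rw [U_self]; exact le_top
  | succ j hj ih =>
      rw [U_succ f (by omega : i ≤ j), U_succ f hj]
      exact Submodule.map_mono ih

theorem rank_ineq {V W : Type*} [AddCommGroup V] [Module k V] [AddCommGroup W] [Module k W]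
    [FiniteDimensional k V] (φ : V →ₗ[k] W) {A B : Submodule k V} (h : A ≤ B) :
    finrank k (B.map φ) + finrank k A ≤ finrank k B + finrank k (A.map φ) := by
  have hA := LinearMap.finrank_range_add_finrank_ker (φ.domRestrict A)
  have hB := LinearMap.finrank_range_add_finrank_ker (φ.domRestrict B)
  rw [LinearMap.range_domRestrict] at hA hB
  have hk : finrank k (LinearMap.ker (φ.domRestrict A)) ≤
      finrank k (LinearMap.ker (φ.domRestrict B)) := by
    let ι : LinearMap.ker (φ.domRestrict A) →ₗ[k] LinearMap.ker (φ.domRestrict B) :=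
      LinearMap.codRestrict _ ((Submodule.inclusion h).comp (Submodule.subtype _)) (fun x => by
        have hx := x.2
        rw [LinearMap.mem_ker] at hx ⊢
        exact hx)
    apply LinearMap.finrank_le_finrank_of_injective (f := ι)
    intro x y hxy
    have h1 : ((ι x : B) : V) = ((ι y : B) : V) := by rw [hxy]
    exact Subtype.ext (Subtype.ext h1)
  omega

theorem part2 (f : (i : ℕ) → Matrix (Fin (d (i + 1))) (Fin (d i)) k) (r : ℕ) :
    IsRankArray d r (rankArray f) := by
  unfold IsRankArray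
  refine ⟨?_, ?_, ?_, ?_⟩
  · intro j _ _
    rw [rankArray_eq f le_rfl, U_self, finrank_top, Module.finrank_fin_fun]
  · intro i j _ hij _
    rw [rankArray_eq f hij.le, rankArray_eq f (by omega : i + 1 ≤ j)]
    exact Submodule.finrank_mono (U_mono f hij)
  · intro i j _ hij _
    rw [rankArray_eq f hij, rankArray_eq f (by omega : i ≤ j + 1), U_succ f hij]
    exact Submodule.finrank_map_le _ _
  · intro i j hi hij _
    obtain ⟨i', rfl⟩ : ∃ i', i = i' + 1 := ⟨i - 1, by omega⟩
    rw [Nat.add_sub_cancel]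
    rw [rankArray_eq f hij, rankArray_eq f (by omega : i' + 1 ≤ j + 1),
      rankArray_eq f (by omega : i' ≤ j), rankArray_eq f (by omega : i' ≤ j + 1),
      U_succ f hij, U_succ f (by omega : i' ≤ j)]
    exact rank_ineq (Matrix.toLin' (f j)) (U_mono f hij)

end

end Groth.Agent.Lib.Helper6.ChainA
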