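import Mathlib

set_option autoImplicit false

namespace Groth.Agent.Lib.Helper6.ChainB

open Module

noncomputable section

variable {k : Type*} [Field k] {d : ℕ → ℕ}

/-- the shift on the total space -/
def shiftFun (φ : ∀ j, (Fin (d j) → k) →ₗ[k] (Fin (d (j + 1)) → k))
    (x : ∀ j, Fin (d j) → k) : ∀ j, Fin (d j) → k
  | 0 => 0
  | j + 1 => φ j (x j)

def shift (φ : ∀ j, (Fin (d j) → k) →ₗ[k] (Fin (d (j + 1)) → k)) :
    (∀ j, Fin (d j) → k) →ₗ[k] (∀ j, Fin (d j) → k) where
  toFun := shiftFun φ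
  map_add' x y := by
    funext j
    cases j with
    | zero => show (0 : Fin (d 0) → k) = 0 + 0; rw [add_zero]
    | succ j => show φ j (x j + y j) = φ j (x j) + φ j (y j); rw [map_add]
  map_smul' c x := by
    funext j
    cases j with
    | zero => show (0 : Fin (d 0) → k) = c • (0 : Fin (d 0) → k); rw [smul_zero]
    | succ j => show φ j (c • x j) = c • φ j (x j); rw [map_smul]

theorem shift_zero (φ : ∀ j, (Fin (d j) → k) →ₗ[k] (Fin (d (j + 1)) → k))
    (x : ∀ j, Fin (d j) → k) : shift φ x 0 = 0 := rfl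

theorem shift_succ (φ : ∀ j, (Fin (d j) → k) →ₗ[k] (Fin (d (j + 1)) → k))
    (x : ∀ j, Fin (d j) → k) (j : ℕ) : shift φ x (j + 1) = φ j (x j) := rfl

theorem shift_single (φ : ∀ j, (Fin (d j) → k) →ₗ[k] (Fin (d (j + 1)) → k)) (j : ℕ)
    (c : Fin (d j) → k) :
    shift φ (Pi.single j c) = Pi.single (j + 1) (φ j c) := by
  funext m
  cases m with
  | zero =>
      rw [Pi.single_eq_of_ne (Nat.succ_ne_zero j).symm]; rfl
  | succ m =>
      rw [shift_succ]
      by_cases h : m = j
      · subst h; rw [Pi.single_eq_same, Pi.single_eq_same]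
      · rw [Pi.single_eq_of_ne h, Pi.single_eq_of_ne (by omega : m + 1 ≠ j + 1), map_zero]

/-- transport from level `j` to level `l` -/
def tr (φ : ∀ j, (Fin (d j) → k) →ₗ[k] (Fin (d (j + 1)) → k)) (j l : ℕ) :
    (Fin (d j) → k) →ₗ[k] (Fin (d l) → k) :=
  (LinearMap.proj (R := k) (φ := fun j => Fin (d j) → k) l).comp
    (((shift φ) ^ (l - j)).comp (LinearMap.single k (fun j => Fin (d j) → k) j))

theorem tr_apply (φ : ∀ j, (Fin (d j) → k) →ₗ[k] (Fin (d (j + 1)) → k)) (j l : ℕ)
    (c : Fin (d j) → k) :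
    tr φ j l c = ((shift φ) ^ (l - j)) (Pi.single j c) l := rfl

theorem tr_self (φ : ∀ j, (Fin (d j) → k) →ₗ[k] (Fin (d (j + 1)) → k)) (j : ℕ)
    (c : Fin (d j) → k) : tr φ j j c = c := by
  rw [tr_apply, Nat.sub_self, pow_zero, Module.End.one_apply, Pi.single_eq_same]

theorem tr_step (φ : ∀ j, (Fin (d j) → k) →ₗ[k] (Fin (d (j + 1)) → k)) {j l : ℕ}
    (h : j + 1 ≤ l) (c : Fin (d j) → k) : tr φ j l c = tr φ (j + 1) l (φ j c) := by
  have h1 : l - j = (l - (j + 1)) + 1 := by omega
  rw [tr_apply, tr_apply, h1, pow_succ, Module.End.mul_apply, shift_single]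

theorem tr_succ (φ : ∀ j, (Fin (d j) → k) →ₗ[k] (Fin (d (j + 1)) → k)) {j l : ℕ}
    (h : j ≤ l) (c : Fin (d j) → k) : tr φ j (l + 1) c = φ l (tr φ j l c) := by
  have h1 : l + 1 - j = (l - j) + 1 := by omega
  rw [tr_apply, tr_apply, h1, pow_succ', Module.End.mul_apply, shift_succ]

theorem tr_of_lt (φ : ∀ j, (Fin (d j) → k) →ₗ[k] (Fin (d (j + 1)) → k)) {j l : ℕ}
    (h : l < j) (c : Fin (d j) → k) : tr φ j l c = 0 := by
  have h1 : l - j = 0 := by omega
  rw [tr_apply, h1, pow_zero, Module.End.one_apply, Pi.single_eq_of_ne (by omega : l ≠ j)]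

/-- A decomposition of the family `C` into strings. -/
def HasStrings (φ : ∀ j, (Fin (d j) → k) →ₗ[k] (Fin (d (j + 1)) → k))
    (C : ∀ j, Submodule k (Fin (d j) → k)) : Prop :=
  ∃ (N : ℕ) (lo hi : Fin N → ℕ) (w : Fin N → ∀ j, Fin (d j) → k),
    (∀ t, lo t ≤ hi t) ∧
    (∀ t j, ¬ (lo t ≤ j ∧ j ≤ hi t) → w t j = 0) ∧
    (∀ t j, w t j ∈ C j) ∧
    (∀ t j, lo t ≤ j → φ j (w t j) = w t (j + 1)) ∧
    (∀ j (c : Fin N → k), ∑ t, c t • w t j = 0 → ∀ t, lo t ≤ j → j ≤ hi t → c t = 0) ∧
    (∀ j, ∀ v ∈ C j, ∃ c : Fin N → k, ∑ t, c t • w t j = v)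

theorem exists_strings (φ : ∀ j, (Fin (d j) → k) →ₗ[k] (Fin (d (j + 1)) → k)) (r : ℕ) :
    ∀ (n : ℕ) (C : ∀ j, Submodule k (Fin (d j) → k)),
      (∀ j, (C j).map (φ j) ≤ C (j + 1)) → (∀ j, r < j → C j = ⊥) →
      ∑ j ∈ Finset.range (r + 1), finrank k (C j) = n → HasStrings φ C := by
  intro n
  induction n using Nat.strong_induction_on with
  | _ n ih =>
  intro C hst hbd hn
  by_cases hall : ∀ j, C j = ⊥
  · refine ⟨0, Fin.elim0, Fin.elim0, Fin.elim0, fun t => t.elim0, fun t => t.elim0,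
      fun t => t.elim0, fun t => t.elim0, fun j c _ t => t.elim0, ?_⟩
    intro j v hv
    rw [hall j, Submodule.mem_bot] at hv
    exact ⟨Fin.elim0, by rw [hv]; simp⟩
  · push Not at hall
    classical
    obtain ⟨i, hCi, hmin⟩ : ∃ i, C i ≠ ⊥ ∧ ∀ j, j < i → C j = ⊥ :=
      ⟨Nat.find hall, Nat.find_spec hall, fun j hj => by
        by_contra h
        exact Nat.find_min hall hj h⟩
    have hir : i ≤ r := by
      by_contra h
      exact hCi (hbd i (by omega))
    obtain ⟨v, hvC, hv0⟩ := Submodule.exists_mem_ne_zero_of_ne_bot hCi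
    obtain ⟨x, hx⟩ : ∃ x : ∀ j, Fin (d j) → k, ∀ j, x j = tr φ i j v :=
      ⟨fun j => tr φ i j v, fun j => rfl⟩
    have hxi : x i = v := by rw [hx, tr_self]
    have hxlt : ∀ j, j < i → x j = 0 := fun j hj => by rw [hx, tr_of_lt φ hj]
    have hxs : ∀ j, i ≤ j → x (j + 1) = φ j (x j) := fun j hj => by
      rw [hx, hx, tr_succ φ hj]
    have hxC : ∀ j, x j ∈ C j := by
      intro j
      by_cases hj : i ≤ j
      · induction j, hj using Nat.le_induction with
        | base => rw [hxi]; exact hvC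
        | succ j hj ih =>
            rw [hxs j hj]
            exact hst j (Submodule.mem_map_of_mem ih)
      · rw [hxlt j (by omega)]; exact Submodule.zero_mem _
    have hxr : ∀ j, r < j → x j = 0 := fun j hj => by
      have h := hxC j
      rw [hbd j hj, Submodule.mem_bot] at h
      exact h
    obtain ⟨l, hil, hxl, hxl1⟩ : ∃ l, i ≤ l ∧ x l ≠ 0 ∧ x (l + 1) = 0 := by
      by_contra hno
      push Not at hno
      have hne : ∀ j, i ≤ j → x j ≠ 0 := by
        intro j hj
        induction j, hj using Nat.le_induction with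
        | base => rw [hxi]; exact hv0
        | succ j hj ih => exact hno j hj ih
      exact hne (r + 1) (by omega) (hxr (r + 1) (by omega))
    have hlr : l ≤ r := by
      by_contra h
      exact hxl (hxr l (by omega))
    have hxgt : ∀ j, l + 1 ≤ j → x j = 0 := by
      intro j hj
      induction j, hj using Nat.le_induction with
      | base => exact hxl1
      | succ j hj ih => rw [hxs j (by omega), ih, map_zero]
    obtain ⟨a, ha⟩ : ∃ a, x l a ≠ 0 := by
      by_contra h
      push Not at h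
      exact hxl (funext h)
    obtain ⟨ψ, hψ⟩ : ∃ ψ : (Fin (d l) → k) →ₗ[k] k, ψ (x l) = 1 :=
      ⟨(x l a)⁻¹ • LinearMap.proj a, by
        rw [LinearMap.smul_apply, LinearMap.proj_apply, smul_eq_mul, inv_mul_cancel₀ ha]⟩
    obtain ⟨Ψ, hΨ⟩ : ∃ Ψ : ∀ j, (Fin (d j) → k) →ₗ[k] k, ∀ j c, Ψ j c = ψ (tr φ j l c) :=
      ⟨fun j => ψ.comp (tr φ j l), fun j c => rfl⟩
    have hΨgt : ∀ j, l < j → ∀ c, Ψ j c = 0 := fun j hj c => by
      rw [hΨ, tr_of_lt φ hj, map_zero]
    have hΨs : ∀ j, j + 1 ≤ l → ∀ c, Ψ (j + 1) (φ j c) = Ψ j c := fun j hj c => by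
      rw [hΨ, hΨ, tr_step φ hj]
    have htrx : ∀ j, i ≤ j → j ≤ l → tr φ j l (x j) = x l := by
      intro j hj
      induction j, hj using Nat.le_induction with
      | base => intro _; rw [hxi, hx l]
      | succ j hj ih =>
          intro hjl
          rw [hxs j hj, ← tr_step φ hjl]
          exact ih (by omega)
    have hΨx : ∀ j, i ≤ j → j ≤ l → Ψ j (x j) = 1 := fun j h1 h2 => by
      rw [hΨ, htrx j h1 h2, hψ]
    obtain ⟨C', hC'⟩ : ∃ C' : ∀ j, Submodule k (Fin (d j) → k),
        ∀ j c, c ∈ C' j ↔ c ∈ C j ∧ Ψ j c = 0 :=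
      ⟨fun j => C j ⊓ LinearMap.ker (Ψ j), fun j c => by
        show c ∈ C j ⊓ LinearMap.ker (Ψ j) ↔ _
        rw [Submodule.mem_inf, LinearMap.mem_ker]⟩
    have hle : ∀ j, C' j ≤ C j := fun j c hc => ((hC' j c).mp hc).1
    have hst' : ∀ j, (C' j).map (φ j) ≤ C' (j + 1) := by
      intro j y hy
      obtain ⟨c, hc, rfl⟩ := Submodule.mem_map.mp hy
      rw [hC'] at hc ⊢
      refine ⟨hst j (Submodule.mem_map_of_mem hc.1), ?_⟩
      by_cases h : j + 1 ≤ l
      · rw [hΨs j h, hc.2]
      · exact hΨgt (j + 1) (by omega) _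
    have hbd' : ∀ j, r < j → C' j = ⊥ := fun j hj => by
      rw [eq_bot_iff, ← hbd j hj]; exact hle j
    have hlt : ∑ j ∈ Finset.range (r + 1), finrank k (C' j) <
        ∑ j ∈ Finset.range (r + 1), finrank k (C j) := by
      apply Finset.sum_lt_sum
      · intro j _; exact Submodule.finrank_mono (hle j)
      · refine ⟨l, Finset.mem_range.mpr (by omega),
          Submodule.finrank_lt_finrank_of_lt (lt_of_le_of_ne (hle l) ?_)⟩
        intro heq
        have h1 : x l ∈ C' l := by rw [heq]; exact hxC l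
        have h2 := ((hC' l _).mp h1).2
        rw [hΨx l hil le_rfl] at h2
        exact one_ne_zero h2
    obtain ⟨N, lo, hi, w, hrg, hw0, hwC, hmv, hli, hsp⟩ :=
      ih _ (by rw [← hn]; exact hlt) C' hst' hbd' rfl
    have hΨw : ∀ t j, Ψ j (w t j) = 0 := fun t j => ((hC' j _).mp (hwC t j)).2
    have hx0 : ∀ j, ¬ (i ≤ j ∧ j ≤ l) → x j = 0 := by
      intro j hj
      by_cases h : j < i
      · exact hxlt j h
      · exact hxgt j (by omega)
    refine ⟨N + 1, Fin.cons i lo, Fin.cons l hi,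
      (Fin.cons x w : Fin (N + 1) → ∀ j, Fin (d j) → k), ?_, ?_, ?_, ?_, ?_, ?_⟩
    · intro t
      refine Fin.cases ?_ (fun t => ?_) t
      · simp only [Fin.cons_zero]; exact hil
      · simp only [Fin.cons_succ]; exact hrg t
    · intro t
      refine Fin.cases ?_ (fun t => ?_) t
      · intro j; simp only [Fin.cons_zero]; exact hx0 j
      · intro j; simp only [Fin.cons_succ]; exact hw0 t j
    · intro t
      refine Fin.cases ?_ (fun t => ?_) t
      · intro j; simp only [Fin.cons_zero]; exact hxC j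
      · intro j; simp only [Fin.cons_succ]; exact hle j (hwC t j)
    · intro t
      refine Fin.cases ?_ (fun t => ?_) t
      · intro j; simp only [Fin.cons_zero]; intro h; exact (hxs j h).symm
      · intro j; simp only [Fin.cons_succ]; exact hmv t j
    · intro j c hsum
      rw [Fin.sum_univ_succ] at hsum
      simp only [Fin.cons_zero, Fin.cons_succ] at hsum
      have hc0 : i ≤ j → j ≤ l → c 0 = 0 := by
        intro h1 h2
        have h := congrArg (Ψ j) hsum
        rw [map_add, map_smul, map_sum, map_zero, hΨx j h1 h2] at h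
        have hz : ∑ t : Fin N, Ψ j (c t.succ • w t j) = 0 := by
          apply Finset.sum_eq_zero
          intro t _
          rw [map_smul, hΨw, smul_zero]
        rw [hz, add_zero, smul_eq_mul, mul_one] at h
        exact h
      have h0 : c 0 • x j = 0 := by
        by_cases h : i ≤ j ∧ j ≤ l
        · rw [hc0 h.1 h.2, zero_smul]
        · rw [hx0 j h, smul_zero]
      rw [h0, zero_add] at hsum
      intro t
      refine Fin.cases ?_ (fun t => ?_) t
      · simp only [Fin.cons_zero]; exact hc0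
      · simp only [Fin.cons_succ]; exact hli j (fun t => c t.succ) hsum t
    · intro j u hu
      have hu' : u - Ψ j u • x j ∈ C' j := by
        rw [hC']
        refine ⟨Submodule.sub_mem _ hu (Submodule.smul_mem _ _ (hxC j)), ?_⟩
        rw [map_sub, map_smul, smul_eq_mul]
        by_cases h1 : j < i
        · have hu0 : u = 0 := by
            have h := hu
            rw [hmin j h1, Submodule.mem_bot] at h
            exact h
          rw [hu0, map_zero, zero_mul, sub_zero]
        · by_cases h2 : l < j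
          · rw [hΨgt j h2 u, zero_mul, sub_zero]
          · rw [hΨx j (by omega) (by omega), mul_one, sub_self]
      obtain ⟨c', hc'⟩ := hsp j _ hu'
      refine ⟨Fin.cons (Ψ j u) c', ?_⟩
      rw [Fin.sum_univ_succ]
      simp only [Fin.cons_zero, Fin.cons_succ]
      rw [hc', add_sub_cancel]

end

end Groth.Agent.Lib.Helper6.ChainB
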