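import Mathlib
import Groth.Prelude.Def_W4c1btstackcountsChain
import Groth.Agent.Lib.Helper6.ChainA
import Groth.Agent.Lib.Helper6.ChainB

set_option autoImplicit false

namespace Groth.Agent.Lib.Helper6.ChainC

open W4c1btstackcounts Module
open Groth.Agent.Lib.Helper6.ChainA Groth.Agent.Lib.Helper6.ChainB

noncomputable section

variable {k : Type*} [Field k] {d : ℕ → ℕ}

/-- the chain truncated at level `r` -/
def phiT (f : (i : ℕ) → Matrix (Fin (d (i + 1))) (Fin (d i)) k) (r : ℕ) (j : ℕ) :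
    (Fin (d j) → k) →ₗ[k] (Fin (d (j + 1)) → k) :=
  if j + 1 ≤ r then Matrix.toLin' (f j) else 0

/-- the full family on levels `1..r` -/
def Cfull (k : Type*) [Field k] (d : ℕ → ℕ) (r : ℕ) (j : ℕ) : Submodule k (Fin (d j) → k) :=
  if 1 ≤ j ∧ j ≤ r then ⊤ else ⊥

theorem stab (f : (i : ℕ) → Matrix (Fin (d (i + 1))) (Fin (d i)) k) (r : ℕ) (j : ℕ) :
    (Cfull k d r j).map (phiT f r j) ≤ Cfull k d r (j + 1) := by
  by_cases h : j + 1 ≤ r
  · have h1 : Cfull k d r (j + 1) = ⊤ := by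
      rw [Cfull]; exact if_pos ⟨by omega, h⟩
    rw [h1]; exact le_top
  · have h1 : phiT f r j = 0 := by
      rw [phiT]; exact if_neg h
    rw [h1, Submodule.map_zero]; exact bot_le

theorem bdd (r : ℕ) (j : ℕ) (h : r < j) : Cfull k d r j = ⊥ := by
  rw [Cfull]; exact if_neg (by omega)

/-- a string decomposition of a chain on the levels `1..r` -/
structure Sys (f : (i : ℕ) → Matrix (Fin (d (i + 1))) (Fin (d i)) k) (r : ℕ) where
  N : ℕ
  lo : Fin N → ℕ
  hi : Fin N → ℕ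
  w : Fin N → ∀ j, Fin (d j) → k
  lo_pos : ∀ t, 1 ≤ lo t
  rg : ∀ t, lo t ≤ hi t
  hi_le : ∀ t, hi t ≤ r
  w0 : ∀ t j, ¬ (lo t ≤ j ∧ j ≤ hi t) → w t j = 0
  mv : ∀ t j, lo t ≤ j → j + 1 ≤ r → Matrix.toLin' (f j) (w t j) = w t (j + 1)
  li : ∀ j (c : Fin N → k), ∑ t, c t • w t j = 0 → ∀ t, lo t ≤ j → j ≤ hi t → c t = 0
  sp : ∀ j, 1 ≤ j → j ≤ r → ∀ v : Fin (d j) → k, ∃ c : Fin N → k, ∑ t, c t • w t j = v

theorem exists_sys (f : (i : ℕ) → Matrix (Fin (d (i + 1))) (Fin (d i)) k) (r : ℕ) :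
    Nonempty (Sys f r) := by
  obtain ⟨N, lo, hi, w, hrg, hw0, hwC, hmv, hli, hsp⟩ :=
    exists_strings (phiT f r) r _ (Cfull k d r) (stab f r) (bdd r) rfl
  have nz : ∀ t j, lo t ≤ j → j ≤ hi t → w t j ≠ 0 := by
    intro t j h1 h2 h0
    have hs : ∑ s, (Pi.single t (1 : k) : Fin N → k) s • w s j = 0 := by
      rw [Finset.sum_eq_single t]
      · rw [h0, smul_zero]
      · intro b _ hb
        rw [Pi.single_eq_of_ne hb, zero_smul]
      · intro h; exact absurd (Finset.mem_univ t) h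
    have h3 := hli j _ hs t h1 h2
    rw [Pi.single_eq_same] at h3
    exact one_ne_zero h3
  have hmemC : ∀ t j, lo t ≤ j → j ≤ hi t → 1 ≤ j ∧ j ≤ r := by
    intro t j h1 h2
    by_contra hcon
    have h3 := hwC t j
    rw [Cfull, if_neg hcon, Submodule.mem_bot] at h3
    exact nz t j h1 h2 h3
  exact ⟨{ N := N, lo := lo, hi := hi, w := w
           lo_pos := fun t => (hmemC t (lo t) le_rfl (hrg t)).1
           rg := hrg
           hi_le := fun t => (hmemC t (hi t) (hrg t) le_rfl).2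
           w0 := hw0
           mv := fun t j h1 h2 => by
             have h3 := hmv t j h1
             rw [phiT, if_pos h2] at h3
             exact h3
           li := hli
           sp := fun j h1 h2 v => hsp j v (by
             rw [Cfull, if_pos ⟨h1, h2⟩]; exact Submodule.mem_top) }⟩

variable {f f' : (i : ℕ) → Matrix (Fin (d (i + 1))) (Fin (d i)) k} {r : ℕ}

theorem li_sub (S : Sys f r) (j : ℕ) (P : Fin S.N → Prop)
    (hP : ∀ t, P t → S.lo t ≤ j ∧ j ≤ S.hi t) :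
    LinearIndependent k (fun t : {t // P t} => S.w t.1 j) := by
  classical
  rw [Fintype.linearIndependent_iff]
  intro g hg a
  let c : Fin S.N → k := fun t => if h : P t then g ⟨t, h⟩ else 0
  have hc : ∀ a : {t // P t}, c a.1 = g a := fun a => by
    show (if h : P a.1 then g ⟨a.1, h⟩ else 0) = g a
    rw [dif_pos a.2]
  have hsum : ∑ t, c t • S.w t j = 0 := by
    have h1 : ∑ t ∈ Finset.univ.filter P, c t • S.w t j = ∑ t, c t • S.w t j := by
      apply Finset.sum_subset (Finset.filter_subset _ _)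
      intro t _ ht
      have hnp : ¬ P t := fun hp => ht (Finset.mem_filter.mpr ⟨Finset.mem_univ _, hp⟩)
      show (if h : P t then g ⟨t, h⟩ else 0) • S.w t j = 0
      rw [dif_neg hnp, zero_smul]
    have h2 : ∑ t ∈ Finset.univ.filter P, c t • S.w t j =
        ∑ a : {t // P t}, c a.1 • S.w a.1 j :=
      Finset.sum_subtype (Finset.univ.filter P) (fun x => by simp) (fun t => c t • S.w t j)
    rw [← h1, h2]
    rw [← hg]
    apply Finset.sum_congr rfl
    intro a _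
    rw [hc]
  have h3 := S.li j c hsum a.1 (hP a.1 a.2).1 (hP a.1 a.2).2
  rw [hc] at h3
  exact h3

theorem top_le_span (S : Sys f r) {j : ℕ} (h1 : 1 ≤ j) (hr : j ≤ r) :
    ⊤ ≤ Submodule.span k
      (Set.range (fun t : {t : Fin S.N // S.lo t ≤ j ∧ j ≤ S.hi t} => S.w t.1 j)) := by
  intro v _
  obtain ⟨c, rfl⟩ := S.sp j h1 hr v
  refine Submodule.sum_mem _ (fun t _ => ?_)
  by_cases h : S.lo t ≤ j ∧ j ≤ S.hi t
  · exact Submodule.smul_mem _ _ (Submodule.subset_span ⟨⟨t, h⟩, rfl⟩)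
  · rw [S.w0 t j h, smul_zero]; exact Submodule.zero_mem _

/-- the generating set of the image of level `i` in level `j` -/
def Sset (S : Sys f r) (i j : ℕ) : Set (Fin (d j) → k) :=
  {v | ∃ t, S.lo t ≤ i ∧ j ≤ S.hi t ∧ S.w t j = v}

theorem U_eq_span (S : Sys f r) {i : ℕ} (hi1 : 1 ≤ i) :
    ∀ j, i ≤ j → j ≤ r → U f i j = Submodule.span k (Sset S i j) := by
  intro j hij
  induction j, hij using Nat.le_induction with
  | base =>
      intro hir
      rw [U_self]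
      symm
      rw [eq_top_iff]
      intro v _
      obtain ⟨c, rfl⟩ := S.sp i hi1 hir v
      refine Submodule.sum_mem _ (fun t _ => ?_)
      by_cases h : S.lo t ≤ i ∧ i ≤ S.hi t
      · exact Submodule.smul_mem _ _ (Submodule.subset_span ⟨t, h.1, h.2, rfl⟩)
      · rw [S.w0 t i h, smul_zero]; exact Submodule.zero_mem _
  | succ j hij ih =>
      intro hjr
      rw [U_succ f hij, ih (by omega), Submodule.map_span]
      apply le_antisymm
      · rw [Submodule.span_le]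
        rintro _ ⟨_, ⟨t, h1, h2, rfl⟩, rfl⟩
        rw [S.mv t j (by omega) hjr]
        by_cases h : j + 1 ≤ S.hi t
        · exact Submodule.subset_span ⟨t, h1, h, rfl⟩
        · rw [S.w0 t (j + 1) (by omega)]; exact Submodule.zero_mem _
      · rw [Submodule.span_le]
        rintro _ ⟨t, h1, h2, rfl⟩
        apply Submodule.subset_span
        exact ⟨S.w t j, ⟨t, h1, by omega, rfl⟩, S.mv t j (by omega) hjr⟩

/-- number of strings through levels `i` and `j` -/
def Rc (S : Sys f r) (i j : ℕ) : ℕ :=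
  (Finset.univ.filter (fun t => S.lo t ≤ i ∧ j ≤ S.hi t)).card

/-- number of strings with given end points -/
def cnt (S : Sys f r) (p q : ℕ) : ℕ :=
  (Finset.univ.filter (fun t => S.lo t = p ∧ S.hi t = q)).card

theorem rank_eq_card (S : Sys f r) {i j : ℕ} (hi1 : 1 ≤ i) (hij : i ≤ j) (hjr : j ≤ r) :
    rankArray f i j = Rc S i j := by
  rw [rankArray_eq f hij, U_eq_span S hi1 j hij hjr]
  have hrange : Sset S i j =
      Set.range (fun t : {t : Fin S.N // S.lo t ≤ i ∧ j ≤ S.hi t} => S.w t.1 j) := by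
    ext v
    constructor
    · rintro ⟨t, h1, h2, rfl⟩; exact ⟨⟨t, h1, h2⟩, rfl⟩
    · rintro ⟨⟨t, h1, h2⟩, rfl⟩; exact ⟨t, h1, h2, rfl⟩
  have hli := li_sub S j (fun t => S.lo t ≤ i ∧ j ≤ S.hi t) (fun t h => ⟨h.1.trans hij, h.2⟩)
  rw [hrange, finrank_span_eq_card hli, Fintype.card_subtype]
  rfl

theorem cnt_identity (S : Sys f r) (p q : ℕ) (hp : 1 ≤ p) :
    cnt S p q + Rc S (p - 1) q + Rc S p (q + 1) = Rc S p q + Rc S (p - 1) (q + 1) := by
  unfold cnt Rc
  simp only [Finset.card_filter]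
  simp only [← Finset.sum_add_distrib]
  apply Finset.sum_congr rfl
  intro t _
  split_ifs <;> omega

theorem Rc_zero_left (S : Sys f r) (j : ℕ) : Rc S 0 j = 0 := by
  unfold Rc
  rw [Finset.card_eq_zero, Finset.filter_eq_empty_iff]
  intro t _ h
  have := S.lo_pos t
  omega

theorem Rc_gt (S : Sys f r) (i : ℕ) {j : ℕ} (h : r < j) : Rc S i j = 0 := by
  unfold Rc
  rw [Finset.card_eq_zero, Finset.filter_eq_empty_iff]
  intro t _ h'
  have := S.hi_le t
  omega

theorem cnt_zero (S : Sys f r) {p q : ℕ} (h : ¬ (1 ≤ p ∧ p ≤ q)) : cnt S p q = 0 := by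
  unfold cnt
  rw [Finset.card_eq_zero, Finset.filter_eq_empty_iff]
  intro t _ h'
  have := S.lo_pos t
  have := S.rg t
  omega

theorem Rc_eq (S : Sys f r) (S' : Sys f' r)
    (hR : ∀ i j : ℕ, 1 ≤ i → i ≤ j → j ≤ r → rankArray f i j = rankArray f' i j)
    (i j : ℕ) (hij : i ≤ j) : Rc S i j = Rc S' i j := by
  rcases Nat.eq_zero_or_pos i with rfl | hi1
  · rw [Rc_zero_left, Rc_zero_left]
  · by_cases hjr : j ≤ r
    · rw [← rank_eq_card S hi1 hij hjr, ← rank_eq_card S' hi1 hij hjr]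
      exact hR i j hi1 hij hjr
    · rw [Rc_gt S i (by omega), Rc_gt S' i (by omega)]

theorem cnt_eq (S : Sys f r) (S' : Sys f' r)
    (hR : ∀ i j : ℕ, 1 ≤ i → i ≤ j → j ≤ r → rankArray f i j = rankArray f' i j)
    (p q : ℕ) : cnt S p q = cnt S' p q := by
  by_cases h : 1 ≤ p ∧ p ≤ q
  · have e1 := cnt_identity S p q h.1
    have e2 := cnt_identity S' p q h.1
    have a1 := Rc_eq S S' hR (p - 1) q (by omega)
    have a2 := Rc_eq S S' hR p (q + 1) (by omega)
    have a3 := Rc_eq S S' hR p q h.2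
    have a4 := Rc_eq S S' hR (p - 1) (q + 1) (by omega)
    omega
  · rw [cnt_zero S h, cnt_zero S' h]

theorem exists_equiv_of_card_fiber {α β γ : Type*} [Fintype α] [Fintype β] [DecidableEq γ]
    (a : α → γ) (b : β → γ)
    (h : ∀ c, Fintype.card {x // a x = c} = Fintype.card {y // b y = c}) :
    ∃ σ : α ≃ β, ∀ x, b (σ x) = a x := by
  have e : ∀ c, {x // a x = c} ≃ {y // b y = c} := fun c => Fintype.equivOfCardEq (h c)
  refine ⟨(Equiv.sigmaFiberEquiv a).symm.trans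
    ((Equiv.sigmaCongrRight e).trans (Equiv.sigmaFiberEquiv b)), fun x => ?_⟩
  exact (e (a x) ⟨x, rfl⟩).2

theorem card_fiber (S : Sys f r) (p q : ℕ) :
    Fintype.card {x : Fin S.N // (S.lo x, S.hi x) = (p, q)} = cnt S p q := by
  rw [Fintype.card_subtype]
  unfold cnt
  congr 1
  ext t
  simp only [Finset.mem_filter, Finset.mem_univ, true_and, Prod.mk.injEq]

theorem exists_sigma (S : Sys f r) (S' : Sys f' r) (hcnt : ∀ p q, cnt S p q = cnt S' p q) :
    ∃ σ : Fin S.N ≃ Fin S'.N, ∀ t, S'.lo (σ t) = S.lo t ∧ S'.hi (σ t) = S.hi t := by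
  obtain ⟨σ, hσ⟩ := exists_equiv_of_card_fiber (fun t => (S.lo t, S.hi t))
    (fun t => (S'.lo t, S'.hi t)) (by
      rintro ⟨p, q⟩
      rw [card_fiber S p q, card_fiber S' p q]
      exact hcnt p q)
  exact ⟨σ, fun t => Prod.mk.inj (hσ t)⟩

/-- the basis of level `j` given by the active strings -/
def bas (S : Sys f r) {j : ℕ} (h1 : 1 ≤ j) (hr : j ≤ r) :
    Basis {t : Fin S.N // S.lo t ≤ j ∧ j ≤ S.hi t} k (Fin (d j) → k) :=
  Basis.mk (li_sub S j _ (fun _ h => h)) (top_le_span S h1 hr)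

theorem bas_apply (S : Sys f r) {j : ℕ} (h1 : 1 ≤ j) (hr : j ≤ r) (t : Fin S.N)
    (h : S.lo t ≤ j ∧ j ≤ S.hi t) : bas S h1 hr ⟨t, h⟩ = S.w t j := by
  unfold bas
  rw [Basis.mk_apply]

/-- the invertible matrix of a linear automorphism -/
def mkGL {n : ℕ} (E : (Fin n → k) ≃ₗ[k] (Fin n → k)) : Matrix.GeneralLinearGroup (Fin n) k where
  val := LinearMap.toMatrix' (E : (Fin n → k) →ₗ[k] (Fin n → k))
  inv := LinearMap.toMatrix' (E.symm : (Fin n → k) →ₗ[k] (Fin n → k))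
  val_inv := by
    rw [← LinearMap.toMatrix'_comp]
    have h : (E : (Fin n → k) →ₗ[k] (Fin n → k)).comp
        (E.symm : (Fin n → k) →ₗ[k] (Fin n → k)) = LinearMap.id :=
      LinearMap.ext fun x => E.apply_symm_apply x
    rw [h, LinearMap.toMatrix'_id]
  inv_val := by
    rw [← LinearMap.toMatrix'_comp]
    have h : (E.symm : (Fin n → k) →ₗ[k] (Fin n → k)).comp
        (E : (Fin n → k) →ₗ[k] (Fin n → k)) = LinearMap.id :=
      LinearMap.ext fun x => E.symm_apply_apply x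
    rw [h, LinearMap.toMatrix'_id]

theorem mkGL_toLin {n : ℕ} (E : (Fin n → k) ≃ₗ[k] (Fin n → k)) :
    Matrix.toLin' ((mkGL E : Matrix.GeneralLinearGroup (Fin n) k) : Matrix (Fin n) (Fin n) k) =
      (E : (Fin n → k) →ₗ[k] (Fin n → k)) :=
  Matrix.toLin'_toMatrix' _

theorem part3 (f f' : (i : ℕ) → Matrix (Fin (d (i + 1))) (Fin (d i)) k) (r : ℕ)
    (hR : ∀ i j : ℕ, 1 ≤ i → i ≤ j → j ≤ r → rankArray f i j = rankArray f' i j) :
    ∃ g : (j : ℕ) → Matrix.GeneralLinearGroup (Fin (d j)) k,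
      ∀ i : ℕ, 1 ≤ i → i + 1 ≤ r → conj g f i = f' i := by
  classical
  obtain ⟨S⟩ := exists_sys f r
  obtain ⟨S'⟩ := exists_sys f' r
  obtain ⟨σ, hσ⟩ := exists_sigma S S' (cnt_eq S S' hR)
  have hlo : ∀ t, S'.lo (σ t) = S.lo t := fun t => (hσ t).1
  have hhi : ∀ t, S'.hi (σ t) = S.hi t := fun t => (hσ t).2
  have hE : ∀ j, 1 ≤ j → j ≤ r → ∃ E : (Fin (d j) → k) ≃ₗ[k] (Fin (d j) → k),
      ∀ t, S.lo t ≤ j → j ≤ S.hi t → E (S.w t j) = S'.w (σ t) j := by
    intro j h1 hr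
    let ε : {t : Fin S.N // S.lo t ≤ j ∧ j ≤ S.hi t} ≃
        {t : Fin S'.N // S'.lo t ≤ j ∧ j ≤ S'.hi t} :=
      σ.subtypeEquiv (fun t => by rw [hlo t, hhi t])
    refine ⟨(bas S h1 hr).equiv (bas S' h1 hr) ε, fun t h1' h2' => ?_⟩
    have h := Basis.equiv_apply (bas S h1 hr) ⟨t, h1', h2'⟩ (bas S' h1 hr) ε
    rw [bas_apply] at h
    rw [h]
    exact bas_apply S' h1 hr (σ t) _
  choose E hEw using hE
  obtain ⟨g, hg⟩ : ∃ g : (j : ℕ) → Matrix.GeneralLinearGroup (Fin (d j)) k,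
      ∀ j (h1 : 1 ≤ j) (hr : j ≤ r), g j = mkGL (E j h1 hr) :=
    ⟨fun j => if h : 1 ≤ j ∧ j ≤ r then mkGL (E j h.1 h.2) else 1,
      fun j h1 hr => dif_pos ⟨h1, hr⟩⟩
  refine ⟨g, fun j hj1 hjr => ?_⟩
  have hjr' : j ≤ r := by omega
  have key : f' j * (g j : Matrix (Fin (d j)) (Fin (d j)) k) =
      (g (j + 1) : Matrix (Fin (d (j + 1))) (Fin (d (j + 1))) k) * f j := by
    apply Matrix.toLin'.injective
    rw [Matrix.toLin'_mul, Matrix.toLin'_mul, hg j hj1 hjr', hg (j + 1) (by omega) hjr,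
      mkGL_toLin, mkGL_toLin]
    apply (bas S hj1 hjr').ext
    rintro ⟨t, ht1, ht2⟩
    rw [bas_apply]
    simp only [LinearMap.comp_apply, LinearEquiv.coe_coe]
    rw [hEw j hj1 hjr' t ht1 ht2, S'.mv (σ t) j (by rw [hlo]; exact ht1) hjr, S.mv t j ht1 hjr]
    by_cases h : j + 1 ≤ S.hi t
    · rw [hEw (j + 1) (by omega) hjr t (by omega) h]
    · rw [S.w0 t (j + 1) (by omega), map_zero,
        S'.w0 (σ t) (j + 1) (by rw [hlo, hhi]; omega)]
  simp only [conj]
  rw [← key, Matrix.mul_assoc, Units.mul_inv, Matrix.mul_one]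

end

end Groth.Agent.Lib.Helper6.ChainC
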