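import Mathlib
import Groth.Prelude.Def_W4c1btstackcountsChain
import Groth.Agent.Lib.Helper6.ChainA

set_option autoImplicit false

namespace Groth.Agent.Lib.Helper6.ChainD

open W4c1btstackcounts Module
open Groth.Agent.Lib.Helper6.ChainA

noncomputable section

variable {k : Type*} [Field k] {d : ℕ → ℕ}

/-- the array extended by zero in the row `i = 0` -/
def ah (a : ℕ → ℕ → ℕ) (i j : ℕ) : ℕ := if i = 0 then 0 else a i j

theorem ah_zero (a : ℕ → ℕ → ℕ) (j : ℕ) : ah a 0 j = 0 := by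
  unfold ah; exact if_pos rfl

theorem ah_pos (a : ℕ → ℕ → ℕ) {i : ℕ} (h : 1 ≤ i) (j : ℕ) : ah a i j = a i j := by
  unfold ah; exact if_neg (by omega)

open Classical in
/-- the normal form chain attached to an array -/
def fN (k : Type*) [Field k] (d : ℕ → ℕ) (a : ℕ → ℕ → ℕ) (j : ℕ) :
    Matrix (Fin (d (j + 1))) (Fin (d j)) k :=
  fun p' p =>
    if ∃ b, b < j ∧ ah a b j ≤ (p : ℕ) ∧ (p : ℕ) < ah a (b + 1) j ∧
        (p' : ℕ) + ah a b j = (p : ℕ) + ah a b (j + 1) ∧ (p' : ℕ) < ah a (b + 1) (j + 1)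
    then 1 else 0

theorem toLin_single_apply {m n : ℕ} (M : Matrix (Fin m) (Fin n) k) (p : Fin n) (q : Fin m) :
    Matrix.toLin' M (Pi.single p 1) q = M q p := by
  rw [Matrix.toLin'_apply, Matrix.mulVec_single_one, Matrix.col_apply]

structure Adm (d : ℕ → ℕ) (r : ℕ) (a : ℕ → ℕ → ℕ) : Prop where
  step : ∀ j b, 1 ≤ j → j ≤ r → b < j → ah a b j ≤ ah a (b + 1) j
  diag : ∀ j, 1 ≤ j → j ≤ r → ah a j j = d j
  m3 : ∀ j b, 1 ≤ j → j + 1 ≤ r → b < j →
    ah a (b + 1) (j + 1) + ah a b j ≤ ah a (b + 1) j + ah a b (j + 1)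

theorem adm_of {r : ℕ} {a : ℕ → ℕ → ℕ} (hA : IsRankArray d r a) : Adm d r a := by
  obtain ⟨A1, A2, A3, A4⟩ := hA
  refine ⟨?_, ?_, ?_⟩
  · intro j b h1 hr hb
    rcases Nat.eq_zero_or_pos b with rfl | hb0
    · rw [ah_zero]; exact Nat.zero_le _
    · rw [ah_pos a hb0, ah_pos a (by omega : 1 ≤ b + 1)]
      exact A2 b j hb0 hb hr
  · intro j h1 hr
    rw [ah_pos a h1]; exact A1 j h1 hr
  · intro j b h1 hr hb
    rcases Nat.eq_zero_or_pos b with rfl | hb0
    · rw [ah_zero, ah_zero, ah_pos a (by omega : 1 ≤ 0 + 1), ah_pos a (by omega : 1 ≤ 0 + 1)]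
      have := A3 1 j le_rfl h1 (by omega)
      simpa using this
    · rw [ah_pos a hb0, ah_pos a hb0, ah_pos a (by omega : 1 ≤ b + 1),
        ah_pos a (by omega : 1 ≤ b + 1)]
      have := A4 (b + 1) j (by omega) (by omega) (by omega)
      rw [Nat.add_sub_cancel] at this
      exact this

theorem Adm.mono {r : ℕ} {a : ℕ → ℕ → ℕ} (H : Adm d r a) {j : ℕ} (h1 : 1 ≤ j) (hr : j ≤ r)
    {b₁ b₂ : ℕ} (h : b₁ ≤ b₂) (h2 : b₂ ≤ j) : ah a b₁ j ≤ ah a b₂ j := by
  induction b₂, h using Nat.le_induction with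
  | base => exact le_rfl
  | succ b hb ih => exact (ih (by omega)).trans (H.step j b h1 hr (by omega))

theorem find_blk (g : ℕ → ℕ) (h0 : g 0 = 0) :
    ∀ (i p : ℕ), p < g i → ∃ b, b < i ∧ g b ≤ p ∧ p < g (b + 1) := by
  intro i
  induction i with
  | zero => intro p hp; rw [h0] at hp; exact absurd hp (Nat.not_lt_zero p)
  | succ i ih =>
      intro p hp
      by_cases h : p < g i
      · obtain ⟨b, hb, h1, h2⟩ := ih p h
        exact ⟨b, by omega, h1, h2⟩
      · exact ⟨i, by omega, by omega, hp⟩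

theorem blk_unique (g : ℕ → ℕ) (j : ℕ) (hmono : ∀ b₁ b₂, b₁ ≤ b₂ → b₂ ≤ j → g b₁ ≤ g b₂)
    {b₁ b₂ p : ℕ} (hb₁ : b₁ < j) (hb₂ : b₂ < j) (h1 : g b₁ ≤ p) (h1' : p < g (b₁ + 1))
    (h2 : g b₂ ≤ p) (h2' : p < g (b₂ + 1)) : b₁ = b₂ := by
  by_contra hne
  rcases Nat.lt_or_gt_of_ne hne with h | h
  · have := hmono (b₁ + 1) b₂ (by omega) (by omega); omega
  · have := hmono (b₂ + 1) b₁ (by omega) (by omega); omega

theorem col_surv {r : ℕ} {a : ℕ → ℕ → ℕ} (H : Adm d r a) {j : ℕ} (h1 : 1 ≤ j)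
    (hr : j + 1 ≤ r) {b : ℕ} (hb : b < j) (p : Fin (d j)) (p' : Fin (d (j + 1)))
    (g1 : ah a b j ≤ (p : ℕ)) (g2 : (p : ℕ) < ah a (b + 1) j)
    (g3 : (p' : ℕ) + ah a b j = (p : ℕ) + ah a b (j + 1))
    (g4 : (p' : ℕ) < ah a (b + 1) (j + 1)) :
    Matrix.toLin' (fN k d a j) (Pi.single p 1) = Pi.single p' 1 := by
  classical
  funext q
  rw [toLin_single_apply, Pi.single_apply]
  unfold fN
  by_cases hq : q = p'
  · rw [if_pos hq]
    subst hq
    exact if_pos ⟨b, hb, g1, g2, g3, g4⟩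
  · rw [if_neg hq]
    refine if_neg ?_
    rintro ⟨b', hb', e1, e2, e3, e4⟩
    have hbb : b' = b := blk_unique (fun b => ah a b j) j
      (fun b₁ b₂ h h' => H.mono h1 (by omega) h h') hb' hb e1 e2 g1 g2
    subst hbb
    apply hq
    apply Fin.ext
    omega

theorem col_dead {r : ℕ} {a : ℕ → ℕ → ℕ} (H : Adm d r a) {j : ℕ} (h1 : 1 ≤ j)
    (hr : j + 1 ≤ r) {b : ℕ} (hb : b < j) (p : Fin (d j))
    (g1 : ah a b j ≤ (p : ℕ)) (g2 : (p : ℕ) < ah a (b + 1) j)
    (g5 : ¬ ((p : ℕ) + ah a b (j + 1) < ah a (b + 1) (j + 1) + ah a b j)) :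
    Matrix.toLin' (fN k d a j) (Pi.single p 1) = 0 := by
  classical
  funext q
  rw [toLin_single_apply]
  show fN k d a j q p = 0
  unfold fN
  refine if_neg ?_
  rintro ⟨b', hb', e1, e2, e3, e4⟩
  have hbb : b' = b := blk_unique (fun b => ah a b j) j
    (fun b₁ b₂ h h' => H.mono h1 (by omega) h h') hb' hb e1 e2 g1 g2
  subst hbb
  omega

/-- the span of the first `m` coordinate vectors -/
def Wsp (k : Type*) [Field k] (n m : ℕ) : Submodule k (Fin n → k) :=
  Submodule.span k {v | ∃ p : Fin n, (p : ℕ) < m ∧ Pi.single p 1 = v}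

theorem Wsp_top (n : ℕ) : Wsp k n n = ⊤ := by
  rw [eq_top_iff, ← (Pi.basisFun k (Fin n)).span_eq]
  unfold Wsp
  apply Submodule.span_mono
  rintro _ ⟨p, rfl⟩
  exact ⟨p, p.2, (Pi.basisFun_apply k (Fin n) p).symm⟩

theorem finrank_Wsp {n m : ℕ} (h : m ≤ n) : finrank k (Wsp k n m) = m := by
  have hset : {v : Fin n → k | ∃ p : Fin n, (p : ℕ) < m ∧ Pi.single p 1 = v} =
      Set.range (fun q : Fin m => (Pi.single (Fin.castLE h q) 1 : Fin n → k)) := by
    ext v
    constructor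
    · rintro ⟨p, hp, rfl⟩
      exact ⟨⟨p, hp⟩, rfl⟩
    · rintro ⟨q, rfl⟩
      exact ⟨Fin.castLE h q, q.2, rfl⟩
  have hli : LinearIndependent k (fun q : Fin m => (Pi.single (Fin.castLE h q) 1 : Fin n → k)) := by
    have h0 := (Pi.basisFun k (Fin n)).linearIndependent.comp (Fin.castLE h)
      (Fin.castLE_injective h)
    have e : (⇑(Pi.basisFun k (Fin n)) ∘ Fin.castLE h) =
        fun q : Fin m => (Pi.single (Fin.castLE h q) 1 : Fin n → k) := by
      funext q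
      rw [Function.comp_apply, Pi.basisFun_apply]
    rw [e] at h0
    exact h0
  unfold Wsp
  rw [hset, finrank_span_eq_card hli, Fintype.card_fin]

theorem U_fN {r : ℕ} {a : ℕ → ℕ → ℕ} (H : Adm d r a) {i : ℕ} (hi1 : 1 ≤ i) :
    ∀ j, i ≤ j → j ≤ r → U (fN k d a) i j = Wsp k (d j) (ah a i j) := by
  intro j hij
  induction j, hij using Nat.le_induction with
  | base =>
      intro hir
      rw [U_self, H.diag i hi1 hir, Wsp_top]
  | succ j hij ih =>
      intro hjr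
      have hj1 : 1 ≤ j := by omega
      rw [U_succ _ hij, ih (by omega)]
      unfold Wsp
      rw [Submodule.map_span]
      apply le_antisymm
      · rw [Submodule.span_le]
        rintro _ ⟨_, ⟨p, hp, rfl⟩, rfl⟩
        obtain ⟨b, hb, g1, g2⟩ : ∃ b, b < i ∧ ah a b j ≤ (p : ℕ) ∧ (p : ℕ) < ah a (b + 1) j :=
          find_blk (fun b => ah a b j) (ah_zero a j) i p hp
        have hbj : b < j := by omega
        by_cases hs : (p : ℕ) + ah a b (j + 1) < ah a (b + 1) (j + 1) + ah a b j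
        · have hm1 := H.mono (by omega : 1 ≤ j + 1) hjr (by omega : b + 1 ≤ j + 1) le_rfl
          have hdg := H.diag (j + 1) (by omega) hjr
          have hm2 := H.mono (by omega : 1 ≤ j + 1) hjr (by omega : b + 1 ≤ i)
            (by omega : i ≤ j + 1)
          obtain ⟨p', hp'⟩ : ∃ p' : Fin (d (j + 1)),
              (p' : ℕ) = (p : ℕ) + ah a b (j + 1) - ah a b j :=
            ⟨⟨(p : ℕ) + ah a b (j + 1) - ah a b j, by omega⟩, rfl⟩
          rw [col_surv H hj1 hjr hbj p p' g1 g2 (by omega) (by omega)]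
          exact Submodule.subset_span ⟨p', by omega, rfl⟩
        · rw [col_dead H hj1 hjr hbj p g1 g2 hs]
          exact Submodule.zero_mem _
      · rw [Submodule.span_le]
        rintro _ ⟨p', hp', rfl⟩
        obtain ⟨b, hb, g1, g2⟩ : ∃ b, b < i ∧ ah a b (j + 1) ≤ (p' : ℕ) ∧
            (p' : ℕ) < ah a (b + 1) (j + 1) :=
          find_blk (fun b => ah a b (j + 1)) (ah_zero a (j + 1)) i p' hp'
        have hbj : b < j := by omega
        have hM := H.m3 j b hj1 hjr hbj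
        have hm1 := H.mono hj1 (by omega : j ≤ r) (by omega : b + 1 ≤ j) le_rfl
        have hdg := H.diag j hj1 (by omega)
        have hm2 := H.mono hj1 (by omega : j ≤ r) (by omega : b + 1 ≤ i) hij
        obtain ⟨p, hp⟩ : ∃ p : Fin (d j), (p : ℕ) = (p' : ℕ) + ah a b j - ah a b (j + 1) :=
          ⟨⟨(p' : ℕ) + ah a b j - ah a b (j + 1), by omega⟩, rfl⟩
        apply Submodule.subset_span
        exact ⟨Pi.single p 1, ⟨p, by omega, rfl⟩,
          col_surv H hj1 hjr hbj p p' (by omega) (by omega) (by omega) g2⟩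

theorem part4 (a : ℕ → ℕ → ℕ) (r : ℕ) (hA : IsRankArray d r a) :
    ∃ f : (i : ℕ) → Matrix (Fin (d (i + 1))) (Fin (d i)) k,
      ∀ i j : ℕ, 1 ≤ i → i ≤ j → j ≤ r → rankArray f i j = a i j := by
  have H := adm_of hA
  refine ⟨fN k d a, fun i j hi1 hij hjr => ?_⟩
  have hle : ah a i j ≤ d j := by
    have h1 := H.mono (by omega : 1 ≤ j) hjr hij le_rfl
    have h2 := H.diag j (by omega) hjr
    omega
  rw [rankArray_eq _ hij, U_fN H hi1 j hij hjr, finrank_Wsp hle, ah_pos a hi1]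

end

end Groth.Agent.Lib.Helper6.ChainD
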