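import Groth.Agent.Lib.Helper6.LocConstr
import Groth.Agent.Lib.Helper16.QuasiCompactMor

/-!
# Helper library (helper6): Chevalley's theorem for algebraic spaces
-/

set_option autoImplicit false
universe u
open CategoryTheory CategoryTheory.Limits AlgebraicGeometry Topology TopologicalSpace
open AlgSp

namespace Groth.Agent.Lib.Helper6.ChevSp

open Groth.Agent.Lib.Helper16

theorem chevalley_affine {S : Scheme.{u}} {X Y : AlgSp.Space S} (f : X ⟶ Y)
    (hq : AlgSp.IsQuasiCompactMor f.hom) (hfp : AlgSp.LocP @LocallyOfFinitePresentation f.hom)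
    (E : Set (AlgSp.Points X.obj))
    (hE : (∀ (U : Over S) (φ : (AlgSp.yon S).obj U ⟶ X.obj), AlgSp.RepWith @Etale φ →
        Topology.IsLocallyConstructible (AlgSp.Points.ofPt φ ⁻¹' E)))
    (V : Over S) [IsAffine V.left] (φ : (AlgSp.yon S).obj V ⟶ Y.obj)
    (hφ : AlgSp.RepWith @Etale φ) :
    Topology.IsLocallyConstructible
      (AlgSp.Points.ofPt φ ⁻¹' (AlgSp.Points.map f.hom '' E)) := by
  have sq0 : IsPullback (pullback.fst f.hom φ) (pullback.snd f.hom φ) f.hom φ :=
    IsPullback.of_hasPullback _ _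
  obtain ⟨fst, hfst⟩ : ∃ g, g = pullback.fst f.hom φ := ⟨_, rfl⟩
  obtain ⟨snd, hsnd⟩ : ∃ g, g = pullback.snd f.hom φ := ⟨_, rfl⟩
  have sq : IsPullback fst snd f.hom φ := by rw [hfst, hsnd]; exact sq0
  have hZ' : IsQuasiCompactSp (pullback f.hom φ) :=
    hq (IsAlgSpace.yon_obj V) (isQuasiCompactSp_yon_of_compactSpace V) φ fst snd sq
  obtain ⟨U', p', hp'e, hp's, hU'⟩ := hZ'
  haveI : CompactSpace ↥U'.left := hU'
  have hfste : RepWith @Etale fst := (RepWith @Etale).of_isPullback sq.flip hφ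
  have hae : RepWith @Etale (p' ≫ fst) := (RepWith @Etale).comp_mem _ _ hp'e hfste
  obtain ⟨r, hr⟩ := (yon S).map_surjective (p' ≫ snd)
  have hcomm : (p' ≫ fst) ≫ f.hom = (yon S).map r ≫ φ := by
    rw [hr, Category.assoc, Category.assoc, sq.w]
  have hrfp : LocallyOfFinitePresentation r.left := hfp (p' ≫ fst) φ r hae hφ hcomm
  haveI : QuasiCompact r.left := inferInstance
  have h1 := hE U' (p' ≫ fst) hae
  have h2 := r.left.isLocallyConstructible_image h1
  convert h2 using 1
  ext v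
  constructor
  · rintro ⟨x, hxE, hxv⟩
    obtain ⟨z, hz1, hz2⟩ := exists_point_of_isPullback sq x (Points.ofScheme V v)
      (by rw [hxv, Points.ofPt_eq_map_ofScheme])
    obtain ⟨u', rfl⟩ := ofPt_surjective_of_surjective p' hp's z
    refine ⟨u', ?_, ?_⟩
    · show Points.ofPt (p' ≫ fst) u' ∈ E
      rw [← Points.map_ofPt, hz1]
      exact hxE
    · have h3 : Points.ofScheme V (r.left u') = Points.ofScheme V v := by
        have h4 := ofPt_yon_map_comp r (𝟙 ((yon S).obj V)) u'
        rw [Category.comp_id, hr] at h4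
        rw [← hz2]
        exact h4.symm
      exact ofScheme_injective V h3
  · rintro ⟨u', hu'E, rfl⟩
    refine ⟨Points.ofPt (p' ≫ fst) u', hu'E, ?_⟩
    rw [Points.map_ofPt, hcomm, ofPt_yon_map_comp]

theorem main9982 {S : Scheme.{u}} {X Y : AlgSp.Space S} (f : X ⟶ Y)
    (hq : AlgSp.IsQuasiCompactMor f.hom) (hfp : AlgSp.LocP @LocallyOfFinitePresentation f.hom)
    (E : Set (AlgSp.Points X.obj))
    (hE : (∀ (U : Over S) (φ : (AlgSp.yon S).obj U ⟶ X.obj), AlgSp.RepWith @Etale φ →
        Topology.IsLocallyConstructible (AlgSp.Points.ofPt φ ⁻¹' E))) :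
    (∀ (U : Over S) (φ : (AlgSp.yon S).obj U ⟶ Y.obj), AlgSp.RepWith @Etale φ →
        Topology.IsLocallyConstructible (AlgSp.Points.ofPt φ ⁻¹' (AlgSp.Points.map f.hom '' E))) := by
  intro V φ hφ
  have hcov : IsOpenCover (fun W : V.left.affineOpens => (W : V.left.Opens)) :=
    (Scheme.isBasis_affineOpens V.left).isOpenCover
  refine IsLocallyConstructible.of_isOpenCover hcov (fun W => ?_)
  haveI : IsAffine (overOpen V (W : V.left.Opens)).left := W.2
  have haff := chevalley_affine f hq hfp E hE (overOpen V (W : V.left.Opens))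
    ((yon S).map (overOpenι V (W : V.left.Opens)) ≫ φ) (repWith_etale_restrict φ hφ _)
  have h2 : (Subtype.val ⁻¹' (AlgSp.Points.ofPt φ ⁻¹' (AlgSp.Points.map f.hom '' E)) :
        Set ↥(((W : V.left.Opens) : V.left.Opens) : Set V.left)) =
      (AlgSp.Points.ofPt ((yon S).map (overOpenι V (W : V.left.Opens)) ≫ φ) ⁻¹'
        (AlgSp.Points.map f.hom '' E)) := by
    ext w
    show Points.ofPt φ w.1 ∈ (AlgSp.Points.map f.hom '' E) ↔
      Points.ofPt ((yon S).map (overOpenι V (W : V.left.Opens)) ≫ φ) w ∈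
        (AlgSp.Points.map f.hom '' E)
    rw [ofPt_restrict]
    rfl
  first
    | (rw [h2]; exact haff)
    | (have h1' := haff; rw [← h2] at h1'; exact h1')
    | exact h2 ▸ haff
    | exact h2.symm ▸ haff

end Groth.Agent.Lib.Helper6.ChevSp
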