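import Mathlib
import Groth.Agent.Lib.Helper6.LimSp
import Groth.Agent.Lib.Helper6.LimSp3
import Groth.Agent.Lib.Helper12.LimTop
import Groth.Agent.Lib.Helper16.Charts

/-!
# Helper library (helper6): the topology of a cofiltered limit of algebraic spaces with affine transition maps

* `LimChart.map_π_ofPt`: the image in a stage of a point of the limit chart;
* `exists_open_stage`: every open neighbourhood of a point of the limit contains the preimage of an open neighbourhood
  of its image in some stage;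
* `main10058`.
-/

set_option autoImplicit false
universe u
open CategoryTheory CategoryTheory.Limits AlgebraicGeometry
open AlgSp Groth.Agent.Lib.Helper16

namespace Groth.Agent.Lib.Helper6.LimSp

variable {S : Scheme.{u}}

/-- The image in a stage of a point of the limit chart. -/
theorem LimChart.map_π_ofPt {J : Type u} [SmallCategory J] {t : J} {ht : IsTerminal t} {D : J ⥤ Sp S}
    {c : Cone D} {U₀ : Over S} {g : (yon S).obj U₀ ⟶ D.obj t} (L : LimChart ht D c g) (j : J)
    (v : ↥L.cE.pt.left) :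
    Points.map (c.π.app j) (Points.ofPt L.fst v) =
      Points.ofPt (T := L.E.obj j) (L.α.app j) ((L.cE.π.app j).left v) := by
  have h1 : Points.map (c.π.app j) (Points.ofPt L.fst v) = Points.ofPt (L.fst ≫ c.π.app j) v :=
    Points.map_ofPt _ _ _
  have h2 : Points.ofPt (L.fst ≫ c.π.app j) v =
      Points.ofPt ((yon S).map (L.cE.π.app j) ≫ L.α.app j) v := by rw [L.hfst j]
  exact h1.trans (h2.trans (ofPt_yon_map_comp (T := L.cE.pt) (T' := L.E.obj j) (L.cE.π.app j) (L.α.app j) v))

/-- Every open neighbourhood of a point of the limit contains the preimage of an open neighbourhood of its image in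
some stage. -/
theorem exists_open_stage {J : Type u} [SmallCategory J] [IsCofiltered J] {t : J} (ht : IsTerminal t)
    (D : J ⥤ Sp S) (hD : ∀ j, IsAlgSpace (D.obj j)) (hDa : ∀ (i j : J) (φ : i ⟶ j), IsAffineMor (D.map φ))
    (c : Cone D) (hc : IsLimit c) {V : Set (Points c.pt)} (hV : IsOpen V) {x : Points c.pt} (hx : x ∈ V) :
    ∃ (j : J) (W : Set (Points (D.obj j))), IsOpen W ∧ Points.map (c.π.app j) x ∈ W ∧
      Points.map (c.π.app j) ⁻¹' W ⊆ V := by
  obtain ⟨U₀, g, hge, hgs⟩ := (hD t).atlas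
  obtain ⟨u₀, hu₀⟩ := ofPt_surjective_of_surjective g hgs (Points.map (c.π.app t) x)
  obtain ⟨L⟩ := nonempty_limChart ht D hD hDa c hc g
  obtain ⟨v, hv, -⟩ := exists_point_of_isPullback_yon L.sqlim x u₀ hu₀.symm
  have hV' : IsOpen (Points.ofPt L.fst ⁻¹' V) := hV.preimage (Points.continuous_ofPt L.fst)
  have haff : ∀ (i j : J) (f : i ⟶ j), IsAffineHom ((L.E ⋙ Over.forget S).map f) := fun i j f => L.aff f
  have hvV : v ∈ Points.ofPt L.fst ⁻¹' V := by
    rw [Set.mem_preimage, hv]; exact hx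
  obtain ⟨j, O, hvO, hsub⟩ := Groth.Agent.Lib.Helper12.LimTop.exists_preimage_subset_of_isOpen
    (L.E ⋙ Over.forget S) ((Over.forget S).mapCone L.cE) L.hc₀ hV' hvV
  obtain ⟨αj, hαj⟩ : ∃ αj : (yon S).obj (L.E.obj j) ⟶ D.obj j, αj = L.α.app j := ⟨_, rfl⟩
  have hαe : RepWith @Etale αj := by
    rw [hαj]
    exact MorphismProperty.of_isPullback (P := RepWith (S := S) @Etale) (L.sq j).flip hge
  obtain ⟨Os, hOs⟩ : ∃ Os : Set ↥(L.E.obj j).left,
      Os = (SetLike.coe O : Set ↥((L.E ⋙ Over.forget S).obj j)) := ⟨_, rfl⟩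
  have hOo : IsOpen Os := by rw [hOs]; exact O.isOpen
  have hsub' : ∀ v' : ↥L.cE.pt.left, (L.cE.π.app j).left v' ∈ Os → Points.ofPt L.fst v' ∈ V := by
    intro v' hv'
    rw [hOs] at hv'
    exact hsub hv'
  have hvO' : (L.cE.π.app j).left v ∈ Os := by rw [hOs]; exact hvO
  have hmap : ∀ v' : ↥L.cE.pt.left, Points.map (c.π.app j) (Points.ofPt L.fst v') =
      Points.ofPt αj ((L.cE.π.app j).left v') := by
    intro v'
    rw [hαj]
    exact L.map_π_ofPt j v'
  have sqj : IsPullback L.fst ((yon S).map (L.cE.π.app j)) (c.π.app j) αj := by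
    rw [hαj]; exact L.sqstage j
  refine ⟨j, Points.ofPt αj '' Os, isOpenMap_ofPt_of_etale αj hαe _ hOo, ?_, ?_⟩
  · refine ⟨(L.cE.π.app j).left v, hvO', ?_⟩
    rw [← hv]
    exact (hmap v).symm
  · rintro x' ⟨o, hoO, ho⟩
    obtain ⟨v', hv'1, hv'2⟩ := exists_point_of_isPullback_yon sqj x' o ho.symm
    have h3 : Points.ofPt L.fst v' ∈ V := hsub' v' (by rw [hv'2]; exact hoO)
    rw [hv'1] at h3
    exact h3

theorem main10058 (S : Scheme.{u}) {I : Type u} [SmallCategory I] [IsCofiltered I]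
    (D : I ⥤ AlgSp.Sp S) (hD : ∀ i, AlgSp.IsAlgSpace (D.obj i))
    (hDa : ∀ (i j : I) (φ : i ⟶ j), AlgSp.IsAffineMor (D.map φ))
    (c : Cone D) (hc : IsLimit c)
    (hdec : ∀ i, AlgSp.IsDecent (D.obj i)) :
    AlgSp.Points.topologicalSpace c.pt =
      ⨅ i, TopologicalSpace.induced (AlgSp.Points.map (c.π.app i)) (AlgSp.Points.topologicalSpace (D.obj i)) := by
  apply le_antisymm
  · exact le_iInf fun i => continuous_iff_le_induced.1 (Points.continuous_map (c.π.app i))
  · intro V hV
    refine (@isOpen_iff_forall_mem_open (Points c.pt)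
      (⨅ i, TopologicalSpace.induced (AlgSp.Points.map (c.π.app i)) (AlgSp.Points.topologicalSpace (D.obj i)))
      V).2 fun x hx => ?_
    obtain ⟨i₀⟩ := IsCofiltered.nonempty (C := I)
    obtain ⟨hc'⟩ := isLimit_whisker_over D c hc i₀
    obtain ⟨j, W, hW, hxW, hsub⟩ := exists_open_stage (Over.mkIdTerminal (X := i₀)) (Over.forget i₀ ⋙ D)
      (fun j => hD j.left) (fun i j φ => hDa _ _ φ.left) (c.whisker (Over.forget i₀)) hc' hV hx
    refine ⟨Points.map (c.π.app j.left) ⁻¹' W, hsub, ?_, hxW⟩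
    exact (iInf_le (fun i => TopologicalSpace.induced (AlgSp.Points.map (c.π.app i))
      (AlgSp.Points.topologicalSpace (D.obj i))) j.left) _ (isOpen_induced hW)

end Groth.Agent.Lib.Helper6.LimSp
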