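import Mathlib

/-!
# Helper library (helper6): compatible families in cofiltered systems of finite nonempty sets
-/

set_option autoImplicit false
universe u
open CategoryTheory CategoryTheory.Limits

namespace Groth.Agent.Lib.Helper6.LimSp

/-- A cofiltered system of finite nonempty subsets has a compatible family of elements. -/
theorem exists_compatible_of_finite {J : Type u} [SmallCategory J] [IsCofiltered J]
    (X : J → Type u) (f : ∀ ⦃j k : J⦄, (j ⟶ k) → X j → X k)
    (hid : ∀ (j : J) (x : X j), f (𝟙 j) x = x)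
    (hcomp : ∀ ⦃j k l : J⦄ (m : j ⟶ k) (n : k ⟶ l) (x : X j), f (m ≫ n) x = f n (f m x))
    (Z : ∀ j, Set (X j)) (hfin : ∀ j, (Z j).Finite) (hne : ∀ j, (Z j).Nonempty)
    (hmaps : ∀ ⦃j k : J⦄ (m : j ⟶ k) (x : X j), x ∈ Z j → f m x ∈ Z k) :
    ∃ x : ∀ j, X j, (∀ j, x j ∈ Z j) ∧ ∀ ⦃j k : J⦄ (m : j ⟶ k), f m (x j) = x k := by
  let F : J ⥤ Type u :=
    { obj := fun j => ↥(Z j)
      map := fun {j k} m => ↾(fun z : ↥(Z j) => (⟨f m z.1, hmaps m z.1 z.2⟩ : ↥(Z k)))
      map_id := fun j => by
        ext z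
        exact hid j z.1
      map_comp := fun {j k l} m n => by
        ext z
        exact hcomp m n z.1 }
  have : ∀ j, Finite (F.obj j) := fun j => (hfin j).to_subtype
  have : ∀ j, Nonempty (F.obj j) := fun j => (hne j).to_subtype
  obtain ⟨u, hu⟩ := nonempty_sections_of_finite_cofiltered_system F
  refine ⟨fun j => (u j).1, fun j => (u j).2, fun j k m => ?_⟩
  exact congrArg Subtype.val (hu m)

end Groth.Agent.Lib.Helper6.LimSp
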