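import Mathlib
import Groth.Agent.Lib.Helper6.LimSp
import Groth.Agent.Lib.Helper6.LimSp3
import Groth.Agent.Lib.Helper6.LimSp28
import Groth.Agent.Lib.Helper6.Konig
import Groth.Agent.Lib.Helper12.LimTop
import Groth.Agent.Lib.Helper16.Charts
import Groth.Agent.Lib.Helper16.Univ
import Groth.Agent.Lib.Helper16.FiniteFibres
import Groth.Agent.Lib.Helper16.FinFibrePair

/-!
# Helper library (helper6): the points of a cofiltered limit of decent algebraic spaces with affine transition maps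

* `LimChart.a`, `LimChart.π` and the structure fields of a `LimChart` restated with types in normal form;
* `LimChart.exists_chartMap`: a morphism of charts of the terminal stage induces a morphism of limit charts;
* `exists_point_terminal`: a compatible family of points of decent stages comes from a point of the limit;
* `eq_of_forall_map_eq_terminal`: the projections separate the points of the limit;
* `main10057`.
-/

set_option autoImplicit false
universe u
open CategoryTheory CategoryTheory.Limits AlgebraicGeometry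
open AlgSp Groth.Agent.Lib.Helper16

namespace Groth.Agent.Lib.Helper6.LimSp

variable {S : Scheme.{u}}

theorem over_comp_apply {A B C : Over S} (a : A ⟶ B) (b : B ⟶ C) (z : ↥A.left) :
    (a ≫ b).left z = b.left (a.left z) := by
  rw [Over.comp_left, Scheme.Hom.comp_apply]

theorem over_congr_apply {A B : Over S} {a b : A ⟶ B} (h : a = b) (z : ↥A.left) : a.left z = b.left z := by
  rw [h]

section Accessors

variable {J : Type u} [SmallCategory J] {t : J} {ht : IsTerminal t} {D : J ⥤ Sp S} {c : Cone D}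
  {U₀ : Over S} {g : (yon S).obj U₀ ⟶ D.obj t} (L : LimChart ht D c g)

/-- The chart of stage `j`, with its type in normal form. -/
noncomputable def LimChart.a (j : J) : (yon S).obj (L.E.obj j) ⟶ D.obj j := L.α.app j

/-- The projection from the limit chart to the chart of stage `j`, with its type in normal form. -/
noncomputable def LimChart.π (j : J) : L.cE.pt ⟶ L.E.obj j := L.cE.π.app j

theorem LimChart.a_nat {j k : J} (m : j ⟶ k) : (yon S).map (L.E.map m) ≫ L.a k = L.a j ≫ D.map m :=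
  L.α.naturality m

theorem LimChart.a_sq (j : J) : IsPullback (L.a j) ((yon S).map (L.p j)) (D.map (ht.from j)) g := L.sq j

theorem LimChart.a_fst (j : J) : L.fst ≫ c.π.app j = (yon S).map (L.π j) ≫ L.a j := L.hfst j

theorem LimChart.π_w {j k : J} (m : j ⟶ k) : L.π j ≫ L.E.map m = L.π k := L.cE.w m

theorem LimChart.a_sqstage (j : J) : IsPullback L.fst ((yon S).map (L.π j)) (c.π.app j) (L.a j) :=
  L.sqstage j

theorem LimChart.a_sqlim : IsPullback L.fst ((yon S).map (L.π t ≫ L.p t)) (c.π.app t) g := L.sqlim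

theorem LimChart.map_π_ofPt' (j : J) (v : ↥L.cE.pt.left) :
    Points.map (c.π.app j) (Points.ofPt L.fst v) = Points.ofPt (L.a j) ((L.π j).left v) :=
  L.map_π_ofPt j v

end Accessors

/-- A morphism between two charts of the terminal stage induces a morphism between the limit charts, compatible with
all the structure. -/
theorem LimChart.exists_chartMap {J : Type u} [SmallCategory J] {t : J} {ht : IsTerminal t} {D : J ⥤ Sp S}
    {c : Cone D} (hc : IsLimit c) {U₀ U₀' : Over S} {g : (yon S).obj U₀ ⟶ D.obj t}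
    {g' : (yon S).obj U₀' ⟶ D.obj t} (L : LimChart ht D c g) (L' : LimChart ht D c g') (h : U₀' ⟶ U₀)
    (hh : (yon S).map h ≫ g = g') :
    ∃ (q : ∀ j, L'.E.obj j ⟶ L.E.obj j) (Q : L'.cE.pt ⟶ L.cE.pt),
      (∀ j, (yon S).map (q j) ≫ L.a j = L'.a j) ∧
      (∀ j, q j ≫ L.p j = L'.p j ≫ h) ∧
      (∀ {j k : J} (m : j ⟶ k), L'.E.map m ≫ q k = q j ≫ L.E.map m) ∧
      (∀ j, Q ≫ L.π j = L'.π j ≫ q j) ∧
      (yon S).map Q ≫ L.fst = L'.fst := by
  have hcomm : ∀ j, L'.a j ≫ D.map (ht.from j) = (yon S).map (L'.p j ≫ h) ≫ g := fun j => by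
    rw [Functor.map_comp, Category.assoc, hh]
    exact (L'.a_sq j).w
  have hq : ∀ j, ∃ q : L'.E.obj j ⟶ L.E.obj j,
      (yon S).map q ≫ L.a j = L'.a j ∧ q ≫ L.p j = L'.p j ≫ h := fun j => by
    obtain ⟨q, hq⟩ := (yon S).map_surjective
      ((L.a_sq j).lift (L'.a j) ((yon S).map (L'.p j ≫ h)) (hcomm j))
    refine ⟨q, by rw [hq, (L.a_sq j).lift_fst], ?_⟩
    apply (yon S).map_injective
    rw [Functor.map_comp, hq, (L.a_sq j).lift_snd]
  choose q hq1 hq2 using hq
  have hnat : ∀ {j k : J} (m : j ⟶ k), L'.E.map m ≫ q k = q j ≫ L.E.map m := fun {j k} m => by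
    apply (yon S).map_injective
    apply (L.a_sq k).hom_ext
    · rw [Functor.map_comp, Category.assoc, hq1, L'.a_nat m, Functor.map_comp, Category.assoc, L.a_nat m,
        ← Category.assoc, hq1]
    · rw [← Functor.map_comp, ← Functor.map_comp, Category.assoc, hq2, ← Category.assoc, L'.hp m,
        Category.assoc, L.hp m, hq2]
  have hs : ∀ {j k : J} (m : j ⟶ k), (L'.π j ≫ q j) ≫ L.E.map m = L'.π k ≫ q k := fun {j k} m => by
    rw [Category.assoc, ← hnat m, ← Category.assoc, L'.π_w m]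
  let s : Cone L.E :=
    { pt := L'.cE.pt
      π := { app := fun j => L'.π j ≫ q j
             naturality := fun j k m => (Category.id_comp _).trans (hs m).symm } }
  have hQ : ∀ j, L.hcE.lift s ≫ L.π j = L'.π j ≫ q j := fun j => L.hcE.fac s j
  refine ⟨q, L.hcE.lift s, hq1, hq2, fun m => hnat m, hQ, ?_⟩
  apply hc.hom_ext
  intro j
  rw [Category.assoc, L.a_fst j, L'.a_fst j, ← Category.assoc, ← Functor.map_comp, hQ j, Functor.map_comp,
    Category.assoc, hq1]

/-- A compatible family of points of the (decent) stages comes from a point of the limit. -/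
theorem exists_point_terminal {J : Type u} [SmallCategory J] [IsCofiltered J] {t : J} (ht : IsTerminal t)
    (D : J ⥤ Sp S) (hD : ∀ j, IsAlgSpace (D.obj j)) (hDa : ∀ (i j : J) (φ : i ⟶ j), IsAffineMor (D.map φ))
    (c : Cone D) (hc : IsLimit c) (hdec : ∀ j, IsDecent (D.obj j))
    (s : ∀ j, Points (D.obj j)) (hs : ∀ {j k : J} (m : j ⟶ k), Points.map (D.map m) (s j) = s k) :
    ∃ x : Points c.pt, ∀ j, Points.map (c.π.app j) x = s j := by
  obtain ⟨ι, W, ρ, hρe, hρs, hρa⟩ := exists_affine_etale_cover (hD t)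
  obtain ⟨i, u₀, hu₀⟩ := hρs (s t)
  have hge : RepWith @Etale (ρ i) := hρe i
  have hWa : IsAffine (W i).left := hρa i
  obtain ⟨L⟩ := nonempty_limChart ht D hD hDa c hc (ρ i)
  have hae : ∀ j, RepWith @Etale (L.a j) := fun j =>
    MorphismProperty.of_isPullback (P := RepWith (S := S) @Etale) (L.a_sq j).flip hge
  have hcpt : ∀ j, CompactSpace ↥(L.E.obj j).left := fun j => by
    have := L.affp j
    have : IsAffine (L.E.obj j).left := isAffine_of_isAffineHom (L.p j).left
    infer_instance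
  have hfin : ∀ j, (Points.ofPt (L.a j) ⁻¹' {s j}).Finite := fun j => by
    obtain ⟨p, hp, -, hq⟩ := hdec j (s j)
    have := hcpt j
    have h1 := finite_fibre_of_quasiCompact_fieldPt p hq (L.a j) (hae j)
    rw [hp] at h1
    exact h1
  have hne : ∀ j, (Points.ofPt (L.a j) ⁻¹' {s j}).Nonempty := fun j => by
    obtain ⟨v, hv, -⟩ := exists_point_of_isPullback_yon (L.a_sq j) (s j) u₀
      ((hs (ht.from j)).trans hu₀.symm)
    exact ⟨v, hv⟩
  have hmaps : ∀ ⦃j k : J⦄ (m : j ⟶ k) (z : ↥(L.E.obj j).left), z ∈ Points.ofPt (L.a j) ⁻¹' {s j} →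
      (L.E.map m).left z ∈ Points.ofPt (L.a k) ⁻¹' {s k} := fun j k m z hz => by
    have hz' : Points.ofPt (L.a j) z = s j := hz
    show Points.ofPt (L.a k) ((L.E.map m).left z) = s k
    rw [← ofPt_yon_map_comp, L.a_nat m, ← Points.map_ofPt, hz', hs m]
  have hid : ∀ (j : J) (x : ↥(L.E.obj j).left), (L.E.map (𝟙 j)).left x = x := fun j x => by
    rw [L.E.map_id]; rfl
  have hcomp : ∀ ⦃j k l : J⦄ (m : j ⟶ k) (n : k ⟶ l) (x : ↥(L.E.obj j).left),
      (L.E.map (m ≫ n)).left x = (L.E.map n).left ((L.E.map m).left x) := fun j k l m n x => by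
    rw [L.E.map_comp]; exact over_comp_apply _ _ _
  obtain ⟨z, hzZ, hzc⟩ := exists_compatible_of_finite (fun j => ↥(L.E.obj j).left)
    (fun j k m x => (L.E.map m).left x) hid hcomp (fun j => Points.ofPt (L.a j) ⁻¹' {s j}) hfin hne hmaps
  have haff : ∀ (i j : J) (f : i ⟶ j), IsAffineHom ((L.E ⋙ Over.forget S).map f) := fun i j f => L.aff f
  obtain ⟨v, hv⟩ := Groth.Agent.Lib.Helper12.LimTop.exists_point_of_compatible (L.E ⋙ Over.forget S)
    ((Over.forget S).mapCone L.cE) L.hc₀ z (fun {j k} m => hzc m)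
  refine ⟨Points.ofPt L.fst v, fun j => ?_⟩
  have h1 : (L.π j).left v = z j := hv j
  rw [L.map_π_ofPt' j v, h1]
  exact hzZ j

/-- The projections to the (decent) stages separate the points of the limit. -/
theorem eq_of_forall_map_eq_terminal {J : Type u} [SmallCategory J] [IsCofiltered J] {t : J}
    (ht : IsTerminal t) (D : J ⥤ Sp S) (hD : ∀ j, IsAlgSpace (D.obj j))
    (hDa : ∀ (i j : J) (φ : i ⟶ j), IsAffineMor (D.map φ))
    (c : Cone D) (hc : IsLimit c) (hdec : ∀ j, IsDecent (D.obj j))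
    (x x' : Points c.pt) (h : ∀ j, Points.map (c.π.app j) x = Points.map (c.π.app j) x') : x = x' := by
  obtain ⟨ι, W, ρ, hρe, hρs, -⟩ := exists_affine_etale_cover (hD t)
  obtain ⟨i, u₀, hu₀⟩ := hρs (Points.map (c.π.app t) x)
  have hge : RepWith @Etale (ρ i) := hρe i
  obtain ⟨L⟩ := nonempty_limChart ht D hD hDa c hc (ρ i)
  have hae : ∀ j, RepWith @Etale (L.a j) := fun j =>
    MorphismProperty.of_isPullback (P := RepWith (S := S) @Etale) (L.a_sq j).flip hge
  obtain ⟨v, hv, -⟩ := exists_point_of_isPullback_yon L.a_sqlim x u₀ hu₀.symm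
  obtain ⟨v', hv', -⟩ := exists_point_of_isPullback_yon L.a_sqlim x' u₀ ((h t).symm.trans hu₀.symm)
  have hrep : Representable (ρ i) := (hD t).representable_from_yon (ρ i)
  obtain ⟨R₀, pr₁, pr₂, sqR₀⟩ : ∃ (R₀ : Over S) (pr₁ pr₂ : R₀ ⟶ W i),
      IsPullback ((yon S).map pr₁) ((yon S).map pr₂) (ρ i) (ρ i) := ⟨_, _, _, hrep.isPullback' (ρ i)⟩
  obtain ⟨g₂, hg₂⟩ : ∃ g₂ : (yon S).obj R₀ ⟶ D.obj t, g₂ = (yon S).map pr₁ ≫ ρ i := ⟨_, rfl⟩
  have hg₂' : (yon S).map pr₂ ≫ ρ i = g₂ := by rw [hg₂]; exact sqR₀.w.symm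
  obtain ⟨L₂⟩ := nonempty_limChart ht D hD hDa c hc g₂
  obtain ⟨q1, Q1, hq1a, hq1p, hq1n, hQ1, hQ1f⟩ := LimChart.exists_chartMap hc L L₂ pr₁ hg₂.symm
  obtain ⟨q2, Q2, hq2a, hq2p, hq2n, hQ2, hQ2f⟩ := LimChart.exists_chartMap hc L L₂ pr₂ hg₂'
  -- the stage `R_j` of the second chart is `U_j ×_{X_j} U_j`
  have sqR : ∀ j, IsPullback ((yon S).map (q1 j)) ((yon S).map (q2 j)) (L.a j) (L.a j) := fun j => by
    have key1 : (yon S).map (L₂.p j) ≫ (yon S).map pr₁ = (yon S).map (q1 j) ≫ (yon S).map (L.p j) := by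
      rw [← Functor.map_comp, ← Functor.map_comp, hq1p j]
    have key2 : (yon S).map (L₂.p j) ≫ (yon S).map pr₂ = (yon S).map (q2 j) ≫ (yon S).map (L.p j) := by
      rw [← Functor.map_comp, ← Functor.map_comp, hq2p j]
    refine isPullback_of_exists_lift ?_ ?_ ?_
    · rw [hq1a, hq2a]
    · intro Z a b hab
      have h0 : (a ≫ (yon S).map (L.p j)) ≫ ρ i = (b ≫ (yon S).map (L.p j)) ≫ ρ i := by
        rw [Category.assoc, Category.assoc, ← (L.a_sq j).w, ← Category.assoc, ← Category.assoc, hab]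
      obtain ⟨r₀, hr₀1, hr₀2⟩ : ∃ r₀ : Z ⟶ (yon S).obj R₀,
          r₀ ≫ (yon S).map pr₁ = a ≫ (yon S).map (L.p j) ∧
          r₀ ≫ (yon S).map pr₂ = b ≫ (yon S).map (L.p j) :=
        ⟨sqR₀.lift _ _ h0, sqR₀.lift_fst _ _ _, sqR₀.lift_snd _ _ _⟩
      have h1 : (a ≫ L.a j) ≫ D.map (ht.from j) = r₀ ≫ g₂ := by
        rw [Category.assoc, (L.a_sq j).w, ← Category.assoc, ← hr₀1, Category.assoc, hg₂]
      obtain ⟨l, hl1, hl2⟩ : ∃ l : Z ⟶ (yon S).obj (L₂.E.obj j),
          l ≫ L₂.a j = a ≫ L.a j ∧ l ≫ (yon S).map (L₂.p j) = r₀ :=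
        ⟨(L₂.a_sq j).lift _ _ h1, (L₂.a_sq j).lift_fst _ _ _, (L₂.a_sq j).lift_snd _ _ _⟩
      refine ⟨l, ?_, ?_⟩
      · apply (L.a_sq j).hom_ext
        · rw [Category.assoc, hq1a, hl1]
        · rw [Category.assoc, ← key1, ← Category.assoc, hl2, hr₀1]
      · apply (L.a_sq j).hom_ext
        · rw [Category.assoc, hq2a, hl1, hab]
        · rw [Category.assoc, ← key2, ← Category.assoc, hl2, hr₀2]
    · intro Z l l' e1 e2
      apply (L₂.a_sq j).hom_ext
      · rw [← hq1a j, ← Category.assoc, ← Category.assoc, e1]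
      · apply sqR₀.hom_ext
        · rw [Category.assoc, Category.assoc, key1, ← Category.assoc, ← Category.assoc, e1]
        · rw [Category.assoc, Category.assoc, key2, ← Category.assoc, ← Category.assoc, e2]
  have huu' : ∀ j, Points.ofPt (L.a j) ((L.π j).left v) = Points.ofPt (L.a j) ((L.π j).left v') := fun j => by
    rw [← L.map_π_ofPt' j v, ← L.map_π_ofPt' j v', hv, hv', h j]
  have hne : ∀ j, {r : ↥(L₂.E.obj j).left | (q1 j).left r = (L.π j).left v ∧
      (q2 j).left r = (L.π j).left v'}.Nonempty := fun j => by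
    obtain ⟨r, hr1, hr2⟩ := exists_point_of_isPullback_yon_yon (sqR j) ((L.π j).left v) ((L.π j).left v')
      (huu' j)
    exact ⟨r, hr1, hr2⟩
  have hfin : ∀ j, {r : ↥(L₂.E.obj j).left | (q1 j).left r = (L.π j).left v ∧
      (q2 j).left r = (L.π j).left v'}.Finite := fun j => by
    obtain ⟨p, hp, hm, -⟩ := hdec j (Points.ofPt (L.a j) ((L.π j).left v))
    have hrepp : Representable p.toHom := (hD j).representable_from_yon _
    obtain ⟨E, cE, εE, sqE⟩ : ∃ (E : Over S) (cE : E ⟶ p.pt) (εE : E ⟶ L.E.obj j),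
        IsPullback ((yon S).map εE) ((yon S).map cE) (L.a j) p.toHom :=
      ⟨_, _, _, (hrepp.isPullback' (L.a j)).flip⟩
    have hcE : Etale cE.left := (hae j).property p.toHom _ cE sqE
    have hlqf : LocallyQuasiFinite cE.left := locallyQuasiFinite_of_etale cE.left
    exact finite_fibre_pair_of_mono_point p (L.a j) (L.a j) cE εE sqE cE εE sqE hm hlqf
      ((L.π j).left v) ((L.π j).left v') hp.symm ((huu' j).symm.trans hp.symm) (q1 j) (q2 j) (sqR j)
  have hmaps : ∀ ⦃j k : J⦄ (m : j ⟶ k) (z : ↥(L₂.E.obj j).left),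
      z ∈ {r : ↥(L₂.E.obj j).left | (q1 j).left r = (L.π j).left v ∧ (q2 j).left r = (L.π j).left v'} →
      (L₂.E.map m).left z ∈ {r : ↥(L₂.E.obj k).left | (q1 k).left r = (L.π k).left v ∧
        (q2 k).left r = (L.π k).left v'} := fun j k m z hz => by
    obtain ⟨h1, h2⟩ := hz
    refine ⟨?_, ?_⟩
    · calc (q1 k).left ((L₂.E.map m).left z) = (L₂.E.map m ≫ q1 k).left z := (over_comp_apply _ _ _).symm
        _ = (q1 j ≫ L.E.map m).left z := over_congr_apply (hq1n m) z
        _ = (L.E.map m).left ((q1 j).left z) := over_comp_apply _ _ _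
        _ = (L.E.map m).left ((L.π j).left v) := by rw [h1]
        _ = (L.π j ≫ L.E.map m).left v := (over_comp_apply _ _ _).symm
        _ = (L.π k).left v := over_congr_apply (L.π_w m) v
    · calc (q2 k).left ((L₂.E.map m).left z) = (L₂.E.map m ≫ q2 k).left z := (over_comp_apply _ _ _).symm
        _ = (q2 j ≫ L.E.map m).left z := over_congr_apply (hq2n m) z
        _ = (L.E.map m).left ((q2 j).left z) := over_comp_apply _ _ _
        _ = (L.E.map m).left ((L.π j).left v') := by rw [h2]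
        _ = (L.π j ≫ L.E.map m).left v' := (over_comp_apply _ _ _).symm
        _ = (L.π k).left v' := over_congr_apply (L.π_w m) v'
  have hid : ∀ (j : J) (x : ↥(L₂.E.obj j).left), (L₂.E.map (𝟙 j)).left x = x := fun j x => by
    rw [L₂.E.map_id]; rfl
  have hcomp : ∀ ⦃j k l : J⦄ (m : j ⟶ k) (n : k ⟶ l) (x : ↥(L₂.E.obj j).left),
      (L₂.E.map (m ≫ n)).left x = (L₂.E.map n).left ((L₂.E.map m).left x) := fun j k l m n x => by
    rw [L₂.E.map_comp]; exact over_comp_apply _ _ _
  obtain ⟨r, hrZ, hrc⟩ := exists_compatible_of_finite (fun j => ↥(L₂.E.obj j).left)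
    (fun j k m x => (L₂.E.map m).left x) hid hcomp
    (fun j => {r : ↥(L₂.E.obj j).left | (q1 j).left r = (L.π j).left v ∧ (q2 j).left r = (L.π j).left v'})
    hfin hne hmaps
  have haff₂ : ∀ (i j : J) (f : i ⟶ j), IsAffineHom ((L₂.E ⋙ Over.forget S).map f) := fun i j f => L₂.aff f
  obtain ⟨w, hw⟩ := Groth.Agent.Lib.Helper12.LimTop.exists_point_of_compatible (L₂.E ⋙ Over.forget S)
    ((Over.forget S).mapCone L₂.cE) L₂.hc₀ r (fun {j k} m => hrc m)
  have haff : ∀ (i j : J) (f : i ⟶ j), IsAffineHom ((L.E ⋙ Over.forget S).map f) := fun i j f => L.aff f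
  have hQ1w : Q1.left w = v := by
    refine Groth.Agent.Lib.Helper12.LimTop.eq_of_forall_π_eq (L.E ⋙ Over.forget S)
      ((Over.forget S).mapCone L.cE) L.hc₀ (s := Q1.left w) (s' := v) (fun j => ?_)
    show (L.π j).left (Q1.left w) = (L.π j).left v
    calc (L.π j).left (Q1.left w) = (Q1 ≫ L.π j).left w := (over_comp_apply _ _ _).symm
      _ = (L₂.π j ≫ q1 j).left w := over_congr_apply (hQ1 j) w
      _ = (q1 j).left ((L₂.π j).left w) := over_comp_apply _ _ _
      _ = (q1 j).left (r j) := by rw [show (L₂.π j).left w = r j from hw j]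
      _ = (L.π j).left v := (hrZ j).1
  have hQ2w : Q2.left w = v' := by
    refine Groth.Agent.Lib.Helper12.LimTop.eq_of_forall_π_eq (L.E ⋙ Over.forget S)
      ((Over.forget S).mapCone L.cE) L.hc₀ (s := Q2.left w) (s' := v') (fun j => ?_)
    show (L.π j).left (Q2.left w) = (L.π j).left v'
    calc (L.π j).left (Q2.left w) = (Q2 ≫ L.π j).left w := (over_comp_apply _ _ _).symm
      _ = (L₂.π j ≫ q2 j).left w := over_congr_apply (hQ2 j) w
      _ = (q2 j).left ((L₂.π j).left w) := over_comp_apply _ _ _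
      _ = (q2 j).left (r j) := by rw [show (L₂.π j).left w = r j from hw j]
      _ = (L.π j).left v' := (hrZ j).2
  calc x = Points.ofPt L.fst v := hv.symm
    _ = Points.ofPt L.fst (Q1.left w) := by rw [hQ1w]
    _ = Points.ofPt ((yon S).map Q1 ≫ L.fst) w := (ofPt_yon_map_comp Q1 L.fst w).symm
    _ = Points.ofPt L₂.fst w := by rw [hQ1f]
    _ = Points.ofPt ((yon S).map Q2 ≫ L.fst) w := by rw [hQ2f]
    _ = Points.ofPt L.fst (Q2.left w) := ofPt_yon_map_comp Q2 L.fst w
    _ = Points.ofPt L.fst v' := by rw [hQ2w]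
    _ = x' := hv'

theorem main10057 (S : Scheme.{u}) {I : Type u} [SmallCategory I] [IsCofiltered I]
    (D : I ⥤ AlgSp.Sp S) (hD : ∀ i, AlgSp.IsAlgSpace (D.obj i))
    (hDa : ∀ (i j : I) (φ : i ⟶ j), AlgSp.IsAffineMor (D.map φ))
    (c : Cone D) (hc : IsLimit c)
    (hdec : ∀ i, AlgSp.IsDecent (D.obj i)) :
    (∀ x x' : AlgSp.Points c.pt, (∀ i, AlgSp.Points.map (c.π.app i) x = AlgSp.Points.map (c.π.app i) x') → x = x') ∧
    (∀ s : ∀ i, AlgSp.Points (D.obj i), (∀ (i j : I) (φ : i ⟶ j), AlgSp.Points.map (D.map φ) (s i) = s j) →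
      ∃ x : AlgSp.Points c.pt, ∀ i, AlgSp.Points.map (c.π.app i) x = s i) := by
  obtain ⟨i₀⟩ := IsCofiltered.nonempty (C := I)
  obtain ⟨hc'⟩ := isLimit_whisker_over D c hc i₀
  refine ⟨fun x x' h => ?_, fun s hs => ?_⟩
  · exact eq_of_forall_map_eq_terminal (Over.mkIdTerminal (X := i₀)) (Over.forget i₀ ⋙ D) (fun j => hD j.left)
      (fun i j φ => hDa _ _ φ.left) (c.whisker (Over.forget i₀)) hc' (fun j => hdec j.left) x x'
      (fun j => h j.left)
  · obtain ⟨x, hx⟩ := exists_point_terminal (Over.mkIdTerminal (X := i₀)) (Over.forget i₀ ⋙ D)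
      (fun j => hD j.left) (fun i j φ => hDa _ _ φ.left) (c.whisker (Over.forget i₀)) hc'
      (fun j => hdec j.left) (fun j => s j.left) (fun {j k} m => hs _ _ m.left)
    refine ⟨x, fun i => ?_⟩
    have hk : Points.map (c.π.app (IsCofiltered.min i i₀)) x = s (IsCofiltered.min i i₀) :=
      hx (Over.mk (IsCofiltered.minToRight i i₀))
    have hw : c.π.app (IsCofiltered.min i i₀) ≫ D.map (IsCofiltered.minToLeft i i₀) = c.π.app i := c.w _
    rw [← hw, Points.map_comp, hk]
    exact hs _ _ _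

end Groth.Agent.Lib.Helper6.LimSp
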