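import Mathlib
import Groth.Agent.Lib.Helper6.LimSp
import Groth.Agent.Lib.Helper16.SchImgRed2
import Groth.Agent.Lib.Helper16.Charts

/-!
# Helper library (helper6): reducedness and nonemptiness of cofiltered limits of algebraic spaces

* a cofiltered limit of reduced schemes with affine transition maps is reduced;
* a cofiltered limit of reduced algebraic spaces with affine transition maps is reduced;
* a cofiltered limit of nonempty quasi-compact algebraic spaces with affine transition maps is nonempty.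
-/

set_option autoImplicit false
universe u
open CategoryTheory CategoryTheory.Limits AlgebraicGeometry
open AlgSp Groth.Agent.Lib.Helper16

namespace Groth.Agent.Lib.Helper6.LimSp

variable {S : Scheme.{u}}

/-- A cofiltered limit of reduced affine schemes is reduced. -/
theorem isReduced_of_isLimit_affine {I : Type u} [Category.{u} I] [IsCofiltered I] (D : I ⥤ Scheme.{u})
    (c : Cone D) (hc : IsLimit c) (haff : ∀ i, IsAffine (D.obj i)) (hred : ∀ i, IsReduced (D.obj i)) :
    IsReduced c.pt := by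
  have hcaff : IsAffine c.pt := Scheme.isAffine_of_isLimit c hc
  have hΓ : _root_.IsReduced Γ(c.pt, ⊤) := by
    constructor
    intro x hx
    obtain ⟨n, hn⟩ := hx
    obtain ⟨i, s, rfl⟩ := exists_appTop_π_eq_of_isAffine_of_isLimit D c hc x
    have h1 : (c.π.app i).appTop (s ^ n) = 0 := by rw [map_pow, hn]
    obtain ⟨j, f, hj⟩ := exists_appTop_map_eq_zero_of_isAffine_of_isLimit D c hc i (s ^ n) h1
    have h2 : (D.map f).appTop s = 0 := by
      have hnil : IsNilpotent ((D.map f).appTop s) := ⟨n, by rw [← map_pow, hj]⟩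
      exact hnil.eq_zero
    have h3 : (c.π.app i).appTop s = (c.π.app j).appTop ((D.map f).appTop s) := by
      rw [← c.w f, Scheme.Hom.comp_appTop, CommRingCat.comp_apply]
    rw [h3, h2, map_zero]
  exact isReduced_of_isAffine_isReduced c.pt

/-- A cofiltered limit of reduced schemes with affine transition maps is reduced. -/
theorem isReduced_of_isLimit {I : Type u} [Category.{u} I] [IsCofiltered I] (D : I ⥤ Scheme.{u})
    [∀ {i j : I} (f : i ⟶ j), IsAffineHom (D.map f)] (c : Cone D) (hc : IsLimit c)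
    (hred : ∀ i, IsReduced (D.obj i)) : IsReduced c.pt := by
  have hstalk : ∀ x : c.pt, _root_.IsReduced (c.pt.presheaf.stalk x) := by
    intro x
    obtain ⟨i₀⟩ := IsCofiltered.nonempty (C := I)
    obtain ⟨_, ⟨U, hU : IsAffineOpen U, rfl⟩, hxU, -⟩ :=
      (D.obj i₀).isBasis_affineOpens.exists_subset_of_mem_open (Set.mem_univ (c.π.app i₀ x)) isOpen_univ
    have haffj : ∀ j : Over i₀, IsAffine ((opensDiagram D i₀ U).obj j) := fun j => hU.preimage (D.map j.hom)
    have hredj : ∀ j : Over i₀, IsReduced ((opensDiagram D i₀ U).obj j) := fun j => by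
      have := hred j.left
      exact inferInstanceAs (IsReduced (D.map j.hom ⁻¹ᵁ U).toScheme)
    have hW : IsReduced (opensCone D c i₀ U).pt :=
      isReduced_of_isLimit_affine (opensDiagram D i₀ U) (opensCone D c i₀ U) (isLimitOpensCone D c hc i₀ U)
        haffj hredj
    have hx : x ∈ c.π.app i₀ ⁻¹ᵁ U := hxU
    have hW' : IsReduced (c.π.app i₀ ⁻¹ᵁ U).toScheme := hW
    have h1 : _root_.IsReduced (c.pt.presheaf.stalk ((c.π.app i₀ ⁻¹ᵁ U).ι ⟨x, hx⟩)) :=
      isReduced_of_injective _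
        (asIso ((c.π.app i₀ ⁻¹ᵁ U).ι.stalkMap ⟨x, hx⟩)).commRingCatIsoToRingEquiv.injective
    exact h1
  exact isReduced_of_isReduced_stalk _

theorem main10056 (S : Scheme.{u}) {I : Type u} [SmallCategory I] [IsCofiltered I]
    (D : I ⥤ AlgSp.Sp S) (hD : ∀ i, AlgSp.IsAlgSpace (D.obj i))
    (hDa : ∀ (i j : I) (φ : i ⟶ j), AlgSp.IsAffineMor (D.map φ))
    (c : Cone D) (hc : IsLimit c)
    (hred : ∀ i, AlgSp.IsReducedSp (D.obj i)) : AlgSp.IsReducedSp c.pt := by
  obtain ⟨i₀⟩ := IsCofiltered.nonempty (C := I)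
  obtain ⟨hc'⟩ := isLimit_whisker_over D c hc i₀
  obtain ⟨U₀, g, hget, hgsurj, hU₀⟩ := hred i₀
  obtain ⟨L⟩ := nonempty_limChart (Over.mkIdTerminal (X := i₀)) (Over.forget i₀ ⋙ D) (fun j => hD j.left)
    (fun i j φ => hDa _ _ φ.left) (c.whisker (Over.forget i₀)) hc' g
  refine ⟨L.cE.pt, L.fst, (RepWith @Etale).of_isPullback L.sqlim.flip hget,
    (RepWith @Surjective).of_isPullback L.sqlim.flip hgsurj, ?_⟩
  have hEred : ∀ j : Over i₀, IsReduced ((L.E ⋙ Over.forget S).obj j) := fun j =>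
    SchImg.isReduced_of_etale_of_isReducedSp (hred j.left)
      (L.α.app j : (yon S).obj (L.E.obj j) ⟶ D.obj j.left)
      ((RepWith @Etale).of_isPullback (L.sq j).flip hget)
  have : ∀ {i j : Over i₀} (f : i ⟶ j), IsAffineHom ((L.E ⋙ Over.forget S).map f) := fun f => L.aff f
  exact isReduced_of_isLimit (L.E ⋙ Over.forget S) ((Over.forget S).mapCone L.cE) L.hc₀ hEred

theorem main10008 (S : Scheme.{u}) {I : Type u} [SmallCategory I] [IsCofiltered I]
    (D : I ⥤ AlgSp.Sp S) (hD : ∀ i, AlgSp.IsAlgSpace (D.obj i))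
    (hDa : ∀ (i j : I) (φ : i ⟶ j), AlgSp.IsAffineMor (D.map φ))
    (c : Cone D) (hc : IsLimit c)
    (hqc : ∀ i, AlgSp.IsQuasiCompactSp (D.obj i)) (hne : ∀ i, Nonempty (AlgSp.Points (D.obj i))) :
    Nonempty (AlgSp.Points c.pt) := by
  obtain ⟨i₀⟩ := IsCofiltered.nonempty (C := I)
  obtain ⟨hc'⟩ := isLimit_whisker_over D c hc i₀
  obtain ⟨U₀, g, hget, hgsurj, hU₀⟩ := hqc i₀
  obtain ⟨L⟩ := nonempty_limChart (Over.mkIdTerminal (X := i₀)) (Over.forget i₀ ⋙ D) (fun j => hD j.left)
    (fun i j φ => hDa _ _ φ.left) (c.whisker (Over.forget i₀)) hc' g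
  have : ∀ {i j : Over i₀} (f : i ⟶ j), IsAffineHom ((L.E ⋙ Over.forget S).map f) := fun f => L.aff f
  have hcomp : ∀ j : Over i₀, CompactSpace ((L.E ⋙ Over.forget S).obj j) := fun j => by
    have h1 : IsAffineHom (L.p j).left := L.affp j
    have h2 : CompactSpace U₀.left := hU₀
    show CompactSpace (L.E.obj j).left
    exact QuasiCompact.compactSpace_of_compactSpace (L.p j).left
  have hnonempty : ∀ j : Over i₀, Nonempty ((L.E ⋙ Over.forget S).obj j) := fun j => by
    obtain ⟨x⟩ := hne j.left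
    obtain ⟨y, -⟩ := ofPt_surjective_of_surjective
      (L.α.app j : (yon S).obj (L.E.obj j) ⟶ D.obj j.left)
      ((RepWith @Surjective).of_isPullback (L.sq j).flip hgsurj) x
    exact ⟨y⟩
  have hne' : Nonempty ((Over.forget S).mapCone L.cE).pt :=
    Scheme.nonempty_of_isLimit (L.E ⋙ Over.forget S) ((Over.forget S).mapCone L.cE) L.hc₀
  obtain ⟨z⟩ := hne'
  exact ⟨Points.ofPt L.fst z⟩

end Groth.Agent.Lib.Helper6.LimSp
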