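import Mathlib
import Groth.Agent.Lib.Helper6.LimSp28
import Groth.Agent.Lib.Helper6.LimSp29
import Groth.Agent.Lib.Helper6.LimSpRed
import Groth.Agent.Lib.Helper16.SchImg2
import Groth.Agent.Lib.Helper16.MonoDescent
import Groth.Agent.Lib.Helper15.ToposQuot

/-!
# Helper library (helper6): the closure of a point of a limit of decent spaces (`main10075`)

* `le_of_isReduced_of_support_le`: a reduced closed subscheme with small support is contained in any closed
  subscheme with large support;
* `subF`, `subLimCone`, `subLimCone_isLimit`, `isReduced_iSup_comap`: for a cofiltered system of schemes with affine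
  transition maps and a compatible system of closed subschemes, the intersection of the preimages in the limit
  is the limit of the closed subschemes, hence reduced when they are;
* `mem_range_iff_of_isPullback`, `ker_le_of_factor`, `factor_of_forall_yon`;
* `mem_closure_of_forall_stage`, `factor_closure` (the crux), `main10075`.
-/

set_option autoImplicit false
set_option backward.isDefEq.respectTransparency false
universe u
open CategoryTheory CategoryTheory.Limits AlgebraicGeometry
open AlgSp Groth.Agent.Lib.Helper16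

namespace Groth.Agent.Lib.Helper6.ClosureLim

open Groth.Agent.Lib.Helper6.LimSp

section SchemeLevel

theorem le_of_isReduced_of_support_le {U : Scheme.{u}} (KZ K' : U.IdealSheafData) [IsReduced K'.subscheme]
    (hsupp : ∀ v : U, v ∈ K'.support → v ∈ KZ.support) : KZ ≤ K' := by
  have hrange : ∀ b : K'.subscheme, K'.subschemeι b ∈ K'.support := fun b => by
    have h : K'.subschemeι b ∈ Set.range K'.subschemeι := ⟨b, rfl⟩
    rw [Scheme.IdealSheafData.range_subschemeι] at h
    exact h
  have h1 : (KZ.comap K'.subschemeι).support = ⊤ := by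
    rw [Scheme.IdealSheafData.support_comap]
    refine TopologicalSpace.Closeds.ext (Set.eq_univ_of_forall fun b => ?_)
    exact hsupp _ (hrange b)
  have h2 : KZ.comap K'.subschemeι = ⊥ := Scheme.IdealSheafData.support_eq_top_iff.1 h1
  have h3 : KZ ≤ (⊥ : K'.subscheme.IdealSheafData).map K'.subschemeι :=
    Scheme.IdealSheafData.le_map_iff_comap_le.2 h2.le
  rwa [Scheme.IdealSheafData.map_bot, Scheme.IdealSheafData.ker_subschemeι] at h3

variable {J : Type u} [Category.{u} J] (E : J ⥤ Scheme.{u}) (K : ∀ j, (E.obj j).IdealSheafData)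
  (hK : ∀ (i j : J) (m : i ⟶ j), (K j).comap (E.map m) ≤ K i)

/-- The diagram of closed subschemes. -/
noncomputable def subF : J ⥤ Scheme.{u} where
  obj j := (K j).subscheme
  map {i j} m := Scheme.IdealSheafData.subschemeMap (K i) (K j) (E.map m)
    ((Scheme.IdealSheafData.le_map_iff_comap_le (I := K i) (f := E.map m) (J := K j)).2 (hK i j m))
  map_id j := by
    rw [← cancel_mono (K j).subschemeι]
    simp
  map_comp m n := by
    rw [← cancel_mono (K _).subschemeι]
    simp

theorem subF_map_ι {i j : J} (m : i ⟶ j) :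
    (subF E K hK).map m ≫ (K j).subschemeι = (K i).subschemeι ≫ E.map m :=
  Scheme.IdealSheafData.subschemeMap_subschemeι (K i) (K j) (E.map m)
    ((Scheme.IdealSheafData.le_map_iff_comap_le (I := K i) (f := E.map m) (J := K j)).2 (hK i j m))

variable (cE : Cone E)

/-- The intersection of the preimages of the closed subschemes in the limit. -/
noncomputable def subLimCone : Cone (subF E K hK) where
  pt := (⨆ j, (K j).comap (cE.π.app j)).subscheme
  π :=
    { app := fun j => Scheme.IdealSheafData.subschemeMap _ (K j) (cE.π.app j)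
        ((Scheme.IdealSheafData.le_map_iff_comap_le (I := ⨆ j, (K j).comap (cE.π.app j)) (f := cE.π.app j)
          (J := K j)).2 (le_iSup (fun j => (K j).comap (cE.π.app j)) j))
      naturality := fun i j m => by
        rw [← cancel_mono (K j).subschemeι]
        simp [subF_map_ι] }

theorem subLimCone_π_ι (j : J) :
    (subLimCone E K hK cE).π.app j ≫ (K j).subschemeι =
      (⨆ j, (K j).comap (cE.π.app j)).subschemeι ≫ cE.π.app j :=
  Scheme.IdealSheafData.subschemeMap_subschemeι (⨆ j, (K j).comap (cE.π.app j)) (K j) (cE.π.app j)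
    ((Scheme.IdealSheafData.le_map_iff_comap_le (I := ⨆ j, (K j).comap (cE.π.app j)) (f := cE.π.app j)
      (J := K j)).2 (le_iSup (fun j => (K j).comap (cE.π.app j)) j))

theorem subLimCone_exists_lift (hcE : IsLimit cE) (s : Cone (subF E K hK)) :
    ∃ l : s.pt ⟶ (subLimCone E K hK cE).pt, ∀ j, l ≫ (subLimCone E K hK cE).π.app j = s.π.app j := by
  let s' : Cone E :=
    { pt := s.pt
      π :=
        { app := fun j => s.π.app j ≫ (K j).subschemeι
          naturality := fun i j m => by
            have h := s.w m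
            show 𝟙 _ ≫ s.π.app j ≫ (K j).subschemeι = (s.π.app i ≫ (K i).subschemeι) ≫ E.map m
            rw [Category.id_comp, Category.assoc, ← subF_map_ι E K hK m, ← Category.assoc, h] } }
  have hl₀ : ∀ j, hcE.lift s' ≫ cE.π.app j = s.π.app j ≫ (K j).subschemeι := fun j => hcE.fac s' j
  have hle : (⨆ j, (K j).comap (cE.π.app j)) ≤ (hcE.lift s').ker := by
    refine iSup_le fun j => ?_
    rw [← Scheme.IdealSheafData.le_map_iff_comap_le, ← Scheme.Hom.ker_comp, hl₀ j]
    conv_lhs => rw [← (K j).ker_subschemeι]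
    exact Scheme.Hom.le_ker_comp _ _
  refine ⟨IsClosedImmersion.lift (⨆ j, (K j).comap (cE.π.app j)).subschemeι (hcE.lift s')
    (by rw [Scheme.IdealSheafData.ker_subschemeι]; exact hle), fun j => ?_⟩
  rw [← cancel_mono (K j).subschemeι, Category.assoc, subLimCone_π_ι, IsClosedImmersion.lift_fac_assoc, hl₀]

noncomputable def subLimCone_isLimit (hcE : IsLimit cE) : IsLimit (subLimCone E K hK cE) where
  lift s := (subLimCone_exists_lift E K hK cE hcE s).choose
  fac s j := (subLimCone_exists_lift E K hK cE hcE s).choose_spec j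
  uniq s m hm := by
    have hι : ∀ (q : s.pt ⟶ (subLimCone E K hK cE).pt) (j : J),
        (q ≫ (⨆ j, (K j).comap (cE.π.app j)).subschemeι) ≫ cE.π.app j =
          (q ≫ (subLimCone E K hK cE).π.app j) ≫ (K j).subschemeι := fun q j => by
      rw [Category.assoc, Category.assoc, subLimCone_π_ι]
    rw [← cancel_mono (⨆ j, (K j).comap (cE.π.app j)).subschemeι]
    refine hcE.hom_ext fun j => ?_
    rw [hι, hι, hm j, (subLimCone_exists_lift E K hK cE hcE s).choose_spec j]

include hK in
theorem isReduced_iSup_comap [IsCofiltered J] [∀ {i j : J} (m : i ⟶ j), IsAffineHom (E.map m)]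
    (hcE : IsLimit cE) (hred : ∀ j, IsReduced (K j).subscheme) :
    IsReduced (⨆ j, (K j).comap (cE.π.app j)).subscheme := by
  have haff : ∀ {i j : J} (m : i ⟶ j), IsAffineHom ((subF E K hK).map m) := fun {i j} m => by
    have h1 : IsAffineHom ((subF E K hK).map m ≫ (K j).subschemeι) := by
      rw [subF_map_ι]
      infer_instance
    exact IsAffineHom.of_comp _ (K j).subschemeι
  exact isReduced_of_isLimit (subF E K hK) (subLimCone E K hK cE) (subLimCone_isLimit E K hK cE hcE) hred

end SchemeLevel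

section Sheaves

variable {S : Scheme.{u}}

theorem mem_range_iff_of_isPullback {X Z : Sp S} (i : Z ⟶ X) {A WA : Over S} (α : (yon S).obj A ⟶ X)
    (jA : WA ⟶ A) (fA : (yon S).obj WA ⟶ Z) (sqA : IsPullback fA ((yon S).map jA) i α) (u : ↥A.left) :
    u ∈ Set.range jA.left ↔ Points.ofPt α u ∈ Set.range (Points.map i) := by
  constructor
  · rintro ⟨w, rfl⟩
    refine ⟨Points.ofPt fA w, ?_⟩
    calc Points.map i (Points.ofPt fA w) = Points.ofPt (fA ≫ i) w := Points.map_ofPt _ _ _
      _ = Points.ofPt ((yon S).map jA ≫ α) w := by rw [sqA.w]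
      _ = Points.ofPt α (jA.left w) := ofPt_yon_map_comp jA α w
  · rintro ⟨z, hz⟩
    obtain ⟨v, -, hv⟩ := exists_point_of_isPullback_yon sqA z u hz
    exact ⟨v, hv⟩

theorem ker_le_of_factor {X Z : Sp S} (i : Z ⟶ X) {A WA P : Over S} (α : (yon S).obj A ⟶ X) (jA : WA ⟶ A)
    (fA : (yon S).obj WA ⟶ Z) (sqA : IsPullback fA ((yon S).map jA) i α) (q : P ⟶ A)
    (σ : (yon S).obj P ⟶ Z) (hσ : σ ≫ i = (yon S).map q ≫ α) : jA.left.ker ≤ q.left.ker := by
  obtain ⟨w, hw⟩ := (yon S).map_surjective (sqA.lift σ ((yon S).map q) hσ)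
  have hw2 : w ≫ jA = q := (yon S).map_injective (by
    rw [Functor.map_comp, hw]; exact sqA.lift_snd _ _ _)
  have hw3 : w.left ≫ jA.left = q.left := congrArg CommaMorphism.left hw2
  rw [← hw3]
  exact Scheme.Hom.le_ker_comp _ _

/-- A morphism to the target of a monomorphism factors through it as soon as all its scheme valued points do. -/
theorem factor_of_forall_yon {W X Z : Sp S} (zι : Z ⟶ X) [Mono zι] (φ : W ⟶ X)
    (h : ∀ (T : Over S) (y : (yon S).obj T ⟶ W), ∃ σ : (yon S).obj T ⟶ Z, σ ≫ zι = y ≫ φ) :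
    ∃ l : W ⟶ Z, l ≫ zι = φ := by
  have hm : Mono (pullback.snd zι φ) := inferInstance
  have he : Epi (pullback.snd zι φ) := by
    rw [Groth.Agent.Lib.Helper15.epi_iff_locally_lift]
    intro T y
    refine ⟨⊤, (J S).top_mem T, fun T' g _ => ?_⟩
    obtain ⟨σ, hσ⟩ := h T' ((yon S).map g ≫ y)
    exact ⟨pullback.lift σ ((yon S).map g ≫ y) hσ, pullback.lift_snd _ _ _⟩
  have := isIso_of_mono_of_epi (pullback.snd zι φ)
  exact ⟨inv (pullback.snd zι φ) ≫ pullback.fst zι φ, by
    rw [Category.assoc, pullback.condition, IsIso.inv_hom_id_assoc]⟩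

/-- A point of the limit all of whose images lie in the closures of the images of `x` lies in the closure of
`x` (terminal index version). -/
theorem mem_closure_of_forall_stage {J : Type u} [SmallCategory J] [IsCofiltered J] {t : J}
    (ht : IsTerminal t) (D : J ⥤ Sp S) (hD : ∀ j, IsAlgSpace (D.obj j))
    (hDa : ∀ (i j : J) (φ : i ⟶ j), IsAffineMor (D.map φ)) (c : Cone D) (hc : IsLimit c)
    (x x' : Points c.pt)
    (h : ∀ j, Points.map (c.π.app j) x' ∈ closure {Points.map (c.π.app j) x}) : x' ∈ closure {x} := by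
  rw [mem_closure_iff]
  intro O hO hx'O
  obtain ⟨j, W, hW, hx'W, hsub⟩ := exists_open_stage ht D hD hDa c hc hO hx'O
  obtain ⟨y, hyW, hy⟩ := mem_closure_iff.1 (h j) W hW hx'W
  rw [Set.mem_singleton_iff] at hy
  exact ⟨x, hsub (by rw [Set.mem_preimage, ← hy]; exact hyW), rfl⟩

/-- **The crux**: a scheme valued point of the limit all of whose images factor through the reduced closures of
the images of `x` factors through the reduced closure of `x`. -/
theorem factor_closure {J : Type u} [SmallCategory J] [IsCofiltered J] {t : J} (ht : IsTerminal t)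
    (D : J ⥤ Sp S) (hD : ∀ j, IsAlgSpace (D.obj j)) (hDa : ∀ (i j : J) (φ : i ⟶ j), IsAffineMor (D.map φ))
    (c : Cone D) (hc : IsLimit c) (x : Points c.pt)
    {Z : Sp S} (zι : Z ⟶ c.pt) (hZ : IsRedInduced (closure {x}) zι)
    (Zs : J → Sp S) (ιs : ∀ j, Zs j ⟶ D.obj j)
    (hιs : ∀ j, IsRedInduced (closure {Points.map (c.π.app j) x}) (ιs j))
    (hfun : ∀ (i j : J) (φ : i ⟶ j), ∃ m : Zs i ⟶ Zs j, m ≫ ιs j = ιs i ≫ D.map φ)
    {T : Over S} (ψ : (yon S).obj T ⟶ c.pt)
    (hψ : ∀ j, ∃ σ : (yon S).obj T ⟶ Zs j, σ ≫ ιs j = ψ ≫ c.π.app j) :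
    ∃ σ : (yon S).obj T ⟶ Z, σ ≫ zι = ψ := by
  obtain ⟨U₀, g, hge, hgs⟩ := (hD t).atlas
  obtain ⟨L⟩ := nonempty_limChart ht D hD hDa c hc g
  have hae : ∀ j, RepWith @Etale (L.a j) := fun j =>
    MorphismProperty.of_isPullback (P := RepWith (S := S) @Etale) (L.a_sq j).flip hge
  have hfe : RepWith @Etale L.fst :=
    MorphismProperty.of_isPullback (P := RepWith (S := S) @Etale) L.a_sqlim.flip hge
  have hfs : RepWith @Surjective L.fst :=
    MorphismProperty.of_isPullback (P := RepWith (S := S) @Surjective) L.a_sqlim.flip hgs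
  -- closed subschemes of the charts
  choose A jA fA sqA using fun j => (hιs j).1.rep (L.a j)
  have hjcl : ∀ j, IsClosedImmersion (jA j).left := fun j => (hιs j).1.property _ _ _ (sqA j)
  obtain ⟨AZ, jZ, fZ, sqZ⟩ := hZ.1.rep L.fst
  have hjZcl : IsClosedImmersion jZ.left := hZ.1.property _ _ _ sqZ
  obtain ⟨K, hKdef⟩ : ∃ K : ∀ j, ((L.E ⋙ Over.forget S).obj j).IdealSheafData,
      ∀ j, K j = (jA j).left.ker := ⟨fun j => (jA j).left.ker, fun j => rfl⟩
  have hK : ∀ (i j : J) (m : i ⟶ j), (K j).comap ((L.E ⋙ Over.forget S).map m) ≤ K i := fun i j m => by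
    obtain ⟨μ, hμ⟩ := hfun i j m
    have h1 : (fA i ≫ μ) ≫ ιs j = (yon S).map (jA i ≫ L.E.map m) ≫ L.a j :=
      calc (fA i ≫ μ) ≫ ιs j = fA i ≫ (ιs i ≫ D.map m) := by rw [Category.assoc, hμ]
        _ = (fA i ≫ ιs i) ≫ D.map m := (Category.assoc _ _ _).symm
        _ = ((yon S).map (jA i) ≫ L.a i) ≫ D.map m := by rw [(sqA i).w]
        _ = (yon S).map (jA i) ≫ (L.a i ≫ D.map m) := Category.assoc _ _ _
        _ = (yon S).map (jA i) ≫ ((yon S).map (L.E.map m) ≫ L.a j) := by rw [L.a_nat m]
        _ = (yon S).map (jA i ≫ L.E.map m) ≫ L.a j := by rw [Functor.map_comp, Category.assoc]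
    have h2 := ker_le_of_factor (ιs j) (L.a j) (jA j) (fA j) (sqA j) (jA i ≫ L.E.map m) (fA i ≫ μ) h1
    have h3 : K j ≤ ((jA i).left ≫ (L.E ⋙ Over.forget S).map m).ker := by
      rw [hKdef j]; exact h2
    rw [Scheme.Hom.ker_comp, Scheme.IdealSheafData.le_map_iff_comap_le, ← hKdef i] at h3
    exact h3
  have hred : ∀ j, IsReduced (K j).subscheme := fun j => by
    rw [hKdef j]
    have := hjcl j
    have : IsReduced (A j).left := SchImg.isReduced_of_etale_of_isReducedSp (hιs j).2.2 (fA j)
      (MorphismProperty.of_isPullback (P := RepWith (S := S) @Etale) (sqA j).flip (hae j))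
    exact isReduced_of_isOpenImmersion (inv (jA j).left.toImage)
  have haff : ∀ {i j : J} (m : i ⟶ j), IsAffineHom ((L.E ⋙ Over.forget S).map m) := fun m => L.aff m
  obtain ⟨K', hK'⟩ : ∃ K' : ((Over.forget S).mapCone L.cE).pt.IdealSheafData,
      K' = ⨆ j, (K j).comap (((Over.forget S).mapCone L.cE).π.app j) := ⟨_, rfl⟩
  have hBred : IsReduced K'.subscheme := by
    rw [hK']
    exact isReduced_iSup_comap (L.E ⋙ Over.forget S) K hK ((Over.forget S).mapCone L.cE) L.hc₀ hred
  have hsupp : ∀ v : ↥((Over.forget S).mapCone L.cE).pt, v ∈ K'.support →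
      v ∈ (show ((Over.forget S).mapCone L.cE).pt.IdealSheafData from jZ.left.ker).support := by
    intro v hv
    rw [hK', Scheme.IdealSheafData.support_iSup, TopologicalSpace.Closeds.mem_iInf] at hv
    have hv' : ∀ j, (L.π j).left v ∈ Set.range (jA j).left := fun j => by
      have h1 := hv j
      rw [Scheme.IdealSheafData.support_comap, hKdef j] at h1
      have h2 : (L.π j).left v ∈ ((jA j).left.ker.support : Set _) := h1
      have := hjcl j
      rw [Scheme.Hom.support_ker, (jA j).left.isClosedEmbedding.isClosed_range.closure_eq] at h2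
      exact h2
    have hx' : Points.ofPt L.fst v ∈ closure {x} := by
      refine mem_closure_of_forall_stage ht D hD hDa c hc x _ (fun j => ?_)
      rw [L.map_π_ofPt' j v, ← (hιs j).2.1]
      exact (mem_range_iff_of_isPullback (ιs j) (L.a j) (jA j) (fA j) (sqA j) _).1 (hv' j)
    rw [← hZ.2.1] at hx'
    have hv'' : v ∈ Set.range jZ.left := (mem_range_iff_of_isPullback zι L.fst jZ fZ sqZ v).2 hx'
    have h4 : (show ↥L.cE.pt.left from v) ∈ (SetLike.coe jZ.left.ker.support : Set ↥L.cE.pt.left) := by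
      rw [Scheme.Hom.support_ker]
      exact subset_closure hv''
    exact h4
  have hle : (show ((Over.forget S).mapCone L.cE).pt.IdealSheafData from jZ.left.ker) ≤ K' :=
    le_of_isReduced_of_support_le _ _ hsupp
  -- the pullback of the point to the limit chart
  obtain ⟨P, e, ψU', sqψ⟩ := hfe.rep ψ
  obtain ⟨ψU, rfl⟩ := (yon S).map_surjective ψU'
  have he_et : Etale e.left := hfe.property _ _ _ sqψ
  have he_su : Surjective e.left := hfs.property _ _ _ sqψ
  have hepi : Epi ((yon S).map e) := epi_of_etale_surjective _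
    ((repWith_yon_map_iff @Etale e).2 he_et) ((repWith_yon_map_iff @Surjective e).2 he_su)
  have hle2 : K' ≤ ψU.left.ker := by
    rw [hK']
    refine iSup_le fun j => ?_
    obtain ⟨σj, hσj⟩ := hψ j
    have hσ' : ((yon S).map e ≫ σj) ≫ ιs j = (yon S).map (ψU ≫ L.π j) ≫ L.a j :=
      calc ((yon S).map e ≫ σj) ≫ ιs j = (yon S).map e ≫ (ψ ≫ c.π.app j) := by rw [Category.assoc, hσj]
        _ = ((yon S).map e ≫ ψ) ≫ c.π.app j := (Category.assoc _ _ _).symm
        _ = ((yon S).map ψU ≫ L.fst) ≫ c.π.app j := by rw [← sqψ.w]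
        _ = (yon S).map ψU ≫ (L.fst ≫ c.π.app j) := Category.assoc _ _ _
        _ = (yon S).map ψU ≫ ((yon S).map (L.π j) ≫ L.a j) := by rw [L.a_fst j]
        _ = (yon S).map (ψU ≫ L.π j) ≫ L.a j := by rw [Functor.map_comp, Category.assoc]
    have h2 := ker_le_of_factor (ιs j) (L.a j) (jA j) (fA j) (sqA j) (ψU ≫ L.π j)
      ((yon S).map e ≫ σj) hσ'
    have h3 : K j ≤ (ψU.left ≫ ((Over.forget S).mapCone L.cE).π.app j).ker := by
      rw [hKdef j]; exact h2
    rw [Scheme.Hom.ker_comp, Scheme.IdealSheafData.le_map_iff_comap_le] at h3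
    exact h3
  have hle3 : jZ.left.ker ≤ ψU.left.ker := hle.trans hle2
  let ℓ : P.left ⟶ AZ.left := IsClosedImmersion.lift jZ.left ψU.left hle3
  have hℓ : ℓ ≫ jZ.left = ψU.left := IsClosedImmersion.lift_fac _ _ _
  let ℓ' : P ⟶ AZ := Over.homMk ℓ (by rw [← Over.w jZ, ← Category.assoc, hℓ, Over.w ψU])
  have hℓ' : ℓ' ≫ jZ = ψU := by
    ext1
    exact hℓ
  have hmz : Mono zι := SchImg.mono_of_repWith_isClosedImmersion zι hZ.1
  refine SchImg.exists_lift_of_epi_mono ((yon S).map e) zι ψ ((yon S).map ℓ' ≫ fZ) ?_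
  rw [Category.assoc, sqZ.w, ← Category.assoc, ← Functor.map_comp, hℓ', sqψ.w]

end Sheaves

section Main

theorem main10075 (S : Scheme.{u}) {I : Type u} [SmallCategory I] [IsCofiltered I]
    (D : I ⥤ AlgSp.Sp S) (hD : ∀ i, AlgSp.IsAlgSpace (D.obj i))
    (hDa : ∀ (i j : I) (φ : i ⟶ j), AlgSp.IsAffineMor (D.map φ))
    (c : Cone D) (hc : IsLimit c)
    (hdec : ∀ i, AlgSp.IsDecent (D.obj i))
    (x : AlgSp.Points c.pt) :
    closure {x} = {x' | ∀ i, AlgSp.Points.map (c.π.app i) x' ∈ closure {AlgSp.Points.map (c.π.app i) x}} ∧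
    ∀ (Z : AlgSp.Space S) (zι : Z.obj ⟶ c.pt) (_ : AlgSp.IsRedInduced (closure {x}) zι)
      (DZ : I ⥤ AlgSp.Sp S) (_ : ∀ i, AlgSp.IsAlgSpace (DZ.obj i)) (ι : DZ ⟶ D)
      (_ : ∀ i, AlgSp.IsRedInduced (closure {AlgSp.Points.map (c.π.app i) x}) (ι.app i))
      (ξ : (Functor.const I).obj Z.obj ⟶ DZ) (_ : ∀ i, ξ.app i ≫ ι.app i = zι ≫ c.π.app i),
      Nonempty (IsLimit (Cone.mk Z.obj ξ)) := by
  refine ⟨?_, ?_⟩
  · ext x'
    rw [Set.mem_ofPred_eq]
    constructor
    · intro hx' i
      refine map_mem_closure (Points.continuous_map (c.π.app i)) hx' (fun y hy => ?_)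
      rw [Set.mem_singleton_iff] at hy ⊢
      rw [hy]
    · intro h
      have htop := main10058 S D hD hDa c hc hdec
      have hs : ∀ i, Points.map (c.π.app i) x ⤳ Points.map (c.π.app i) x' := fun i =>
        specializes_iff_mem_closure.2 (h i)
      rw [← specializes_iff_mem_closure]
      show @nhds _ (Points.topologicalSpace c.pt) x ≤ @nhds _ (Points.topologicalSpace c.pt) x'
      rw [htop, nhds_iInf, nhds_iInf]
      refine iInf_mono fun i => ?_
      rw [nhds_induced, nhds_induced]
      exact Filter.comap_mono (hs i)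
  · intro Z zι hZ DZ hDZ ι hι ξ hξ
    obtain ⟨i₀⟩ := IsCofiltered.nonempty (C := I)
    obtain ⟨hc'⟩ := isLimit_whisker_over D c hc i₀
    have hmz : Mono zι := SchImg.mono_of_repWith_isClosedImmersion zι hZ.1
    have hmι : ∀ i, Mono (ι.app i) := fun i => SchImg.mono_of_repWith_isClosedImmersion _ (hι i).1
    have key : ∀ s : Cone DZ, ∃ l : s.pt ⟶ Z.obj, l ≫ zι = hc.lift ((Cone.postcompose ι).obj s) := by
      intro s
      refine factor_of_forall_yon zι _ (fun T y => ?_)
      refine factor_closure (Over.mkIdTerminal (X := i₀)) (Over.forget i₀ ⋙ D) (fun j => hD j.left)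
        (fun i j φ => hDa _ _ φ.left) (c.whisker (Over.forget i₀)) hc' x zι hZ
        (fun j => DZ.obj j.left) (fun j => ι.app j.left) (fun j => hι j.left)
        (fun i j φ => ⟨DZ.map φ.left, ι.naturality φ.left⟩)
        (y ≫ hc.lift ((Cone.postcompose ι).obj s)) (fun j => ⟨y ≫ s.π.app j.left, ?_⟩)
      exact (Category.assoc _ _ _).trans
        ((congrArg (y ≫ ·) (hc.fac ((Cone.postcompose ι).obj s) j.left).symm).trans
          (Category.assoc _ _ _).symm)
    refine ⟨{ lift := fun s => (key s).choose, fac := fun s i => ?_, uniq := fun s m hm => ?_ }⟩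
    · rw [← cancel_mono (ι.app i)]
      exact (Category.assoc _ _ _).trans ((congrArg ((key s).choose ≫ ·) (hξ i)).trans
        ((Category.assoc _ _ _).symm.trans ((congrArg (· ≫ c.π.app i) (key s).choose_spec).trans
          (hc.fac ((Cone.postcompose ι).obj s) i))))
    · rw [← cancel_mono zι, (key s).choose_spec]
      refine hc.hom_ext fun i => ?_
      exact (Category.assoc _ _ _).trans ((congrArg (m ≫ ·) (hξ i).symm).trans
        ((Category.assoc _ _ _).symm.trans ((congrArg (· ≫ ι.app i) (hm i)).trans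
          (hc.fac ((Cone.postcompose ι).obj s) i).symm)))

end Main

end Groth.Agent.Lib.Helper6.ClosureLim
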