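import Mathlib

/-!
# Dimension of local rings along a morphism of locally Noetherian schemes

* `exists_prime_le_height_le`: for `φ : B → A` with `A` Noetherian, `p0` a prime of `A` over `q`,
  there is a prime `P ≤ p0` over `q` with `ht P ≤ ht q` (a minimal prime over `q A`).
* `exists_point_dim_le`: every point `x0` of `X` has a generization `x` in the same fibre of
  `f : X ⟶ Y` with `dim 𝒪_{X,x} ≤ dim 𝒪_{Y,f x0}`.
* `dim_stalk_le_of_flat`: for `f` flat, `dim 𝒪_{Y,f x} ≤ dim 𝒪_{X,x}`.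
-/

set_option autoImplicit false
universe u
open CategoryTheory AlgebraicGeometry TopologicalSpace

namespace Groth.Agent.Lib.Helper6.CodimSurj

lemma exists_prime_le_height_le {A B : Type*} [CommRing A] [CommRing B] [IsNoetherianRing A]
    [IsNoetherianRing B] (φ : B →+* A) (q : Ideal B) [q.IsPrime] (p0 : Ideal A) [p0.IsPrime] (h : p0.comap φ = q) :
    ∃ P : Ideal A, P.IsPrime ∧ P ≤ p0 ∧ P.comap φ = q ∧ P.height ≤ q.height := by
  have hle : q.map φ ≤ p0 := by rw [Ideal.map_le_iff_le_comap, h]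
  obtain ⟨P, hP, hPp0⟩ := Ideal.exists_minimalPrimes_le hle
  have hPprime : P.IsPrime := hP.1.1
  have hcomap : P.comap φ = q :=
    le_antisymm (h ▸ Ideal.comap_mono hPp0) (Ideal.map_le_iff_le_comap.1 hP.1.2)
  refine ⟨P, hPprime, hPp0, hcomap, ?_⟩
  letI : Algebra B A := φ.toAlgebra
  have hlo : P.LiesOver q := ⟨hcomap.symm⟩
  have h1 := Ideal.height_le_height_add_of_liesOver q P
  have h0 : (P.map (Ideal.Quotient.mk (q.map (algebraMap B A)))).height = 0 := by
    have hprime' : (P.map (Ideal.Quotient.mk (q.map (algebraMap B A)))).IsPrime :=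
      Ideal.map_isPrime_of_surjective Ideal.Quotient.mk_surjective
        (by rw [Ideal.mk_ker]; exact hP.1.2)
    rw [Ideal.height_eq_zero_iff]
    have key := Ideal.minimalPrimes_map_of_surjective
      (f := Ideal.Quotient.mk (q.map (algebraMap B A))) Ideal.Quotient.mk_surjective
      (q.map (algebraMap B A))
    rw [Ideal.mk_ker, sup_idem, Ideal.map_quotient_self] at key
    change _ ∈ (⊥ : Ideal _).minimalPrimes
    rw [key]
    exact ⟨P, hP, rfl⟩
  rw [h0, add_zero] at h1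
  exact h1

lemma exists_point_dim_le_aux {X Y : Scheme.{u}} (f : X ⟶ Y) [IsLocallyNoetherian X]
    [IsLocallyNoetherian Y] (x0 : X)
    (V : Y.Opens) (hV : IsAffineOpen V) (U : X.Opens) (hU : IsAffineOpen U) (e : U ≤ f ⁻¹ᵁ V)
    (hx0 : x0 ∈ U) :
    ∃ x : X, f x = f x0 ∧
      ringKrullDim (X.presheaf.stalk x) ≤ ringKrullDim (Y.presheaf.stalk (f x0)) := by
  have : IsNoetherianRing Γ(X, U) := IsLocallyNoetherian.component_noetherian ⟨U, hU⟩
  have : IsNoetherianRing Γ(Y, V) := IsLocallyNoetherian.component_noetherian ⟨V, hV⟩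
  have hcomap := IsAffineOpen.comap_primeIdealOf_appLE V hV U hU e hx0
  obtain ⟨P, hPprime, hPp0, hPq, hht⟩ := exists_prime_le_height_le (f.appLE V U e).hom
    (hV.primeIdealOf ⟨f x0, e hx0⟩).asIdeal (hU.primeIdealOf ⟨x0, hx0⟩).asIdeal
    (by rw [← hcomap]; rfl)
  refine ⟨hU.fromSpec ⟨P, hPprime⟩, ?_, ?_⟩
  · have h1 : (hU.fromSpec ≫ f) ⟨P, hPprime⟩ =
        (Spec.map (f.appLE V U e) ≫ hV.fromSpec) ⟨P, hPprime⟩ := by
      rw [IsAffineOpen.SpecMap_appLE_fromSpec f hV hU e]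
    rw [Scheme.Hom.comp_apply, Scheme.Hom.comp_apply] at h1
    rw [h1]
    have h2 : Spec.map (f.appLE V U e) ⟨P, hPprime⟩ = hV.primeIdealOf ⟨f x0, e hx0⟩ :=
      PrimeSpectrum.ext hPq
    rw [h2]
    exact hV.fromSpec_primeIdealOf ⟨f x0, e hx0⟩
  · have hxU : hU.fromSpec ⟨P, hPprime⟩ ∈ U := (hU.isoSpec.inv _).2
    have loc1 := hU.isLocalization_stalk' ⟨P, hPprime⟩ hxU
    rw [@IsLocalization.AtPrime.ringKrullDim_eq_height _ _ P hPprime
      (X.presheaf.stalk (hU.fromSpec ⟨P, hPprime⟩)) _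
      (TopCat.Presheaf.algebra_section_stalk X.presheaf ⟨hU.fromSpec ⟨P, hPprime⟩, hxU⟩) loc1]
    have loc2 := hV.isLocalization_stalk ⟨f x0, e hx0⟩
    rw [@IsLocalization.AtPrime.ringKrullDim_eq_height _ _
      (hV.primeIdealOf ⟨f x0, e hx0⟩).asIdeal _ (Y.presheaf.stalk (f x0)) _
      (TopCat.Presheaf.algebra_section_stalk Y.presheaf ⟨f x0, e hx0⟩) loc2]
    exact_mod_cast hht

lemma exists_point_dim_le_aux2 {X Y : Scheme.{u}} (f : X ⟶ Y) [IsLocallyNoetherian X]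
    [IsLocallyNoetherian Y] (x0 : X)
    (V : Y.Opens) (hV : IsAffineOpen V) (hx0 : f x0 ∈ V) :
    ∃ x : X, f x = f x0 ∧
      ringKrullDim (X.presheaf.stalk x) ≤ ringKrullDim (Y.presheaf.stalk (f x0)) := by
  obtain ⟨_, ⟨U, hU, rfl⟩, hxU, hUV⟩ := X.isBasis_affineOpens.exists_subset_of_mem_open
    (show x0 ∈ ((f ⁻¹ᵁ V : X.Opens) : Set X) from hx0) (f ⁻¹ᵁ V).isOpen
  exact exists_point_dim_le_aux f x0 V hV U hU hUV hxU

/-- Every point `x0` of `X` has a point `x` in the same fibre with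
`dim 𝒪_{X,x} ≤ dim 𝒪_{Y,f x0}`. -/
lemma exists_point_dim_le {X Y : Scheme.{u}} (f : X ⟶ Y) [IsLocallyNoetherian X]
    [IsLocallyNoetherian Y] (x0 : X) :
    ∃ x : X, f x = f x0 ∧
      ringKrullDim (X.presheaf.stalk x) ≤ ringKrullDim (Y.presheaf.stalk (f x0)) := by
  obtain ⟨_, ⟨V, hV, rfl⟩, hyV, -⟩ := Y.isBasis_affineOpens.exists_subset_of_mem_open
    (Set.mem_univ (f x0)) isOpen_univ
  exact exists_point_dim_le_aux2 f x0 V hV hyV

/-- For a flat morphism, `dim 𝒪_{Y,f x} ≤ dim 𝒪_{X,x}`. -/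
lemma dim_stalk_le_of_flat {X Y : Scheme.{u}} (f : X ⟶ Y) [Flat f] [IsLocallyNoetherian X]
    [IsLocallyNoetherian Y] (x : X) : ringKrullDim (Y.presheaf.stalk (f x)) ≤ ringKrullDim (X.presheaf.stalk x) := by
  have hflat := Flat.stalkMap f x
  have hloc : IsLocalHom (f.stalkMap x).hom := inferInstance
  let _ : Algebra (Y.presheaf.stalk (f x)) (X.presheaf.stalk x) := (f.stalkMap x).hom.toAlgebra
  have hfl : Module.Flat (Y.presheaf.stalk (f x)) (X.presheaf.stalk x) := hflat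
  have hcm : (IsLocalRing.maximalIdeal (X.presheaf.stalk x)).comap (f.stalkMap x).hom =
      IsLocalRing.maximalIdeal (Y.presheaf.stalk (f x)) :=
    ((IsLocalRing.local_hom_TFAE (f.stalkMap x).hom).out 0 4).mp hloc
  have hlo : (IsLocalRing.maximalIdeal (X.presheaf.stalk x)).LiesOver
      (IsLocalRing.maximalIdeal (Y.presheaf.stalk (f x))) := ⟨hcm.symm⟩
  have h := Ideal.height_eq_height_add_of_liesOver_of_hasGoingDown
    (IsLocalRing.maximalIdeal (Y.presheaf.stalk (f x)))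
    (IsLocalRing.maximalIdeal (X.presheaf.stalk x))
  rw [← IsLocalRing.maximalIdeal_height_eq_ringKrullDim,
    ← IsLocalRing.maximalIdeal_height_eq_ringKrullDim, h]
  exact_mod_cast le_self_add

end Groth.Agent.Lib.Helper6.CodimSurj
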