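import Mathlib

/-!
Helper6: a combinatorial homotopy between morphisms of simplicial objects induces equal maps on the
cohomology of the alternating coface map complexes obtained by applying a contravariant functor.
-/

set_option autoImplicit false

namespace Groth.Agent.Lib.Helper6.CofaceHomotopy

open CategoryTheory Opposite AlgebraicTopology Simplicial

universe v u v' u'

variable {B : Type u} [Category.{v} B] {D : Type u'} [Category.{v'} D] [Preadditive D]

/-- the simplicial object of `Dᵒᵖ` attached to a simplicial object `K` of `B` and `F : Bᵒᵖ ⥤ D`. -/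
abbrev sOp (K : SimplicialObject B) (F : Bᵒᵖ ⥤ D) : SimplicialObject Dᵒᵖ :=
  ((SimplicialObject.whiskering B Dᵒᵖ).obj F.rightOp).obj K

/-- the unopposed alternating face map complex, as a cochain complex. -/
noncomputable abbrev unopCx (K : SimplicialObject B) (F : Bᵒᵖ ⥤ D) : CochainComplex D ℕ :=
  ((alternatingFaceMapComplex Dᵒᵖ).obj (sOp K F)).unop

/-- the map of unopposed complexes induced by a morphism of simplicial objects. -/
noncomputable abbrev unopMap {K L : SimplicialObject B} (c : L ⟶ K) (F : Bᵒᵖ ⥤ D) :
    unopCx K F ⟶ unopCx L F :=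
  (HomologicalComplex.unopFunctor D (ComplexShape.down ℕ)).map
    ((alternatingFaceMapComplex Dᵒᵖ).map
      (((SimplicialObject.whiskering B Dᵒᵖ).obj F.rightOp).map c)).op

/-- comparison of the unopposed alternating face map complex with the alternating coface map
complex. -/
noncomputable def cofaceIso (K : SimplicialObject B) (F : Bᵒᵖ ⥤ D) :
    unopCx K F ≅ (alternatingCofaceMapComplex D).obj (K.rightOp ⋙ F) :=
  HomologicalComplex.Hom.isoOfComponents (fun n => Iso.refl _) (by
    rintro i j (rfl : i + 1 = j)
    refine (Category.id_comp _).trans (Eq.trans ?_ (Category.comp_id _).symm)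
    show (AlternatingCofaceMapComplex.obj (K.rightOp ⋙ F)).d i (i + 1) =
      (((alternatingFaceMapComplex Dᵒᵖ).obj (sOp K F)).d (i + 1) i).unop
    rw [alternatingFaceMapComplex_obj_d]
    refine Eq.trans (CochainComplex.of_d
      (fun n => (K.rightOp ⋙ F : CosimplicialObject D).obj ⦋n⦌)
      (AlternatingCofaceMapComplex.objD (K.rightOp ⋙ F : CosimplicialObject D)) i) ?_
    simp only [AlternatingFaceMapComplex.objD, AlternatingCofaceMapComplex.objD, unop_sum,
      unop_zsmul]
    rfl)

theorem map_eq {K L : SimplicialObject B} (c : L ⟶ K) (F : Bᵒᵖ ⥤ D) :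
    (alternatingCofaceMapComplex D).map
      (((Functor.whiskeringLeft _ _ _).map (NatTrans.rightOp c)).app F) =
    (cofaceIso K F).inv ≫ unopMap c F ≫ (cofaceIso L F).hom := by
  ext n
  simp only [HomologicalComplex.comp_f, cofaceIso, HomologicalComplex.Hom.isoOfComponents_inv_f,
    HomologicalComplex.Hom.isoOfComponents_hom_f, Iso.refl_inv, Iso.refl_hom]
  refine Eq.trans ?_ ((Category.id_comp _).trans (Category.comp_id _)).symm
  rfl

theorem homologyMap_eq_of_homotopy [CategoryWithHomology D] {K L : SimplicialObject B}
    (a b : L ⟶ K) (H : SimplicialObject.Homotopy a b) (F : Bᵒᵖ ⥤ D) (p : ℕ) :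
    HomologicalComplex.homologyMap ((alternatingCofaceMapComplex D).map
      (((Functor.whiskeringLeft _ _ _).map (NatTrans.rightOp a)).app F)) p =
    HomologicalComplex.homologyMap ((alternatingCofaceMapComplex D).map
      (((Functor.whiskeringLeft _ _ _).map (NatTrans.rightOp b)).app F)) p := by
  have h₁ : Homotopy (unopMap a F) (unopMap b F) :=
    ((H.whiskerRight F.rightOp).toChainHomotopy).unop
  have h₂ := ((h₁.compRight (cofaceIso L F).hom).compLeft (cofaceIso K F).inv)
  rw [map_eq a F, map_eq b F]
  exact h₂.homologyMap_eq p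

end Groth.Agent.Lib.Helper6.CofaceHomotopy
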