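import Mathlib

/-!
# Torsion in the coinvariants of an automorphism of prime order of a `ℤ_ℓ`-lattice
-/

set_option autoImplicit false

noncomputable section

namespace Groth.Agent.Lib.Helper6.CoinvTors

universe u

variable (ℓ : ℕ) [Fact ℓ.Prime]

theorem card_quot_span : Nat.card (ℤ_[ℓ] ⧸ (Ideal.span {(ℓ : ℤ_[ℓ])})) = ℓ := by
  rw [← PadicInt.maximalIdeal_eq_span_p, ← PadicInt.ker_toZMod]
  rw [Nat.card_congr (RingHom.quotientKerEquivOfSurjective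
    (ZMod.ringHom_surjective (PadicInt.toZMod (p := ℓ)))).toEquiv, Nat.card_zmod]

theorem card_quot_pi (c : ℕ) :
    Nat.card ((Fin c → ℤ_[ℓ]) ⧸ (Submodule.pi Set.univ
      (fun _ : Fin c => (Ideal.span {(ℓ : ℤ_[ℓ])} : Submodule ℤ_[ℓ] ℤ_[ℓ])))) = ℓ ^ c := by
  classical
  rw [Nat.card_congr (Submodule.quotientPi _).toEquiv, Nat.card_pi]
  have h : ∀ i : Fin c,
      Nat.card (ℤ_[ℓ] ⧸ (Ideal.span {(ℓ : ℤ_[ℓ])} : Submodule ℤ_[ℓ] ℤ_[ℓ])) = ℓ :=
    fun _ => card_quot_span ℓ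
  rw [Finset.prod_congr rfl (fun i _ => h i), Finset.prod_const, Finset.card_univ,
    Fintype.card_fin]

theorem card_quot_smul (W : Type*) [AddCommGroup W] [Module ℤ_[ℓ] W] [Module.Free ℤ_[ℓ] W]
    [Module.Finite ℤ_[ℓ] W] :
    Nat.card (W ⧸ LinearMap.range ((ℓ : ℤ_[ℓ]) • (LinearMap.id : W →ₗ[ℤ_[ℓ]] W))) =
      ℓ ^ Module.finrank ℤ_[ℓ] W := by
  classical
  obtain ⟨e, -⟩ : ∃ e : W ≃ₗ[ℤ_[ℓ]] (Fin (Module.finrank ℤ_[ℓ] W) → ℤ_[ℓ]), True :=
    ⟨(Module.finBasis ℤ_[ℓ] W).equivFun, trivial⟩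
  have hmap : Submodule.map (e : W →ₗ[ℤ_[ℓ]] (Fin (Module.finrank ℤ_[ℓ] W) → ℤ_[ℓ]))
      (LinearMap.range ((ℓ : ℤ_[ℓ]) • (LinearMap.id : W →ₗ[ℤ_[ℓ]] W))) =
      Submodule.pi Set.univ (fun _ : Fin (Module.finrank ℤ_[ℓ] W) =>
        (Ideal.span {(ℓ : ℤ_[ℓ])} : Submodule ℤ_[ℓ] ℤ_[ℓ])) := by
    ext x
    constructor
    · intro hx
      obtain ⟨y, hy, rfl⟩ := Submodule.mem_map.1 hx
      obtain ⟨w, rfl⟩ := LinearMap.mem_range.1 hy
      rw [Submodule.mem_pi]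
      intro i _
      have h1 : (e : W →ₗ[ℤ_[ℓ]] (Fin (Module.finrank ℤ_[ℓ] W) → ℤ_[ℓ]))
          (((ℓ : ℤ_[ℓ]) • (LinearMap.id : W →ₗ[ℤ_[ℓ]] W)) w) i = (ℓ : ℤ_[ℓ]) * e w i := by
        rw [LinearMap.smul_apply, LinearMap.id_apply, LinearEquiv.coe_coe, map_smul,
          Pi.smul_apply, smul_eq_mul]
      rw [h1]
      exact Ideal.mul_mem_right _ _ (Ideal.mem_span_singleton_self _)
    · intro hx
      rw [Submodule.mem_pi] at hx
      have h1 : ∀ i, ∃ a, a * (ℓ : ℤ_[ℓ]) = x i :=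
        fun i => Ideal.mem_span_singleton'.1 (hx i (Set.mem_univ i))
      choose y hy using h1
      refine Submodule.mem_map.2 ⟨(ℓ : ℤ_[ℓ]) • e.symm y,
        LinearMap.mem_range.2 ⟨e.symm y, ?_⟩, ?_⟩
      · rw [LinearMap.smul_apply, LinearMap.id_apply]
      · rw [LinearEquiv.coe_coe, map_smul, LinearEquiv.apply_symm_apply]
        funext i
        rw [Pi.smul_apply, smul_eq_mul, mul_comm, hy i]
  rw [Nat.card_congr (Submodule.Quotient.equiv _ _ e hmap).toEquiv]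
  exact card_quot_pi ℓ _

theorem tf {W : Type*} [AddCommGroup W] [Module ℤ_[ℓ] W] [Module.Free ℤ_[ℓ] W]
    [Module.Finite ℤ_[ℓ] W] (a : ℤ_[ℓ]) (w : W) (ha : a ≠ 0) (h : a • w = 0) : w = 0 := by
  rcases smul_eq_zero.1 h with h | h
  · exact absurd h ha
  · exact h

theorem ell_ne_zero : (ℓ : ℤ_[ℓ]) ≠ 0 :=
  Nat.cast_ne_zero.2 (Fact.out : ℓ.Prime).ne_zero

/-- an endomorphism with `φ² + ℓ φ + ℓ = 0` of a lattice of rank `c` has cokernel of order
`ℓ^(c/2)` -/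
theorem card_quot_quadratic (W : Type*) [AddCommGroup W] [Module ℤ_[ℓ] W] [Module.Free ℤ_[ℓ] W]
    [Module.Finite ℤ_[ℓ] W] (φ : W →ₗ[ℤ_[ℓ]] W)
    (h : ∀ w, φ (φ w) + (ℓ : ℤ_[ℓ]) • φ w + (ℓ : ℤ_[ℓ]) • w = 0) :
    ∃ r : ℕ, r * 2 = Module.finrank ℤ_[ℓ] W ∧ Nat.card (W ⧸ LinearMap.range φ) = ℓ ^ r := by
  have hinj : Function.Injective φ.toAddMonoidHom := by
    rw [injective_iff_map_eq_zero]
    intro w hw
    have hw' : φ w = 0 := hw
    have h1 := h w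
    rw [hw', map_zero, smul_zero, zero_add, zero_add] at h1
    exact tf ℓ _ w (ell_ne_zero ℓ) h1
  have hrange : LinearMap.range ((ℓ : ℤ_[ℓ]) • (LinearMap.id : W →ₗ[ℤ_[ℓ]] W)) =
      LinearMap.range (φ ∘ₗ φ) := by
    ext x
    constructor
    · intro hx
      obtain ⟨w, rfl⟩ := LinearMap.mem_range.1 hx
      refine LinearMap.mem_range.2 ⟨φ w + ((ℓ : ℤ_[ℓ]) - 1) • w, ?_⟩
      rw [LinearMap.comp_apply, LinearMap.smul_apply, LinearMap.id_apply, map_add, map_add,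
        map_smul, map_smul]
      have h1 := h (φ w)
      have h2 := h w
      calc φ (φ (φ w)) + ((ℓ : ℤ_[ℓ]) - 1) • φ (φ w)
          = (φ (φ (φ w)) + (ℓ : ℤ_[ℓ]) • φ (φ w) + (ℓ : ℤ_[ℓ]) • φ w) -
            (φ (φ w) + (ℓ : ℤ_[ℓ]) • φ w + (ℓ : ℤ_[ℓ]) • w) + (ℓ : ℤ_[ℓ]) • w := by module
        _ = (ℓ : ℤ_[ℓ]) • w := by rw [h1, h2]; module
    · intro hx
      obtain ⟨w, rfl⟩ := LinearMap.mem_range.1 hx
      refine LinearMap.mem_range.2 ⟨-φ w - w, ?_⟩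
      rw [LinearMap.comp_apply, LinearMap.smul_apply, LinearMap.id_apply]
      have h2 := h w
      calc (ℓ : ℤ_[ℓ]) • (-φ w - w)
          = φ (φ w) - (φ (φ w) + (ℓ : ℤ_[ℓ]) • φ w + (ℓ : ℤ_[ℓ]) • w) := by module
        _ = φ (φ w) := by rw [h2, sub_zero]
  have h2 : (LinearMap.range (φ ∘ₗ φ)).toAddSubgroup =
      AddSubgroup.map φ.toAddMonoidHom (LinearMap.range φ).toAddSubgroup := by
    ext x
    rw [Submodule.mem_toAddSubgroup, LinearMap.mem_range, AddSubgroup.mem_map]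
    constructor
    · rintro ⟨w, rfl⟩
      exact ⟨φ w, (Submodule.mem_toAddSubgroup _).2 (LinearMap.mem_range_self φ w), rfl⟩
    · rintro ⟨y, hy, rfl⟩
      obtain ⟨w, rfl⟩ := LinearMap.mem_range.1 ((Submodule.mem_toAddSubgroup _).1 hy)
      exact ⟨w, rfl⟩
  have h1 := AddSubgroup.index_map_of_injective (LinearMap.range φ).toAddSubgroup
    (f := φ.toAddMonoidHom) hinj
  have h3 : φ.toAddMonoidHom.range = (LinearMap.range φ).toAddSubgroup :=
    (LinearMap.range_toAddSubgroup φ).symm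
  rw [← h2, h3] at h1
  obtain ⟨n, hn⟩ : ∃ n, n = Nat.card (W ⧸ LinearMap.range φ) := ⟨_, rfl⟩
  have e1 : (LinearMap.range φ).toAddSubgroup.index = n := hn.symm
  have e2 : (LinearMap.range (φ ∘ₗ φ)).toAddSubgroup.index =
      ℓ ^ Module.finrank ℤ_[ℓ] W := by
    rw [← hrange]
    exact card_quot_smul ℓ W
  rw [e1, e2] at h1
  have hp : ℓ.Prime := Fact.out
  have hdvd : n ∣ ℓ ^ Module.finrank ℤ_[ℓ] W := ⟨n, h1⟩
  obtain ⟨r, _, hr⟩ := (Nat.dvd_prime_pow hp).1 hdvd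
  refine ⟨r, ?_, hn ▸ hr⟩
  rw [hr, ← pow_add] at h1
  have h4 := Nat.pow_right_injective hp.two_le h1
  omega

section Core

variable {M : Type u} [AddCommGroup M] [Module ℤ_[ℓ] M] [Module.Free ℤ_[ℓ] M]
  [Module.Finite ℤ_[ℓ] M]

theorem core (f P : Module.End ℤ_[ℓ] M)
    (hfP : ∀ m, f (P m) = 0) (hPf : ∀ m, P (f m) = 0)
    (hker : ∀ m, f m = 0 → P m = m)
    (hℓ : ∀ m, P m = 0 → ∃ m', P m' = 0 ∧ f m' = (ℓ : ℤ_[ℓ]) • m)
    (hcard : ∀ (f' : LinearMap.ker P →ₗ[ℤ_[ℓ]] LinearMap.ker P), (∀ x, (f' x : M) = f x) →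
      ∃ r : ℕ, r * (ℓ - 1) = Module.finrank ℤ_[ℓ] (LinearMap.ker P) ∧
        Nat.card (LinearMap.ker P ⧸ LinearMap.range f') = ℓ ^ r)
    (c : ℕ) (hc : c = Module.finrank ℤ_[ℓ] M - Module.finrank ℤ_[ℓ] (LinearMap.ker f)) :
    (∀ x ∈ Submodule.torsion ℤ_[ℓ] (M ⧸ LinearMap.range f), (ℓ : ℤ_[ℓ]) • x = 0) ∧
      ∃ r : ℕ, r * (ℓ - 1) = c ∧
        Nat.card (Submodule.torsion ℤ_[ℓ] (M ⧸ LinearMap.range f)) = ℓ ^ r := by
  have hPP : ∀ m, P (P m) = P m := fun m => hker (P m) (hfP m)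
  obtain ⟨f', hf'⟩ : ∃ f' : LinearMap.ker P →ₗ[ℤ_[ℓ]] LinearMap.ker P,
      ∀ x, (f' x : M) = f x :=
    ⟨f.restrict (fun x _ => LinearMap.mem_ker.2 (hPf x)), fun x => rfl⟩
  obtain ⟨g, hg⟩ : ∃ g : LinearMap.ker P →ₗ[ℤ_[ℓ]] (M ⧸ LinearMap.range f),
      ∀ x, g x = Submodule.Quotient.mk (x : M) :=
    ⟨(LinearMap.range f).mkQ ∘ₗ (LinearMap.ker P).subtype, fun x => rfl⟩
  have hmemT : ∀ x ∈ Submodule.torsion ℤ_[ℓ] (M ⧸ LinearMap.range f),
      ∃ m, P m = 0 ∧ x = Submodule.Quotient.mk m := by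
    intro x hx
    obtain ⟨a, ha⟩ := (Submodule.mem_torsion_iff x).1 hx
    obtain ⟨m, rfl⟩ := Submodule.Quotient.mk_surjective _ x
    have ha0 : (a : ℤ_[ℓ]) ≠ 0 := nonZeroDivisors.ne_zero a.2
    rw [Submonoid.smul_def, ← Submodule.Quotient.mk_smul, Submodule.Quotient.mk_eq_zero] at ha
    obtain ⟨m0, hm0⟩ := ha
    have h2 : (a : ℤ_[ℓ]) • P m = 0 := by rw [← map_smul, ← hm0, hPf]
    exact ⟨m, tf ℓ _ _ ha0 h2, rfl⟩
  have hkill : ∀ m, P m = 0 →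
      (ℓ : ℤ_[ℓ]) • (Submodule.Quotient.mk m : M ⧸ LinearMap.range f) = 0 := by
    intro m hm
    obtain ⟨m', _, hm'⟩ := hℓ m hm
    rw [← Submodule.Quotient.mk_smul, Submodule.Quotient.mk_eq_zero, ← hm']
    exact LinearMap.mem_range_self f m'
  have hT : Submodule.torsion ℤ_[ℓ] (M ⧸ LinearMap.range f) = LinearMap.range g := by
    ext x
    constructor
    · intro hx
      obtain ⟨m, hm, rfl⟩ := hmemT x hx
      exact LinearMap.mem_range.2 ⟨⟨m, LinearMap.mem_ker.2 hm⟩, hg _⟩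
    · intro hx
      obtain ⟨y, rfl⟩ := LinearMap.mem_range.1 hx
      rw [Submodule.mem_torsion_iff]
      refine ⟨⟨(ℓ : ℤ_[ℓ]), mem_nonZeroDivisors_of_ne_zero (ell_ne_zero ℓ)⟩, ?_⟩
      rw [Submonoid.smul_def, hg]
      exact hkill _ (LinearMap.mem_ker.1 y.2)
  have hkerg : LinearMap.ker g = LinearMap.range f' := by
    ext x
    rw [LinearMap.mem_ker, LinearMap.mem_range, hg, Submodule.Quotient.mk_eq_zero]
    constructor
    · rintro ⟨m, hm⟩
      have hm' : P (m - P m) = 0 := by rw [map_sub, hPP, sub_self]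
      refine ⟨⟨m - P m, LinearMap.mem_ker.2 hm'⟩, Subtype.ext ?_⟩
      rw [hf']
      show f (m - P m) = x
      rw [map_sub, hfP, sub_zero, hm]
    · rintro ⟨y, rfl⟩
      rw [hf']
      exact LinearMap.mem_range_self f _
  have hrank : Module.finrank ℤ_[ℓ] (LinearMap.ker P) = c := by
    have h1 := Submodule.finrank_quotient_add_finrank (LinearMap.ker P)
    have h2 : Module.finrank ℤ_[ℓ] (M ⧸ LinearMap.ker P) =
        Module.finrank ℤ_[ℓ] (LinearMap.range P) := (LinearMap.quotKerEquivRange P).finrank_eq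
    have h3 : LinearMap.ker f = LinearMap.range P := by
      ext m
      rw [LinearMap.mem_ker, LinearMap.mem_range]
      constructor
      · intro hm
        exact ⟨m, hker m hm⟩
      · rintro ⟨y, rfl⟩
        exact hfP y
    rw [h3] at hc
    omega
  refine ⟨?_, ?_⟩
  · intro x hx
    obtain ⟨m, hm, rfl⟩ := hmemT x hx
    exact hkill m hm
  · obtain ⟨r, hr1, hr2⟩ := hcard f' hf'
    refine ⟨r, by rw [hr1, hrank], ?_⟩
    rw [hT, ← Nat.card_congr (LinearMap.quotKerEquivRange g).toEquiv, hkerg]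
    exact hr2

end Core

theorem main599 (M : Type u) [AddCommGroup M] [Module ℤ_[ℓ] M] [Module.Free ℤ_[ℓ] M]
    [Module.Finite ℤ_[ℓ] M]
    (A : M ≃ₗ[ℤ_[ℓ]] M) (hA : A ^ ℓ = 1) (f : Module.End ℤ_[ℓ] M)
    (hf : f = (A : M →ₗ[ℤ_[ℓ]] M) - 1)
    (hcase : (ℓ = 2 ∧ ∃ B : Module.End ℤ_[ℓ] M, f = (2 : ℤ_[ℓ]) • B) ∨
      (ℓ = 2 ∧ ∃ B : Module.End ℤ_[ℓ] M, f ^ 2 = (4 : ℤ_[ℓ]) • B) ∨
      (ℓ = 3 ∧ ∃ B : Module.End ℤ_[ℓ] M, f ^ 2 = (3 : ℤ_[ℓ]) • B))
    (c : ℕ) (hc : c = Module.finrank ℤ_[ℓ] M - Module.finrank ℤ_[ℓ] (LinearMap.ker f)) :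
    (∀ x ∈ Submodule.torsion ℤ_[ℓ] (M ⧸ LinearMap.range f), (ℓ : ℤ_[ℓ]) • x = 0) ∧
      ∃ r : ℕ, r * (ℓ - 1) = c ∧
        Nat.card (Submodule.torsion ℤ_[ℓ] (M ⧸ LinearMap.range f)) = ℓ ^ r := by
  have ha : (A : M →ₗ[ℤ_[ℓ]] M) ^ ℓ = 1 := by
    have h := congrArg (LinearEquiv.automorphismGroup.toLinearMapMonoidHom
      (R := ℤ_[ℓ]) (M := M)) hA
    rw [map_pow, map_one] at h
    exact h
  obtain ⟨a, haA⟩ : ∃ a : Module.End ℤ_[ℓ] M, a = (A : M →ₗ[ℤ_[ℓ]] M) := ⟨_, rfl⟩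
  rw [← haA] at ha hf
  have hfm : ∀ m, f m = a m - m := by
    intro m
    rw [hf, LinearMap.sub_apply, Module.End.one_apply]
  have hff : ∀ m, f (f m) = a (a m) - (2 : ℤ_[ℓ]) • a m + m := by
    intro m
    rw [hfm (f m), hfm m, map_sub]
    module
  -- the case `ℓ = 2`
  have key2 : ℓ = 2 → ∀ B : Module.End ℤ_[ℓ] M, (∀ m, f m = (2 : ℤ_[ℓ]) • B m) →
      ((∀ x ∈ Submodule.torsion ℤ_[ℓ] (M ⧸ LinearMap.range f), (ℓ : ℤ_[ℓ]) • x = 0) ∧
      ∃ r : ℕ, r * (ℓ - 1) = c ∧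
        Nat.card (Submodule.torsion ℤ_[ℓ] (M ⧸ LinearMap.range f)) = ℓ ^ r) := by
    intro h2 B hB
    have hℓ2 : (ℓ : ℤ_[ℓ]) = 2 := by exact_mod_cast congrArg (Nat.cast : ℕ → ℤ_[ℓ]) h2
    have ha2 : ∀ m, a (a m) = m := by
      intro m
      have h : a ^ 2 = 1 := (congrArg (fun n => a ^ n) h2).symm.trans ha
      have h' := LinearMap.congr_fun h m
      rw [pow_two, Module.End.mul_apply, Module.End.one_apply] at h'
      exact h'
    have hff2 : ∀ m, f (f m) = -((2 : ℤ_[ℓ]) • f m) := by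
      intro m
      rw [hff, ha2, hfm]
      module
    have hBB : ∀ m, B (B m) = -B m := by
      intro m
      have e1 : f (f m) = (4 : ℤ_[ℓ]) • B (B m) := by
        rw [hB (f m), hB m, map_smul, smul_smul]
        norm_num
      have h1 : (4 : ℤ_[ℓ]) • (B (B m) + B m) = 0 := by
        calc (4 : ℤ_[ℓ]) • (B (B m) + B m)
            = (4 : ℤ_[ℓ]) • B (B m) + (4 : ℤ_[ℓ]) • B m := smul_add _ _ _
          _ = f (f m) + (4 : ℤ_[ℓ]) • B m := by rw [e1]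
          _ = 0 := by rw [hff2 m, hB m]; module
      exact eq_neg_of_add_eq_zero_left (tf ℓ _ _ (by norm_num) h1)
    obtain ⟨P, hPm⟩ : ∃ P : Module.End ℤ_[ℓ] M, ∀ m, P m = m + B m :=
      ⟨1 + B, fun m => by rw [LinearMap.add_apply, Module.End.one_apply]⟩
    have hBker : ∀ m, P m = 0 → B m = -m := by
      intro m hm
      rw [hPm] at hm
      exact (neg_eq_of_add_eq_zero_right hm).symm
    refine core ℓ f P ?_ ?_ ?_ ?_ ?_ c hc
    · intro m
      rw [hB, hPm, map_add, hBB]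
      module
    · intro m
      rw [hPm, hB, map_smul, hBB]
      module
    · intro m hm
      rw [hB] at hm
      have h1 : B m = 0 := tf ℓ _ _ two_ne_zero hm
      rw [hPm, h1, add_zero]
    · intro m hm
      refine ⟨-m, ?_, ?_⟩
      · rw [map_neg, hm, neg_zero]
      · rw [hB, map_neg, hBker m hm, hℓ2]
        module
    · intro f' hf'
      refine ⟨Module.finrank ℤ_[ℓ] (LinearMap.ker P), ?_, ?_⟩
      · have h1 : ℓ - 1 = 1 := by omega
        rw [h1, mul_one]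
      · have hval : ∀ y : LinearMap.ker P, (f' y : M) = -((ℓ : ℤ_[ℓ]) • (y : M)) := by
          intro y
          rw [hf', hB, hBker _ (LinearMap.mem_ker.1 y.2), hℓ2]
          module
        have hr : LinearMap.range f' = LinearMap.range
            ((ℓ : ℤ_[ℓ]) • (LinearMap.id : LinearMap.ker P →ₗ[ℤ_[ℓ]] LinearMap.ker P)) := by
          ext x
          rw [LinearMap.mem_range, LinearMap.mem_range]
          constructor
          · rintro ⟨y, rfl⟩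
            refine ⟨-y, Subtype.ext ?_⟩
            rw [LinearMap.smul_apply, LinearMap.id_apply, hval, Submodule.coe_smul,
              Submodule.coe_neg]
            module
          · rintro ⟨y, rfl⟩
            refine ⟨-y, Subtype.ext ?_⟩
            rw [LinearMap.smul_apply, LinearMap.id_apply, hval, Submodule.coe_smul,
              Submodule.coe_neg]
            module
        rw [hr]
        exact card_quot_smul ℓ _
  -- the case `ℓ = 3`
  have key3 : ℓ = 3 → ∀ B : Module.End ℤ_[ℓ] M, (∀ m, f (f m) = (3 : ℤ_[ℓ]) • B m) →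
      ((∀ x ∈ Submodule.torsion ℤ_[ℓ] (M ⧸ LinearMap.range f), (ℓ : ℤ_[ℓ]) • x = 0) ∧
      ∃ r : ℕ, r * (ℓ - 1) = c ∧
        Nat.card (Submodule.torsion ℤ_[ℓ] (M ⧸ LinearMap.range f)) = ℓ ^ r) := by
    intro h3 B hB
    have hℓ3 : (ℓ : ℤ_[ℓ]) = 3 := by exact_mod_cast congrArg (Nat.cast : ℕ → ℤ_[ℓ]) h3
    have ha3 : ∀ m, a (a (a m)) = m := by
      intro m
      have h : a ^ 3 = 1 := (congrArg (fun n => a ^ n) h3).symm.trans ha
      have h' := LinearMap.congr_fun h m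
      rw [pow_succ, pow_two, Module.End.mul_apply, Module.End.mul_apply,
        Module.End.one_apply] at h'
      exact h'
    obtain ⟨P, hPm⟩ : ∃ P : Module.End ℤ_[ℓ] M, ∀ m, P m = B m + a m :=
      ⟨B + a, fun m => by rw [LinearMap.add_apply]⟩
    have h3P : ∀ m, (3 : ℤ_[ℓ]) • P m = a (a m) + a m + m := by
      intro m
      rw [hPm, smul_add, ← hB, hff]
      module
    have hΦ : ∀ m, f (f m) + (3 : ℤ_[ℓ]) • f m + (3 : ℤ_[ℓ]) • m = (3 : ℤ_[ℓ]) • P m := by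
      intro m
      rw [h3P, hff, hfm]
      module
    have hfP : ∀ m, f (P m) = 0 := by
      intro m
      have h1 : (3 : ℤ_[ℓ]) • f (P m) = 0 := by
        rw [← map_smul, h3P, hfm, map_add, map_add, ha3]
        module
      exact tf ℓ _ _ (by norm_num) h1
    have hPf : ∀ m, P (f m) = 0 := by
      intro m
      have h1 : (3 : ℤ_[ℓ]) • P (f m) = 0 := by
        rw [h3P, hfm, map_sub, map_sub, ha3]
        module
      exact tf ℓ _ _ (by norm_num) h1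
    have hker : ∀ m, f m = 0 → P m = m := by
      intro m hm
      rw [hfm] at hm
      have h1 : a m = m := sub_eq_zero.1 hm
      have h2 : (3 : ℤ_[ℓ]) • (P m - m) = 0 := by
        rw [smul_sub, h3P, h1, h1]
        module
      exact sub_eq_zero.1 (tf ℓ _ _ (by norm_num) h2)
    refine core ℓ f P hfP hPf hker ?_ ?_ c hc
    · intro m hm
      refine ⟨-(f m) - (3 : ℤ_[ℓ]) • m, ?_, ?_⟩
      · rw [map_sub, map_neg, map_smul, hPf, hm, smul_zero, neg_zero, sub_zero]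
      · have h1 := hΦ m
        rw [hm, smul_zero] at h1
        rw [map_sub, map_neg, map_smul, hℓ3]
        calc -f (f m) - (3 : ℤ_[ℓ]) • f m
            = (3 : ℤ_[ℓ]) • m - (f (f m) + (3 : ℤ_[ℓ]) • f m + (3 : ℤ_[ℓ]) • m) := by module
          _ = (3 : ℤ_[ℓ]) • m := by rw [h1, sub_zero]
    · intro f' hf'
      have h1 : ∀ w : LinearMap.ker P,
          f' (f' w) + (ℓ : ℤ_[ℓ]) • f' w + (ℓ : ℤ_[ℓ]) • w = 0 := by
        intro w
        apply Subtype.ext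
        rw [Submodule.coe_add, Submodule.coe_add, Submodule.coe_smul, Submodule.coe_smul,
          hf', hf', hℓ3, hΦ, LinearMap.mem_ker.1 w.2, smul_zero]
        rfl
      obtain ⟨r, hr1, hr2⟩ := card_quot_quadratic ℓ _ f' h1
      refine ⟨r, ?_, hr2⟩
      have h2 : ℓ - 1 = 2 := by omega
      rw [h2, hr1]
  rcases hcase with ⟨h2, B, hB⟩ | ⟨h2, B, hB⟩ | ⟨h3, B, hB⟩
  · refine key2 h2 B ?_
    intro m
    rw [hB, LinearMap.smul_apply]
  · have hℓ2 : (ℓ : ℤ_[ℓ]) = 2 := by exact_mod_cast congrArg (Nat.cast : ℕ → ℤ_[ℓ]) h2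
    have ha2 : ∀ m, a (a m) = m := by
      intro m
      have h : a ^ 2 = 1 := (congrArg (fun n => a ^ n) h2).symm.trans ha
      have h' := LinearMap.congr_fun h m
      rw [pow_two, Module.End.mul_apply, Module.End.one_apply] at h'
      exact h'
    refine key2 h2 (-B) ?_
    intro m
    have h1 : f (f m) = (4 : ℤ_[ℓ]) • B m := by
      have h' := LinearMap.congr_fun hB m
      rw [pow_two, Module.End.mul_apply, LinearMap.smul_apply] at h'
      exact h'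
    have h2' : f (f m) = -((2 : ℤ_[ℓ]) • f m) := by
      rw [hff, ha2, hfm]
      module
    have h3 : (2 : ℤ_[ℓ]) • (f m + (2 : ℤ_[ℓ]) • B m) = 0 := by
      calc (2 : ℤ_[ℓ]) • (f m + (2 : ℤ_[ℓ]) • B m)
          = (4 : ℤ_[ℓ]) • B m - (-((2 : ℤ_[ℓ]) • f m)) := by module
        _ = 0 := by rw [← h2', h1, sub_self]
    have h4 := tf ℓ _ _ two_ne_zero h3
    rw [LinearMap.neg_apply, smul_neg]
    exact eq_neg_of_add_eq_zero_left h4
  · refine key3 h3 B ?_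
    intro m
    have h' := LinearMap.congr_fun hB m
    rw [pow_two, Module.End.mul_apply, LinearMap.smul_apply] at h'
    exact h'

end Groth.Agent.Lib.Helper6.CoinvTors
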