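import Mathlib

/-!
# Minimal primes of a directed colimit of rings along faithfully flat transition maps
-/

set_option autoImplicit false
set_option linter.unusedSectionVars false

universe u

namespace Groth.Agent.Lib.Helper6.ColimMin

variable {ι : Type u} [Preorder ι] [IsDirected ι (· ≤ ·)] [Nonempty ι] (G : ι → Type u)
  [∀ i, CommRing (G i)] (f : ∀ i j, i ≤ j → G i →+* G j)
  [DirectedSystem G fun i j h => f i j h]

/-- The canonical map to the colimit. -/
noncomputable abbrev ofL (i : ι) : G i →+* Ring.DirectLimit G fun i j h => ⇑(f i j h) :=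
  Ring.DirectLimit.of G (fun i j h => ⇑(f i j h)) i

lemma ofL_f {i j : ι} (h : i ≤ j) (x : G i) : ofL G f j (f i j h x) = ofL G f i x :=
  Ring.DirectLimit.of_f h x

lemma f_f {i j k : ι} (h₁ : i ≤ j) (h₂ : j ≤ k) (x : G i) :
    f j k h₂ (f i j h₁ x) = f i k (h₁.trans h₂) x :=
  DirectedSystem.map_map (f := fun i j h => f i j h) h₁ h₂ x

lemma f_self (i : ι) (x : G i) : f i i le_rfl x = x :=
  DirectedSystem.map_self (f := fun i j h => f i j h) x

/-- Two elements at stage `j` with the same image in the colimit agree at a later stage. -/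
lemma exists_eq_of_ofL_eq {j : ι} (x y : G j) (h : ofL G f j x = ofL G f j y) :
    ∃ (k : ι) (hjk : j ≤ k), f j k hjk x = f j k hjk y := by
  have h0 : ofL G f j (x - y) = 0 := by rw [map_sub, h, sub_self]
  obtain ⟨k, hjk, hk⟩ := Ring.DirectLimit.of.zero_exact h0
  exact ⟨k, hjk, by rw [← sub_eq_zero, ← map_sub]; exact hk⟩

/-- A finite family of elements of the colimit comes from a common stage above `i`. -/
lemma exists_lift_family (i : ι) {l : ℕ}
    (x : Fin l → Ring.DirectLimit G fun i j h => ⇑(f i j h)) :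
    ∃ (j : ι) (_ : i ≤ j) (x' : Fin l → G j), ∀ k, ofL G f j (x' k) = x k := by
  classical
  choose jk xk hxk using fun k => Ring.DirectLimit.exists_of (x k)
  obtain ⟨j, hj⟩ := Finset.exists_le (insert i (Finset.univ.image jk))
  have hij : i ≤ j := hj i (Finset.mem_insert_self _ _)
  have hjk : ∀ k, jk k ≤ j := fun k =>
    hj _ (Finset.mem_insert_of_mem (Finset.mem_image_of_mem _ (Finset.mem_univ k)))
  exact ⟨j, hij, fun k => f (jk k) j (hjk k) (xk k), fun k => by rw [ofL_f, hxk]⟩


/-- The colimit is flat over each stage when all transition maps are flat. -/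
theorem flat_ofL (hf : ∀ i j (h : i ≤ j), letI := (f i j h).toAlgebra; Module.Flat (G i) (G j))
    (i : ι) : letI := (ofL G f i).toAlgebra
    Module.Flat (G i) (Ring.DirectLimit G fun i j h => ⇑(f i j h)) := by
  let _ := (ofL G f i).toAlgebra
  apply Module.Flat.of_forall_isTrivialRelation
  intro l a x hax
  have hsmul : ∀ (c : G i) (z : Ring.DirectLimit G fun i j h => ⇑(f i j h)),
      c • z = ofL G f i c * z := fun c z => by
    rw [Algebra.smul_def, RingHom.algebraMap_toAlgebra]
  obtain ⟨j, hij, x', hx'⟩ := exists_lift_family G f i x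
  have h0 : ofL G f j (∑ k, f i j hij (a k) * x' k) = ofL G f j 0 := by
    rw [map_sum, map_zero, ← hax]
    refine Finset.sum_congr rfl fun k _ => ?_
    rw [map_mul, ofL_f, hx', hsmul]
  obtain ⟨j', hjj', hj'⟩ := exists_eq_of_ofL_eq G f _ _ h0
  rw [map_zero, map_sum] at hj'
  have hij' : i ≤ j' := hij.trans hjj'
  let _ := (f i j' hij').toAlgebra
  have hflat : Module.Flat (G i) (G j') := hf i j' hij'
  have hsmul' : ∀ (c : G i) (z : G j'), c • z = f i j' hij' c * z := fun c z => by
    rw [Algebra.smul_def, RingHom.algebraMap_toAlgebra]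
  have hrel : ∑ k, a k • f j j' hjj' (x' k) = 0 := by
    rw [← hj']
    refine Finset.sum_congr rfl fun k _ => ?_
    rw [hsmul', map_mul, f_f]
  have htriv : Module.IsTrivialRelation a (fun k => f j j' hjj' (x' k)) :=
    Module.Flat.isTrivialRelation_of_sum_smul_eq_zero hrel
  obtain ⟨k', A, y, hy1, hy2⟩ := htriv
  have hgoal : ∀ k, x k = ∑ m, A k m • ofL G f j' (y m) := by
    intro k
    have h1 : x k = ofL G f j' (f j j' hjj' (x' k)) := by rw [ofL_f, hx']
    have h2 : f j j' hjj' (x' k) = ∑ m, A k m • y m := hy1 k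
    rw [h1, h2, map_sum]
    refine Finset.sum_congr rfl fun m _ => ?_
    rw [hsmul, hsmul', map_mul, ofL_f]
  exact ⟨k', A, fun m => ofL G f j' (y m), hgoal, hy2⟩

/-- Elements of an extended ideal in the colimit come from an extended ideal at a finite stage. -/
lemma exists_of_mem_map (i : ι) (I : Ideal (G i))
    (z : Ring.DirectLimit G fun i j h => ⇑(f i j h)) (hz : z ∈ I.map (ofL G f i)) :
    ∃ (j : ι) (hij : i ≤ j) (y : G j), y ∈ I.map (f i j hij) ∧ ofL G f j y = z := by
  refine Submodule.span_induction (p := fun z _ => ∃ (j : ι) (hij : i ≤ j) (y : G j),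
    y ∈ I.map (f i j hij) ∧ ofL G f j y = z) ?_ ?_ ?_ ?_ hz
  · rintro _ ⟨a, ha, rfl⟩
    exact ⟨i, le_rfl, a, by
      have : I.map (f i i le_rfl) = I := by
        have h1 : f i i le_rfl = RingHom.id (G i) := RingHom.ext fun x => f_self G f i x
        rw [h1, Ideal.map_id]
      rw [this]; exact ha, rfl⟩
  · obtain ⟨i0⟩ := ‹Nonempty ι›
    exact ⟨i, le_rfl, 0, Ideal.zero_mem _, map_zero _⟩
  · rintro z₁ z₂ - - ⟨j₁, h₁, y₁, hy₁, rfl⟩ ⟨j₂, h₂, y₂, hy₂, rfl⟩
    obtain ⟨j, hj₁, hj₂⟩ := exists_ge_ge j₁ j₂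
    refine ⟨j, h₁.trans hj₁, f j₁ j hj₁ y₁ + f j₂ j hj₂ y₂, Ideal.add_mem _ ?_ ?_, ?_⟩
    · have := Ideal.mem_map_of_mem (f j₁ j hj₁) hy₁
      rw [Ideal.map_map] at this
      have h3 : (f j₁ j hj₁).comp (f i j₁ h₁) = f i j (h₁.trans hj₁) :=
        RingHom.ext fun x => f_f G f h₁ hj₁ x
      rw [h3] at this
      exact this
    · have := Ideal.mem_map_of_mem (f j₂ j hj₂) hy₂
      rw [Ideal.map_map] at this
      have h3 : (f j₂ j hj₂).comp (f i j₂ h₂) = f i j (h₁.trans hj₁) :=
        RingHom.ext fun x => f_f G f h₂ hj₂ x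
      rw [h3] at this
      exact this
    · rw [map_add, ofL_f, ofL_f]
  · rintro r z - ⟨j₁, h₁, y₁, hy₁, rfl⟩
    obtain ⟨j₂, r', rfl⟩ := Ring.DirectLimit.exists_of r
    obtain ⟨j, hj₁, hj₂⟩ := exists_ge_ge j₁ j₂
    refine ⟨j, h₁.trans hj₁, f j₂ j hj₂ r' * f j₁ j hj₁ y₁, Ideal.mul_mem_left _ _ ?_, ?_⟩
    · have := Ideal.mem_map_of_mem (f j₁ j hj₁) hy₁
      rw [Ideal.map_map] at this
      have h3 : (f j₁ j hj₁).comp (f i j₁ h₁) = f i j (h₁.trans hj₁) :=
        RingHom.ext fun x => f_f G f h₁ hj₁ x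
      rw [h3] at this
      exact this
    · rw [map_mul, ofL_f, ofL_f]
      rfl

section FF

variable (hf : ∀ i j (h : i ≤ j), letI := (f i j h).toAlgebra; Module.FaithfullyFlat (G i) (G j))

include hf in
/-- Contraction of the extension of an ideal to the colimit. -/
lemma comap_map_ofL (i : ι) (I : Ideal (G i)) : (I.map (ofL G f i)).comap (ofL G f i) = I := by
  refine le_antisymm ?_ Ideal.le_comap_map
  intro a ha
  obtain ⟨j, hij, y, hy, hya⟩ := exists_of_mem_map G f i I _ (Ideal.mem_comap.mp ha)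
  rw [← ofL_f G f hij a] at hya
  obtain ⟨j', hjj', hj'⟩ := exists_eq_of_ofL_eq G f _ _ hya
  rw [f_f] at hj'
  have h1 : f j j' hjj' y ∈ I.map (f i j' (hij.trans hjj')) := by
    have := Ideal.mem_map_of_mem (f j j' hjj') hy
    rw [Ideal.map_map] at this
    have h3 : (f j j' hjj').comp (f i j hij) = f i j' (hij.trans hjj') :=
      RingHom.ext fun x => f_f G f hij hjj' x
    rw [h3] at this
    exact this
  rw [hj'] at h1
  let _ := (f i j' (hij.trans hjj')).toAlgebra
  have hff : Module.FaithfullyFlat (G i) (G j') := hf i j' (hij.trans hjj')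
  have h2 := Ideal.comap_map_eq_self_of_faithfullyFlat (B := G j') I
  rw [← h2]
  exact h1

include hf in
/-- Every prime of a stage is the contraction of a prime of the colimit. -/
lemma exists_prime_comap_eq (i : ι) (p : Ideal (G i)) [p.IsPrime] :
    ∃ q : Ideal (Ring.DirectLimit G fun i j h => ⇑(f i j h)), q.IsPrime ∧
      q.comap (ofL G f i) = p :=
  (Ideal.comap_map_eq_self_iff_of_isPrime p).mp (comap_map_ofL G f hf i p)

include hf in
/-- Going down: the contraction of a minimal prime of the colimit is a minimal prime. -/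
lemma comap_mem_minimalPrimes (i : ι)
    (q : Ideal (Ring.DirectLimit G fun i j h => ⇑(f i j h)))
    (hq : q ∈ minimalPrimes (Ring.DirectLimit G fun i j h => ⇑(f i j h))) :
    q.comap (ofL G f i) ∈ minimalPrimes (G i) := by
  let _ := (ofL G f i).toAlgebra
  have hflat : Module.Flat (G i) (Ring.DirectLimit G fun i j h => ⇑(f i j h)) :=
    flat_ofL G f (fun i j h => by
      let _ := (f i j h).toAlgebra
      have := hf i j h
      infer_instance) i
  have hqp : q.IsPrime := hq.1.1
  have hcp : (q.comap (ofL G f i)).IsPrime := Ideal.comap_isPrime _ _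
  refine ⟨⟨hcp, bot_le⟩, ?_⟩
  rintro p' ⟨hp', -⟩ hle
  have hlo : q.LiesOver (q.comap (ofL G f i)) := ⟨rfl⟩
  obtain ⟨P, hPq, hPp, hPlo⟩ := Ideal.exists_ideal_le_liesOver_of_le (p := p')
    (q := q.comap (ofL G f i)) q hle
  have hPq' : q ≤ P := hq.2 ⟨hPp, bot_le⟩ hPq
  have hPeq : P = q := le_antisymm hPq hPq'
  have h1 : p' = P.under (G i) := hPlo.over
  rw [h1, hPeq]
  exact le_rfl

include hf in
/-- Every minimal prime of a stage is the contraction of a minimal prime of the colimit. -/
lemma exists_minimalPrime_comap_eq (i : ι) (p : Ideal (G i)) (hp : p ∈ minimalPrimes (G i)) :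
    ∃ q ∈ minimalPrimes (Ring.DirectLimit G fun i j h => ⇑(f i j h)),
      q.comap (ofL G f i) = p := by
  have hpp : p.IsPrime := hp.1.1
  obtain ⟨q, hq, hqp⟩ := exists_prime_comap_eq G f hf i p
  obtain ⟨q', hq', hq'q⟩ := Ideal.exists_minimalPrimes_le (I := ⊥) (J := q) bot_le
  refine ⟨q', hq', ?_⟩
  have h1 := comap_mem_minimalPrimes G f hf i q' hq'
  have h2 : q'.comap (ofL G f i) ≤ p := hqp ▸ Ideal.comap_mono hq'q
  exact le_antisymm h2 (hp.2 h1.1 h2)

include hf in
lemma encard_minimalPrimes_le (i : ι) :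
    (minimalPrimes (G i)).encard ≤
      (minimalPrimes (Ring.DirectLimit G fun i j h => ⇑(f i j h))).encard := by
  have hsub : minimalPrimes (G i) ⊆ (Ideal.comap (ofL G f i)) ''
      (minimalPrimes (Ring.DirectLimit G fun i j h => ⇑(f i j h))) := by
    intro p hp
    obtain ⟨q, hq, hqp⟩ := exists_minimalPrime_comap_eq G f hf i p hp
    exact ⟨q, hq, hqp⟩
  exact (Set.encard_le_encard hsub).trans (Set.encard_image_le _ _)

include hf in
/-- A finite set of minimal primes of the colimit is separated at some stage. -/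
lemma exists_injOn_comap (t : Set (Ideal (Ring.DirectLimit G fun i j h => ⇑(f i j h))))
    (ht : t.Finite) (htm : t ⊆ minimalPrimes (Ring.DirectLimit G fun i j h => ⇑(f i j h))) :
    ∃ i : ι, Set.InjOn (Ideal.comap (ofL G f i)) t := by
  classical
  have hsep : ∀ q ∈ t, ∀ q' ∈ t, q ≠ q' → ∃ (j : ι) (y : G j), ofL G f j y ∈ q ∧ ofL G f j y ∉ q' := by
    intro q hq q' hq' hne
    have hnle : ¬ q ≤ q' := by
      intro hle
      exact hne (le_antisymm hle ((htm hq').2 (htm hq).1 hle))
    obtain ⟨z, hzq, hzq'⟩ := Set.not_subset.mp hnle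
    obtain ⟨j, y, rfl⟩ := Ring.DirectLimit.exists_of z
    exact ⟨j, y, hzq, hzq'⟩
  let stage : Ideal (Ring.DirectLimit G fun i j h => ⇑(f i j h)) →
      Ideal (Ring.DirectLimit G fun i j h => ⇑(f i j h)) → ι := fun q q' =>
    if h : ∃ (j : ι) (y : G j), ofL G f j y ∈ q ∧ ofL G f j y ∉ q' then h.choose
    else Classical.arbitrary ι
  obtain ⟨i, hi⟩ := Finset.exists_le
    ((ht.toFinset ×ˢ ht.toFinset).image (fun pr => stage pr.1 pr.2))
  refine ⟨i, ?_⟩
  intro q hq q' hq' heq
  by_contra hne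
  have h := hsep q hq q' hq' hne
  have hst : stage q q' = h.choose := dif_pos h
  have hle : h.choose ≤ i := by
    rw [← hst]
    apply hi
    refine Finset.mem_image.mpr ⟨(q, q'), ?_, rfl⟩
    exact Finset.mem_product.mpr ⟨ht.mem_toFinset.mpr hq, ht.mem_toFinset.mpr hq'⟩
  obtain ⟨y, hy1, hy2⟩ := h.choose_spec
  have h1 : f h.choose i hle y ∈ q.comap (ofL G f i) := by
    rw [Ideal.mem_comap, ofL_f]; exact hy1
  have h2 : f h.choose i hle y ∉ q'.comap (ofL G f i) := by
    rw [Ideal.mem_comap, ofL_f]; exact hy2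
  have heq' : q.comap (ofL G f i) = q'.comap (ofL G f i) := heq
  rw [heq'] at h1
  exact h2 h1

include hf in
/-- The number of minimal primes of the colimit is the supremum of the numbers at finite stages. -/
theorem encard_minimalPrimes_eq_iSup :
    (minimalPrimes (Ring.DirectLimit G fun i j h => ⇑(f i j h))).encard =
      ⨆ i, (minimalPrimes (G i)).encard := by
  refine le_antisymm ?_ (iSup_le fun i => encard_minimalPrimes_le G f hf i)
  rw [← ENat.forall_natCast_le_iff_le]
  intro n hn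
  obtain ⟨t, htm, htn⟩ := Set.exists_subset_encard_eq hn
  have htfin : t.Finite := Set.finite_of_encard_eq_coe htn
  obtain ⟨i, hi⟩ := exists_injOn_comap G f hf t htfin htm
  have h1 : (Ideal.comap (ofL G f i) '' t).encard = n := by rw [hi.encard_image, htn]
  have h2 : Ideal.comap (ofL G f i) '' t ⊆ minimalPrimes (G i) := by
    rintro _ ⟨q, hq, rfl⟩
    exact comap_mem_minimalPrimes G f hf i q (htm hq)
  calc (n : ℕ∞) = (Ideal.comap (ofL G f i) '' t).encard := h1.symm
    _ ≤ (minimalPrimes (G i)).encard := Set.encard_le_encard h2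
    _ ≤ ⨆ i, (minimalPrimes (G i)).encard := le_iSup (fun i => (minimalPrimes (G i)).encard) i

end FF

end Groth.Agent.Lib.Helper6.ColimMin
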