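import Mathlib
import Groth.Prelude.Def_FSch3

/-!
# Completions of a local homomorphism with finite closed fibre

* the `mS`-adic and `n`-adic completions of `S` agree when `n ^ t ≤ mS ≤ n`;
* the completion of `S` is finite over the completion of `R`.
-/

set_option autoImplicit false

namespace Groth.Agent.Lib.Helper6.ComplFinite

open TensorProduct

universe u

noncomputable section

section Pi

theorem mem_smul_top_pi_iff {A : Type*} [CommRing A] {r : ℕ} (J : Ideal A) (v : Fin r → A) :
    v ∈ J • (⊤ : Submodule A (Fin r → A)) ↔ ∀ i, v i ∈ J := by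
  constructor
  · intro hv
    refine Submodule.smul_induction_on hv ?_ ?_
    · intro a ha w _ i
      rw [Pi.smul_apply, smul_eq_mul]
      exact J.mul_mem_right (w i) ha
    · intro v1 v2 h1 h2 i
      rw [Pi.add_apply]
      exact J.add_mem (h1 i) (h2 i)
  · intro hv
    have h : v = ∑ i, v i • (Pi.single i (1 : A) : Fin r → A) := by
      ext j
      simp [Finset.sum_apply, Pi.single_apply]
    rw [h]
    exact Submodule.sum_mem _ fun i _ => Submodule.smul_mem_smul (hv i) Submodule.mem_top

theorem isPrecomplete_pi {A : Type*} [CommRing A] (I : Ideal A) [IsPrecomplete I A] (r : ℕ) :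
    IsPrecomplete I (Fin r → A) := by
  refine ⟨fun s hs => ?_⟩
  have hcomp : ∀ i, ∃ ℓ : A, ∀ n, s n i ≡ ℓ [SMOD (I ^ n • ⊤ : Submodule A A)] := by
    intro i
    apply IsPrecomplete.prec (I := I) (M := A) inferInstance (f := fun n => s n i)
    intro m n hmn
    rw [SModEq.sub_mem]
    have h1 := SModEq.sub_mem.mp (hs hmn)
    rw [mem_smul_top_pi_iff] at h1
    have h2 := h1 i
    rw [smul_eq_mul, Ideal.mul_top]
    exact h2
  choose ℓ hℓ using hcomp
  refine ⟨ℓ, fun n => ?_⟩
  rw [SModEq.sub_mem, mem_smul_top_pi_iff]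
  intro i
  have h1 := SModEq.sub_mem.mp (hℓ i n)
  rw [smul_eq_mul, Ideal.mul_top] at h1
  exact h1

end Pi

section Fib

variable (R S : Type u) [CommRing R] [CommRing S] [Algebra R S] (m : Ideal R) [m.IsMaximal]

theorem ker_le (s : S) (hs : (1 : m.ResidueField) ⊗ₜ[R] s = 0) :
    s ∈ m.map (algebraMap R S) := by
  have hex : Function.Exact (Submodule.subtype m) (Algebra.linearMap R m.ResidueField) := by
    intro r
    rw [Algebra.linearMap_apply, Ideal.algebraMap_residueField_eq_zero]
    constructor
    · intro hr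
      exact ⟨⟨r, hr⟩, rfl⟩
    · rintro ⟨x, rfl⟩
      exact x.2
  have hsurj : Function.Surjective (Algebra.linearMap R m.ResidueField) :=
    Ideal.algebraMap_residueField_surjective m
  have hex2 := rTensor_exact S hex hsurj
  have h1 : (Algebra.linearMap R m.ResidueField).rTensor S ((1 : R) ⊗ₜ[R] s) = 0 := by
    rw [LinearMap.rTensor_tmul, Algebra.linearMap_apply, map_one]
    exact hs
  obtain ⟨z, hz⟩ := (hex2 _).mp h1
  have key : ∀ z : ↥m ⊗[R] S, TensorProduct.lid R S ((Submodule.subtype m).rTensor S z)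
      ∈ m.map (algebraMap R S) := by
    intro z
    induction z using TensorProduct.induction_on with
    | zero =>
      rw [map_zero, map_zero]
      exact Ideal.zero_mem _
    | tmul x y =>
      rw [LinearMap.rTensor_tmul, TensorProduct.lid_tmul, Submodule.subtype_apply,
        Algebra.smul_def]
      exact Ideal.mul_mem_right _ _ (Ideal.mem_map_of_mem _ x.2)
    | add a b ha hb =>
      rw [map_add, map_add]
      exact Ideal.add_mem _ ha hb
  have h2 := key z
  rw [hz, TensorProduct.lid_tmul, one_smul] at h2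
  exact h2

/-- the map to the closed fibre -/
def phi : S →ₐ[R] m.ResidueField ⊗[R] S := Algebra.TensorProduct.includeRight

theorem phi_apply (s : S) : phi R S m s = (1 : m.ResidueField) ⊗ₜ[R] s := rfl

theorem phi_surj : Function.Surjective (phi R S m) := by
  intro z
  induction z using TensorProduct.induction_on with
  | zero => exact ⟨0, map_zero _⟩
  | tmul c s =>
    obtain ⟨r, rfl⟩ := Ideal.algebraMap_residueField_surjective m c
    refine ⟨r • s, ?_⟩
    rw [phi_apply, TensorProduct.tmul_smul, TensorProduct.smul_tmul', Algebra.smul_def, mul_one]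
  | add a b ha hb =>
    obtain ⟨x, rfl⟩ := ha
    obtain ⟨y, rfl⟩ := hb
    exact ⟨x + y, map_add _ _ _⟩

theorem exists_pow_le [IsLocalRing S] [Module.Finite m.ResidueField (m.ResidueField ⊗[R] S)] :
    ∃ t : ℕ, IsLocalRing.maximalIdeal S ^ t ≤ m.map (algebraMap R S) := by
  haveI : IsArtinianRing (m.ResidueField ⊗[R] S) := IsArtinianRing.of_finite m.ResidueField _
  obtain ⟨t, ht⟩ := IsArtinianRing.isNilpotent_jacobson_bot (R := m.ResidueField ⊗[R] S)
  have hle : (IsLocalRing.maximalIdeal S).map (phi R S m) ≤ Ideal.jacobson ⊥ := by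
    unfold Ideal.jacobson
    apply le_sInf
    rintro M ⟨_, hM⟩
    haveI := hM
    have hmax : (M.comap (phi R S m)).IsMaximal :=
      Ideal.comap_isMaximal_of_surjective _ (phi_surj R S m)
    rw [Ideal.map_le_iff_le_comap, ← IsLocalRing.eq_maximalIdeal hmax]
  refine ⟨t, fun x hx => ?_⟩
  apply ker_le R S m
  have h1 : phi R S m x ∈ ((IsLocalRing.maximalIdeal S).map (phi R S m)) ^ t := by
    rw [← Ideal.map_pow]
    exact Ideal.mem_map_of_mem _ hx
  have h2 := Ideal.pow_right_mono hle t h1
  rw [ht, Ideal.zero_eq_bot, Ideal.mem_bot] at h2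
  exact h2

theorem exists_gens [Module.Finite m.ResidueField (m.ResidueField ⊗[R] S)] :
    ∃ (r : ℕ) (s : Fin r → S), ∀ x : S, ∃ c : Fin r → R,
      x - ∑ i, c i • s i ∈ m.map (algebraMap R S) := by
  obtain ⟨r, g, hg⟩ := Module.Finite.exists_fin (R := m.ResidueField)
    (M := m.ResidueField ⊗[R] S)
  choose s hs using fun i => phi_surj R S m (g i)
  refine ⟨r, s, fun x => ?_⟩
  have hx : phi R S m x ∈ Submodule.span m.ResidueField (Set.range g) := by
    rw [hg]
    exact Submodule.mem_top
  obtain ⟨c', hc'⟩ := (Submodule.mem_span_range_iff_exists_fun _).mp hx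
  choose c hc using fun i => Ideal.algebraMap_residueField_surjective m (c' i)
  refine ⟨c, ?_⟩
  apply ker_le R S m
  show phi R S m (x - ∑ i, c i • s i) = 0
  rw [map_sub, map_sum, ← hc', sub_eq_zero]
  apply Finset.sum_congr rfl
  intro i _
  rw [map_smul, hs, ← hc i, algebraMap_smul]

end Fib

section Cofinal

theorem evalₐ_complMap {S T : Type u} [CommRing S] [CommRing T] (I : Ideal S) (K : Ideal T)
    (g : S →+* T) (h : I.map g ≤ K) (n : ℕ) (x : AdicCompletion I S) :
    AdicCompletion.evalₐ K n (FSch.complMap I K g h x)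
      = Ideal.quotientMap (K ^ n) g (FSch.pow_le_comap_pow_of_map_le I K g h n)
        (AdicCompletion.evalₐ I n x) := by
  have key := AdicCompletion.evalₐ_liftRingHom K (fun n =>
    (Ideal.quotientMap (K ^ n) g (FSch.pow_le_comap_pow_of_map_le I K g h n)).comp
      (AdicCompletion.evalₐ I n).toRingHom)
  have hf : ∀ {m n : ℕ} (hle : m ≤ n), (Ideal.Quotient.factorPow K hle).comp
      ((Ideal.quotientMap (K ^ n) g (FSch.pow_le_comap_pow_of_map_le I K g h n)).comp
        (AdicCompletion.evalₐ I n).toRingHom)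
      = (Ideal.quotientMap (K ^ m) g (FSch.pow_le_comap_pow_of_map_le I K g h m)).comp
        (AdicCompletion.evalₐ I m).toRingHom := by
    intro m n hle
    apply RingHom.ext
    intro x
    obtain ⟨y, rfl⟩ := AdicCompletion.mk_surjective I S x
    simp only [RingHom.coe_comp, Function.comp_apply, AlgHom.toRingHom_eq_coe,
      AlgHom.coe_toRingHom, AdicCompletion.evalₐ_mk, Ideal.quotientMap_mk,
      Ideal.Quotient.factorPow, Ideal.Quotient.factor_mk]
    rw [Ideal.Quotient.eq]
    have hy := y.2 hle
    rw [SModEq.sub_mem] at hy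
    simp only [smul_eq_mul, Ideal.mul_top] at hy
    rw [← map_sub]
    have hy' : (y : ℕ → S) n - (y : ℕ → S) m ∈ I ^ m := by
      rw [← neg_sub]
      exact (I ^ m).neg_mem hy
    exact FSch.pow_le_comap_pow_of_map_le I K g h m hy'
  unfold FSch.complMap
  exact key hf n x

theorem complMap_mk {S T : Type u} [CommRing S] [CommRing T] (I : Ideal S) (K : Ideal T)
    (g : S →+* T) (h : I.map g ≤ K) (n : ℕ) (a : AdicCompletion.AdicCauchySequence I S) :
    AdicCompletion.evalₐ K n (FSch.complMap I K g h (AdicCompletion.mk I S a))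
      = Ideal.Quotient.mk (K ^ n) (g (a n)) := by
  rw [evalₐ_complMap, AdicCompletion.evalₐ_mk, Ideal.quotientMap_mk]

theorem complMap_id_bijective {S : Type u} [CommRing S] (I J : Ideal S)
    (h' : I.map (RingHom.id S) ≤ J) (t : ℕ) (ht : J ^ t ≤ I) :
    Function.Bijective (FSch.complMap I J (RingHom.id S) h') := by
  have hT : J ^ (t + 1) ≤ I := (Ideal.pow_le_pow_right (Nat.le_succ t)).trans ht
  have hTk : ∀ k, J ^ ((t + 1) * k) ≤ I ^ k := by
    intro k
    rw [pow_mul]
    exact Ideal.pow_right_mono hT k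
  have hk : ∀ k, k ≤ (t + 1) * k := fun k => Nat.le_mul_of_pos_left k (Nat.succ_pos t)
  constructor
  · rw [injective_iff_map_eq_zero]
    intro x hx
    obtain ⟨a, rfl⟩ := AdicCompletion.mk_surjective I S x
    apply AdicCompletion.ext_evalₐ
    intro k
    rw [map_zero, AdicCompletion.evalₐ_mk, Ideal.Quotient.eq_zero_iff_mem]
    have h1 : a ((t + 1) * k) ∈ J ^ ((t + 1) * k) := by
      have h2 := congrArg (AdicCompletion.evalₐ J ((t + 1) * k)) hx
      rw [map_zero, complMap_mk, Ideal.Quotient.eq_zero_iff_mem] at h2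
      exact h2
    have h3 : a k - a ((t + 1) * k) ∈ I ^ k := by
      have h4 := SModEq.sub_mem.mp (a.2 (hk k))
      rw [smul_eq_mul, Ideal.mul_top] at h4
      exact h4
    have h5 := Ideal.add_mem _ h3 (hTk k h1)
    rw [sub_add_cancel] at h5
    exact h5
  · intro y
    obtain ⟨b, rfl⟩ := AdicCompletion.mk_surjective J S y
    have hcauchy : AdicCompletion.IsAdicCauchy I S (fun k => b ((t + 1) * k)) := by
      intro k l hkl
      rw [SModEq.sub_mem, smul_eq_mul, Ideal.mul_top]
      have h1 := SModEq.sub_mem.mp (b.2 (Nat.mul_le_mul_left (t + 1) hkl))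
      rw [smul_eq_mul, Ideal.mul_top] at h1
      exact hTk k h1
    refine ⟨AdicCompletion.mk I S ⟨fun k => b ((t + 1) * k), hcauchy⟩, ?_⟩
    apply AdicCompletion.ext_evalₐ
    intro k
    refine (complMap_mk I J (RingHom.id S) h' k ⟨fun k => b ((t + 1) * k), hcauchy⟩).trans ?_
    show Ideal.Quotient.mk (J ^ k) (b ((t + 1) * k)) = _
    rw [AdicCompletion.evalₐ_mk, Ideal.Quotient.eq]
    have h1 := SModEq.sub_mem.mp (b.2 (hk k))
    rw [smul_eq_mul, Ideal.mul_top] at h1
    have h2 := Submodule.neg_mem _ h1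
    rw [neg_sub] at h2
    exact h2

end Cofinal

section Fin

theorem mem_map_of_evalₐ_eq_zero {R : Type u} [CommRing R] (I : Ideal R) (hI : I.FG) (n : ℕ)
    (x : AdicCompletion I R) (hx : AdicCompletion.evalₐ I n x = 0) :
    x ∈ (I ^ n).map (algebraMap R (AdicCompletion I R)) := by
  have h1 : x ∈ LinearMap.ker (AdicCompletion.eval I R n) := by
    rw [LinearMap.mem_ker, ← AdicCompletion.factor_evalₐ_eq_eval I x
      (le_of_eq (by simp only [smul_eq_mul, Ideal.mul_top])), hx, map_zero]
  rw [← AdicCompletion.pow_smul_top_eq_ker_eval hI] at h1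
  have h2 := Ideal.smul_top_eq_map (R := R) (S := AdicCompletion I R) (I ^ n)
  rw [h2] at h1
  exact h1

variable (R S : Type u) [CommRing R] [CommRing S] [IsLocalRing R] [IsLocalRing S] [Algebra R S]

theorem complMap_finite (hm : (IsLocalRing.maximalIdeal R).FG)
    (hn : (IsLocalRing.maximalIdeal S).FG)
    [Module.Finite (IsLocalRing.maximalIdeal R).ResidueField
      ((IsLocalRing.maximalIdeal R).ResidueField ⊗[R] S)]
    (h : (IsLocalRing.maximalIdeal R).map (algebraMap R S) ≤ IsLocalRing.maximalIdeal S) :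
    (FSch.complMap (IsLocalRing.maximalIdeal R) (IsLocalRing.maximalIdeal S)
      (algebraMap R S) h).Finite := by
  obtain ⟨ψ, hψdef⟩ : ∃ ψ : AdicCompletion (IsLocalRing.maximalIdeal R) R →+*
      AdicCompletion (IsLocalRing.maximalIdeal S) S,
      ψ = FSch.complMap (IsLocalRing.maximalIdeal R) (IsLocalRing.maximalIdeal S)
        (algebraMap R S) h := ⟨_, rfl⟩
  rw [← hψdef]
  have hψev : ∀ k x, AdicCompletion.evalₐ (IsLocalRing.maximalIdeal S) k (ψ x)
      = Ideal.quotientMap (IsLocalRing.maximalIdeal S ^ k) (algebraMap R S)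
        (FSch.pow_le_comap_pow_of_map_le _ _ _ h k)
        (AdicCompletion.evalₐ (IsLocalRing.maximalIdeal R) k x) := by
    intro k x
    rw [hψdef]
    exact evalₐ_complMap _ _ _ h k x
  have hψof : ∀ x : R, ψ (algebraMap R (AdicCompletion (IsLocalRing.maximalIdeal R) R) x)
      = algebraMap S (AdicCompletion (IsLocalRing.maximalIdeal S) S) (algebraMap R S x) := by
    intro x
    apply AdicCompletion.ext_evalₐ
    intro k
    rw [hψev]
    show Ideal.quotientMap _ _ _ (AdicCompletion.evalₐ _ k (AdicCompletion.of _ R x))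
      = AdicCompletion.evalₐ _ k (AdicCompletion.of _ S (algebraMap R S x))
    rw [AdicCompletion.evalₐ_of, AdicCompletion.evalₐ_of, Ideal.quotientMap_mk]
  letI : Algebra (AdicCompletion (IsLocalRing.maximalIdeal R) R)
      (AdicCompletion (IsLocalRing.maximalIdeal S) S) := ψ.toAlgebra
  show Module.Finite (AdicCompletion (IsLocalRing.maximalIdeal R) R)
    (AdicCompletion (IsLocalRing.maximalIdeal S) S)
  obtain ⟨𝔞, h𝔞⟩ : ∃ 𝔞 : Ideal (AdicCompletion (IsLocalRing.maximalIdeal R) R),
      𝔞 = (IsLocalRing.maximalIdeal R).map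
        (algebraMap R (AdicCompletion (IsLocalRing.maximalIdeal R) R)) := ⟨_, rfl⟩
  haveI hcompl : IsAdicComplete 𝔞 (AdicCompletion (IsLocalRing.maximalIdeal R) R) := by
    rw [h𝔞]
    exact AdicCompletion.isAdicComplete_self _ hm
  -- powers of `𝔞` die at finite level
  have hev : ∀ k, ∀ a ∈ 𝔞 ^ k,
      AdicCompletion.evalₐ (IsLocalRing.maximalIdeal R) k a = 0 := by
    intro k
    have hle : 𝔞 ^ k ≤ RingHom.ker (AdicCompletion.evalₐ (IsLocalRing.maximalIdeal R) k) := by
      rw [h𝔞, ← Ideal.map_pow, Ideal.map_le_iff_le_comap]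
      intro x hx
      rw [Ideal.mem_comap, RingHom.mem_ker]
      show AdicCompletion.evalₐ _ k (AdicCompletion.of _ R x) = 0
      rw [AdicCompletion.evalₐ_of, Ideal.Quotient.eq_zero_iff_mem]
      exact hx
    intro a ha
    exact RingHom.mem_ker.mp (hle ha)
  haveI hH : IsHausdorff 𝔞 (AdicCompletion (IsLocalRing.maximalIdeal S) S) := by
    refine ⟨fun x hx => ?_⟩
    apply AdicCompletion.ext_evalₐ
    intro k
    rw [map_zero]
    have h1 := hx k
    rw [SModEq.zero] at h1
    refine Submodule.smul_induction_on h1 ?_ ?_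
    · intro a ha y _
      rw [Algebra.smul_def, map_mul]
      show AdicCompletion.evalₐ _ k (ψ a) * _ = 0
      rw [hψev, hev k a ha, map_zero, zero_mul]
    · intro y z hy hz
      rw [map_add, hy, hz, add_zero]
  have h𝔞top : 𝔞 • (⊤ : Submodule (AdicCompletion (IsLocalRing.maximalIdeal R) R)
      (AdicCompletion (IsLocalRing.maximalIdeal S) S))
      = (((IsLocalRing.maximalIdeal R).map (algebraMap R S)).map
        (algebraMap S (AdicCompletion (IsLocalRing.maximalIdeal S) S))).restrictScalars _ := by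
    rw [Ideal.smul_top_eq_map, h𝔞, Ideal.map_map, Ideal.map_map]
    congr 2
    apply RingHom.ext
    intro x
    exact hψof x
  obtain ⟨T, hT⟩ := exists_pow_le R S (IsLocalRing.maximalIdeal R)
  obtain ⟨r, s, hs⟩ := exists_gens R S (IsLocalRing.maximalIdeal R)
  haveI : IsPrecomplete 𝔞 (Fin r → AdicCompletion (IsLocalRing.maximalIdeal R) R) :=
    isPrecomplete_pi 𝔞 r
  obtain ⟨f, hf⟩ : ∃ f : (Fin r → AdicCompletion (IsLocalRing.maximalIdeal R) R)
      →ₗ[AdicCompletion (IsLocalRing.maximalIdeal R) R]
      AdicCompletion (IsLocalRing.maximalIdeal S) S,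
      f = Fintype.linearCombination _ (fun i =>
        algebraMap S (AdicCompletion (IsLocalRing.maximalIdeal S) S) (s i)) := ⟨_, rfl⟩
  have hsurj : Function.Surjective (Submodule.mkQ (𝔞 • (⊤ : Submodule
      (AdicCompletion (IsLocalRing.maximalIdeal R) R)
      (AdicCompletion (IsLocalRing.maximalIdeal S) S))) ∘ₗ f) := by
    intro q
    obtain ⟨y, rfl⟩ := Submodule.mkQ_surjective _ q
    obtain ⟨x, hx⟩ := Ideal.Quotient.mk_surjective
      (AdicCompletion.evalₐ (IsLocalRing.maximalIdeal S) T y)
    obtain ⟨c, hc⟩ := hs x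
    refine ⟨fun i => algebraMap R (AdicCompletion (IsLocalRing.maximalIdeal R) R) (c i), ?_⟩
    rw [LinearMap.comp_apply, Submodule.mkQ_apply, Submodule.mkQ_apply, Submodule.Quotient.eq,
      h𝔞top, Submodule.restrictScalars_mem]
    have h1 : f (fun i => algebraMap R (AdicCompletion (IsLocalRing.maximalIdeal R) R) (c i))
        = algebraMap S (AdicCompletion (IsLocalRing.maximalIdeal S) S) (∑ i, c i • s i) := by
      rw [hf, Fintype.linearCombination_apply, map_sum]
      apply Finset.sum_congr rfl
      intro i _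
      rw [Algebra.smul_def, Algebra.smul_def, map_mul]
      congr 1
      exact hψof (c i)
    have h2 : algebraMap S (AdicCompletion (IsLocalRing.maximalIdeal S) S) x - y
        ∈ ((IsLocalRing.maximalIdeal R).map (algebraMap R S)).map
          (algebraMap S (AdicCompletion (IsLocalRing.maximalIdeal S) S)) := by
      apply Ideal.map_mono hT
      apply mem_map_of_evalₐ_eq_zero _ hn
      rw [map_sub, ← hx, sub_eq_zero]
      exact AdicCompletion.evalₐ_of _ T x
    have h3 : algebraMap S (AdicCompletion (IsLocalRing.maximalIdeal S) S)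
        (x - ∑ i, c i • s i)
        ∈ ((IsLocalRing.maximalIdeal R).map (algebraMap R S)).map
          (algebraMap S (AdicCompletion (IsLocalRing.maximalIdeal S) S)) :=
      Ideal.mem_map_of_mem _ hc
    have h4 := Ideal.sub_mem _ h2 h3
    rw [h1]
    have h5 : algebraMap S (AdicCompletion (IsLocalRing.maximalIdeal S) S) (∑ i, c i • s i) - y
        = algebraMap S (AdicCompletion (IsLocalRing.maximalIdeal S) S) x - y
          - algebraMap S (AdicCompletion (IsLocalRing.maximalIdeal S) S)
            (x - ∑ i, c i • s i) := by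
      rw [map_sub]
      ring
    rw [h5]
    exact h4
  have hfs := surjective_of_mkQ_comp_surjective (I := 𝔞) hsurj
  exact Module.Finite.of_surjective f hfs

end Fin

theorem main (R S : Type u) [CommRing R] [CommRing S]
    [IsLocalRing R] [IsLocalRing S] [Algebra R S]
    (hm : (IsLocalRing.maximalIdeal R).FG) (hn : (IsLocalRing.maximalIdeal S).FG)
    (hfib : Module.Finite (IsLocalRing.maximalIdeal R).ResidueField
      ((IsLocalRing.maximalIdeal R).Fiber S))
    (h : (IsLocalRing.maximalIdeal R).map (algebraMap R S) ≤ IsLocalRing.maximalIdeal S)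
    (h' : ((IsLocalRing.maximalIdeal R).map (algebraMap R S)).map (RingHom.id S)
      ≤ IsLocalRing.maximalIdeal S) :
    Function.Bijective (FSch.complMap ((IsLocalRing.maximalIdeal R).map (algebraMap R S))
        (IsLocalRing.maximalIdeal S) (RingHom.id S) h') ∧
      (FSch.complMap (IsLocalRing.maximalIdeal R) (IsLocalRing.maximalIdeal S)
        (algebraMap R S) h).Finite := by
  haveI := hfib
  obtain ⟨t, ht⟩ := exists_pow_le R S (IsLocalRing.maximalIdeal R)
  exact ⟨complMap_id_bijective _ _ h' t ht, complMap_finite R S hm hn h⟩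

end

end Groth.Agent.Lib.Helper6.ComplFinite
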