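import Mathlib
import Groth.Prelude.Def_Cone
import Groth.Agent.Lib.Helper6.ConeGlue
import Groth.Agent.Lib.Helper6.ProjMap

/-!
# Properties of the canonical retraction of the pointed affine cone (helper6)
-/

set_option autoImplicit false
universe u
open CategoryTheory CategoryTheory.Limits AlgebraicGeometry HomogeneousLocalization

namespace Groth.Agent.Lib.Helper6

variable {R A : Type u} [CommRing R] [CommRing A] [Algebra R A] {𝒜 : ℕ → Submodule R A}
  [GradedAlgebra 𝒜]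

lemma cone_chart_ι {d : ℕ} {f : A} (hf : f ∈ 𝒜 d) (hd : 0 < d) :
    Cone.chart hf hd ≫ (Cone.pointed 𝒜).ι = specAwayι f :=
  IsOpenImmersion.lift_fac _ _ _

instance cone_chart_isOpenImmersion {d : ℕ} {f : A} (hf : f ∈ 𝒜 d) (hd : 0 < d) :
    IsOpenImmersion (Cone.chart hf hd) := by
  have : IsOpenImmersion (Cone.chart hf hd ≫ (Cone.pointed 𝒜).ι) := by
    rw [cone_chart_ι]; infer_instance
  exact IsOpenImmersion.of_comp _ (Cone.pointed 𝒜).ι

lemma cone_exists_chart (p : (Cone.pointed 𝒜 : Scheme.{u})) :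
    ∃ (d : ℕ) (f : A) (hd : 0 < d) (hf : f ∈ 𝒜 d)
      (p' : Spec (CommRingCat.of (Localization.Away f))), Cone.chart hf hd p' = p := by
  have hx : (Cone.pointed 𝒜).ι p ∈ Cone.pointed 𝒜 := by
    have : (Cone.pointed 𝒜).ι p ∈ Set.range (Cone.pointed 𝒜).ι := ⟨p, rfl⟩
    rw [Scheme.Opens.range_ι] at this
    exact this
  have hx' : ¬ ((HomogeneousIdeal.irrelevant 𝒜).toIdeal : Set A) ⊆
      ((Cone.pointed 𝒜).ι p).asIdeal := fun h => hx ((PrimeSpectrum.mem_zeroLocus _ _).2 h)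
  have hx'' : ¬ (HomogeneousIdeal.irrelevant 𝒜).toIdeal ≤ ((Cone.pointed 𝒜).ι p).asIdeal := hx'
  rw [HomogeneousIdeal.toIdeal_irrelevant_le] at hx''
  push Not at hx''
  obtain ⟨i, hi, hle⟩ := hx''
  obtain ⟨f, hf, hfx⟩ := SetLike.not_le_iff_exists.1 hle
  have hr : (Cone.pointed 𝒜).ι p ∈ Set.range (specAwayι f).base := by
    rw [range_specAwayι]; exact hfx
  obtain ⟨p', hp'⟩ := hr
  refine ⟨i, f, hi, hf, p', ?_⟩
  apply (Cone.pointed 𝒜).ι.isOpenEmbedding.injective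
  rw [← Scheme.Hom.comp_apply, cone_chart_ι]
  exact hp'

variable (π : (Cone.pointed 𝒜 : Scheme.{u}) ⟶ Proj 𝒜)
  (hπ : ∀ (d : ℕ) (f : A) (hd : 0 < d) (hf : f ∈ 𝒜 d),
    Cone.chart hf hd ≫ π =
      Spec.map (CommRingCat.ofHom (algebraMap (Away 𝒜 f) (Localization.Away f))) ≫
        Proj.awayι 𝒜 f hf hd)

include hπ in
/-- On a chart, the retraction sends a prime to the homogeneous prime with the same homogeneous
elements. -/
lemma cone_mem_iff {d : ℕ} (hd : 0 < d) {f : A} (hf : f ∈ 𝒜 d)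
    (p' : Spec (CommRingCat.of (Localization.Away f))) {n : ℕ} {a : A} (ha : a ∈ 𝒜 n) :
    a ∈ (π (Cone.chart hf hd p')).asHomogeneousIdeal ↔ a ∈ (specAwayι f p').asIdeal := by
  set q := Spec.map (CommRingCat.ofHom (algebraMap (Away 𝒜 f) (Localization.Away f))) p' with hq
  have hy : π (Cone.chart hf hd p') = Proj.awayι 𝒜 f hf hd q := by
    rw [← Scheme.Hom.comp_apply, hπ d f hd hf, Scheme.Hom.comp_apply]
  have hfy : f ∉ (π (Cone.chart hf hd p')).asHomogeneousIdeal := by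
    have : π (Cone.chart hf hd p') ∈ (Proj.awayι 𝒜 f hf hd).opensRange := by
      rw [hy]; exact ⟨q, rfl⟩
    rw [Proj.opensRange_awayι] at this
    exact this
  have hfP : f ∉ (specAwayι f p').asIdeal := by
    have : specAwayι f p' ∈ Set.range (specAwayι f).base := ⟨p', rfl⟩
    rw [range_specAwayι] at this
    exact this
  have key : ∀ {m : ℕ} (g : A) (hg : g ∈ 𝒜 m) (hm : 0 < m),
      g ∈ (π (Cone.chart hf hd p')).asHomogeneousIdeal ↔ g ∈ (specAwayι f p').asIdeal := by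
    intro m g hg hm
    rw [← not_iff_not]
    have h1 : g ∉ (π (Cone.chart hf hd p')).asHomogeneousIdeal ↔
        q ∈ (Proj.awayι 𝒜 f hf hd) ⁻¹ᵁ Proj.basicOpen 𝒜 g := by
      rw [hy]; rfl
    rw [h1, Proj.awayι_preimage_basicOpen 𝒜 hf hd hg hm]
    change Away.isLocalizationElem hf hg ∉ q.asIdeal ↔ _
    have h2 : Away.isLocalizationElem hf hg ∈ q.asIdeal ↔
        (Away.isLocalizationElem hf hg).val ∈ p'.asIdeal := Iff.rfl
    rw [h2, Away.val_mk, Localization.mk_eq_mk', IsLocalization.mk'_mem_iff]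
    have h3 : algebraMap A (Localization.Away f) (g ^ d) ∈ p'.asIdeal ↔
        g ^ d ∈ (specAwayι f p').asIdeal := Iff.rfl
    rw [h3, Ideal.IsPrime.pow_mem_iff_mem (specAwayι f p').isPrime d hd]
  have haf : a * f ∈ 𝒜 (n + d) := SetLike.mul_mem_graded ha hf
  constructor
  · intro h
    have h1 := (key (a * f) haf (Nat.add_pos_right n hd)).1 (Ideal.mul_mem_right _ _ h)
    exact ((specAwayι f p').isPrime.mem_or_mem h1).resolve_right hfP
  · intro h
    have h1 := (key (a * f) haf (Nat.add_pos_right n hd)).2 (Ideal.mul_mem_right _ _ h)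
    exact ((π (Cone.chart hf hd p')).isPrime.mem_or_mem h1).resolve_right hfy

include hπ in
theorem cone_point_eq (p : (Cone.pointed 𝒜 : Scheme.{u})) :
    (π.base p).asHomogeneousIdeal =
      (((Cone.pointed 𝒜).ι.base p).asIdeal).homogeneousCore 𝒜 := by
  obtain ⟨d, f, hd, hf, p', rfl⟩ := cone_exists_chart p
  refine HomogeneousIdeal.ext' fun n a ha => ?_
  rw [cone_mem_iff π hπ hd hf p' ha]
  have he : (Cone.pointed 𝒜).ι.base (Cone.chart hf hd p') = specAwayι f p' := by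
    rw [← Scheme.Hom.comp_apply, cone_chart_ι]
  rw [he]
  exact ⟨fun h => Ideal.mem_homogeneousCore_of_homogeneous_of_mem ⟨n, ha⟩ h,
    fun h => Ideal.toIdeal_homogeneousCore_le 𝒜 _ h⟩

omit π in
lemma cone_chart_opensRange {d : ℕ} {f : A} (hf : f ∈ 𝒜 d) (hd : 0 < d) :
    (Cone.chart hf hd).opensRange = (Cone.pointed 𝒜).ι ⁻¹ᵁ Cone.coneOpen f := by
  ext p
  change p ∈ Set.range (Cone.chart hf hd).base ↔
    (Cone.pointed 𝒜).ι p ∈ (PrimeSpectrum.basicOpen f : Set (PrimeSpectrum A))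
  rw [← range_specAwayι]
  constructor
  · rintro ⟨p', rfl⟩
    refine ⟨p', ?_⟩
    rw [← cone_chart_ι hf hd]
    rfl
  · rintro ⟨p', hp'⟩
    refine ⟨p', ?_⟩
    apply (Cone.pointed 𝒜).ι.isOpenEmbedding.injective
    rw [← hp', ← cone_chart_ι hf hd]
    rfl

include hπ in
theorem cone_preimage_basicOpen {d : ℕ} {f : A} (hf : f ∈ 𝒜 d) :
    π ⁻¹ᵁ Proj.basicOpen 𝒜 f = (Cone.pointed 𝒜).ι ⁻¹ᵁ Cone.coneOpen f := by
  ext p
  change f ∉ (π.base p).asHomogeneousIdeal ↔ f ∉ ((Cone.pointed 𝒜).ι.base p).asIdeal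
  rw [cone_point_eq π hπ p]
  exact not_congr ⟨fun h => Ideal.toIdeal_homogeneousCore_le 𝒜 _ h,
    fun h => Ideal.mem_homogeneousCore_of_homogeneous_of_mem ⟨d, hf⟩ h⟩

include hπ in
theorem cone_isAffineHom : IsAffineHom π := by
  refine isAffineHom_of_forall_exists_isAffineOpen (f := π) fun x => ?_
  obtain ⟨i, hi, s, hs, hxs⟩ := exists_homogeneous_mem_basicOpen 𝒜 x
  refine ⟨Proj.basicOpen 𝒜 s, hxs, Proj.isAffineOpen_basicOpen 𝒜 s hs hi, ?_⟩
  rw [cone_preimage_basicOpen π hπ hs, ← cone_chart_opensRange hs hi]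
  exact isAffineOpen_opensRange _

include hπ in
theorem cone_surjective : Surjective π := by
  refine ⟨fun x => ?_⟩
  have hP : (⟨x.asHomogeneousIdeal.toIdeal, x.isPrime⟩ : PrimeSpectrum A) ∈ Cone.pointed 𝒜 := by
    intro hmem
    exact x.not_irrelevant_le ((PrimeSpectrum.mem_zeroLocus _ _).1 hmem)
  refine ⟨⟨_, hP⟩, ?_⟩
  apply ProjectiveSpectrum.ext
  rw [cone_point_eq π hπ]
  exact HomogeneousIdeal.toIdeal_homogeneousCore_eq_self _

end Groth.Agent.Lib.Helper6
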