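import Mathlib

universe u

namespace Groth.Agent.Lib.Helper6.ConicA

open scoped Polynomial
open LaurentPolynomial

noncomputable section

section Laurent
variable {L : Type*} [Field L]

theorem coeff_C_mul_T (c : L) (n m : ℤ) :
    (C c * T n : L[T;T⁻¹]).coeff m = if n = m then c else 0 := by
  rw [← single_eq_C_mul_T]
  exact Finsupp.single_apply

theorem C_mul_T_inj {c c' : L} {n n' : ℤ} (hc : c ≠ 0)
    (h : (C c * T n : L[T;T⁻¹]) = C c' * T n') : n = n' ∧ c = c' := by
  have h1 := congrArg (fun f : L[T;T⁻¹] => f.coeff n) h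
  simp only [coeff_C_mul_T] at h1
  rw [if_pos trivial] at h1
  by_cases hn : n' = n
  · rw [if_pos hn] at h1; exact ⟨hn.symm, h1⟩
  · rw [if_neg hn] at h1; exact absurd h1 hc

theorem laurent_unit (f f' : L[T;T⁻¹]) (h : f * f' = 1) :
    ∃ (c : L) (n : ℤ), c ≠ 0 ∧ f = C c * T n := by
  obtain ⟨n, F, hF⟩ := exists_T_pow f
  obtain ⟨n', F', hF'⟩ := exists_T_pow f'
  have hFF : F * F' = Polynomial.X ^ (n + n') := by
    apply Polynomial.toLaurent_injective
    rw [map_mul, hF, hF', Polynomial.toLaurent_X_pow]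
    calc f * T n * (f' * T n') = (f * f') * (T n * T n') := by ring
      _ = T (n + n') := by rw [h, one_mul, ← T_add]
      _ = T ((n + n' : ℕ) : ℤ) := by push_cast; rfl
  have hdvd : F ∣ Polynomial.X ^ (n + n') := ⟨F', hFF.symm⟩
  obtain ⟨i, hi, hassoc⟩ := (dvd_prime_pow Polynomial.prime_X _).1 hdvd
  obtain ⟨u, hu⟩ := hassoc.symm
  obtain ⟨c, hc, hcu⟩ := Polynomial.isUnit_iff.1 u.isUnit
  refine ⟨c, (i : ℤ) - n, hc.ne_zero, ?_⟩
  have h2 : f * T n = C c * T i := by
    rw [← hF, ← hu, ← hcu, map_mul, Polynomial.toLaurent_X_pow, Polynomial.toLaurent_C, mul_comm]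
  calc f = f * T n * T (-n) := by rw [mul_T_assoc, add_neg_cancel, T_zero, mul_one]
    _ = C c * T i * T (-n) := by rw [h2]
    _ = C c * T (i - n) := by rw [mul_T_assoc, sub_eq_add_neg]

end Laurent

section Field
variable {K : Type u} [Field K]

theorem mem_range_of_pow_eq_one {L : Type*} [Field L] [Algebra K L]
    (hK : ∀ n : ℕ, 0 < n → (Polynomial.X ^ n - 1 : Polynomial K).Splits)
    {m : ℕ} (hm : 0 < m) (lam : L) (h : lam ^ m = 1) : ∃ r : K, algebraMap K L r = lam := by
  have hmonic : (Polynomial.X ^ m - 1 : K[X]).Monic := by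
    simpa using Polynomial.monic_X_pow_sub_C (1 : K) hm.ne'
  have heq := (hK m hm).eq_prod_roots_of_monic hmonic
  have h0 : Polynomial.aeval lam (Polynomial.X ^ m - 1 : K[X]) = 0 := by simp [h]
  rw [heq, map_multiset_prod, Multiset.map_map, Multiset.prod_eq_zero_iff] at h0
  obtain ⟨r, hr, hr0⟩ := Multiset.mem_map.1 h0
  refine ⟨r, ?_⟩
  simp only [Function.comp_apply, map_sub, Polynomial.aeval_X, Polynomial.aeval_C] at hr0
  exact (sub_eq_zero.1 hr0).symm

theorem exists_roots (a b c : K) (ha : a ≠ 0) (hdisc : b ^ 2 - 4 * a * c ≠ 0)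
    (hirr : ∀ r : K, a * r ^ 2 + b * r + c ≠ 0) :
    ∃ (α β : AlgebraicClosure K) (σ : AlgebraicClosure K ≃ₐ[K] AlgebraicClosure K),
      algebraMap K (AlgebraicClosure K) b = -(algebraMap K (AlgebraicClosure K) a * (α + β)) ∧
      algebraMap K (AlgebraicClosure K) c = algebraMap K (AlgebraicClosure K) a * α * β ∧
      α ≠ β ∧ (∀ r : K, algebraMap K (AlgebraicClosure K) r ≠ α) ∧ σ α = β ∧ σ β = α := by
  classical
  set P : K[X] := Polynomial.X ^ 2 + Polynomial.C (b / a) * Polynomial.X + Polynomial.C (c / a) with hP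
  have hPmonic : P.Monic := by rw [hP]; monicity!
  have hPdeg : P.natDegree = 2 := by rw [hP]; compute_degree!
  obtain ⟨α, hα⟩ := IsAlgClosed.exists_aeval_eq_zero (AlgebraicClosure K) P (by
    rw [Polynomial.degree_eq_natDegree hPmonic.ne_zero, hPdeg]; norm_num)
  set a' := algebraMap K (AlgebraicClosure K) a with ha'def
  set b' := algebraMap K (AlgebraicClosure K) b with hb'def
  set c' := algebraMap K (AlgebraicClosure K) c with hc'def
  have ha' : a' ≠ 0 := (map_ne_zero _).2 ha
  have hα' : α ^ 2 + (b' / a') * α + c' / a' = 0 := by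
    simpa [hP, map_div₀] using hα
  obtain ⟨β, hβ⟩ : ∃ β : AlgebraicClosure K, β = -(b' / a') - α := ⟨_, rfl⟩
  have hβ' : β ^ 2 + (b' / a') * β + c' / a' = 0 := by rw [hβ]; linear_combination hα'
  have hnot : ∀ x : AlgebraicClosure K, x ^ 2 + (b' / a') * x + c' / a' = 0 →
      ∀ r : K, algebraMap K (AlgebraicClosure K) r ≠ x := by
    intro x hx r hr
    apply hirr r
    apply (algebraMap K (AlgebraicClosure K)).injective
    rw [map_zero, map_add, map_add, map_mul, map_mul, map_pow, hr]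
    have : a' * x ^ 2 + b' * x + c' = a' * (x ^ 2 + (b' / a') * x + c' / a') := by
      field_simp
    rw [this, hx, mul_zero]
  have hmin : ∀ x : AlgebraicClosure K, x ^ 2 + (b' / a') * x + c' / a' = 0 →
      minpoly K x = P := by
    intro x hx
    have hint : IsIntegral K x := Algebra.IsIntegral.isIntegral x
    have hax : Polynomial.aeval x P = 0 := by simpa [hP, map_div₀] using hx
    have hdvd := minpoly.dvd K x hax
    have h2 : 2 ≤ (minpoly K x).natDegree := by
      rw [minpoly.two_le_natDegree_iff hint]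
      rintro ⟨r, hr⟩
      exact hnot x hx r hr
    exact (Polynomial.eq_of_monic_of_dvd_of_natDegree_le (minpoly.monic hint) hPmonic hdvd
      (by omega)).symm
  have hconj : IsConjRoot K β α := by
    rw [IsConjRoot, hmin β hβ', hmin α hα']
  obtain ⟨σ, hσ⟩ := hconj.exists_algEquiv
  refine ⟨α, β, σ, ?_, ?_, ?_, hnot α hα', hσ, ?_⟩
  · rw [hβ]; field_simp; ring
  · rw [hβ]
    have : a' * α * (-(b' / a') - α) = -(a' * (α ^ 2 + (b' / a') * α + c' / a')) + c' := by
      field_simp; ring
    rw [this, hα']; ring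
  · intro hαβ
    apply hdisc
    apply (algebraMap K (AlgebraicClosure K)).injective
    rw [map_zero, map_sub, map_pow, map_mul, map_mul, map_ofNat]
    obtain ⟨s, hs⟩ : ∃ s, s = b' / a' := ⟨_, rfl⟩
    obtain ⟨t, ht⟩ : ∃ t, t = c' / a' := ⟨_, rfl⟩
    have hbs : b' = a' * s := by rw [hs]; field_simp
    have hct : c' = a' * t := by rw [ht]; field_simp
    have e : 2 * α + s = 0 := by rw [hs]; rw [hβ] at hαβ; linear_combination hαβ
    rw [← hs, ← ht] at hα'
    show b' ^ 2 - 4 * a' * c' = 0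
    rw [hbs, hct]
    linear_combination a' ^ 2 * ((s + 2 * α) * e - 4 * hα')
  · rw [hβ, map_sub, map_neg, map_div₀, AlgEquiv.commutes, AlgEquiv.commutes, hσ, hβ]; ring

end Field

section Quad
variable {K : Type u} [Field K]
open MvPolynomial

theorem deg_two_cases (d : Fin 2 →₀ ℕ) (h : d 0 + d 1 = 2) :
    d = Finsupp.single 0 2 ∨ d = Finsupp.single 0 1 + Finsupp.single 1 1 ∨ d = Finsupp.single 1 2 := by
  have h0 : d 0 = 0 ∨ d 0 = 1 ∨ d 0 = 2 := by omega
  rcases h0 with h0 | h0 | h0
  · right; right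
    ext i; fin_cases i
    · simp [h0]
    · simp; omega
  · right; left
    ext i; fin_cases i
    · simp [h0]
    · simp; omega
  · left
    ext i; fin_cases i
    · simp [h0]
    · simp; omega

theorem quad_form (q : MvPolynomial (Fin 2) K) (hq : q.IsHomogeneous 2) :
    q = MvPolynomial.C (q.coeff (Finsupp.single 0 2)) * MvPolynomial.X 0 ^ 2 +
      MvPolynomial.C (q.coeff (Finsupp.single 0 1 + Finsupp.single 1 1)) * MvPolynomial.X 0 *
        MvPolynomial.X 1 +
      MvPolynomial.C (q.coeff (Finsupp.single 1 2)) * MvPolynomial.X 1 ^ 2 := by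
  classical
  have h1 : ∀ k : K, (MvPolynomial.C k * MvPolynomial.X 0 ^ 2 : MvPolynomial (Fin 2) K) =
      monomial (Finsupp.single 0 2) k := fun k => C_mul_X_pow_eq_monomial
  have h3 : ∀ k : K, (MvPolynomial.C k * MvPolynomial.X 1 ^ 2 : MvPolynomial (Fin 2) K) =
      monomial (Finsupp.single 1 2) k := fun k => C_mul_X_pow_eq_monomial
  have h2 : ∀ k : K, (MvPolynomial.C k * MvPolynomial.X 0 * MvPolynomial.X 1 :
      MvPolynomial (Fin 2) K) = monomial (Finsupp.single 0 1 + Finsupp.single 1 1) k := by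
    intro k
    rw [C_mul_X_eq_monomial, monomial_add_single, pow_one]
  rw [h1, h2, h3]
  have d12 : (Finsupp.single 0 2 : Fin 2 →₀ ℕ) ≠ Finsupp.single 0 1 + Finsupp.single 1 1 := by
    intro h; have := DFunLike.congr_fun h 0; simp at this
  have d13 : (Finsupp.single 0 2 : Fin 2 →₀ ℕ) ≠ Finsupp.single 1 2 := by
    intro h; have := DFunLike.congr_fun h 0; simp at this
  have d23 : (Finsupp.single 0 1 + Finsupp.single 1 1 : Fin 2 →₀ ℕ) ≠ Finsupp.single 1 2 := by
    intro h; have := DFunLike.congr_fun h 0; simp at this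
  ext d
  simp only [coeff_add, coeff_monomial]
  by_cases hd : d 0 + d 1 = 2
  · rcases deg_two_cases d hd with rfl | rfl | rfl
    · rw [if_pos rfl, if_neg d12.symm, if_neg d13.symm]; simp
    · rw [if_neg d12, if_pos rfl, if_neg d23.symm]; simp
    · rw [if_neg d13, if_neg d23, if_pos rfl]; simp
  · have hdeg : d.degree ≠ 2 := by
      rw [Finsupp.degree_eq_sum, Fin.sum_univ_two]; exact hd
    rw [hq.coeff_eq_zero hdeg]
    have e1 : (Finsupp.single 0 2 : Fin 2 →₀ ℕ) ≠ d := by
      rintro rfl; apply hd; simp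
    have e2 : (Finsupp.single 0 1 + Finsupp.single 1 1 : Fin 2 →₀ ℕ) ≠ d := by
      rintro rfl; apply hd; simp
    have e3 : (Finsupp.single 1 2 : Fin 2 →₀ ℕ) ≠ d := by
      rintro rfl; apply hd; simp
    rw [if_neg e1, if_neg e2, if_neg e3]; simp

/-- scaling of a homogeneous polynomial under evaluation -/
theorem aeval_smul_of_isHomogeneous {S : Type*} [CommRing S] [Algebra K S]
    {f : MvPolynomial (Fin 2) K} {d : ℕ} (hf : f.IsHomogeneous d) (s : S) (v : Fin 2 → S) :
    MvPolynomial.aeval (fun i => s * v i) f = s ^ d * MvPolynomial.aeval v f := by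
  rw [MvPolynomial.aeval_def, MvPolynomial.aeval_def, MvPolynomial.eval₂_eq', MvPolynomial.eval₂_eq',
    Finset.mul_sum]
  apply Finset.sum_congr rfl
  intro m hm
  have hdeg : m 0 + m 1 = d := by
    by_contra hne
    have : m.degree ≠ d := by rw [Finsupp.degree_eq_sum, Fin.sum_univ_two]; exact hne
    exact (MvPolynomial.mem_support_iff.1 hm) (hf.coeff_eq_zero this)
  rw [Fin.prod_univ_two, Fin.prod_univ_two, ← hdeg]
  ring

end Quad

end

end Groth.Agent.Lib.Helper6.ConicA
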