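import Mathlib
import Groth.Agent.Lib.Helper6.ConicA

universe u

attribute [local instance] MvPolynomial.gradedAlgebra

namespace Groth.Agent.Lib.Helper6.ConicB

open scoped Polynomial
open LaurentPolynomial
open Groth.Agent.Lib.Helper6.ConicA

noncomputable section

abbrev gr (K : Type u) [Field K] := MvPolynomial.homogeneousSubmodule (Fin 2) K

variable {K : Type u} [Field K] {L : Type u} [Field L] [Algebra K L]

/-- the standing hypotheses -/
structure Hyp (q : MvPolynomial (Fin 2) K) (a b c : K) (α β : L) : Prop where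
  hq : q ∈ gr K 2
  ha : a ≠ 0
  hform : q = MvPolynomial.C a * MvPolynomial.X 0 ^ 2 + MvPolynomial.C b * MvPolynomial.X 0 *
      MvPolynomial.X 1 + MvPolynomial.C c * MvPolynomial.X 1 ^ 2
  hb : algebraMap K L b = -(algebraMap K L a * (α + β))
  hc : algebraMap K L c = algebraMap K L a * α * β
  hne : α ≠ β

def xt (α β : L) : L[T;T⁻¹] := C (β - α)⁻¹ * (C β * T 1 - C α)
def yt (α β : L) : L[T;T⁻¹] := C (β - α)⁻¹ * (T 1 - 1)

def phi0 (α β : L) : MvPolynomial (Fin 2) K →ₐ[K] L[T;T⁻¹] :=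
  MvPolynomial.aeval ![xt α β, yt α β]

theorem hd (α β : L) (hne : α ≠ β) : (C (β - α)⁻¹ : L[T;T⁻¹]) * (C β - C α) = 1 := by
  rw [← map_sub, ← map_mul, inv_mul_cancel₀ (sub_ne_zero.2 hne.symm), map_one]

theorem xt_sub (α β : L) (hne : α ≠ β) : xt α β - C α * yt α β = T 1 := by
  unfold xt yt
  linear_combination (T 1) * hd α β hne

theorem xt_sub' (α β : L) (hne : α ≠ β) : xt α β - C β * yt α β = 1 := by
  unfold xt yt
  linear_combination hd α β hne

variable {q : MvPolynomial (Fin 2) K} {a b c : K} {α β : L}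

theorem phi0_q (H : Hyp q a b c α β) :
    phi0 (K := K) α β q = C (algebraMap K L a) * T 1 := by
  have e1 := xt_sub α β H.hne
  have e2 := xt_sub' α β H.hne
  have hb' : (algebraMap K L[T;T⁻¹] b) = -(C (algebraMap K L a) * (C α + C β)) := by
    rw [LaurentPolynomial.algebraMap_apply, H.hb]; simp
  have hc' : (algebraMap K L[T;T⁻¹] c) = C (algebraMap K L a) * C α * C β := by
    rw [LaurentPolynomial.algebraMap_apply, H.hc]; simp
  have ha' : (algebraMap K L[T;T⁻¹] a) = C (algebraMap K L a) := by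
    rw [LaurentPolynomial.algebraMap_apply]
  rw [H.hform]
  simp only [phi0, map_add, map_mul, map_pow, MvPolynomial.aeval_C, MvPolynomial.aeval_X,
    Matrix.cons_val_zero, Matrix.cons_val_one, hb', hc', ha']
  linear_combination (C (algebraMap K L a)) * ((xt α β - C β * yt α β) * e1 + T 1 * e2)

theorem isUnit_phi0_q (H : Hyp q a b c α β) : IsUnit (phi0 (K := K) α β q) := by
  rw [phi0_q H]
  exact ((map_ne_zero _).2 H.ha).isUnit.map C |>.mul (isUnit_T 1)

def Psi (H : Hyp q a b c α β) : Localization.Away q →+* L[T;T⁻¹] :=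
  IsLocalization.Away.lift q (g := (phi0 (K := K) α β : MvPolynomial (Fin 2) K →+* L[T;T⁻¹]))
    (isUnit_phi0_q H)

abbrev Aq (q : MvPolynomial (Fin 2) K) := HomogeneousLocalization.Away (gr K) q

def Phi (H : Hyp q a b c α β) : Aq q →+* L[T;T⁻¹] :=
  (Psi H).comp (algebraMap (Aq q) (Localization.Away q))

theorem Psi_algebraMap (H : Hyp q a b c α β) (f : MvPolynomial (Fin 2) K) :
    Psi H (algebraMap _ _ f) = phi0 α β f :=
  IsLocalization.Away.lift_eq q (isUnit_phi0_q H) f

theorem Phi_mk (H : Hyp q a b c α β) (n : ℕ) (f : MvPolynomial (Fin 2) K)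
    (hf : f ∈ gr K (n • 2)) :
    Phi H (HomogeneousLocalization.Away.mk (gr K) H.hq n f hf) * (C (algebraMap K L a) * T 1) ^ n
      = phi0 α β f := by
  have h1 : (Localization.mk f ⟨q ^ n, n, rfl⟩ : Localization.Away q) * algebraMap _ _ (q ^ n) =
      algebraMap _ _ f := by
    rw [Localization.mk_eq_mk']
    exact IsLocalization.mk'_spec_mk _ _ _ _
  have h2 := congrArg (Psi H) h1
  rw [map_mul, Psi_algebraMap, Psi_algebraMap, map_pow, phi0_q H] at h2
  exact h2

theorem Phi_smul (H : Hyp q a b c α β) (k : K) (z : Aq q) :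
    Phi H (k • z) = C (algebraMap K L k) * Phi H z := by
  unfold Phi
  rw [RingHom.comp_apply, RingHom.comp_apply, HomogeneousLocalization.algebraMap_apply,
    HomogeneousLocalization.algebraMap_apply, HomogeneousLocalization.val_smul, Algebra.smul_def,
    map_mul, IsScalarTower.algebraMap_apply K (MvPolynomial (Fin 2) K) (Localization.Away q),
    Psi_algebraMap, MvPolynomial.algebraMap_eq, phi0, MvPolynomial.aeval_C,
    LaurentPolynomial.algebraMap_apply]

theorem mem1 : (MvPolynomial.X 0 ^ 2 : MvPolynomial (Fin 2) K) ∈ gr K (1 • 2) := by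
  simpa using MvPolynomial.isHomogeneous_X_pow (R := K) (0 : Fin 2) 2
theorem mem2 : (MvPolynomial.X 0 * MvPolynomial.X 1 : MvPolynomial (Fin 2) K) ∈ gr K (1 • 2) := by
  have h := (MvPolynomial.isHomogeneous_X K (0 : Fin 2)).mul (MvPolynomial.isHomogeneous_X K (1 : Fin 2))
  simpa using h
theorem mem3 : (MvPolynomial.X 1 ^ 2 : MvPolynomial (Fin 2) K) ∈ gr K (1 • 2) := by
  simpa using MvPolynomial.isHomogeneous_X_pow (R := K) (1 : Fin 2) 2

/-- the three generators -/
def e1 (H : Hyp q a b c α β) : Aq q :=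
  HomogeneousLocalization.Away.mk (gr K) H.hq 1 (MvPolynomial.X 0 ^ 2) mem1
def e2 (H : Hyp q a b c α β) : Aq q :=
  HomogeneousLocalization.Away.mk (gr K) H.hq 1 (MvPolynomial.X 0 * MvPolynomial.X 1) mem2
def e3 (H : Hyp q a b c α β) : Aq q :=
  HomogeneousLocalization.Away.mk (gr K) H.hq 1 (MvPolynomial.X 1 ^ 2) mem3

theorem Phi_e1 (H : Hyp q a b c α β) :
    Phi H (e1 H) * (C (algebraMap K L a) * T 1) = xt α β ^ 2 := by
  have := Phi_mk H 1 _ (mem1 (K := K))
  rw [pow_one] at this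
  rw [e1, this]; simp [phi0]

theorem Phi_e2 (H : Hyp q a b c α β) :
    Phi H (e2 H) * (C (algebraMap K L a) * T 1) = xt α β * yt α β := by
  have := Phi_mk H 1 _ (mem2 (K := K))
  rw [pow_one] at this
  rw [e2, this]; simp [phi0]

theorem Phi_e3 (H : Hyp q a b c α β) :
    Phi H (e3 H) * (C (algebraMap K L a) * T 1) = yt α β ^ 2 := by
  have := Phi_mk H 1 _ (mem3 (K := K))
  rw [pow_one] at this
  rw [e3, this]; simp [phi0]

theorem isUnit_aT (H : Hyp q a b c α β) : IsUnit (C (algebraMap K L a) * T 1 : L[T;T⁻¹]) :=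
  ((map_ne_zero _).2 H.ha).isUnit.map C |>.mul (isUnit_T 1)

/-- `T = a (Φe₁ - 2α Φe₂ + α² Φe₃)` -/
theorem T_eq (H : Hyp q a b c α β) :
    C (algebraMap K L a) * (Phi H (e1 H) - 2 * C α * Phi H (e2 H) + C α ^ 2 * Phi H (e3 H)) = T 1 := by
  apply (isUnit_aT H).mul_left_inj.1
  have e := xt_sub α β H.hne
  linear_combination (C (algebraMap K L a)) * (Phi_e1 H - 2 * C α * Phi_e2 H + C α ^ 2 * Phi_e3 H)
    + (C (algebraMap K L a)) * (xt α β - C α * yt α β + T 1) * e

theorem Tinv_eq (H : Hyp q a b c α β) :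
    C (algebraMap K L a) * (Phi H (e1 H) - 2 * C β * Phi H (e2 H) + C β ^ 2 * Phi H (e3 H)) = T (-1) := by
  apply (isUnit_aT H).mul_left_inj.1
  have e := xt_sub' α β H.hne
  have hT : (T (-1) : L[T;T⁻¹]) * T 1 = 1 := by rw [← T_add]; simp
  linear_combination (C (algebraMap K L a)) * (Phi_e1 H - 2 * C β * Phi_e2 H + C β ^ 2 * Phi_e3 H)
    + (C (algebraMap K L a)) * (xt α β - C β * yt α β + 1) * e - (C (algebraMap K L a)) * hT

theorem one_eq (H : Hyp q a b c α β) :
    C (algebraMap K L a) * (Phi H (e1 H) - (C α + C β) * Phi H (e2 H) + C α * C β * Phi H (e3 H)) = 1 := by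
  apply (isUnit_aT H).mul_left_inj.1
  have e := xt_sub α β H.hne
  have e' := xt_sub' α β H.hne
  linear_combination (C (algebraMap K L a)) * (Phi_e1 H - (C α + C β) * Phi_e2 H + C α * C β * Phi_e3 H)
    + (C (algebraMap K L a)) * ((xt α β - C β * yt α β) * e + T 1 * e')


/-! ### injectivity -/

theorem phi0_eq_zero (H : Hyp q a b c α β) [Infinite L] {d : ℕ} {f : MvPolynomial (Fin 2) K}
    (hf : f.IsHomogeneous d) (h0 : phi0 α β f = 0) : f = 0 := by
  have hδ : β - α ≠ 0 := sub_ne_zero.2 H.hne.symm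
  have hev : ∀ τ : Lˣ, MvPolynomial.aeval
      ![(β - α)⁻¹ * (β * (τ : L) - α), (β - α)⁻¹ * ((τ : L) - 1)] f = 0 := by
    intro τ
    have hcomp : (LaurentPolynomial.eval₂ (RingHom.id L) τ).comp
        (phi0 (K := K) α β : MvPolynomial (Fin 2) K →+* L[T;T⁻¹]) =
        ((MvPolynomial.aeval ![(β - α)⁻¹ * (β * (τ : L) - α), (β - α)⁻¹ * ((τ : L) - 1)] :
          MvPolynomial (Fin 2) K →ₐ[K] L) : MvPolynomial (Fin 2) K →+* L) := by
      apply MvPolynomial.ringHom_ext
      · intro k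
        simp [phi0, LaurentPolynomial.algebraMap_apply]
      · intro i
        fin_cases i <;> simp [phi0, xt, yt]
    have h := RingHom.congr_fun hcomp f
    simp only [RingHom.comp_apply, RingHom.coe_coe] at h
    rw [h0, map_zero] at h
    exact h.symm
  obtain ⟨fL, hfL⟩ : ∃ fL, fL = MvPolynomial.map (algebraMap K L) f := ⟨_, rfl⟩
  have hF : fL * ((MvPolynomial.X 0 - MvPolynomial.C α * MvPolynomial.X 1) *
      (MvPolynomial.X 0 - MvPolynomial.C β * MvPolynomial.X 1)) = 0 := by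
    apply MvPolynomial.funext
    intro r
    rw [map_zero, map_mul, map_mul]
    simp only [map_sub, MvPolynomial.eval_X, map_mul, MvPolynomial.eval_C]
    by_cases hξ : r 0 - α * r 1 = 0
    · rw [hξ]; ring
    by_cases hη : r 0 - β * r 1 = 0
    · rw [hη]; ring
    have hfr : MvPolynomial.eval r fL = 0 := by
      rw [hfL, MvPolynomial.eval_map, ← MvPolynomial.aeval_def]
      obtain ⟨τ, hτ⟩ : ∃ τ : L, τ = (r 0 - α * r 1) / (r 0 - β * r 1) := ⟨_, rfl⟩
      have hτ0 : τ ≠ 0 := by rw [hτ]; exact div_ne_zero hξ hη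
      have hr : (fun i => (r 0 - β * r 1) *
          ![(β - α)⁻¹ * (β * τ - α), (β - α)⁻¹ * (τ - 1)] i) = r := by
        funext i
        fin_cases i
        · show (r 0 - β * r 1) * ((β - α)⁻¹ * (β * τ - α)) = r 0
          rw [hτ]; field_simp; ring
        · show (r 0 - β * r 1) * ((β - α)⁻¹ * (τ - 1)) = r 1
          rw [hτ]; field_simp; ring
      have h2 := hev (Units.mk0 τ hτ0)
      rw [Units.val_mk0] at h2
      rw [← hr, aeval_smul_of_isHomogeneous hf, h2, mul_zero]
    rw [hfr, zero_mul]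
  have hl1 : (MvPolynomial.X 0 - MvPolynomial.C α * MvPolynomial.X 1 : MvPolynomial (Fin 2) L) ≠ 0 := by
    intro h
    have := congrArg (MvPolynomial.eval ![1, 0]) h
    simp at this
  have hl2 : (MvPolynomial.X 0 - MvPolynomial.C β * MvPolynomial.X 1 : MvPolynomial (Fin 2) L) ≠ 0 := by
    intro h
    have := congrArg (MvPolynomial.eval ![1, 0]) h
    simp at this
  have hfL0 : fL = 0 := by
    rcases mul_eq_zero.1 hF with h | h
    · exact h
    · rcases mul_eq_zero.1 h with h | h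
      · exact absurd h hl1
      · exact absurd h hl2
  rw [hfL] at hfL0
  exact MvPolynomial.map_injective _ (algebraMap K L).injective (by rw [hfL0, map_zero])

theorem Phi_injective (H : Hyp q a b c α β) [Infinite L] : Function.Injective (Phi H) := by
  rw [injective_iff_map_eq_zero]
  intro z hz
  obtain ⟨n, f, hf, rfl⟩ := HomogeneousLocalization.Away.mk_surjective (gr K) H.hq z
  have h := Phi_mk H n f hf
  rw [hz, zero_mul] at h
  have hf0 : f = 0 := phi0_eq_zero H (d := n • 2) ((MvPolynomial.mem_homogeneousSubmodule _ _).1 hf) h.symm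
  subst hf0
  apply HomogeneousLocalization.val_injective
  rw [HomogeneousLocalization.Away.val_mk, HomogeneousLocalization.val_zero, Localization.mk_zero]

theorem Cb_eq (H : Hyp q a b c α β) :
    (C (algebraMap K L b) : L[T;T⁻¹]) = -(C (algebraMap K L a) * (C α + C β)) := by
  rw [H.hb]; simp

theorem Cc_eq (H : Hyp q a b c α β) :
    (C (algebraMap K L c) : L[T;T⁻¹]) = C (algebraMap K L a) * C α * C β := by
  rw [H.hc]; simp

theorem rel1 (H : Hyp q a b c α β) [Infinite L] : e1 H * e3 H = e2 H * e2 H := by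
  apply Phi_injective H
  rw [map_mul, map_mul]
  apply ((isUnit_aT H).pow 2).mul_left_inj.1
  linear_combination (Phi H (e3 H) * (C (algebraMap K L a) * T 1) + yt α β ^ 2 * 0) * Phi_e1 H
    + xt α β ^ 2 * Phi_e3 H
    - (Phi H (e2 H) * (C (algebraMap K L a) * T 1) + xt α β * yt α β) * Phi_e2 H

theorem rel2 (H : Hyp q a b c α β) [Infinite L] :
    a • e1 H + b • e2 H + c • e3 H = 1 := by
  apply Phi_injective H
  rw [map_add, map_add, Phi_smul, Phi_smul, Phi_smul, map_one, Cb_eq H, Cc_eq H]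
  linear_combination one_eq H

/-! ### extensionality of ring homs out of `Aq` -/

theorem adjoin_X_eq_top : Algebra.adjoin (gr K 0)
    (Set.range (MvPolynomial.X : Fin 2 → MvPolynomial (Fin 2) K)) = ⊤ := by
  rw [eq_top_iff]
  rintro p -
  induction p using MvPolynomial.induction_on with
  | C k =>
    have hk : (MvPolynomial.C k : MvPolynomial (Fin 2) K) ∈ gr K 0 := MvPolynomial.isHomogeneous_C _ k
    exact Subalgebra.algebraMap_mem _ (⟨_, hk⟩ : gr K 0)
  | add p q hp hq => exact Subalgebra.add_mem _ hp hq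
  | mul_X p i hp => exact Subalgebra.mul_mem _ hp (Algebra.subset_adjoin ⟨i, rfl⟩)

theorem mk_congr (H : Hyp q a b c α β) {n n' : ℕ} {f f' : MvPolynomial (Fin 2) K} (hn : n = n')
    (hff : f = f') (h : f ∈ gr K (n • 2)) (h' : f' ∈ gr K (n' • 2)) :
    HomogeneousLocalization.Away.mk (gr K) H.hq n f h =
      HomogeneousLocalization.Away.mk (gr K) H.hq n' f' h' := by
  subst hn; subst hff; rfl

theorem mk_zero_one (H : Hyp q a b c α β) (h : (1 : MvPolynomial (Fin 2) K) ∈ gr K (0 • 2)) :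
    HomogeneousLocalization.Away.mk (gr K) H.hq 0 1 h = 1 := by
  apply HomogeneousLocalization.val_injective
  rw [HomogeneousLocalization.Away.val_mk, HomogeneousLocalization.val_one]
  have : (⟨q ^ 0, ⟨0, rfl⟩⟩ : Submonoid.powers q) = 1 := Subtype.ext (pow_zero q)
  rw [this, Localization.mk_one]

theorem mk_two (H : Hyp q a b c α β)
    (h : (MvPolynomial.X 0 ^ 2 * MvPolynomial.X 1 ^ 2 : MvPolynomial (Fin 2) K) ∈ gr K (2 • 2)) :
    HomogeneousLocalization.Away.mk (gr K) H.hq 2 (MvPolynomial.X 0 ^ 2 * MvPolynomial.X 1 ^ 2) h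
      = e2 H * e2 H := by
  apply HomogeneousLocalization.val_injective
  rw [HomogeneousLocalization.val_mul, e2, HomogeneousLocalization.Away.val_mk,
    HomogeneousLocalization.Away.val_mk, Localization.mk_mul]
  have hs : ((⟨q ^ 1, ⟨1, rfl⟩⟩ : Submonoid.powers q) * ⟨q ^ 1, ⟨1, rfl⟩⟩) = ⟨q ^ 2, ⟨2, rfl⟩⟩ :=
    Subtype.ext (by simp [pow_two])
  have hnum : (MvPolynomial.X 0 ^ 2 * MvPolynomial.X 1 ^ 2 : MvPolynomial (Fin 2) K) =
      MvPolynomial.X 0 * MvPolynomial.X 1 * (MvPolynomial.X 0 * MvPolynomial.X 1) := by ring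
  rw [hs, hnum]

theorem hom_ext (H : Hyp q a b c α β) {R' : Type*} [CommRing R'] (ρ₁ ρ₂ : Aq q →+* R')
    (hk : ∀ k : K, ρ₁ (k • (1 : Aq q)) = ρ₂ (k • (1 : Aq q)))
    (h1 : ρ₁ (e1 H) = ρ₂ (e1 H)) (h2 : ρ₁ (e2 H) = ρ₂ (e2 H)) (h3 : ρ₁ (e3 H) = ρ₂ (e3 H)) :
    ρ₁ = ρ₂ := by
  have key := HomogeneousLocalization.Away.adjoin_mk_prod_pow_eq_top (𝒜 := gr K) H.hq (Fin 2)
    (MvPolynomial.X : Fin 2 → MvPolynomial (Fin 2) K) adjoin_X_eq_top (fun _ => 1)
    (fun i => MvPolynomial.isHomogeneous_X K i)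
  ext z
  have hz : z ∈ (⊤ : Subalgebra (gr K 0) (Aq q)) := Algebra.mem_top
  rw [← key] at hz
  induction hz using Algebra.adjoin_induction with
  | mem z hz =>
    obtain ⟨n, ai, hai, hle, rfl⟩ := hz
    have hsum : ai 0 + ai 1 = 2 * n := by
      simpa [Fin.sum_univ_two, mul_comm] using hai
    have h0 := hle 0
    have h1' := hle 1
    rcases (by omega : (ai 0 = 0 ∧ ai 1 = 0 ∧ n = 0) ∨ (ai 0 = 2 ∧ ai 1 = 0 ∧ n = 1) ∨
      (ai 0 = 1 ∧ ai 1 = 1 ∧ n = 1) ∨ (ai 0 = 0 ∧ ai 1 = 2 ∧ n = 1) ∨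
      (ai 0 = 2 ∧ ai 1 = 2 ∧ n = 2)) with ⟨e0, e1', en⟩ | ⟨e0, e1', en⟩ | ⟨e0, e1', en⟩ |
      ⟨e0, e1', en⟩ | ⟨e0, e1', en⟩
    · rw [mk_congr H en (f' := 1) (by rw [Fin.prod_univ_two, e0, e1']; simp) _
        (by simp only [zero_smul]; exact MvPolynomial.isHomogeneous_one _ _), mk_zero_one H, map_one,
        map_one]
    · rw [mk_congr H en (f' := MvPolynomial.X 0 ^ 2) (by rw [Fin.prod_univ_two, e0, e1']; simp) _ mem1]
      exact h1
    · rw [mk_congr H en (f' := MvPolynomial.X 0 * MvPolynomial.X 1)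
        (by rw [Fin.prod_univ_two, e0, e1']; simp) _ mem2]
      exact h2
    · rw [mk_congr H en (f' := MvPolynomial.X 1 ^ 2) (by rw [Fin.prod_univ_two, e0, e1']; simp) _ mem3]
      exact h3
    · rw [mk_congr H en (f' := MvPolynomial.X 0 ^ 2 * MvPolynomial.X 1 ^ 2)
        (by rw [Fin.prod_univ_two, e0, e1']) _
        (by
          have h := (MvPolynomial.isHomogeneous_X_pow (R := K) (0 : Fin 2) 2).mul
            (MvPolynomial.isHomogeneous_X_pow (R := K) (1 : Fin 2) 2)
          simpa using h), mk_two H, map_mul, map_mul, h2]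
  | algebraMap r =>
    obtain ⟨k, hk'⟩ : ∃ k : K, MvPolynomial.C k = (r : MvPolynomial (Fin 2) K) := by
      have h : (r : MvPolynomial (Fin 2) K) ∈ MvPolynomial.homogeneousSubmodule (Fin 2) K 0 := r.2
      rw [MvPolynomial.homogeneousSubmodule_zero, Submodule.mem_one] at h
      obtain ⟨k, hk⟩ := h
      exact ⟨k, by rw [← hk]; rfl⟩
    have hr : algebraMap (gr K 0) (Aq q) r = k • (1 : Aq q) := by
      apply HomogeneousLocalization.val_injective
      rw [HomogeneousLocalization.val_smul, HomogeneousLocalization.val_one,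
        HomogeneousLocalization.algebraMap_eq]
      show Localization.mk (r : MvPolynomial (Fin 2) K) 1 = _
      rw [← hk', Localization.mk_one_eq_algebraMap, Algebra.smul_def, mul_one,
        IsScalarTower.algebraMap_apply K (MvPolynomial (Fin 2) K) (Localization.Away q)]
      rfl
    rw [hr]; exact hk k
  | add x y _ _ hx hy => rw [map_add, map_add, hx, hy]
  | mul x y _ _ hx hy => rw [map_mul, map_mul, hx, hy]

end

end Groth.Agent.Lib.Helper6.ConicB
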