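import Mathlib
import Groth.Agent.Lib.Helper6.ConicB

universe u

attribute [local instance] MvPolynomial.gradedAlgebra

namespace Groth.Agent.Lib.Helper6.ConicC

open scoped Polynomial
open LaurentPolynomial
open Groth.Agent.Lib.Helper6.ConicA Groth.Agent.Lib.Helper6.ConicB

noncomputable section

variable {K : Type u} [Field K] {L : Type u} [Field L] [Algebra K L]
variable {q : MvPolynomial (Fin 2) K} {a b c : K} {α β : L}

/-! ### units of the Laurent ring -/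

def Tu : Multiplicative ℤ →* L[T;T⁻¹] where
  toFun n := T (Multiplicative.toAdd n)
  map_one' := T_zero
  map_mul' x y := T_add _ _

theorem TuU_val (m : ℤ) :
    (((Tu (L := L)).toHomUnits (Multiplicative.ofAdd m) : L[T;T⁻¹]ˣ) : L[T;T⁻¹]) = T m := rfl

theorem unit_zpow (u : L[T;T⁻¹]ˣ) (lam : L) (hlam : lam ≠ 0) (m : ℤ)
    (hu : (u : L[T;T⁻¹]) = C lam * T m) (n : ℤ) :
    ((u ^ n : L[T;T⁻¹]ˣ) : L[T;T⁻¹]) = C (lam ^ n) * T (n * m) := by
  have hu' : u = Units.map (C : L →+* L[T;T⁻¹]).toMonoidHom (Units.mk0 lam hlam) *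
      (Tu (L := L)).toHomUnits (Multiplicative.ofAdd m) := by
    apply Units.ext
    rw [hu, Units.val_mul, TuU_val]; rfl
  have h1 : (Units.map (C : L →+* L[T;T⁻¹]).toMonoidHom (Units.mk0 lam hlam)) ^ n =
      Units.map (C : L →+* L[T;T⁻¹]).toMonoidHom ((Units.mk0 lam hlam) ^ n) :=
    (map_zpow _ _ _).symm
  have h2 : ((Tu (L := L)).toHomUnits (Multiplicative.ofAdd m)) ^ n =
      (Tu (L := L)).toHomUnits (Multiplicative.ofAdd (n * m)) := by
    rw [← map_zpow, ← ofAdd_zsmul, smul_eq_mul]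
  rw [hu', mul_zpow, h1, h2, Units.val_mul, TuU_val, Units.coe_map]
  simp

def ev (u : L[T;T⁻¹]ˣ) : L[T;T⁻¹] →+* L[T;T⁻¹] :=
  LaurentPolynomial.eval₂ (C : L →+* L[T;T⁻¹]) u

theorem ev_C (u : L[T;T⁻¹]ˣ) (x : L) : ev u (C x) = C x := eval₂_C _ _ _
theorem ev_C_mul_T (u : L[T;T⁻¹]ˣ) (x : L) (n : ℤ) :
    ev u (C x * T n) = C x * ((u ^ n : L[T;T⁻¹]ˣ) : L[T;T⁻¹]) := eval₂_C_mul_T _ _ _ _
theorem ev_T (u : L[T;T⁻¹]ˣ) (n : ℤ) : ev u (T n) = ((u ^ n : L[T;T⁻¹]ˣ) : L[T;T⁻¹]) :=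
  eval₂_T _ _ _

def sigT (σ : L →+* L) : L[T;T⁻¹] →+* L[T;T⁻¹] :=
  LaurentPolynomial.eval₂ ((C : L →+* L[T;T⁻¹]).comp σ)
    ((Tu (L := L)).toHomUnits (Multiplicative.ofAdd (-1)))

theorem sigT_C (σ : L →+* L) (x : L) : sigT σ (C x) = C (σ x) := by
  unfold sigT; rw [eval₂_C]; rfl

theorem sigT_C_mul_T (σ : L →+* L) (x : L) (n : ℤ) :
    sigT σ (C x * T n) = C (σ x) * T (-n) := by
  unfold sigT
  rw [eval₂_C_mul_T, unit_zpow _ 1 one_ne_zero (-1) (by rw [TuU_val]; simp) n]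
  simp

/-! ### solving the linear system -/

theorem solve {E1 E2 E3 U U' : L[T;T⁻¹]} (a' : L)
    (hU : C a' * (E1 - 2 * C α * E2 + C α ^ 2 * E3) = U)
    (hU' : C a' * (E1 - 2 * C β * E2 + C β ^ 2 * E3) = U')
    (h1 : C a' * (E1 - (C α + C β) * E2 + C α * C β * E3) = 1) :
    C a' * (C β - C α) ^ 2 * E1 = C β ^ 2 * U + C α ^ 2 * U' - 2 * C α * C β ∧
    C a' * (C β - C α) ^ 2 * E2 = C β * U + C α * U' - (C α + C β) ∧
    C a' * (C β - C α) ^ 2 * E3 = U + U' - 2 := by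
  refine ⟨?_, ?_, ?_⟩
  · linear_combination C β ^ 2 * hU + C α ^ 2 * hU' - 2 * C α * C β * h1
  · linear_combination C β * hU + C α * hU' - (C α + C β) * h1
  · linear_combination hU + hU' - 2 * h1

theorem isUnit_kappa (H : Hyp q a b c α β) :
    IsUnit (C (algebraMap K L a) * (C β - C α) ^ 2 : L[T;T⁻¹]) := by
  have : (C (algebraMap K L a) * (C β - C α) ^ 2 : L[T;T⁻¹]) =
      C (algebraMap K L a * (β - α) ^ 2) := by simp
  rw [this]
  apply IsUnit.map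
  exact (mul_ne_zero ((map_ne_zero _).2 H.ha) (pow_ne_zero _ (sub_ne_zero.2 H.hne.symm))).isUnit

theorem uniq (H : Hyp q a b c α β) {E1 E2 E3 F1 F2 F3 U U' : L[T;T⁻¹]}
    (hU : C (algebraMap K L a) * (E1 - 2 * C α * E2 + C α ^ 2 * E3) = U)
    (hU' : C (algebraMap K L a) * (E1 - 2 * C β * E2 + C β ^ 2 * E3) = U')
    (h1 : C (algebraMap K L a) * (E1 - (C α + C β) * E2 + C α * C β * E3) = 1)
    (gU : C (algebraMap K L a) * (F1 - 2 * C α * F2 + C α ^ 2 * F3) = U)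
    (gU' : C (algebraMap K L a) * (F1 - 2 * C β * F2 + C β ^ 2 * F3) = U')
    (g1 : C (algebraMap K L a) * (F1 - (C α + C β) * F2 + C α * C β * F3) = 1) :
    E1 = F1 ∧ E2 = F2 ∧ E3 = F3 := by
  obtain ⟨p1, p2, p3⟩ := solve _ hU hU' h1
  obtain ⟨r1, r2, r3⟩ := solve _ gU gU' g1
  have hk := isUnit_kappa H
  exact ⟨hk.mul_right_inj.1 (p1.trans r1.symm), hk.mul_right_inj.1 (p2.trans r2.symm),
    hk.mul_right_inj.1 (p3.trans r3.symm)⟩

/-! ### K-linear ring homs `Aq → L[T;T⁻¹]` -/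

def Uof (H : Hyp q a b c α β) (ρ : Aq q →+* L[T;T⁻¹]) : L[T;T⁻¹] :=
  C (algebraMap K L a) * (ρ (e1 H) - 2 * C α * ρ (e2 H) + C α ^ 2 * ρ (e3 H))

def Uof' (H : Hyp q a b c α β) (ρ : Aq q →+* L[T;T⁻¹]) : L[T;T⁻¹] :=
  C (algebraMap K L a) * (ρ (e1 H) - 2 * C β * ρ (e2 H) + C β ^ 2 * ρ (e3 H))

def IsLin (ρ : Aq q →+* L[T;T⁻¹]) : Prop :=
  ∀ (k : K) (z : Aq q), ρ (k • z) = C (algebraMap K L k) * ρ z

theorem rho_rel (H : Hyp q a b c α β) [Infinite L] (ρ : Aq q →+* L[T;T⁻¹]) (hρ : IsLin ρ) :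
    ρ (e1 H) * ρ (e3 H) = ρ (e2 H) * ρ (e2 H) ∧
    C (algebraMap K L a) * (ρ (e1 H) - (C α + C β) * ρ (e2 H) + C α * C β * ρ (e3 H)) = 1 := by
  constructor
  · rw [← map_mul, ← map_mul, rel1 H]
  · have := congrArg ρ (rel2 H)
    rw [map_add, map_add, hρ, hρ, hρ, map_one, Cb_eq H, Cc_eq H] at this
    linear_combination this

theorem U_mul_U' (H : Hyp q a b c α β) [Infinite L] (ρ : Aq q →+* L[T;T⁻¹]) (hρ : IsLin ρ) :
    Uof H ρ * Uof' H ρ = 1 := by
  obtain ⟨h1, h2⟩ := rho_rel H ρ hρ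
  unfold Uof Uof'
  linear_combination (C (algebraMap K L a)) ^ 2 * (C α - C β) ^ 2 * h1 +
    (C (algebraMap K L a) * (ρ (e1 H) - (C α + C β) * ρ (e2 H) + C α * C β * ρ (e3 H)) + 1) * h2

def uOf (H : Hyp q a b c α β) [Infinite L] (ρ : Aq q →+* L[T;T⁻¹]) (hρ : IsLin ρ) : L[T;T⁻¹]ˣ :=
  ⟨Uof H ρ, Uof' H ρ, U_mul_U' H ρ hρ, by rw [mul_comm]; exact U_mul_U' H ρ hρ⟩

theorem rho_eq (H : Hyp q a b c α β) [Infinite L] (ρ : Aq q →+* L[T;T⁻¹]) (hρ : IsLin ρ) :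
    ρ = (ev (uOf H ρ hρ)).comp (Phi H) := by
  have hT1 : ev (uOf H ρ hρ) (T 1) = Uof H ρ := by rw [ev_T, zpow_one]; rfl
  have hT2 : ev (uOf H ρ hρ) (T (-1)) = Uof' H ρ := by rw [ev_T, zpow_neg_one]; rfl
  have i1 := congrArg (ev (uOf H ρ hρ)) (T_eq H)
  have i2 := congrArg (ev (uOf H ρ hρ)) (Tinv_eq H)
  have i3 := congrArg (ev (uOf H ρ hρ)) (one_eq H)
  simp only [map_mul, map_sub, map_add, map_pow, ev_C, map_ofNat, map_one] at i1 i2 i3
  rw [hT1] at i1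
  rw [hT2] at i2
  obtain ⟨r1, r2⟩ := rho_rel H ρ hρ
  obtain ⟨q1, q2, q3⟩ := uniq H (U := Uof H ρ) (U' := Uof' H ρ) rfl rfl r2 i1 i2 i3
  apply hom_ext H
  · intro k
    rw [hρ, map_one, mul_one, RingHom.comp_apply, Phi_smul, map_one, mul_one, ev_C]
  · exact q1
  · exact q2
  · exact q3

theorem sigT_Phi (H : Hyp q a b c α β) [Infinite L] (σ : L →+* L)
    (hσK : ∀ k : K, σ (algebraMap K L k) = algebraMap K L k) (hσα : σ α = β) (hσβ : σ β = α) :
    (sigT σ).comp (Phi H) = Phi H := by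
  have hT1 : sigT σ (T 1) = T (-1) := by
    have := sigT_C_mul_T σ 1 1; simpa using this
  have hT2 : sigT σ (T (-1)) = T 1 := by
    have := sigT_C_mul_T σ 1 (-1); simpa using this
  have i1 := congrArg (sigT σ) (T_eq H)
  have i2 := congrArg (sigT σ) (Tinv_eq H)
  have i3 := congrArg (sigT σ) (one_eq H)
  simp only [map_mul, map_sub, map_add, map_pow, sigT_C, map_ofNat, map_one, hσK, hσα, hσβ,
    hT1, hT2] at i1 i2 i3
  obtain ⟨q1, q2, q3⟩ := uniq H i2 i1 (by linear_combination i3) (T_eq H) (Tinv_eq H) (one_eq H)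
  apply hom_ext H
  · intro k
    rw [RingHom.comp_apply, Phi_smul, map_one, mul_one, sigT_C, hσK]
  · exact q1
  · exact q2
  · exact q3

/-! ### automorphisms -/

def IsLinG (g : Aq q ≃+* Aq q) : Prop := ∀ (k : K) (z : Aq q), g (k • z) = k • g z

def rho (H : Hyp q a b c α β) (g : Aq q ≃+* Aq q) : Aq q →+* L[T;T⁻¹] :=
  (Phi H).comp g.toRingHom

theorem rho_apply (H : Hyp q a b c α β) (g : Aq q ≃+* Aq q) (z : Aq q) :
    rho H g z = Phi H (g z) := rfl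

theorem rho_lin (H : Hyp q a b c α β) (g : Aq q ≃+* Aq q) (hg : IsLinG g) : IsLin (rho H g) := by
  intro k z
  rw [rho_apply, hg, Phi_smul, rho_apply]

theorem rho_one (H : Hyp q a b c α β) : rho H (1 : Aq q ≃+* Aq q) = Phi H := by
  ext z; rfl

theorem Uof_one (H : Hyp q a b c α β) : Uof H (rho H 1) = T 1 := by
  rw [rho_one]; exact T_eq H

theorem isLinG_inv (g : Aq q ≃+* Aq q) (hg : IsLinG g) : IsLinG g⁻¹ := by
  intro k z
  apply g.injective
  rw [hg]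
  show g (g.symm (k • z)) = k • g (g.symm z)
  rw [RingEquiv.apply_symm_apply, RingEquiv.apply_symm_apply]

theorem U_comp (H : Hyp q a b c α β) [Infinite L] (g h : Aq q ≃+* Aq q) (hg : IsLinG g) :
    Uof H (rho H (g * h)) = ev (uOf H (rho H g) (rho_lin H g hg)) (Uof H (rho H h)) := by
  have e := rho_eq H (rho H g) (rho_lin H g hg)
  have key : ∀ z, rho H (g * h) z = ev (uOf H (rho H g) (rho_lin H g hg)) (rho H h z) := by
    intro z
    have := RingHom.congr_fun e (h z)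
    rw [RingHom.comp_apply] at this
    exact this
  unfold Uof
  rw [key, key, key]
  simp only [map_mul, map_sub, map_add, map_pow, ev_C, map_ofNat]

section Sigma
variable (H : Hyp q a b c α β) [Infinite L] (σ : L →+* L)
  (hσK : ∀ k : K, σ (algebraMap K L k) = algebraMap K L k) (hσα : σ α = β) (hσβ : σ β = α)
include H hσK hσα hσβ

theorem data (g : Aq q ≃+* Aq q) (hg : IsLinG g) :
    ∃ (lam : L) (n : ℤ), lam ≠ 0 ∧ Uof H (rho H g) = C lam * T n ∧ σ lam * lam = 1 := by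
  have hUU := U_mul_U' H (rho H g) (rho_lin H g hg)
  obtain ⟨lam, n, hlam, hU⟩ := laurent_unit _ _ hUU
  refine ⟨lam, n, hlam, hU, ?_⟩
  have hV : Uof H (rho H g) * (C lam⁻¹ * T (-n)) = 1 := by
    rw [hU]
    calc C lam * T n * (C lam⁻¹ * T (-n)) = C (lam * lam⁻¹) * (T n * T (-n)) := by
          rw [map_mul]; ring
      _ = 1 := by rw [mul_inv_cancel₀ hlam, ← T_add, add_neg_cancel, T_zero, map_one, mul_one]
  have hU' : Uof' H (rho H g) = C lam⁻¹ * T (-n) := by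
    calc Uof' H (rho H g) = Uof' H (rho H g) * (Uof H (rho H g) * (C lam⁻¹ * T (-n))) := by
          rw [hV, mul_one]
      _ = (Uof H (rho H g) * Uof' H (rho H g)) * (C lam⁻¹ * T (-n)) := by ring
      _ = C lam⁻¹ * T (-n) := by rw [hUU, one_mul]
  have hs := sigT_Phi H σ hσK hσα hσβ
  have hfix : ∀ z, sigT σ (rho H g z) = rho H g z := by
    intro z; rw [rho_apply]; exact RingHom.congr_fun hs (g z)
  have hsU : sigT σ (Uof H (rho H g)) = Uof' H (rho H g) := by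
    unfold Uof Uof'
    simp only [map_mul, map_sub, map_add, map_pow, sigT_C, map_ofNat, hfix, hσK, hσα]
  rw [hU, hU', sigT_C_mul_T] at hsU
  have := (C_mul_T_inj ((map_ne_zero σ).2 hlam) hsU).2
  rw [this, inv_mul_cancel₀ hlam]

theorem n_eq (g : Aq q ≃+* Aq q) (hg : IsLinG g) (lam : L) (n : ℤ) (hlam : lam ≠ 0)
    (hU : Uof H (rho H g) = C lam * T n) : n = 1 ∨ n = -1 := by
  obtain ⟨mu, m, hmu, hV, -⟩ := data H σ hσK hσα hσβ g⁻¹ (isLinG_inv g hg)
  have h1 := U_comp H g g⁻¹ hg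
  rw [mul_inv_cancel, Uof_one, hV, ev_C_mul_T, unit_zpow _ lam hlam n hU m] at h1
  have h2 : (C (1 : L) * T 1 : L[T;T⁻¹]) = C (mu * lam ^ m) * T (m * n) := by
    rw [map_one, one_mul, h1, map_mul]; ring
  have h3 := (C_mul_T_inj one_ne_zero h2).1
  exact Int.eq_one_or_neg_one_of_mul_eq_one (by rw [mul_comm]; exact h3.symm)

theorem lam_pm_one (hK : ∀ n : ℕ, 0 < n → (Polynomial.X ^ n - 1 : Polynomial K).Splits)
    (G : Subgroup (Aq q ≃+* Aq q)) [Finite G] (hG : ∀ g ∈ G, IsLinG g)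
    (g : Aq q ≃+* Aq q) (hg : g ∈ G) (lam : L) (hlam : lam ≠ 0)
    (hU : Uof H (rho H g) = C lam * T 1) : lam = 1 ∨ lam = -1 := by
  have hpow : ∀ k : ℕ, Uof H (rho H (g ^ k)) = C (lam ^ k) * T 1 := by
    intro k
    induction k with
    | zero => rw [pow_zero, Uof_one, pow_zero, map_one, one_mul]
    | succ k ih =>
      rw [pow_succ', U_comp H g (g ^ k) (hG g hg), ih, ev_C_mul_T, unit_zpow _ lam hlam 1 hU 1,
        zpow_one, mul_one, pow_succ, map_mul]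
      ring
  obtain ⟨m, hm, hgm⟩ : ∃ m : ℕ, 0 < m ∧ g ^ m = 1 := by
    refine ⟨orderOf (⟨g, hg⟩ : G), orderOf_pos _, ?_⟩
    have := pow_orderOf_eq_one (⟨g, hg⟩ : G)
    exact congrArg Subtype.val this
  have h1 := hpow m
  rw [hgm, Uof_one] at h1
  have h2 : (C (1 : L) * T 1 : L[T;T⁻¹]) = C (lam ^ m) * T 1 := by
    rw [map_one, one_mul]; exact h1
  have hlm : lam ^ m = 1 := ((C_mul_T_inj one_ne_zero h2).2).symm
  obtain ⟨lam', n', hlam', hU', hσ⟩ := data H σ hσK hσα hσβ g (hG g hg)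
  rw [hU] at hU'
  obtain ⟨-, rfl⟩ := C_mul_T_inj hlam hU'
  obtain ⟨r, rfl⟩ := mem_range_of_pow_eq_one hK hm lam hlm
  rw [hσK] at hσ
  exact mul_self_eq_one_iff.1 hσ

theorem U_inj (g h : Aq q ≃+* Aq q) (hg : IsLinG g) (hh : IsLinG h)
    (e : Uof H (rho H g) = Uof H (rho H h)) : g = h := by
  have hu : uOf H (rho H g) (rho_lin H g hg) = uOf H (rho H h) (rho_lin H h hh) := Units.ext e
  have e1 := rho_eq H (rho H g) (rho_lin H g hg)
  have e2 := rho_eq H (rho H h) (rho_lin H h hh)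
  rw [hu] at e1
  have e3 : rho H g = rho H h := e1.trans e2.symm
  apply RingEquiv.ext
  intro z
  apply Phi_injective H
  exact RingHom.congr_fun e3 z

theorem main (hK : ∀ n : ℕ, 0 < n → (Polynomial.X ^ n - 1 : Polynomial K).Splits)
    (G : Subgroup (Aq q ≃+* Aq q)) [Finite G] (hG : ∀ g ∈ G, IsLinG g) :
    (∀ g ∈ G, g ^ 2 = 1) ∧ Nat.card G ≤ 4 := by
  have hcls : ∀ g ∈ G, ∃ lam : L, lam ≠ 0 ∧
      ((Uof H (rho H g) = C lam * T 1 ∧ (lam = 1 ∨ lam = -1)) ∨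
        Uof H (rho H g) = C lam * T (-1)) := by
    intro g hg
    obtain ⟨lam, n, hlam, hU, -⟩ := data H σ hσK hσα hσβ g (hG g hg)
    rcases n_eq H σ hσK hσα hσβ g (hG g hg) lam n hlam hU with rfl | rfl
    · exact ⟨lam, hlam, Or.inl ⟨hU, lam_pm_one H σ hσK hσα hσβ hK G hG g hg lam hlam hU⟩⟩
    · exact ⟨lam, hlam, Or.inr hU⟩
  constructor
  · intro g hg
    apply U_inj H σ hσK hσα hσβ (g ^ 2) 1 (hG _ (G.pow_mem hg 2)) (hG _ G.one_mem)
    rw [Uof_one, pow_two, U_comp H g g (hG g hg)]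
    obtain ⟨lam, hlam, (⟨hU, hl⟩ | hU)⟩ := hcls g hg
    · rw [hU, ev_C_mul_T, unit_zpow _ lam hlam 1 hU 1, zpow_one, mul_one, ← mul_assoc, ← map_mul]
      have : lam * lam = 1 := by rcases hl with rfl | rfl <;> ring
      rw [this, map_one, one_mul]
    · rw [hU, ev_C_mul_T, unit_zpow _ lam hlam (-1) hU (-1), ← mul_assoc, ← map_mul, zpow_neg_one,
        mul_inv_cancel₀ hlam, map_one, one_mul]
      norm_num
  · classical
    obtain ⟨lam0, hlam0, h0⟩ : ∃ lam0 : L, lam0 ≠ 0 ∧ ∀ g ∈ G, ∀ lam : L, lam ≠ 0 →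
        Uof H (rho H g) = C lam * T (-1) → (lam = lam0 ∨ lam = -lam0) := by
      by_cases hex : ∃ g0 ∈ G, ∃ lam0 : L, lam0 ≠ 0 ∧ Uof H (rho H g0) = C lam0 * T (-1)
      · obtain ⟨g0, hg0, lam0, hlam0, hU0⟩ := hex
        refine ⟨lam0, hlam0, ?_⟩
        intro g hg lam hlam hU
        have hc := U_comp H g0 g (hG g0 hg0)
        rw [hU, ev_C_mul_T, unit_zpow _ lam0 hlam0 (-1) hU0 (-1)] at hc
        have hc' : Uof H (rho H (g0 * g)) = C (lam * lam0⁻¹) * T 1 := by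
          rw [hc, zpow_neg_one, map_mul]
          norm_num
          ring
        have h3 := lam_pm_one H σ hσK hσα hσβ hK G hG (g0 * g) (G.mul_mem hg0 hg) (lam * lam0⁻¹)
          (mul_ne_zero hlam (inv_ne_zero hlam0)) hc'
        rcases h3 with h | h
        · left
          field_simp at h
          exact h
        · right
          field_simp at h
          linear_combination h
      · refine ⟨1, one_ne_zero, ?_⟩
        intro g hg lam hlam hU
        exact absurd ⟨g, hg, lam, hlam, hU⟩ hex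
    let S : Finset L[T;T⁻¹] := {T 1, -T 1, C lam0 * T (-1), -(C lam0 * T (-1))}
    have hS : ∀ g : G, Uof H (rho H g.1) ∈ S := by
      rintro ⟨g, hg⟩
      obtain ⟨lam, hlam, (⟨hU, hl⟩ | hU)⟩ := hcls g hg
      · rcases hl with rfl | rfl
        · simp [S, hU]
        · simp [S, hU]
      · rcases h0 g hg lam hlam hU with rfl | rfl
        · simp [S, hU]
        · simp [S, hU]
    have hinj : Function.Injective (fun g : G => (⟨Uof H (rho H g.1), hS g⟩ : S)) := by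
      intro g h e
      apply Subtype.ext
      exact U_inj H σ hσK hσα hσβ g.1 h.1 (hG _ g.2) (hG _ h.2) (congrArg Subtype.val e)
    calc Nat.card G ≤ Nat.card S := Nat.card_le_card_of_injective _ hinj
      _ = S.card := by simp
      _ ≤ 4 := Finset.card_le_four

end Sigma

end

end Groth.Agent.Lib.Helper6.ConicC
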