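import Mathlib
import Groth.Agent.Lib.Helper6.ConicC

universe u

attribute [local instance] MvPolynomial.gradedAlgebra

namespace Groth.Agent.Lib.Helper6.ConicD

open Groth.Agent.Lib.Helper6.ConicA Groth.Agent.Lib.Helper6.ConicB Groth.Agent.Lib.Helper6.ConicC

noncomputable section

variable {K : Type u} [Field K]

theorem no_root (q : MvPolynomial (Fin 2) K) (a b c : K)
    (hform : q = MvPolynomial.C a * MvPolynomial.X 0 ^ 2 + MvPolynomial.C b * MvPolynomial.X 0 *
      MvPolynomial.X 1 + MvPolynomial.C c * MvPolynomial.X 1 ^ 2)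
    (hirr : Irreducible q) (r : K) : a * r ^ 2 + b * r + c ≠ 0 := by
  intro h
  have hc : c = -(r * (b + a * r)) := by linear_combination h
  have hfac : q = (MvPolynomial.X 0 - MvPolynomial.C r * MvPolynomial.X 1) *
      (MvPolynomial.C a * MvPolynomial.X 0 + MvPolynomial.C (b + a * r) * MvPolynomial.X 1) := by
    rw [hform, hc]
    simp only [map_add, map_mul, map_neg]
    ring
  rcases hirr.isUnit_or_isUnit hfac with hu | hu
  · have := hu.map (MvPolynomial.eval ![r, 1])
    simp at this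
  · have := hu.map (MvPolynomial.eval ![-(b + a * r), a])
    simp only [map_add, map_mul, MvPolynomial.eval_C, MvPolynomial.eval_X, Matrix.cons_val_zero,
      Matrix.cons_val_one] at this
    have h0 : a * -(b + a * r) + (b + a * r) * a = 0 := by ring
    rw [h0] at this
    exact not_isUnit_zero this

theorem main179 (hK : ∀ n : ℕ, 0 < n → (Polynomial.X ^ n - 1 : Polynomial K).Splits)
    (q : MvPolynomial (Fin 2) K) (hq : q.IsHomogeneous 2) (hirr : Irreducible q)
    (hdisc : (q.coeff (Finsupp.single 0 1 + Finsupp.single 1 1)) ^ 2 -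
      4 * q.coeff (Finsupp.single 0 2) * q.coeff (Finsupp.single 1 2) ≠ 0)
    (G : Subgroup (HomogeneousLocalization.Away (MvPolynomial.homogeneousSubmodule (Fin 2) K) q ≃+*
      HomogeneousLocalization.Away (MvPolynomial.homogeneousSubmodule (Fin 2) K) q)) [Finite G]
    (hG : ∀ g ∈ G, ∀ (k : K)
      (z : HomogeneousLocalization.Away (MvPolynomial.homogeneousSubmodule (Fin 2) K) q),
      g (k • z) = k • g z) :
    (∀ g ∈ G, g ^ 2 = 1) ∧ Nat.card G ≤ 4 := by
  have hform := quad_form q hq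
  obtain ⟨a, ha⟩ : ∃ a, a = q.coeff (Finsupp.single 0 2) := ⟨_, rfl⟩
  obtain ⟨b, hb⟩ : ∃ b, b = q.coeff (Finsupp.single 0 1 + Finsupp.single 1 1) := ⟨_, rfl⟩
  obtain ⟨c, hc⟩ : ∃ c, c = q.coeff (Finsupp.single 1 2) := ⟨_, rfl⟩
  rw [← ha, ← hb, ← hc] at hform hdisc
  have hroot := no_root q a b c hform hirr
  have ha0 : a ≠ 0 := by
    intro h0
    have hb0 : b ≠ 0 := by
      intro hb0
      apply hdisc
      rw [h0, hb0]; ring
    apply hroot (-c / b)
    rw [h0]; field_simp; ring
  obtain ⟨α, β, σ, h1, h2, hne, -, hσα, hσβ⟩ := exists_roots a b c ha0 hdisc hroot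
  have H : Hyp q a b c α β := ⟨hq, ha0, hform, h1, h2, hne⟩
  exact main H (σ : AlgebraicClosure K →+* AlgebraicClosure K) (fun k => σ.commutes k) hσα hσβ hK G hG

end

end Groth.Agent.Lib.Helper6.ConicD
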