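import Mathlib

set_option autoImplicit false

namespace Groth.Agent.Lib.Helper6.CorootPresA

open Module

universe u v w x

variable {ι : Type u} {R : Type v} {M : Type w} {N : Type x} [CommRing R] [IsDomain R] [CharZero R]
  [AddCommGroup M] [Module R M] [AddCommGroup N] [Module R N] (P : RootPairing ι R M N)
  [Finite ι] [P.IsCrystallographic]

/-- expansion of the Cartan integers under a reflection on the left -/
lemma pairingIn_refl_left (i j l : ι) :
    P.pairingIn ℤ (P.reflectionPerm i j) l
      = P.pairingIn ℤ j l - P.pairingIn ℤ j i * P.pairingIn ℤ i l := by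
  apply FaithfulSMul.algebraMap_injective ℤ R
  rw [map_sub, map_mul, P.algebraMap_pairingIn, P.algebraMap_pairingIn, P.algebraMap_pairingIn,
    P.algebraMap_pairingIn]
  unfold RootPairing.pairing RootPairing.root'
  rw [← P.reflectionPerm_root i j]
  simp only [map_sub, map_smul, LinearMap.sub_apply, LinearMap.smul_apply, smul_eq_mul]

/-- expansion of the Cartan integers under a reflection on the right -/
lemma pairingIn_refl_right (i j l : ι) :
    P.pairingIn ℤ l (P.reflectionPerm i j)
      = P.pairingIn ℤ l j - P.pairingIn ℤ i j * P.pairingIn ℤ l i := by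
  apply FaithfulSMul.algebraMap_injective ℤ R
  rw [map_sub, map_mul, P.algebraMap_pairingIn, P.algebraMap_pairingIn, P.algebraMap_pairingIn,
    P.algebraMap_pairingIn]
  unfold RootPairing.pairing RootPairing.root'
  rw [← P.reflectionPerm_coroot i j]
  simp only [map_sub, map_smul, smul_eq_mul]

/-- Cartan integers as rationals -/
noncomputable def A (i j : ι) : ℚ := (P.pairingIn ℤ i j : ℚ)

/-- column `j` of the Cartan matrix -/
noncomputable def col (j : ι) : ι → ℚ := fun i => A P i j

/-- the rational span of the columns -/
noncomputable def W : Submodule ℚ (ι → ℚ) := Submodule.span ℚ (Set.range (col P))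

noncomputable def colW (j : ι) : W P := ⟨col P j, Submodule.subset_span ⟨j, rfl⟩⟩

noncomputable def rowW (i : ι) : Dual ℚ (W P) := (LinearMap.proj i) ∘ₗ (W P).subtype

lemma rowW_apply (i : ι) (w : W P) : rowW P i w = (w : ι → ℚ) i := rfl

lemma rowW_colW (i j : ι) : rowW P i (colW P j) = A P i j := rfl

lemma span_colW : Submodule.span ℚ (Set.range (colW P)) = ⊤ := by
  have h := Submodule.span_span_coe_preimage (R := ℚ) (s := Set.range (col P))
  have h2 : ((↑) : Submodule.span ℚ (Set.range (col P)) → (ι → ℚ)) ⁻¹' (Set.range (col P))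
      = Set.range (colW P) := by
    ext w
    constructor
    · rintro ⟨j, hj⟩
      exact ⟨j, Subtype.ext hj⟩
    · rintro ⟨j, rfl⟩
      exact ⟨j, rfl⟩
  rw [h2] at h
  exact h

lemma dual_ext (φ ψ : Dual ℚ (W P)) (h : ∀ l, φ (colW P l) = ψ (colW P l)) : φ = ψ :=
  LinearMap.ext_on_range (span_colW P) h

include P in
omit [CharZero R] [Finite ι] [P.IsCrystallographic] in
lemma torsionFree : Module.IsTorsionFree R M := by
  have : IsReflexive R M := .of_isPerfPair P.toLinearMap
  infer_instance

lemma A_same (i : ι) : A P i i = 2 := by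
  unfold A
  rw [P.pairingIn_same]
  norm_num

lemma rowW_injective : Function.Injective (rowW P) := by
  intro i k hik
  haveI := torsionFree P
  have h1 : A P i k = A P k k := by rw [← rowW_colW, ← rowW_colW, hik]
  have h2 : A P k i = A P i i := by rw [← rowW_colW, ← rowW_colW, hik]
  rw [A_same] at h1 h2
  unfold A at h1 h2
  have h1' : P.pairingIn ℤ i k = 2 := by exact_mod_cast h1
  have h2' : P.pairingIn ℤ k i = 2 := by exact_mod_cast h2
  exact (P.pairingIn_two_two_iff ℤ i k).1 ⟨h1', h2'⟩

lemma colW_injective : Function.Injective (colW P) := by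
  intro j k hjk
  haveI := torsionFree P
  have hjk' : col P j = col P k := congrArg Subtype.val hjk
  have h1 : A P k j = A P k k := congrFun hjk' k
  have h2 : A P j k = A P j j := (congrFun hjk' j).symm
  rw [A_same] at h1 h2
  unfold A at h1 h2
  have h1' : P.pairingIn ℤ k j = 2 := by exact_mod_cast h1
  have h2' : P.pairingIn ℤ j k = 2 := by exact_mod_cast h2
  exact (P.pairingIn_two_two_iff ℤ j k).1 ⟨h2', h1'⟩

/-- the auxiliary rational root pairing -/
noncomputable def Pq : RootPairing ι ℚ (Dual ℚ (W P)) (W P) where
  toLinearMap := LinearMap.id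
  root := ⟨rowW P, rowW_injective P⟩
  coroot := ⟨colW P, colW_injective P⟩
  root_coroot_two i := A_same P i
  reflectionPerm := P.reflectionPerm
  reflectionPerm_root i j := by
    apply dual_ext
    intro l
    show rowW P j (colW P l) - (rowW P j (colW P i)) • rowW P i (colW P l)
      = rowW P (P.reflectionPerm i j) (colW P l)
    rw [rowW_colW, rowW_colW, rowW_colW, rowW_colW]
    unfold A
    rw [pairingIn_refl_left]
    push_cast
    rfl
  reflectionPerm_coroot i j := by
    apply Subtype.ext
    funext l
    show A P l j - (rowW P i (colW P j)) • A P l i = A P l (P.reflectionPerm i j)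
    rw [rowW_colW]
    unfold A
    rw [pairingIn_refl_right]
    push_cast
    rfl

lemma Pq_pairing (i j : ι) : (Pq P).pairing i j = A P i j := rfl

lemma Pq_reflectionPerm (i : ι) : (Pq P).reflectionPerm i = P.reflectionPerm i := rfl

lemma Pq_coroot (j : ι) : (Pq P).coroot j = colW P j := rfl

lemma Pq_root (j : ι) : (Pq P).root j = rowW P j := rfl

instance : (Pq P).IsCrystallographic where
  exists_value i j := ⟨P.pairingIn ℤ i j, by rw [Pq_pairing]; rfl⟩

lemma Pq_pairingIn (i j : ι) : (Pq P).pairingIn ℤ i j = P.pairingIn ℤ i j := by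
  apply FaithfulSMul.algebraMap_injective ℤ ℚ
  rw [(Pq P).algebraMap_pairingIn, Pq_pairing]
  rfl

instance : (Pq P).IsRootSystem where
  span_coroot_eq_top := span_colW P
  span_root_eq_top := by
    have hfd : FiniteDimensional ℚ (Submodule.span ℚ (Set.range (Pq P).root)) := inferInstance
    rw [← Subspace.dualCoannihilator_dualAnnihilator_eq
      (W := Submodule.span ℚ (Set.range (Pq P).root))]
    have h0 : (Submodule.span ℚ (Set.range (Pq P).root)).dualCoannihilator = ⊥ := by
      rw [eq_bot_iff]
      intro w hw
      rw [Submodule.mem_dualCoannihilator] at hw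
      rw [Submodule.mem_bot]
      apply Subtype.ext
      funext i
      exact hw _ (Submodule.subset_span ⟨i, rfl⟩)
    rw [h0, Submodule.dualAnnihilator_bot]

instance [P.IsReduced] : (Pq P).IsReduced where
  eq_or_eq_neg i j h := by
    haveI := torsionFree P
    rw [← RootPairing.coxeterWeight_eq_four_iff_not_linearIndependent] at h
    have h4 : P.coxeterWeight i j = 4 := by
      unfold RootPairing.coxeterWeight at h ⊢
      rw [Pq_pairing, Pq_pairing] at h
      unfold A at h
      rw [← P.algebraMap_pairingIn ℤ, ← P.algebraMap_pairingIn ℤ, ← map_mul]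
      have h' : P.pairingIn ℤ i j * P.pairingIn ℤ j i = 4 := by exact_mod_cast h
      rw [h']
      simp
    rw [RootPairing.coxeterWeight_eq_four_iff_not_linearIndependent] at h4
    rcases RootPairing.IsReduced.eq_or_eq_neg i j h4 with h5 | h5
    · left
      rw [P.root.injective h5]
    · right
      rw [← P.pairingIn_neg_two_neg_two_iff ℤ] at h5
      rw [← (Pq P).pairingIn_neg_two_neg_two_iff ℤ, Pq_pairingIn, Pq_pairingIn]
      exact h5

end Groth.Agent.Lib.Helper6.CorootPresA
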