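import Mathlib
import Groth.Agent.Lib.Helper6.CorootPresA

set_option autoImplicit false

namespace Groth.Agent.Lib.Helper6.CorootPresB

open Module Groth.Agent.Lib.Helper6.CorootPresA

universe u v w x

theorem main011 {ι : Type u} {R : Type v} {M : Type w} {N : Type x} [CommRing R] [IsDomain R]
    [CharZero R]
    [AddCommGroup M] [Module R M] [AddCommGroup N] [Module R N] (P : RootPairing ι R M N)
    [Finite ι] [P.IsCrystallographic] [P.IsReduced] :
    LinearMap.ker (Finsupp.linearCombination ℤ (fun i : ι => (P.coroot i : N))) =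
      Submodule.span ℤ (Set.range fun p : ι × ι =>
        Finsupp.single (P.reflectionPerm p.1 p.2) (1 : ℤ) - Finsupp.single p.2 1 +
          P.pairingIn ℤ p.1 p.2 • Finsupp.single p.1 1) := by
  classical
  obtain ⟨Rel, hRel⟩ : ∃ Rel : Submodule ℤ (ι →₀ ℤ), Rel = Submodule.span ℤ
      (Set.range fun p : ι × ι =>
        Finsupp.single (P.reflectionPerm p.1 p.2) (1 : ℤ) - Finsupp.single p.2 1 +
          P.pairingIn ℤ p.1 p.2 • Finsupp.single p.1 1) := ⟨_, rfl⟩
  rw [← hRel]
  have hrel : ∀ i j : ι, Finsupp.single (P.reflectionPerm i j) (1 : ℤ) - Finsupp.single j 1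
      + P.pairingIn ℤ i j • Finsupp.single i 1 ∈ Rel := by
    intro i j; rw [hRel]; exact Submodule.subset_span ⟨(i, j), rfl⟩
  have hle : Rel ≤ LinearMap.ker (Finsupp.linearCombination ℤ (fun i : ι => (P.coroot i : N))) := by
    rw [hRel, Submodule.span_le]
    rintro _ ⟨⟨i, j⟩, rfl⟩
    rw [SetLike.mem_coe, LinearMap.mem_ker]
    simp only [map_add, map_sub, map_smul, Finsupp.linearCombination_single, one_smul]
    rw [← P.reflectionPerm_coroot i j]
    have h1 : P.toLinearMap (P.root i) (P.coroot j) = algebraMap ℤ R (P.pairingIn ℤ i j) := by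
      rw [P.algebraMap_pairingIn]; rfl
    rw [h1, algebraMap_int_eq, eq_intCast, Int.cast_smul_eq_zsmul]
    abel
  apply le_antisymm
  · obtain ⟨b⟩ := (Pq P).nonempty_base
    obtain ⟨T, hT⟩ : ∃ T : Submodule ℤ (ι →₀ ℤ),
        T = Finsupp.supported ℤ ℤ (b.support : Set ι) := ⟨_, rfl⟩
    have hsingle : ∀ j ∈ b.support, Finsupp.single j (1 : ℤ) ∈ T := by
      intro j hj
      rw [hT, Finsupp.mem_supported]
      intro l hl
      have := Finsupp.support_single_subset hl
      rw [Finset.mem_singleton] at this
      rw [this]
      exact hj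
    have hA : ∀ i : ι, Finsupp.single i (1 : ℤ) ∈ Rel ⊔ T := by
      intro i
      refine b.induction_reflect i (p := fun i => Finsupp.single i (1 : ℤ) ∈ Rel ⊔ T) ?_ ?_ ?_
      · intro i hi
        have h1 := hrel i i
        rw [P.pairingIn_same] at h1
        have h2 : Finsupp.single ((Pq P).reflectionPerm i i) (1 : ℤ)
            = (Finsupp.single (P.reflectionPerm i i) (1 : ℤ) - Finsupp.single i 1
              + (2 : ℤ) • Finsupp.single i 1) - Finsupp.single i 1 := by
          rw [Pq_reflectionPerm, two_smul]; abel
        rw [h2]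
        exact Submodule.sub_mem _ (Submodule.mem_sup_left h1) hi
      · intro i hi
        exact Submodule.mem_sup_right (hsingle i hi)
      · intro i j hi hj
        have h1 := hrel j i
        have h2 : Finsupp.single ((Pq P).reflectionPerm j i) (1 : ℤ)
            = (Finsupp.single (P.reflectionPerm j i) (1 : ℤ) - Finsupp.single i 1
              + P.pairingIn ℤ j i • Finsupp.single j 1) + Finsupp.single i 1
              - P.pairingIn ℤ j i • Finsupp.single j 1 := by
          rw [Pq_reflectionPerm]; abel
        rw [h2]
        exact Submodule.sub_mem _ (Submodule.add_mem _ (Submodule.mem_sup_left h1) hi)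
          (Submodule.smul_mem _ _ (Submodule.mem_sup_right (hsingle j hj)))
    have hall : ∀ x : ι →₀ ℤ, x ∈ Rel ⊔ T := by
      intro x
      induction x using Finsupp.induction_linear with
      | zero => exact Submodule.zero_mem _
      | add f g hf hg => exact Submodule.add_mem _ hf hg
      | single i a =>
        have : Finsupp.single i a = a • Finsupp.single i (1 : ℤ) := by
          rw [Finsupp.smul_single, smul_eq_mul, mul_one]
        rw [this]; exact Submodule.smul_mem _ _ (hA i)
    intro x hx
    obtain ⟨r, hr, y, hy, rfl⟩ := Submodule.mem_sup.1 (hall x)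
    have hy0 : Finsupp.linearCombination ℤ (fun i : ι => (P.coroot i : N)) y = 0 := by
      have h1 := hx
      rw [LinearMap.mem_ker, map_add, LinearMap.mem_ker.1 (hle hr), zero_add] at h1
      exact h1
    suffices hy00 : y = 0 by rw [hy00, add_zero]; exact hr
    rw [hT, Finsupp.mem_supported] at hy
    rw [Finsupp.linearCombination_apply, Finsupp.sum] at hy0
    have hpair : ∀ i, ∑ j ∈ y.support, (y j : ℚ) * A P i j = 0 := by
      intro i
      have h1 := congrArg (P.toLinearMap (P.root i)) hy0
      rw [map_sum, map_zero] at h1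
      have h2 : (algebraMap ℤ R) (∑ j ∈ y.support, y j * P.pairingIn ℤ i j) = 0 := by
        rw [map_sum, ← h1]
        apply Finset.sum_congr rfl
        intro j _
        rw [map_mul, P.algebraMap_pairingIn, map_zsmul, algebraMap_int_eq, eq_intCast,
          zsmul_eq_mul]
        rfl
      have h3 : ∑ j ∈ y.support, y j * P.pairingIn ℤ i j = 0 :=
        FaithfulSMul.algebraMap_injective ℤ R (h2.trans (map_zero _).symm)
      unfold A
      exact_mod_cast h3
    have hlin := b.linearIndepOn_coroot
    rw [linearIndepOn_finset_iff] at hlin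
    have hsum : ∑ j ∈ b.support, (fun j => (y j : ℚ)) j • (Pq P).coroot j = 0 := by
      apply Subtype.ext
      funext i
      rw [Submodule.coe_sum, Finset.sum_apply]
      have h1 : ∀ j ∈ b.support, (((fun j => (y j : ℚ)) j • (Pq P).coroot j : W P) : ι → ℚ) i
          = (y j : ℚ) * A P i j := by
        intro j _
        rfl
      rw [Finset.sum_congr rfl h1]
      have h2 : ∑ j ∈ b.support, (y j : ℚ) * A P i j = ∑ j ∈ y.support, (y j : ℚ) * A P i j := by
        symm
        apply Finset.sum_subset
        · intro j hj
          exact_mod_cast hy (Finset.mem_coe.2 hj)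
        · intro j _ hj
          rw [Finsupp.notMem_support_iff] at hj
          rw [hj]; simp
      rw [h2, hpair i]
      rfl
    have hz := hlin _ hsum
    ext j
    by_cases hj : j ∈ b.support
    · have := hz j hj
      rw [Finsupp.zero_apply]
      exact_mod_cast this
    · rw [Finsupp.zero_apply]
      by_contra hne
      exact hj (by exact_mod_cast hy (Finset.mem_coe.2 (Finsupp.mem_support_iff.2 hne)))
  · exact hle

end Groth.Agent.Lib.Helper6.CorootPresB
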