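import Groth.Agent.Lib.Helper6.CurveCompl
import Groth.Agent.Lib.Helper26.DiscExt
import Groth.Agent.Lib.Helper26.AmpleCurve
import Groth.Agent.Lib.Helper23.AmpleCurve4
import Groth.Agent.Lib.Helper23.BCDiv
import Groth.Agent.Lib.Helper3.VACore
import Groth.Agent.Lib.Helper3.SubIdeal
import Groth.Agent.Lib.Helper3.QProj
import Groth.Agent.S1519
import Groth.Agent.S1530
import Groth.Agent.S2324

/-!
# A curve is affine or projective

* `isAffineOpen_of_compl`: on a proper integral curve `Y` over a field, the complement of a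
  nonempty finite set of closed points is affine.  (An invertible module `L` with a section `s`
  such that `Y_s = U` is glued by `Helper26.DiscExt.main`; it has positive degree (`S1519`), hence
  is ample (`S1530`); a section `t` of a power of `L` not vanishing on the finite complement exists
  by `S2324`; the pair `(s^n, t)` defines a finite morphism to `P^1` under which `U` is the preimage
  of a standard affine chart.)
* `affine_or_projective`: an integral separated curve of finite type is affine or `H`-projective.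
-/

set_option autoImplicit false
set_option linter.style.haveILetI false
set_option linter.unusedSectionVars false
set_option linter.unusedVariables false
set_option maxHeartbeats 800000

universe u

open CategoryTheory CategoryTheory.Limits AlgebraicGeometry TopologicalSpace
open Groth.Agent.Lib.Helper3 Groth.Agent.Lib.Helper3.QCSec Groth.Agent.Lib.Helper3.InvGen
  Groth.Agent.Lib.Helper3.InvTensor Groth.Agent.Lib.Helper3.InvMonoidal
  Groth.Agent.Lib.Helper3.InvAmple Groth.Agent.Lib.Helper3.SecCoord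
  Groth.Agent.Lib.Helper3.VACore

namespace Groth.Agent.Lib.Helper6.CurveAff

theorem isAffineOpen_of_compl (k : Type u) [Field k] (Y : Scheme.{u})
    [Y.Over (Spec (CommRingCat.of k))] [IsIntegral Y]
    [IsProper (Y ↘ Spec (CommRingCat.of k))] (hdim : topologicalKrullDim Y = 1)
    (U : Y.Opens) (hfin : ((U : Set Y)ᶜ).Finite) (hcl : ∀ y : Y, y ∉ U → IsClosed ({y} : Set Y))
    (hne : ∃ y : Y, y ∉ U) (hU : ∃ x : Y, x ∈ U) : IsAffineOpen U := by
  classical
  haveI : IsNoetherian Y := Groth.Agent.Lib.Helper23.Curve.isNoetherian_of_isProper k Y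
  haveI : Y.IsSeparated :=
    Groth.Agent.S1667.isSeparated_of_over k Y (Y ↘ Spec (CommRingCat.of k))
  haveI : Finite ↥((U : Set Y)ᶜ) := hfin.to_subtype
  have hpts : ∀ t : ↥((U : Set Y)ᶜ), IsClosed ({t} : Set ↥((U : Set Y)ᶜ)) := by
    intro t
    have h1 : IsClosed ((Subtype.val : ↥((U : Set Y)ᶜ) → Y) ⁻¹' {t.1}) :=
      (hcl t.1 t.2).preimage continuous_subtype_val
    convert h1 using 1
    ext w
    simp [Subtype.ext_iff]
  haveI : T1Space ↥((U : Set Y)ᶜ) := ⟨hpts⟩
  have hdisc : DiscreteTopology ↥((U : Set Y)ᶜ) := inferInstance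
  obtain ⟨⟨L, s, hL, hs⟩, -⟩ := Groth.Agent.Lib.Helper26.DiscExt.main Y U hdisc (fun x _ =>
    ⟨inferInstance,
      (Groth.Agent.Lib.Helper26.AmpleCurve.ringKrullDim_stalk_le_topologicalKrullDim x).trans
        hdim.le⟩)
  obtain ⟨x₁, hx₁⟩ := hU
  obtain ⟨y₀, hy₀⟩ := hne
  have hs0 : s ≠ 0 := by
    rintro rfl
    rw [Groth.Agent.Lib.Helper23.BCDiv.genLocus_zero hL] at hs
    rw [← hs] at hx₁
    exact hx₁
  have hdeg : 0 < Curv2.deg k Y L 1 :=
    Groth.Agent.S1519.result k Y hdim L hL s hs0 y₀ (by rw [hs]; exact hy₀)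
  have hamp : CohB1.IsAmple L := (Groth.Agent.S1530.result k Y hdim L hL).2 hdeg
  haveI : CompactSpace Y := hamp.2.1
  obtain ⟨n, t, hZt, -, -⟩ := Groth.Agent.S2324.result Y L hamp ((U : Set Y)ᶜ) hfin ⊤
    (fun _ _ => trivial)
  have hM : PicF.IsInvertible (CohB1.tensorPow L (n + 1)) := isInvertible_tensorPow hL (n + 1)
  have hσ0 : CohB1.genLocus _ (SecTwist.powHom s (n + 1)) = U := by
    rw [genLocus_powHom hL s n, hs]
  obtain ⟨σ, hσ⟩ : ∃ σ : Fin (1 + 1) → Γ(CohB1.tensorPow L (n + 1), ⊤),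
      σ 0 = sec (SecTwist.powHom s (n + 1)) ⊤ ∧ σ 1 = sec t ⊤ :=
    ⟨fun i => if i = 0 then sec (SecTwist.powHom s (n + 1)) ⊤ else sec t ⊤,
      if_pos rfl, if_neg (by decide)⟩
  have hloc0 : locus (CohB1.tensorPow L (n + 1)) (σ 0) = U := by
    show CohB1.genLocus _ (globalHom _ (σ 0)) = U
    rw [hσ.1, Groth.Agent.Lib.Helper3.SubIdeal.globalHom_sec, hσ0]
  have hloc1 : locus (CohB1.tensorPow L (n + 1)) (σ 1) = CohB1.genLocus _ t := by
    show CohB1.genLocus _ (globalHom _ (σ 1)) = _
    rw [hσ.2, Groth.Agent.Lib.Helper3.SubIdeal.globalHom_sec]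
  have hcov : ∀ x : Y, ∃ i, x ∈ locus (CohB1.tensorPow L (n + 1)) (σ i) := by
    intro x
    by_cases hx : x ∈ U
    · exact ⟨0, by rw [hloc0]; exact hx⟩
    · exact ⟨1, by rw [hloc1]; exact hZt hx⟩
  obtain ⟨r, hr, τ, hτ⟩ := exists_hom_projSpace 1 (Y ↘ Spec (CommRingCat.of k))
    (CohB1.tensorPow L (n + 1)) σ hcov
  have hpre : r ⁻¹ᵁ Proj.basicOpen (CohB1.polyGrading 1 k) (MvPolynomial.X 0) =
      locus (CohB1.tensorPow L (n + 1)) (σ 0) :=
    preimage_basicOpen_eq_locus r (hasUnitFrac_projSpace k 1) τ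
      (MvPolynomial.isHomogeneous_X k 0) (hτ 0)
  have hne' : r x₁ ≠ r y₀ := by
    intro h
    apply hy₀
    have h1 : x₁ ∈ r ⁻¹ᵁ Proj.basicOpen (CohB1.polyGrading 1 k) (MvPolynomial.X 0) := by
      rw [hpre, hloc0]
      exact hx₁
    have h2' : r y₀ ∈ Proj.basicOpen (CohB1.polyGrading 1 k) (MvPolynomial.X 0) := by
      rw [← h]
      exact h1
    have h2 : y₀ ∈ r ⁻¹ᵁ Proj.basicOpen (CohB1.polyGrading 1 k) (MvPolynomial.X 0) := h2'
    rw [hpre, hloc0] at h2
    exact h2
  haveI : IsSeparated (CohB1.ProjSpace.toSpec 1 k) :=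
    Groth.Agent.Lib.Helper3.VARel.isSeparated_toSpec k 1
  have hfin' : AlgebraicGeometry.IsFinite r :=
    Groth.Agent.Lib.Helper23.AmpleCurve.isFinite_of_nonconstant k hdim.le r
      (CohB1.ProjSpace.toSpec 1 k) hr x₁ y₀ hne'
  have hW : IsAffineOpen (Proj.basicOpen (CohB1.polyGrading 1 k) (MvPolynomial.X 0)) :=
    Proj.isAffineOpen_basicOpen (CohB1.polyGrading 1 k) (MvPolynomial.X 0)
      (MvPolynomial.isHomogeneous_X k 0) one_pos
  rw [← hloc0, ← hpre]
  exact @IsAffineOpen.preimage _ _ _ hW r hfin'.toIsAffineHom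

theorem affine_or_projective (k : Type u) [Field k] (X : Scheme.{u})
    [X.Over (Spec (CommRingCat.of k))] [IsIntegral X]
    [IsSeparated (X ↘ (Spec (CommRingCat.of k)))]
    [LocallyOfFiniteType (X ↘ (Spec (CommRingCat.of k)))]
    [QuasiCompact (X ↘ (Spec (CommRingCat.of k)))] (hdim : topologicalKrullDim X = 1) :
    IsAffine X ∨ ∃ (d : ℕ) (c : X ⟶ CohB1.ProjSpace d k), IsClosedImmersion c ∧
      c ≫ CohB1.ProjSpace.toSpec d k = X ↘ (Spec (CommRingCat.of k)) := by
  obtain ⟨d, Y, c, j, hc, hj, hcomp, hdense, hdom, hfin, hcl⟩ :=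
    Groth.Agent.Lib.Helper6.CurveCompl.main k X hdim.le
  haveI := hc
  haveI := hj
  haveI := hdom
  by_cases hsurj : (Set.range j.base)ᶜ = ∅
  · right
    have hs : Set.range j.base = Set.univ := Set.compl_empty_iff.mp hsurj
    haveI : IsClosedImmersion j :=
      IsClosedImmersion.of_isPreimmersion j (by rw [hs]; exact isClosed_univ)
    exact ⟨d, j ≫ c, inferInstance, by rw [Category.assoc]; exact hcomp⟩
  · left
    letI : Y.Over (Spec (CommRingCat.of k)) := ⟨c ≫ CohB1.ProjSpace.toSpec d k⟩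
    have hYover : (Y ↘ Spec (CommRingCat.of k)) = c ≫ CohB1.ProjSpace.toSpec d k := rfl
    haveI : IsProper (Y ↘ Spec (CommRingCat.of k)) := by
      rw [hYover]
      infer_instance
    haveI : IsNoetherian Y := Groth.Agent.Lib.Helper23.Curve.isNoetherian_of_isProper k Y
    haveI : QuasiCompact j := inferInstance
    haveI : IsReduced Y := IsSchemeTheoreticallyDominant.isReduced j
    haveI : IrreducibleSpace Y := by
      have h1 : IsIrreducible (Set.range j.base) := by
        rw [← Set.image_univ]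
        exact (IrreducibleSpace.isIrreducible_univ X).image j.base j.continuous.continuousOn
      have h2 := h1.closure
      rw [hdense.closure_eq] at h2
      exact (irreducibleSpace_def Y).2 h2
    haveI : IsIntegral Y := isIntegral_of_irreducibleSpace_of_isReduced Y
    have hdimY1 : topologicalKrullDim Y ≤ 1 :=
      Groth.Agent.Lib.Helper6.CurveCompl.dim_le_of_dense_open k
        (Y ↘ Spec (CommRingCat.of k)) j hdense 1 hdim.le
    have hdimY2 : (1 : WithBot ℕ∞) ≤ topologicalKrullDim Y := by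
      rw [← hdim]
      exact j.isOpenEmbedding.isInducing.topologicalKrullDim_le
    have hdimY : topologicalKrullDim Y = 1 := le_antisymm hdimY1 hdimY2
    obtain ⟨y₀, hy₀⟩ := Set.nonempty_iff_ne_empty.2 hsurj
    obtain ⟨x₀⟩ : Nonempty X := inferInstance
    have hU : IsAffineOpen j.opensRange :=
      isAffineOpen_of_compl k Y hdimY j.opensRange hfin (fun y hy => hcl y hy)
        ⟨y₀, hy₀⟩ ⟨j.base x₀, ⟨x₀, rfl⟩⟩
    haveI : IsAffine (j.opensRange : Scheme.{u}) := hU
    exact IsAffine.of_isIso j.isoOpensRange.hom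

end Groth.Agent.Lib.Helper6.CurveAff
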