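import Groth.Agent.Lib.Helper6.CurveAff
import Groth.Agent.Lib.Helper7.RedLib
import Groth.Agent.Lib.Helper11.SD1
import Groth.Agent.S0021

/-!
# A scheme of dimension at most one without proper one-dimensional components is affine

The irreducible components with their reduced structures are affine: those of dimension one by
`CurveAff.affine_or_projective`, the others are single points.  Their disjoint union is affine and
maps finitely and surjectively to `X`, so `X` is affine by Chevalley's theorem (`S0021`).
-/

set_option autoImplicit false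
set_option linter.style.haveILetI false
set_option linter.unusedSectionVars false
set_option linter.unusedVariables false
set_option maxHeartbeats 800000

universe u

open CategoryTheory CategoryTheory.Limits AlgebraicGeometry TopologicalSpace

namespace Groth.Agent.Lib.Helper6.CurveAff2

lemma subsingleton_of_discrete (Z : Type*) [TopologicalSpace Z] [DiscreteTopology Z]
    [PreirreducibleSpace Z] : Subsingleton Z := by
  refine ⟨fun x y => ?_⟩
  obtain ⟨z, hzx, hzy⟩ := nonempty_preirreducible_inter (isOpen_discrete {x})
    (isOpen_discrete {y}) ⟨x, rfl⟩ ⟨y, rfl⟩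
  exact (Set.mem_singleton_iff.1 hzx).symm.trans (Set.mem_singleton_iff.1 hzy)

lemma isAffine_of_subsingleton (Z : Scheme.{u}) [Subsingleton Z] : IsAffine Z := by
  by_cases hne : Nonempty Z
  · obtain ⟨x⟩ := hne
    obtain ⟨_, ⟨V, hV, rfl⟩, hxV, -⟩ :=
      Z.isBasis_affineOpens.exists_subset_of_mem_open (Set.mem_univ x) isOpen_univ
    have hVtop : V = ⊤ := by
      rw [eq_top_iff]
      intro y _
      rw [Subsingleton.elim y x]
      exact hxV
    have hV' : IsAffineOpen (⊤ : Z.Opens) := hVtop ▸ hV
    haveI : IsAffine ((⊤ : Z.Opens) : Scheme.{u}) := hV'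
    exact IsAffine.of_isIso Z.topIso.inv
  · haveI : IsEmpty Z := not_nonempty_iff.1 hne
    infer_instance

lemma le_zero_of_le_one_of_ne {x : WithBot ℕ∞} (h1 : x ≤ 1) (h2 : x ≠ 1) : x ≤ 0 := by
  induction x using WithBot.recBotCoe with
  | bot => exact bot_le
  | coe a =>
    have h3 : a ≤ 1 := WithBot.coe_le_one.1 h1
    have h4 : a ≠ 1 := by
      intro e
      apply h2
      rw [e]
      rfl
    have h5 : a < 1 := lt_of_le_of_ne h3 h4
    have h6 : a = 0 := ENat.lt_one_iff_eq_zero.mp h5
    rw [h6]
    exact le_of_eq WithBot.coe_zero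

theorem isAffine_component (k : Type u) [Field k] (X : Scheme.{u})
    [X.Over (Spec (CommRingCat.of k))]
    [IsSeparated (X ↘ (Spec (CommRingCat.of k)))]
    [LocallyOfFiniteType (X ↘ (Spec (CommRingCat.of k)))]
    [IsNoetherian X] (hdim : topologicalKrullDim X ≤ 1)
    (I : X.IdealSheafData) (hrad : I.radical = I) (hirr : IsIrreducible (I.support : Set X))
    (hnp : topologicalKrullDim ↥(I.support : Set X) = 1 →
      ¬ IsProper (I.subschemeι ≫ (X ↘ (Spec (CommRingCat.of k))))) :
    IsAffine I.subscheme := by
  haveI : IsReduced I.subscheme := (Groth.Agent.Lib.Helper7.isReduced_subscheme_iff I).2 hrad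
  haveI : IrreducibleSpace I.subscheme := Subtype.irreducibleSpace hirr
  haveI : IsIntegral I.subscheme := isIntegral_of_irreducibleSpace_of_isReduced _
  have hle : topologicalKrullDim I.subscheme ≤ 1 :=
    I.subschemeι.isClosedEmbedding.isEmbedding.isInducing.topologicalKrullDim_le.trans hdim
  letI : I.subscheme.Over (Spec (CommRingCat.of k)) :=
    ⟨I.subschemeι ≫ (X ↘ (Spec (CommRingCat.of k)))⟩
  have hov : (I.subscheme ↘ Spec (CommRingCat.of k)) =
      I.subschemeι ≫ (X ↘ (Spec (CommRingCat.of k))) := rfl
  haveI : QuasiCompact (X ↘ (Spec (CommRingCat.of k))) := inferInstance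
  haveI : IsSeparated (I.subscheme ↘ Spec (CommRingCat.of k)) := by
    rw [hov]; infer_instance
  haveI : LocallyOfFiniteType (I.subscheme ↘ Spec (CommRingCat.of k)) := by
    rw [hov]; infer_instance
  haveI : QuasiCompact (I.subscheme ↘ Spec (CommRingCat.of k)) := by
    rw [hov]; infer_instance
  by_cases hd : topologicalKrullDim I.subscheme = 1
  · rcases Groth.Agent.Lib.Helper6.CurveAff.affine_or_projective k I.subscheme hd with
      ha | ⟨d, c, hc, hcomp⟩
    · exact ha
    · exfalso
      apply hnp hd
      rw [← hov, ← hcomp]
      haveI := hc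
      infer_instance
  · have hd0 : topologicalKrullDim I.subscheme ≤ 0 := le_zero_of_le_one_of_ne hle hd
    haveI : IsLocallyNoetherian I.subscheme :=
      LocallyOfFiniteType.isLocallyNoetherian I.subschemeι
    haveI : IsLocallyArtinian I.subscheme := IsLocallyArtinian.of_topologicalKrullDim_le_zero hd0
    haveI : DiscreteTopology I.subscheme := inferInstance
    haveI : Subsingleton I.subscheme := subsingleton_of_discrete _
    exact isAffine_of_subsingleton _

theorem radical_radical {X : Scheme.{u}} (I : X.IdealSheafData) : I.radical.radical = I.radical := by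
  apply Scheme.IdealSheafData.ext
  funext U
  simp only [Scheme.IdealSheafData.radical_ideal]
  exact Ideal.radical_idem _

theorem key (k : Type u) [Field k] (X : Scheme.{u}) [X.Over (Spec (CommRingCat.of k))]
    [IsSeparated (X ↘ (Spec (CommRingCat.of k)))]
    [LocallyOfFiniteType (X ↘ (Spec (CommRingCat.of k)))]
    [IsNoetherian X] (hdim : topologicalKrullDim X ≤ 1)
    (C : Set X) (hC : C ∈ irreducibleComponents (X : Type u))
    (h : topologicalKrullDim C = 1 →
      ¬ IsProper ((X.irreducibleComponentIdeal C hC).radical.subschemeι ≫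
        (X ↘ (Spec (CommRingCat.of k))))) :
    IsAffine (X.irreducibleComponentIdeal C hC).radical.subscheme := by
  have hsupp : (((X.irreducibleComponentIdeal C hC).radical.support : Closeds X) : Set X) = C := rfl
  have hirr : IsIrreducible
      (((X.irreducibleComponentIdeal C hC).radical.support : Closeds X) : Set X) := by
    rw [hsupp]
    exact hC.1
  refine isAffine_component k X hdim (X.irreducibleComponentIdeal C hC).radical
    (radical_radical _) hirr ?_
  intro hd
  apply h
  rw [← hsupp]
  exact hd

theorem range_eq (X : Scheme.{u}) [IsNoetherian X]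
    (C : Set X) (hC : C ∈ irreducibleComponents (X : Type u)) :
    Set.range (X.irreducibleComponentIdeal C hC).radical.subschemeι = C :=
  Scheme.IdealSheafData.range_subschemeι _

theorem main (k : Type u) [Field k] (X : Scheme.{u}) [X.Over (Spec (CommRingCat.of k))]
    [IsSeparated (X ↘ (Spec (CommRingCat.of k)))]
    [LocallyOfFiniteType (X ↘ (Spec (CommRingCat.of k)))]
    [IsNoetherian X] (hdim : topologicalKrullDim X ≤ 1)
    (h : ∀ (C : Set X) (hC : C ∈ irreducibleComponents (X : Type u)), topologicalKrullDim C = 1 →
      ¬ IsProper ((X.irreducibleComponentIdeal C hC).radical.subschemeι ≫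
        (X ↘ (Spec (CommRingCat.of k))))) :
    IsAffine X := by
  classical
  haveI : Finite ↥(irreducibleComponents (X : Type u)) :=
    NoetherianSpace.finite_irreducibleComponents.to_subtype
  haveI : ∀ C : ↥(irreducibleComponents (X : Type u)),
      IsAffine (X.irreducibleComponentIdeal C.1 C.2).radical.subscheme :=
    fun C => key k X hdim C.1 C.2 (h C.1 C.2)
  haveI : ∀ C : ↥(irreducibleComponents (X : Type u)),
      IsFinite ((fun C : ↥(irreducibleComponents (X : Type u)) =>
        (X.irreducibleComponentIdeal C.1 C.2).radical.subschemeι) C) :=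
    fun C => inferInstanceAs (IsFinite (X.irreducibleComponentIdeal C.1 C.2).radical.subschemeι)
  haveI hfin : IsFinite (Sigma.desc (fun C : ↥(irreducibleComponents (X : Type u)) =>
      (X.irreducibleComponentIdeal C.1 C.2).radical.subschemeι)) :=
    Groth.Agent.Lib.Helper11.SD1.isFinite_sigmaDesc _
  haveI hsurj : Surjective (Sigma.desc (fun C : ↥(irreducibleComponents (X : Type u)) =>
      (X.irreducibleComponentIdeal C.1 C.2).radical.subschemeι)) := by
    apply Surjective.sigmaDesc_of_union_range_eq_univ
    rw [Set.eq_univ_iff_forall]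
    intro x
    have hx : x ∈ ⋃₀ irreducibleComponents (X : Type u) := by
      rw [sUnion_irreducibleComponents]
      trivial
    obtain ⟨C, hC, hxC⟩ := hx
    refine Set.mem_iUnion.2 ⟨⟨C, hC⟩, ?_⟩
    show x ∈ Set.range (X.irreducibleComponentIdeal C hC).radical.subschemeι
    rw [range_eq X C hC]
    exact hxC
  exact Groth.Agent.S0021.result (Sigma.desc (fun C : ↥(irreducibleComponents (X : Type u)) =>
      (X.irreducibleComponentIdeal C.1 C.2).radical.subschemeι))

end Groth.Agent.Lib.Helper6.CurveAff2
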