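import Groth.Agent.Lib.Helper6.CurveAff2
import Groth.Agent.Lib.Helper7.AmpleComp
import Groth.Agent.Lib.Helper3.AmpleMisc
import Groth.Agent.Lib.Helper3.PbBasic
import Groth.Agent.S1530

/-!
# Ampleness on a proper scheme of dimension at most one: positivity of degrees on the components

`Helper7.AmpleComp.isAmple_iff_irreducibleComponents` reduces ampleness to the irreducible
components with their reduced structures; on a one-dimensional component ampleness is positivity
of the degree (`S1530`), a zero-dimensional component is a single point, hence affine.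
-/

set_option autoImplicit false
set_option linter.style.haveILetI false
set_option linter.unusedSectionVars false
set_option linter.unusedVariables false
set_option maxHeartbeats 800000

universe u

open CategoryTheory CategoryTheory.Limits AlgebraicGeometry TopologicalSpace

namespace Groth.Agent.Lib.Helper6.CurveAmple

open Groth.Agent.Lib.Helper6.CurveAff2

theorem isAmple_component_iff (k : Type u) [Field k] (X : Scheme.{u})
    [X.Over (Spec (CommRingCat.of k))] [IsProper (X ↘ (Spec (CommRingCat.of k)))]
    [IsNoetherian X] (hdim : topologicalKrullDim X ≤ 1)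
    (L : X.Modules) (hL : PicF.IsInvertible L)
    (I : X.IdealSheafData) (hrad : I.radical = I) (hirr : IsIrreducible (I.support : Set X)) :
    CohB1.IsAmple ((Scheme.Modules.pullback I.subschemeι).obj L) ↔
      (topologicalKrullDim ↥(I.support : Set X) = 1 →
        0 < @Curv2.deg k _ I.subscheme ⟨I.subschemeι ≫ (X ↘ Spec (CommRingCat.of k))⟩
          ((Scheme.Modules.pullback I.subschemeι).obj L) 1) := by
  haveI : IsReduced I.subscheme := (Groth.Agent.Lib.Helper7.isReduced_subscheme_iff I).2 hrad
  haveI : IrreducibleSpace I.subscheme := Subtype.irreducibleSpace hirr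
  haveI : IsIntegral I.subscheme := isIntegral_of_irreducibleSpace_of_isReduced _
  have hle : topologicalKrullDim I.subscheme ≤ 1 :=
    I.subschemeι.isClosedEmbedding.isEmbedding.isInducing.topologicalKrullDim_le.trans hdim
  letI : I.subscheme.Over (Spec (CommRingCat.of k)) :=
    ⟨I.subschemeι ≫ (X ↘ (Spec (CommRingCat.of k)))⟩
  have hov : (I.subscheme ↘ Spec (CommRingCat.of k)) =
      I.subschemeι ≫ (X ↘ (Spec (CommRingCat.of k))) := rfl
  haveI : IsProper (I.subscheme ↘ Spec (CommRingCat.of k)) := by
    rw [hov]; infer_instance
  have hLI : PicF.IsInvertible ((Scheme.Modules.pullback I.subschemeι).obj L) :=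
    Groth.Agent.Lib.Helper3.PbBasic.isInvertible_pullback I.subschemeι hL
  by_cases hd : topologicalKrullDim I.subscheme = 1
  · have h1530 := Groth.Agent.S1530.result k I.subscheme hd _ hLI
    constructor
    · intro hA _
      exact h1530.1 hA
    · intro h
      exact h1530.2 (h hd)
  · constructor
    · intro _ hd'
      exact absurd hd' hd
    · intro _
      have hd0 : topologicalKrullDim I.subscheme ≤ 0 := le_zero_of_le_one_of_ne hle hd
      haveI : IsLocallyNoetherian I.subscheme :=
        LocallyOfFiniteType.isLocallyNoetherian I.subschemeι
      haveI : IsLocallyArtinian I.subscheme :=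
        IsLocallyArtinian.of_topologicalKrullDim_le_zero hd0
      haveI : DiscreteTopology I.subscheme := inferInstance
      haveI : Subsingleton I.subscheme := subsingleton_of_discrete _
      haveI : IsAffine I.subscheme := isAffine_of_subsingleton _
      exact Groth.Agent.Lib.Helper3.AmpleMisc.isAmple_of_isAffine hLI

theorem main (k : Type u) [Field k] (X : Scheme.{u}) [X.Over (Spec (CommRingCat.of k))]
    [IsProper (X ↘ (Spec (CommRingCat.of k)))] [IsNoetherian X]
    (hdim : topologicalKrullDim X ≤ 1) (L : X.Modules) (hL : PicF.IsInvertible L) :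
    CohB1.IsAmple L ↔ ∀ (C : Set X) (hC : C ∈ irreducibleComponents (X : Type u)),
      topologicalKrullDim C = 1 →
        0 < @Curv2.deg k _ (X.irreducibleComponentIdeal C hC).radical.subscheme
          ⟨(X.irreducibleComponentIdeal C hC).radical.subschemeι ≫
            (X ↘ (Spec (CommRingCat.of k)))⟩
          ((Scheme.Modules.pullback (X.irreducibleComponentIdeal C hC).radical.subschemeι).obj L)
          1 := by
  have hvan : ∀ (C : Set X) (hC : C ∈ irreducibleComponents (X : Type u)),
      Scheme.IdealSheafData.vanishingIdeal
        (⟨C, isClosed_of_mem_irreducibleComponents C hC⟩ : Closeds X) =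
        (X.irreducibleComponentIdeal C hC).radical := by
    intro C hC
    have h1 : (⟨C, isClosed_of_mem_irreducibleComponents C hC⟩ : Closeds X) =
        (X.irreducibleComponentIdeal C hC).support := Closeds.ext rfl
    rw [h1, Scheme.IdealSheafData.vanishingIdeal_support]
  have hcomp : ∀ (C : Set X) (hC : C ∈ irreducibleComponents (X : Type u)),
      CohB1.IsAmple ((Scheme.Modules.pullback
        (X.irreducibleComponentIdeal C hC).radical.subschemeι).obj L) ↔
      (topologicalKrullDim C = 1 →
        0 < @Curv2.deg k _ (X.irreducibleComponentIdeal C hC).radical.subscheme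
          ⟨(X.irreducibleComponentIdeal C hC).radical.subschemeι ≫
            (X ↘ (Spec (CommRingCat.of k)))⟩
          ((Scheme.Modules.pullback (X.irreducibleComponentIdeal C hC).radical.subschemeι).obj L)
          1) := by
    intro C hC
    have hsupp : (((X.irreducibleComponentIdeal C hC).radical.support : Closeds X) : Set X) = C :=
      rfl
    have hirr : IsIrreducible
        (((X.irreducibleComponentIdeal C hC).radical.support : Closeds X) : Set X) := by
      rw [hsupp]
      exact hC.1
    have h := isAmple_component_iff k X hdim L hL (X.irreducibleComponentIdeal C hC).radical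
      (radical_radical _) hirr
    rw [hsupp] at h
    exact h
  rw [Groth.Agent.Lib.Helper7.AmpleComp.isAmple_iff_irreducibleComponents k
    (X ↘ Spec (CommRingCat.of k)) hL]
  constructor
  · intro hA C hC
    have h1 := hA ⟨C, isClosed_of_mem_irreducibleComponents C hC⟩ hC
    rw [hvan C hC] at h1
    exact (hcomp C hC).1 h1
  · intro h Z hZ
    have h1 := (hcomp (Z : Set X) hZ).2 (h (Z : Set X) hZ)
    have hv := hvan (Z : Set X) hZ
    have hZeq : (⟨(Z : Set X), isClosed_of_mem_irreducibleComponents _ hZ⟩ : Closeds X) = Z :=
      Closeds.ext rfl
    rw [hZeq] at hv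
    rw [hv]
    exact h1

end Groth.Agent.Lib.Helper6.CurveAmple
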