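import Groth.Agent.S1667
import Groth.Agent.S1618
import Groth.Agent.S10831
import Groth.Agent.Lib.Helper3.VARel
import Groth.Agent.Lib.Helper11.GrpdJ
import Groth.Agent.Lib.Helper1.ProjSpaceFT

/-!
# Projective completion of a scheme of dimension at most one over a field

* topology: in a Noetherian quasi-sober `T0` space of dimension `≤ 1`, the complement of a dense open
  is a finite set of closed points (`isClosed_singleton_of_not_mem`, `finite_compl`);
* `dim_le_of_dense_open`: a Noetherian scheme locally of finite type over a field with a dense open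
  subscheme of dimension `≤ N` has dimension `≤ N` (via `S1618` on irreducible components);
* `main`: scheme-theoretic closure of the immersion `X → P^n_k` of `S1667`.
-/

set_option autoImplicit false
set_option linter.style.haveILetI false
set_option linter.unusedSectionVars false
set_option linter.unusedVariables false
set_option maxHeartbeats 800000

universe u

open CategoryTheory CategoryTheory.Limits AlgebraicGeometry TopologicalSpace

namespace Groth.Agent.Lib.Helper6.CurveCompl

/-! ### topology -/

section topology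

variable {Y : Type*} [TopologicalSpace Y]

lemma exists_mem_inter_of_dense [NoetherianSpace Y] (U : Set Y) (hd : Dense U)
    (C : Set Y) (hC : C ∈ irreducibleComponents Y) : (C ∩ U).Nonempty := by
  have hfin := NoetherianSpace.finite_irreducibleComponents (α := Y)
  have hcl := closure_sUnion_irreducibleComponents_sdiff_singleton hfin C hC
  have hVo : IsOpen (⋃₀ (irreducibleComponents Y \ {C}))ᶜ := by
    rw [Set.sUnion_eq_biUnion, isOpen_compl_iff]
    exact hfin.sdiff.isClosed_biUnion fun W hW => isClosed_of_mem_irreducibleComponents W hW.1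
  have hVne : ((⋃₀ (irreducibleComponents Y \ {C}))ᶜ).Nonempty := by
    by_contra h
    rw [Set.not_nonempty_iff_eq_empty] at h
    rw [h, closure_empty] at hcl
    exact hC.1.nonempty.ne_empty hcl.symm
  obtain ⟨x, hxV, hxU⟩ := hd.inter_open_nonempty _ hVo hVne
  have hx : x ∈ closure (⋃₀ (irreducibleComponents Y \ {C}))ᶜ := subset_closure hxV
  rw [hcl] at hx
  exact ⟨x, hx, hxU⟩

lemma two_not_le_one (h : ((2 : ℕ) : WithBot ℕ∞) ≤ 1) : False := by
  have h1 : ((2 : ℕ) : WithBot ℕ∞) = ((2 : ℕ∞) : WithBot ℕ∞) := rfl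
  have h2 : (1 : WithBot ℕ∞) = ((1 : ℕ∞) : WithBot ℕ∞) := rfl
  rw [h1, h2, WithBot.coe_le_coe] at h
  exact absurd h (by decide)

lemma isClosed_singleton_of_not_mem [NoetherianSpace Y] [QuasiSober Y] [T0Space Y]
    (hdim : topologicalKrullDim Y ≤ 1) (U : Set Y) (hU : IsOpen U) (hd : Dense U) (y : Y)
    (hy : y ∉ U) : IsClosed ({y} : Set Y) := by
  by_contra hcl
  have hne : closure ({y} : Set Y) ≠ {y} := fun h => hcl (h ▸ isClosed_closure)
  obtain ⟨z, hz, hzy⟩ : ∃ z ∈ closure ({y} : Set Y), z ≠ y := by
    by_contra hcon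
    push Not at hcon
    apply hne
    apply Set.Subset.antisymm
    · intro z hz
      exact Set.mem_singleton_iff.2 (hcon z hz)
    · exact subset_closure
  obtain ⟨u, huC, huU⟩ := exists_mem_inter_of_dense U hd (irreducibleComponent y)
    (irreducibleComponent_mem_irreducibleComponents y)
  let A : IrreducibleCloseds Y := ⟨closure {z}, isIrreducible_singleton.closure, isClosed_closure⟩
  let B : IrreducibleCloseds Y := ⟨closure {y}, isIrreducible_singleton.closure, isClosed_closure⟩
  let C : IrreducibleCloseds Y :=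
    ⟨irreducibleComponent y, isIrreducible_irreducibleComponent, isClosed_irreducibleComponent⟩
  have hAB : A < B := by
    apply SetLike.coe_ssubset_coe.1
    refine ⟨closure_minimal (Set.singleton_subset_iff.2 hz) isClosed_closure, fun h => hzy ?_⟩
    have h1 : y ∈ closure ({z} : Set Y) := h (subset_closure rfl)
    exact ((specializes_iff_mem_closure.2 h1).antisymm (specializes_iff_mem_closure.2 hz)).eq
  have hBC : B < C := by
    apply SetLike.coe_ssubset_coe.1
    refine ⟨closure_minimal (Set.singleton_subset_iff.2 mem_irreducibleComponent)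
      isClosed_irreducibleComponent, fun h => hy ?_⟩
    have h1 : u ∈ closure ({y} : Set Y) := h huC
    obtain ⟨w, hwU, hwy⟩ := mem_closure_iff.1 h1 U hU huU
    rw [Set.mem_singleton_iff] at hwy
    exact hwy ▸ hwU
  have hf : StrictMono (![A, B, C] : Fin 3 → IrreducibleCloseds Y) := by
    rw [Fin.strictMono_iff_lt_succ]
    intro i
    fin_cases i
    · exact hAB
    · exact hBC
  have h2 := Order.LTSeries.length_le_krullDim (LTSeries.mk 2 ![A, B, C] hf)
  exact two_not_le_one (h2.trans hdim)

lemma coe_finset_sup_id (S : Finset (Closeds Y)) :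
    ((S.sup id : Closeds Y) : Set Y) = ⋃ t ∈ S, (t : Set Y) := by
  rw [Closeds.coe_finset_sup, Finset.sup_set_eq_biUnion]
  rfl

lemma finite_compl [NoetherianSpace Y] [QuasiSober Y] (U : Set Y) (hU : IsOpen U)
    (hpt : ∀ y ∈ Uᶜ, IsClosed ({y} : Set Y)) : Uᶜ.Finite := by
  obtain ⟨S, hS, hZ⟩ := NoetherianSpace.exists_finset_irreducible
    (⟨Uᶜ, hU.isClosed_compl⟩ : Closeds Y)
  have hZ' : Uᶜ = ⋃ t ∈ S, (t : Set Y) := by
    rw [← coe_finset_sup_id, ← hZ]
    rfl
  rw [hZ']
  refine Set.Finite.biUnion S.finite_toSet (fun t ht => ?_)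
  obtain ⟨w, hw⟩ := QuasiSober.sober (hS ⟨t, ht⟩) t.isClosed
  have hwt : w ∈ (t : Set Y) := by
    rw [← hw.def]
    exact subset_closure rfl
  have hwU : w ∈ Uᶜ := by
    rw [hZ']
    exact Set.mem_biUnion ht hwt
  have hcl := hpt w hwU
  have : (t : Set Y) = {w} := by rw [← hw.def, hcl.closure_eq]
  rw [this]
  exact Set.finite_singleton w

end topology

/-! ### dimension of a Noetherian scheme of finite type over a field with a dense open -/

theorem dim_le_of_dense_open (k : Type u) [Field k] {X Y : Scheme.{u}}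
    (g : Y ⟶ Spec (CommRingCat.of k)) [LocallyOfFiniteType g] [IsNoetherian Y]
    (j : X ⟶ Y) [IsOpenImmersion j] (hd : Dense (Set.range j.base)) (N : WithBot ℕ∞)
    (hdim : topologicalKrullDim X ≤ N) : topologicalKrullDim Y ≤ N := by
  rw [Groth.Agent.S10831.result (↥Y)]
  refine iSup₂_le fun C hC => ?_
  obtain ⟨t0, ht0C, ht0U⟩ := exists_mem_inter_of_dense (Set.range j.base) hd C hC
  letI : (Y.irreducibleComponent C hC).Over (Spec (CommRingCat.of k)) :=
    ⟨Y.irreducibleComponentι C hC ≫ g⟩
  haveI : LocallyOfFiniteType ((Y.irreducibleComponent C hC) ↘ Spec (CommRingCat.of k)) := by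
    change LocallyOfFiniteType (Y.irreducibleComponentι C hC ≫ g)
    infer_instance
  have hne : ((Y.irreducibleComponentι C hC ⁻¹ᵁ j.opensRange :
      (Y.irreducibleComponent C hC).Opens) : Set (Y.irreducibleComponent C hC)).Nonempty := by
    refine ⟨(show ↥(Y.irreducibleComponent C hC) from (⟨t0, ht0C⟩ : ↥C)), ?_⟩
    exact ht0U
  have h1 := Groth.Agent.S1618.result k (Y.irreducibleComponent C hC)
    (Y.irreducibleComponentι C hC ⁻¹ᵁ j.opensRange) hne
  change topologicalKrullDim ↥(Y.irreducibleComponent C hC) ≤ N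
  rw [← h1]
  refine le_trans ?_ hdim
  -- an inducing map to `X`
  have hind1 : Topology.IsInducing
      (fun t : ↥(Y.irreducibleComponentι C hC ⁻¹ᵁ j.opensRange) =>
        (Y.irreducibleComponentι C hC) t.1) :=
    (Y.irreducibleComponentι C hC).isEmbedding.isInducing.comp Topology.IsInducing.subtypeVal
  have hmem : ∀ t : ↥(Y.irreducibleComponentι C hC ⁻¹ᵁ j.opensRange),
      (Y.irreducibleComponentι C hC) t.1 ∈ Set.range j.base := fun t => t.2
  have hind2 := hind1.codRestrict hmem
  exact ((j.isOpenEmbedding.isEmbedding.toHomeomorph.symm.isInducing).comp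
    hind2).topologicalKrullDim_le

/-! ### the projective completion -/

theorem main (k : Type u) [Field k] (X : Scheme.{u}) [X.Over (Spec (CommRingCat.of k))]
    [IsSeparated (X ↘ (Spec (CommRingCat.of k)))]
    [LocallyOfFiniteType (X ↘ (Spec (CommRingCat.of k)))]
    [QuasiCompact (X ↘ (Spec (CommRingCat.of k)))] (hdim : topologicalKrullDim X ≤ 1) :
    ∃ (d : ℕ) (Y : Scheme.{u}) (c : Y ⟶ CohB1.ProjSpace d k) (j : X ⟶ Y),
      IsClosedImmersion c ∧ IsOpenImmersion j ∧
      j ≫ c ≫ CohB1.ProjSpace.toSpec d k = X ↘ (Spec (CommRingCat.of k)) ∧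
      Dense (Set.range j.base) ∧ IsSchemeTheoreticallyDominant j ∧
      (Set.range j.base)ᶜ.Finite ∧ ∀ y ∈ (Set.range j.base)ᶜ, IsClosed ({y} : Set Y) := by
  obtain ⟨n, i, hi, hcomp⟩ := Groth.Agent.S1667.result k X hdim
  haveI := hi
  haveI : IsSeparated (CohB1.ProjSpace.toSpec n k) :=
    Groth.Agent.Lib.Helper3.VARel.isSeparated_toSpec k n
  haveI : QuasiCompact (i ≫ CohB1.ProjSpace.toSpec n k) := by rw [hcomp]; infer_instance
  haveI : QuasiCompact i := QuasiCompact.of_comp i (CohB1.ProjSpace.toSpec n k)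
  have hdense : Dense (Set.range i.toImage.base) := i.toImage.denseRange
  have hopen : IsOpen (Set.range i.toImage.base) := i.toImage.isOpenEmbedding.isOpen_range
  haveI : LocallyOfFiniteType (i.imageι ≫ CohB1.ProjSpace.toSpec n k) := inferInstance
  haveI : QuasiCompact (i.imageι ≫ CohB1.ProjSpace.toSpec n k) := inferInstance
  haveI : IsLocallyNoetherian i.image :=
    LocallyOfFiniteType.isLocallyNoetherian (i.imageι ≫ CohB1.ProjSpace.toSpec n k)
  haveI : CompactSpace i.image :=
    QuasiCompact.compactSpace_of_compactSpace (i.imageι ≫ CohB1.ProjSpace.toSpec n k)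
  haveI : IsNoetherian i.image := {}
  have hdimY : topologicalKrullDim i.image ≤ 1 :=
    dim_le_of_dense_open k (i.imageι ≫ CohB1.ProjSpace.toSpec n k) i.toImage hdense 1 hdim
  have hpt : ∀ y ∈ (Set.range i.toImage.base)ᶜ, IsClosed ({y} : Set i.image) :=
    fun y hy => isClosed_singleton_of_not_mem hdimY _ hopen hdense y hy
  refine ⟨n, i.image, i.imageι, i.toImage, inferInstance, inferInstance, ?_, hdense,
    Groth.Agent.Lib.Helper11.GrpdJ.isSchemeTheoreticallyDominant_toImage i,
    finite_compl _ hopen hpt, hpt⟩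
  rw [← Category.assoc, i.toImage_imageι, hcomp]

end Groth.Agent.Lib.Helper6.CurveCompl
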