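import Groth.Agent.Lib.Helper6.CurveCompl
import Groth.Agent.Lib.Helper3.QProj
import Groth.Agent.Lib.Helper23.CurveD
import Groth.Agent.S7645

/-!
# Extending a morphism from a curve to a proper variety over a projective completion

The closure of the graph of `f : X ⟶ Y` inside `X̄₀ ×_k Y`, where `X̄₀` is a projective completion
of `X` (`CurveCompl.main`), is a proper integral curve containing `X` as an open subscheme; it is
`H`-projective by `S7645`.
-/

set_option autoImplicit false
set_option linter.style.haveILetI false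
set_option linter.unusedSectionVars false
set_option linter.unusedVariables false
set_option maxHeartbeats 800000

universe u

open CategoryTheory CategoryTheory.Limits AlgebraicGeometry TopologicalSpace

namespace Groth.Agent.Lib.Helper6.CurveExt

theorem main (k : Type u) [Field k]
    (X Y : Scheme.{u}) [X.Over (Spec (CommRingCat.of k))] [Y.Over (Spec (CommRingCat.of k))]
    [IsIntegral X] [IsSeparated (X ↘ (Spec (CommRingCat.of k)))]
    [LocallyOfFiniteType (X ↘ (Spec (CommRingCat.of k)))]
    [QuasiCompact (X ↘ (Spec (CommRingCat.of k)))] (hdX : topologicalKrullDim X = 1)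
    [IsIntegral Y] [IsProper (Y ↘ (Spec (CommRingCat.of k)))]
    (f : X ⟶ Y)
    (hf : f ≫ (Y ↘ (Spec (CommRingCat.of k))) = X ↘ (Spec (CommRingCat.of k))) :
    ∃ (Xb : Scheme.{u}) (_ : Xb.Over (Spec (CommRingCat.of k))) (j : X ⟶ Xb) (g : Xb ⟶ Y),
      IsOpenImmersion j ∧ j ≫ g = f ∧
      j ≫ (Xb ↘ (Spec (CommRingCat.of k))) = X ↘ (Spec (CommRingCat.of k)) ∧
      g ≫ (Y ↘ (Spec (CommRingCat.of k))) = Xb ↘ (Spec (CommRingCat.of k)) ∧
      IsIntegral Xb ∧ topologicalKrullDim Xb = 1 ∧
      ∃ (n : ℕ) (i : Xb ⟶ CohB1.ProjSpace n k), IsClosedImmersion i ∧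
        i ≫ CohB1.ProjSpace.toSpec n k = Xb ↘ (Spec (CommRingCat.of k)) := by
  obtain ⟨d, Y₀, c, j₀, hc, hj₀, hcomp, hdense₀, hdom₀, hfin₀, hcl₀⟩ :=
    Groth.Agent.Lib.Helper6.CurveCompl.main k X hdX.le
  haveI := hc
  haveI := hj₀
  obtain ⟨g₀, hg₀⟩ : ∃ g₀ : Y₀ ⟶ Spec (CommRingCat.of k),
      g₀ = c ≫ CohB1.ProjSpace.toSpec d k := ⟨_, rfl⟩
  haveI : IsProper g₀ := by rw [hg₀]; infer_instance
  have hcomp' : j₀ ≫ g₀ = X ↘ (Spec (CommRingCat.of k)) := by rw [hg₀]; exact hcomp
  have hcond : j₀ ≫ g₀ = f ≫ (Y ↘ (Spec (CommRingCat.of k))) := by rw [hcomp', hf]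
  obtain ⟨i, hi⟩ : ∃ i : X ⟶ pullback g₀ (Y ↘ (Spec (CommRingCat.of k))),
      i = pullback.lift j₀ f hcond := ⟨_, rfl⟩
  have hi1 : i ≫ pullback.fst g₀ (Y ↘ (Spec (CommRingCat.of k))) = j₀ := by
    rw [hi, pullback.lift_fst]
  have hi2 : i ≫ pullback.snd g₀ (Y ↘ (Spec (CommRingCat.of k))) = f := by
    rw [hi, pullback.lift_snd]
  haveI : IsImmersion (i ≫ pullback.fst g₀ (Y ↘ (Spec (CommRingCat.of k)))) := by
    rw [hi1]; infer_instance
  haveI : IsImmersion i := IsImmersion.of_comp i (pullback.fst g₀ (Y ↘ (Spec (CommRingCat.of k))))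
  haveI : IsLocallyNoetherian X :=
    LocallyOfFiniteType.isLocallyNoetherian (X ↘ (Spec (CommRingCat.of k)))
  haveI : CompactSpace X :=
    QuasiCompact.compactSpace_of_compactSpace (X ↘ (Spec (CommRingCat.of k)))
  haveI : IsNoetherian X := {}
  haveI : QuasiCompact i := inferInstance
  -- the structure morphism of the image
  letI : i.image.Over (Spec (CommRingCat.of k)) :=
    ⟨i.imageι ≫ pullback.fst g₀ (Y ↘ (Spec (CommRingCat.of k))) ≫ g₀⟩
  have hov : (i.image ↘ Spec (CommRingCat.of k)) =
      i.imageι ≫ pullback.fst g₀ (Y ↘ (Spec (CommRingCat.of k))) ≫ g₀ := rfl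
  haveI : IsProper (i.image ↘ Spec (CommRingCat.of k)) := by
    rw [hov]; infer_instance
  haveI : IsNoetherian i.image :=
    Groth.Agent.Lib.Helper23.Curve.isNoetherian_of_isProper k i.image
  have hdense : Dense (Set.range i.toImage.base) := i.toImage.denseRange
  haveI : IsSchemeTheoreticallyDominant i.toImage :=
    Groth.Agent.Lib.Helper11.GrpdJ.isSchemeTheoreticallyDominant_toImage i
  haveI : QuasiCompact i.toImage := inferInstance
  haveI : IsReduced i.image := IsSchemeTheoreticallyDominant.isReduced i.toImage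
  haveI : IrreducibleSpace i.image := by
    have h1 : IsIrreducible (Set.range i.toImage.base) := by
      rw [← Set.image_univ]
      exact (IrreducibleSpace.isIrreducible_univ X).image i.toImage.base
        i.toImage.continuous.continuousOn
    have h2 := h1.closure
    rw [hdense.closure_eq] at h2
    exact (irreducibleSpace_def i.image).2 h2
  haveI : IsIntegral i.image := isIntegral_of_irreducibleSpace_of_isReduced i.image
  have hdim1 : topologicalKrullDim i.image ≤ 1 :=
    Groth.Agent.Lib.Helper6.CurveCompl.dim_le_of_dense_open k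
      (i.image ↘ Spec (CommRingCat.of k)) i.toImage hdense 1 hdX.le
  have hdim2 : (1 : WithBot ℕ∞) ≤ topologicalKrullDim i.image := by
    rw [← hdX]
    exact i.toImage.isOpenEmbedding.isInducing.topologicalKrullDim_le
  have hdim : topologicalKrullDim i.image = 1 := le_antisymm hdim1 hdim2
  refine ⟨i.image, inferInstance, i.toImage,
    i.imageι ≫ pullback.snd g₀ (Y ↘ (Spec (CommRingCat.of k))), inferInstance, ?_, ?_, ?_,
    inferInstance, hdim, Groth.Agent.S7645.result k i.image hdim.le⟩
  · rw [← Category.assoc, i.toImage_imageι, hi2]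
  · rw [hov, ← Category.assoc, i.toImage_imageι, ← Category.assoc, hi1, hcomp']
  · rw [hov, Category.assoc, ← pullback.condition]

end Groth.Agent.Lib.Helper6.CurveExt
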