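import Mathlib
import Groth.Prelude
import Groth.Agent.Lib.Helper14.ComplNormalSub
import Groth.Agent.Lib.Helper13.AbVarDim
import Groth.Agent.Lib.Helper23.SmoothCurve
import Groth.Agent.Lib.Helper17.FlatAssGen
import Groth.Agent.Lib.Helper6.FiberStalkIso
import Groth.Agent.Lib.Helper6.BirZMT
import Groth.Agent.Lib.Helper13.ZariskiNormal

/-!
# Normality of the total space of a flat family of reduced curves with smooth generic fibre

* `isIntegrallyClosed_of_away`: a domain `A` with `A ⧸ π` reduced and `A[1/π]` integrally closed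
  is integrally closed.
* `normal_of_fibres`: ring-level statement (flat Noetherian algebra over a normal Noetherian
  domain, normal over the generic point, reduced fibres over height one primes).
* `isIntegral_total`, `isNormalScheme_total`: the scheme-level statements.
-/

set_option autoImplicit false
set_option linter.style.haveILetI false
universe u
open CategoryTheory CategoryTheory.Limits AlgebraicGeometry IsLocalRing

namespace Groth.Agent.Lib.Helper6.CurveFamNormal

open Groth.Agent.Lib.Helper6

theorem isIntegrallyClosed_of_away {A : Type*} [CommRing A] [IsDomain A] (π : A) (hπ : π ≠ 0)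
    (hred : IsReduced (A ⧸ Ideal.span {π})) [hic : IsIntegrallyClosed (Localization.Away π)] :
    IsIntegrallyClosed A := by
  let K := FractionRing A
  have hπK : algebraMap A K π ≠ 0 := (map_ne_zero_iff _ (IsFractionRing.injective A K)).mpr hπ
  have hu : IsUnit (algebraMap A K π) := IsUnit.mk0 _ hπK
  letI : Algebra (Localization.Away π) K := (IsLocalization.Away.lift π hu).toAlgebra
  haveI : IsScalarTower A (Localization.Away π) K :=
    IsScalarTower.of_algebraMap_eq (fun a => (IsLocalization.Away.lift_eq π hu a).symm)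
  haveI : IsFractionRing (Localization.Away π) K :=
    IsFractionRing.isFractionRing_of_isDomain_of_isLocalization (Submonoid.powers π) _ _
  have hdvd : ∀ (a : A) (z : K), IsIntegral A z →
      algebraMap A K π * z = algebraMap A K a → π ∣ a := by
    rintro a z ⟨p, hp, hpz⟩ hz
    have h1 : π ∣ a ^ p.natDegree :=
      Polynomial.dvd_pow_natDegree_of_eval₂_eq_zero (IsFractionRing.injective A K) hp π a z hpz hz
    have h2 : IsNilpotent (Ideal.Quotient.mk (Ideal.span {π}) a) := by
      refine ⟨p.natDegree, ?_⟩
      rw [← map_pow, Ideal.Quotient.eq_zero_iff_mem, Ideal.mem_span_singleton]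
      exact h1
    have h3 := hred.eq_zero _ h2
    rwa [Ideal.Quotient.eq_zero_iff_mem, Ideal.mem_span_singleton] at h3
  have key : ∀ (n : ℕ) (x : K), IsIntegral A x → ∀ a : A,
      algebraMap A K π ^ n * x = algebraMap A K a → ∃ y, algebraMap A K y = x := by
    intro n
    induction n with
    | zero =>
      intro x _ a h
      exact ⟨a, by rw [← h, pow_zero, one_mul]⟩
    | succ n ih =>
      intro x hx a h
      have hz : IsIntegral A (algebraMap A K π ^ n * x) := (isIntegral_algebraMap.pow n).mul hx
      obtain ⟨a', rfl⟩ := hdvd a _ hz (by rw [← mul_assoc, ← pow_succ']; exact h)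
      refine ih x hx a' ?_
      apply mul_left_cancel₀ hπK
      rw [← mul_assoc, ← pow_succ', h, map_mul]
  rw [isIntegrallyClosed_iff K]
  intro x hx
  have hx' : IsIntegral (Localization.Away π) x := hx.tower_top
  obtain ⟨y, hy⟩ := (isIntegrallyClosed_iff K).mp hic hx'
  obtain ⟨n, a, h⟩ := IsLocalization.Away.surj π y
  refine key n x hx a ?_
  have h2 := congrArg (algebraMap (Localization.Away π) K) h
  rw [map_mul, map_pow, hy, ← IsScalarTower.algebraMap_apply,
    ← IsScalarTower.algebraMap_apply] at h2
  rw [mul_comm]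
  exact h2

section ring

variable {B B' : Type u} [CommRing B] [CommRing B'] [Algebra B B'] [Module.Flat B B']
  [IsNoetherianRing B] [IsNoetherianRing B'] [IsDomain B] [IsDomain B']

omit [IsNoetherianRing B] [IsNoetherianRing B'] in
theorem injective_algebraMap_of_flat : Function.Injective (algebraMap B B') := by
  rw [injective_iff_map_eq_zero]
  intro b hb
  by_contra hne
  have hreg : IsSMulRegular B' b :=
    Module.Flat.isSMulRegular_of_nonZeroDivisors (mem_nonZeroDivisors_of_ne_zero hne)
  have h1 : b • (1 : B') = b • (0 : B') := by rw [Algebra.smul_def, mul_one, hb, smul_zero]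
  exact one_ne_zero (hreg h1)

omit [Module.Flat B B'] [IsNoetherianRing B'] [IsDomain B'] [Algebra B B'] in
theorem eq_bot_of_height_eq_zero (p' : Ideal B) [p'.IsPrime] (h0 : p'.height = 0) : p' = ⊥ := by
  by_contra hne
  have hlt : (⊥ : Ideal B) < p' := bot_lt_iff_ne_bot.mpr hne
  haveI : (⊥ : Ideal B).IsPrime := Ideal.isPrime_bot
  have h1 := Ideal.height_strict_mono_of_isPrime hlt
  rw [h0] at h1
  exact not_lt_zero h1

theorem normal_of_fibres
    (hB : ∀ (p : Ideal B) [p.IsPrime], IsIntegrallyClosed (Localization.AtPrime p))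
    (ha : ∀ (q : Ideal B') [q.IsPrime], q.comap (algebraMap B B') = ⊥ →
      IsIntegrallyClosed (Localization.AtPrime q))
    (hb : ∀ (q : Ideal B') [q.IsPrime], (q.comap (algebraMap B B')).height = 1 →
      IsReduced (Localization.AtPrime q ⧸
        (q.comap (algebraMap B B')).map (algebraMap B (Localization.AtPrime q)))) :
    ∀ (q : Ideal B') [q.IsPrime], IsDomain (Localization.AtPrime q) ∧
      IsIntegrallyClosed (Localization.AtPrime q) := by
  apply Groth.Agent.Lib.Helper14.ComplNormalSub.isNormalRing_of_flat_of_codim_one (B := B)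
  · intro p _
    exact ⟨inferInstance, hB p⟩
  intro q _ hq
  refine ⟨inferInstance, ?_⟩
  obtain ⟨p, hp⟩ : ∃ p : Ideal B, p = q.comap (algebraMap B B') := ⟨_, rfl⟩
  haveI hpprime : p.IsPrime := hp ▸ Ideal.IsPrime.comap _
  rw [← hp] at hq
  rcases hq.lt_or_eq with h0 | h1
  · have h0' : p.height = 0 := Order.lt_one_iff.mp h0
    exact ha q (hp ▸ eq_bot_of_height_eq_zero p h0')
  -- height one case
  have hinjBB' : Function.Injective (algebraMap B B') := injective_algebraMap_of_flat
  have hinjB'A : Function.Injective (algebraMap B' (Localization.AtPrime q)) :=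
    IsLocalization.injective _ q.primeCompl_le_nonZeroDivisors
  haveI : IsIntegrallyClosed (Localization.AtPrime p) := hB p
  have hht : (maximalIdeal (Localization.AtPrime p)).height ≤ 1 := by
    rw [Groth.Agent.Lib.Helper4.SerreNormal.height_maximalIdeal_atPrime, h1]
  haveI : IsPrincipalIdealRing (Localization.AtPrime p) :=
    Groth.Agent.Lib.Helper14.ComplNormalSub.isPrincipalIdealRing_of_normal_of_height_le_one _ hht
  obtain ⟨ϖ, hϖ⟩ := (IsPrincipalIdealRing.principal
    (maximalIdeal (Localization.AtPrime p))).principal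
  let g : Localization.AtPrime p →+* Localization.AtPrime q :=
    Localization.localRingHom p q (algebraMap B B') hp
  have hg : ∀ b : B, g (algebraMap B (Localization.AtPrime p) b) =
      algebraMap B (Localization.AtPrime q) b := by
    intro b
    rw [Localization.localRingHom_to_map]
    exact (IsScalarTower.algebraMap_apply B B' (Localization.AtPrime q) b).symm
  have hmap : p.map (algebraMap B (Localization.AtPrime q)) = Ideal.span {g ϖ} := by
    have h2 : algebraMap B (Localization.AtPrime q) =
        g.comp (algebraMap B (Localization.AtPrime p)) := RingHom.ext (fun b => (hg b).symm)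
    rw [h2, ← Ideal.map_map, IsLocalization.AtPrime.map_eq_maximalIdeal p (Localization.AtPrime p),
      hϖ, Ideal.submodule_span_eq, Ideal.map_span, Set.image_singleton]
  have hπ0 : g ϖ ≠ 0 := by
    intro h0
    have hpne : p ≠ ⊥ := by
      intro hpb
      rw [hpb, Ideal.height_bot] at h1
      exact zero_ne_one h1
    obtain ⟨b, hbp, hb0⟩ := Submodule.exists_mem_ne_zero_of_ne_bot hpne
    have h3 : algebraMap B (Localization.AtPrime q) b ∈ Ideal.span {g ϖ} :=
      hmap ▸ Ideal.mem_map_of_mem _ hbp
    rw [h0, Ideal.span_singleton_eq_bot.mpr rfl, Ideal.mem_bot,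
      IsScalarTower.algebraMap_apply B B' (Localization.AtPrime q)] at h3
    have h4 : algebraMap B' (Localization.AtPrime q) (algebraMap B B' b) =
        algebraMap B' (Localization.AtPrime q) 0 := by rw [h3, map_zero]
    have h5 := hinjB'A h4
    exact hb0 (hinjBB' (h5.trans (map_zero _).symm))
  have hredA : IsReduced (Localization.AtPrime q ⧸ Ideal.span {g ϖ}) := by
    have h3 := hb q (by rw [← hp]; exact h1)
    rw [← hp, hmap] at h3
    exact h3
  haveI : IsDomain (Localization.Away (g ϖ)) :=
    IsLocalization.isDomain_localization (powers_le_nonZeroDivisors_of_noZeroDivisors hπ0)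
  haveI : IsIntegrallyClosed (Localization.Away (g ϖ)) := by
    apply IsIntegrallyClosed.of_localization_maximal
    intro P _ hPmax
    obtain ⟨Q, hQ⟩ : ∃ Q : Ideal (Localization.AtPrime q),
      Q = P.comap (algebraMap (Localization.AtPrime q) (Localization.Away (g ϖ))) := ⟨_, rfl⟩
    haveI hQprime : Q.IsPrime := hQ ▸ Ideal.IsPrime.comap _
    obtain ⟨q', hq'⟩ : ∃ q' : Ideal B',
      q' = Q.comap (algebraMap B' (Localization.AtPrime q)) := ⟨_, rfl⟩
    haveI hq'prime : q'.IsPrime := hq' ▸ Ideal.IsPrime.comap _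
    have e₁ : Localization.AtPrime Q ≃+* Localization.AtPrime P := by
      subst hQ
      exact (IsLocalization.localizationLocalizationAtPrimeIsoLocalization
        (Submonoid.powers (g ϖ)) P).toRingEquiv
    have e₂ : Localization.AtPrime q' ≃+* Localization.AtPrime Q := by
      subst hq'
      exact (IsLocalization.localizationLocalizationAtPrimeIsoLocalization
        q.primeCompl Q).toRingEquiv
    have hq'bot : q'.comap (algebraMap B B') = ⊥ := by
      obtain ⟨p', hp'⟩ : ∃ p' : Ideal B, p' = q'.comap (algebraMap B B') := ⟨_, rfl⟩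
      haveI hp'prime : p'.IsPrime := hp' ▸ Ideal.IsPrime.comap _
      rw [← hp']
      have hle : p' ≤ p := by
        intro b hb
        rw [hp', Ideal.mem_comap, hq', Ideal.mem_comap] at hb
        have h4 : algebraMap B' (Localization.AtPrime q) (algebraMap B B' b) ∈
            maximalIdeal (Localization.AtPrime q) :=
          IsLocalRing.le_maximalIdeal hQprime.ne_top hb
        rw [IsLocalization.AtPrime.to_map_mem_maximal_iff (Localization.AtPrime q) q] at h4
        rw [hp]
        exact h4
      have hne : p' ≠ p := by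
        intro heq
        have h5 : p.map (algebraMap B (Localization.AtPrime q)) ≤ Q := by
          rw [Ideal.map_le_iff_le_comap]
          intro b hb
          rw [← heq, hp', Ideal.mem_comap, hq', Ideal.mem_comap] at hb
          rw [Ideal.mem_comap, IsScalarTower.algebraMap_apply B B' (Localization.AtPrime q)]
          exact hb
        have h6 : g ϖ ∈ Q := h5 (hmap ▸ Ideal.mem_span_singleton_self _)
        rw [hQ, Ideal.mem_comap] at h6
        exact hPmax.ne_top (Ideal.eq_top_of_isUnit_mem _ h6
          (IsLocalization.Away.algebraMap_isUnit (g ϖ)))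
      have hlt : p' < p := lt_of_le_of_ne hle hne
      have h7 := Ideal.height_strict_mono_of_isPrime hlt
      rw [h1] at h7
      exact eq_bot_of_height_eq_zero p' (Order.lt_one_iff.mp h7)
    haveI := ha q' hq'bot
    exact IsIntegrallyClosed.of_equiv (e₂.trans e₁)
  exact isIntegrallyClosed_of_away (g ϖ) hπ0 hredA

end ring

section geom

theorem exists_primeIdealOf_eq {X : Scheme.{u}} {U : X.Opens} (hU : IsAffineOpen U)
    (q : PrimeSpectrum Γ(X, U)) : ∃ y : U, hU.primeIdealOf y = q :=
  (hU.isoSpec.hom.homeomorph).surjective q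

theorem exists_locEquiv {X : Scheme.{u}} {V : X.Opens} (hV : IsAffineOpen V) (x : X)
    (hx : x ∈ V) :
    ∃ e : Localization.AtPrime (hV.primeIdealOf ⟨x, hx⟩).asIdeal ≃+* X.presheaf.stalk x,
      ∀ b : Γ(X, V), e (algebraMap _ _ b) = (X.presheaf.germ V x hx).hom b := by
  letI : Algebra Γ(X, V) (X.presheaf.stalk x) :=
    TopCat.Presheaf.algebra_section_stalk X.presheaf ⟨x, hx⟩
  haveI : IsLocalization.AtPrime (X.presheaf.stalk x) (hV.primeIdealOf ⟨x, hx⟩).asIdeal :=
    hV.isLocalization_stalk ⟨x, hx⟩
  refine ⟨(IsLocalization.algEquiv (hV.primeIdealOf ⟨x, hx⟩).asIdeal.primeCompl _ _).toRingEquiv,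
    fun b => ?_⟩
  exact (IsLocalization.algEquiv (hV.primeIdealOf ⟨x, hx⟩).asIdeal.primeCompl
    (Localization.AtPrime (hV.primeIdealOf ⟨x, hx⟩).asIdeal) (X.presheaf.stalk x)).commutes b

variable {S C : Scheme.{u}} [IsIntegral S] (f : C ⟶ S)

theorem stalk_isIntegrallyClosed_of_generic
    (hsm : Smooth (f.fiberToSpecResidueField (genericPoint S))) (x : C)
    (hx : f.base x = genericPoint S) :
    IsIntegrallyClosed (C.presheaf.stalk x) := by
  have hsm' : Smooth (f.fiberToSpecResidueField (f.base x)) := by rw [hx]; exact hsm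
  have hfield : IsField (S.presheaf.stalk (f.base x)) := by
    rw [hx]; exact Field.toIsField S.functionField
  have hJ : fiberIdeal f x = ⊥ := by
    unfold fiberIdeal
    rw [IsLocalRing.isField_iff_maximalIdeal_eq.mp hfield, Ideal.map_bot]
  have hn := @Groth.Agent.Lib.Helper23.SmoothCurve.stalk_normal_of_smooth
    (IsLocalRing.ResidueField (S.presheaf.stalk (f.base x))) _ _ _ (f.fiber (f.base x))
    (f.fiberToSpecResidueField (f.base x)) hsm' (f.asFiber x)
  haveI := hn.2
  exact IsIntegrallyClosed.of_equiv
    ((fiberStalkEquiv f x).trans ((Ideal.quotEquivOfEq hJ).trans (RingEquiv.quotientBot _)))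

theorem isIntegral_total [IsNoetherian S] [Flat f] [LocallyOfFinitePresentation f]
    [GeometricallyReduced f] [GeometricallyConnected f]
    (hsm : Smooth (f.fiberToSpecResidueField (genericPoint S))) : IsIntegral C := by
  haveI : IsReduced C := GeometricallyReduced.isReduced_of_flat_of_isLocallyNoetherian f
  haveI : IsIntegral (f.fiber (genericPoint S)) :=
    Groth.Agent.Lib.Helper13.AbVarDim.isIntegral_of_smooth_connected
      (S.residueField (genericPoint S)) (f.fiberToSpecResidueField (genericPoint S))
  haveI : IrreducibleSpace C := by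
    have hopen : IsOpenMap f := f.isOpenMap
    have hfib : IsPreirreducible (f ⁻¹' {genericPoint S}) := by
      rw [← f.range_fiberι (genericPoint S), ← Set.image_univ]
      exact ((IrreducibleSpace.isIrreducible_univ _).image _
        (f.fiberι (genericPoint S)).continuous.continuousOn).isPreirreducible
    have hpre : IsPreirreducible (f ⁻¹' (Set.univ : Set S)) := by
      refine IsPreirreducible.preimage_of_dense_isPreirreducible_fiber
        (PreirreducibleSpace.isPreirreducible_univ) _ hopen ?_
      intro y _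
      have hy : y ∈ closure ({genericPoint S} : Set S) := by
        rw [(genericPoint_spec S).def]; trivial
      have hsub : ({genericPoint S} : Set S) ⊆
          Set.univ ∩ {x | IsPreirreducible (f ⁻¹' {x})} := by
        rintro _ rfl
        exact ⟨trivial, hfib⟩
      exact closure_mono hsub hy
    rw [Set.preimage_univ] at hpre
    haveI : Nonempty C := ⟨f.fiberι (genericPoint S) (Nonempty.some inferInstance)⟩
    exact { isPreirreducible_univ := hpre, toNonempty := inferInstance }
  exact isIntegral_of_irreducibleSpace_of_isReduced C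

theorem isNormalScheme_total [IsNoetherian S] (hS : Pi1.IsNormalScheme S) [Flat f]
    [LocallyOfFinitePresentation f] [GeometricallyReduced f] [GeometricallyConnected f]
    (hsm : Smooth (f.fiberToSpecResidueField (genericPoint S))) : Pi1.IsNormalScheme C := by
  haveI : IsIntegral C := isIntegral_total f hsm
  haveI : IsLocallyNoetherian C := LocallyOfFiniteType.isLocallyNoetherian f
  intro x
  refine ⟨inferInstance, ?_⟩
  obtain ⟨U, hU, hxU, -⟩ := exists_isAffineOpen_mem_and_subset (x := f.base x) (U := ⊤) trivial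
  obtain ⟨V, hV, hxV, hVU⟩ := exists_isAffineOpen_mem_and_subset (x := x) (U := f ⁻¹ᵁ U) hxU
  have e : V ≤ f ⁻¹ᵁ U := hVU
  letI : Algebra Γ(S, U) Γ(C, V) := (f.appLE U V e).hom.toAlgebra
  haveI : Module.Flat Γ(S, U) Γ(C, V) := f.flat_appLE hU hV e
  haveI : IsNoetherianRing Γ(S, U) := IsLocallyNoetherian.component_noetherian ⟨U, hU⟩
  haveI : IsNoetherianRing Γ(C, V) := IsLocallyNoetherian.component_noetherian ⟨V, hV⟩
  haveI : Nonempty U := ⟨⟨f.base x, hxU⟩⟩
  haveI : Nonempty V := ⟨⟨x, hxV⟩⟩
  have hcomap : ∀ (y : C) (hy : y ∈ V),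
      (hV.primeIdealOf ⟨y, hy⟩).asIdeal.comap (algebraMap Γ(S, U) Γ(C, V)) =
        (hU.primeIdealOf ⟨f.base y, e hy⟩).asIdeal := fun y hy =>
    congrArg PrimeSpectrum.asIdeal
      (IsAffineOpen.comap_primeIdealOf_appLE (f := f) (x := y) U hU V hV e hy)
  have key := normal_of_fibres (B := Γ(S, U)) (B' := Γ(C, V)) ?hB ?ha ?hb
  · obtain ⟨e', -⟩ := exists_locEquiv hV x hxV
    haveI := (key (hV.primeIdealOf ⟨x, hxV⟩).asIdeal).2
    exact IsIntegrallyClosed.of_equiv e'
  case hB =>
    intro p hp
    obtain ⟨⟨s, hs⟩, hsp⟩ := exists_primeIdealOf_eq hU ⟨p, hp⟩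
    obtain rfl : p = (hU.primeIdealOf ⟨s, hs⟩).asIdeal := by rw [hsp]
    obtain ⟨e', -⟩ := exists_locEquiv hU s hs
    haveI := (hS s).2
    exact IsIntegrallyClosed.of_equiv e'.symm
  case ha =>
    intro q hq hq0
    obtain ⟨⟨y, hy⟩, hyq⟩ := exists_primeIdealOf_eq hV ⟨q, hq⟩
    obtain rfl : q = (hV.primeIdealOf ⟨y, hy⟩).asIdeal := by rw [hyq]
    rw [hcomap y hy] at hq0
    have hgen := Groth.Agent.Lib.Helper17.FlatClosure.eq_genericPoint_of_primeIdealOf_eq_bot hU
      (f.base y) (e hy) hq0
    obtain ⟨e', -⟩ := exists_locEquiv hV y hy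
    haveI := stalk_isIntegrallyClosed_of_generic f hsm y hgen
    exact IsIntegrallyClosed.of_equiv e'.symm
  case hb =>
    intro q hq hq1
    obtain ⟨⟨y, hy⟩, hyq⟩ := exists_primeIdealOf_eq hV ⟨q, hq⟩
    obtain rfl : q = (hV.primeIdealOf ⟨y, hy⟩).asIdeal := by rw [hyq]
    obtain ⟨e', he'⟩ := exists_locEquiv hV y hy
    have hIJ : fiberIdeal f y =
        (((hV.primeIdealOf ⟨y, hy⟩).asIdeal.comap (algebraMap Γ(S, U) Γ(C, V))).map
          (algebraMap Γ(S, U) (Localization.AtPrime (hV.primeIdealOf ⟨y, hy⟩).asIdeal))).map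
          (e' : Localization.AtPrime (hV.primeIdealOf ⟨y, hy⟩).asIdeal →+*
            C.presheaf.stalk y) := by
      rw [Ideal.map_map, hcomap y hy]
      have hcomp : (e' : Localization.AtPrime (hV.primeIdealOf ⟨y, hy⟩).asIdeal →+*
            C.presheaf.stalk y).comp
          (algebraMap Γ(S, U) (Localization.AtPrime (hV.primeIdealOf ⟨y, hy⟩).asIdeal)) =
          (f.stalkMap y).hom.comp (S.presheaf.germ U (f.base y) (e hy)).hom := by
        ext b
        rw [RingHom.comp_apply, RingHom.comp_apply, RingEquiv.coe_toRingHom,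
          IsScalarTower.algebraMap_apply Γ(S, U) Γ(C, V)
            (Localization.AtPrime (hV.primeIdealOf ⟨y, hy⟩).asIdeal), he']
        have h1 := Scheme.Hom.germ_stalkMap_apply f U y (e hy) b
        have h2 := TopCat.Presheaf.germ_res_apply C.presheaf (homOfLE e) y hy ((f.app U).hom b)
        exact h2.trans h1.symm
      rw [hcomp, ← Ideal.map_map]
      letI : Algebra Γ(S, U) (S.presheaf.stalk (f.base y)) :=
        TopCat.Presheaf.algebra_section_stalk S.presheaf ⟨f.base y, e hy⟩
      haveI : IsLocalization.AtPrime (S.presheaf.stalk (f.base y))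
          (hU.primeIdealOf ⟨f.base y, e hy⟩).asIdeal := hU.isLocalization_stalk ⟨f.base y, e hy⟩
      have hmax : (hU.primeIdealOf ⟨f.base y, e hy⟩).asIdeal.map
          (S.presheaf.germ U (f.base y) (e hy)).hom = maximalIdeal (S.presheaf.stalk (f.base y)) :=
        IsLocalization.AtPrime.map_eq_maximalIdeal _ _
      rw [hmax]
      rfl
    haveI : IsReduced (C.presheaf.stalk y ⧸ fiberIdeal f y) :=
      isReduced_of_injective (fiberStalkEquiv f y).symm (fiberStalkEquiv f y).symm.injective
    exact isReduced_of_injective (Ideal.quotientEquiv _ _ e' hIJ)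
      (Ideal.quotientEquiv _ _ e' hIJ).injective

theorem isIso_app_of_birational {S C₁ C₂ : Scheme.{u}} [IsIntegral S] [IsNoetherian S]
    (hS : Pi1.IsNormalScheme S) (f₁ : C₁ ⟶ S) (f₂ : C₂ ⟶ S)
    [Flat f₁] [IsProper f₁] [LocallyOfFinitePresentation f₁] [GeometricallyReduced f₁]
    [GeometricallyConnected f₁]
    [Flat f₂] [IsProper f₂] [LocallyOfFinitePresentation f₂] [GeometricallyReduced f₂]
    [GeometricallyConnected f₂]
    (hsm₁ : Smooth (f₁.fiberToSpecResidueField (genericPoint S)))
    (hsm₂ : Smooth (f₂.fiberToSpecResidueField (genericPoint S)))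
    (φ : C₁ ⟶ C₂) (hφ : φ ≫ f₂ = f₁)
    (hbir : ∃ U : C₂.Opens, Dense (U : Set C₂) ∧ IsIso (φ ∣_ U)) :
    ∀ V : C₂.Opens, IsIso (φ.app V) := by
  haveI : IsIntegral C₁ := isIntegral_total f₁ hsm₁
  haveI : IsIntegral C₂ := isIntegral_total f₂ hsm₂
  have hN : Pi1.IsNormalScheme C₂ := isNormalScheme_total f₂ hS hsm₂
  haveI : IsProper (φ ≫ f₂) := hφ ▸ inferInstance
  haveI : IsProper φ := IsProper.of_comp φ f₂
  obtain ⟨U, hUd, hUiso⟩ := hbir
  haveI := hUiso
  have hUne : (U : Set C₂).Nonempty := hUd.nonempty
  have hgen : φ.base (genericPoint C₁) = genericPoint C₂ := BirZMT.map_genericPoint φ U hUne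
  have hηU : φ.base (genericPoint C₁) ∈ U := by
    rw [hgen]; exact BirZMT.genericPoint_mem U hUne
  haveI := BirZMT.isIso_stalkMap_of_isIso_restrict φ U (genericPoint C₁) hηU
  have hdom : φ.base (genericPoint C₁) ⤳ genericPoint C₂ := by rw [hgen]
  have hins : Inseparable (genericPoint C₂) (φ.base (genericPoint C₁)) := by rw [hgen]
  have hsurj : Function.Surjective (CohIII.stalkToFunctionField φ (genericPoint C₂) hdom) := by
    have h1 : Function.Bijective (φ.stalkMap (genericPoint C₁)).hom :=
      ConcreteCategory.bijective_of_isIso (φ.stalkMap (genericPoint C₁))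
    have h2 : Function.Bijective (C₂.presheaf.stalkSpecializes hdom).hom :=
      ConcreteCategory.bijective_of_isIso (C₂.presheaf.stalkCongr hins).hom
    exact h1.2.comp h2.2
  exact Groth.Agent.Lib.Helper13.ZariskiNormal.isIso_app φ hdom hN (fun x _ => hsurj x)

end geom

end Groth.Agent.Lib.Helper6.CurveFamNormal
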