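import Mathlib

/-!
Topological lemmas on sober T0 spaces of Krull dimension at most one.
-/

set_option autoImplicit false
open TopologicalSpace

namespace Groth.Agent.Lib.Helper6.DimOneTop

variable {X : Type*} [TopologicalSpace X]

/-- The irreducible closed subset `closure {x}`. -/
def cl (x : X) : IrreducibleCloseds X :=
  ⟨closure {x}, isIrreducible_singleton.closure, isClosed_closure⟩

lemma mem_cl {x y : X} : y ∈ (cl x : Set X) ↔ y ∈ closure ({x} : Set X) := Iff.rfl

lemma cl_le_of_mem {x : X} (c : IrreducibleCloseds X) (hx : x ∈ (c : Set X)) : cl x ≤ c := by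
  have h : closure ({x} : Set X) ⊆ (c : Set X) :=
    closure_minimal (Set.singleton_subset_iff.mpr hx) c.isClosed
  exact SetLike.coe_subset_coe.mp h

lemma isClosed_singleton_of_isMin [T0Space X] (x : X) (hmin : IsMin (cl x)) :
    IsClosed ({x} : Set X) := by
  rw [← closure_subset_iff_isClosed]
  intro x' hx'
  have hle : cl x' ≤ cl x := cl_le_of_mem (cl x) hx'
  have h2 : cl x ≤ cl x' := hmin hle
  have h3 : x ∈ (cl x' : Set X) := SetLike.coe_subset_coe.mpr h2 (subset_closure rfl)
  have s1 : x ⤳ x' := specializes_iff_mem_closure.mpr hx'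
  have s2 : x' ⤳ x := specializes_iff_mem_closure.mpr h3
  exact (s2.antisymm s1).eq

lemma mem_irreducibleComponents_of_isMax (c : IrreducibleCloseds X) (hmax : IsMax c) :
    (c : Set X) ∈ irreducibleComponents X := by
  refine ⟨c.isIrreducible, fun t ht hct => ?_⟩
  have h1 : c ≤ (⟨closure t, ht.closure, isClosed_closure⟩ : IrreducibleCloseds X) :=
    SetLike.coe_subset_coe.mp (hct.trans subset_closure)
  have h2 := hmax h1
  exact subset_closure.trans (SetLike.coe_subset_coe.mpr h2)

lemma closure_singleton_injective [T0Space X] {x y : X}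
    (h : closure ({x} : Set X) = closure {y}) : x = y := by
  have s1 : y ⤳ x := specializes_iff_mem_closure.mpr (h ▸ subset_closure rfl)
  have s2 : x ⤳ y := specializes_iff_mem_closure.mpr (h.symm ▸ subset_closure rfl)
  exact (s2.antisymm s1).eq

/-- Points whose closure is an irreducible component are finite in number in a Noetherian space. -/
lemma finite_setOf_closure_mem_irreducibleComponents [T0Space X] [NoetherianSpace X] :
    {x : X | closure ({x} : Set X) ∈ irreducibleComponents X}.Finite := by
  refine Set.Finite.of_finite_image (f := fun x : X => closure ({x} : Set X)) ?_ ?_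
  · refine NoetherianSpace.finite_irreducibleComponents.subset ?_
    rintro _ ⟨x, hx, rfl⟩
    exact hx
  · intro x _ y _ hxy
    exact closure_singleton_injective hxy

lemma topologicalKrullDim_eq_one_of_mem (hdim : topologicalKrullDim X ≤ 1) {t : Set X}
    (ht : IsIrreducible t) {a b : X} (ha : a ∈ t) (hb : b ∈ t)
    (hab : b ∉ closure ({a} : Set X)) : topologicalKrullDim ↥t = 1 := by
  refine le_antisymm ((topologicalKrullDim_subspace_le X t).trans hdim) ?_
  have : IrreducibleSpace ↥t := isIrreducible_iff_irreducibleSpace.mp ht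
  refine Order.one_le_krullDim_iff.mpr
    ⟨cl (⟨a, ha⟩ : ↥t),
      ⟨Set.univ, IrreducibleSpace.isIrreducible_univ _, isClosed_univ⟩, ?_⟩
  rw [SetLike.lt_iff_le_and_exists]
  refine ⟨SetLike.coe_subset_coe.mp (Set.subset_univ _), ⟨b, hb⟩, Set.mem_univ _, ?_⟩
  intro hmem
  have h1 : (⟨b, hb⟩ : ↥t) ∈ closure ({⟨a, ha⟩} : Set ↥t) := hmem
  rw [closure_subtype] at h1
  apply hab
  simpa using h1

end Groth.Agent.Lib.Helper6.DimOneTop
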