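import Mathlib
import Groth.Agent.Lib.Helper3.QProj
import Groth.Agent.Lib.Helper6.DimOneTop

/-! One-dimensional irreducible closed subsets of a fibred surface over a Dedekind domain are
either vertical (components of a closed fibre) or horizontal (closures of closed points of the
generic fibre). -/

set_option autoImplicit false
set_option linter.style.haveILetI false

namespace Groth.Agent.Lib.Helper6.FibSurfCurve

open AlgebraicGeometry CategoryTheory TopologicalSpace
open Groth.Agent.Lib.Helper6.DimOneTop

universe u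

section Top

variable {Y : Type*} [TopologicalSpace Y]

/-- The whole (irreducible) space as an irreducible closed subset. -/
def univC [IrreducibleSpace Y] : IrreducibleCloseds Y :=
  ⟨Set.univ, IrreducibleSpace.isIrreducible_univ Y, isClosed_univ⟩

lemma cl_lt [T0Space Y] {x z : Y} (hz : z ∈ closure ({x} : Set Y)) (hne : z ≠ x) :
    cl z < cl x := by
  refine lt_of_le_of_ne (cl_le_of_mem (cl x) hz) fun h => hne ?_
  exact closure_singleton_injective (congrArg (fun c : IrreducibleCloseds Y => (c : Set Y)) h)

lemma three_le_height {α : Type*} [Preorder α] {a b c d : α} (h1 : a < b) (h2 : b < c)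
    (h3 : c < d) : (3 : ℕ∞) ≤ Order.height d := by
  have e1 : (1 : ℕ∞) ≤ Order.height b := le_trans le_add_self (Order.height_add_one_le h1)
  have e2 : (2 : ℕ∞) ≤ Order.height c := by
    calc (2 : ℕ∞) = 1 + 1 := by norm_num
      _ ≤ Order.height b + 1 := by gcongr
      _ ≤ Order.height c := Order.height_add_one_le h2
  calc (3 : ℕ∞) = 2 + 1 := by norm_num
    _ ≤ Order.height c + 1 := by gcongr
    _ ≤ Order.height d := Order.height_add_one_le h3

lemma false_of_chain (hdim : topologicalKrullDim Y = 2) {a b c d : IrreducibleCloseds Y}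
    (h1 : a < b) (h2 : b < c) (h3 : c < d) : False := by
  have h := three_le_height h1 h2 h3
  have h2' : ((3 : ℕ∞) : WithBot ℕ∞) ≤ topologicalKrullDim Y :=
    (WithBot.coe_le_coe.mpr h).trans (Order.height_le_krullDim d)
  rw [hdim] at h2'
  have h3 : (3 : ℕ∞) ≤ 2 := (WithBot.coe_le_coe (a := (3 : ℕ∞)) (b := (2 : ℕ∞))).mp h2'
  have : (3 : ℕ) ≤ 2 := by exact_mod_cast h3
  omega

end Top

lemma genericPoint_asIdeal {R : Type u} [CommRing R] [IsDomain R] {Y : Scheme.{u}}
    (f : Y ⟶ Spec (CommRingCat.of R)) [IsIntegral Y] [Flat f] :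
    (f.base (genericPoint Y)).asIdeal = ⊥ := by
  obtain ⟨η, hη⟩ : ∃ η : (Spec (CommRingCat.of R) : Scheme.{u}), η.asIdeal = ⊥ :=
    ⟨(⟨⊥, Ideal.isPrime_bot⟩ : PrimeSpectrum R), rfl⟩
  have hsp : η ⤳ f.base (genericPoint Y) := by
    exact (PrimeSpectrum.le_iff_specializes (R := R) η (f.base (genericPoint Y))).mp
      (show η.asIdeal ≤ (f.base (genericPoint Y)).asIdeal from hη ▸ bot_le)
  obtain ⟨a', ha', hfa'⟩ := Flat.generalizingMap f hsp
  have hgen : genericPoint Y ⤳ a' := (genericPoint_spec Y).specializes (Set.mem_univ _)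
  have : a' = genericPoint Y := (ha'.antisymm hgen).eq
  rw [this] at hfa'
  have h2 : f.base (genericPoint Y) = η := hfa'
  rw [h2, hη]

theorem main {R : Type u} [CommRing R] [IsDedekindDomain R] (hR : ¬ IsField R)
    {Y : Scheme.{u}} (f : Y ⟶ Spec (CommRingCat.of R)) [IsIntegral Y]
    (hdim : topologicalKrullDim Y = 2) [Flat f] [IsProper f]
    (D : Set Y) (hD : IsClosed D) (hirr : IsIrreducible D) (hD1 : topologicalKrullDim D = 1) :
    (∃ s : (Spec (CommRingCat.of R) : Scheme.{u}), s.asIdeal.IsMaximal ∧ D ⊆ f.base ⁻¹' {s} ∧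
        ∀ D' : Set Y, IsIrreducible D' → D' ⊆ f.base ⁻¹' {s} → D ⊆ D' → D' = D) ∨
      (∃ x : Y, (f.base x).asIdeal = ⊥ ∧
        (∀ z : Y, (f.base z).asIdeal = ⊥ → x ⤳ z → z = x) ∧ D = closure {x}) := by
  obtain ⟨x, hx⟩ := QuasiSober.sober hirr hD
  have hxD : closure ({x} : Set Y) = D := hx.def
  have hcont : Continuous (f.base : Y → _) := f.continuous
  have hclm : IsClosedMap (f.base : Y → _) := f.isClosedMap
  by_cases hp : (f.base x).asIdeal = ⊥
  · right
    refine ⟨x, hp, ?_, hxD.symm⟩
    intro z hz hxz
    by_contra hne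
    have hzx : z ∈ closure ({x} : Set Y) := specializes_iff_mem_closure.mp hxz
    have hDu : D ≠ Set.univ := by
      intro h
      subst h
      have h1 := IsHomeomorph.topologicalKrullDim_eq _ (Homeomorph.Set.univ Y).isHomeomorph
      rw [hD1, hdim] at h1
      have : (1 : ℕ) = 2 := by exact_mod_cast h1
      omega
    have h3 : cl x < univC := by
      refine lt_of_le_of_ne (SetLike.coe_subset_coe.mp (Set.subset_univ _)) fun h => hDu ?_
      rw [← hxD]
      exact congrArg (fun c : IrreducibleCloseds Y => (c : Set Y)) h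
    have h2 : cl z < cl x := cl_lt hzx hne
    have hzc : IsClosed ({z} : Set Y) := by
      by_contra hnc
      obtain ⟨z', hz', hne'⟩ : ∃ z' ∈ closure ({z} : Set Y), z' ≠ z := by
        by_contra hcon
        push Not at hcon
        apply hnc
        rw [← closure_subset_iff_isClosed]
        intro w hw
        exact hcon w hw
      exact false_of_chain hdim (cl_lt hz' hne') h2 h3
    have hfz : IsClosed ({f.base z} : Set _) := by
      have := hclm _ hzc
      rwa [Set.image_singleton] at this
    have hmax : (f.base z).asIdeal.IsMaximal :=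
      (PrimeSpectrum.isClosed_singleton_iff_isMaximal _).mp hfz
    rw [hz] at hmax
    exact hR (Ring.isField_iff_maximal_bot.mpr hmax)
  · left
    have hmax : (f.base x).asIdeal.IsMaximal := (f.base x).isPrime.isMaximal hp
    have hcl : IsClosed (f.base ⁻¹' {f.base x}) :=
      ((PrimeSpectrum.isClosed_singleton_iff_isMaximal _).mpr hmax).preimage hcont
    refine ⟨f.base x, hmax, ?_, ?_⟩
    · rw [← hxD]
      exact closure_minimal (Set.singleton_subset_iff.mpr rfl) hcl
    · intro D' hD' hD'F hDD'
      by_contra hne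
      obtain ⟨A, B, hAB⟩ := Order.one_le_krullDim_iff.mp
        (show (1 : WithBot ℕ∞) ≤ Order.krullDim (IrreducibleCloseds ↥D) from hD1.ge)
      have hind : Topology.IsInducing (Subtype.val : ↥D → Y) := Topology.IsInducing.subtypeVal
      have h1 : IrreducibleCloseds.map Subtype.val hind.continuous A <
          IrreducibleCloseds.map Subtype.val hind.continuous B :=
        IrreducibleCloseds.map_strictMono_of_isInducing hind hAB
      obtain ⟨Dc, hDc⟩ : ∃ Dc : IrreducibleCloseds Y, (Dc : Set Y) = D := ⟨⟨D, hirr, hD⟩, rfl⟩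
      obtain ⟨Tc, hTc⟩ : ∃ Tc : IrreducibleCloseds Y, (Tc : Set Y) = closure D' :=
        ⟨⟨closure D', hD'.closure, isClosed_closure⟩, rfl⟩
      have hBD : IrreducibleCloseds.map Subtype.val hind.continuous B ≤ Dc := by
        refine SetLike.coe_subset_coe.mp ?_
        rw [hDc]
        show closure (Subtype.val '' (B : Set ↥D)) ⊆ D
        exact closure_minimal (by rintro _ ⟨y, -, rfl⟩; exact y.2) hD
      have h2 : Dc < Tc := by
        refine lt_of_le_of_ne (SetLike.coe_subset_coe.mp ?_) fun h => hne ?_
        · rw [hDc, hTc]; exact hDD'.trans subset_closure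
        · have h' : D = closure D' := by rw [← hDc, ← hTc, h]
          exact Set.Subset.antisymm (subset_closure.trans h'.ge) hDD'
      have hgen := genericPoint_asIdeal f
      have h3 : Tc < univC := by
        refine lt_of_le_of_ne (SetLike.coe_subset_coe.mp (Set.subset_univ _)) fun h => ?_
        have h' : closure D' = Set.univ := by rw [← hTc, h]; rfl
        have hsub : closure D' ⊆ f.base ⁻¹' {f.base x} := closure_minimal hD'F hcl
        have hmem : genericPoint Y ∈ f.base ⁻¹' {f.base x} := hsub (h' ▸ Set.mem_univ _)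
        have h'' : f.base (genericPoint Y) = f.base x := hmem
        exact hp (h'' ▸ hgen)
      exact false_of_chain hdim (lt_of_lt_of_le h1 hBD) h2 h3

/-- Projective space over a base is proper over it. -/
theorem isProper_toBase (n : ℕ) (S : Scheme.{u}) :
    IsProper (CohB1.ProjSpaceOver.toBase n S) := by
  unfold CohB1.ProjSpaceOver.toBase
  exact MorphismProperty.of_isPullback (P := @IsProper) (IsPullback.of_hasPullback _ _)
    (Groth.Agent.Lib.Helper3.QProj.isProper_toSpec (ULift.{u} ℤ) n)

end Groth.Agent.Lib.Helper6.FibSurfCurve
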