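import Groth.Agent.Lib.Helper6.CurveCompl
import Groth.Agent.Lib.Helper4.NagRed
import Groth.Agent.Lib.Helper23.NodalGlueA
import Groth.Agent.Lib.Helper23.CurveD
import Groth.Agent.Lib.Helper26.AmpleCurve
import Groth.Agent.Lib.Helper16.EtDim
import Groth.Agent.Lib.Helper3.QProj
import Groth.Agent.S9675
import Groth.Agent.S9673
import Groth.Agent.S2680
import Groth.Agent.S0566

/-!
# A normal complete curve with a prescribed function field

Given a finitely generated field extension `K / k` of transcendence degree one:
* `exists_normal_model`: a normal domain `R` of finite type over `k` with fraction field `K`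
  (integral closure of a finitely generated subalgebra; finiteness by the Nagata property);
* the projective completion `Y₀` of `Spec R` (`CurveCompl.main`);
* the normalization `Y` of `Y₀` in `Spec R`: finite over `Y₀` (`S9675`), normal (`S9673`), and
  `Spec R ⟶ Y` is an open immersion by Zariski's main theorem.
-/

set_option autoImplicit false
set_option linter.style.haveILetI false
set_option linter.unusedSectionVars false
set_option linter.unusedVariables false
set_option maxHeartbeats 1600000

universe u

open CategoryTheory CategoryTheory.Limits AlgebraicGeometry TopologicalSpace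
open Groth.Agent.Lib.Helper12 Groth.Agent.Lib.Helper12.SchemeDimFT

attribute [local instance] Curv2.stalkAlgebra

namespace Groth.Agent.Lib.Helper6.NormCurve

/-! ### algebra -/

theorem exists_normal_model (k K : Type u) [Field k] [Field K] [Algebra k K]
    (hfg : (⊤ : IntermediateField k K).FG) :
    ∃ (R : Type u) (_ : CommRing R) (_ : IsDomain R) (_ : Algebra k R) (_ : Algebra R K)
      (_ : IsScalarTower k R K),
      Algebra.FiniteType k R ∧ IsIntegrallyClosed R ∧ IsFractionRing R K := by
  classical
  obtain ⟨S, hS⟩ := hfg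
  obtain ⟨A, hA⟩ : ∃ A : Subalgebra k K, A = Algebra.adjoin k (S : Set K) := ⟨_, rfl⟩
  haveI hAft : Algebra.FiniteType k A := by
    rw [hA]
    exact (Subalgebra.fg_iff_finiteType _).1 (Subalgebra.fg_adjoin_finset S)
  haveI : FaithfulSMul A K :=
    (faithfulSMul_iff_algebraMap_injective A K).2 Subtype.val_injective
  haveI hfrac : IsFractionRing A K := by
    apply IsFractionRing.of_field
    intro z
    have hz : z ∈ IntermediateField.adjoin k (S : Set K) := by
      rw [hS]
      trivial
    obtain ⟨r, hr, s, hs, e⟩ := IntermediateField.mem_adjoin_iff_div.mp hz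
    rw [← hA] at hr hs
    exact ⟨⟨r, hr⟩, ⟨s, hs⟩, e⟩
  have hNag : CAlg.IsNagata A :=
    Groth.Agent.S0566.result k (Groth.Agent.Lib.Helper23.NodalGlue.isNagata_field k) A
  haveI hfin : Module.Finite A (integralClosure A K) :=
    Groth.Agent.Lib.Helper4.NagRed.finite_integralClosure_field A hNag A K (fun x => by
      obtain ⟨a, b, hb, e⟩ := IsFractionRing.div_surjective (A := A) x
      have hb0 : algebraMap A K b ≠ 0 := by
        intro h0
        exact (nonZeroDivisors.ne_zero hb)
          ((FaithfulSMul.algebraMap_injective A K) (by rw [h0, map_zero]))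
      exact ⟨a, b, hb0, by rw [← e, div_mul_cancel₀ _ hb0]⟩)
  letI algkR : Algebra k (integralClosure A K) :=
    ((algebraMap A (integralClosure A K)).comp (algebraMap k A)).toAlgebra
  haveI : IsScalarTower k A (integralClosure A K) := IsScalarTower.of_algebraMap_eq (fun _ => rfl)
  haveI : IsScalarTower k (integralClosure A K) K := IsScalarTower.of_algebraMap_eq (fun _ => rfl)
  refine ⟨integralClosure A K, inferInstance, inferInstance, algkR, inferInstance, inferInstance,
    ?_, ?_, ?_⟩
  · exact Algebra.FiniteType.trans hAft inferInstance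
  · exact integralClosure.isIntegrallyClosedOfFiniteExtension K
  · exact integralClosure.isFractionRing_of_finite_extension K K

/-! ### normality of an affine scheme -/

theorem isNormalScheme_of_affine (X : Scheme.{u}) [IsAffine X] [IsIntegral X]
    (hic : ∀ [IsDomain Γ(X, ⊤)], IsIntegrallyClosed Γ(X, ⊤)) : Pi1.IsNormalScheme X := by
  intro x
  haveI : Nonempty (⊤ : X.Opens) := ⟨⟨x, trivial⟩⟩
  haveI : IsDomain Γ(X, ⊤) := inferInstance
  haveI : IsIntegrallyClosed Γ(X, ⊤) := hic
  letI := TopCat.Presheaf.algebra_section_stalk X.presheaf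
    (⟨x, trivial⟩ : ↥(⊤ : X.Opens))
  haveI hloc : IsLocalization.AtPrime (X.presheaf.stalk x)
      ((isAffineOpen_top X).primeIdealOf ⟨x, trivial⟩).asIdeal :=
    (isAffineOpen_top X).isLocalization_stalk ⟨x, trivial⟩
  have hle : ((isAffineOpen_top X).primeIdealOf ⟨x, trivial⟩).asIdeal.primeCompl ≤
      nonZeroDivisors Γ(X, ⊤) := by
    intro a ha
    rw [mem_nonZeroDivisors_iff_ne_zero]
    rintro rfl
    exact ha (Ideal.zero_mem _)
  exact ⟨IsLocalization.isDomain_of_le_nonZeroDivisors (X.presheaf.stalk x) hle,
    isIntegrallyClosed_of_isLocalization (S := X.presheaf.stalk x) _ hle⟩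

theorem isNormalScheme_Spec (R : Type u) [CommRing R] [IsDomain R] [IsIntegrallyClosed R] :
    Pi1.IsNormalScheme (Spec (CommRingCat.of R)) := by
  apply isNormalScheme_of_affine
  intro _
  exact IsIntegrallyClosed.of_equiv
    (Scheme.ΓSpecIso (CommRingCat.of R)).commRingCatIsoToRingEquiv.symm

/-! ### the curve -/

lemma not_one_le_zero : ¬ ((1 : WithBot ℕ∞) ≤ 0) := by
  intro h
  have h1 : ((1 : ℕ∞) : WithBot ℕ∞) ≤ ((0 : ℕ∞) : WithBot ℕ∞) := h
  have h2 : (1 : ℕ∞) ≤ 0 := WithBot.coe_le_coe.1 h1
  simp at h2

section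

variable (k : Type u) [Field k] (K : Type u) [Field K] [Algebra k K]
  (R : Type u) [CommRing R] [IsDomain R] [Algebra k R] [Algebra R K] [IsScalarTower k R K]

theorem ΓSpecIso_toGlobal (c : k) :
    (Scheme.ΓSpecIso (CommRingCat.of R)).hom.hom
      (Coh.toGlobal (Spec.map (CommRingCat.ofHom (algebraMap k R))) c) = algebraMap k R c := by
  unfold Coh.toGlobal
  have h := Scheme.ΓSpecIso_naturality (CommRingCat.ofHom (algebraMap k R))
  have h2 : (Scheme.ΓSpecIso (CommRingCat.of k)).inv ≫
      (Spec.map (CommRingCat.ofHom (algebraMap k R))).appTop ≫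
      (Scheme.ΓSpecIso (CommRingCat.of R)).hom = CommRingCat.ofHom (algebraMap k R) := by
    rw [h, Iso.inv_hom_id_assoc]
  exact congrArg (fun m => m.hom c) h2

theorem main_aux (hft : Algebra.FiniteType k R) (hic : IsIntegrallyClosed R)
    (hfr : IsFractionRing R K) (hdimR : ringKrullDim R = 1) :
    ∃ (X : Scheme.{u}) (_ : X.Over (Spec (CommRingCat.of k))) (_ : IsIntegral X),
      IsProper (X ↘ (Spec (CommRingCat.of k))) ∧ Pi1.IsNormalScheme X ∧
      (∀ x : X, IsClosed ({x} : Set X) → ringKrullDim (X.presheaf.stalk x) = 1) ∧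
      ∃ e : X.presheaf.stalk (genericPoint X) ≃+* K, ∀ c : k,
        e (algebraMap k (X.presheaf.stalk (genericPoint X)) c) = algebraMap k K c := by
  classical
  letI : (Spec (CommRingCat.of R)).Over (Spec (CommRingCat.of k)) :=
    ⟨Spec.map (CommRingCat.ofHom (algebraMap k R))⟩
  have hov₀ : (Spec (CommRingCat.of R) ↘ Spec (CommRingCat.of k)) =
      Spec.map (CommRingCat.ofHom (algebraMap k R)) := rfl
  haveI : IsSeparated (Spec (CommRingCat.of R) ↘ Spec (CommRingCat.of k)) := by
    rw [hov₀]; infer_instance
  haveI : QuasiCompact (Spec (CommRingCat.of R) ↘ Spec (CommRingCat.of k)) := by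
    rw [hov₀]; infer_instance
  haveI : LocallyOfFiniteType (Spec (CommRingCat.of R) ↘ Spec (CommRingCat.of k)) := by
    rw [hov₀, HasRingHomProperty.Spec_iff (P := @LocallyOfFiniteType)]
    exact RingHom.finiteType_algebraMap.2 hft
  haveI : IsIntegral (Spec (CommRingCat.of R)) := inferInstance
  have hdim₀ : topologicalKrullDim (Spec (CommRingCat.of R)) = 1 := by
    rw [← hdimR]
    exact PrimeSpectrum.topologicalKrullDim_eq_ringKrullDim R
  obtain ⟨d, Y₀, c, j₀, hc, hj₀, hcomp, hdense, hdom, hfin₀, hcl₀⟩ :=
    Groth.Agent.Lib.Helper6.CurveCompl.main k (Spec (CommRingCat.of R)) hdim₀.le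
  haveI := hc
  haveI := hj₀
  haveI := hdom
  letI : Y₀.Over (Spec (CommRingCat.of k)) := ⟨c ≫ CohB1.ProjSpace.toSpec d k⟩
  have hovY₀ : (Y₀ ↘ Spec (CommRingCat.of k)) = c ≫ CohB1.ProjSpace.toSpec d k := rfl
  haveI : IsProper (Y₀ ↘ Spec (CommRingCat.of k)) := by
    rw [hovY₀]; infer_instance
  haveI : IsNoetherian Y₀ := Groth.Agent.Lib.Helper23.Curve.isNoetherian_of_isProper k Y₀
  have hdimY₀ : topologicalKrullDim Y₀ ≤ 1 :=
    Groth.Agent.Lib.Helper6.CurveCompl.dim_le_of_dense_open k
      (Y₀ ↘ Spec (CommRingCat.of k)) j₀ hdense 1 hdim₀.le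
  haveI : QuasiCompact j₀ := inferInstance
  have hS : ∀ U : Y₀.affineOpens, CAlg.IsNagata Γ(Y₀, U) := by
    intro U
    letI := secAlgebra k Y₀ U.1
    haveI := finiteType_sec k Y₀ U.1 U.2
    exact Groth.Agent.S0566.result k (Groth.Agent.Lib.Helper23.NodalGlue.isNagata_field k)
      Γ(Y₀, U.1)
  haveI hfinN : IsFinite j₀.fromNormalization := Groth.Agent.S9675.result j₀ hS
  have hcompfin : (irreducibleComponents ↥(Spec (CommRingCat.of R))).Finite := by
    rw [irreducibleComponents_eq_singleton]
    exact Set.finite_singleton _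
  haveI := hcompfin.to_subtype
  have hnormal : Pi1.IsNormalScheme j₀.normalization :=
    (Groth.Agent.S9673.result j₀ (isNormalScheme_Spec R) (locallyFinite_of_finite _)).1
  letI : j₀.normalization.Over (Spec (CommRingCat.of k)) :=
    ⟨j₀.fromNormalization ≫ (Y₀ ↘ Spec (CommRingCat.of k))⟩
  have hovY : (j₀.normalization ↘ Spec (CommRingCat.of k)) =
      j₀.fromNormalization ≫ (Y₀ ↘ Spec (CommRingCat.of k)) := rfl
  haveI : IsProper (j₀.normalization ↘ Spec (CommRingCat.of k)) := by
    rw [hovY]; infer_instance
  haveI : IsIntegral j₀.normalization := inferInstance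
  haveI : IsOpenImmersion j₀.toNormalization := inferInstance
  have hdimY : topologicalKrullDim j₀.normalization ≤ 1 :=
    (Groth.Agent.Lib.Helper16.EtDim.topologicalKrullDim_le_of_locallyQuasiFinite
      j₀.fromNormalization).trans hdimY₀
  have hns : ¬ Subsingleton j₀.normalization := by
    intro hsub
    haveI : Subsingleton (Spec (CommRingCat.of R)) :=
      j₀.toNormalization.isOpenEmbedding.injective.subsingleton
    have h0 := topologicalKrullDim_zero_of_discreteTopology (Spec (CommRingCat.of R))
    rw [hdim₀] at h0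
    exact not_one_le_zero h0
  have hclosed : ∀ x : j₀.normalization, IsClosed ({x} : Set j₀.normalization) →
      ringKrullDim (j₀.normalization.presheaf.stalk x) = 1 := by
    intro x hx
    apply le_antisymm
    · exact (Groth.Agent.Lib.Helper26.AmpleCurve.ringKrullDim_stalk_le_topologicalKrullDim
        x).trans hdimY
    · rw [ringKrullDim_stalk_eq_coheight]
      have hne : genericPoint j₀.normalization ≠ x := by
        intro h
        apply hns
        refine ⟨fun a b => ?_⟩
        have hcl : closure ({x} : Set j₀.normalization) = Set.univ := by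
          rw [← h]
          exact (genericPoint_spec j₀.normalization).def
        rw [hx.closure_eq] at hcl
        have ha : a ∈ ({x} : Set j₀.normalization) := hcl ▸ Set.mem_univ a
        have hb : b ∈ ({x} : Set j₀.normalization) := hcl ▸ Set.mem_univ b
        exact ha.trans hb.symm
      have h1 : x < genericPoint j₀.normalization := by
        refine lt_of_le_not_ge (Scheme.le_iff_specializes.mpr (genericPoint_specializes x))
          (fun h => ?_)
        have h2 : x ⤳ genericPoint j₀.normalization := Scheme.le_iff_specializes.mp h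
        exact hne ((h2.antisymm (genericPoint_specializes x)).eq).symm
      have h3 := Order.coheight_add_one_le h1
      have h4 : (1 : ℕ∞) ≤ Order.coheight x := le_trans le_add_self h3
      exact_mod_cast h4
  -- the function field
  have hcompY : j₀.toNormalization ≫ (j₀.normalization ↘ Spec (CommRingCat.of k)) =
      Spec.map (CommRingCat.ofHom (algebraMap k R)) := by
    rw [hovY, ← Category.assoc, j₀.toNormalization_fromNormalization, hovY₀, hcomp, hov₀]
  have hVaff : IsAffineOpen (j₀.toNormalization ''ᵁ (⊤ : (Spec (CommRingCat.of R)).Opens)) :=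
    (isAffineOpen_top _).image_of_isOpenImmersion j₀.toNormalization
  haveI : Nonempty (j₀.toNormalization ''ᵁ (⊤ : (Spec (CommRingCat.of R)).Opens)) :=
    ⟨⟨j₀.toNormalization (genericPoint (Spec (CommRingCat.of R))), ⟨_, trivial, rfl⟩⟩⟩
  haveI : IsFractionRing
      Γ(j₀.normalization, j₀.toNormalization ''ᵁ (⊤ : (Spec (CommRingCat.of R)).Opens))
      j₀.normalization.functionField :=
    functionField_isFractionRing_of_isAffineOpen j₀.normalization _ hVaff
  obtain ⟨h, hh⟩ : ∃ h : Γ(j₀.normalization,
      j₀.toNormalization ''ᵁ (⊤ : (Spec (CommRingCat.of R)).Opens)) ≃+* R,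
      ∀ t, h t = (Scheme.ΓSpecIso (CommRingCat.of R)).hom.hom
        ((j₀.toNormalization.appIso ⊤).hom.hom t) :=
    ⟨((j₀.toNormalization.appIso ⊤) ≪≫
      Scheme.ΓSpecIso (CommRingCat.of R)).commRingCatIsoToRingEquiv, fun t => rfl⟩
  refine ⟨j₀.normalization, inferInstance, inferInstance, inferInstance, hnormal, hclosed,
    IsFractionRing.ringEquivOfRingEquiv h, fun a => ?_⟩
  -- compatibility with `k`
  have hg1 : algebraMap k (j₀.normalization.presheaf.stalk (genericPoint j₀.normalization)) a =
      algebraMap Γ(j₀.normalization,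
        j₀.toNormalization ''ᵁ (⊤ : (Spec (CommRingCat.of R)).Opens))
        j₀.normalization.functionField
        ((j₀.normalization.presheaf.map (homOfLE le_top).op).hom
          (Coh.toGlobal (j₀.normalization ↘ Spec (CommRingCat.of k)) a)) := by
    exact (TopCat.Presheaf.germ_res_apply j₀.normalization.presheaf (homOfLE le_top)
      (genericPoint j₀.normalization) _ _).symm
  rw [hg1, IsFractionRing.ringEquivOfRingEquiv_algebraMap, hh]
  have hg2 : (j₀.toNormalization.appIso ⊤).hom.hom
      ((j₀.normalization.presheaf.map (homOfLE le_top).op).hom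
        (Coh.toGlobal (j₀.normalization ↘ Spec (CommRingCat.of k)) a)) =
      Coh.toGlobal (Spec.map (CommRingCat.ofHom (algebraMap k R))) a := by
    rw [← hcompY]
    unfold Coh.toGlobal
    rw [Scheme.Hom.comp_appTop, Scheme.Hom.appIso_hom', ← CommRingCat.comp_apply,
      Scheme.Hom.map_appLE]
    rfl
  rw [hg2, ΓSpecIso_toGlobal, ← IsScalarTower.algebraMap_apply]

end

theorem main (k : Type u) [Field k] (K : Type u) [Field K] [Algebra k K]
    (hfg : (⊤ : IntermediateField k K).FG) (htr : Algebra.trdeg k K = 1) :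
    ∃ (X : Scheme.{u}) (_ : X.Over (Spec (CommRingCat.of k))) (_ : IsIntegral X),
      IsProper (X ↘ (Spec (CommRingCat.of k))) ∧ Pi1.IsNormalScheme X ∧
      (∀ x : X, IsClosed ({x} : Set X) → ringKrullDim (X.presheaf.stalk x) = 1) ∧
      ∃ e : X.presheaf.stalk (genericPoint X) ≃+* K, ∀ c : k,
        e (algebraMap k (X.presheaf.stalk (genericPoint X)) c) = algebraMap k K c := by
  obtain ⟨R, iR, iD, iA, iAK, iST, hft, hic, hfr⟩ := exists_normal_model k K hfg
  have hdimR : ringKrullDim R = 1 := by
    obtain ⟨n, hn1, hn2, -⟩ := Groth.Agent.S2680.result k R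
    have e1 : FractionRing R ≃ₐ[R] K := FractionRing.algEquiv R K
    have e2 : Algebra.trdeg k (FractionRing R) = Algebra.trdeg k K :=
      (e1.restrictScalars k).trdeg_eq
    rw [e2, htr] at hn1
    have hn : n = 1 := by exact_mod_cast hn1.symm
    rw [hn2, hn]
    rfl
  exact main_aux k K R hft hic hfr hdimR

end Groth.Agent.Lib.Helper6.NormCurve
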