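import Mathlib
import Groth.Agent.Lib.Helper7.CurveCM
import Groth.Agent.Lib.Helper6.FibSurfCurve
import Groth.Agent.Lib.Helper6.NormCurve
import Groth.Agent.Lib.Helper22.SmoothNormalSch
import Groth.Agent.Lib.Helper3.QProj

/-! A proper surjective morphism between integral one-dimensional schemes, the target being
normal and locally Noetherian, is finite and flat. -/

set_option autoImplicit false
set_option linter.style.haveILetI false

namespace Groth.Agent.Lib.Helper6.CurveFinFlat

open AlgebraicGeometry CategoryTheory CategoryTheory.Limits TopologicalSpace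
open Groth.Agent.Lib.Helper6.DimOneTop Groth.Agent.Lib.Helper6.FibSurfCurve

universe u

section Top

variable {T : Type*} [TopologicalSpace T]

lemma false_of_chain_one (hdim : topologicalKrullDim T = 1) {a b c : IrreducibleCloseds T}
    (h1 : a < b) (h2 : b < c) : False := by
  have e1 : (1 : ℕ∞) ≤ Order.height b := le_trans le_add_self (Order.height_add_one_le h1)
  have e2 : (2 : ℕ∞) ≤ Order.height c := by
    calc (2 : ℕ∞) = 1 + 1 := by norm_num
      _ ≤ Order.height b + 1 := by gcongr
      _ ≤ Order.height c := Order.height_add_one_le h2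
  have h2' : ((2 : ℕ∞) : WithBot ℕ∞) ≤ topologicalKrullDim T :=
    (WithBot.coe_le_coe.mpr e2).trans (Order.height_le_krullDim c)
  rw [hdim] at h2'
  have h3 : (2 : ℕ∞) ≤ 1 := (WithBot.coe_le_coe (a := (2 : ℕ∞)) (b := (1 : ℕ∞))).mp h2'
  have : (2 : ℕ) ≤ 1 := by exact_mod_cast h3
  omega

lemma isClosed_singleton_of_ne_generic [T0Space T] (hdim : topologicalKrullDim T = 1) {ξ z : T}
    (hξ : closure ({ξ} : Set T) = Set.univ) (hne : z ≠ ξ) : IsClosed ({z} : Set T) := by
  by_contra hnc
  obtain ⟨z', hz', hne'⟩ : ∃ z' ∈ closure ({z} : Set T), z' ≠ z := by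
    by_contra hcon
    push Not at hcon
    apply hnc
    rw [← closure_subset_iff_isClosed]
    intro w hw
    exact hcon w hw
  exact false_of_chain_one hdim (cl_lt hz' hne')
    (cl_lt (by rw [hξ]; exact Set.mem_univ z) hne)

lemma finite_of_isClosed_of_not_mem [T0Space T] [QuasiSober T] [NoetherianSpace T]
    (hdim : topologicalKrullDim T = 1) {ξ : T} (hξ : closure ({ξ} : Set T) = Set.univ)
    (F : Set T) (hF : IsClosed F) (hξF : ξ ∉ F) : F.Finite := by
  obtain ⟨S, hSfin, hScl, hSirr, hFS⟩ := NoetherianSpace.exists_finite_set_isClosed_irreducible hF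
  rw [hFS]
  refine hSfin.sUnion fun t ht => ?_
  obtain ⟨g, hg⟩ := QuasiSober.sober (hSirr t ht) (hScl t ht)
  have hgt : closure ({g} : Set T) = t := hg.def
  have hgF : g ∈ F := by
    rw [hFS]
    exact ⟨t, ht, hgt ▸ subset_closure rfl⟩
  have hgne : g ≠ ξ := fun h => hξF (h ▸ hgF)
  have := isClosed_singleton_of_ne_generic hdim hξ hgne
  rw [← hgt, this.closure_eq]
  exact Set.finite_singleton g

theorem finite_fibres {Z C : Type*} [TopologicalSpace Z] [TopologicalSpace C] [IrreducibleSpace Z]
    [T0Space Z] [QuasiSober Z] [NoetherianSpace Z] [T0Space C]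
    (hdimZ : topologicalKrullDim Z = 1) (hdimC : topologicalKrullDim C = 1) (q : Z → C)
    (hq : Continuous q) (hcl : IsClosedMap q) (hsurj : Function.Surjective q) (c : C) :
    (q ⁻¹' {c}).Finite := by
  obtain ⟨ξ, hξ⟩ : ∃ ξ : Z, closure ({ξ} : Set Z) = Set.univ :=
    ⟨genericPoint Z, (genericPoint_spec Z).def⟩
  have hgen : ∀ c' : C, q ξ ⤳ c' := by
    intro c'
    obtain ⟨z, rfl⟩ := hsurj c'
    have : ξ ⤳ z := specializes_iff_mem_closure.mpr (by rw [hξ]; exact Set.mem_univ z)
    exact this.map hq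
  by_cases hc : q ξ = c
  · refine (Set.finite_singleton ξ).subset fun z hz => ?_
    by_contra hne
    have hzc : IsClosed ({z} : Set Z) := isClosed_singleton_of_ne_generic hdimZ hξ hne
    have hcc : IsClosed ({c} : Set C) := by
      have := hcl _ hzc
      rwa [Set.image_singleton, (show q z = c from hz)] at this
    have hall : ∀ c' : C, c' = c := fun c' => by
      have h1 : c' ∈ closure ({c} : Set C) := specializes_iff_mem_closure.mp (hc ▸ hgen c')
      rwa [hcc.closure_eq] at h1
    obtain ⟨A, B, hAB⟩ := Order.one_le_krullDim_iff.mp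
      (show (1 : WithBot ℕ∞) ≤ Order.krullDim (IrreducibleCloseds C) from hdimC.ge)
    have hS : ∀ S : IrreducibleCloseds C, (S : Set C) = Set.univ := fun S => by
      ext c'
      simp only [Set.mem_univ, iff_true]
      obtain ⟨s, hs⟩ := S.isIrreducible.nonempty
      rw [hall c', ← hall s]
      exact hs
    exact hAB.ne (SetLike.coe_injective ((hS A).trans (hS B).symm))
  · have hF' : IsClosed (q ⁻¹' closure ({c} : Set C)) := isClosed_closure.preimage hq
    have hξF : ξ ∉ q ⁻¹' closure ({c} : Set C) := by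
      intro h
      have h1 : c ⤳ q ξ := specializes_iff_mem_closure.mpr h
      exact hc ((hgen c).antisymm h1).eq
    exact (finite_of_isClosed_of_not_mem hdimZ hξ _ hF' hξF).subset
      (Set.preimage_mono subset_closure)

end Top

theorem dimensionLEOne_of_le {A : Type*} [CommRing A] [IsDomain A] (h : ringKrullDim A ≤ 1) :
    Ring.DimensionLEOne A :=
  ⟨fun {p} hp0 hp => (Ring.krullDimLE_one_iff_of_noZeroDivisors.mp
    ((Ring.krullDimLE_iff (n := 1)).mpr (by simpa using h))) p hp0 hp⟩

theorem stalkMap_injective_of_dominant {Z C : Scheme.{u}} [IsIntegral Z] [IsIntegral C]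
    (q : Z ⟶ C) [IsDominant q] [QuasiCompact q] (z : Z) :
    Function.Injective (q.stalkMap z) := by
  obtain ⟨U, hU, hzU⟩ : ∃ U : C.Opens, IsAffineOpen U ∧ q z ∈ U := by
    obtain ⟨_, ⟨V, hV, rfl⟩, hxV, -⟩ := C.isBasis_affineOpens.exists_subset_of_mem_open
      (Set.mem_univ (q z)) isOpen_univ
    exact ⟨V, hV, hxV⟩
  haveI : IsSchemeTheoreticallyDominant q := IsSchemeTheoreticallyDominant.of_isDominant q
  refine hU.stalkMap_injective q z hzU fun g hg => ?_
  rw [Scheme.Hom.germ_stalkMap_apply] at hg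
  have h0 : q.app U g = 0 :=
    germ_injective_of_isIntegral Z z hzU (by rw [hg, map_zero])
  have : g = 0 := q.app_injective U (by rw [h0, map_zero])
  rw [this, map_zero]

theorem flat_of_dominant {Z C : Scheme.{u}} [IsIntegral Z] [IsIntegral C] (q : Z ⟶ C)
    [IsDominant q] [QuasiCompact q] [IsLocallyNoetherian C]
    (hdimC : topologicalKrullDim C ≤ 1)
    (hCn : ∀ c : C, IsIntegrallyClosed (C.presheaf.stalk c)) : Flat q := by
  rw [Flat.iff_flat_stalkMap]
  intro z
  letI : Algebra (C.presheaf.stalk (q z)) (Z.presheaf.stalk z) := (q.stalkMap z).hom.toAlgebra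
  haveI := hCn (q z)
  haveI : Ring.DimensionLEOne (C.presheaf.stalk (q z)) := dimensionLEOne_of_le
    ((Groth.Agent.Lib.Helper7.CurveCM.ringKrullDim_stalk_le_topologicalKrullDim (q z)).trans
      hdimC)
  haveI : IsDedekindRing (C.presheaf.stalk (q z)) := {}
  haveI : IsDedekindDomain (C.presheaf.stalk (q z)) := {}
  haveI : Module.IsTorsionFree (C.presheaf.stalk (q z)) (Z.presheaf.stalk z) :=
    Module.isTorsionFree_iff_algebraMap_injective.mpr (stalkMap_injective_of_dominant q z)
  show Module.Flat (C.presheaf.stalk (q z)) (Z.presheaf.stalk z)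
  infer_instance

theorem main {Z C : Scheme.{u}} [IsIntegral Z] [IsIntegral C] (q : Z ⟶ C) [IsProper q]
    (hsurj : Function.Surjective q) (hdimZ : topologicalKrullDim Z = 1)
    (hdimC : topologicalKrullDim C = 1) [IsLocallyNoetherian C] [NoetherianSpace Z]
    (hCn : ∀ c : C, IsIntegrallyClosed (C.presheaf.stalk c)) : IsFinite q ∧ Flat q := by
  haveI : Surjective q := ⟨hsurj⟩
  constructor
  · haveI : LocallyQuasiFinite q := LocallyQuasiFinite.of_finite_preimage_singleton q
      (fun c => finite_fibres hdimZ hdimC q q.continuous q.isClosedMap hsurj c)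
    exact IsFinite.of_isProper_of_locallyQuasiFinite q
  · exact flat_of_dominant q hdimC.le hCn

theorem main' (k : Type u) [Field k] {C X Z : Scheme.{u}} (pC : C ⟶ Spec (CommRingCat.of k))
    (pX : X ⟶ Spec (CommRingCat.of k)) [IsIntegral C] [Smooth pC]
    (hC : RelProj.IsHQuasiProjective pC) (hdimC : topologicalKrullDim C = 1)
    (hX : RelProj.IsHProjective pX) (i : Z ⟶ pullback pC pX) [IsClosedImmersion i]
    [IsIntegral Z] (hdimZ : topologicalKrullDim Z = 1)
    (hsurj : Function.Surjective ⇑(i ≫ pullback.fst pC pX)) :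
    IsFinite (i ≫ pullback.fst pC pX) ∧ Flat (i ≫ pullback.fst pC pX) := by
  have hXp : IsProper pX := ((Groth.Agent.Lib.Helper3.QProj.isHProjective_iff _).mp hX).2
  obtain ⟨n, j, hj, hjqc, hjcomp⟩ := hC
  have := hj
  have := hjqc
  have hpn := FibSurfCurve.isProper_toBase n (Spec (CommRingCat.of k))
  have hCqc : QuasiCompact pC := by rw [← hjcomp]; infer_instance
  have : IsLocallyNoetherian C := LocallyOfFiniteType.isLocallyNoetherian pC
  have : IsLocallyNoetherian Z :=
    LocallyOfFiniteType.isLocallyNoetherian ((i ≫ pullback.fst pC pX) ≫ pC)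
  have : CompactSpace Z :=
    QuasiCompact.compactSpace_of_compactSpace ((i ≫ pullback.fst pC pX) ≫ pC)
  have : IsNoetherian Z := {}
  have hCn : ∀ c : C, IsIntegrallyClosed (C.presheaf.stalk c) := fun c =>
    (((Groth.Agent.Lib.Helper22.SmoothNormalSch.stalk_iff_of_smooth pC c).2).mpr
      (Groth.Agent.Lib.Helper6.NormCurve.isNormalScheme_Spec k _)).2
  exact main (i ≫ pullback.fst pC pX) hsurj hdimZ hdimC hCn

end Groth.Agent.Lib.Helper6.CurveFinFlat
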