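import Mathlib

/-!
# The polynomial model of a curve singularity
-/

set_option autoImplicit false

noncomputable section

namespace Groth.Agent.Lib.Helper6.CurveModel

universe u

theorem main152 (k : Type u) [Field k] (s : ℕ)
    (R : Subalgebra k (Fin s → PowerSeries k))
    (hfin : Module.Finite k ((Fin s → PowerSeries k) ⧸ Subalgebra.toSubmodule R))
    (hloc : ∀ f ∈ R, ∀ i j : Fin s, PowerSeries.constantCoeff (f i) = PowerSeries.constantCoeff (f j))
    (c : Fin s → ℕ)
    (hc : ∀ f : Fin s → PowerSeries k,
      (∀ g : Fin s → PowerSeries k, g * f ∈ R) ↔ ∀ i, ((c i : ℕ) : ℕ∞) ≤ (f i).order)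
    (A : Subalgebra k (Fin s → Polynomial k))
    (hA : ∀ g : Fin s → Polynomial k, g ∈ A ↔ (fun i => ((g i : Polynomial k) : PowerSeries k)) ∈ R) :
    Algebra.FiniteType k ↥A ∧
    (∀ e ∈ A, e * e = e → e = 0 ∨ e = 1) ∧
    Module.Finite ↥A (Fin s → Polynomial k) ∧
    (∃ N : ℕ, ∀ g : Fin N → (Fin s → Polynomial k),
      (∀ n, g n ∈ A ∧ ∀ i, (g n i).coeff 0 = 0) → ∀ p : Fin s → Polynomial k, p * ∏ n, g n ∈ A) ∧
    (∀ f ∈ R, ∀ N : ℕ, ∃ g ∈ A, ∀ i : Fin s, (N : ℕ∞) ≤ (f i - ((g i : Polynomial k) : PowerSeries k)).order) ∧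
    (∀ N : ℕ, ∃ M : ℕ, ∀ g : ↥A, (∀ i : Fin s, Polynomial.X ^ M ∣ (g : Fin s → Polynomial k) i) →
      g ∈ (Ideal.span {h : ↥A | ∀ i : Fin s, ((h : Fin s → Polynomial k) i).coeff 0 = 0}) ^ N) := by
  classical
  have hC : ∀ f : Fin s → PowerSeries k, (∀ i, ((c i : ℕ) : ℕ∞) ≤ (f i).order) → f ∈ R := by
    intro f h
    have h1 := (hc f).2 h 1
    rwa [one_mul] at h1
  have hCpol : ∀ q : Fin s → Polynomial k, (∀ i, Polynomial.X ^ (c i) ∣ q i) → q ∈ A := by
    intro q hq
    rw [hA]
    apply hC
    intro i
    obtain ⟨r, hr⟩ := hq i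
    apply PowerSeries.nat_le_order
    intro j hj
    have hnot : ¬ c i ≤ j := by omega
    rw [Polynomial.coeff_coe, hr, Polynomial.coeff_X_pow_mul', if_neg hnot]
  have hsup : ∀ i, c i ≤ Finset.univ.sup c := fun i => Finset.le_sup (Finset.mem_univ i)
  -- finiteness of the product of polynomial rings over `A`
  have h3 : Module.Finite ↥A (Fin s → Polynomial k) := by
    obtain ⟨m', hm'⟩ : ∃ m' : ℕ, ∀ i, c i ≤ m' := ⟨Finset.univ.sup c, hsup⟩
    obtain ⟨S, hS⟩ : ∃ S : Finset (Fin s → Polynomial k),
        S = insert 1 ((Finset.univ ×ˢ Finset.range m').image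
          (fun ij : Fin s × ℕ => Pi.single ij.1 (Polynomial.X ^ ij.2))) := ⟨_, rfl⟩
    refine ⟨⟨S, ?_⟩⟩
    rw [eq_top_iff]
    intro q _
    have hsingle : ∀ (i : Fin s) (r : Polynomial k),
        (Pi.single i r : Fin s → Polynomial k) ∈ Submodule.span ↥A (S : Set (Fin s → Polynomial k)) := by
      intro i r
      refine Polynomial.induction_on' r ?_ ?_
      · intro p₁ p₂ h₁ h₂
        rw [Pi.single_add]
        exact Submodule.add_mem _ h₁ h₂
      · intro j a
        by_cases hj : j < m'
        · have e1 : (Pi.single i (Polynomial.monomial j a) : Fin s → Polynomial k) =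
              a • Pi.single i (Polynomial.X ^ j) := by
            rw [← Pi.single_smul, Polynomial.X_pow_eq_monomial, Polynomial.smul_monomial,
              smul_eq_mul, mul_one]
          rw [e1]
          apply Submodule.smul_of_tower_mem
          apply Submodule.subset_span
          rw [hS]
          apply Finset.mem_insert_of_mem
          apply Finset.mem_image.2
          exact ⟨(i, j), Finset.mem_product.2 ⟨Finset.mem_univ i, Finset.mem_range.2 hj⟩, rfl⟩
        · have hw : (Pi.single i (Polynomial.monomial j a) : Fin s → Polynomial k) ∈ A := by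
            apply hCpol
            intro l
            by_cases hl : l = i
            · subst hl
              rw [Pi.single_eq_same, ← Polynomial.C_mul_X_pow_eq_monomial]
              exact Dvd.dvd.mul_left (pow_dvd_pow _ (le_trans (hm' l) (by omega))) _
            · rw [Pi.single_eq_of_ne hl]
              exact dvd_zero _
          have e2 : (Pi.single i (Polynomial.monomial j a) : Fin s → Polynomial k) =
              (⟨_, hw⟩ : ↥A) • (1 : Fin s → Polynomial k) := by
            rw [Subalgebra.smul_def, smul_eq_mul, mul_one]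
          rw [e2]
          apply Submodule.smul_mem
          apply Submodule.subset_span
          rw [hS]
          exact Finset.mem_insert_self _ _
    rw [← Finset.univ_sum_single q]
    exact Submodule.sum_mem _ (fun i _ => hsingle i (q i))
  refine ⟨?_, ?_, h3, ?_, ?_, ?_⟩
  · -- finite type, by the Artin–Tate lemma
    have hQ : Algebra.FiniteType k (Fin s → Polynomial k) :=
      Algebra.FiniteType.trans (S := Polynomial k) inferInstance (Module.Finite.finiteType _)
    have hinj : Function.Injective (algebraMap ↥A (Fin s → Polynomial k)) :=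
      Subtype.val_injective
    exact ⟨fg_of_fg_of_fg k ↥A (Fin s → Polynomial k) hQ.out (Module.finite_def.1 h3) hinj⟩
  · -- idempotents
    intro e he hee
    have hcomp : ∀ i, e i = 0 ∨ e i = 1 := by
      intro i
      have h1 : e i * e i = e i := congrFun hee i
      exact IsIdempotentElem.iff_eq_zero_or_one.1 h1
    have hconst : ∀ i j, (e i).coeff 0 = (e j).coeff 0 := by
      intro i j
      have h1 := hloc _ ((hA e).1 he) i j
      simp only [Polynomial.constantCoeff_coe] at h1
      exact h1
    rcases isEmpty_or_nonempty (Fin s) with hs | hs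
    · left
      funext i
      exact (hs.false i).elim
    · obtain ⟨i0⟩ := hs
      rcases hcomp i0 with h0 | h0
      · left
        funext j
        rcases hcomp j with h | h
        · exact h
        · exfalso
          have h1 := hconst j i0
          rw [h, h0, Polynomial.coeff_one_zero, Polynomial.coeff_zero] at h1
          exact one_ne_zero h1
      · right
        funext j
        rcases hcomp j with h | h
        · exfalso
          have h1 := hconst j i0
          rw [h, h0, Polynomial.coeff_one_zero, Polynomial.coeff_zero] at h1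
          exact zero_ne_one h1
        · exact h
  · -- products of elements of the maximal ideal lie in the conductor
    refine ⟨Finset.univ.sup c, ?_⟩
    intro g hg p
    apply hCpol
    intro i
    have h1 : Polynomial.X ^ (Finset.univ.sup c) ∣ ∏ n, g n i := by
      have h2 : ∏ _n : Fin (Finset.univ.sup c), (Polynomial.X : Polynomial k) ∣ ∏ n, g n i :=
        Finset.prod_dvd_prod_of_dvd _ _ (fun n _ => Polynomial.X_dvd_iff.2 ((hg n).2 i))
      rwa [Finset.prod_const, Finset.card_univ, Fintype.card_fin] at h2
    have h2 : (p * ∏ n, g n) i = p i * ∏ n, g n i := by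
      rw [Pi.mul_apply, Finset.prod_apply]
    rw [h2]
    exact Dvd.dvd.mul_left (dvd_trans (pow_dvd_pow _ (hsup i)) h1) _
  · -- approximation
    intro f hf N
    obtain ⟨N', hN1, hN2⟩ : ∃ N' : ℕ, N ≤ N' ∧ ∀ i, c i ≤ N' :=
      ⟨max N (Finset.univ.sup c), le_max_left _ _,
        fun i => le_trans (hsup i) (le_max_right _ _)⟩
    obtain ⟨g, hg⟩ : ∃ g : Fin s → Polynomial k, ∀ i, g i = PowerSeries.trunc N' (f i) :=
      ⟨_, fun i => rfl⟩
    have hord : ∀ i, (N' : ℕ∞) ≤ (f i - ((g i : Polynomial k) : PowerSeries k)).order := by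
      intro i
      apply PowerSeries.nat_le_order
      intro j hj
      rw [map_sub, Polynomial.coeff_coe, hg, PowerSeries.coeff_trunc, if_pos hj, sub_self]
    have hd : (fun i => f i - ((g i : Polynomial k) : PowerSeries k)) ∈ R :=
      hC _ (fun i => le_trans (by exact_mod_cast (hN2 i)) (hord i))
    have hgR : (fun i => ((g i : Polynomial k) : PowerSeries k)) ∈ R := by
      have h1 := R.sub_mem hf hd
      have e1 : f - (fun i => f i - ((g i : Polynomial k) : PowerSeries k)) =
          (fun i => ((g i : Polynomial k) : PowerSeries k)) := by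
        funext i
        rw [Pi.sub_apply, sub_sub_cancel]
      rwa [e1] at h1
    exact ⟨g, (hA g).2 hgR, fun i => le_trans (by exact_mod_cast hN1) (hord i)⟩
  · -- the adic topology
    intro N
    obtain ⟨m', hm1, hm'⟩ : ∃ m' : ℕ, 1 ≤ m' ∧ ∀ i, c i ≤ m' :=
      ⟨max 1 (Finset.univ.sup c), le_max_left _ _,
        fun i => le_trans (hsup i) (le_max_right _ _)⟩
    refine ⟨N * m' + m', ?_⟩
    intro g hg
    choose q hq using hg
    have ht : (fun _ : Fin s => (Polynomial.X : Polynomial k) ^ m') ∈ A :=
      hCpol _ (fun i => pow_dvd_pow _ (hm' i))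
    have hu : (fun i : Fin s => (Polynomial.X : Polynomial k) ^ m' * q i) ∈ A :=
      hCpol _ (fun i => Dvd.dvd.mul_right (pow_dvd_pow _ (hm' i)) _)
    have hg' : g = (⟨_, ht⟩ : ↥A) ^ N * ⟨_, hu⟩ := by
      apply Subtype.ext
      funext i
      rw [Subalgebra.coe_mul, Subalgebra.coe_pow, Pi.mul_apply, Pi.pow_apply, hq i]
      ring
    rw [hg']
    apply Ideal.mul_mem_right
    apply Ideal.pow_mem_pow
    apply Ideal.subset_span
    show ∀ i : Fin s, ((Polynomial.X : Polynomial k) ^ m').coeff 0 = 0
    intro i
    have hne : ¬ 0 = m' := by omega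
    rw [Polynomial.coeff_X_pow, if_neg hne]

end Groth.Agent.Lib.Helper6.CurveModel
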