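import Mathlib
import Groth.Agent.Lib.Helper12.FibreRes
import Groth.Agent.Lib.Helper6.CurveFinFlat

/-!
# Helper library (helper6): a curve through a given point dominating a curve in the base

* `exists_prime_covBy_max`: in a Noetherian local ring, given a prime `P₀` outside a closed set
  `V(I)` containing the closed point, there is a prime `P ⊇ P₀` outside `V(I)` of coheight one.
* `exists_curve_point`: scheme version.
* `main`: flat proper `f : Y ⟶ Z` over a field, `B` an irreducible closed curve in `Z`, `q` a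
  closed point over a closed point `p ∈ B`: an irreducible closed curve through `q` finite onto `B`.
-/

set_option autoImplicit false
set_option linter.style.haveILetI false
universe u
open AlgebraicGeometry CategoryTheory Opposite Limits

namespace Groth.Agent.Lib.Helper6.CurveThrough

section Algebra

lemma false_of_lt_of_height_le_one {A : Type*} [CommRing A] [IsDomain A] {Q N : Ideal A}
    [Q.IsPrime] [N.IsPrime] (h0 : Q ≠ ⊥) (hlt : Q < N) (hN : N.height ≤ 1) : False := by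
  have h1 : (⊥ : Ideal A).height + 1 ≤ Q.height :=
    Ideal.height_add_one_le_of_lt_of_isPrime (bot_lt_iff_ne_bot.mpr h0)
  have h2 : Q.height + 1 ≤ N.height := Ideal.height_add_one_le_of_lt_of_isPrime hlt
  have h3 : (1 : ℕ∞) ≤ Q.height := le_trans le_add_self h1
  have h4 : (1 : ℕ∞) + 1 ≤ Q.height + 1 := by gcongr
  have h5 : ((2 : ℕ) : ℕ∞) ≤ ((1 : ℕ) : ℕ∞) := by
    have := h4.trans (h2.trans hN)
    simp only [one_add_one_eq_two] at this
    exact_mod_cast this
  have h6 : (2 : ℕ) ≤ 1 := by exact_mod_cast h5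
  omega

lemma exists_prime_notMem {A : Type*} [CommRing A] [IsDomain A] [IsNoetherianRing A] (t : A)
    (ht : t ≠ 0) (Q' M' : Ideal A) [Q'.IsPrime] [M'.IsPrime] (hQ0 : Q' ≠ ⊥) (hQM : Q' < M') :
    ∃ N : Ideal A, N.IsPrime ∧ N ≠ ⊥ ∧ t ∉ N := by
  classical
  have hfin : (Ideal.span {t}).minimalPrimes.Finite :=
    Ideal.finite_minimalPrimes_of_isNoetherianRing A _
  haveI : (Ideal.span {t}).IsPrincipal := ⟨⟨t, rfl⟩⟩
  have hK : ∀ p ∈ (Ideal.span {t}).minimalPrimes, p.height ≤ 1 := fun p hp =>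
    Ideal.height_le_one_of_isPrincipal_of_mem_minimalPrimes _ p hp
  obtain ⟨s, hs⟩ : ∃ s : Finset (Ideal A), s = insert ⊥ hfin.toFinset := ⟨_, rfl⟩
  have hsp : ∀ i ∈ s, i ≠ (⊥ : Ideal A) → i ≠ (⊥ : Ideal A) → (i : Ideal A).IsPrime := by
    intro i hi h1 _
    rw [hs, Finset.mem_insert] at hi
    rcases hi with rfl | hi
    · exact absurd rfl h1
    · exact ((hfin.mem_toFinset).mp hi).1.1
  have hnot : ¬ ((M' : Set A) ⊆ ⋃ i ∈ (↑s : Set (Ideal A)), (i : Set A)) := by
    intro hsub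
    obtain ⟨i, hi, hMi⟩ :=
      (Ideal.subset_union_prime (s := s) (f := fun i : Ideal A => i) ⊥ ⊥ hsp).mp hsub
    rw [hs, Finset.mem_insert] at hi
    rcases hi with rfl | hi
    · exact (lt_of_le_of_lt bot_le hQM).ne' (le_bot_iff.mp hMi)
    · have hmem := (hfin.mem_toFinset).mp hi
      haveI : i.IsPrime := hmem.1.1
      exact false_of_lt_of_height_le_one hQ0 (lt_of_lt_of_le hQM hMi) (hK i hmem)
  obtain ⟨x, hxM, hxU⟩ := Set.not_subset.mp hnot
  have hxs : ∀ i ∈ s, x ∉ i := by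
    intro i hi hxi
    exact hxU (Set.mem_iUnion₂.mpr ⟨i, Finset.mem_coe.mpr hi, hxi⟩)
  have hx0 : x ≠ 0 := by
    intro h
    exact hxs ⊥ (by rw [hs]; exact Finset.mem_insert_self _ _) (by rw [h]; exact Ideal.zero_mem _)
  obtain ⟨N, hNmin, hNM⟩ := Ideal.exists_minimalPrimes_le
    (show Ideal.span {x} ≤ M' from Ideal.span_le.mpr (Set.singleton_subset_iff.mpr hxM))
  haveI : N.IsPrime := hNmin.1.1
  haveI : (Ideal.span {x}).IsPrincipal := ⟨⟨x, rfl⟩⟩
  have hNh : N.height ≤ 1 := Ideal.height_le_one_of_isPrincipal_of_mem_minimalPrimes _ N hNmin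
  have hxN : x ∈ N := hNmin.1.2 (Ideal.mem_span_singleton_self x)
  refine ⟨N, inferInstance, ?_, ?_⟩
  · intro h
    rw [h] at hxN
    exact hx0 (by simpa using hxN)
  · intro htN
    obtain ⟨Qi, hQi, hQiN⟩ := Ideal.exists_minimalPrimes_le
      (show Ideal.span {t} ≤ N from Ideal.span_le.mpr (Set.singleton_subset_iff.mpr htN))
    haveI : Qi.IsPrime := hQi.1.1
    have hQi0 : Qi ≠ ⊥ := by
      intro h
      have : t ∈ Qi := hQi.1.2 (Ideal.mem_span_singleton_self t)
      rw [h] at this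
      exact ht (by simpa using this)
    rcases eq_or_lt_of_le hQiN with heq | hlt
    · refine hxs Qi (by rw [hs]; exact Finset.mem_insert_of_mem ((hfin.mem_toFinset).mpr hQi)) ?_
      rw [heq]; exact hxN
    · exact false_of_lt_of_height_le_one hQi0 hlt hNh

theorem exists_prime_covBy_max {R : Type*} [CommRing R] [IsNoetherianRing R] [IsLocalRing R]
    (P₀ : Ideal R) [P₀.IsPrime] (I : Ideal R) (hI : ¬ I ≤ P₀)
    (hIm : I ≤ IsLocalRing.maximalIdeal R) :
    ∃ P : Ideal R, P.IsPrime ∧ P₀ ≤ P ∧ ¬ I ≤ P ∧ P ≠ IsLocalRing.maximalIdeal R ∧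
      ∀ Q : Ideal R, Q.IsPrime → P < Q → Q = IsLocalRing.maximalIdeal R := by
  obtain ⟨P, ⟨hPp, hP0, hPI⟩, hPmax⟩ := wellFounded_gt.has_min
    {P : Ideal R | P.IsPrime ∧ P₀ ≤ P ∧ ¬ I ≤ P} ⟨P₀, inferInstance, le_rfl, hI⟩
  haveI := hPp
  refine ⟨P, hPp, hP0, hPI, fun h => hPI (by rw [h]; exact hIm), ?_⟩
  intro Q hQ hPQ
  haveI := hQ
  by_contra hQm
  have hQlt : Q < IsLocalRing.maximalIdeal R :=
    lt_of_le_of_ne (IsLocalRing.le_maximalIdeal hQ.ne_top) hQm
  obtain ⟨t, htI, htP⟩ := SetLike.not_le_iff_exists.mp hPI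
  have hπ : Function.Surjective (Ideal.Quotient.mk P) := Ideal.Quotient.mk_surjective
  have hker : RingHom.ker (Ideal.Quotient.mk P) = P := Ideal.mk_ker
  haveI : (Q.map (Ideal.Quotient.mk P)).IsPrime :=
    Ideal.map_isPrime_of_surjective hπ (by rw [hker]; exact hPQ.le)
  haveI : ((IsLocalRing.maximalIdeal R).map (Ideal.Quotient.mk P)).IsPrime :=
    Ideal.map_isPrime_of_surjective hπ (by rw [hker]; exact (hPQ.trans hQlt).le)
  have hcm : ∀ J : Ideal R, P ≤ J →
      (J.map (Ideal.Quotient.mk P)).comap (Ideal.Quotient.mk P) = J := by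
    intro J hJ
    rw [Ideal.comap_map_of_surjective _ hπ, ← RingHom.ker_eq_comap_bot, hker, sup_eq_left.mpr hJ]
  have hQ0 : Q.map (Ideal.Quotient.mk P) ≠ ⊥ := by
    intro h
    have := (Ideal.map_eq_bot_iff_le_ker _).mp h
    rw [hker] at this
    exact absurd this (not_le_of_gt hPQ)
  have hQM : Q.map (Ideal.Quotient.mk P) <
      (IsLocalRing.maximalIdeal R).map (Ideal.Quotient.mk P) := by
    refine lt_of_le_of_ne (Ideal.map_mono hQlt.le) fun h => ?_
    have := congrArg (Ideal.comap (Ideal.Quotient.mk P)) h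
    rw [hcm Q hPQ.le, hcm _ (hPQ.trans hQlt).le] at this
    exact hQm this
  have ht0 : (Ideal.Quotient.mk P) t ≠ 0 := fun h => htP (Ideal.Quotient.eq_zero_iff_mem.mp h)
  obtain ⟨N, hNp, hN0, htN⟩ := exists_prime_notMem (Ideal.Quotient.mk P t) ht0 _ _ hQ0 hQM
  haveI := hNp
  have hPN : P ≤ N.comap (Ideal.Quotient.mk P) := by
    have := Ideal.ker_le_comap (K := N) (Ideal.Quotient.mk P)
    rwa [hker] at this
  have hne : P ≠ N.comap (Ideal.Quotient.mk P) := by
    intro h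
    apply hN0
    apply Ideal.comap_injective_of_surjective (Ideal.Quotient.mk P) hπ
    rw [← h, ← RingHom.ker_eq_comap_bot, hker]
  exact hPmax (N.comap (Ideal.Quotient.mk P))
    ⟨inferInstance, hP0.trans hPN, fun h => htN (h htI)⟩ (lt_of_le_of_ne hPN hne)

end Algebra

theorem exists_curve_point {Y : Scheme.{u}} [IsLocallyNoetherian Y] (q y₀ : Y) (h : y₀ ⤳ q)
    (C : Set Y) (hC : IsClosed C) (hq : q ∈ C) (hy₀ : y₀ ∉ C) :
    ∃ y' : Y, y₀ ⤳ y' ∧ y' ⤳ q ∧ y' ∉ C ∧ y' ≠ q ∧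
      ∀ w : Y, y' ⤳ w → w ⤳ q → w = y' ∨ w = q := by
  obtain ⟨j, hj⟩ : ∃ j : Spec (Y.presheaf.stalk q) ⟶ Y, j = Y.fromSpecStalk q := ⟨_, rfl⟩
  haveI : IsPreimmersion j := by rw [hj]; infer_instance
  have hrange : Set.range j = {y | y ⤳ q} := by rw [hj]; exact Scheme.range_fromSpecStalk
  have hjcl : j (IsLocalRing.closedPoint (Y.presheaf.stalk q)) = q := by
    rw [hj]; exact Scheme.fromSpecStalk_closedPoint
  obtain ⟨x₀, hx₀⟩ : y₀ ∈ Set.range j := by rw [hrange]; exact h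
  obtain ⟨C', hC'⟩ : ∃ C' : Set (PrimeSpectrum (Y.presheaf.stalk q)),
      C' = (j ⁻¹' C : Set (Spec (Y.presheaf.stalk q))) := ⟨_, rfl⟩
  have hC'mem : ∀ x : PrimeSpectrum (Y.presheaf.stalk q), x ∈ C' ↔ j x ∈ C := by
    intro x; rw [hC']; rfl
  have hCc : IsClosed C' := by rw [hC']; exact hC.preimage j.continuous
  obtain ⟨I, hIC⟩ := (PrimeSpectrum.isClosed_iff_zeroLocus_ideal C').mp hCc
  have hmemI : ∀ x : PrimeSpectrum (Y.presheaf.stalk q), j x ∈ C ↔ I ≤ x.asIdeal := by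
    intro x
    rw [← hC'mem, hIC, PrimeSpectrum.mem_zeroLocus, SetLike.coe_subset_coe]
  obtain ⟨x₀', hx₀'⟩ : ∃ x₀' : PrimeSpectrum (Y.presheaf.stalk q), x₀' = x₀ := ⟨x₀, rfl⟩
  have hI0 : ¬ I ≤ x₀'.asIdeal := by
    intro hle
    have := (hmemI x₀').mpr hle
    rw [hx₀', hx₀] at this
    exact hy₀ this
  have hIm : I ≤ IsLocalRing.maximalIdeal (Y.presheaf.stalk q) := by
    have : j (IsLocalRing.closedPoint (Y.presheaf.stalk q)) ∈ C := by
      rw [hjcl]; exact hq
    exact (hmemI _).mp this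
  haveI : x₀'.asIdeal.IsPrime := x₀'.isPrime
  obtain ⟨P, hPp, hP0, hPI, hPm, hPcov⟩ := exists_prime_covBy_max x₀'.asIdeal I hI0 hIm
  obtain ⟨x', hx'⟩ : ∃ x' : PrimeSpectrum (Y.presheaf.stalk q), x' = ⟨P, hPp⟩ := ⟨_, rfl⟩
  have hx'I : x'.asIdeal = P := by rw [hx']
  have hinj : Function.Injective j := j.isEmbedding.injective
  refine ⟨j x', ?_, ?_, ?_, ?_, ?_⟩
  · rw [← hx₀, ← hx₀']
    exact ((PrimeSpectrum.le_iff_specializes (R := Y.presheaf.stalk q) x₀' x').mp
      (show x₀'.asIdeal ≤ x'.asIdeal by rw [hx'I]; exact hP0)).map j.continuous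
  · have : j x' ∈ Set.range j := ⟨x', rfl⟩
    rw [hrange] at this
    exact this
  · intro hmem
    have := (hmemI x').mp hmem
    rw [hx'I] at this
    exact hPI this
  · intro heq
    have : x' = IsLocalRing.closedPoint (Y.presheaf.stalk q) := hinj (heq.trans hjcl.symm)
    apply hPm
    rw [← hx'I, this]
    rfl
  · intro w hw1 hw2
    obtain ⟨xw, rfl⟩ : w ∈ Set.range j := by rw [hrange]; exact hw2
    obtain ⟨xw', hxw'⟩ : ∃ xw' : PrimeSpectrum (Y.presheaf.stalk q), xw' = xw := ⟨xw, rfl⟩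
    rw [← hxw'] at hw1 ⊢
    have hsp : x' ⤳ xw' := (j.isEmbedding.isInducing.specializes_iff).mp hw1
    have hle : x'.asIdeal ≤ xw'.asIdeal :=
      (PrimeSpectrum.le_iff_specializes (R := Y.presheaf.stalk q) x' xw').mpr hsp
    rcases eq_or_lt_of_le hle with heq | hlt
    · left
      exact congrArg j (PrimeSpectrum.ext heq).symm
    · right
      rw [hx'I] at hlt
      have h1 := hPcov xw'.asIdeal xw'.isPrime hlt
      have h2 : xw' = IsLocalRing.closedPoint (Y.presheaf.stalk q) := PrimeSpectrum.ext h1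
      rw [h2]; exact hjcl

open Groth.Agent.Lib.Helper12 Groth.Agent.Lib.Helper12.SchemeDimFT
  Groth.Agent.Lib.Helper12.FibreRes

attribute [local instance] Curv2.resAlgebra

theorem main (k : Type u) [Field k] {Y Z : Scheme.{u}} (g : Z ⟶ Spec (CommRingCat.of k))
    (f : Y ⟶ Z) [IsProper g] (hfg : IsProper (f ≫ g)) [Flat f]
    (B : Set Z) (hBc : IsClosed B) (hBi : IsIrreducible B) (hBd : topologicalKrullDim ↥B = 1)
    (p : Z) (hp : p ∈ B) (hpc : IsClosed ({p} : Set Z))
    (q : Y) (hqc : IsClosed ({q} : Set Y)) (hq : f.base q = p) :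
    ∃ B' : Set Y, IsClosed B' ∧ IsIrreducible B' ∧ q ∈ B' ∧ f.base '' B' = B ∧
      ∀ z : Z, (B' ∩ f.base ⁻¹' {z}).Finite := by
  haveI := hfg
  haveI : IsProper f := IsProper.of_comp f g
  letI : Z.Over (Spec (CommRingCat.of k)) := ⟨g⟩
  letI : Y.Over (Spec (CommRingCat.of k)) := ⟨f ≫ g⟩
  haveI : LocallyOfFiniteType (Z ↘ Spec (CommRingCat.of k)) :=
    inferInstanceAs (LocallyOfFiniteType g)
  haveI : LocallyOfFiniteType (Y ↘ Spec (CommRingCat.of k)) :=
    inferInstanceAs (LocallyOfFiniteType (f ≫ g))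
  haveI : IsLocallyNoetherian Y := LocallyOfFiniteType.isLocallyNoetherian (f ≫ g)
  haveI : CompactSpace Y := QuasiCompact.compactSpace_of_compactSpace (f ≫ g)
  haveI : IsNoetherian Y := {}
  have hcl : IsClosedMap f.base := Scheme.Hom.isClosedMap f
  obtain ⟨η, hη⟩ : ∃ η : Z, closure ({η} : Set Z) = B :=
    ⟨hBi.genericPoint, (hBi.isGenericPoint_genericPoint hBc).def⟩
  have hηp : η ⤳ p := specializes_iff_mem_closure.mpr (by rw [hη]; exact hp)
  have htrη : tr k Z η = 1 := by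
    have h1 := topologicalKrullDim_closure_singleton k Z η
    rw [hη, hBd] at h1
    have : ((1 : ℕ) : WithBot ℕ∞) = ((tr k Z η : ℕ) : WithBot ℕ∞) := by rw [← h1]; rfl
    exact_mod_cast this.symm
  have htrp : tr k Z p = 0 := tr_eq_zero_of_isClosed k Z p hpc
  have hηnep : η ≠ p := by
    intro h; rw [h] at htrη; omega
  obtain ⟨y₀, hy₀q, hy₀η⟩ : ∃ y₀ : Y, y₀ ⤳ q ∧ f.base y₀ = η := by
    have hgen : GeneralizingMap f.base := Flat.generalizingMap f
    exact hgen (show η ⤳ f.base q by rw [hq]; exact hηp)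
  have hy₀C : y₀ ∉ f.base ⁻¹' {p} := by
    intro h; exact hηnep (hy₀η.symm.trans h)
  obtain ⟨y', hy₀y', hy'q, hy'C, hy'ne, hy'imm⟩ := exists_curve_point q y₀ hy₀q (f.base ⁻¹' {p})
    (hpc.preimage f.continuous) hq hy₀C
  have hfy' : f.base y' = η := by
    by_contra hne
    have h1 : η ⤳ f.base y' := by rw [← hy₀η]; exact hy₀y'.map f.continuous
    have h2 : f.base y' ⤳ p := by rw [← hq]; exact hy'q.map f.continuous
    have h3 : f.base y' ≠ p := hy'C
    have e1 := tr_lt_of_specializes k Z η (f.base y') h1 (Ne.symm hne)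
    have e2 := tr_lt_of_specializes k Z (f.base y') p h2 h3
    omega
  have htrq : tr k Y q = 0 := tr_eq_zero_of_isClosed k Y q hqc
  have htry' : tr k Y y' = 1 := by
    have h0 : Algebra.trdeg k (Y.residueField q) = ((0 : ℕ) : Cardinal.{u}) := by
      rw [tr_spec k Y q, htrq]
    have h1 := trdeg_eq_add_one_of_covBy k Y y' q hy'ne hy'q hy'imm 0 h0
    have h2 := tr_spec k Y y'
    rw [h1] at h2
    have h3 : tr k Y y' = 0 + 1 := by exact_mod_cast h2.symm
    omega
  have himg : f.base '' closure ({y'} : Set Y) = B := by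
    rw [← hcl.closure_image_eq_of_continuous f.continuous, Set.image_singleton, hfy', hη]
  refine ⟨closure {y'}, isClosed_closure, isIrreducible_singleton.closure,
    specializes_iff_mem_closure.mp hy'q, himg, ?_⟩
  intro z
  by_cases hz : z ∈ B
  · have hmaps : Set.MapsTo f.base (closure ({y'} : Set Y)) B := by
      intro b hb; rw [← himg]; exact ⟨b, hb, rfl⟩
    haveI : IrreducibleSpace ↥(closure ({y'} : Set Y)) :=
      Subtype.irreducibleSpace isIrreducible_singleton.closure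
    haveI : QuasiSober ↥(closure ({y'} : Set Y)) :=
      quasiSober_of_isLocallyClosed isClosed_closure.isLocallyClosed
    have hdimB' : topologicalKrullDim ↥(closure ({y'} : Set Y)) = 1 := by
      rw [topologicalKrullDim_closure_singleton k Y y', htry']; rfl
    have hclr : IsClosedMap (hmaps.restrict f.base _ _) := by
      intro S hS
      obtain ⟨S', hS', rfl⟩ := isClosed_induced_iff.mp hS
      have : (hmaps.restrict f.base _ _) '' (Subtype.val ⁻¹' S') =
          Subtype.val ⁻¹' (f.base '' (S' ∩ closure {y'})) := by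
        ext ⟨b, hb⟩
        constructor
        · rintro ⟨⟨a, ha⟩, haS, hab⟩
          exact ⟨a, ⟨haS, ha⟩, congrArg Subtype.val hab⟩
        · rintro ⟨a, ⟨haS, ha⟩, hab⟩
          exact ⟨⟨a, ha⟩, haS, Subtype.ext hab⟩
      rw [this]
      exact (hcl _ (hS'.inter isClosed_closure)).preimage continuous_subtype_val
    have hsurj : Function.Surjective (hmaps.restrict f.base _ _) := by
      rintro ⟨b, hb⟩
      have hb' : b ∈ f.base '' closure ({y'} : Set Y) := by rw [himg]; exact hb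
      obtain ⟨a, ha, hab⟩ := hb'
      exact ⟨⟨a, ha⟩, Subtype.ext hab⟩
    have hfin := Groth.Agent.Lib.Helper6.CurveFinFlat.finite_fibres hdimB' hBd
      (hmaps.restrict f.base _ _) (f.continuous.restrict hmaps) hclr hsurj ⟨z, hz⟩
    have : closure ({y'} : Set Y) ∩ f.base ⁻¹' {z} =
        Subtype.val '' ((hmaps.restrict f.base _ _) ⁻¹' {⟨z, hz⟩}) := by
      ext a
      constructor
      · rintro ⟨ha, haz⟩
        exact ⟨⟨a, ha⟩, Subtype.ext haz, rfl⟩
      · rintro ⟨⟨a', ha'⟩, h1, rfl⟩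
        exact ⟨ha', congrArg Subtype.val h1⟩
    rw [this]
    exact hfin.image _
  · have : closure ({y'} : Set Y) ∩ f.base ⁻¹' {z} = ∅ := by
      ext a
      simp only [Set.mem_inter_iff, Set.mem_empty_iff_false, iff_false]
      rintro ⟨ha, haz⟩
      apply hz
      rw [← himg]
      exact ⟨a, ha, haz⟩
    rw [this]
    exact Set.finite_empty

end Groth.Agent.Lib.Helper6.CurveThrough
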