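import Mathlib
import Groth.Prelude.Def_W4c5m1nsnscurvesC
import Groth.Prelude.Def_W4c5m1nsnscurvesI

/-!
The coordinate ring of the universal affine curve over `U_n` is the coordinate ring of `U_{n+1}`.
-/

set_option autoImplicit false
universe u

namespace Groth.Agent.Lib.Helper6.CurveUSucc

open W4c5m1nsnscurves MvPolynomial

noncomputable section

section URels
variable (R : Type u) [CommRing R] (n : ℕ)

theorem u_lin (p q : Fin n) (h : p ≠ q) :
    ugen R n (UGen.cij p q h) + ugen R n (UGen.cij q p (Ne.symm h)) -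
      (ugen R n UGen.a + ugen R n (UGen.ci p) + ugen R n (UGen.cbi p) + ugen R n (UGen.ci q) +
        ugen R n (UGen.cbi q)) = 0 := by
  have h0 : Ideal.Quotient.mk (Ideal.span (URel R n))
      (X (UGen.cij p q h) + X (UGen.cij q p (Ne.symm h)) -
        (X UGen.a + X (UGen.ci p) + X (UGen.cbi p) + X (UGen.ci q) + X (UGen.cbi q))) = 0 :=
    Ideal.Quotient.eq_zero_iff_mem.mpr
      (Ideal.subset_span (Or.inl (Or.inl (Or.inl ⟨⟨(p, q), h⟩, rfl⟩))))
  simpa only [ugen, map_sub, map_add, map_mul] using h0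

theorem u_qc (p q : Fin n) (h : p ≠ q) :
    ugen R n (UGen.cij q p (Ne.symm h)) * ugen R n (UGen.ci q) +
      ugen R n (UGen.cij p q h) * ugen R n (UGen.ci p) -
      ugen R n (UGen.ci p) * ugen R n (UGen.ci q) - ugen R n UGen.c = 0 := by
  have h0 : Ideal.Quotient.mk (Ideal.span (URel R n))
      (X (UGen.cij q p (Ne.symm h)) * X (UGen.ci q) + X (UGen.cij p q h) * X (UGen.ci p) -
        X (UGen.ci p) * X (UGen.ci q) - X UGen.c) = 0 :=
    Ideal.Quotient.eq_zero_iff_mem.mpr
      (Ideal.subset_span (Or.inl (Or.inl (Or.inr ⟨⟨(p, q), h⟩, rfl⟩))))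
  simpa only [ugen, map_sub, map_add, map_mul] using h0

theorem u_qb (p q : Fin n) (h : p ≠ q) :
    ugen R n (UGen.cij q p (Ne.symm h)) * ugen R n (UGen.cbi p) +
      ugen R n (UGen.cij p q h) * ugen R n (UGen.cbi q) -
      ugen R n (UGen.cbi p) * ugen R n (UGen.cbi q) - ugen R n UGen.cb = 0 := by
  have h0 : Ideal.Quotient.mk (Ideal.span (URel R n))
      (X (UGen.cij q p (Ne.symm h)) * X (UGen.cbi p) + X (UGen.cij p q h) * X (UGen.cbi q) -
        X (UGen.cbi p) * X (UGen.cbi q) - X UGen.cb) = 0 :=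
    Ideal.Quotient.eq_zero_iff_mem.mpr
      (Ideal.subset_span (Or.inl (Or.inr ⟨⟨(p, q), h⟩, rfl⟩)))
  simpa only [ugen, map_sub, map_add, map_mul] using h0

theorem u_cub (p q r : Fin n) (h1 : p ≠ q) (h2 : q ≠ r) (h3 : p ≠ r) :
    ugen R n (UGen.cij p q h1) * ugen R n (UGen.cij q r h2) +
      ugen R n (UGen.cij q p (Ne.symm h1)) * ugen R n (UGen.cij p r h3) -
      ugen R n (UGen.cij p r h3) * ugen R n (UGen.cij q r h2) +
      (ugen R n UGen.a + ugen R n (UGen.ci r) + ugen R n (UGen.cbi r)) * ugen R n (UGen.ci r) -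
      ugen R n UGen.c = 0 := by
  have h0 : Ideal.Quotient.mk (Ideal.span (URel R n))
      (X (UGen.cij p q h1) * X (UGen.cij q r h2) +
        X (UGen.cij q p (Ne.symm h1)) * X (UGen.cij p r h3) -
        X (UGen.cij p r h3) * X (UGen.cij q r h2) +
        (X UGen.a + X (UGen.ci r) + X (UGen.cbi r)) * X (UGen.ci r) - X UGen.c) = 0 :=
    Ideal.Quotient.eq_zero_iff_mem.mpr
      (Ideal.subset_span (Or.inr ⟨⟨(p, q, r), ⟨h1, h2, h3⟩⟩, rfl⟩))
  simpa only [ugen, map_sub, map_add, map_mul] using h0

end URels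

section Main
variable (R : Type u) [CommRing R] (m : ℕ)

/-- the curve algebra over `U_n` -/
abbrev Q : Type u := CurveAlg (URing R m) m (ugen R m)

/-- constants -/
def kq : URing R m →+* Q R m :=
  (Ideal.Quotient.mk (Ideal.span (CRel (URing R m) m (ugen R m)))).comp C

/-- classes of variables -/
def xq (y : CVar m) : Q R m :=
  Ideal.Quotient.mk (Ideal.span (CRel (URing R m) m (ugen R m))) (X y)

/-- classes of generators of `U_n` -/
def uq (g : UGen m) : Q R m := kq R m (ugen R m g)

theorem q_lin (i j : Fin m) (h : i ≠ j) :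
    uq R m (UGen.cij i j h) + uq R m (UGen.cij j i (Ne.symm h)) -
      (uq R m UGen.a + uq R m (UGen.ci i) + uq R m (UGen.cbi i) + uq R m (UGen.ci j) +
        uq R m (UGen.cbi j)) = 0 := by
  have := congrArg (kq R m) (u_lin R m i j h)
  simpa only [uq, map_sub, map_add, map_mul, map_zero] using this

theorem q_qc (i j : Fin m) (h : i ≠ j) :
    uq R m (UGen.cij j i (Ne.symm h)) * uq R m (UGen.ci j) +
      uq R m (UGen.cij i j h) * uq R m (UGen.ci i) -
      uq R m (UGen.ci i) * uq R m (UGen.ci j) - uq R m UGen.c = 0 := by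
  have := congrArg (kq R m) (u_qc R m i j h)
  simpa only [uq, map_sub, map_add, map_mul, map_zero] using this

theorem q_qb (i j : Fin m) (h : i ≠ j) :
    uq R m (UGen.cij j i (Ne.symm h)) * uq R m (UGen.cbi i) +
      uq R m (UGen.cij i j h) * uq R m (UGen.cbi j) -
      uq R m (UGen.cbi i) * uq R m (UGen.cbi j) - uq R m UGen.cb = 0 := by
  have := congrArg (kq R m) (u_qb R m i j h)
  simpa only [uq, map_sub, map_add, map_mul, map_zero] using this

theorem q_cub (i j k : Fin m) (h1 : i ≠ j) (h2 : j ≠ k) (h3 : i ≠ k) :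
    uq R m (UGen.cij i j h1) * uq R m (UGen.cij j k h2) +
      uq R m (UGen.cij j i (Ne.symm h1)) * uq R m (UGen.cij i k h3) -
      uq R m (UGen.cij i k h3) * uq R m (UGen.cij j k h2) +
      (uq R m UGen.a + uq R m (UGen.ci k) + uq R m (UGen.cbi k)) * uq R m (UGen.ci k) -
      uq R m UGen.c = 0 := by
  have := congrArg (kq R m) (u_cub R m i j k h1 h2 h3)
  simpa only [uq, map_sub, map_add, map_mul, map_zero] using this

theorem q_c1 (i : Fin m) :
    xq R m CVar.x2 * xq R m (CVar.xi i) -
      (xq R m CVar.x2 * xq R m CVar.x3 + uq R m (UGen.ci i) * xq R m (CVar.xi i) +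
        uq R m (UGen.cbi i) * xq R m CVar.x2 - uq R m UGen.c) = 0 := by
  have h0 : Ideal.Quotient.mk (Ideal.span (CRel (URing R m) m (ugen R m)))
      (X CVar.x2 * X (CVar.xi i) -
        (X CVar.x2 * X CVar.x3 + C (ugen R m (UGen.ci i)) * X (CVar.xi i) +
          C (ugen R m (UGen.cbi i)) * X CVar.x2 - C (ugen R m UGen.c))) = 0 :=
    Ideal.Quotient.eq_zero_iff_mem.mpr (Ideal.subset_span (Or.inl (Or.inl ⟨i, rfl⟩)))
  simpa only [xq, uq, kq, RingHom.comp_apply, map_sub, map_add, map_mul] using h0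

theorem q_c2 (i : Fin m) :
    xq R m CVar.x3 * xq R m (CVar.xi i) -
      (xq R m CVar.x2 * xq R m CVar.x3 +
        (uq R m UGen.a + uq R m (UGen.ci i) + uq R m (UGen.cbi i)) *
          (xq R m (CVar.xi i) - uq R m (UGen.cbi i)) +
        uq R m UGen.cb - uq R m UGen.c) = 0 := by
  have h0 : Ideal.Quotient.mk (Ideal.span (CRel (URing R m) m (ugen R m)))
      (X CVar.x3 * X (CVar.xi i) -
        (X CVar.x2 * X CVar.x3 +
          C (ugen R m UGen.a + ugen R m (UGen.ci i) + ugen R m (UGen.cbi i)) *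
            (X (CVar.xi i) - C (ugen R m (UGen.cbi i))) +
          C (ugen R m UGen.cb) - C (ugen R m UGen.c))) = 0 :=
    Ideal.Quotient.eq_zero_iff_mem.mpr (Ideal.subset_span (Or.inl (Or.inr ⟨i, rfl⟩)))
  simpa only [xq, uq, kq, RingHom.comp_apply, map_sub, map_add, map_mul] using h0

theorem q_c3 (i j : Fin m) (h : i ≠ j) :
    xq R m (CVar.xi i) * xq R m (CVar.xi j) -
      (xq R m CVar.x2 * xq R m CVar.x3 + uq R m (UGen.cij i j h) * xq R m (CVar.xi j) +
        uq R m (UGen.cij j i (Ne.symm h)) * xq R m (CVar.xi i) - uq R m UGen.c) = 0 := by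
  have h0 : Ideal.Quotient.mk (Ideal.span (CRel (URing R m) m (ugen R m)))
      (X (CVar.xi i) * X (CVar.xi j) -
        (X CVar.x2 * X CVar.x3 + C (ugen R m (UGen.cij i j h)) * X (CVar.xi j) +
          C (ugen R m (UGen.cij j i (Ne.symm h))) * X (CVar.xi i) - C (ugen R m UGen.c))) = 0 :=
    Ideal.Quotient.eq_zero_iff_mem.mpr (Ideal.subset_span (Or.inr ⟨⟨(i, j), h⟩, rfl⟩))
  simpa only [xq, uq, kq, RingHom.comp_apply, map_sub, map_add, map_mul] using h0

/-- images of the generators `c_{pq}` of `U_{n+1}` -/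
def Gij (p q : Fin (m + 1)) : Q R m :=
  Fin.lastCases (motive := fun _ => Q R m)
    (Fin.lastCases (motive := fun _ => Q R m) 0
      (fun j => uq R m (UGen.ci j) + uq R m (UGen.cbi j) + xq R m CVar.x3 - xq R m (CVar.xi j)) q)
    (fun i => Fin.lastCases (motive := fun _ => Q R m) (xq R m (CVar.xi i))
      (fun j => if h : i ≠ j then uq R m (UGen.cij i j h) else 0) q) p

/-- images of the generators of `U_{n+1}` -/
def genImg : UGen (m + 1) → Q R m
  | UGen.a => uq R m UGen.a
  | UGen.c => uq R m UGen.c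
  | UGen.cb => uq R m UGen.cb
  | UGen.ci p => Fin.lastCases (motive := fun _ => Q R m) (xq R m CVar.x2)
      (fun i => uq R m (UGen.ci i)) p
  | UGen.cbi p => Fin.lastCases (motive := fun _ => Q R m)
      (xq R m CVar.x3 - uq R m UGen.a - xq R m CVar.x2) (fun i => uq R m (UGen.cbi i)) p
  | UGen.cij p q _ => Gij R m p q

theorem genImg_a : genImg R m UGen.a = uq R m UGen.a := rfl
theorem genImg_c : genImg R m UGen.c = uq R m UGen.c := rfl
theorem genImg_cb : genImg R m UGen.cb = uq R m UGen.cb := rfl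

theorem genImg_ci_last : genImg R m (UGen.ci (Fin.last m)) = xq R m CVar.x2 := by
  simp only [genImg, Fin.lastCases_last]

theorem genImg_ci_cast (i : Fin m) : genImg R m (UGen.ci i.castSucc) = uq R m (UGen.ci i) := by
  simp only [genImg, Fin.lastCases_castSucc]

theorem genImg_cbi_last :
    genImg R m (UGen.cbi (Fin.last m)) = xq R m CVar.x3 - uq R m UGen.a - xq R m CVar.x2 := by
  simp only [genImg, Fin.lastCases_last]

theorem genImg_cbi_cast (i : Fin m) :
    genImg R m (UGen.cbi i.castSucc) = uq R m (UGen.cbi i) := by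
  simp only [genImg, Fin.lastCases_castSucc]

theorem genImg_cij_cl (i : Fin m) (h : i.castSucc ≠ Fin.last m) :
    genImg R m (UGen.cij i.castSucc (Fin.last m) h) = xq R m (CVar.xi i) := by
  simp only [genImg, Gij, Fin.lastCases_last, Fin.lastCases_castSucc]

theorem genImg_cij_lc (j : Fin m) (h : Fin.last m ≠ j.castSucc) :
    genImg R m (UGen.cij (Fin.last m) j.castSucc h) =
      uq R m (UGen.ci j) + uq R m (UGen.cbi j) + xq R m CVar.x3 - xq R m (CVar.xi j) := by
  simp only [genImg, Gij, Fin.lastCases_last, Fin.lastCases_castSucc]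

theorem genImg_cij_cc (i j : Fin m) (h : i.castSucc ≠ j.castSucc) :
    genImg R m (UGen.cij i.castSucc j.castSucc h) =
      uq R m (UGen.cij i j (fun e => h (congrArg Fin.castSucc e))) := by
  have h' : i ≠ j := fun e => h (congrArg Fin.castSucc e)
  simp only [genImg, Gij, Fin.lastCases_castSucc, dif_pos h']

/-- constants of `R` in `Q` -/
def ιR : R →+* Q R m :=
  (kq R m).comp ((Ideal.Quotient.mk (Ideal.span (URel R m))).comp C)

/-- the inverse map on polynomials -/
def inv0 : MvPolynomial (UGen (m + 1)) R →+* Q R m :=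
  eval₂Hom (ιR R m) (genImg R m)

theorem inv0_X (g : UGen (m + 1)) : inv0 R m (X g) = genImg R m g := eval₂Hom_X' _ _ _

theorem inv0_C (r : R) : inv0 R m (C r) = ιR R m r := eval₂Hom_C _ _ _

theorem inv0_rel {p : MvPolynomial (UGen (m + 1)) R} (hp : p ∈ URel R (m + 1)) :
    inv0 R m p = 0 := by
  rcases hp with ((⟨q, rfl⟩ | ⟨q, rfl⟩) | ⟨q, rfl⟩) | ⟨q, rfl⟩
  · obtain ⟨⟨p, q'⟩, h⟩ := q
    dsimp only at h ⊢
    rcases Fin.eq_castSucc_or_eq_last p with ⟨i, rfl⟩ | rfl
    · rcases Fin.eq_castSucc_or_eq_last q' with ⟨j, rfl⟩ | rfl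
      · simp only [map_sub, map_add, map_mul, inv0_X, genImg_a, genImg_c, genImg_cb,
          genImg_ci_last, genImg_ci_cast, genImg_cbi_last, genImg_cbi_cast, genImg_cij_cl,
          genImg_cij_lc, genImg_cij_cc]
        linear_combination q_lin R m i j (fun e => h (congrArg Fin.castSucc e))
      · simp only [map_sub, map_add, map_mul, inv0_X, genImg_a, genImg_c, genImg_cb,
          genImg_ci_last, genImg_ci_cast, genImg_cbi_last, genImg_cbi_cast, genImg_cij_cl,
          genImg_cij_lc, genImg_cij_cc]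
        ring
    · rcases Fin.eq_castSucc_or_eq_last q' with ⟨j, rfl⟩ | rfl
      · simp only [map_sub, map_add, map_mul, inv0_X, genImg_a, genImg_c, genImg_cb,
          genImg_ci_last, genImg_ci_cast, genImg_cbi_last, genImg_cbi_cast, genImg_cij_cl,
          genImg_cij_lc, genImg_cij_cc]
        ring
      · exact absurd rfl h
  · obtain ⟨⟨p, q'⟩, h⟩ := q
    dsimp only at h ⊢
    rcases Fin.eq_castSucc_or_eq_last p with ⟨i, rfl⟩ | rfl
    · rcases Fin.eq_castSucc_or_eq_last q' with ⟨j, rfl⟩ | rfl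
      · simp only [map_sub, map_add, map_mul, inv0_X, genImg_a, genImg_c, genImg_cb,
          genImg_ci_last, genImg_ci_cast, genImg_cbi_last, genImg_cbi_cast, genImg_cij_cl,
          genImg_cij_lc, genImg_cij_cc]
        linear_combination q_qc R m i j (fun e => h (congrArg Fin.castSucc e))
      · simp only [map_sub, map_add, map_mul, inv0_X, genImg_a, genImg_c, genImg_cb,
          genImg_ci_last, genImg_ci_cast, genImg_cbi_last, genImg_cbi_cast, genImg_cij_cl,
          genImg_cij_lc, genImg_cij_cc]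
        linear_combination (-1) * q_c1 R m i
    · rcases Fin.eq_castSucc_or_eq_last q' with ⟨j, rfl⟩ | rfl
      · simp only [map_sub, map_add, map_mul, inv0_X, genImg_a, genImg_c, genImg_cb,
          genImg_ci_last, genImg_ci_cast, genImg_cbi_last, genImg_cbi_cast, genImg_cij_cl,
          genImg_cij_lc, genImg_cij_cc]
        linear_combination (-1) * q_c1 R m j
      · exact absurd rfl h
  · obtain ⟨⟨p, q'⟩, h⟩ := q
    dsimp only at h ⊢
    rcases Fin.eq_castSucc_or_eq_last p with ⟨i, rfl⟩ | rfl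
    · rcases Fin.eq_castSucc_or_eq_last q' with ⟨j, rfl⟩ | rfl
      · simp only [map_sub, map_add, map_mul, inv0_X, genImg_a, genImg_c, genImg_cb,
          genImg_ci_last, genImg_ci_cast, genImg_cbi_last, genImg_cbi_cast, genImg_cij_cl,
          genImg_cij_lc, genImg_cij_cc]
        linear_combination q_qb R m i j (fun e => h (congrArg Fin.castSucc e))
      · simp only [map_sub, map_add, map_mul, inv0_X, genImg_a, genImg_c, genImg_cb,
          genImg_ci_last, genImg_ci_cast, genImg_cbi_last, genImg_cbi_cast, genImg_cij_cl,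
          genImg_cij_lc, genImg_cij_cc]
        linear_combination q_c2 R m i - q_c1 R m i
    · rcases Fin.eq_castSucc_or_eq_last q' with ⟨j, rfl⟩ | rfl
      · simp only [map_sub, map_add, map_mul, inv0_X, genImg_a, genImg_c, genImg_cb,
          genImg_ci_last, genImg_ci_cast, genImg_cbi_last, genImg_cbi_cast, genImg_cij_cl,
          genImg_cij_lc, genImg_cij_cc]
        linear_combination q_c2 R m j - q_c1 R m j
      · exact absurd rfl h
  · obtain ⟨⟨p, q', r⟩, h1, h2, h3⟩ := q
    dsimp only at h1 h2 h3 ⊢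
    rcases Fin.eq_castSucc_or_eq_last p with ⟨i, rfl⟩ | rfl
    · rcases Fin.eq_castSucc_or_eq_last q' with ⟨j, rfl⟩ | rfl
      · rcases Fin.eq_castSucc_or_eq_last r with ⟨k, rfl⟩ | rfl
        · simp only [map_sub, map_add, map_mul, inv0_X, genImg_a, genImg_c, genImg_cb,
            genImg_ci_last, genImg_ci_cast, genImg_cbi_last, genImg_cbi_cast, genImg_cij_cl,
            genImg_cij_lc, genImg_cij_cc]
          linear_combination q_cub R m i j k (fun e => h1 (congrArg Fin.castSucc e))
            (fun e => h2 (congrArg Fin.castSucc e)) (fun e => h3 (congrArg Fin.castSucc e))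
        · simp only [map_sub, map_add, map_mul, inv0_X, genImg_a, genImg_c, genImg_cb,
            genImg_ci_last, genImg_ci_cast, genImg_cbi_last, genImg_cbi_cast, genImg_cij_cl,
            genImg_cij_lc, genImg_cij_cc]
          linear_combination (-1) * q_c3 R m i j (fun e => h1 (congrArg Fin.castSucc e))
      · rcases Fin.eq_castSucc_or_eq_last r with ⟨k, rfl⟩ | rfl
        · have hik : i ≠ k := fun e => h3 (congrArg Fin.castSucc e)
          simp only [map_sub, map_add, map_mul, inv0_X, genImg_a, genImg_c, genImg_cb,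
            genImg_ci_last, genImg_ci_cast, genImg_cbi_last, genImg_cbi_cast, genImg_cij_cl,
            genImg_cij_lc, genImg_cij_cc]
          linear_combination q_c2 R m i - q_c3 R m i k hik +
            (uq R m (UGen.cbi i) - uq R m (UGen.ci k) - xq R m (CVar.xi i)) * q_lin R m i k hik -
            q_qb R m i k hik + q_qc R m i k hik
        · exact absurd rfl h2
    · rcases Fin.eq_castSucc_or_eq_last q' with ⟨j, rfl⟩ | rfl
      · rcases Fin.eq_castSucc_or_eq_last r with ⟨k, rfl⟩ | rfl
        · have hjk : j ≠ k := fun e => h2 (congrArg Fin.castSucc e)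
          simp only [map_sub, map_add, map_mul, inv0_X, genImg_a, genImg_c, genImg_cb,
            genImg_ci_last, genImg_ci_cast, genImg_cbi_last, genImg_cbi_cast, genImg_cij_cl,
            genImg_cij_lc, genImg_cij_cc]
          linear_combination q_c2 R m j - q_c3 R m j k hjk +
            (uq R m (UGen.cbi j) - uq R m (UGen.ci k) - xq R m (CVar.xi j)) * q_lin R m j k hjk -
            q_qb R m j k hjk + q_qc R m j k hjk
        · exact absurd rfl h3
      · exact absurd rfl h1

theorem inv0_span (p : MvPolynomial (UGen (m + 1)) R) (hp : p ∈ Ideal.span (URel R (m + 1))) :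
    inv0 R m p = 0 := by
  have hle : Ideal.span (URel R (m + 1)) ≤ RingHom.ker (inv0 R m) :=
    Ideal.span_le.mpr (fun q hq => (RingHom.mem_ker).mpr (inv0_rel R m hq))
  exact (RingHom.mem_ker).mp (hle hp)

/-- the inverse map -/
def inv : URing R (m + 1) →+* Q R m :=
  Ideal.Quotient.lift (Ideal.span (URel R (m + 1))) (inv0 R m) (inv0_span R m)

theorem inv_ugen (g : UGen (m + 1)) : inv R m (ugen R (m + 1) g) = genImg R m g := by
  exact inv0_X R m g

theorem inv_C (r : R) :
    inv R m (Ideal.Quotient.mk (Ideal.span (URel R (m + 1))) (C r)) = ιR R m r := by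
  unfold inv
  rw [Ideal.Quotient.lift_mk]
  exact inv0_C R m r

/-- images of the variables of the curve -/
def xImg : CVar m → URing R (m + 1)
  | CVar.x2 => ugen R (m + 1) (UGen.ci (Fin.last m))
  | CVar.x3 => ugen R (m + 1) UGen.a + ugen R (m + 1) (UGen.ci (Fin.last m)) +
      ugen R (m + 1) (UGen.cbi (Fin.last m))
  | CVar.xi i => ugen R (m + 1) (UGen.cij i.castSucc (Fin.last m) (Fin.castSucc_lt_last i).ne)

theorem uincl_ugen (g : UGen m) : uincl R m (ugen R m g) = ugen R (m + 1) g.castSucc := by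
  have h : uincl R m (ugen R m g) =
      Ideal.Quotient.mk (Ideal.span (URel R (m + 1))) (rename UGen.castSucc (X g)) := rfl
  rw [h, rename_X]
  rfl

theorem uincl_C (r : R) :
    uincl R m (Ideal.Quotient.mk (Ideal.span (URel R m)) (C r)) =
      Ideal.Quotient.mk (Ideal.span (URel R (m + 1))) (C r) := by
  have h : uincl R m (Ideal.Quotient.mk (Ideal.span (URel R m)) (C r)) =
      Ideal.Quotient.mk (Ideal.span (URel R (m + 1))) (rename UGen.castSucc (C r)) := rfl
  rw [h, rename_C]

/-- the forward map on polynomials -/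
def fwd0 : MvPolynomial (CVar m) (URing R m) →+* URing R (m + 1) :=
  eval₂Hom (uincl R m : URing R m →+* URing R (m + 1)) (xImg R m)

theorem fwd0_X (y : CVar m) : fwd0 R m (X y) = xImg R m y := eval₂Hom_X' _ _ _

theorem fwd0_C (r : URing R m) : fwd0 R m (C r) = uincl R m r := eval₂Hom_C _ _ _

theorem fwd0_rel {p : MvPolynomial (CVar m) (URing R m)}
    (hp : p ∈ CRel (URing R m) m (ugen R m)) : fwd0 R m p = 0 := by
  rcases hp with (⟨i, rfl⟩ | ⟨i, rfl⟩) | ⟨q, rfl⟩
  · have hne : i.castSucc ≠ Fin.last m := (Fin.castSucc_lt_last i).ne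
    simp only [map_sub, map_add, map_mul, fwd0_X, fwd0_C, xImg, uincl_ugen, UGen.castSucc]
    linear_combination (-1) * u_qc R (m + 1) i.castSucc (Fin.last m) hne +
      ugen R (m + 1) (UGen.ci (Fin.last m)) * u_lin R (m + 1) i.castSucc (Fin.last m) hne
  · have hne : i.castSucc ≠ Fin.last m := (Fin.castSucc_lt_last i).ne
    simp only [map_sub, map_add, map_mul, fwd0_X, fwd0_C, xImg, uincl_ugen, UGen.castSucc]
    linear_combination u_qb R (m + 1) i.castSucc (Fin.last m) hne -
      u_qc R (m + 1) i.castSucc (Fin.last m) hne -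
      (ugen R (m + 1) (UGen.cbi i.castSucc) - ugen R (m + 1) (UGen.ci (Fin.last m))) *
        u_lin R (m + 1) i.castSucc (Fin.last m) hne
  · obtain ⟨⟨i, j⟩, h⟩ := q
    dsimp only at h ⊢
    have h1 : i.castSucc ≠ j.castSucc := fun e => h (Fin.castSucc_injective _ e)
    have h2 : j.castSucc ≠ Fin.last m := (Fin.castSucc_lt_last j).ne
    have h3 : i.castSucc ≠ Fin.last m := (Fin.castSucc_lt_last i).ne
    simp only [map_sub, map_add, map_mul, fwd0_X, fwd0_C, xImg, uincl_ugen, UGen.castSucc]
    linear_combination (-1) * u_cub R (m + 1) i.castSucc j.castSucc (Fin.last m) h1 h2 h3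

theorem fwd0_span (p : MvPolynomial (CVar m) (URing R m))
    (hp : p ∈ Ideal.span (CRel (URing R m) m (ugen R m))) : fwd0 R m p = 0 := by
  have hle : Ideal.span (CRel (URing R m) m (ugen R m)) ≤ RingHom.ker (fwd0 R m) :=
    Ideal.span_le.mpr (fun q hq => (RingHom.mem_ker).mpr (fwd0_rel R m hq))
  exact (RingHom.mem_ker).mp (hle hp)

/-- the forward map -/
def fwd : Q R m →+* URing R (m + 1) :=
  Ideal.Quotient.lift (Ideal.span (CRel (URing R m) m (ugen R m))) (fwd0 R m) (fwd0_span R m)

theorem fwd_xq (y : CVar m) : fwd R m (xq R m y) = xImg R m y := by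
  unfold fwd xq
  rw [Ideal.Quotient.lift_mk]
  exact fwd0_X R m y

theorem fwd_kq (r : URing R m) : fwd R m (kq R m r) = uincl R m r := by
  unfold fwd kq
  rw [RingHom.comp_apply, Ideal.Quotient.lift_mk]
  exact fwd0_C R m r

theorem fwd_uq (g : UGen m) : fwd R m (uq R m g) = ugen R (m + 1) g.castSucc := by
  unfold uq
  rw [fwd_kq, uincl_ugen]

theorem inv_uincl (r : URing R m) : inv R m (uincl R m r) = kq R m r := by
  have h : (inv R m).comp (uincl R m : URing R m →+* URing R (m + 1)) = kq R m := by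
    apply Ideal.Quotient.ringHom_ext
    apply MvPolynomial.ringHom_ext
    · intro r
      change inv R m (uincl R m (Ideal.Quotient.mk (Ideal.span (URel R m)) (C r))) =
        kq R m (Ideal.Quotient.mk (Ideal.span (URel R m)) (C r))
      rw [uincl_C, inv_C]
      rfl
    · intro g
      change inv R m (uincl R m (ugen R m g)) = uq R m g
      rw [uincl_ugen, inv_ugen]
      cases g with
      | a => rfl
      | c => rfl
      | cb => rfl
      | ci i => exact genImg_ci_cast R m i
      | cbi i => exact genImg_cbi_cast R m i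
      | cij i j h => exact genImg_cij_cc R m i j _
  exact RingHom.congr_fun h r

theorem inv_fwd : (inv R m).comp (fwd R m) = RingHom.id (Q R m) := by
  apply Ideal.Quotient.ringHom_ext
  apply MvPolynomial.ringHom_ext
  · intro r
    change inv R m (fwd R m (kq R m r)) = kq R m r
    rw [fwd_kq, inv_uincl]
  · intro y
    change inv R m (fwd R m (xq R m y)) = xq R m y
    rw [fwd_xq]
    cases y with
    | x2 => simp only [xImg, inv_ugen, genImg_ci_last]
    | x3 =>
      simp only [xImg, map_add, inv_ugen, genImg_a, genImg_ci_last, genImg_cbi_last]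
      ring
    | xi i => simp only [xImg, inv_ugen, genImg_cij_cl]

theorem fwd_inv : (fwd R m).comp (inv R m) = RingHom.id (URing R (m + 1)) := by
  apply Ideal.Quotient.ringHom_ext
  apply MvPolynomial.ringHom_ext
  · intro r
    change fwd R m (inv R m (Ideal.Quotient.mk (Ideal.span (URel R (m + 1))) (C r))) =
      Ideal.Quotient.mk (Ideal.span (URel R (m + 1))) (C r)
    rw [inv_C]
    change fwd R m (kq R m (Ideal.Quotient.mk (Ideal.span (URel R m)) (C r))) = _
    rw [fwd_kq, uincl_C]
  · intro g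
    change fwd R m (inv R m (ugen R (m + 1) g)) = ugen R (m + 1) g
    rw [inv_ugen]
    cases g with
    | a => rw [genImg_a, fwd_uq]; rfl
    | c => rw [genImg_c, fwd_uq]; rfl
    | cb => rw [genImg_cb, fwd_uq]; rfl
    | ci p =>
      rcases Fin.eq_castSucc_or_eq_last p with ⟨i, rfl⟩ | rfl
      · rw [genImg_ci_cast, fwd_uq]; rfl
      · rw [genImg_ci_last, fwd_xq]; rfl
    | cbi p =>
      rcases Fin.eq_castSucc_or_eq_last p with ⟨i, rfl⟩ | rfl
      · rw [genImg_cbi_cast, fwd_uq]; rfl
      · rw [genImg_cbi_last, map_sub, map_sub, fwd_xq, fwd_xq, fwd_uq]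
        simp only [xImg, UGen.castSucc]
        ring
    | cij p q h =>
      rcases Fin.eq_castSucc_or_eq_last p with ⟨i, rfl⟩ | rfl
      · rcases Fin.eq_castSucc_or_eq_last q with ⟨j, rfl⟩ | rfl
        · rw [genImg_cij_cc, fwd_uq]; rfl
        · rw [genImg_cij_cl, fwd_xq]; rfl
      · rcases Fin.eq_castSucc_or_eq_last q with ⟨j, rfl⟩ | rfl
        · rw [genImg_cij_lc, map_sub, map_add, map_add, fwd_uq, fwd_uq, fwd_xq, fwd_xq]
          simp only [xImg, UGen.castSucc]
          linear_combination (-1) * u_lin R (m + 1) j.castSucc (Fin.last m)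
            (Fin.castSucc_lt_last j).ne
        · exact absurd rfl h

theorem main :
    ∃ e : CurveAlg (URing R m) m (ugen R m) ≃+* URing R (m + 1),
      (∀ r : URing R m,
        e (algebraMap (URing R m) (CurveAlg (URing R m) m (ugen R m)) r) = uincl R m r) ∧
      e (Ideal.Quotient.mk (Ideal.span (CRel (URing R m) m (ugen R m)))
          (MvPolynomial.X CVar.x2)) = ugen R (m + 1) (UGen.ci (Fin.last m)) ∧
      e (Ideal.Quotient.mk (Ideal.span (CRel (URing R m) m (ugen R m)))
          (MvPolynomial.X CVar.x3)) =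
        ugen R (m + 1) UGen.a + ugen R (m + 1) (UGen.ci (Fin.last m)) +
          ugen R (m + 1) (UGen.cbi (Fin.last m)) ∧
      ∀ i : Fin m, e (Ideal.Quotient.mk (Ideal.span (CRel (URing R m) m (ugen R m)))
          (MvPolynomial.X (CVar.xi i))) =
        ugen R (m + 1) (UGen.cij i.castSucc (Fin.last m) (Fin.castSucc_lt_last i).ne) := by
  refine ⟨RingEquiv.ofRingHom (fwd R m) (inv R m) (fwd_inv R m) (inv_fwd R m), ?_, ?_, ?_, ?_⟩
  · intro r
    exact fwd_kq R m r
  · exact fwd_xq R m CVar.x2
  · exact fwd_xq R m CVar.x3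
  · intro i
    exact fwd_xq R m (CVar.xi i)

end Main

end

end Groth.Agent.Lib.Helper6.CurveUSucc
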