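import Mathlib
import Groth.Agent.Lib.Helper1.DVRFib
import Groth.Agent.Lib.Helper14.GeomRedLocus
import Groth.Agent.Lib.Helper15.GeomFibre
import Groth.Agent.Lib.Helper16.GeomRed
import Groth.Agent.Lib.Helper16.GeomRedSp
import Groth.Agent.Lib.Helper16.SchImgRed2
import Groth.Agent.Lib.Helper16.FibreProduct
import Groth.Agent.Lib.Helper16.LocPGen
import Groth.Agent.Lib.Helper16.QsDecent

/-!
# Helper library (helper6): algebraic spaces proper and flat over a discrete valuation ring with reduced special fibre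
-/

set_option autoImplicit false
universe u
open CategoryTheory CategoryTheory.Limits AlgebraicGeometry
open AlgSp Groth.Agent.Lib.Helper16

namespace Groth.Agent.Lib.Helper6.DVRRedSp

/-- The fibre of `g` over the image of a field-valued point is reduced as soon as the base change of `g` along the
field-valued point is. -/
theorem isReduced_fiber_of_isPullback {U Y P : Scheme.{u}} (g : U ⟶ Y) (K : Type u) [Field K]
    (f : Spec (CommRingCat.of K) ⟶ Y) {fst : P ⟶ U} {snd : P ⟶ Spec (CommRingCat.of K)}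
    (sq : IsPullback fst snd g f) [IsReduced P] :
    IsReduced (g.fiber (f (IsLocalRing.closedPoint K))) := by
  obtain ⟨ι, hι⟩ : ∃ ι : Y.residueField (f (IsLocalRing.closedPoint K)) ⟶ CommRingCat.of K,
      Spec.map ι ≫ Y.fromSpecResidueField (f (IsLocalRing.closedPoint K)) = f :=
    ⟨_, Scheme.descResidueField_stalkClosedPointTo_fromSpecResidueField K Y f⟩
  have hw : fst ≫ g = (snd ≫ Spec.map ι) ≫ Y.fromSpecResidueField (f (IsLocalRing.closedPoint K)) := by
    rw [Category.assoc, hι, sq.w]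
  obtain ⟨m, hm1, hm2⟩ : ∃ m : P ⟶ pullback g (Y.fromSpecResidueField (f (IsLocalRing.closedPoint K))),
      m ≫ pullback.fst _ _ = fst ∧ m ≫ pullback.snd _ _ = snd ≫ Spec.map ι :=
    ⟨pullback.lift _ _ hw, pullback.lift_fst _ _ _, pullback.lift_snd _ _ _⟩
  have big : IsPullback (m ≫ pullback.fst g (Y.fromSpecResidueField (f (IsLocalRing.closedPoint K)))) snd g
      (Spec.map ι ≫ Y.fromSpecResidueField (f (IsLocalRing.closedPoint K))) := by
    rw [hm1, hι]
    exact sq
  have sqm : IsPullback m snd (pullback.snd g (Y.fromSpecResidueField (f (IsLocalRing.closedPoint K))))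
      (Spec.map ι) := IsPullback.of_right big hm2 (IsPullback.of_hasPullback _ _)
  have hflatι : Flat (Spec.map ι) := by
    rw [Flat.SpecMap_iff]
    letI : Algebra (Y.residueField (f (IsLocalRing.closedPoint K))) K := ι.hom.toAlgebra
    show Module.Flat (Y.residueField (f (IsLocalRing.closedPoint K))) K
    infer_instance
  have hsurjι : Surjective (Spec.map ι) := by
    have hsub : Subsingleton (PrimeSpectrum (Y.residueField (f (IsLocalRing.closedPoint K)))) := inferInstance
    exact ⟨fun z => ⟨IsLocalRing.closedPoint K, hsub.elim _ _⟩⟩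
  have : Flat m := MorphismProperty.of_isPullback (P := @Flat) sqm.flip hflatι
  have : Surjective m := MorphismProperty.of_isPullback (P := @Surjective) sqm.flip hsurjι
  have hfin := Groth.Agent.Lib.Helper15.isReduced_of_flat_of_surjective m
  exact hfin

variable {S : Scheme.{u}}

/-- A chart of a base change of a reduced sheaf. -/
theorem isReduced_chart_baseChange {X : Sp S} {T₀ T₁ U : Over S} (s : X ⟶ (yon S).obj T₀)
    (p : (yon S).obj U ⟶ X) (hpe : RepWith @Etale p) (g : U ⟶ T₀) (hg : (yon S).map g = p ≫ s) (k₀ : T₁ ⟶ T₀)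
    {X0 : Sp S} (fst₀ : X0 ⟶ X) (snd₀ : X0 ⟶ (yon S).obj T₁) (sq₀ : IsPullback fst₀ snd₀ s ((yon S).map k₀))
    (hX0 : IsReducedSp X0) : IsReduced (pullback g k₀).left := by
  have hw : ((yon S).map (pullback.fst g k₀) ≫ p) ≫ s =
      (yon S).map (pullback.snd g k₀) ≫ (yon S).map k₀ := by
    rw [Category.assoc, ← hg, ← Functor.map_comp, ← Functor.map_comp, pullback.condition]
  obtain ⟨a₀, ha1, ha2⟩ : ∃ a₀ : (yon S).obj (pullback g k₀) ⟶ X0,
      a₀ ≫ fst₀ = (yon S).map (pullback.fst g k₀) ≫ p ∧ a₀ ≫ snd₀ = (yon S).map (pullback.snd g k₀) :=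
    ⟨sq₀.lift _ _ hw, sq₀.lift_fst _ _ _, sq₀.lift_snd _ _ _⟩
  have big : IsPullback (a₀ ≫ snd₀) ((yon S).map (pullback.fst g k₀)) ((yon S).map k₀) (p ≫ s) := by
    rw [ha2, ← hg]
    exact ((IsPullback.of_hasPullback g k₀).map (yon S)).flip
  have sqa : IsPullback a₀ ((yon S).map (pullback.fst g k₀)) fst₀ p := IsPullback.of_right big ha1 sq₀.flip
  have hae : RepWith @Etale a₀ := (RepWith @Etale).of_isPullback sqa.flip hpe
  exact SchImg.isReduced_of_etale_of_isReducedSp hX0 a₀ hae

theorem main10669 (R : Type u) [CommRing R] [IsDomain R] [IsDiscreteValuationRing R]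
    {X : AlgSp.Space (Spec (CommRingCat.of R))}
    (s : X.obj ⟶ (AlgSp.yon (Spec (CommRingCat.of R))).obj (Over.mk (𝟙 _)))
    (hs1 : AlgSp.IsProperMor s) (hs2 : AlgSp.LocP @Flat s)
    (h0 : ∀ (X0 : AlgSp.Sp (Spec (CommRingCat.of R))) (fst : X0 ⟶ X.obj)
      (snd : X0 ⟶ (AlgSp.yon (Spec (CommRingCat.of R))).obj
        (Over.mk (Spec.map (CommRingCat.ofHom (IsLocalRing.residue R))))),
      IsPullback fst snd s ((AlgSp.yon (Spec (CommRingCat.of R))).map
        (Over.homMk (Spec.map (CommRingCat.ofHom (IsLocalRing.residue R))) (Category.comp_id _) :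
          Over.mk (Spec.map (CommRingCat.ofHom (IsLocalRing.residue R))) ⟶ Over.mk (𝟙 _))) →
      AlgSp.EtaleLocally (fun U => IsReduced U) X0) :
    AlgSp.EtaleLocally (fun U => IsReduced U) X.obj ∧
      ∀ (Xη : AlgSp.Sp (Spec (CommRingCat.of R))) (fst : Xη ⟶ X.obj)
        (snd : Xη ⟶ (AlgSp.yon (Spec (CommRingCat.of R))).obj
          (Over.mk (Spec.map (CommRingCat.ofHom (algebraMap R (FractionRing R)))))),
        IsPullback fst snd s ((AlgSp.yon (Spec (CommRingCat.of R))).map
          (Over.homMk (Spec.map (CommRingCat.ofHom (algebraMap R (FractionRing R)))) (Category.comp_id _) :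
            Over.mk (Spec.map (CommRingCat.ofHom (algebraMap R (FractionRing R)))) ⟶ Over.mk (𝟙 _))) →
        AlgSp.EtaleLocally (fun U => IsReduced U) Xη := by
  obtain ⟨hsep, ⟨hlft, hqc⟩, huc⟩ := hs1
  obtain ⟨U, p, hpe, hps⟩ := X.property.atlas
  obtain ⟨g, hg⟩ := (yon (Spec (CommRingCat.of R))).map_surjective (p ≫ s)
  have hgflat : Flat g.left := hs2 p (𝟙 _) g hpe (repWith_id _ _) (by rw [Category.comp_id, hg])
  have hglft : LocallyOfFiniteType g.left :=
    hlft p (𝟙 _) g hpe (repWith_id _ _) (by rw [Category.comp_id, hg])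
  have hSN : IsLocallyNoetherian (Over.mk (𝟙 (Spec (CommRingCat.of R)))).left :=
    inferInstanceAs (IsLocallyNoetherian (Spec (CommRingCat.of R)))
  have hUN : IsLocallyNoetherian U.left := LocallyOfFiniteType.isLocallyNoetherian g.left
  -- the special fibre
  obtain ⟨k₀, hk₀⟩ : ∃ k₀ : Over.mk (Spec.map (CommRingCat.ofHom (IsLocalRing.residue R))) ⟶
      Over.mk (𝟙 (Spec (CommRingCat.of R))),
      k₀ = Over.homMk (Spec.map (CommRingCat.ofHom (IsLocalRing.residue R))) (Category.comp_id _) := ⟨_, rfl⟩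
  have hU0 : IsReduced (pullback g k₀).left :=
    isReduced_chart_baseChange s p hpe g hg k₀ _ _ (IsPullback.of_hasPullback s ((yon _).map k₀))
      (by
        have h1 := IsPullback.of_hasPullback s ((yon (Spec (CommRingCat.of R))).map k₀)
        rw [hk₀] at h1
        have h2 := h0 _ _ _ h1
        rw [← hk₀] at h2
        exact h2)
  have sqL := isPullback_left_forget g k₀
  have hfib0 : IsReduced (g.left.fiber (k₀.left (IsLocalRing.closedPoint (IsLocalRing.ResidueField R)))) :=
    isReduced_fiber_of_isPullback g.left (IsLocalRing.ResidueField R) k₀.left sqL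
  have hcp : k₀.left (IsLocalRing.closedPoint (IsLocalRing.ResidueField R)) = IsLocalRing.closedPoint R := by
    rw [hk₀]
    have : IsLocalHom (CommRingCat.ofHom (IsLocalRing.residue R)).hom :=
      inferInstanceAs (IsLocalHom (IsLocalRing.residue R))
    exact Spec_closedPoint (f := CommRingCat.ofHom (IsLocalRing.residue R))
  have hfib : IsReduced (g.left.fiber (IsLocalRing.closedPoint R)) := by
    rw [hcp] at hfib0
    exact hfib0
  have hclosed : ∀ u : ↥U.left, g.left u = IsLocalRing.closedPoint R →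
      _root_.IsReduced (U.left.presheaf.stalk u) :=
    fun u hu => Groth.Agent.Lib.Helper1.DVRFib.isReduced_stalk_of_closedPoint g.left hfib u hu
  have hkey : ∀ u : ↥U.left, Points.map s (Points.ofPt p u) = Points.ofScheme (Over.mk (𝟙 _)) (g.left u) := by
    intro u
    rw [Points.map_ofPt, ← hg]
    exact ofPt_yon_map_eq_id g u
  have hclosedmap : IsClosedMap (Points.map s) :=
    huc (IsAlgSpace.yon_obj _) (𝟙 _) (𝟙 _) s (IsPullback.id_horiz s)
  have hopen : IsOpen {u : ↥U.left | _root_.IsReduced (U.left.presheaf.stalk u)} :=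
    Groth.Agent.Lib.Helper14.GeomRedLocus.isOpen_setOf_isReduced_stalk U.left
  have hall : ∀ u : ↥U.left, _root_.IsReduced (U.left.presheaf.stalk u) := by
    by_contra hne
    push Not at hne
    obtain ⟨u₁, hu₁⟩ := hne
    obtain ⟨N, hN⟩ : ∃ N : Set ↥U.left, N = {u | _root_.IsReduced (U.left.presheaf.stalk u)}ᶜ := ⟨_, rfl⟩
    have hNmem : ∀ u, u ∈ N ↔ ¬ _root_.IsReduced (U.left.presheaf.stalk u) := by
      intro u
      rw [hN]
      rfl
    have hNclosed : IsClosed N := by
      rw [hN]
      exact hopen.isClosed_compl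
    have hsat : ∀ u u' : ↥U.left, Points.ofPt p u = Points.ofPt p u' → u ∈ N → u' ∈ N := by
      intro u u' h hu
      rw [hNmem] at hu ⊢
      intro hu'
      exact hu ((HasAtChart.iff_of_charts (fun V v => _root_.IsReduced (V.presheaf.stalk v))
        (fun g hg v => @GeomRed.isReduced_stalk_iff_of_etale _ _ g hg v) p hpe p hpe u u' h).2 hu')
    have hsurj := ofPt_surjective_of_surjective p hps
    have hcompl : (Points.ofPt p '' N)ᶜ = Points.ofPt p '' Nᶜ := by
      ext x
      constructor
      · intro hx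
        obtain ⟨u, rfl⟩ := hsurj x
        exact ⟨u, fun hu => hx ⟨u, hu, rfl⟩, rfl⟩
      · rintro ⟨u, hu, rfl⟩ ⟨u', hu', h⟩
        exact hu (hsat u' u h hu')
    have hAclosed : IsClosed (Points.ofPt p '' N) := by
      rw [← isOpen_compl_iff, hcompl]
      exact isOpenMap_ofPt_of_etale p hpe _ hNclosed.isOpen_compl
    have hcl : IsClosed (Points.map s '' (Points.ofPt p '' N)) := hclosedmap _ hAclosed
    have hCcl : IsClosed (Points.ofScheme (Over.mk (𝟙 (Spec (CommRingCat.of R)))) ⁻¹'
        (Points.map s '' (Points.ofPt p '' N))) := hcl.preimage (Points.continuous_ofPt (𝟙 _))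
    have hmem : IsLocalRing.closedPoint R ∈ Points.ofScheme (Over.mk (𝟙 (Spec (CommRingCat.of R)))) ⁻¹'
        (Points.map s '' (Points.ofPt p '' N)) := by
      by_contra hnot
      have hV := (IsLocalRing.closedPoint_mem_iff (R := R) ⟨_, hCcl.isOpen_compl⟩).1 hnot
      have h1 : g.left u₁ ∈ (⟨_, hCcl.isOpen_compl⟩ : TopologicalSpace.Opens (PrimeSpectrum R)) := by
        rw [hV]
        trivial
      exact h1 ⟨Points.ofPt p u₁, ⟨u₁, (hNmem u₁).2 hu₁, rfl⟩, hkey u₁⟩
    obtain ⟨x, ⟨u₂, hu₂, rfl⟩, hx⟩ := hmem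
    rw [hkey] at hx
    have h2 : g.left u₂ = IsLocalRing.closedPoint R := ofScheme_injective _ hx
    exact (hNmem u₂).1 hu₂ (hclosed u₂ h2)
  have hUred : IsReduced U.left := isReduced_of_isReduced_stalk U.left
  have hXred : IsReducedSp X.obj := ⟨U, p, hpe, hps, hUred⟩
  refine ⟨hXred, ?_⟩
  intro Xη fst snd sq
  have hXη : IsAlgSpace Xη :=
    isAlgSpace_of_isPullback X.property (IsAlgSpace.yon_obj _).diag (IsAlgSpace.yon_obj _) sq
  obtain ⟨V, q, hqe, hqs⟩ := hXη.atlas
  have hjη : IsOpenImmersion (Spec.map (CommRingCat.ofHom (algebraMap R (FractionRing R)))) := by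
    obtain ⟨π, hπ⟩ := IsDiscreteValuationRing.exists_irreducible R
    have := Groth.Agent.Lib.Helper1.DVRFib.isLocalization_away_of_dvr R (FractionRing R) π hπ
    exact IsOpenImmersion.of_isLocalization π
  have hfe : RepWith @Etale fst :=
    (RepWith @Etale).of_isPullback sq.flip ((repWith_yon_map_iff @Etale _).2 (by
      show Etale (Spec.map (CommRingCat.ofHom (algebraMap R (FractionRing R))))
      infer_instance))
  have hVred : IsReduced V.left :=
    SchImg.isReduced_of_etale_of_isReducedSp hXred (q ≫ fst) ((RepWith @Etale).comp_mem _ _ hqe hfe)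
  exact ⟨V, q, hqe, hqs, hVred⟩

end Groth.Agent.Lib.Helper6.DVRRedSp
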