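import Mathlib
import Groth.Prelude.Def_DeRham
import Groth.Agent.Lib.Helper6.ExtBC
import Groth.Agent.Lib.Helper23.DeRham

/-!
# The de Rham complex commutes with base change, degreewise (helper6)
-/

set_option autoImplicit false

namespace Groth.Agent.Lib.Helper6.DeRhamBC

open TensorProduct exteriorPower KaehlerDifferential Groth.Agent.Lib.Helper6.ExtBC

attribute [local instance] SMulCommClass.of_commMonoid

universe u

variable (R S A B : Type u) [CommRing R] [CommRing S] [CommRing A] [CommRing B]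
    [Algebra R S] [Algebra R A] [Algebra R B] [Algebra A B] [Algebra S B]
    [IsScalarTower R A B] [IsScalarTower R S B] [Algebra.IsPushout R S A B]

lemma isBaseChange_map : IsBaseChange B (KaehlerDifferential.map R S A B) := by
  apply IsBaseChange.of_equiv (tensorKaehlerEquiv R S A B)
  intro x
  have hx : x ∈ Submodule.span A (Set.range (D R A)) := by
    rw [span_range_derivation]
    trivial
  induction hx using Submodule.span_induction with
  | mem x hx =>
    obtain ⟨a, rfl⟩ := hx
    rw [tensorKaehlerEquiv_tmul_D, one_smul, map_D]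
  | zero => simp
  | add x y _ _ hx hy => rw [tmul_add, map_add, map_add, hx, hy]
  | smul a x _ hx =>
    rw [TensorProduct.tmul_smul]
    have h1 : tensorKaehlerEquiv R S A B (a • ((1 : B) ⊗ₜ[A] x)) =
        a • tensorKaehlerEquiv R S A B ((1 : B) ⊗ₜ[A] x) :=
      LinearMap.map_smul_of_tower (tensorKaehlerEquiv R S A B).toLinearMap a _
    rw [h1, hx, map_smul]

theorem main (ψ : ∀ p : ℕ, ↥(⋀[A]^p (Ω[A⁄R])) →+ ↥(⋀[B]^p (Ω[B⁄S])))
    (hψ : DeRham.IsCxMap (KaehlerDifferential.D R A) (KaehlerDifferential.D S B) (algebraMap A B) ψ)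
    (p : ℕ) (Φ : S ⊗[R] ↥(⋀[A]^p (Ω[A⁄R])) →+ ↥(⋀[B]^p (Ω[B⁄S])))
    (hΦ : ∀ (s : S) (x : ↥(⋀[A]^p (Ω[A⁄R]))), Φ (s ⊗ₜ[R] x) = s • ψ p x) :
    Function.Bijective Φ := by
  have hκ := isBaseChange_map R S A B
  have hl : IsBaseChange B (extMap (B := B) (KaehlerDifferential.map R S A B) p) :=
    isBaseChange_extMap hκ p
  have hψeq : ∀ x, ψ p x = extMap (B := B) (KaehlerDifferential.map R S A B) p x := by
    intro x
    refine Groth.Agent.Lib.Helper23.DeRhamAux.gen_induction (D R A)
      (Groth.Agent.Lib.Helper23.DeRhamAux.kaehler_span R A) p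
      (fun x => ψ p x = extMap (B := B) (KaehlerDifferential.map R S A B) p x) (by simp)
      (fun x y hx hy => by rw [map_add, map_add, hx, hy]) ?_ x
    intro b₀ b
    rw [hψ p b₀ b]
    unfold DeRham.gen
    rw [map_smul, extMap_ιMulti]
    simp only [map_D]
    rw [algebraMap_smul]
  let e1 := (Algebra.IsPushout.cancelBaseChange R S A B ↥(⋀[A]^p (Ω[A⁄R]))).symm
  let e2 := hl.equiv
  have hΦeq : ∀ z, Φ z = e2 (e1 z) := by
    intro z
    induction z using TensorProduct.induction_on with
    | zero => simp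
    | tmul s x =>
      rw [hΦ, Algebra.IsPushout.cancelBaseChange_symm_tmul, IsBaseChange.equiv_tmul, hψeq,
        algebraMap_smul]
    | add z w hz hw => rw [map_add, map_add, map_add, hz, hw]
  have h1 : (Φ : _ → _) = e2 ∘ e1 := funext hΦeq
  rw [h1]
  exact e2.bijective.comp e1.bijective

end Groth.Agent.Lib.Helper6.DeRhamBC
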