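import Mathlib
import Groth.Prelude.Def_QFDual

/-!
Helper6: for a finite flat `A`-algebra `B` (Noetherian `A`), the trace of `L = B ⊗ K` over `K`
of an element of `B` comes from `A` (trace of a projective module via a retract of a free one).
-/

set_option autoImplicit false

namespace Groth.Agent.Lib.Helper6.TraceProj

universe u

theorem one_mem_complementary_of_flat (A K B L : Type u) [CommRing A] [CommRing K] [CommRing B]
    [CommRing L] [Algebra A K] [Algebra A B] [Algebra B L] [Algebra K L] [Algebra A L]
    [IsScalarTower A K L] [IsScalarTower A B L] (h : QFDual.IsDedekindDefined A K B L)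
    [Module.Flat A B] : (1 : L) ∈ QFDual.complementary A K B L := by
  classical
  haveI := h.isNoetherianRing
  haveI := h.finite
  haveI := h.free
  haveI := h.finiteKL
  haveI := h.isFractionRing
  haveI : Module.FinitePresentation A B := Module.finitePresentation_of_finite A B
  haveI : Module.Projective A B := Module.Flat.projective_of_finitePresentation
  let j : B →ₗ[A] L := (IsScalarTower.toAlgHom A B L).toLinearMap
  have hloc : IsLocalizedModule (nonZeroDivisors A) j :=
    (isLocalizedModule_iff_isLocalization).mpr h.isLocalization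
  have hj : IsBaseChange K j :=
    (isLocalizedModule_iff_isBaseChange (nonZeroDivisors A) K j).mp hloc
  obtain ⟨n, p, hp⟩ := Module.Finite.exists_fin' A B
  obtain ⟨i, hi⟩ := Module.projective_lifting_property p LinearMap.id hp
  let c : (Fin n → A) →ₗ[A] (Fin n → K) := (Algebra.linearMap A K).compLeft (Fin n)
  have hc : IsBaseChange K c := (IsBaseChange.linearMap A K).finitePow (Fin n)
  let iK : L →ₗ[K] (Fin n → K) := hj.lift (c ∘ₗ i)
  let pK : (Fin n → K) →ₗ[K] L := hc.lift (j ∘ₗ p)
  have hiK : ∀ b, iK (j b) = c (i b) := fun b => hj.lift_eq _ b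
  have hpK : ∀ x, pK (c x) = j (p x) := fun x => hc.lift_eq _ x
  have hpi : pK ∘ₗ iK = LinearMap.id := by
    refine hj.algHom_ext _ _ fun b => ?_
    simp only [LinearMap.comp_apply, LinearMap.id_apply, hiK, hpK]
    have := LinearMap.congr_fun hi b
    simp only [LinearMap.comp_apply, LinearMap.id_apply] at this
    rw [this]
  show ∀ b : B, Algebra.trace K L ((1 : L) * algebraMap B L b) ∈ (algebraMap A K).range
  intro b
  rw [one_mul, Algebra.trace_apply]
  set bL : L →ₗ[K] L := Algebra.lmul K L (algebraMap B L b) with hbL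
  let E : (Fin n → A) →ₗ[A] (Fin n → A) := i ∘ₗ (LinearMap.mulLeft A b) ∘ₗ p
  have h1 : LinearMap.trace K L bL =
      LinearMap.trace K (Fin n → K) (iK ∘ₗ (bL ∘ₗ pK)) := by
    rw [← LinearMap.trace_comp_comm' iK (bL ∘ₗ pK), LinearMap.comp_assoc, hpi,
      LinearMap.comp_id]
  have h2 : ∀ x, (iK ∘ₗ (bL ∘ₗ pK)) (c x) = c (E x) := by
    intro x
    simp only [LinearMap.comp_apply, hpK]
    have : bL (j (p x)) = j (b * p x) := by
      show algebraMap B L b * algebraMap B L (p x) = algebraMap B L (b * p x)
      rw [map_mul]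
    rw [this, hiK]
    rfl
  have h3 : LinearMap.trace K (Fin n → K) (iK ∘ₗ (bL ∘ₗ pK)) =
      algebraMap A K (LinearMap.trace A (Fin n → A) E) := by
    rw [LinearMap.trace_eq_matrix_trace K (Pi.basisFun K (Fin n)),
      LinearMap.trace_eq_matrix_trace A (Pi.basisFun A (Fin n))]
    simp only [Matrix.trace, Matrix.diag_apply, map_sum, LinearMap.toMatrix_apply,
      Pi.basisFun_apply, Pi.basisFun_repr]
    refine Finset.sum_congr rfl fun k _ => ?_
    have hck : c (Pi.single k 1) = Pi.single k 1 := by
      funext l
      show algebraMap A K ((Pi.single k 1 : Fin n → A) l) = (Pi.single k 1 : Fin n → K) l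
      by_cases hl : l = k
      · subst hl; simp
      · simp [Pi.single_eq_of_ne hl]
    rw [← hck, h2]
    rfl
  exact ⟨_, (h1.trans h3).symm⟩

end Groth.Agent.Lib.Helper6.TraceProj
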