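import Mathlib

/-!
Helper6: for a finite free formally unramified `K`-algebra `L` (any commutative ring `K`), the trace
form is a perfect pairing: `y ↦ Tr(y ·)` is injective and every `K`-linear form on `L` is of this
shape.  Proof through the separability element of `L ⊗[K] L`.
-/

set_option autoImplicit false

namespace Groth.Agent.Lib.Helper6.TraceSep

open TensorProduct

universe u v

variable {K : Type u} {L : Type v} [CommRing K] [CommRing L] [Algebra K L]

/-- `x ⊗ y ↦ φ y • x`, linear for the left `L`-structure. -/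
noncomputable def epsR (φ : L →ₗ[K] K) : L ⊗[K] L →ₗ[L] L :=
  (AlgebraTensorModule.rid K L L).toLinearMap ∘ₗ AlgebraTensorModule.lTensor L L φ

@[simp] lemma epsR_tmul (φ : L →ₗ[K] K) (x y : L) : epsR φ (x ⊗ₜ[K] y) = φ y • x := by
  simp [epsR]

lemma epsR_mul (φ : L →ₗ[K] K) (a : L) (w : L ⊗[K] L) :
    epsR φ ((a ⊗ₜ[K] (1 : L)) * w) = a * epsR φ w := by
  have : (a ⊗ₜ[K] (1 : L)) * w = a • w := by
    rw [Algebra.smul_def, Algebra.TensorProduct.algebraMap_apply, Algebra.algebraMap_self,
      RingHom.id_apply]
  rw [this, map_smul, smul_eq_mul]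

variable [Module.Free K L] [Module.Finite K L]

theorem epsR_trace_mul (t : L ⊗[K] L)
    (h1 : ∀ s : L, ((1 : L) ⊗ₜ[K] s) * t = (s ⊗ₜ[K] (1 : L)) * t)
    (h2 : Algebra.TensorProduct.lmul' K t = 1) (z : L) :
    epsR (Algebra.trace K L) (((1 : L) ⊗ₜ[K] z) * t) = z := by
  classical
  let b := Module.Free.chooseBasis K L
  have hA : ∀ w : L ⊗[K] L, epsR (Algebra.trace K L) w =
      ∑ j, epsR (b.coord j) (((1 : L) ⊗ₜ[K] b j) * w) := by
    intro w
    induction w using TensorProduct.induction_on with
    | zero => simp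
    | tmul x y =>
      simp only [Algebra.TensorProduct.tmul_mul_tmul, one_mul, epsR_tmul, Module.Basis.coord_apply]
      rw [← Finset.sum_smul, Algebra.trace_eq_matrix_trace b y, Matrix.trace]
      congr 1
      refine Finset.sum_congr rfl fun j _ => ?_
      rw [Matrix.diag_apply, Algebra.leftMulMatrix_eq_repr_mul, mul_comm]
    | add x y hx hy =>
      simp only [mul_add, map_add, hx, hy, Finset.sum_add_distrib]
  have hB : ∀ w : L ⊗[K] L, ∑ j, b j * epsR (b.coord j) w =
      Algebra.TensorProduct.lmul' K w := by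
    intro w
    induction w using TensorProduct.induction_on with
    | zero => simp
    | tmul x y =>
      simp only [epsR_tmul, Module.Basis.coord_apply, Algebra.TensorProduct.lmul'_apply_tmul]
      calc ∑ j, b j * (b.repr y j • x) = (∑ j, b.repr y j • b j) * x := by
            rw [Finset.sum_mul]
            refine Finset.sum_congr rfl fun j _ => ?_
            rw [mul_smul_comm, smul_mul_assoc]
        _ = x * y := by rw [b.sum_repr y, mul_comm]
    | add x y hx hy =>
      simp only [map_add, mul_add, Finset.sum_add_distrib, hx, hy]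
  rw [hA]
  calc ∑ j, epsR (b.coord j) (((1 : L) ⊗ₜ[K] b j) * (((1 : L) ⊗ₜ[K] z) * t))
      = ∑ j, (b j * z) * epsR (b.coord j) t := by
        refine Finset.sum_congr rfl fun j _ => ?_
        rw [← mul_assoc, Algebra.TensorProduct.tmul_mul_tmul, one_mul, h1, epsR_mul]
    _ = z * ∑ j, b j * epsR (b.coord j) t := by
        rw [Finset.mul_sum]
        refine Finset.sum_congr rfl fun j _ => ?_
        ring
    _ = z := by rw [hB, h2, mul_one]

variable [Algebra.FormallyUnramified K L]

/-- Nondegeneracy of the trace form, injectivity part. -/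
theorem trace_nondeg_inj (y : L) (hy : ∀ z, Algebra.trace K L (y * z) = 0) : y = 0 := by
  have key := epsR_trace_mul (K := K) (L := L) (Algebra.FormallyUnramified.elem K L)
    (Algebra.FormallyUnramified.one_tmul_mul_elem (R := K) (S := L))
    (Algebra.FormallyUnramified.lmul_elem (R := K) (S := L)) y
  rw [← key]
  have h0 : ∀ w : L ⊗[K] L, epsR (Algebra.trace K L) (((1 : L) ⊗ₜ[K] y) * w) = 0 := by
    intro w
    induction w using TensorProduct.induction_on with
    | zero => simp
    | tmul x y' =>
      rw [Algebra.TensorProduct.tmul_mul_tmul, one_mul, epsR_tmul, hy, zero_smul]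
    | add x y' hx hy' => rw [mul_add, map_add, hx, hy', add_zero]
  exact h0 _

/-- Nondegeneracy of the trace form, surjectivity part. -/
theorem trace_nondeg_surj (φ : L →ₗ[K] K) :
    ∃ y : L, ∀ z, φ z = Algebra.trace K L (y * z) := by
  -- `x ⊗ y ↦ φ x • y`
  let epsL : L ⊗[K] L →ₗ[K] L :=
    (TensorProduct.lid K L).toLinearMap ∘ₗ LinearMap.rTensor L φ
  have hepsL : ∀ x y : L, epsL (x ⊗ₜ[K] y) = φ x • y := fun x y => by simp [epsL]
  refine ⟨epsL (Algebra.FormallyUnramified.elem K L), fun z => ?_⟩
  have key := epsR_trace_mul (K := K) (L := L) (Algebra.FormallyUnramified.elem K L)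
    (Algebra.FormallyUnramified.one_tmul_mul_elem (R := K) (S := L))
    (Algebra.FormallyUnramified.lmul_elem (R := K) (S := L)) z
  have h0 : ∀ w : L ⊗[K] L, φ (epsR (Algebra.trace K L) (((1 : L) ⊗ₜ[K] z) * w)) =
      Algebra.trace K L (epsL w * z) := by
    intro w
    induction w using TensorProduct.induction_on with
    | zero => simp
    | tmul x y =>
      rw [Algebra.TensorProduct.tmul_mul_tmul, one_mul, epsR_tmul, hepsL, map_smul,
        smul_mul_assoc, map_smul, smul_eq_mul, smul_eq_mul, mul_comm z y, mul_comm]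
    | add x y hx hy => rw [mul_add, map_add, map_add, hx, hy, map_add, add_mul, map_add]
  rw [← h0, key]

end Groth.Agent.Lib.Helper6.TraceSep
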