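import Mathlib
import Groth.Prelude.Def_QFDual
import Groth.Agent.Lib.Helper6.TraceSep
import Groth.Agent.Lib.Helper6.TraceProj

/-!
Helper6: the Dedekind complementary module is `Hom_A(B, A)` via the trace pairing, and the
Dedekind different of a finite free algebra is the image of the different ideal.
-/

set_option autoImplicit false

namespace Groth.Agent.Lib.Helper6.DedekindDiff

universe u

variable {A K B L : Type u} [CommRing A] [CommRing K] [CommRing B] [CommRing L] [Algebra A K]
  [Algebra A B] [Algebra B L] [Algebra K L] [Algebra A L] [IsScalarTower A K L]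
  [IsScalarTower A B L]

theorem trace_mul_eq_zero_of_forall (h : QFDual.IsDedekindDefined A K B L) (x : L)
    (hx : ∀ b : B, Algebra.trace K L (x * algebraMap B L b) = 0) (ℓ : L) :
    Algebra.trace K L (x * ℓ) = 0 := by
  haveI := h.isFractionRing
  haveI := h.isLocalization
  obtain ⟨⟨b, s⟩, hs⟩ :=
    IsLocalization.surj (Algebra.algebraMapSubmonoid B (nonZeroDivisors A)) ℓ
  obtain ⟨a, ha, has⟩ := s.2
  have hunit : IsUnit (algebraMap A K a) := IsLocalization.map_units K ⟨a, ha⟩
  have hzero : algebraMap A K a * Algebra.trace K L (x * ℓ) = 0 := by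
    have e1 : algebraMap K L (algebraMap A K a) = algebraMap B L (algebraMap A B a) := by
      rw [← IsScalarTower.algebraMap_apply A K L, ← IsScalarTower.algebraMap_apply A B L]
    rw [← smul_eq_mul, ← map_smul, Algebra.smul_def, e1, has, mul_left_comm,
      mul_comm (algebraMap B L ↑s)]
    have hs' : ℓ * algebraMap B L ↑s = algebraMap B L b := hs
    rw [hs', hx]
  exact (hunit.mul_right_eq_zero).mp hzero

/-- the coefficient in `A` of `Tr(x b)` for `x` in the complementary module -/
noncomputable def coeff (x : QFDual.complementary A K B L) (b : B) : A :=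
  Classical.choose (RingHom.mem_range.mp (x.2 b))

lemma coeff_spec (x : QFDual.complementary A K B L) (b : B) :
    algebraMap A K (coeff x b) = Algebra.trace K L ((x : L) * algebraMap B L b) :=
  Classical.choose_spec (RingHom.mem_range.mp (x.2 b))

noncomputable def toOmega (hinj : Function.Injective (algebraMap A K))
    (x : QFDual.complementary A K B L) : Disc.Omega A B :=
  ⟨{ toFun := coeff x
     map_add' := fun b b' => hinj (by
        rw [map_add, coeff_spec, coeff_spec, coeff_spec, map_add, mul_add, map_add])
     map_smul' := fun a b => hinj (by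
        have e1 : algebraMap B L (a • b) = algebraMap A K a • algebraMap B L b := by
          rw [Algebra.smul_def a b, map_mul (algebraMap B L),
            ← IsScalarTower.algebraMap_apply A B L, IsScalarTower.algebraMap_apply A K L,
            Algebra.smul_def (algebraMap A K a)]
        rw [RingHom.id_apply, smul_eq_mul, map_mul (algebraMap A K), coeff_spec, coeff_spec, e1,
          mul_smul_comm, map_smul, smul_eq_mul]) }⟩

noncomputable def eLin (hinj : Function.Injective (algebraMap A K)) :
    QFDual.complementary A K B L →ₗ[B] Disc.Omega A B where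
  toFun := toOmega hinj
  map_add' x y := Disc.Omega.ext (LinearMap.ext fun b => hinj (by
    show algebraMap A K (coeff (x + y) b) = algebraMap A K (coeff x b + coeff y b)
    rw [map_add, coeff_spec, coeff_spec, coeff_spec, Submodule.coe_add, add_mul, map_add]))
  map_smul' c x := Disc.Omega.ext (LinearMap.ext fun b => hinj (by
    show algebraMap A K (coeff (c • x) b) = algebraMap A K (coeff x (c * b))
    rw [coeff_spec, coeff_spec, Submodule.coe_smul, Algebra.smul_def c (x : L),
      map_mul (algebraMap B L)]
    congr 1; ring))

lemma eLin_apply (hinj : Function.Injective (algebraMap A K))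
    (x : QFDual.complementary A K B L) (b : B) :
    (eLin hinj x).toLinearMap b = coeff x b := rfl

theorem eLin_injective (h : QFDual.IsDedekindDefined A K B L)
    (hinj : Function.Injective (algebraMap A K)) : Function.Injective (eLin (B := B) (L := L) hinj) := by
  haveI := h.free
  haveI := h.finiteKL
  haveI := h.etale
  rw [← LinearMap.ker_eq_bot, LinearMap.ker_eq_bot']
  intro x hx
  have hb : ∀ b : B, Algebra.trace K L ((x : L) * algebraMap B L b) = 0 := by
    intro b
    rw [← coeff_spec, ← eLin_apply hinj, hx]
    simp
  have hℓ := trace_mul_eq_zero_of_forall h (x : L) hb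
  exact Subtype.ext (TraceSep.trace_nondeg_inj (K := K) (x : L) hℓ)

theorem eLin_surjective (h : QFDual.IsDedekindDefined A K B L)
    (hinj : Function.Injective (algebraMap A K)) : Function.Surjective (eLin (B := B) (L := L) hinj) := by
  haveI := h.free
  haveI := h.finiteKL
  haveI := h.etale
  haveI := h.isFractionRing
  intro ω
  let j : B →ₗ[A] L := (IsScalarTower.toAlgHom A B L).toLinearMap
  have hloc : IsLocalizedModule (nonZeroDivisors A) j :=
    (isLocalizedModule_iff_isLocalization).mpr h.isLocalization
  have hj : IsBaseChange K j :=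
    (isLocalizedModule_iff_isBaseChange (nonZeroDivisors A) K j).mp hloc
  let φK : L →ₗ[K] K := hj.lift ((Algebra.linearMap A K) ∘ₗ ω.toLinearMap)
  have hφK : ∀ b : B, φK (algebraMap B L b) = algebraMap A K (ω.toLinearMap b) :=
    fun b => hj.lift_eq _ b
  obtain ⟨y, hy⟩ := TraceSep.trace_nondeg_surj φK
  have hmem : y ∈ QFDual.complementary A K B L := by
    intro b
    exact ⟨ω.toLinearMap b, by rw [← hy, hφK]⟩
  refine ⟨⟨y, hmem⟩, Disc.Omega.ext (LinearMap.ext fun b => hinj ?_)⟩
  rw [eLin_apply, coeff_spec]
  show Algebra.trace K L (y * algebraMap B L b) = _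
  rw [← hy, hφK]

theorem exists_equiv (h : QFDual.IsDedekindDefined A K B L) :
    ∃ e : QFDual.complementary A K B L ≃ₗ[B] Disc.Omega A B,
      ∀ (x : QFDual.complementary A K B L) (b : B),
        algebraMap A K ((e x).toLinearMap b) =
          Algebra.trace K L ((x : L) * algebraMap B L b) := by
  haveI := h.isFractionRing
  have hinj : Function.Injective (algebraMap A K) := IsFractionRing.injective A K
  exact ⟨LinearEquiv.ofBijective (eLin hinj) ⟨eLin_injective h hinj, eLin_surjective h hinj⟩,
    fun x b => coeff_spec x b⟩

theorem dedekindDifferent_eq (h : QFDual.IsDedekindDefined A K B L) [Module.Finite A B]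
    [Module.Free A B] :
    QFDual.dedekindDifferent A K B L =
      Submodule.map (Algebra.linearMap B L) (QFDual.different B (Disc.Omega.trace A B)) := by
  haveI := h.free
  haveI := h.finiteKL
  haveI := h.etale
  haveI := h.isFractionRing
  haveI := h.isLocalization
  have hinj : Function.Injective (algebraMap A K) := IsFractionRing.injective A K
  have htr : ∀ a : B, Algebra.trace K L (algebraMap B L a) =
      algebraMap A K (Algebra.trace A B a) :=
    fun a => Algebra.trace_localization A (nonZeroDivisors A) a
  have hone : (1 : L) ∈ QFDual.complementary A K B L :=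
    TraceProj.one_mem_complementary_of_flat A K B L h
  ext x
  constructor
  · intro hx
    obtain ⟨r, hr⟩ : ∃ r : B, algebraMap B L r = x * 1 := hx 1 hone
    rw [mul_one] at hr
    refine ⟨r, ?_, hr⟩
    show r ∈ QFDual.different B (Disc.Omega.trace A B)
    rw [QFDual.mem_different_iff]
    intro ω
    obtain ⟨y, rfl⟩ := eLin_surjective h hinj ω
    obtain ⟨c, hc⟩ : ∃ c : B, algebraMap B L c = x * (y : L) := hx y y.2
    refine ⟨c, Disc.Omega.ext (LinearMap.ext fun b => hinj ?_)⟩
    show algebraMap A K (Algebra.trace A B (c * b)) = algebraMap A K (coeff y (r * b))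
    rw [← htr, coeff_spec, map_mul (algebraMap B L), map_mul (algebraMap B L), hc, ← hr]
    congr 1; ring
  · rintro ⟨r, hr, rfl⟩
    have hr' : r ∈ QFDual.different B (Disc.Omega.trace A B) := hr
    rw [QFDual.mem_different_iff] at hr'
    intro y hy
    obtain ⟨c, hc⟩ := hr' (eLin hinj ⟨y, hy⟩)
    refine ⟨c, ?_⟩
    show algebraMap B L c = algebraMap B L r * y
    have hb : ∀ b : B, Algebra.trace K L ((algebraMap B L c - algebraMap B L r * y) *
        algebraMap B L b) = 0 := by
      intro b
      have h1 := congrArg (fun ω : Disc.Omega A B => algebraMap A K (ω.toLinearMap b)) hc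
      have h2 : algebraMap A K (Algebra.trace A B (c * b)) =
          algebraMap A K (coeff (⟨y, hy⟩ : QFDual.complementary A K B L) (r * b)) := h1
      rw [← htr, coeff_spec, map_mul (algebraMap B L), map_mul (algebraMap B L)] at h2
      rw [sub_mul, map_sub, h2, sub_eq_zero]
      congr 1
      show y * (algebraMap B L r * algebraMap B L b) = algebraMap B L r * y * algebraMap B L b
      ring
    have hℓ := trace_mul_eq_zero_of_forall h _ hb
    exact sub_eq_zero.mp (TraceSep.trace_nondeg_inj (K := K) _ hℓ)

end Groth.Agent.Lib.Helper6.DedekindDiff
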