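import Mathlib

/-!
Helper6: integrality of traces over arbitrary base rings, tested on algebraically closed points.

* `isIntegral_trace_end`: an endomorphism of a finite dimensional vector space over an algebraically
  closed field killed by a monic polynomial with coefficients in `A` has trace integral over `A`.
* `isIntegral_algebraMap_trace`: if `L` is a finite free `K`-algebra (`K` any commutative ring) and
  `β : L` is integral over `A`, then the image of `Tr_{L/K} β` in any algebraically closed field `Ω`
  (a `K`-algebra) is integral over `A`.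
-/

set_option autoImplicit false

namespace Groth.Agent.Lib.Helper6.TraceIntegral

open TensorProduct Polynomial

theorem isIntegral_trace_end {A Ω V : Type*} [CommRing A] [Field Ω] [IsAlgClosed Ω] [Algebra A Ω]
    [AddCommGroup V] [Module Ω V] [Module.Finite Ω V] (φ : Module.End Ω V) (p : A[X])
    (hp : p.Monic) (h0 : Polynomial.aeval φ (p.map (algebraMap A Ω)) = 0) :
    IsIntegral A (LinearMap.trace Ω V φ) := by
  rw [Module.End.trace_eq_sum_roots_charpoly_of_splits (IsAlgClosed.splits _)]
  refine IsIntegral.multiset_sum fun μ hμ => ?_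
  have hroot : φ.charpoly.IsRoot μ := Polynomial.isRoot_of_mem_roots hμ
  have hev : φ.HasEigenvalue μ := (Module.End.hasEigenvalue_iff_isRoot_charpoly φ μ).mpr hroot
  obtain ⟨x, hx⟩ := hev.exists_hasEigenvector
  have h1 := Module.End.aeval_apply_of_hasEigenvector (p := p.map (algebraMap A Ω)) hx
  rw [h0, LinearMap.zero_apply] at h1
  have h2 : (p.map (algebraMap A Ω)).eval μ = 0 := by
    rcases smul_eq_zero.mp h1.symm with h | h
    · exact h
    · exact absurd h hx.2
  refine ⟨p, hp, ?_⟩
  rwa [Polynomial.eval_map] at h2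

theorem isIntegral_algebraMap_trace {A K L Ω : Type*} [CommRing A] [CommRing K] [CommRing L]
    [Field Ω] [IsAlgClosed Ω] [Algebra A K] [Algebra K L] [Algebra A L] [IsScalarTower A K L]
    [Algebra K Ω] [Algebra A Ω] [IsScalarTower A K Ω] [Module.Free K L] [Module.Finite K L]
    (β : L) (hβ : IsIntegral A β) : IsIntegral A (algebraMap K Ω (Algebra.trace K L β)) := by
  obtain ⟨p, hp, hpβ⟩ := hβ
  have key : algebraMap K Ω (Algebra.trace K L β) =
      LinearMap.trace Ω (Ω ⊗[K] L) (Algebra.lmul Ω (Ω ⊗[K] L) ((1 : Ω) ⊗ₜ[K] β)) := by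
    rw [← Algebra.baseChange_lmul, LinearMap.trace_baseChange, ← Algebra.trace_apply]
  rw [key]
  refine isIntegral_trace_end _ p hp ?_
  have hK : Polynomial.aeval β (p.map (algebraMap A K)) = 0 := by
    rw [Polynomial.aeval_def, Polynomial.eval₂_map, ← IsScalarTower.algebraMap_eq A K L]
    exact hpβ
  have e1 : p.map (algebraMap A Ω) = (p.map (algebraMap A K)).map (algebraMap K Ω) := by
    rw [Polynomial.map_map, ← IsScalarTower.algebraMap_eq A K Ω]
  rw [e1, Polynomial.aeval_algHom_apply (Algebra.lmul Ω (Ω ⊗[K] L)),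
    Polynomial.aeval_map_algebraMap Ω ((1 : Ω) ⊗ₜ[K] β) (p.map (algebraMap A K))]
  have e2 : ((1 : Ω) ⊗ₜ[K] β) =
      (Algebra.TensorProduct.includeRight : L →ₐ[K] Ω ⊗[K] L) β := rfl
  rw [e2, Polynomial.aeval_algHom_apply, hK, map_zero, map_zero]

end Groth.Agent.Lib.Helper6.TraceIntegral
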