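import Mathlib
import Groth.Prelude.Def_QFDual
import Groth.Prelude.Def_EGA4b
import Groth.Agent.Lib.Helper6.TraceIntegral

/-!
Helper6: over a normal ring `A` (all local rings integrally closed domains) with total ring of
fractions `K`, an element of `K` whose images in all algebraically closed points are integral over
`A` lies in `A`; hence traces of integral elements land in `A`.
-/

set_option autoImplicit false

namespace Groth.Agent.Lib.Helper6.DedekindNormal

universe u

theorem mem_range_of_forall_isIntegral {A K : Type u} [CommRing A] [CommRing K] [Algebra A K]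
    [IsFractionRing A K] (hA : EGA4.IsNormalRing A) (t : K)
    (ht : ∀ (Ω : Type u) [Field Ω] [IsAlgClosed Ω] [Algebra A Ω] [Algebra K Ω]
      [IsScalarTower A K Ω], IsIntegral A (algebraMap K Ω t)) :
    t ∈ (algebraMap A K).range := by
  classical
  let I : Ideal A :=
    (LinearMap.range (Algebra.linearMap A K)).comap (LinearMap.toSpanSingleton A K t)
  have hI : ∀ a : A, a ∈ I ↔ ∃ a' : A, algebraMap A K a' = algebraMap A K a * t := by
    intro a
    simp only [I, Submodule.mem_comap, LinearMap.mem_range, LinearMap.toSpanSingleton_apply,
      Algebra.linearMap_apply, Algebra.smul_def]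
  suffices hIt : I = ⊤ by
    obtain ⟨a', ha'⟩ := (hI 1).mp (hIt ▸ Submodule.mem_top)
    exact ⟨a', by rw [ha', map_one, one_mul]⟩
  by_contra hne
  obtain ⟨m, hm, hIm⟩ := Ideal.exists_le_maximal I hne
  haveI : m.IsPrime := hm.isPrime
  obtain ⟨hdom, hic⟩ := hA m
  have hinjF : Function.Injective (algebraMap (Localization.AtPrime m)
      (FractionRing (Localization.AtPrime m))) := IsFractionRing.injective _ _
  have hinjΩ : Function.Injective (algebraMap (Localization.AtPrime m)
      (AlgebraicClosure (FractionRing (Localization.AtPrime m)))) := by
    rw [IsScalarTower.algebraMap_eq (Localization.AtPrime m)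
      (FractionRing (Localization.AtPrime m))
      (AlgebraicClosure (FractionRing (Localization.AtPrime m)))]
    exact (algebraMap (FractionRing (Localization.AtPrime m))
      (AlgebraicClosure (FractionRing (Localization.AtPrime m)))).injective.comp hinjF
  have hne0 : ∀ y : nonZeroDivisors A, algebraMap A (Localization.AtPrime m) y ≠ 0 := by
    intro y
    have h1 : algebraMap A (Localization.AtPrime m) y ∈ nonZeroDivisors (Localization.AtPrime m) :=
      IsLocalization.map_nonZeroDivisors_le m.primeCompl (Localization.AtPrime m)
        (Submonoid.mem_map_of_mem _ y.2)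
    exact nonZeroDivisors.ne_zero h1
  have hunits : ∀ y : nonZeroDivisors A, IsUnit (algebraMap A
      (AlgebraicClosure (FractionRing (Localization.AtPrime m))) y) := by
    intro y
    rw [IsScalarTower.algebraMap_apply A (Localization.AtPrime m)
      (AlgebraicClosure (FractionRing (Localization.AtPrime m)))]
    refine isUnit_iff_ne_zero.mpr fun h0 => hne0 y (hinjΩ ?_)
    rw [h0, map_zero]
  let gΩ : K →+* AlgebraicClosure (FractionRing (Localization.AtPrime m)) :=
    IsLocalization.lift (M := nonZeroDivisors A) hunits
  letI : Algebra K (AlgebraicClosure (FractionRing (Localization.AtPrime m))) := gΩ.toAlgebra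
  haveI : IsScalarTower A K (AlgebraicClosure (FractionRing (Localization.AtPrime m))) :=
    IsScalarTower.of_algebraMap_eq' (IsLocalization.lift_comp hunits).symm
  have hint : IsIntegral A (algebraMap K
      (AlgebraicClosure (FractionRing (Localization.AtPrime m))) t) := ht _
  have hint' : IsIntegral (Localization.AtPrime m) (algebraMap K
      (AlgebraicClosure (FractionRing (Localization.AtPrime m))) t) := hint.tower_top
  obtain ⟨⟨x, s⟩, hxs⟩ := IsLocalization.surj (nonZeroDivisors A) t
  have hxs' : t * algebraMap A K s = algebraMap A K x := hxs
  have hsF : algebraMap A (FractionRing (Localization.AtPrime m)) s ≠ 0 := by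
    rw [IsScalarTower.algebraMap_apply A (Localization.AtPrime m)
      (FractionRing (Localization.AtPrime m))]
    intro h0
    exact hne0 s (hinjF (by rw [h0, map_zero]))
  -- the element of the fraction field
  have hθ : algebraMap (FractionRing (Localization.AtPrime m))
      (AlgebraicClosure (FractionRing (Localization.AtPrime m)))
      (algebraMap A (FractionRing (Localization.AtPrime m)) x /
        algebraMap A (FractionRing (Localization.AtPrime m)) s) =
      algebraMap K (AlgebraicClosure (FractionRing (Localization.AtPrime m))) t := by
    rw [map_div₀, ← IsScalarTower.algebraMap_apply A (FractionRing (Localization.AtPrime m)),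
      ← IsScalarTower.algebraMap_apply A (FractionRing (Localization.AtPrime m)),
      div_eq_iff (hunits s).ne_zero,
      IsScalarTower.algebraMap_apply A K
        (AlgebraicClosure (FractionRing (Localization.AtPrime m))) x,
      IsScalarTower.algebraMap_apply A K
        (AlgebraicClosure (FractionRing (Localization.AtPrime m))) (s : A),
      ← hxs', map_mul]
  have hθint : IsIntegral (Localization.AtPrime m)
      (algebraMap A (FractionRing (Localization.AtPrime m)) x /
        algebraMap A (FractionRing (Localization.AtPrime m)) s) := by
    rw [← hθ] at hint'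
    exact (isIntegral_algebraMap_iff (algebraMap (FractionRing (Localization.AtPrime m))
      (AlgebraicClosure (FractionRing (Localization.AtPrime m)))).injective).mp hint'
  obtain ⟨y, hy⟩ := IsIntegrallyClosed.isIntegral_iff.mp hθint
  have hy2 : y * algebraMap A (Localization.AtPrime m) s =
      algebraMap A (Localization.AtPrime m) x := by
    apply hinjF
    rw [map_mul, hy, ← IsScalarTower.algebraMap_apply A (Localization.AtPrime m),
      ← IsScalarTower.algebraMap_apply A (Localization.AtPrime m), div_mul_cancel₀ _ hsF]
  obtain ⟨y₀, u, rfl⟩ := IsLocalization.exists_mk'_eq m.primeCompl y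
  have hy3 : algebraMap A (Localization.AtPrime m) (y₀ * s) =
      algebraMap A (Localization.AtPrime m) (x * u) := by
    rw [map_mul, map_mul, ← hy2, ← IsLocalization.mk'_spec (Localization.AtPrime m) y₀ u]
    ring
  obtain ⟨c, hc⟩ := (IsLocalization.eq_iff_exists m.primeCompl (Localization.AtPrime m)).mp hy3
  have hmem : (c : A) * (u : A) ∈ I := by
    rw [hI]
    refine ⟨c * y₀, ?_⟩
    have hsu : IsUnit (algebraMap A K s) := IsLocalization.map_units K s
    apply hsu.mul_left_injective
    show algebraMap A K (c * y₀) * algebraMap A K s =
      algebraMap A K (c * u) * t * algebraMap A K s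
    rw [mul_assoc (algebraMap A K (c * u)), hxs', ← map_mul, ← map_mul]
    congr 1
    calc (c : A) * y₀ * s = c * (y₀ * s) := by ring
      _ = c * (x * u) := hc
      _ = c * u * x := by ring
  have hnot : (c : A) * (u : A) ∉ m := (c * u).2
  exact hnot (hIm hmem)

variable {A K B L : Type u} [CommRing A] [CommRing K] [CommRing B] [CommRing L] [Algebra A K]
  [Algebra A B] [Algebra B L] [Algebra K L] [Algebra A L] [IsScalarTower A K L]
  [IsScalarTower A B L]

theorem one_mem_complementary (h : QFDual.IsDedekindDefined A K B L)
    (hA : EGA4.IsNormalRing A) : (1 : L) ∈ QFDual.complementary A K B L := by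
  haveI := h.isFractionRing
  haveI := h.free
  haveI := h.finiteKL
  haveI := h.finite
  intro b
  rw [one_mul]
  have hβ : IsIntegral A (algebraMap B L b) := by
    have hb : IsIntegral A b := Algebra.IsIntegral.isIntegral b
    exact hb.map (IsScalarTower.toAlgHom A B L)
  exact mem_range_of_forall_isIntegral hA _ fun Ω _ _ _ _ _ =>
    TraceIntegral.isIntegral_algebraMap_trace (A := A) (K := K) (L := L) (Ω := Ω) _ hβ

end Groth.Agent.Lib.Helper6.DedekindNormal
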