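import Mathlib
import Groth.Prelude.Def_DeltaF

/-!
# Effaceable cohomological delta-functors are universal (Grothendieck)
-/

set_option autoImplicit false
universe v u v' u'
open CategoryTheory CategoryTheory.Limits

namespace Groth.Agent.Lib.Helper6.DeltaUniv
open DeltaF

variable {A : Type u} [Category.{v} A] [Abelian A] {B : Type u'} [Category.{v'} B] [Abelian B]

/-- The short complex of a morphism and its cokernel. -/
noncomputable abbrev cokSC {X Y : A} (u : X ⟶ Y) : ShortComplex A :=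
  ShortComplex.mk u (cokernel.π u) (cokernel.condition u)

lemma cokSC_shortExact {X Y : A} (u : X ⟶ Y) [Mono u] : (cokSC u).ShortExact :=
  ShortComplex.ShortExact.mk' (ShortComplex.exact_of_g_is_cokernel _ (cokernelIsCokernel u))
    (inferInstanceAs (Mono u)) (inferInstanceAs (Epi (cokernel.π u)))

/-- The morphism of cokernel short complexes induced by a commutative square. -/
noncomputable def cokSCMap {X Y X' Y' : A} (u : X ⟶ Y) (u' : X' ⟶ Y') (a : X ⟶ X') (b : Y ⟶ Y')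
    (w : u ≫ b = a ≫ u') : cokSC u ⟶ cokSC u' :=
  ShortComplex.Hom.mk a b (cokernel.map u u' a b w) w.symm (cokernel.π_desc _ _ _).symm

/-- An effacing short exact sequence in degree `n + 1`. -/
structure Eff (T : CohDeltaFunctor A B ℕ) (n : ℕ) where
  S : ShortComplex A
  hS : S.ShortExact
  h0 : (T.F (n + 1)).map S.f = 0

variable {T T' : CohDeltaFunctor A B ℕ}

lemma Eff.epi_δ {n : ℕ} (E : Eff T n) : Epi (T.δ E.S E.hS n (n + 1) rfl) :=
  (T.exact₁ E.S E.hS n (n + 1) rfl).epi_f E.h0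

lemma Eff.exists_tau {n : ℕ} (E : Eff T n) (σ : T.F n ⟶ T'.F n) :
    ∃ m : (T.F (n + 1)).obj E.S.X₁ ⟶ (T'.F (n + 1)).obj E.S.X₁,
      T.δ E.S E.hS n (n + 1) rfl ≫ m = σ.app E.S.X₃ ≫ T'.δ E.S E.hS n (n + 1) rfl := by
  haveI := E.epi_δ
  have hex := T.exact₃ E.S E.hS n (n + 1) rfl
  have hk : (T.F n).map E.S.g ≫ (σ.app E.S.X₃ ≫ T'.δ E.S E.hS n (n + 1) rfl) = 0 := by
    rw [← Category.assoc, σ.naturality, Category.assoc, T'.comp_δ, comp_zero]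
  exact hex.desc' _ hk

lemma core {n : ℕ} (σ : T.F n ⟶ T'.F n) (S : ShortComplex A) (hS : S.ShortExact) (E' : Eff T n)
    (φ : S ⟶ E'.S) (m' : (T.F (n + 1)).obj E'.S.X₁ ⟶ (T'.F (n + 1)).obj E'.S.X₁)
    (hm' : T.δ E'.S E'.hS n (n + 1) rfl ≫ m' =
      σ.app E'.S.X₃ ≫ T'.δ E'.S E'.hS n (n + 1) rfl) :
    T.δ S hS n (n + 1) rfl ≫ (T.F (n + 1)).map φ.τ₁ ≫ m' =
      σ.app S.X₃ ≫ T'.δ S hS n (n + 1) rfl ≫ (T'.F (n + 1)).map φ.τ₁ := by
  have h1 := T.δ_natural hS E'.hS φ n (n + 1) rfl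
  have h2 := T'.δ_natural hS E'.hS φ n (n + 1) rfl
  calc T.δ S hS n (n + 1) rfl ≫ (T.F (n + 1)).map φ.τ₁ ≫ m'
      = ((T.F n).map φ.τ₃ ≫ T.δ E'.S E'.hS n (n + 1) rfl) ≫ m' := by
        rw [h1, Category.assoc]
    _ = (T.F n).map φ.τ₃ ≫ σ.app E'.S.X₃ ≫ T'.δ E'.S E'.hS n (n + 1) rfl := by
        rw [Category.assoc, hm']
    _ = σ.app S.X₃ ≫ (T'.F n).map φ.τ₃ ≫ T'.δ E'.S E'.hS n (n + 1) rfl := by
        rw [← Category.assoc, σ.naturality, Category.assoc]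
    _ = σ.app S.X₃ ≫ T'.δ S hS n (n + 1) rfl ≫ (T'.F (n + 1)).map φ.τ₁ := by rw [h2]

lemma compat {n : ℕ} (σ : T.F n ⟶ T'.F n) (E E' : Eff T n) (φ : E.S ⟶ E'.S)
    (m : (T.F (n + 1)).obj E.S.X₁ ⟶ (T'.F (n + 1)).obj E.S.X₁)
    (m' : (T.F (n + 1)).obj E'.S.X₁ ⟶ (T'.F (n + 1)).obj E'.S.X₁)
    (hm : T.δ E.S E.hS n (n + 1) rfl ≫ m = σ.app E.S.X₃ ≫ T'.δ E.S E.hS n (n + 1) rfl)
    (hm' : T.δ E'.S E'.hS n (n + 1) rfl ≫ m' =
      σ.app E'.S.X₃ ≫ T'.δ E'.S E'.hS n (n + 1) rfl) :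
    (T.F (n + 1)).map φ.τ₁ ≫ m' = m ≫ (T'.F (n + 1)).map φ.τ₁ := by
  haveI := E.epi_δ
  apply (cancel_epi (T.δ E.S E.hS n (n + 1) rfl)).mp
  calc T.δ E.S E.hS n (n + 1) rfl ≫ (T.F (n + 1)).map φ.τ₁ ≫ m'
      = σ.app E.S.X₃ ≫ T'.δ E.S E.hS n (n + 1) rfl ≫ (T'.F (n + 1)).map φ.τ₁ :=
        core σ E.S E.hS E' φ m' hm'
    _ = (T.δ E.S E.hS n (n + 1) rfl ≫ m) ≫ (T'.F (n + 1)).map φ.τ₁ := by
        rw [hm, Category.assoc]
    _ = T.δ E.S E.hS n (n + 1) rfl ≫ m ≫ (T'.F (n + 1)).map φ.τ₁ := Category.assoc _ _ _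

/-- The effacing sequence of an effacing monomorphism. -/
noncomputable abbrev Eff.ofMono {n : ℕ} {X Y : A} (u : X ⟶ Y) [Mono u]
    (h0 : (T.F (n + 1)).map u = 0) : Eff T n :=
  ⟨cokSC u, cokSC_shortExact u, h0⟩

/-- The map in degree `n + 1` at `X` determined by an effacing monomorphism out of `X`. -/
noncomputable def tau {n : ℕ} (σ : T.F n ⟶ T'.F n) {X Y : A} (u : X ⟶ Y) [Mono u]
    (h0 : (T.F (n + 1)).map u = 0) : (T.F (n + 1)).obj X ⟶ (T'.F (n + 1)).obj X :=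
  ((Eff.ofMono u h0).exists_tau σ).choose

lemma tau_spec {n : ℕ} (σ : T.F n ⟶ T'.F n) {X Y : A} (u : X ⟶ Y) [Mono u]
    (h0 : (T.F (n + 1)).map u = 0) :
    T.δ (cokSC u) (cokSC_shortExact u) n (n + 1) rfl ≫ tau σ u h0 =
      σ.app (cokernel u) ≫ T'.δ (cokSC u) (cokSC_shortExact u) n (n + 1) rfl :=
  ((Eff.ofMono u h0).exists_tau σ).choose_spec

lemma tau_compat {n : ℕ} (σ : T.F n ⟶ T'.F n) {X Y X' Y' : A} (u : X ⟶ Y) [Mono u]
    (h0 : (T.F (n + 1)).map u = 0) (u' : X' ⟶ Y') [Mono u']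
    (h0' : (T.F (n + 1)).map u' = 0) (a : X ⟶ X') (b : Y ⟶ Y') (w : u ≫ b = a ≫ u') :
    (T.F (n + 1)).map a ≫ tau σ u' h0' = tau σ u h0 ≫ (T'.F (n + 1)).map a :=
  compat σ (Eff.ofMono u h0) (Eff.ofMono u' h0') (cokSCMap u u' a b w) _ _
    (tau_spec σ u h0) (tau_spec σ u' h0')

lemma exists_step (hT : T.IsEffaceable) (n : ℕ) (σ : T.F n ⟶ T'.F n) :
    ∃ ρ : T.F (n + 1) ⟶ T'.F (n + 1), ∀ (S : ShortComplex A) (hS : S.ShortExact),
      T.δ S hS n (n + 1) rfl ≫ ρ.app S.X₁ = σ.app S.X₃ ≫ T'.δ S hS n (n + 1) rfl := by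
  choose Y u hu h0 using hT n
  haveI : ∀ X, Mono (u X) := hu
  have indep : ∀ {X Y₁ Y₂ : A} (u₁ : X ⟶ Y₁) [Mono u₁] (h₁ : (T.F (n + 1)).map u₁ = 0)
      (u₂ : X ⟶ Y₂) [Mono u₂] (h₂ : (T.F (n + 1)).map u₂ = 0) (b : Y₁ ⟶ Y₂)
      (_ : u₁ ≫ b = u₂), tau σ u₁ h₁ = tau σ u₂ h₂ := by
    intro X Y₁ Y₂ u₁ _ h₁ u₂ _ h₂ b w
    have h3 := tau_compat σ u₁ h₁ u₂ h₂ (𝟙 X) b (by rw [w, Category.id_comp])
    simpa using h3.symm
  refine ⟨{ app := fun X => tau σ (u X) (h0 X), naturality := ?_ }, ?_⟩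
  · intro X X' f
    have hmono : Mono (biprod.lift (u X) (f ≫ u X')) := mono_of_mono_fac (biprod.lift_fst _ _)
    have hz : (T.F (n + 1)).map (biprod.lift (u X) (f ≫ u X')) = 0 := by
      rw [biprod.lift_eq, Functor.map_add, Functor.map_comp, Functor.map_comp, Functor.map_comp,
        h0 X, h0 X', zero_comp, comp_zero, zero_comp, add_zero]
    have e1 : tau σ (biprod.lift (u X) (f ≫ u X')) hz = tau σ (u X) (h0 X) :=
      indep _ hz _ (h0 X) biprod.fst (biprod.lift_fst _ _)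
    have e2 := tau_compat σ (biprod.lift (u X) (f ≫ u X')) hz (u X') (h0 X') f biprod.snd
      (biprod.lift_snd _ _)
    rw [e1] at e2
    exact e2
  · intro S hS
    haveI := hS.mono_f
    haveI := hS.epi_g
    have hz : (T.F (n + 1)).map (u S.X₁ ≫ pushout.inl (u S.X₁) S.f) = 0 := by
      rw [Functor.map_comp, h0, zero_comp]
    have e1 : tau σ (u S.X₁) (h0 S.X₁) = tau σ (u S.X₁ ≫ pushout.inl (u S.X₁) S.f) hz :=
      indep _ (h0 S.X₁) _ hz (pushout.inl _ _) rfl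
    have hk : S.f ≫ pushout.inr (u S.X₁) S.f ≫
        cokernel.π (u S.X₁ ≫ pushout.inl (u S.X₁) S.f) = 0 := by
      rw [← Category.assoc, ← pushout.condition, cokernel.condition]
    have h3 := core σ S hS (Eff.ofMono (u S.X₁ ≫ pushout.inl (u S.X₁) S.f) hz)
      (ShortComplex.Hom.mk (𝟙 _) (pushout.inr _ _) (hS.exact.desc _ hk)
        (by rw [Category.id_comp]; exact pushout.condition)
        (hS.exact.g_desc _ hk).symm) _ (tau_spec σ _ hz)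
    dsimp only at h3
    rw [CategoryTheory.Functor.map_id, CategoryTheory.Functor.map_id, Category.id_comp, Category.comp_id] at h3
    show T.δ S hS n (n + 1) rfl ≫ tau σ (u S.X₁) (h0 S.X₁) = _
    rw [e1]
    exact h3

theorem isUniversal_of_isEffaceable (T : CohDeltaFunctor A B ℕ) (hT : T.IsEffaceable) :
    T.IsUniversal := by
  intro T' t
  choose step hstep using fun n (σ : T.F n ⟶ T'.F n) => exists_step hT n σ
  let τ : ∀ n, T.F n ⟶ T'.F n := fun n => Nat.rec t (fun n σ => step n σ) n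
  have hτs : ∀ n, τ (n + 1) = step n (τ n) := fun n => rfl
  refine ⟨⟨τ, ?_⟩, rfl, ?_⟩
  · intro S hS n₀ n₁ h
    change n₀ + 1 = n₁ at h
    subst h
    exact hstep n₀ (τ n₀) S hS
  · intro τ' hτ'
    apply CohDeltaFunctor.hom_ext
    intro n
    show τ'.app n = τ n
    induction n with
    | zero => exact hτ'
    | succ n ih =>
      ext X
      obtain ⟨Y, u, hu, h0⟩ := hT n X
      have := hu
      have : Epi (T.δ (cokSC u) (cokSC_shortExact u) n (n + 1) rfl) :=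
        (Eff.ofMono u h0).epi_δ
      rw [← cancel_epi (T.δ (cokSC u) (cokSC_shortExact u) n (n + 1) rfl)]
      have h1 := τ'.comm (cokSC u) (cokSC_shortExact u) n (n + 1) rfl
      have h2 := hstep n (τ n) (cokSC u) (cokSC_shortExact u)
      rw [hτs]
      exact h1.trans (by rw [ih]; exact h2.symm)

end Groth.Agent.Lib.Helper6.DeltaUniv
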