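import Mathlib

/-!
# Preimages of dense opens under flat morphisms to locally Noetherian schemes are dense
-/

set_option autoImplicit false
universe u
open CategoryTheory AlgebraicGeometry TopologicalSpace

namespace Groth.Agent.Lib.Helper6.DenseFlat

/-- In a Noetherian quasi-sober space every point has a generization in any dense open. -/
lemma exists_specializes_mem_of_dense {X : Type*} [TopologicalSpace X] [NoetherianSpace X]
    [QuasiSober X] {U : Set X} (hU : IsOpen U) (hd : Dense U) (y : X) : ∃ ξ ∈ U, ξ ⤳ y := by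
  have hZ : irreducibleComponent y ∈ irreducibleComponents X :=
    irreducibleComponent_mem_irreducibleComponents y
  obtain ⟨o, ho, hone, hoZ⟩ :=
    NoetherianSpace.exists_isOpen_nonempty_subset_irreducibleComponent _ hZ
  obtain ⟨x, hxo, hxU⟩ := hd.inter_open_nonempty o ho hone
  have hZirr : IsIrreducible (irreducibleComponent y) := hZ.1
  have hZcl : IsClosed (irreducibleComponent y) := isClosed_of_mem_irreducibleComponents _ hZ
  have hξ : IsGenericPoint hZirr.genericPoint (irreducibleComponent y) :=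
    hZirr.isGenericPoint_genericPoint hZcl
  have h1 : hZirr.genericPoint ⤳ x := hξ.specializes (hoZ hxo)
  exact ⟨_, h1.mem_open hU hxU, hξ.specializes mem_irreducibleComponent⟩

lemma exists_specializes_mem_opens_aux {Y : Scheme.{u}} [IsLocallyNoetherian Y] (U : Y.Opens)
    (hd : Dense (U : Set Y)) (y : Y) (V : Y.Opens) (hV : IsAffineOpen V) (hyV : y ∈ V) :
    ∃ ξ ∈ U, ξ ⤳ y := by
  have : IsNoetherianRing Γ(Y, V) := IsLocallyNoetherian.component_noetherian ⟨V, hV⟩
  have h1 : NoetherianSpace V.toScheme := noetherianSpace_of_isAffineOpen V hV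
  have hopen : IsOpen (V.ι ⁻¹' (U : Set Y)) := U.isOpen.preimage V.ι.continuous
  have hdense : Dense (V.ι ⁻¹' (U : Set Y)) :=
    hd.preimage V.ι.isOpenEmbedding.isOpenMap
  obtain ⟨ξ, hξU, hξ⟩ := exists_specializes_mem_of_dense hopen hdense (⟨y, hyV⟩ : V.toScheme)
  exact ⟨V.ι ξ, hξU, hξ.map V.ι.continuous⟩

/-- In a locally Noetherian scheme every point has a generization in any dense open. -/
lemma exists_specializes_mem_opens {Y : Scheme.{u}} [IsLocallyNoetherian Y] (U : Y.Opens)
    (hd : Dense (U : Set Y)) (y : Y) : ∃ ξ ∈ U, ξ ⤳ y := by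
  obtain ⟨_, ⟨V, hV, rfl⟩, hyV, -⟩ := Y.isBasis_affineOpens.exists_subset_of_mem_open
    (Set.mem_univ y) isOpen_univ
  exact exists_specializes_mem_opens_aux U hd y V hV hyV

/-- The preimage of a dense open under a flat morphism to a locally Noetherian scheme is dense. -/
lemma dense_preimage_of_flat {X Y : Scheme.{u}} (f : X ⟶ Y) [Flat f] [IsLocallyNoetherian Y]
    (U : Y.Opens) (hd : Dense (U : Set Y)) : Dense (f ⁻¹' (U : Set Y)) := by
  rw [dense_iff_inter_open]
  intro W hW ⟨w, hw⟩
  obtain ⟨ξ, hξU, hξ⟩ := exists_specializes_mem_opens U hd (f w)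
  obtain ⟨w', hw', hfw'⟩ := Flat.generalizingMap f hξ
  refine ⟨w', hw'.mem_open hW hw, ?_⟩
  change f w' ∈ U
  rw [hfw']
  exact hξU

end Groth.Agent.Lib.Helper6.DenseFlat
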