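import Mathlib

/-!
# A chain lemma in the derived category (helper6)

If `K₀ ⟶ K₁ ⟶ ⋯ ⟶ K_k` are morphisms in `D(A)` which are zero on `H^p` for `p < k`, and `K_k ∈ D^{≥ 0}`,
then any morphism `P ⟶ K₀` with `P ∈ D^{≤ k-1}` composes to zero with the chain.  Consequently, the
composite factors through `K₀ ⟶ H^k(K₀)[-k]` when `K₀ ∈ D^{≤ k}`.
-/

set_option autoImplicit false
open CategoryTheory CategoryTheory.Limits CategoryTheory.Pretriangulated CategoryTheory.Triangulated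

namespace Groth.Agent.Lib.Helper6.DerivedChain

universe w v u
variable {A : Type u} [Category.{v} A] [Abelian A] [HasDerivedCategory.{w} A]

open DerivedCategory


/-- A morphism between objects concentrated in degree `b` which is zero on `H^b` is zero. -/
lemma eq_zero_of_heart {L L' : DerivedCategory A} (b : ℤ)
    [L.IsGE b] [L.IsLE b] [L'.IsGE b] [L'.IsLE b] (φ : L ⟶ L')
    (h : (homologyFunctor A b).map φ = 0) : φ = 0 := by
  obtain ⟨Y, ⟨e⟩⟩ := exists_iso_singleFunctor_obj_of_isGE_of_isLE L b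
  obtain ⟨Y', ⟨e'⟩⟩ := exists_iso_singleFunctor_obj_of_isGE_of_isLE L' b
  obtain ⟨ψ, hψ⟩ := (singleFunctor A b).map_surjective (e.inv ≫ φ ≫ e'.hom)
  have hψ0 : ψ = 0 := by
    have nat := NatIso.naturality_1 (singleFunctorCompHomologyFunctorIso A b) ψ
    dsimp at nat
    rw [← nat, hψ]
    simp [h]
  have h1 : e.inv ≫ φ ≫ e'.hom = 0 := by rw [← hψ, hψ0, Functor.map_zero]
  have h2 : φ = e.hom ≫ (e.inv ≫ φ ≫ e'.hom) ≫ e'.inv := by simp
  rw [h2, h1]
  simp

lemma epi_homology_map_truncGEπ (P : DerivedCategory A) (b : ℤ) :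
    Epi ((homologyFunctor A b).map ((TStructure.t.truncGEπ b).app P)) := by
  have hT := TStructure.t.triangleLTGE_distinguished b P
  have h0 : IsZero ((homologyFunctor A (b + 1)).obj ((TStructure.t.truncLT b).obj P)) :=
    isZero_of_isLE ((TStructure.t.truncLT b).obj P) (b - 1) (b + 1) (by omega)
  exact (HomologySequence.epi_homologyMap_mor₂_iff _ hT b (b + 1) rfl).2 (h0.eq_of_tgt _ _)

lemma mono_homology_map_truncLTι (Q : DerivedCategory A) (b : ℤ) :
    Mono ((homologyFunctor A b).map ((TStructure.t.truncLTι (b + 1)).app Q)) := by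
  have hT := TStructure.t.triangleLTGE_distinguished (b + 1) Q
  have h0 : IsZero ((homologyFunctor A (b - 1)).obj ((TStructure.t.truncGE (b + 1)).obj Q)) :=
    isZero_of_isGE ((TStructure.t.truncGE (b + 1)).obj Q) (b + 1) (b - 1) (by omega)
  exact (HomologySequence.mono_homologyMap_mor₁_iff _ hT (b - 1) b (by omega)).2
    (h0.eq_of_src _ _)

/-- A morphism from `D^{≤ b}` to `D^{≥ b}` which is zero on `H^b` is zero. -/
lemma eq_zero_of_isLE_of_isGE {P Q : DerivedCategory A} (b : ℤ)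
    [P.IsLE b] [Q.IsGE b] (φ : P ⟶ Q) (h : (homologyFunctor A b).map φ = 0) : φ = 0 := by
  have h1 := TStructure.t.π_descTruncGE φ b
  have h2 := TStructure.t.liftTruncLT_ι (TStructure.t.descTruncGE φ b) b (b + 1) rfl
  have h3 : (homologyFunctor A b).map ((TStructure.t.truncGEπ b).app P) ≫
      (homologyFunctor A b).map (TStructure.t.liftTruncLT (TStructure.t.descTruncGE φ b) b (b + 1) rfl) ≫
        (homologyFunctor A b).map ((TStructure.t.truncLTι (b + 1)).app Q) = 0 := by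
    rw [← Functor.map_comp, ← Functor.map_comp, h2, h1, h]
  have := epi_homology_map_truncGEπ P b
  have := mono_homology_map_truncLTι Q b
  have h4 : (homologyFunctor A b).map (TStructure.t.liftTruncLT (TStructure.t.descTruncGE φ b) b (b + 1) rfl) = 0 := by
    have h5 := (cancel_epi _).1 (h3.trans comp_zero.symm)
    exact (cancel_mono _).1 (h5.trans zero_comp.symm)
  have h6 : TStructure.t.liftTruncLT (TStructure.t.descTruncGE φ b) b (b + 1) rfl = 0 := eq_zero_of_heart b _ h4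
  rw [← h1, ← h2, h6]
  simp

lemma eq_of_isLE_of_isGE {P Q : DerivedCategory A} (b : ℤ)
    [P.IsLE b] [Q.IsGE b] (φ₁ φ₂ : P ⟶ Q)
    (h : (homologyFunctor A b).map φ₁ = (homologyFunctor A b).map φ₂) : φ₁ = φ₂ := by
  rw [← sub_eq_zero]
  apply eq_zero_of_isLE_of_isGE b
  rw [Functor.map_sub, h, sub_self]

lemma exists_factor_truncLT {P L L' : DerivedCategory A} (b : ℤ) [P.IsLE b] (g : P ⟶ L)
    (f : L ⟶ L') (hf : (homologyFunctor A b).map f = 0) :
    ∃ g' : P ⟶ (TStructure.t.truncLT b).obj L', g ≫ f = g' ≫ (TStructure.t.truncLTι b).app L' := by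
  have h0 : (g ≫ f) ≫ (TStructure.t.truncGEπ b).app L' = 0 := by
    apply eq_zero_of_isLE_of_isGE b
    simp [hf]
  exact Triangle.coyoneda_exact₂ _ (TStructure.t.triangleLTGE_distinguished b L') (g ≫ f) h0

lemma chain_comp_eq_zero {n : ℕ} (K : ComposableArrows (DerivedCategory A) n) (k : ℕ) (hk : k ≤ n)
    (hf : ∀ (i : ℕ) (hi : i < k) (p : ℤ), p < (k : ℤ) →
      (homologyFunctor A p).map (K.map' i (i + 1)) = 0)
    (hge : (K.obj' k).IsGE 0)
    {P : DerivedCategory A} [P.IsLE ((k : ℤ) - 1)] (g : P ⟶ K.obj' 0) :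
    g ≫ K.map' 0 k = 0 := by
  have claim : ∀ (j : ℕ) (hj : j ≤ k), ∃ (Pj : DerivedCategory A) (_ : Pj.IsLE ((k : ℤ) - 1 - (j : ℤ)))
      (g₁ : P ⟶ Pj) (h₁ : Pj ⟶ K.obj' j), g ≫ K.map' 0 j = g₁ ≫ h₁ := by
    intro j
    induction j with
    | zero =>
      intro _
      refine ⟨P, TStructure.t.isLE_of_le P ((k : ℤ) - 1) _ (by simp), 𝟙 P, g, ?_⟩
      rw [K.map'_self 0, Category.comp_id, Category.id_comp]
    | succ j ih =>
      intro hj
      obtain ⟨Pj, hPj, g₁, h₁, e⟩ := ih (by omega)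
      have := hPj
      obtain ⟨g', hg'⟩ := exists_factor_truncLT ((k : ℤ) - 1 - (j : ℤ)) h₁ (K.map' j (j + 1))
        (hf j (by omega) _ (by omega))
      refine ⟨(TStructure.t.truncLT ((k : ℤ) - 1 - (j : ℤ))).obj (K.obj' (j + 1)),
        TStructure.t.isLE_of_le _ ((k : ℤ) - 1 - (j : ℤ) - 1) _ (by push_cast; omega), g₁ ≫ g',
        (TStructure.t.truncLTι _).app _, ?_⟩
      rw [K.map'_comp 0 j (j + 1), ← Category.assoc, e, Category.assoc, hg', Category.assoc]
  obtain ⟨Pk, hPk, g₁, h₁, e⟩ := claim k le_rfl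
  have := hPk
  have := hge
  rw [e, TStructure.t.zero h₁ ((k : ℤ) - 1 - (k : ℤ)) 0 (by omega), comp_zero]

theorem chain_factors (k : ℕ) (K : ComposableArrows (DerivedCategory A) (2 * k))
    (hK : ∀ (i : ℕ) (hi : i ≤ 2 * k) (p : ℤ), p < 0 ∨ (k : ℤ) < p →
      IsZero ((DerivedCategory.homologyFunctor A p).obj (K.obj' i)))
    (hf : ∀ (i : ℕ) (hi : i < 2 * k) (p : ℤ), p < (k : ℤ) →
      (DerivedCategory.homologyFunctor A p).map (K.map' i (i + 1)) = 0)
    (π : K.obj' 0 ⟶ (DerivedCategory.singleFunctor A (k : ℤ)).obj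
      ((DerivedCategory.homologyFunctor A (k : ℤ)).obj (K.obj' 0)))
    (hπ : (DerivedCategory.homologyFunctor A (k : ℤ)).map π ≫
      (DerivedCategory.singleFunctorCompHomologyFunctorIso A (k : ℤ)).hom.app
        ((DerivedCategory.homologyFunctor A (k : ℤ)).obj (K.obj' 0)) = 𝟙 _) :
    ∃ φ : (DerivedCategory.singleFunctor A (k : ℤ)).obj
        ((DerivedCategory.homologyFunctor A (k : ℤ)).obj (K.obj' 0)) ⟶ K.obj' (2 * k),
      K.map' 0 (2 * k) = π ≫ φ := by
  have hGE : ∀ (i : ℕ) (hi : i ≤ 2 * k), (K.obj' i).IsGE 0 := fun i hi =>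
    (isGE_iff _ _).2 (fun p hp => hK i hi p (Or.inl hp))
  have hLE : ∀ (i : ℕ) (hi : i ≤ 2 * k), (K.obj' i).IsLE (k : ℤ) := fun i hi =>
    (isLE_iff _ _).2 (fun p hp => hK i hi p (Or.inr hp))
  have := hLE 0 (by omega)
  have h1 : (TStructure.t.truncLTι (k : ℤ)).app (K.obj' 0) ≫ K.map' 0 (2 * k) = 0 := by
    have h0 := chain_comp_eq_zero K k (by omega) (fun i hi p hp => hf i (by omega) p hp)
      (hGE k (by omega)) ((TStructure.t.truncLTι (k : ℤ)).app (K.obj' 0))
    rw [K.map'_comp 0 k (2 * k), ← Category.assoc, h0, zero_comp]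
  obtain ⟨ψ, hψ⟩ := Triangle.yoneda_exact₂ _
    (TStructure.t.triangleLTGE_distinguished (k : ℤ) (K.obj' 0)) (K.map' 0 (2 * k)) h1
  obtain ⟨Y, ⟨e⟩⟩ := exists_iso_singleFunctor_obj_of_isGE_of_isLE
    ((TStructure.t.truncGE (k : ℤ)).obj (K.obj' 0)) (k : ℤ)
  obtain ⟨u, hu⟩ : ∃ u : (homologyFunctor A (k : ℤ)).obj (K.obj' 0) ⟶ Y,
      u = (homologyFunctor A (k : ℤ)).map ((TStructure.t.truncGEπ (k : ℤ)).app (K.obj' 0) ≫ e.hom) ≫
        (singleFunctorCompHomologyFunctorIso A (k : ℤ)).hom.app Y := ⟨_, rfl⟩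
  have key : π ≫ (singleFunctor A (k : ℤ)).map u =
      (TStructure.t.truncGEπ (k : ℤ)).app (K.obj' 0) ≫ e.hom := by
    apply eq_of_isLE_of_isGE (k : ℤ)
    rw [← cancel_mono ((singleFunctorCompHomologyFunctorIso A (k : ℤ)).hom.app Y), ← hu,
      Functor.map_comp, Category.assoc]
    have nat := (singleFunctorCompHomologyFunctorIso A (k : ℤ)).hom.naturality u
    dsimp at nat
    erw [nat, reassoc_of% hπ]
  refine ⟨(singleFunctor A (k : ℤ)).map u ≫ e.inv ≫ ψ, ?_⟩
  rw [← Category.assoc π, key, Category.assoc, Iso.hom_inv_id_assoc]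
  exact hψ

end Groth.Agent.Lib.Helper6.DerivedChain
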