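import Mathlib

/-!
# The equaliser of `L ⇉ (L ⊗[K] L)^` is the separable closure (helper6)
-/

set_option autoImplicit false
universe u

namespace Groth.Agent.Lib.Helper6.DiagSep

open TensorProduct

section general

variable (K L : Type u) [Field K] [Field L] [Algebra K L]

/-- `δ x = x ⊗ 1 - 1 ⊗ x`. -/
noncomputable def δ (x : L) : L ⊗[K] L := x ⊗ₜ[K] (1 : L) - (1 : L) ⊗ₜ[K] x

lemma mem_ideal_iff (t : L ⊗[K] L) :
    t ∈ KaehlerDifferential.ideal K L ↔ Algebra.TensorProduct.lmul' (S := L) K t = 0 :=
  RingHom.mem_ker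

lemma δ_mem_ideal (x : L) : δ K L x ∈ KaehlerDifferential.ideal K L := by
  rw [mem_ideal_iff]
  simp [δ]

lemma ideal_ne_top : KaehlerDifferential.ideal K L ≠ ⊤ := by
  intro h
  have h1 : (1 : L ⊗[K] L) ∈ KaehlerDifferential.ideal K L := by rw [h]; trivial
  rw [mem_ideal_iff, map_one] at h1
  exact one_ne_zero h1

lemma of_eq_iff (x : L) :
    AdicCompletion.of (KaehlerDifferential.ideal K L) (L ⊗[K] L) (x ⊗ₜ[K] (1 : L)) =
        AdicCompletion.of (KaehlerDifferential.ideal K L) (L ⊗[K] L) ((1 : L) ⊗ₜ[K] x) ↔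
      ∀ n : ℕ, δ K L x ∈ (KaehlerDifferential.ideal K L) ^ n := by
  constructor
  · intro h n
    have h1 := congrArg (fun f => f.1 n) h
    simp only [AdicCompletion.of_apply] at h1
    rw [Submodule.mkQ_apply, Submodule.mkQ_apply, Submodule.Quotient.eq] at h1
    rwa [smul_eq_mul, Ideal.mul_top] at h1
  · intro h
    apply AdicCompletion.ext
    intro n
    simp only [AdicCompletion.of_apply]
    rw [Submodule.mkQ_apply, Submodule.mkQ_apply, Submodule.Quotient.eq, smul_eq_mul, Ideal.mul_top]
    exact h n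

theorem mem_pow_of_separable (x : L) (hx : x ∈ separableClosure K L) (n : ℕ) :
    δ K L x ∈ (KaehlerDifferential.ideal K L) ^ n := by
  have hsep : (minpoly K x).Separable := mem_separableClosure_iff.mp hx
  set f := minpoly K x with hf
  let a : L ⊗[K] L := x ⊗ₜ 1
  let b : L ⊗[K] L := 1 ⊗ₜ x
  have hab : a = b + δ K L x := by simp [δ, a, b]
  have ha : Polynomial.aeval a f = 0 := by
    have h1 : a = (Algebra.TensorProduct.includeLeft : L →ₐ[K] L ⊗[K] L) x := rfl
    rw [h1, Polynomial.aeval_algHom_apply, hf, minpoly.aeval, map_zero]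
  have hb : Polynomial.aeval b f = 0 := by
    have h1 : b = (Algebra.TensorProduct.includeRight : L →ₐ[K] L ⊗[K] L) x := rfl
    rw [h1, Polynomial.aeval_algHom_apply, hf, minpoly.aeval, map_zero]
  have hb' : Polynomial.aeval b (Polynomial.derivative f) =
      (1 : L) ⊗ₜ[K] (Polynomial.aeval x (Polynomial.derivative f)) := by
    have h1 : b = (Algebra.TensorProduct.includeRight : L →ₐ[K] L ⊗[K] L) x := rfl
    rw [h1, Polynomial.aeval_algHom_apply]
    rfl
  have hne : Polynomial.aeval x (Polynomial.derivative f) ≠ 0 :=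
    hsep.aeval_derivative_ne_zero (minpoly.aeval K x)
  set g := f.map (algebraMap K (L ⊗[K] L)) with hg
  obtain ⟨k, hk⟩ := Polynomial.binomExpansion g b (δ K L x)
  rw [← hab] at hk
  have e1 : g.eval a = 0 := by rw [hg, Polynomial.eval_map_algebraMap, ha]
  have e2 : g.eval b = 0 := by rw [hg, Polynomial.eval_map_algebraMap, hb]
  have e3 : (Polynomial.derivative g).eval b =
      (1 : L) ⊗ₜ[K] (Polynomial.aeval x (Polynomial.derivative f)) := by
    rw [hg, Polynomial.derivative_map, Polynomial.eval_map_algebraMap, hb']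
  rw [e1, e2, e3, zero_add] at hk
  set d := Polynomial.aeval x (Polynomial.derivative f) with hd
  have hv : ((1 : L) ⊗ₜ[K] d⁻¹ : L ⊗[K] L) * ((1 : L) ⊗ₜ[K] d) = 1 := by
    rw [Algebra.TensorProduct.tmul_mul_tmul, one_mul, inv_mul_cancel₀ hne]
    rfl
  have key : δ K L x = -(((1 : L) ⊗ₜ[K] d⁻¹) * k) * (δ K L x * δ K L x) := by
    linear_combination (-((1 : L) ⊗ₜ[K] d⁻¹ : L ⊗[K] L)) * hk + (-(δ K L x)) * hv
  induction n with
  | zero => simp
  | succ n ih =>
    rw [key]
    apply Ideal.mul_mem_left
    rw [pow_succ]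
    exact Ideal.mul_mem_mul ih (δ_mem_ideal K L x)

end general

section descent

variable {K L : Type u} [Field K] [Field L] [Algebra K L] (F : IntermediateField K L)

/-- the map `F ⊗ F → L ⊗ L`. -/
noncomputable def ι : F ⊗[K] F →ₐ[K] L ⊗[K] L := Algebra.TensorProduct.map F.val F.val

variable {κ : Type*} (c : Module.Basis κ F L)

/-- coordinates `L ⊗ L → F ⊗ F` -/
noncomputable def π (i j : κ) : L ⊗[K] L →ₗ[K] F ⊗[K] F :=
  TensorProduct.map ((c.coord i).restrictScalars K) ((c.coord j).restrictScalars K)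

lemma coord_mul (f : F) (l : L) (i : κ) : c.coord i ((f : L) * l) = f * c.coord i l := by
  have h1 : (f : L) * l = f • l := rfl
  rw [h1, map_smul, smul_eq_mul]

lemma π_mul (i j : κ) (s : F ⊗[K] F) (t : L ⊗[K] L) :
    π F c i j (ι F s * t) = s * π F c i j t := by
  induction s using TensorProduct.induction_on with
  | zero => simp
  | add s₁ s₂ h₁ h₂ => simp only [map_add, add_mul, h₁, h₂]
  | tmul f₁ f₂ =>
    induction t using TensorProduct.induction_on with
    | zero => simp
    | add t₁ t₂ h₁ h₂ => simp only [mul_add, map_add, h₁, h₂]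
    | tmul l₁ l₂ =>
      simp only [ι, Algebra.TensorProduct.map_tmul, Algebra.TensorProduct.tmul_mul_tmul, π,
        TensorProduct.map_tmul, LinearMap.coe_restrictScalars, IntermediateField.coe_val]
      rw [coord_mul, coord_mul]

lemma lmul_eq (t : L ⊗[K] L) :
    Algebra.TensorProduct.lmul' (S := L) K t =
      Algebra.TensorProduct.lmul' (S := L) F (TensorProduct.mapOfCompatibleSMul F K K L L t) := by
  induction t using TensorProduct.induction_on with
  | zero => simp
  | add t₁ t₂ h₁ h₂ => simp only [map_add, h₁, h₂]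
  | tmul l₁ l₂ => simp

lemma repr_eq (i j : κ) (t : L ⊗[K] L) :
    (Module.Basis.tensorProduct c c).repr (TensorProduct.mapOfCompatibleSMul F K K L L t) (i, j) =
      Algebra.TensorProduct.lmul' (S := F) K (π F c i j t) := by
  induction t using TensorProduct.induction_on with
  | zero => simp
  | add t₁ t₂ h₁ h₂ => simp only [map_add, Finsupp.add_apply, h₁, h₂]
  | tmul l₁ l₂ =>
    rw [TensorProduct.mapOfCompatibleSMul_tmul, Module.Basis.tensorProduct_repr_tmul_apply]
    simp [π, mul_comm]

lemma mem_ideal_of_forall (t : L ⊗[K] L)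
    (h : ∀ i j, π F c i j t ∈ KaehlerDifferential.ideal K F) :
    t ∈ KaehlerDifferential.ideal K L := by
  have h0 : TensorProduct.mapOfCompatibleSMul F K K L L t = 0 := by
    apply (Module.Basis.tensorProduct c c).repr.injective
    refine Finsupp.ext (fun ⟨i, j⟩ => ?_)
    rw [repr_eq, map_zero, Finsupp.zero_apply]
    exact (mem_ideal_iff K F _).mp (h i j)
  rw [mem_ideal_iff, lmul_eq, h0, map_zero]

theorem descent (z : F ⊗[K] F) (t : L ⊗[K] L) (ht : t ∉ KaehlerDifferential.ideal K L)
    (htz : t * ι F z = 0) :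
    ∃ s : F ⊗[K] F, s ∉ KaehlerDifferential.ideal K F ∧ s * z = 0 := by
  let c := Module.Free.chooseBasis F L
  by_contra hcon
  push Not at hcon
  apply ht
  apply mem_ideal_of_forall F c
  intro i j
  by_contra hs
  apply hcon _ hs
  rw [mul_comm ((π F c i j) t) z, ← π_mul, mul_comm (ι F z) t, htz, map_zero]

end descent

section main

variable (K L : Type u) [Field K] [Field L] [Algebra K L]

open IntermediateField in
theorem separable_of_mem (hfg : (⊤ : IntermediateField K L).FG) (x : L)
    (h : ∀ n : ℕ, δ K L x ∈ (KaehlerDifferential.ideal K L) ^ n) :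
    x ∈ separableClosure K L := by
  haveI : Algebra.EssFiniteType K L := IntermediateField.fg_top_iff.mp hfg
  haveI : IsNoetherianRing (L ⊗[K] L) := Algebra.EssFiniteType.isNoetherianRing L (L ⊗[K] L)
  have hmem : δ K L x ∈
      (⨅ i : ℕ, (KaehlerDifferential.ideal K L) ^ i • ⊤ : Submodule (L ⊗[K] L) (L ⊗[K] L)) := by
    rw [Submodule.mem_iInf]
    intro n
    rw [smul_eq_mul, Ideal.mul_top]
    exact h n
  obtain ⟨⟨r, hr⟩, hrx⟩ :=
    (Ideal.mem_iInf_smul_pow_eq_bot_iff (KaehlerDifferential.ideal K L) (δ K L x)).mp hmem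
  have ht : (1 - r) ∉ KaehlerDifferential.ideal K L := by
    intro h1
    apply ideal_ne_top K L
    rw [Ideal.eq_top_iff_one]
    have := Ideal.add_mem _ h1 hr
    rwa [sub_add_cancel] at this
  have htz : (1 - r) * δ K L x = 0 := by
    have : r * δ K L x = δ K L x := hrx
    rw [sub_mul, one_mul, this, sub_self]
  set F : IntermediateField K L := K⟮x⟯ with hF
  let x' : F := AdjoinSimple.gen K x
  have hx'c : (x' : L) = x := AdjoinSimple.coe_gen K x
  have hx' : ι F (δ K F x') = δ K L x := by
    simp only [δ, ι, map_sub, Algebra.TensorProduct.map_tmul, map_one, IntermediateField.coe_val, hx'c]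
  rw [← hx'] at htz
  obtain ⟨s, hs, hsz⟩ := descent F _ _ ht htz
  haveI hmax : (KaehlerDifferential.ideal K F).IsMaximal :=
    RingHom.ker_isMaximal_of_surjective _ (fun y => ⟨y ⊗ₜ 1, by simp⟩)
  obtain ⟨y, i, hi, hyi⟩ := hmax.exists_inv hs
  have hz2 : δ K F x' ∈ (KaehlerDifferential.ideal K F) ^ 2 := by
    have h1 : δ K F x' = i * δ K F x' := by
      calc δ K F x' = 1 * δ K F x' := (one_mul _).symm
        _ = (y * s + i) * δ K F x' := by rw [hyi]
        _ = y * (s * δ K F x') + i * δ K F x' := by ring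
        _ = i * δ K F x' := by rw [hsz, mul_zero, zero_add]
    rw [h1, pow_two]
    exact Ideal.mul_mem_mul hi (δ_mem_ideal K F x')
  have hD : KaehlerDifferential.D K F x' = 0 := by
    rw [KaehlerDifferential.D_apply]
    refine (Ideal.toCotangent_eq_zero _ _).mpr ?_
    have h1 : (1 : F) ⊗ₜ[K] x' - x' ⊗ₜ[K] (1 : F) = -(δ K F x') := by simp [δ]
    have h2 : (1 : F) ⊗ₜ[K] x' - x' ⊗ₜ[K] (1 : F) ∈ (KaehlerDifferential.ideal K F) ^ 2 := by
      rw [h1]
      exact neg_mem hz2
    exact h2
  have hDall : ∀ a : F, KaehlerDifferential.D K F a = 0 := by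
    intro a
    obtain ⟨p, q, hpq⟩ := (IntermediateField.mem_adjoin_simple_iff K (a : L)).mp a.2
    have ha : a = Polynomial.aeval x' p / Polynomial.aeval x' q := by
      have hco : ∀ p : Polynomial K, ((Polynomial.aeval x' p : F) : L) = Polynomial.aeval x p := by
        intro p
        have h3 := (Polynomial.aeval_algHom_apply F.val x' p).symm
        rw [IntermediateField.coe_val, hx'c] at h3
        exact h3
      apply Subtype.ext
      rw [hpq, IntermediateField.coe_div, hco, hco]
    rw [ha, Derivation.leibniz_div, Derivation.map_aeval, Derivation.map_aeval, hD]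
    simp
  haveI : Subsingleton (Ω[F⁄K]) := by
    have h1 := KaehlerDifferential.span_range_derivation K F
    have h0 : Set.range (KaehlerDifferential.D K F) = {0} := by
      ext w
      simp only [Set.mem_range, Set.mem_singleton_iff]
      constructor
      · rintro ⟨a, rfl⟩
        exact hDall a
      · rintro rfl
        exact ⟨0, map_zero _⟩
    rw [h0, Submodule.span_singleton_eq_bot.mpr rfl] at h1
    haveI : Subsingleton (Submodule F (Ω[F⁄K])) := subsingleton_of_bot_eq_top h1
    exact (Submodule.subsingleton_iff F).mp inferInstance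
  haveI : Algebra.FormallyUnramified K F := ⟨inferInstance⟩
  haveI : Algebra.EssFiniteType K F :=
    IntermediateField.essFiniteType_iff.mpr ⟨{x}, by simp [hF]⟩
  haveI := Algebra.FormallyUnramified.isSeparable K F
  have hsep : IsSeparable K x' := Algebra.IsSeparable.isSeparable K x'
  rw [mem_separableClosure_iff]
  have h1 : minpoly K x' = minpoly K x := by
    rw [IntermediateField.minpoly_eq, hx'c]
  unfold IsSeparable at hsep ⊢
  rwa [h1] at hsep

theorem main (hfg : (⊤ : IntermediateField K L).FG) (x : L) :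
    AdicCompletion.of (KaehlerDifferential.ideal K L) (L ⊗[K] L) (x ⊗ₜ[K] (1 : L)) =
        AdicCompletion.of (KaehlerDifferential.ideal K L) (L ⊗[K] L) ((1 : L) ⊗ₜ[K] x) ↔
      x ∈ separableClosure K L := by
  rw [of_eq_iff]
  exact ⟨separable_of_mem K L hfg x, fun hx n => mem_pow_of_separable K L x hx n⟩

end main

end Groth.Agent.Lib.Helper6.DiagSep
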