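import Mathlib

/-!
# The different commutes with localisation
-/

set_option autoImplicit false
universe u

namespace Groth.Agent.Lib.Helper6.DiffLoc

open nonZeroDivisors

theorem trace_algebraMap_mul (A K L : Type u) [CommRing A] [Field K] [Field L]
    [Algebra A K] [Algebra K L] [Algebra A L] [IsScalarTower A K L] (c : A) (z : L) :
    Algebra.trace K L (algebraMap A L c * z) = algebraMap A K c * Algebra.trace K L z := by
  rw [IsScalarTower.algebraMap_apply A K L, ← Algebra.smul_def, map_smul, smul_eq_mul]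

theorem fact1 (A B Aₛ Bₛ K L : Type u) [CommRing A] [CommRing B] [CommRing Aₛ] [CommRing Bₛ]
    [Field K] [Field L]
    [Algebra A B] [Algebra A K] [Algebra B L] [Algebra K L] [Algebra A L]
    [IsScalarTower A K L] [IsScalarTower A B L]
    [Algebra Aₛ Bₛ] [Algebra Aₛ K] [Algebra Bₛ L] [Algebra Aₛ L]
    [IsScalarTower Aₛ K L] [IsScalarTower Aₛ Bₛ L]
    [Algebra A Aₛ] [Algebra B Bₛ] [IsScalarTower A Aₛ K] [IsScalarTower B Bₛ L]
    (S : Submonoid A) [IsLocalization S Aₛ] [IsLocalization (Algebra.algebraMapSubmonoid B S) Bₛ]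
    {x : L} (hx : x ∈ Submodule.traceDual A K (1 : Submodule B L)) :
    x ∈ Submodule.traceDual Aₛ K (1 : Submodule Bₛ L) := by
  rw [Submodule.mem_traceDual] at hx ⊢
  intro a ha
  obtain ⟨b', rfl⟩ := Submodule.mem_one.mp ha
  obtain ⟨⟨b, t⟩, hbt⟩ := IsLocalization.surj (Algebra.algebraMapSubmonoid B S) b'
  have hbt' : b' * algebraMap B Bₛ (t : B) = algebraMap B Bₛ b := hbt
  obtain ⟨s, hs, hst⟩ := t.2
  obtain ⟨r, hr⟩ := RingHom.mem_range.mp (hx (algebraMap B L b) (Submodule.mem_one.mpr ⟨b, rfl⟩))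
  rw [Algebra.traceForm_apply] at hr ⊢
  have hu : IsUnit (algebraMap A K s) := by
    rw [IsScalarTower.algebraMap_apply A Aₛ K]
    exact (IsLocalization.map_units Aₛ (⟨s, hs⟩ : S)).map (algebraMap Aₛ K)
  have key : algebraMap A L s * algebraMap Bₛ L b' = algebraMap B L b := by
    rw [IsScalarTower.algebraMap_apply A B L, IsScalarTower.algebraMap_apply B Bₛ L, hst,
      ← map_mul, mul_comm, hbt', ← IsScalarTower.algebraMap_apply B Bₛ L]
  rw [RingHom.mem_range]
  refine ⟨IsLocalization.mk' Aₛ r ⟨s, hs⟩, ?_⟩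
  apply mul_left_cancel₀ hu.ne_zero
  rw [← trace_algebraMap_mul A K L, mul_left_comm, key, ← hr,
    IsScalarTower.algebraMap_apply A Aₛ K s, ← map_mul, IsScalarTower.algebraMap_apply A Aₛ K r]
  congr 1
  rw [mul_comm]
  exact IsLocalization.mk'_spec Aₛ r ⟨s, hs⟩

theorem fact2 (A B Aₛ Bₛ K L : Type u) [CommRing A] [CommRing B] [CommRing Aₛ] [CommRing Bₛ]
    [Field K] [Field L]
    [Algebra A B] [Algebra A K] [Algebra B L] [Algebra K L] [Algebra A L]
    [IsScalarTower A K L] [IsScalarTower A B L]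
    [Algebra Aₛ Bₛ] [Algebra Aₛ K] [Algebra Bₛ L] [Algebra Aₛ L]
    [IsScalarTower Aₛ K L] [IsScalarTower Aₛ Bₛ L]
    [Algebra A Aₛ] [Algebra B Bₛ] [IsScalarTower A Aₛ K] [IsScalarTower B Bₛ L]
    (S : Submonoid A) [IsLocalization S Aₛ] [IsLocalization (Algebra.algebraMapSubmonoid B S) Bₛ]
    [Module.Finite A B]
    {y : L} (hy : y ∈ Submodule.traceDual Aₛ K (1 : Submodule Bₛ L)) :
    ∃ s ∈ S, algebraMap A L s * y ∈ Submodule.traceDual A K (1 : Submodule B L) := by
  rw [Submodule.mem_traceDual] at hy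
  have h1 : ∀ g : B, ∃ a' : Aₛ, algebraMap Aₛ K a' = Algebra.trace K L (y * algebraMap B L g) := by
    intro g
    have := hy (algebraMap B L g) (Submodule.mem_one.mpr
      ⟨algebraMap B Bₛ g, (IsScalarTower.algebraMap_apply B Bₛ L g).symm⟩)
    rw [Algebra.traceForm_apply] at this
    exact RingHom.mem_range.mp this
  choose a' ha' using h1
  obtain ⟨G, hG⟩ := (Module.Finite.fg_top : (⊤ : Submodule A B).FG)
  obtain ⟨s, hs⟩ := IsLocalization.exist_integer_multiples S G a'
  refine ⟨s, s.2, ?_⟩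
  rw [Submodule.mem_traceDual]
  intro a ha
  obtain ⟨b, rfl⟩ := Submodule.mem_one.mp ha
  clear ha
  have hb : b ∈ Submodule.span A (G : Set B) := hG ▸ Submodule.mem_top
  rw [Algebra.traceForm_apply, RingHom.mem_range]
  induction hb using Submodule.span_induction with
  | mem g hg =>
    obtain ⟨r, hr⟩ := hs g hg
    refine ⟨r, ?_⟩
    rw [mul_assoc, trace_algebraMap_mul A K L, ← ha', IsScalarTower.algebraMap_apply A Aₛ K r, hr,
      Algebra.smul_def, map_mul, ← IsScalarTower.algebraMap_apply A Aₛ K]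
  | zero => exact ⟨0, by simp⟩
  | add b1 b2 _ _ h1 h2 =>
    obtain ⟨r1, hr1⟩ := h1
    obtain ⟨r2, hr2⟩ := h2
    exact ⟨r1 + r2, by rw [map_add, hr1, hr2, map_add, mul_add, map_add]⟩
  | smul c b _ h =>
    obtain ⟨r, hr⟩ := h
    refine ⟨c * r, ?_⟩
    have e : algebraMap B L (c • b) = algebraMap A L c * algebraMap B L b := by
      rw [Algebra.smul_def, map_mul, ← IsScalarTower.algebraMap_apply A B L]
    rw [e, mul_left_comm, trace_algebraMap_mul A K L, map_mul, hr]

theorem main (A B Aₛ Bₛ K L : Type u) [CommRing A] [CommRing B] [CommRing Aₛ] [CommRing Bₛ]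
    [Field K] [Field L]
    [Algebra A B] [Algebra A K] [Algebra B L] [Algebra K L] [Algebra A L]
    [IsScalarTower A K L] [IsScalarTower A B L]
    [Algebra Aₛ Bₛ] [Algebra Aₛ K] [Algebra Bₛ L] [Algebra Aₛ L]
    [IsScalarTower Aₛ K L] [IsScalarTower Aₛ Bₛ L]
    [Algebra A Aₛ] [Algebra B Bₛ] [IsScalarTower A Aₛ K] [IsScalarTower B Bₛ L]
    (S : Submonoid A) [IsLocalization S Aₛ] [IsLocalization (Algebra.algebraMapSubmonoid B S) Bₛ]
    [Module.Finite A B]
    [IsDomain A] [IsFractionRing A K] [FiniteDimensional K L] [Algebra.IsSeparable K L]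
    [IsIntegralClosure B A L] [IsIntegrallyClosed A] [IsDedekindDomain B] [Module.IsTorsionFree A B]
    [IsFractionRing B L]
    [IsDomain Aₛ] [IsFractionRing Aₛ K] [IsIntegralClosure Bₛ Aₛ L] [IsIntegrallyClosed Aₛ]
    [IsDedekindDomain Bₛ] [Module.IsTorsionFree Aₛ Bₛ] [IsFractionRing Bₛ L] :
    Ideal.map (algebraMap B Bₛ) (differentIdeal A B) = differentIdeal Aₛ Bₛ := by
  have hD := coeSubmodule_differentIdeal A K (L := L) B
  have hD' := coeSubmodule_differentIdeal Aₛ K (L := L) Bₛ
  have memD : ∀ x : B, x ∈ differentIdeal A B ↔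
      ∀ d ∈ Submodule.traceDual A K (1 : Submodule B L),
        algebraMap B L x * d ∈ (1 : Submodule B L) := by
    intro x
    rw [← Submodule.mem_div_iff_forall_mul_mem, ← hD, IsLocalization.mem_coeSubmodule]
    constructor
    · intro hx
      exact ⟨x, hx, rfl⟩
    · rintro ⟨x', hx', e⟩
      rwa [← (IsFractionRing.injective B L) e]
  have memD' : ∀ x : Bₛ, x ∈ differentIdeal Aₛ Bₛ ↔
      ∀ d ∈ Submodule.traceDual Aₛ K (1 : Submodule Bₛ L),
        algebraMap Bₛ L x * d ∈ (1 : Submodule Bₛ L) := by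
    intro x
    rw [← Submodule.mem_div_iff_forall_mul_mem, ← hD', IsLocalization.mem_coeSubmodule]
    constructor
    · intro hx
      exact ⟨x, hx, rfl⟩
    · rintro ⟨x', hx', e⟩
      rwa [← (IsFractionRing.injective Bₛ L) e]
  apply le_antisymm
  · rw [Ideal.map_le_iff_le_comap]
    intro x hx
    rw [Ideal.mem_comap, memD']
    intro d' hd'
    obtain ⟨s, hs, hsd⟩ := fact2 A B Aₛ Bₛ K L S hd'
    obtain ⟨b, hb⟩ := Submodule.mem_one.mp ((memD x).mp hx _ hsd)
    rw [Submodule.mem_one]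
    let t : Algebra.algebraMapSubmonoid B S := ⟨algebraMap A B s, s, hs, rfl⟩
    have ht : (t : B) = algebraMap A B s := rfl
    have hτ : algebraMap A L s = algebraMap Bₛ L (algebraMap B Bₛ (t : B)) := by
      rw [ht, ← IsScalarTower.algebraMap_apply B Bₛ L, ← IsScalarTower.algebraMap_apply A B L]
    have hu : IsUnit (algebraMap A L s) := by
      rw [hτ]
      exact (IsLocalization.map_units Bₛ t).map (algebraMap Bₛ L)
    refine ⟨IsLocalization.mk' Bₛ b t, ?_⟩
    apply mul_right_cancel₀ hu.ne_zero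
    calc algebraMap Bₛ L (IsLocalization.mk' Bₛ b t) * algebraMap A L s
        = algebraMap Bₛ L (IsLocalization.mk' Bₛ b t * algebraMap B Bₛ (t : B)) := by
          rw [map_mul, hτ]
      _ = algebraMap B L b := by
          rw [IsLocalization.mk'_spec, ← IsScalarTower.algebraMap_apply B Bₛ L]
      _ = algebraMap B L x * (algebraMap A L s * d') := hb
      _ = algebraMap Bₛ L (algebraMap B Bₛ x) * d' * algebraMap A L s := by
          rw [← IsScalarTower.algebraMap_apply B Bₛ L]
          ring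
  · intro x' hx'
    rw [memD'] at hx'
    have hne : FractionalIdeal.dual A K (1 : FractionalIdeal B⁰ L) ≠ 0 :=
      FractionalIdeal.dual_ne_zero A K one_ne_zero
    have h2 : FractionalIdeal.dual A K (1 : FractionalIdeal B⁰ L) *
        ((differentIdeal A B : Ideal B) : FractionalIdeal B⁰ L) = 1 := by
      rw [coeIdeal_differentIdeal A K L B, mul_inv_cancel₀ hne]
    have h3 := congrArg (fun I : FractionalIdeal B⁰ L => (I : Submodule B L)) h2
    simp only [FractionalIdeal.coe_mul, FractionalIdeal.coe_dual_one,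
      FractionalIdeal.coe_coeIdeal, FractionalIdeal.coe_one] at h3
    have h1 : (1 : L) ∈ Submodule.traceDual A K (1 : Submodule B L) *
        IsLocalization.coeSubmodule L (differentIdeal A B) := by
      rw [h3]
      exact Submodule.one_le.mp le_rfl
    have key : ∀ z ∈ Submodule.traceDual A K (1 : Submodule B L) *
        IsLocalization.coeSubmodule L (differentIdeal A B),
        algebraMap Bₛ L x' * z ∈
          IsLocalization.coeSubmodule L (Ideal.map (algebraMap B Bₛ) (differentIdeal A B)) := by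
      intro z hz
      refine Submodule.mul_induction_on hz (fun d hd e he => ?_) (fun z1 z2 h1 h2 => ?_)
      · obtain ⟨ε, hε, rfl⟩ := (IsLocalization.mem_coeSubmodule _ _).mp he
        obtain ⟨c, hc⟩ := Submodule.mem_one.mp (hx' d (fact1 A B Aₛ Bₛ K L S hd))
        rw [← mul_assoc, ← hc, IsScalarTower.algebraMap_apply B Bₛ L, ← map_mul]
        exact (IsLocalization.mem_coeSubmodule _ _).mpr
          ⟨_, Ideal.mul_mem_left _ _ (Ideal.mem_map_of_mem _ hε), rfl⟩
      · rw [mul_add]
        exact add_mem h1 h2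
    have h4 := key 1 h1
    rw [mul_one] at h4
    obtain ⟨w, hw, e⟩ := (IsLocalization.mem_coeSubmodule _ _).mp h4
    rwa [← IsFractionRing.injective Bₛ L e]

end Groth.Agent.Lib.Helper6.DiffLoc
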