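import Mathlib
import Groth.Prelude.Def_QFDual
import Groth.Agent.Lib.Helper6.OmegaBC

/-!
Helper6: the ideal `QFDual.different R τ = (Rτ : M)` commutes with flat base change for finitely
generated `M`; application to `Hom_A(B, A)` and the trace.
-/

set_option autoImplicit false

namespace Groth.Agent.Lib.Helper6.DifferentBC

open TensorProduct

universe u v w

theorem different_tmul_le {R : Type u} {R' : Type v} {M : Type w} [CommRing R] [CommRing R']
    [Algebra R R'] [Module.Flat R R'] [AddCommGroup M] [Module R M] {n : ℕ} (m : Fin n → M)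
    (hm : Submodule.span R (Set.range m) = ⊤) (τ : M) :
    QFDual.different R' ((1 : R') ⊗ₜ[R] τ) ≤
      Ideal.map (algebraMap R R') (QFDual.different R τ) := by
  classical
  intro r' hr'
  rw [QFDual.mem_different_iff] at hr'
  have hc : ∀ k, ∃ c : R', c ⊗ₜ[R] τ = r' ⊗ₜ[R] m k := by
    intro k
    obtain ⟨c, hc⟩ := hr' ((1 : R') ⊗ₜ[R] m k)
    refine ⟨c, ?_⟩
    rwa [TensorProduct.smul_tmul', TensorProduct.smul_tmul', smul_eq_mul, smul_eq_mul, mul_one,
      mul_one] at hc
  choose c' hc' using hc
  let Ψ : (R × (Fin n → R)) →ₗ[R] (Fin n → M) :=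
    LinearMap.pi (fun k => (LinearMap.fst R R (Fin n → R)).smulRight (m k) +
      ((LinearMap.proj k) ∘ₗ (LinearMap.snd R R (Fin n → R))).smulRight τ)
  have hΨ : ∀ (r : R) (c : Fin n → R) (k : Fin n), Ψ (r, c) k = r • m k + c k • τ :=
    fun r c k => by simp [Ψ]
  let z : R' ⊗[R] (R × (Fin n → R)) :=
    r' ⊗ₜ[R] ((1 : R), (0 : Fin n → R)) -
      ∑ k, c' k ⊗ₜ[R] ((0 : R), (Pi.single k (1 : R) : Fin n → R))
  have hz : AlgebraTensorModule.lTensor R' R' Ψ z = 0 := by
    have h1 : Ψ ((1 : R), (0 : Fin n → R)) = m := by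
      funext k; rw [hΨ]; simp
    have h2 : ∀ k, Ψ ((0 : R), (Pi.single k (1 : R) : Fin n → R)) = Pi.single k τ := by
      intro k; funext k₀; rw [hΨ]
      by_cases h : k₀ = k
      · subst h; simp
      · simp [Pi.single_eq_of_ne h]
    simp only [z, map_sub, map_sum, AlgebraTensorModule.lTensor_tmul, h1, h2]
    have e1 : r' ⊗ₜ[R] m = (TensorProduct.piRight R R' R' (fun _ : Fin n => M)).symm
        (fun k => r' ⊗ₜ[R] m k) := (TensorProduct.piRight_symm_apply ..).symm
    have e2 : ∀ k, c' k ⊗ₜ[R] (Pi.single k τ : Fin n → M) =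
        (TensorProduct.piRight R R' R' (fun _ : Fin n => M)).symm
          (Pi.single k (c' k ⊗ₜ[R] τ)) := fun k => (TensorProduct.piRight_symm_single ..).symm
    rw [e1, Finset.sum_congr rfl (fun k _ => e2 k), ← map_sum, Finset.univ_sum_single, ← map_sub]
    have h0 : ((fun k => r' ⊗ₜ[R] m k) - fun k => c' k ⊗ₜ[R] τ : Fin n → R' ⊗[R] M) = 0 := by
      funext k; simp [hc' k]
    rw [h0, map_zero]
  have hker := Module.Flat.ker_lTensor_eq R' R' Ψ
  have hzmem : z ∈ LinearMap.range
      (AlgebraTensorModule.lTensor R' R' (LinearMap.ker Ψ).subtype) := by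
    rw [← hker]; exact hz
  obtain ⟨w, hw⟩ := hzmem
  let π : R' ⊗[R] (R × (Fin n → R)) →ₗ[R'] R' :=
    (AlgebraTensorModule.rid R R' R').toLinearMap ∘ₗ
      AlgebraTensorModule.lTensor R' R' (LinearMap.fst R R (Fin n → R))
  have hπz : π z = r' := by
    simp [π, z]
  have hπw : ∀ w : R' ⊗[R] (LinearMap.ker Ψ),
      π (AlgebraTensorModule.lTensor R' R' (LinearMap.ker Ψ).subtype w) ∈
        Ideal.map (algebraMap R R') (QFDual.different R τ) := by
    intro w
    induction w using TensorProduct.induction_on with
    | zero => simp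
    | tmul y v =>
      have hv : (v : R × (Fin n → R)).1 ∈ QFDual.different R τ := by
        rw [QFDual.mem_different_iff]
        intro x
        have hx : x ∈ Submodule.span R (Set.range m) := hm ▸ Submodule.mem_top
        obtain ⟨a, rfl⟩ := (Submodule.mem_span_range_iff_exists_fun R).mp hx
        have hvk : ∀ k, (v : R × (Fin n → R)).1 • m k =
            - ((v : R × (Fin n → R)).2 k • τ) := by
          intro k
          have := (hΨ (v : R × (Fin n → R)).1 (v : R × (Fin n → R)).2 k).symm.trans
            (congrFun (LinearMap.mem_ker.mp v.2) k)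
          exact eq_neg_of_add_eq_zero_left this
        refine ⟨-∑ k, a k * (v : R × (Fin n → R)).2 k, ?_⟩
        symm
        calc (v : R × (Fin n → R)).1 • ∑ k, a k • m k
            = ∑ k, a k • ((v : R × (Fin n → R)).1 • m k) := by
              rw [Finset.smul_sum]; exact Finset.sum_congr rfl fun k _ => smul_comm _ _ _
          _ = ∑ k, -((a k * (v : R × (Fin n → R)).2 k) • τ) :=
              Finset.sum_congr rfl fun k _ => by rw [hvk, smul_neg, mul_smul]
          _ = (-∑ k, a k * (v : R × (Fin n → R)).2 k) • τ := by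
              rw [Finset.sum_neg_distrib, neg_smul, Finset.sum_smul]
      have : π (AlgebraTensorModule.lTensor R' R' (LinearMap.ker Ψ).subtype (y ⊗ₜ[R] v)) =
          algebraMap R R' (v : R × (Fin n → R)).1 * y := by
        simp [π, Algebra.smul_def]
      rw [this]
      exact Ideal.mul_mem_right _ _ (Ideal.mem_map_of_mem _ hv)
    | add x y hx hy => rw [map_add, map_add]; exact Ideal.add_mem _ hx hy
  rw [← hπz, ← hw]
  exact hπw w

theorem different_map_eq_of_isBaseChange {R : Type u} {R' : Type v} {M : Type w} {M' : Type*}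
    [CommRing R] [CommRing R'] [Algebra R R'] [Module.Flat R R'] [AddCommGroup M] [Module R M]
    [Module.Finite R M] [AddCommGroup M'] [Module R M'] [Module R' M'] [IsScalarTower R R' M']
    (f : M →ₗ[R] M') (hf : IsBaseChange R' f) (τ : M) :
    Ideal.map (algebraMap R R') (QFDual.different R τ) = QFDual.different R' (f τ) := by
  apply le_antisymm
  · rw [Ideal.map_le_iff_le_comap]
    intro r hr
    rw [Ideal.mem_comap, QFDual.mem_different_iff]
    rw [QFDual.mem_different_iff] at hr
    intro x
    induction x using hf.inductionOn with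
    | zero => exact ⟨0, by simp⟩
    | tmul m =>
      obtain ⟨c, hc⟩ := hr m
      exact ⟨algebraMap R R' c, by
        rw [algebraMap_smul, algebraMap_smul, ← map_smul, ← map_smul, hc]⟩
    | smul s x hx =>
      obtain ⟨c, hc⟩ := hx
      exact ⟨s * c, by rw [mul_smul, hc, smul_comm]⟩
    | add x y hx hy =>
      obtain ⟨c, hc⟩ := hx
      obtain ⟨d, hd⟩ := hy
      exact ⟨c + d, by rw [add_smul, hc, hd, smul_add]⟩
  · obtain ⟨n, m, hm⟩ := Module.Finite.exists_fin (R := R) (M := M)
    have h1 := different_tmul_le (R' := R') m hm τ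
    refine le_trans ?_ h1
    intro r hr
    rw [QFDual.mem_different_iff] at hr ⊢
    intro x
    obtain ⟨c, hc⟩ := hr (hf.equiv x)
    refine ⟨c, hf.equiv.injective ?_⟩
    rw [map_smul, map_smul, IsBaseChange.equiv_tmul, one_smul, hc]

theorem bcFin_trace {A B A' B' : Type u} [CommRing A] [CommRing B] [CommRing A'] [CommRing B']
    [Algebra A B] [Module.Finite A B] [Module.Free A B] [Algebra A A'] [Algebra B B']
    [Algebra A' B'] [Algebra A B'] [IsScalarTower A A' B'] [IsScalarTower A B B']
    (hB : Algebra.IsPushout A A' B B') [Module.Finite A' B'] [Module.Free A' B'] :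
    QFDual.bcFin hB (Disc.Omega.trace A B) = Disc.Omega.trace A' B' := by
  refine Disc.Omega.ext (hB.out.algHom_ext _ _ fun b => ?_)
  show (QFDual.bcFin hB (Disc.Omega.trace A B)).toLinearMap (algebraMap B B' b) =
    Algebra.trace A' B' (algebraMap B B' b)
  rw [QFDual.bcFin_apply_algebraMap]
  show algebraMap A A' (Algebra.trace A B b) = _
  haveI := hB
  have this : algebraMap B B' b = Algebra.IsPushout.equiv A A' B B' (1 ⊗ₜ b) := by
    rw [Algebra.IsPushout.equiv_tmul]; simp
  symm
  rw [this, Algebra.trace_eq_of_algEquiv, Algebra.trace_apply, ← Algebra.baseChange_lmul,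
    LinearMap.trace_baseChange, ← Algebra.trace_apply]

theorem map_different_eq (A B A' B' : Type u) [CommRing A] [CommRing B] [CommRing A']
    [CommRing B'] [IsNoetherianRing A] [Algebra A B] [Module.Finite A B] [Module.Free A B]
    [Algebra A A'] [Algebra B B'] [Algebra A' B'] [Algebra A B'] [IsScalarTower A A' B']
    [IsScalarTower A B B'] (hB : Algebra.IsPushout A A' B B') [Module.Finite A' B']
    [Module.Free A' B'] [Module.Flat A A'] :
    Ideal.map (algebraMap B B') (QFDual.different B (Disc.Omega.trace A B)) =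
      QFDual.different B' (Disc.Omega.trace A' B') := by
  letI iBΩ₁ : Module B (Disc.Omega A' B') := Module.compHom _ (algebraMap B B')
  haveI : IsScalarTower B B' (Disc.Omega A' B') :=
    IsScalarTower.of_algebraMap_smul fun r x => rfl
  letI iAΩ : Module A (Disc.Omega A B) := Module.compHom _ (algebraMap A B)
  haveI : IsScalarTower A B (Disc.Omega A B) :=
    IsScalarTower.of_algebraMap_smul fun r x => rfl
  letI iA₁Ω₁ : Module A' (Disc.Omega A' B') := Module.compHom _ (algebraMap A' B')
  haveI : IsScalarTower A' B' (Disc.Omega A' B') :=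
    IsScalarTower.of_algebraMap_smul fun r x => rfl
  letI iAΩ₁ : Module A (Disc.Omega A' B') := Module.compHom _ (algebraMap A B')
  haveI : IsScalarTower A A' (Disc.Omega A' B') :=
    IsScalarTower.of_algebraMap_smul fun r x => by
      show algebraMap A' B' (algebraMap A A' r) • x = algebraMap A B' r • x
      rw [← IsScalarTower.algebraMap_apply]
  haveI : Module.FinitePresentation A B := Module.finitePresentation_of_finite A B
  have h2 : IsBaseChange A' hB.out.toDual := OmegaBC.isBaseChange_toDual hB.out
  let eM : (B →ₗ[A] A) ≃ₗ[A] Disc.Omega A B :=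
    { toFun := fun φ => ⟨φ⟩
      invFun := fun ω => ω.toLinearMap
      map_add' := fun _ _ => rfl
      map_smul' := fun a φ => by
        refine Disc.Omega.ext (LinearMap.ext fun x => ?_)
        show a • φ x = φ (algebraMap A B a * x)
        rw [← Algebra.smul_def, map_smul]
      left_inv := fun _ => rfl
      right_inv := fun _ => rfl }
  let eN : (B' →ₗ[A'] A') ≃ₗ[A'] Disc.Omega A' B' :=
    { toFun := fun φ => ⟨φ⟩
      invFun := fun ω => ω.toLinearMap
      map_add' := fun _ _ => rfl
      map_smul' := fun a φ => by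
        refine Disc.Omega.ext (LinearMap.ext fun x => ?_)
        show a • φ x = φ (algebraMap A' B' a * x)
        rw [← Algebra.smul_def, map_smul]
      left_inv := fun _ => rfl
      right_inv := fun _ => rfl }
  let g : Disc.Omega A B →ₗ[A] Disc.Omega A' B' :=
    { toFun := QFDual.bcFin hB
      map_add' := map_add _
      map_smul' := fun a φ => by
        show QFDual.bcFin hB (algebraMap A B a • φ) = algebraMap A B' a • QFDual.bcFin hB φ
        rw [(QFDual.bcFin hB).map_smulₛₗ, ← IsScalarTower.algebraMap_apply] }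
  have h3 : IsBaseChange A' g := by
    refine (IsBaseChange.iff_of_equiv_comm eM eN ?_).mp h2
    refine LinearMap.ext fun φ => ?_
    rfl
  let f : Disc.Omega A B →ₗ[B] Disc.Omega A' B' :=
    { toFun := QFDual.bcFin hB
      map_add' := map_add _
      map_smul' := fun r φ => (QFDual.bcFin hB).map_smulₛₗ r φ }
  have h4 : IsBaseChange B' f := OmegaBC.isBaseChange_of_isPushout hB g h3 f (fun m => rfl)
  haveI : Module.Flat B B' :=
    Module.Flat.isBaseChange (R := A) (M := A') (S := B) B' hB.symm.out
  haveI : Module.Finite A (Disc.Omega A B) := Module.Finite.equiv eM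
  haveI : Module.Finite B (Disc.Omega A B) := Module.Finite.of_restrictScalars_finite A B _
  rw [← bcFin_trace hB]
  exact different_map_eq_of_isBaseChange f h4 (Disc.Omega.trace A B)

end Groth.Agent.Lib.Helper6.DifferentBC
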