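import Mathlib
import Groth.Prelude.Def_QFDual
import Groth.Agent.Lib.Helper6.OmegaBC
import Groth.Agent.Lib.Helper6.DifferentBC

/-!
Helper6: base change of `QFDual.different` without flatness: inclusion, equality of radicals
(support of a base change), equality for invertible modules (rank one identity).
-/

set_option autoImplicit false

namespace Groth.Agent.Lib.Helper6.DifferentBC2

open TensorProduct

universe u v w

section Abstract

variable {R : Type u} {R' : Type v} {M : Type w} {M' : Type*}
  [CommRing R] [CommRing R'] [Algebra R R'] [AddCommGroup M] [Module R M]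
  [AddCommGroup M'] [Module R M'] [Module R' M'] [IsScalarTower R R' M']

theorem map_different_le (f : M →ₗ[R] M') (hf : IsBaseChange R' f) (τ : M) :
    Ideal.map (algebraMap R R') (QFDual.different R τ) ≤ QFDual.different R' (f τ) := by
  rw [Ideal.map_le_iff_le_comap]
  intro r hr
  rw [Ideal.mem_comap, QFDual.mem_different_iff]
  rw [QFDual.mem_different_iff] at hr
  intro x
  induction x using hf.inductionOn with
  | zero => exact ⟨0, by simp⟩
  | tmul m =>
    obtain ⟨c, hc⟩ := hr m
    exact ⟨algebraMap R R' c, by
      rw [algebraMap_smul, algebraMap_smul, ← map_smul, ← map_smul, hc]⟩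
  | smul s x hx =>
    obtain ⟨c, hc⟩ := hx
    exact ⟨s * c, by rw [mul_smul, hc, smul_comm]⟩
  | add x y hx hy =>
    obtain ⟨c, hc⟩ := hx
    obtain ⟨d, hd⟩ := hy
    exact ⟨c + d, by rw [add_smul, hc, hd, smul_add]⟩

omit [AddCommGroup M'] [Module R M'] [Module R' M'] [IsScalarTower R R' M'] in
/-- Support of a base change of a finite module contains the preimage of the support. -/
theorem mem_support_baseChange [Module.Finite R M] (P' : PrimeSpectrum R')
    (hP : PrimeSpectrum.comap (algebraMap R R') P' ∈ Module.support R M) :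
    P' ∈ Module.support R' (R' ⊗[R] M) := by
  rw [Module.mem_support_iff_nontrivial_residueField_tensorProduct] at hP ⊢
  let φ : (PrimeSpectrum.comap (algebraMap R R') P').asIdeal.ResidueField →+*
      P'.asIdeal.ResidueField :=
    Ideal.ResidueField.map (PrimeSpectrum.comap (algebraMap R R') P').asIdeal P'.asIdeal
      (algebraMap R R') rfl
  letI : Algebra (PrimeSpectrum.comap (algebraMap R R') P').asIdeal.ResidueField
      P'.asIdeal.ResidueField := φ.toAlgebra
  haveI : IsScalarTower R (PrimeSpectrum.comap (algebraMap R R') P').asIdeal.ResidueField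
      P'.asIdeal.ResidueField := IsScalarTower.of_algebraMap_eq' (by
    ext r
    simp only [RingHom.comp_apply, RingHom.algebraMap_toAlgebra, φ,
      Ideal.ResidueField.map_algebraMap]
    rw [← IsScalarTower.algebraMap_apply])
  let e₁ := AlgebraTensorModule.cancelBaseChange R R' P'.asIdeal.ResidueField
    P'.asIdeal.ResidueField M
  let e₂ := AlgebraTensorModule.cancelBaseChange R
    (PrimeSpectrum.comap (algebraMap R R') P').asIdeal.ResidueField P'.asIdeal.ResidueField
    P'.asIdeal.ResidueField M
  haveI : Nontrivial (P'.asIdeal.ResidueField ⊗[(PrimeSpectrum.comap (algebraMap R R')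
      P').asIdeal.ResidueField] ((PrimeSpectrum.comap (algebraMap R R')
        P').asIdeal.ResidueField ⊗[R] M)) := inferInstance
  exact (e₁.trans e₂.symm).toEquiv.nontrivial

theorem different_le_radical_map [Module.Finite R M] (f : M →ₗ[R] M') (hf : IsBaseChange R' f)
    (τ : M) :
    QFDual.different R' (f τ) ≤
      (Ideal.map (algebraMap R R') (QFDual.different R τ)).radical := by
  rw [Ideal.radical_eq_sInf]
  refine le_sInf fun P' hP' => ?_
  obtain ⟨hle, hprime⟩ := hP'
  intro r' hr'
  have h0 : (R ∙ τ).mkQ τ = 0 := by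
    rw [Submodule.mkQ_apply, Submodule.Quotient.mk_eq_zero]
    exact Submodule.mem_span_singleton_self τ
  have hsupp : PrimeSpectrum.comap (algebraMap R R') ⟨P', hprime⟩ ∈
      Module.support R (M ⧸ (R ∙ τ)) := by
    rw [Module.mem_support_iff_of_finite]
    intro s hs
    show s ∈ Ideal.comap (algebraMap R R') P'
    refine hle (Ideal.mem_map_of_mem _ ?_)
    rw [QFDual.mem_different_iff]
    intro m
    have : s • ((R ∙ τ).mkQ m) = 0 := Module.mem_annihilator.mp hs _
    rw [← map_smul, Submodule.mkQ_apply, Submodule.Quotient.mk_eq_zero,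
      Submodule.mem_span_singleton] at this
    exact this
  have hmem := mem_support_baseChange (R' := R') ⟨P', hprime⟩ hsupp
  have hann : r' ∈ Module.annihilator R' (R' ⊗[R] (M ⧸ (R ∙ τ))) := by
    rw [Module.mem_annihilator]
    intro t
    let g : M' →ₗ[R'] R' ⊗[R] (M ⧸ (R ∙ τ)) :=
      (AlgebraTensorModule.lTensor R' R' (R ∙ τ).mkQ) ∘ₗ hf.equiv.symm.toLinearMap
    have hg : Function.Surjective g := by
      intro t
      obtain ⟨x, hx⟩ := LinearMap.lTensor_surjective R' (R ∙ τ).mkQ_surjective t
      exact ⟨hf.equiv x, by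
        show AlgebraTensorModule.lTensor R' R' (R ∙ τ).mkQ (hf.equiv.symm (hf.equiv x)) = t
        rw [LinearEquiv.symm_apply_apply]; exact hx⟩
    obtain ⟨m', rfl⟩ := hg t
    rw [QFDual.mem_different_iff] at hr'
    obtain ⟨c, hc⟩ := hr' m'
    have hgτ : g (f τ) = 0 := by
      show AlgebraTensorModule.lTensor R' R' (R ∙ τ).mkQ (hf.equiv.symm (f τ)) = 0
      rw [hf.equiv_symm_apply, AlgebraTensorModule.lTensor_tmul, h0, tmul_zero]
    rw [← map_smul, ← hc, map_smul, hgτ, smul_zero]
  exact Module.annihilator_le_of_mem_support hmem hann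

theorem different_baseChange_radical [Module.Finite R M] (f : M →ₗ[R] M')
    (hf : IsBaseChange R' f) (τ : M) :
    Ideal.map (algebraMap R R') (QFDual.different R τ) ≤ QFDual.different R' (f τ) ∧
      (Ideal.map (algebraMap R R') (QFDual.different R τ)).radical =
        (QFDual.different R' (f τ)).radical :=
  ⟨map_different_le f hf τ, le_antisymm (Ideal.radical_mono (map_different_le f hf τ))
    (Ideal.radical_le_radical_iff.mpr (different_le_radical_map f hf τ))⟩

end Abstract

section Invertible

variable {R : Type u} {M : Type w} [CommRing R] [AddCommGroup M] [Module R M]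
  [Module.Invertible R M]

theorem invertible_aux (f : Module.Dual R M) (m z : M) (hz : f z = 0) :
    f m • f m • z = 0 := by
  obtain ⟨s, hs⟩ := (Module.Invertible.toModuleEnd_bijective R M).surjective (f.smulRight z)
  have hs' : ∀ y, s • y = f y • z := fun y => by
    have := LinearMap.congr_fun hs y
    simpa using this
  have h1 : s * f m = 0 := by
    have : f (s • m) = f (f m • z) := by rw [hs']
    rw [map_smul, map_smul, hz, smul_zero, smul_eq_mul] at this
    exact this
  calc f m • f m • z = f m • (s • m) := by rw [hs']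
    _ = (s * f m) • m := by rw [smul_smul, mul_comm]
    _ = 0 := by rw [h1, zero_smul]

theorem invertible_aux2 (f : Module.Dual R M) (m y : M) :
    f m • f m • (f m • y) = f m • f m • (f y • m) := by
  have hz : f (f m • y - f y • m) = 0 := by simp [mul_comm]
  have := invertible_aux f m _ hz
  rwa [smul_sub, smul_sub, sub_eq_zero] at this

theorem invertible_aux3 (f lam : Module.Dual R M) (m x y : M) :
    (f m) ^ 6 • (lam x • y) = (((f m) ^ 2 * f x) * lam m * ((f m) ^ 2 * f y)) • m := by
  have hx' : (f m) ^ 3 • x = ((f m) ^ 2 * f x) • m := by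
    rw [show (f m) ^ 3 = f m * (f m * f m) by ring,
      show (f m) ^ 2 * f x = f m * (f m * f x) by ring]
    simp only [mul_smul]
    exact invertible_aux2 f m x
  have hy' : (f m) ^ 3 • y = ((f m) ^ 2 * f y) • m := by
    rw [show (f m) ^ 3 = f m * (f m * f m) by ring,
      show (f m) ^ 2 * f y = f m * (f m * f y) by ring]
    simp only [mul_smul]
    exact invertible_aux2 f m y
  calc (f m) ^ 6 • (lam x • y) = lam ((f m) ^ 3 • x) • ((f m) ^ 3 • y) := by
        rw [map_smul, smul_eq_mul, smul_smul, smul_smul]; congr 1; ring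
    _ = (((f m) ^ 2 * f x) * lam m * ((f m) ^ 2 * f y)) • m := by
        rw [hx', hy', map_smul, smul_eq_mul, smul_smul]

theorem exists_partition (R : Type u) (M : Type w) [CommRing R] [AddCommGroup M] [Module R M]
    [Module.Invertible R M] :
    ∃ S : Finset (Module.Dual R M × M), (1 : R) = ∑ i ∈ S, i.1 i.2 := by
  classical
  obtain ⟨S, hS⟩ := ((Module.Invertible.linearEquiv R M).symm 1).exists_finset
  refine ⟨S, ?_⟩
  have := congrArg (Module.Invertible.linearEquiv R M) hS
  rw [LinearEquiv.apply_symm_apply, map_sum] at this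
  rw [this]
  refine Finset.sum_congr rfl fun i _ => ?_
  simp [Module.Invertible.linearEquiv]

/-- The rank one identity in an invertible module. -/
theorem invertible_rank_one (lam : Module.Dual R M) (x y : M) : lam x • y = lam y • x := by
  classical
  obtain ⟨S, h1⟩ := exists_partition R M
  let s : Set R := (fun i : Module.Dual R M × M => i.1 i.2) '' (S : Set _)
  have hs : Ideal.span s = ⊤ := by
    rw [Ideal.eq_top_iff_one, h1]
    exact Ideal.sum_mem _ fun i hi => Ideal.subset_span ⟨i, hi, rfl⟩
  have hs6 := Ideal.span_pow_eq_top s hs 6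
  have hle : Ideal.span ((fun a => a ^ 6) '' s) ≤
      LinearMap.ker (LinearMap.toSpanSingleton R M (lam x • y - lam y • x)) := by
    rw [Ideal.span_le]
    rintro _ ⟨_, ⟨i, _, rfl⟩, rfl⟩
    rw [SetLike.mem_coe, LinearMap.mem_ker, LinearMap.toSpanSingleton_apply, smul_sub,
      sub_eq_zero]
    show (i.1 i.2) ^ 6 • (lam x • y) = (i.1 i.2) ^ 6 • (lam y • x)
    rw [invertible_aux3 i.1 lam i.2 x y, invertible_aux3 i.1 lam i.2 y x]
    congr 1; ring
  have : (1 : R) ∈ LinearMap.ker (LinearMap.toSpanSingleton R M (lam x • y - lam y • x)) :=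
    hle (hs6 ▸ Submodule.mem_top)
  rw [LinearMap.mem_ker, LinearMap.toSpanSingleton_apply, one_smul] at this
  exact sub_eq_zero.mp this

variable {R' : Type v} {M' : Type*} [CommRing R'] [Algebra R R']
  [AddCommGroup M'] [Module R M'] [Module R' M'] [IsScalarTower R R' M']

theorem different_le_map_of_invertible (f : M →ₗ[R] M') (hf : IsBaseChange R' f) (τ : M) :
    QFDual.different R' (f τ) ≤ Ideal.map (algebraMap R R') (QFDual.different R τ) := by
  classical
  obtain ⟨S, h1⟩ := exists_partition R M
  intro r' hr'
  rw [QFDual.mem_different_iff] at hr'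
  have hc : ∀ i : Module.Dual R M × M, ∃ c : R', c • f τ = r' • f i.2 := fun i => hr' (f i.2)
  choose c' hc' using hc
  let lam' : Module.Dual R M → (M' →ₗ[R'] R') :=
    fun l => hf.lift ((Algebra.linearMap R R') ∘ₗ l)
  have hlam' : ∀ l m, lam' l (f m) = algebraMap R R' (l m) := fun l m => hf.lift_eq _ m
  have key : r' = ∑ i ∈ S, c' i * algebraMap R R' (i.1 τ) := by
    calc r' = r' * algebraMap R R' 1 := by rw [map_one, mul_one]
      _ = ∑ i ∈ S, r' * algebraMap R R' (i.1 i.2) := by rw [h1, map_sum, Finset.mul_sum]
      _ = ∑ i ∈ S, c' i * algebraMap R R' (i.1 τ) := Finset.sum_congr rfl fun i _ => by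
          calc r' * algebraMap R R' (i.1 i.2) = r' • lam' i.1 (f i.2) := by
                rw [hlam', smul_eq_mul]
            _ = lam' i.1 (r' • f i.2) := (map_smul _ _ _).symm
            _ = lam' i.1 (c' i • f τ) := by rw [hc']
            _ = c' i • lam' i.1 (f τ) := map_smul _ _ _
            _ = c' i * algebraMap R R' (i.1 τ) := by rw [hlam', smul_eq_mul]
  rw [key]
  refine Ideal.sum_mem _ fun i _ => Ideal.mul_mem_left _ _ (Ideal.mem_map_of_mem _ ?_)
  rw [QFDual.mem_different_iff]
  intro m
  exact ⟨i.1 m, invertible_rank_one i.1 m τ⟩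

theorem map_different_eq_of_invertible (f : M →ₗ[R] M') (hf : IsBaseChange R' f) (τ : M) :
    Ideal.map (algebraMap R R') (QFDual.different R τ) = QFDual.different R' (f τ) :=
  le_antisymm (map_different_le f hf τ) (different_le_map_of_invertible f hf τ)

end Invertible

section Omega

/-- Setup: for `B` finite free over `A`, `bcFin` exhibits `Hom_{A'}(B', A')` as the base change of
`Hom_A(B, A)` along `B → B'`. -/
theorem omega_elim {motive : Prop} (A B A' B' : Type u) [CommRing A] [CommRing B] [CommRing A']
    [CommRing B'] [Algebra A B] [Module.Finite A B] [Module.Free A B]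
    [Algebra A A'] [Algebra B B'] [Algebra A' B'] [Algebra A B'] [IsScalarTower A A' B']
    [IsScalarTower A B B'] (hB : Algebra.IsPushout A A' B B')
    (H : ∀ [Module B (Disc.Omega A' B')] [IsScalarTower B B' (Disc.Omega A' B')]
      (f : Disc.Omega A B →ₗ[B] Disc.Omega A' B'), IsBaseChange B' f →
        (∀ φ, f φ = QFDual.bcFin hB φ) → Module.Finite B (Disc.Omega A B) → motive) :
    motive := by
  letI iBΩ₁ : Module B (Disc.Omega A' B') := Module.compHom _ (algebraMap B B')
  haveI : IsScalarTower B B' (Disc.Omega A' B') :=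
    IsScalarTower.of_algebraMap_smul fun r x => rfl
  letI iAΩ : Module A (Disc.Omega A B) := Module.compHom _ (algebraMap A B)
  haveI : IsScalarTower A B (Disc.Omega A B) :=
    IsScalarTower.of_algebraMap_smul fun r x => rfl
  letI iA₁Ω₁ : Module A' (Disc.Omega A' B') := Module.compHom _ (algebraMap A' B')
  haveI : IsScalarTower A' B' (Disc.Omega A' B') :=
    IsScalarTower.of_algebraMap_smul fun r x => rfl
  letI iAΩ₁ : Module A (Disc.Omega A' B') := Module.compHom _ (algebraMap A B')
  haveI : IsScalarTower A A' (Disc.Omega A' B') :=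
    IsScalarTower.of_algebraMap_smul fun r x => by
      show algebraMap A' B' (algebraMap A A' r) • x = algebraMap A B' r • x
      rw [← IsScalarTower.algebraMap_apply]
  have h2 : IsBaseChange A' hB.out.toDual := IsBaseChange.dual hB.out
  let eM : (B →ₗ[A] A) ≃ₗ[A] Disc.Omega A B :=
    { toFun := fun φ => ⟨φ⟩
      invFun := fun ω => ω.toLinearMap
      map_add' := fun _ _ => rfl
      map_smul' := fun a φ => by
        refine Disc.Omega.ext (LinearMap.ext fun x => ?_)
        show a • φ x = φ (algebraMap A B a * x)
        rw [← Algebra.smul_def, map_smul]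
      left_inv := fun _ => rfl
      right_inv := fun _ => rfl }
  let eN : (B' →ₗ[A'] A') ≃ₗ[A'] Disc.Omega A' B' :=
    { toFun := fun φ => ⟨φ⟩
      invFun := fun ω => ω.toLinearMap
      map_add' := fun _ _ => rfl
      map_smul' := fun a φ => by
        refine Disc.Omega.ext (LinearMap.ext fun x => ?_)
        show a • φ x = φ (algebraMap A' B' a * x)
        rw [← Algebra.smul_def, map_smul]
      left_inv := fun _ => rfl
      right_inv := fun _ => rfl }
  let g : Disc.Omega A B →ₗ[A] Disc.Omega A' B' :=
    { toFun := QFDual.bcFin hB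
      map_add' := map_add _
      map_smul' := fun a φ => by
        show QFDual.bcFin hB (algebraMap A B a • φ) = algebraMap A B' a • QFDual.bcFin hB φ
        rw [(QFDual.bcFin hB).map_smulₛₗ, ← IsScalarTower.algebraMap_apply] }
  have h3 : IsBaseChange A' g := by
    refine (IsBaseChange.iff_of_equiv_comm eM eN ?_).mp h2
    refine LinearMap.ext fun φ => ?_
    rfl
  let f : Disc.Omega A B →ₗ[B] Disc.Omega A' B' :=
    { toFun := QFDual.bcFin hB
      map_add' := map_add _
      map_smul' := fun r φ => (QFDual.bcFin hB).map_smulₛₗ r φ }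
  have h4 : IsBaseChange B' f := OmegaBC.isBaseChange_of_isPushout hB g h3 f (fun m => rfl)
  haveI : Module.Finite A (Disc.Omega A B) := Module.Finite.equiv eM
  haveI : Module.Finite B (Disc.Omega A B) := Module.Finite.of_restrictScalars_finite A B _
  exact H f h4 (fun _ => rfl) inferInstance

theorem map_different_radical (A B A' B' : Type u) [CommRing A] [CommRing B] [CommRing A']
    [CommRing B'] [Algebra A B] [Module.Finite A B] [Module.Free A B]
    [Algebra A A'] [Algebra B B'] [Algebra A' B'] [Algebra A B'] [IsScalarTower A A' B']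
    [IsScalarTower A B B'] (hB : Algebra.IsPushout A A' B B') [Module.Finite A' B']
    [Module.Free A' B'] :
    Ideal.map (algebraMap B B') (QFDual.different B (Disc.Omega.trace A B)) ≤
        QFDual.different B' (Disc.Omega.trace A' B') ∧
      (Ideal.map (algebraMap B B') (QFDual.different B (Disc.Omega.trace A B))).radical =
        (QFDual.different B' (Disc.Omega.trace A' B')).radical := by
  refine omega_elim A B A' B' hB ?_
  intro _ _ f hf hfτ hfin
  rw [← DifferentBC.bcFin_trace hB, ← hfτ]
  exact different_baseChange_radical f hf (Disc.Omega.trace A B)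

theorem map_different_eq_of_invertible_omega (A B A' B' : Type u) [CommRing A] [CommRing B]
    [CommRing A'] [CommRing B'] [Algebra A B] [Module.Finite A B] [Module.Free A B]
    [Algebra A A'] [Algebra B B'] [Algebra A' B'] [Algebra A B'] [IsScalarTower A A' B']
    [IsScalarTower A B B'] (hB : Algebra.IsPushout A A' B B') [Module.Finite A' B']
    [Module.Free A' B'] [Module.Invertible B (Disc.Omega A B)] :
    Ideal.map (algebraMap B B') (QFDual.different B (Disc.Omega.trace A B)) =
      QFDual.different B' (Disc.Omega.trace A' B') := by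
  refine omega_elim A B A' B' hB ?_
  intro _ _ f hf hfτ hfin
  rw [← DifferentBC.bcFin_trace hB, ← hfτ]
  exact map_different_eq_of_invertible f hf (Disc.Omega.trace A B)

end Omega

end Groth.Agent.Lib.Helper6.DifferentBC2
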