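import Mathlib
import Groth.Agent.Lib.Helper10.IndCofDiv
set_option autoImplicit false
open CategoryTheory CategoryTheory.Limits H10Ind
universe v u

namespace Groth.Agent.Lib.Helper6.DivQuotFin

variable {𝒜 : Type u} [Category.{v} 𝒜] [Abelian 𝒜] {P : ObjectProperty 𝒜}

/-- If `j • 𝟙 (A / B') = 0`, `B'` is `p`-divisible and `p` is coprime to `j`, then `p • 𝟙 A` is epi. -/
lemma epi_nsmul_of_coprime (A : 𝒜) (B' : Subobject A) (j : ℕ)
    (hkill : j • 𝟙 (cokernel B'.arrow) = 0) (p : ℕ) (hp1 : 1 < p) (hcop : Nat.Coprime j p)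
    (hdiv : Epi (p • 𝟙 (B' : 𝒜))) : Epi (p • 𝟙 A) := by
  rw [epi_iff_surjective_up_to_refinements]
  intro T x
  obtain ⟨m, -, hm⟩ := Nat.exists_mul_mod_eq_one_of_coprime hcop hp1
  set q := j * m / p with hq
  have hjm : j * m = p * q + 1 := by
    have := Nat.div_add_mod (j * m) p
    rw [hm] at this
    exact this.symm
  -- `(j*m) • x` factors through `B'`
  have hfac : B'.Factors ((j * m) • x) := by
    apply factors_of_comp_cokernel
    have e1 : ((j * m) • x) ≫ cokernel.π B'.arrow =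
        (m • (x ≫ cokernel.π B'.arrow)) ≫ (j • 𝟙 (cokernel B'.arrow)) := by
      rw [Preadditive.comp_nsmul, Category.comp_id, Preadditive.nsmul_comp, ← mul_nsmul,
        mul_comm m j]
    rw [e1, hkill, comp_zero]
  obtain ⟨T', π, hπ, b'', hb''⟩ := surjective_up_to_refinements_of_epi (p • 𝟙 (B' : 𝒜))
    (B'.factorThru _ hfac)
  refine ⟨T', π, hπ, b'' ≫ B'.arrow - π ≫ (q • x), ?_⟩
  have h1 : π ≫ ((j * m) • x) = p • (b'' ≫ B'.arrow) := by
    rw [← Subobject.factorThru_arrow B' _ hfac, ← Category.assoc, hb'', Category.assoc,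
      Preadditive.nsmul_comp, Category.id_comp, Preadditive.comp_nsmul]
  have h2 : (j * m) • x = p • (q • x) + x := by
    rw [hjm, add_nsmul, one_nsmul, mul_nsmul']
  have h3 : π ≫ x = π ≫ ((j * m) • x) - π ≫ (p • (q • x)) := by
    rw [h2, Preadditive.comp_add]
    abel
  rw [h3, h1, Preadditive.comp_nsmul π, Preadditive.comp_nsmul _ (𝟙 A), Category.comp_id,
    smul_sub]

theorem finite_of_divQuot (htorP : ∀ T, P T → ∃ n, 0 < n ∧ n • 𝟙 T = 0) (A : 𝒜)
    (B' : Subobject A) (hdiv : ∀ k : ℕ, 0 < k → Epi (k • 𝟙 (B' : 𝒜)))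
    (hQ : P (cokernel B'.arrow)) : {p : ℕ | p.Prime ∧ ¬ Epi (p • 𝟙 A)}.Finite := by
  obtain ⟨j, hj, hkill⟩ := htorP _ hQ
  refine Set.Finite.subset (Set.finite_le_nat j) ?_
  rintro p ⟨hp, hne⟩
  by_contra hle
  apply hne
  have hnd : ¬ p ∣ j := fun h => hle (Nat.le_of_dvd hj h)
  have hcop : Nat.Coprime j p := ((Nat.Prime.coprime_iff_not_dvd hp).mpr hnd).symm
  exact epi_nsmul_of_coprime A B' j hkill p hp.one_lt hcop (hdiv p hp.pos)

end Groth.Agent.Lib.Helper6.DivQuotFin
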