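import Mathlib
import Groth.Prelude.Def_AlgSpMor5
import Groth.Agent.S9964
import Groth.Agent.S9919
import Groth.Agent.S9902
import Groth.Agent.Lib.Helper16.SchImgFlat
import Groth.Agent.Lib.Helper16.FpqcMono
import Groth.Agent.Lib.Helper16.ZmtSp1
import Groth.Agent.Lib.Helper16.QAffGeom

/-!
# Helper library (helper6): lifting a valuative square after a dominating extension, separated case

For a separated morphism of algebraic spaces, a valuative square which has a lift after a dominating extension of the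
valuation ring has a lift.  The proof: the scheme theoretic image `Z` of the section `Spec K ⟶ X ×_Y Spec A` commutes
with the flat base change `Spec A' ⟶ Spec A`; over `Spec A'` the section extends, hence its image is `Spec A'`; by
fpqc descent of isomorphisms `Z ⟶ Spec A` is an isomorphism.
-/

set_option autoImplicit false
universe u
open CategoryTheory CategoryTheory.Limits AlgebraicGeometry
open AlgSp Groth.Agent.Lib.Helper16

namespace Groth.Agent.Lib.Helper6.DomExtLift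

variable {S : Scheme.{u}}

/-! ### Ring theory -/

theorem injective_of_isLocalization {R₀ L L' : Type*} [CommRing R₀] [CommRing L] [CommRing L'] [Algebra R₀ L]
    (M : Submonoid R₀) [IsLocalization M L] (g : L →+* L')
    (hg : Function.Injective (g.comp (algebraMap R₀ L))) : Function.Injective g := by
  rw [injective_iff_map_eq_zero]
  intro x hx
  obtain ⟨a, s, rfl⟩ := IsLocalization.exists_mk'_eq M x
  have h1 : g (algebraMap R₀ L a) = 0 := by
    rw [← IsLocalization.mk'_spec L a s, map_mul, hx, zero_mul]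
  have ha : a = 0 := hg (by
    show g (algebraMap R₀ L a) = g (algebraMap R₀ L 0)
    rw [h1, map_zero, map_zero])
  rw [ha, IsLocalization.mk'_zero]

theorem flat_of_injective {A A' : Type u} [CommRing A] [IsDomain A] [ValuationRing A] [CommRing A'] [IsDomain A']
    [Algebra A A'] (hinj : Function.Injective (algebraMap A A')) : Module.Flat A A' := by
  rw [Module.Flat.flat_iff_torsion_eq_bot_of_isBezout, eq_bot_iff]
  rintro x ⟨⟨a, ha⟩, hax⟩
  have h1 : a • x = 0 := hax
  rw [Algebra.smul_def] at h1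
  rcases mul_eq_zero.1 h1 with h | h
  · exfalso
    have h0 : a = 0 := hinj (by rw [h, map_zero])
    exact nonZeroDivisors.ne_zero ha h0
  · exact (Submodule.mem_bot A).2 h

theorem faithfullyFlat_of_dominates {A A' : Type u} [CommRing A] [IsDomain A] [ValuationRing A] [CommRing A']
    [IsDomain A'] [IsLocalRing A'] (φ : A →+* A') (hinj : Function.Injective φ) (hloc : IsLocalHom φ) :
    φ.FaithfullyFlat := by
  letI : Algebra A A' := φ.toAlgebra
  have hflat : Module.Flat A A' := flat_of_injective hinj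
  have hl : IsLocalHom (algebraMap A A') := hloc
  exact Module.FaithfullyFlat.of_flat_of_isLocalHom

theorem exists_pushout_data {A A' K K' : Type u} [CommRing A] [CommRing A'] [Field K] [Field K'] [Algebra A K]
    [Algebra A' K'] [IsFractionRing A K] [IsFractionRing A' K']
    (φ : A →+* A') (ψ : K →+* K') (hcomm : (algebraMap A' K').comp φ = ψ.comp (algebraMap A K)) :
    ∃ (L : CommRingCat.{u}) (a : CommRingCat.of A' ⟶ L) (b : CommRingCat.of K ⟶ L) (m : L ⟶ CommRingCat.of K'),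
      IsPushout (CommRingCat.ofHom φ) (CommRingCat.ofHom (algebraMap A K)) a b ∧
      a ≫ m = CommRingCat.ofHom (algebraMap A' K') ∧ b ≫ m = CommRingCat.ofHom ψ ∧
      Function.Injective m.hom := by
  have hpo := CommRingCat.isPushout_of_isLocalization φ
    (IsLocalization.map (Localization ((nonZeroDivisors A).map φ)) φ
      (Submonoid.le_comap_map (nonZeroDivisors A)) : K →+* Localization ((nonZeroDivisors A).map φ))
    (IsLocalization.map_comp _) (nonZeroDivisors A)
  have w : CommRingCat.ofHom φ ≫ CommRingCat.ofHom (algebraMap A' K') =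
      CommRingCat.ofHom (algebraMap A K) ≫ CommRingCat.ofHom ψ := by
    rw [← CommRingCat.ofHom_comp, ← CommRingCat.ofHom_comp, hcomm]
  refine ⟨_, _, _, hpo.desc _ _ w, hpo, hpo.inl_desc _ _ w, hpo.inr_desc _ _ w, ?_⟩
  have h3 : (hpo.desc _ _ w).hom.comp (algebraMap A' (Localization ((nonZeroDivisors A).map φ))) =
      algebraMap A' K' := congrArg CommRingCat.Hom.hom (hpo.inl_desc _ _ w)
  refine injective_of_isLocalization (L := Localization ((nonZeroDivisors A).map φ))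
    ((nonZeroDivisors A).map φ) _ ?_
  rw [h3]
  exact IsFractionRing.injective A' K'

/-! ### Closed subschemes of `Spec R` through which a dominant `Spec R₁` factors -/

theorem isIso_of_factor {R R₁ : CommRingCat.{u}} (m : R ⟶ R₁) (hm : Function.Injective m.hom)
    {W₀ : Scheme.{u}} (c : W₀ ⟶ Spec R) (hc : IsClosedImmersion c) (d₀ : Spec R₁ ⟶ W₀)
    (h : d₀ ≫ c = Spec.map m) : IsIso c := by
  obtain ⟨I, e, he⟩ := IsClosedImmersion.Spec_iff.1 hc
  obtain ⟨n, hn⟩ : ∃ n : CommRingCat.of (R ⧸ I) ⟶ R₁, Spec.map n = d₀ ≫ e.hom :=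
    ⟨Spec.preimage (d₀ ≫ e.hom), Spec.map_preimage _⟩
  have h1 : CommRingCat.ofHom (Ideal.Quotient.mk I) ≫ n = m := by
    apply Spec.map_injective
    rw [Spec.map_comp, hn, Category.assoc, ← he, h]
  have hI : ∀ x, x ∈ I → x = 0 := by
    intro x hx
    have h2 : m.hom x = n.hom (Ideal.Quotient.mk I x) := by
      rw [← h1]
      rfl
    have h3 : m.hom x = 0 := by rw [h2, Ideal.Quotient.eq_zero_iff_mem.2 hx, map_zero]
    exact hm (by rw [h3, map_zero])
  have hbij : Function.Bijective (Ideal.Quotient.mk I) := by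
    refine ⟨?_, Ideal.Quotient.mk_surjective⟩
    rw [injective_iff_map_eq_zero]
    intro x hx
    exact hI x (Ideal.Quotient.eq_zero_iff_mem.1 hx)
  have hiso : IsIso (CommRingCat.ofHom (Ideal.Quotient.mk I)) :=
    (ConcreteCategory.isIso_iff_bijective _).2 hbij
  rw [he]
  infer_instance

/-- Every closed subscheme of the target through which `d` factors is everything. -/
def DomHyp {W W₁ : Over S} (d : W₁ ⟶ W) : Prop :=
  ∀ (W₀ : Scheme.{u}) (c : W₀ ⟶ W.left), IsClosedImmersion c → ∀ d₀ : W₁.left ⟶ W₀, d₀ ≫ c = d.left → IsIso c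

theorem factors_of_dominant {C G : Sp S} (i : C ⟶ G) (hi : RepWith @IsClosedImmersion i)
    {W W₁ : Over S} (d : W₁ ⟶ W) (hd : DomHyp d) (w : (yon S).obj W ⟶ G) (t₁ : (yon S).obj W₁ ⟶ C)
    (h : t₁ ≫ i = (yon S).map d ≫ w) : ∃ t : (yon S).obj W ⟶ C, t ≫ i = w := by
  obtain ⟨V, c, fst, sq⟩ := hi.rep w
  have hc : IsClosedImmersion c.left := hi.property w fst c sq
  obtain ⟨d₀, hd₀⟩ := (yon S).map_surjective (sq.lift t₁ ((yon S).map d) h)
  have h2 : d₀ ≫ c = d := (yon S).map_injective (by rw [Functor.map_comp, hd₀, sq.lift_snd])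
  have hiso : IsIso c.left := hd _ c.left hc d₀.left (by rw [← Over.comp_left, h2])
  have hiso' : IsIso ((Over.forget S).map c) := hiso
  have hisoc : IsIso c := isIso_of_reflects_iso c (Over.forget S)
  refine ⟨(yon S).map (inv c) ≫ fst, ?_⟩
  rw [Category.assoc, sq.w, ← Category.assoc, ← Functor.map_comp, IsIso.inv_hom_id, CategoryTheory.Functor.map_id,
    Category.id_comp]

theorem eq_of_separated {F G : Sp S} (p : F ⟶ G) (hp : IsSeparatedMor p) {W W₁ : Over S} (d : W₁ ⟶ W)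
    (hd : DomHyp d) (u v : (yon S).obj W ⟶ F) (h1 : u ≫ p = v ≫ p)
    (h2 : (yon S).map d ≫ u = (yon S).map d ≫ v) : u = v := by
  obtain ⟨t, ht⟩ := factors_of_dominant (pullback.diagonal p) hp d hd (pullback.lift u v h1)
    ((yon S).map d ≫ u) (by
      apply pullback.hom_ext
      · simp only [Category.assoc, pullback.diagonal_fst, Category.comp_id, pullback.lift_fst]
      · simp only [Category.assoc, pullback.diagonal_snd, Category.comp_id, pullback.lift_snd]
        exact h2)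
  have e1 := congrArg (fun x => x ≫ pullback.fst p p) ht
  have e2 := congrArg (fun x => x ≫ pullback.snd p p) ht
  simp only [Category.assoc, pullback.diagonal_fst, Category.comp_id, pullback.lift_fst] at e1
  simp only [Category.assoc, pullback.diagonal_snd, Category.comp_id, pullback.lift_snd] at e2
  rw [← e1, ← e2]

/-! ### A single flat surjective affine morphism satisfies the refinement clause of fpqc coverings -/

theorem fpqcRefines_single {V T : Over S} (q : V ⟶ T) (hq_flat : Flat q.left) (hq_surj : Surjective q.left)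
    (hq_aff : IsAffineHom q.left) :
    FpqcRefines (fun _ : PUnit.{u + 1} => (yon S).obj V) (fun _ => (yon S).map q) := by
  intro Z' hZ' h
  obtain ⟨h', rfl⟩ := (yon S).map_surjective h
  have sqW := isPullback_left_forget h' q
  refine ⟨1, fun _ => pullback h' q, fun _ => pullback.fst _ _, fun _ => ?_,
    fun _ => ?_, fun z => ⟨0, ?_⟩, fun _ => ⟨PUnit.unit, (yon S).map (pullback.snd _ _), ?_⟩⟩
  · have : IsAffineHom (pullback.fst h' q).left :=
      MorphismProperty.of_isPullback (P := @IsAffineHom) sqW.flip hq_aff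
    have : IsAffine Z'.left := hZ'
    exact isAffine_of_isAffineHom (pullback.fst h' q).left
  · exact MorphismProperty.of_isPullback sqW.flip hq_flat
  · have : Surjective (pullback.fst h' q).left :=
      MorphismProperty.of_isPullback sqW.flip hq_surj
    exact (pullback.fst h' q).left.surjective z
  · rw [← Functor.map_comp, ← Functor.map_comp, pullback.condition]

/-! ### The core argument -/

theorem core {X Y : Sp S} (hX : IsAlgSpace X) (hY : IsAlgSpace Y) (f : X ⟶ Y) (hf : IsSeparatedMor f)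
    {T T' TK TK' P : Over S} (j : TK ⟶ T) (φT : T' ⟶ T) (jA' : TK' ⟶ T') (ψT : TK' ⟶ TK)
    (pK : P ⟶ TK) (pA' : P ⟶ T') (d : TK' ⟶ P)
    (hP : IsPullback pK pA' j φT) (hd1 : d ≫ pK = ψT) (hd2 : d ≫ pA' = jA')
    (hdomA : DomHyp jA') (hdomP : DomHyp d) (hflat : Flat φT.left)
    (href : FpqcRefines (fun _ : PUnit.{u + 1} => (yon S).obj T') (fun _ => (yon S).map φT))
    (hjqc : QuasiCompact j.left)
    (top : (yon S).obj TK ⟶ X) (bot : (yon S).obj T ⟶ Y) (comm : top ≫ f = (yon S).map j ≫ bot)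
    (l' : (yon S).obj T' ⟶ X) (hl1 : (yon S).map jA' ≫ l' = (yon S).map ψT ≫ top)
    (hl2 : l' ≫ f = (yon S).map φT ≫ bot) :
    ∃ l : (yon S).obj T ⟶ X, (yon S).map j ≫ l = top ∧ l ≫ f = bot := by
  -- the fibre product `G = X ×_Y Spec A`
  obtain ⟨G, p₁, p₂, sqG⟩ : ∃ (G : Sp S) (p₁ : G ⟶ X) (p₂ : G ⟶ (yon S).obj T), IsPullback p₁ p₂ f bot :=
    ⟨_, _, _, IsPullback.of_hasPullback f bot⟩
  have hG : IsAlgSpace G := isAlgSpace_of_isPullback hX hY.diag (IsAlgSpace.yon_obj T) sqG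
  have hp₂sep : IsSeparatedMor p₂ := ZmtSp.isSeparatedMor_of_isPullback sqG hf
  obtain ⟨s, hs1, hs2⟩ : ∃ s : (yon S).obj TK ⟶ G, s ≫ p₁ = top ∧ s ≫ p₂ = (yon S).map j :=
    ⟨sqG.lift top ((yon S).map j) comm, sqG.lift_fst _ _ _, sqG.lift_snd _ _ _⟩
  obtain ⟨lA, hlA1, hlA2⟩ : ∃ lA : (yon S).obj T' ⟶ G, lA ≫ p₁ = l' ∧ lA ≫ p₂ = (yon S).map φT :=
    ⟨sqG.lift l' ((yon S).map φT) hl2, sqG.lift_fst _ _ _, sqG.lift_snd _ _ _⟩
  have hsq : jA' ≫ φT = ψT ≫ j := by
    rw [← hd2, ← hd1, Category.assoc, Category.assoc, hP.w]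
  have hcompat : (yon S).map jA' ≫ lA = (yon S).map ψT ≫ s := by
    apply sqG.hom_ext
    · rw [Category.assoc, Category.assoc, hlA1, hs1, hl1]
    · rw [Category.assoc, Category.assoc, hlA2, hs2, ← Functor.map_comp, ← Functor.map_comp, hsq]
  -- the scheme theoretic image of `s`
  obtain ⟨Z, ι₀, hZimg⟩ := Groth.Agent.S9964.result (X := ⟨(yon S).obj TK, IsAlgSpace.yon_obj TK⟩)
    (Y := ⟨G, hG⟩) (ObjectProperty.homMk s)
  obtain ⟨Zo, hZo, ι, hZ⟩ : ∃ (Zo : Sp S) (_ : IsAlgSpace Zo) (ι : Zo ⟶ G), IsSchImage s ι :=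
    ⟨Z.obj, Z.property, ι₀.hom, hZimg⟩
  have hιci : RepWith @IsClosedImmersion ι := hZ.1
  obtain ⟨s', hs'⟩ := hZ.2.1
  -- step 1: the extended section factors through `Z`
  obtain ⟨σ, hσ⟩ : ∃ σ : (yon S).obj T' ⟶ Zo, σ ≫ ι = lA :=
    factors_of_dominant ι hιci jA' hdomA lA ((yon S).map ψT ≫ s') (by rw [Category.assoc, hs', hcompat])
  -- the base change to `Spec A'`
  obtain ⟨G', q₁, q₂, sqG'⟩ : ∃ (G' : Sp S) (q₁ : G' ⟶ G) (q₂ : G' ⟶ (yon S).obj T'),
      IsPullback q₁ q₂ p₂ ((yon S).map φT) := ⟨_, _, _, IsPullback.of_hasPullback _ _⟩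
  have hG' : IsAlgSpace G' :=
    isAlgSpace_of_isPullback hG (IsAlgSpace.yon_obj T).diag (IsAlgSpace.yon_obj T') sqG'
  have hq₂sep : IsSeparatedMor q₂ := ZmtSp.isSeparatedMor_of_isPullback sqG' hp₂sep
  have hflatφ : LocP @Flat ((yon S).map φT) :=
    (locP_iff_repWith etLocalST_flat (IsAlgSpace.yon_obj T') (IsAlgSpace.yon_obj T) _
      ((IsAlgSpace.yon_obj T).representable_from_yon _)).2 ((repWith_yon_map_iff @Flat φT).2 hflat)
  have hflatq₁ : LocP @Flat q₁ :=
    locP_of_isPullback etLocalST_flat (IsAlgSpace.yon_obj T') (IsAlgSpace.yon_obj T) sqG'.flip hflatφ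
  obtain ⟨Z', i₁, iV, sqZ⟩ : ∃ (Z' : Sp S) (i₁ : Z' ⟶ Zo) (iV : Z' ⟶ G'), IsPullback i₁ iV ι q₁ :=
    ⟨_, _, _, IsPullback.of_hasPullback _ _⟩
  have hZ'alg : IsAlgSpace Z' := isAlgSpace_of_isPullback hZo hG.diag hG' sqZ
  have hPsq : IsPullback ((yon S).map pK) ((yon S).map pA') ((yon S).map j) ((yon S).map φT) :=
    hP.map (yon S)
  obtain ⟨gX, hgX1, hgX2⟩ : ∃ gX : (yon S).obj P ⟶ G', gX ≫ q₁ = (yon S).map pK ≫ s ∧
      gX ≫ q₂ = (yon S).map pA' :=
    ⟨sqG'.lift ((yon S).map pK ≫ s) ((yon S).map pA') (by rw [Category.assoc, hs2, hPsq.w]),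
      sqG'.lift_fst _ _ _, sqG'.lift_snd _ _ _⟩
  have sqV : IsPullback ((yon S).map pK) gX s q₁ := by
    have big : IsPullback (gX ≫ q₂) ((yon S).map pK) ((yon S).map φT) (s ≫ p₂) := by
      rw [hgX2, hs2]
      exact hPsq.flip
    exact (IsPullback.of_right big hgX1 sqG'.flip).flip
  have hqc_s : IsQuasiCompactMor s := by
    have hjq : IsQuasiCompactMor ((yon S).map j) :=
      isQuasiCompactMor_of_repWith_quasiCompact _ ((repWith_yon_map_iff @QuasiCompact j).2 hjqc)
    have hp₂qs : IsQuasiSeparatedMor p₂ :=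
      MorphismProperty.relative_monotone (F := yon S) (fun _ _ g hg => by
        have : IsClosedImmersion g.left := hg
        show QuasiCompact g.left
        infer_instance) _ hp₂sep
    exact Groth.Agent.S9919.result (X := ⟨(yon S).obj TK, IsAlgSpace.yon_obj TK⟩) (Y := ⟨G, hG⟩)
      (Z := ⟨(yon S).obj T, IsAlgSpace.yon_obj T⟩) (ObjectProperty.homMk s) (ObjectProperty.homMk p₂)
      (by
        show IsQuasiCompactMor (s ≫ p₂)
        rw [hs2]
        exact hjq) hp₂qs
  have hZ' : IsSchImage gX iV :=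
    SchImg.isSchImage_flat_baseChange hG' hG (IsAlgSpace.yon_obj TK) hZo q₁ hflatq₁ s hqc_s ι
      hZ ((yon S).map pK) gX sqV i₁ iV sqZ
  -- the section over `Spec A'`
  obtain ⟨τ', hτ1, hτ2⟩ : ∃ τ' : (yon S).obj T' ⟶ G', τ' ≫ q₁ = lA ∧ τ' ≫ q₂ = 𝟙 _ :=
    ⟨sqG'.lift lA (𝟙 _) (by rw [hlA2, Category.id_comp]), sqG'.lift_fst _ _ _, sqG'.lift_snd _ _ _⟩
  have hτci : RepWith @IsClosedImmersion τ' :=
    (Groth.Agent.S9902.result (X := ⟨G', hG'⟩) (T := ⟨(yon S).obj T', IsAlgSpace.yon_obj T'⟩)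
      (ObjectProperty.homMk q₂) (ObjectProperty.homMk τ') (ObjectProperty.hom_ext _ hτ2)).2.2.2.2.2.1 hq₂sep
  have hfac : (gX ≫ q₂) ≫ τ' = gX := by
    apply sqG'.hom_ext
    · rw [Category.assoc, hτ1, hgX2, hgX1]
      refine eq_of_separated p₂ hp₂sep d hdomP _ _ ?_ ?_
      · rw [Category.assoc, Category.assoc, hlA2, hs2, hPsq.w]
      · rw [← Category.assoc, ← Category.assoc, ← Functor.map_comp, ← Functor.map_comp, hd2, hd1, hcompat]
    · rw [Category.assoc, hτ2, Category.comp_id]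
  obtain ⟨hiVci, -, hmin'⟩ := hZ'
  obtain ⟨k, hk⟩ := hmin' τ' (IsAlgSpace.yon_obj T') hτci ⟨gX ≫ q₂, hfac⟩
  have hk' : k = iV ≫ q₂ := by
    have h := congrArg (fun x => x ≫ q₂) hk
    simp only [Category.assoc, hτ2, Category.comp_id] at h
    exact h
  have hπτ : (iV ≫ q₂) ≫ τ' = iV := by
    rw [← hk']
    exact hk
  obtain ⟨σ'', hσ1, hσ2⟩ : ∃ σ'' : (yon S).obj T' ⟶ Z', σ'' ≫ i₁ = σ ∧ σ'' ≫ iV = τ' :=
    ⟨sqZ.lift σ τ' (by rw [hσ, hτ1]), sqZ.lift_fst _ _ _, sqZ.lift_snd _ _ _⟩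
  have hiVmono : Mono iV := SchImg.mono_of_repWith_isClosedImmersion iV hiVci
  have hiso' : IsIso (iV ≫ q₂) := by
    refine ⟨⟨σ'', ?_, ?_⟩⟩
    · rw [← cancel_mono iV, Category.assoc, hσ2, hπτ, Category.id_comp]
    · rw [← Category.assoc, hσ2, hτ2]
  -- descent
  have sqπ : IsPullback i₁ (iV ≫ q₂) (ι ≫ p₂) ((yon S).map φT) := sqZ.paste_vert sqG'
  have hisoπ : IsIso (ι ≫ p₂) :=
    isIso_of_fpqcRefines (IsAlgSpace.yon_obj T) (fun _ : PUnit.{u + 1} => (yon S).obj T')
      (fun _ => IsAlgSpace.yon_obj T') (fun _ => (yon S).map φT) href hZo (ι ≫ p₂) (fun _ => Z')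
      (fun _ => hZ'alg) (fun _ => iV ≫ q₂) (fun _ => i₁) (fun _ => sqπ) (fun _ => hiso')
  have hs'π : s' ≫ ι ≫ p₂ = (yon S).map j := by rw [← Category.assoc, hs', hs2]
  refine ⟨inv (ι ≫ p₂) ≫ ι ≫ p₁, ?_, ?_⟩
  · have h : (yon S).map j ≫ inv (ι ≫ p₂) = s' := by
      rw [← hs'π, Category.assoc, IsIso.hom_inv_id, Category.comp_id]
    rw [← Category.assoc, h, ← Category.assoc, hs', hs1]
  · rw [Category.assoc, Category.assoc, sqG.w, ← Category.assoc ι, IsIso.inv_hom_id_assoc]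

/-! ### The statement -/

/-- `Spec A' ⟶ Spec A` over `S`. -/
noncomputable abbrev φT {F G : Sp S} {f : F ⟶ G} {sq : ValSq f} (e : sq.DomExt) : e.ptA' ⟶ sq.ptA :=
  Over.homMk (Spec.map (CommRingCat.ofHom e.φ)) rfl

/-- `Spec K' ⟶ Spec A'` over `S`. -/
noncomputable abbrev jA' {F G : Sp S} {f : F ⟶ G} {sq : ValSq f} (e : sq.DomExt) : e.ptK' ⟶ e.ptA' :=
  Over.homMk (Spec.map (CommRingCat.ofHom (algebraMap e.A' e.K'))) rfl

/-- `Spec K' ⟶ Spec K` over `S`. -/
noncomputable abbrev ψT {F G : Sp S} {f : F ⟶ G} {sq : ValSq f} (e : sq.DomExt) : e.ptK' ⟶ sq.ptK :=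
  Over.homMk (Spec.map (CommRingCat.ofHom e.ψ)) (by
    change Spec.map _ ≫ Spec.map _ ≫ _ = Spec.map _ ≫ Spec.map _ ≫ _
    rw [← Spec.map_comp_assoc, ← Spec.map_comp_assoc, ← CommRingCat.ofHom_comp,
      ← CommRingCat.ofHom_comp, e.comm])

theorem exists_P {F G : Sp S} {f : F ⟶ G} (sq : ValSq f) (e : sq.DomExt) :
    ∃ (P : Over S) (pK : P ⟶ sq.ptK) (pA' : P ⟶ e.ptA') (d : e.ptK' ⟶ P),
      IsPullback pK pA' sq.j (φT e) ∧ d ≫ pK = ψT e ∧ d ≫ pA' = jA' e ∧ DomHyp d := by
  obtain ⟨L, a, b, m, hpo, hm1, hm2, hminj⟩ := exists_pushout_data e.φ e.ψ e.comm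
  have hsch : IsPullback (Spec.map b) (Spec.map a) (Spec.map (CommRingCat.ofHom (algebraMap sq.A sq.K)))
      (Spec.map (CommRingCat.ofHom e.φ)) := (isPullback_SpecMap_of_isPushout _ _ _ _ hpo).flip
  have hpKw : Spec.map b ≫ sq.ptK.hom = Spec.map a ≫ e.ptA'.hom := by
    show Spec.map b ≫ Spec.map _ ≫ sq.str = Spec.map a ≫ Spec.map _ ≫ sq.str
    rw [← Spec.map_comp_assoc, ← Spec.map_comp_assoc, hpo.w]
  have hdw : Spec.map m ≫ Spec.map a ≫ e.ptA'.hom = e.ptK'.hom := by
    show Spec.map m ≫ Spec.map a ≫ Spec.map _ ≫ sq.str = Spec.map _ ≫ Spec.map _ ≫ sq.str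
    rw [← Spec.map_comp_assoc, hm1]
  refine ⟨Over.mk (Spec.map a ≫ e.ptA'.hom), Over.homMk (Spec.map b) hpKw, Over.homMk (Spec.map a) rfl,
    Over.homMk (Spec.map m) hdw, ?_, ?_, ?_, ?_⟩
  · exact IsPullback.of_map (Over.forget S) (Over.OverMorphism.ext hsch.w) hsch
  · apply Over.OverMorphism.ext
    show Spec.map m ≫ Spec.map b = Spec.map _
    rw [← Spec.map_comp, hm2]
  · apply Over.OverMorphism.ext
    show Spec.map m ≫ Spec.map a = Spec.map _
    rw [← Spec.map_comp, hm1]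
  · intro W₀ c hc d₀ h
    exact isIso_of_factor m hminj c hc d₀ h

theorem main10284 {S : Scheme.{u}} {X Y : AlgSp.Space S} (f : X ⟶ Y)
    (hf : AlgSp.IsSeparatedMor f.hom) (sq : AlgSp.ValSq f.hom) (e : sq.DomExt) (he : e.HasLift) :
    sq.HasLift := by
  obtain ⟨l', hl1, hl2⟩ := he
  obtain ⟨P, pK, pA', d, hP, hd1, hd2, hdomP⟩ := exists_P sq e
  have hφinj : Function.Injective e.φ := by
    have h1 : Function.Injective ((algebraMap e.A' e.K').comp e.φ) := by
      rw [e.comm]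
      intro a b hab
      exact IsFractionRing.injective sq.A sq.K (e.ψ.injective hab)
    intro a b hab
    apply h1
    show algebraMap e.A' e.K' (e.φ a) = algebraMap e.A' e.K' (e.φ b)
    rw [hab]
  have hff : e.φ.FaithfullyFlat := faithfullyFlat_of_dominates e.φ hφinj e.isLocalHom
  obtain ⟨hflat, hsurj⟩ := (flat_and_surjective_SpecMap_iff (CommRingCat.ofHom e.φ)).2 hff
  have haff : IsAffineHom (Spec.map (CommRingCat.ofHom e.φ)) := inferInstance
  have href := fpqcRefines_single (φT e) hflat hsurj haff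
  have hjqc : QuasiCompact sq.j.left := by
    show QuasiCompact (Spec.map _)
    infer_instance
  have hdomA : DomHyp (jA' e) := by
    intro W₀ c hc d₀ h
    exact isIso_of_factor (CommRingCat.ofHom (algebraMap e.A' e.K')) (IsFractionRing.injective e.A' e.K')
      c hc d₀ h
  exact core X.property Y.property f.hom hf sq.j (φT e) (jA' e) (ψT e) pK pA' d hP hd1 hd2 hdomA hdomP hflat
    href hjqc sq.top sq.bot sq.comm l' hl1 hl2

end Groth.Agent.Lib.Helper6.DomExtLift
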