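import Groth.Prelude.Def_AlgSpSub
import Groth.Agent.Lib.Helper15.ToposQuot
import Groth.Agent.Lib.Helper15.CoprodPts
import Groth.Agent.Lib.Helper15.MonoInj
import Groth.Agent.Lib.Helper16.Charts
import Groth.Agent.Lib.Helper16.YonCoprod
import Groth.Agent.Lib.Helper16.MonoDescent
import Groth.Agent.Lib.Helper5.SheafGrpQuot

/-!
# Helper library (helper6): an elementary distinguished square is a pushout square

`(U ⊂ W, f : V → W)` elementary distinguished, `P = U ×_W V`.  Then `U ⨿ V ⟶ W` is an epimorphism of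
sheaves (hence an effective epimorphism), and a pair of maps `U ⟶ X`, `V ⟶ X` agreeing on `P` is
compatible with its kernel pair; the only nontrivial case is that of two points of `V` with the same
image in `W`, which agree locally either as points of `V` or come from `P`.
-/

set_option autoImplicit false
set_option backward.isDefEq.respectTransparency false
universe u
open CategoryTheory CategoryTheory.Limits AlgebraicGeometry Opposite

namespace Groth.Agent.Lib.Helper6.ElemDist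

open AlgSp Groth.Agent.Lib.Helper15 Groth.Agent.Lib.Helper16

variable {S : Scheme.{u}}

/-- The two-element family of schemes over `S`. -/
def bfam (A₁ A₂ : Over S) : Bool → Over S := fun b => bif b then A₁ else A₂

/-- The two-element family of morphisms. -/
def bmap {A A₁ A₂ : Over S} (s₁ : A₁ ⟶ A) (s₂ : A₂ ⟶ A) : ∀ b, bfam A₁ A₂ b ⟶ A
  | true => s₁
  | false => s₂

/-- Two etale morphisms which are jointly surjective generate a covering sieve. -/
theorem exists_sieve_of_binary_etale_cover {A A₁ A₂ : Over S} (s₁ : A₁ ⟶ A) (s₂ : A₂ ⟶ A)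
    (h₁ : Etale s₁.left) (h₂ : Etale s₂.left)
    (hsurj : ∀ x : A.left, x ∈ Set.range s₁.left ∨ x ∈ Set.range s₂.left) :
    ∃ R ∈ J S A, ∀ ⦃T' : Over S⦄ (g : T' ⟶ A), R g →
      (∃ g₁ : T' ⟶ A₁, g₁ ≫ s₁ = g) ∨ (∃ g₂ : T' ⟶ A₂, g₂ ≫ s₂ = g) := by
  have hcov : Sieve.generate (Presieve.ofArrows (bfam A₁ A₂) (bmap s₁ s₂)) ∈ J S A := by
    rw [J_eq, GrothendieckTopology.mem_over_iff]
    have hmem : Presieve.ofArrows (fun b => (bfam A₁ A₂ b).left) (fun b => (bmap s₁ s₂ b).left) ∈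
        Scheme.fppfPrecoverage A.left := by
      rw [Scheme.fppfPrecoverage, Scheme.ofArrows_mem_precoverage_iff]
      refine ⟨fun x => ?_, fun b => ?_⟩
      · rcases hsurj x with h | h
        · exact ⟨true, h⟩
        · exact ⟨false, h⟩
      · cases b
        · exact ⟨(inferInstance : Flat s₂.left), (inferInstance : LocallyOfFinitePresentation s₂.left)⟩
        · exact ⟨(inferInstance : Flat s₁.left), (inferInstance : LocallyOfFinitePresentation s₁.left)⟩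
    refine GrothendieckTopology.superset_covering _ ?_ (Precoverage.generate_mem_toGrothendieck hmem)
    rw [Sieve.generate_le_iff]
    rintro _ _ ⟨b⟩
    rw [Sieve.overEquiv_iff]
    refine ⟨bfam A₁ A₂ b, Over.homMk (𝟙 _) (by simp), bmap s₁ s₂ b, ⟨b⟩, ?_⟩
    ext1
    simp
  refine ⟨_, hcov, ?_⟩
  rintro T' g ⟨Y, h, g', ⟨b⟩, rfl⟩
  cases b
  · exact Or.inr ⟨h, rfl⟩
  · exact Or.inl ⟨h, rfl⟩

/-- Lifting into a representable fibre product. -/
theorem exists_lift_yon {F G : Sp S} {E A D : Over S} {fst : (yon S).obj E ⟶ F} {r : E ⟶ A} {φ : F ⟶ G}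
    {w : (yon S).obj A ⟶ G} (sq : IsPullback fst ((yon S).map r) φ w)
    (mF : (yon S).obj D ⟶ F) (mA : D ⟶ A) (h : mF ≫ φ = (yon S).map mA ≫ w) :
    ∃ m : D ⟶ E, (yon S).map m ≫ fst = mF ∧ m ≫ r = mA := by
  obtain ⟨m, hm⟩ := (yon S).map_surjective (sq.lift mF ((yon S).map mA) h)
  refine ⟨m, ?_, (yon S).map_injective ?_⟩
  · rw [hm, sq.lift_fst]
  · rw [Functor.map_comp, hm, sq.lift_snd]

theorem exists_lift_yon_yon {G : Sp S} {E B A D : Over S} {c : E ⟶ B} {r : E ⟶ A} {φ : (yon S).obj B ⟶ G}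
    {w : (yon S).obj A ⟶ G} (sq : IsPullback ((yon S).map c) ((yon S).map r) φ w)
    (mB : D ⟶ B) (mA : D ⟶ A) (h : (yon S).map mB ≫ φ = (yon S).map mA ≫ w) :
    ∃ m : D ⟶ E, m ≫ c = mB ∧ m ≫ r = mA := by
  obtain ⟨m, hm1, hm2⟩ := exists_lift_yon sq ((yon S).map mB) mA h
  refine ⟨m, (yon S).map_injective ?_, hm2⟩
  rw [Functor.map_comp, hm1]

theorem hom_ext_yon_yon {G : Sp S} {E B A D : Over S} {c : E ⟶ B} {r : E ⟶ A} {φ : (yon S).obj B ⟶ G}
    {w : (yon S).obj A ⟶ G} (sq : IsPullback ((yon S).map c) ((yon S).map r) φ w) (m m' : D ⟶ E)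
    (h1 : m ≫ c = m' ≫ c) (h2 : m ≫ r = m' ≫ r) : m = m' := by
  apply (yon S).map_injective
  apply sq.hom_ext
  · rw [← Functor.map_comp, ← Functor.map_comp, h1]
  · rw [← Functor.map_comp, ← Functor.map_comp, h2]

/-- A representing square. -/
theorem exists_rep {P : MorphismProperty Scheme.{u}} {F G : Sp S} {A : Over S} (φ : F ⟶ G)
    (hφ : RepWith P φ) (x : (yon S).obj A ⟶ G) :
    ∃ (E : Over S) (fst : (yon S).obj E ⟶ F) (r : E ⟶ A), IsPullback fst ((yon S).map r) φ x ∧ P r.left :=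
  ⟨_, _, _, hφ.rep.isPullback x, hφ.property_snd x⟩

/-- A representing square for a chart. -/
theorem exists_rep_yon {P Q : MorphismProperty Scheme.{u}} {G : Sp S} {B A : Over S}
    (β : (yon S).obj B ⟶ G) (hβ : RepWith P β) (hβ' : RepWith Q β) (x : (yon S).obj A ⟶ G) :
    ∃ (E : Over S) (c : E ⟶ B) (r : E ⟶ A), IsPullback ((yon S).map c) ((yon S).map r) β x ∧ P r.left ∧
      Q r.left := by
  have sq := hβ.rep.isPullback x
  obtain ⟨c, hc⟩ := (yon S).map_surjective (hβ.rep.fst x)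
  rw [← hc] at sq
  exact ⟨_, c, _, sq, hβ.property_snd x, hβ'.property _ _ _ sq⟩

/-- Fibre products in `Over S`, by hand. -/
theorem exists_pullback_over {X Y Z : Over S} (f : X ⟶ Z) (g : Y ⟶ Z) :
    ∃ (P : Over S) (π₁ : P ⟶ X) (π₂ : P ⟶ Y), π₁ ≫ f = π₂ ≫ g ∧
      IsPullback π₁.left π₂.left f.left g.left ∧
      ∀ {D : Over S} (m₁ : D ⟶ X) (m₂ : D ⟶ Y), m₁ ≫ f = m₂ ≫ g →
        ∃ m : D ⟶ P, m ≫ π₁ = m₁ ∧ m ≫ π₂ = m₂ := by
  have hπ : pullback.snd f.left g.left ≫ Y.hom = pullback.fst f.left g.left ≫ X.hom := by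
    calc pullback.snd f.left g.left ≫ Y.hom
        = pullback.snd f.left g.left ≫ g.left ≫ Z.hom := by rw [Over.w g]
      _ = pullback.fst f.left g.left ≫ f.left ≫ Z.hom := by rw [pullback.condition_assoc]
      _ = _ := by rw [Over.w f]
  refine ⟨Over.mk (pullback.fst f.left g.left ≫ X.hom), Over.homMk (pullback.fst f.left g.left) rfl,
    Over.homMk (pullback.snd f.left g.left) hπ, ?_, ?_, ?_⟩
  · apply Over.OverMorphism.ext
    exact pullback.condition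
  · exact IsPullback.of_hasPullback f.left g.left
  · intro D m₁ m₂ h
    have h' : m₁.left ≫ f.left = m₂.left ≫ g.left := congrArg CommaMorphism.left h
    refine ⟨Over.homMk (pullback.lift m₁.left m₂.left h') ?_, ?_, ?_⟩
    · show pullback.lift m₁.left m₂.left h' ≫ pullback.fst f.left g.left ≫ X.hom = D.hom
      rw [pullback.lift_fst_assoc, Over.w m₁]
    · apply Over.OverMorphism.ext
      exact pullback.lift_fst _ _ _
    · apply Over.OverMorphism.ext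
      exact pullback.lift_snd _ _ _

/-- Every point of `W` lies in `U` or comes from a point of `V`. -/
theorem point_cases {U V W : Sp S} (j : U ⟶ W) (f : V ⟶ W) (hsq : IsElemDistSq j f) (x : Points W) :
    x ∈ Set.range (Points.map j) ∨
      (x ∉ Set.range (Points.map j) ∧ ∃ ξ : Points V, Points.map f ξ = x) := by
  by_cases hx : x ∈ Set.range (Points.map j)
  · exact Or.inl hx
  · refine Or.inr ⟨hx, ?_⟩
    obtain ⟨-, -, T, P', i, p₁, p₂, hred, sq', hiso⟩ := hsq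
    have hx' : x ∈ Set.range (Points.map i) := by rw [hred.2.1]; exact hx
    obtain ⟨τ, rfl⟩ := hx'
    refine ⟨Points.map p₂ (Points.map (inv p₁) τ), ?_⟩
    rw [← Points.map_comp, ← Points.map_comp, ← sq'.w, IsIso.inv_hom_id_assoc]

/-- Points of `W` with values in a scheme lift, locally, to `U` or to `V`. -/
theorem exists_sieve_lift {U V W : Sp S} (hV : IsAlgSpace V) (j : U ⟶ W) (f : V ⟶ W)
    (hsq : IsElemDistSq j f) {A : Over S} (w : (yon S).obj A ⟶ W) :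
    ∃ R ∈ J S A, ∀ ⦃T' : Over S⦄ (g : T' ⟶ A), R g →
      (∃ u : (yon S).obj T' ⟶ U, u ≫ j = (yon S).map g ≫ w) ∨
      (∃ v : (yon S).obj T' ⟶ V, v ≫ f = (yon S).map g ≫ w) := by
  obtain ⟨B, β, hβe, hβs⟩ := hV.atlas
  have hφ : RepWith @Etale (β ≫ f) := hsq.2.1 β hβe
  obtain ⟨E, c, r, sqE, he, -⟩ := exists_rep_yon (β ≫ f) hφ hφ w
  obtain ⟨A₂, u₂, s₂, sq₂, ho⟩ := exists_rep j hsq.1 w
  have ho' : IsOpenImmersion s₂.left := ho
  have hsurj : ∀ α : A.left, α ∈ Set.range r.left ∨ α ∈ Set.range s₂.left := by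
    intro α
    rcases point_cases j f hsq (Points.ofPt w α) with ⟨υ, hυ⟩ | ⟨-, ξ, hξ⟩
    · obtain ⟨α₂, -, h2⟩ := exists_point_of_isPullback_yon sq₂ υ α hυ
      exact Or.inr ⟨α₂, h2⟩
    · obtain ⟨b₀, rfl⟩ := ofPt_surjective_of_surjective β hβs ξ
      obtain ⟨e, -, h2⟩ := exists_point_of_isPullback_yon_yon sqE b₀ α
        (by rw [← Points.map_ofPt]; exact hξ)
      exact Or.inl ⟨e, h2⟩
  obtain ⟨R, hR, hR'⟩ := exists_sieve_of_binary_etale_cover r s₂ he inferInstance hsurj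
  refine ⟨R, hR, fun T' g hg => ?_⟩
  rcases hR' g hg with ⟨g₁, rfl⟩ | ⟨g₂, rfl⟩
  · refine Or.inr ⟨(yon S).map (g₁ ≫ c) ≫ β, ?_⟩
    simp only [Functor.map_comp, Category.assoc]
    rw [sqE.w]
  · refine Or.inl ⟨(yon S).map g₂ ≫ u₂, ?_⟩
    simp only [Functor.map_comp, Category.assoc]
    rw [sq₂.w]

/-- Two points of `V` with the same image in `W` agree, locally, or their image comes from `U`. -/
theorem exists_sieve_eq {U V W : Sp S} (hV : IsAlgSpace V) (j : U ⟶ W) (f : V ⟶ W)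
    (hsq : IsElemDistSq j f) {A : Over S} (x₁ x₂ : (yon S).obj A ⟶ V) (hx : x₁ ≫ f = x₂ ≫ f) :
    ∃ R ∈ J S A, ∀ ⦃T' : Over S⦄ (g : T' ⟶ A), R g →
      ((yon S).map g ≫ x₁ = (yon S).map g ≫ x₂) ∨
      (∃ u : (yon S).obj T' ⟶ U, u ≫ j = (yon S).map g ≫ x₁ ≫ f) := by
  obtain ⟨B, β, hβe, hβs⟩ := hV.atlas
  have hφ : RepWith @Etale (β ≫ f) := hsq.2.1 β hβe
  obtain ⟨E₁, c₁, r₁, sq1, he1, -⟩ := exists_rep_yon β hβe hβe x₁
  obtain ⟨E₂, c₂, r₂, sq2, he2, -⟩ := exists_rep_yon β hβe hβe x₂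
  obtain ⟨E, c, r, sqE, he, -⟩ := exists_rep_yon (β ≫ f) hφ hφ (x₁ ≫ f)
  obtain ⟨A₂, u₂, s₂, sq₂, ho⟩ := exists_rep j hsq.1 (x₁ ≫ f)
  have he1' : Etale r₁.left := he1
  have he2' : Etale r₂.left := he2
  have he' : Etale r.left := he
  have ho' : IsOpenImmersion s₂.left := ho
  obtain ⟨e₁, he₁c, he₁r⟩ := exists_lift_yon_yon sqE c₁ r₁
    (by rw [← Category.assoc, sq1.w, Category.assoc])
  obtain ⟨e₂, he₂c, he₂r⟩ := exists_lift_yon_yon sqE c₂ r₂
    (by rw [← Category.assoc, sq2.w, Category.assoc, hx])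
  obtain ⟨E₁₂, π₁, π₂, hπe, hpb, hlift⟩ := exists_pullback_over e₁ e₂
  have he₂' : Etale e₂.left := by
    have h : Etale (e₂.left ≫ r.left) := by
      have : e₂.left ≫ r.left = r₂.left := congrArg CommaMorphism.left he₂r
      rw [this]; exact he2'
    exact MorphismProperty.of_postcomp (W := @Etale) (W' := @Etale) e₂.left r.left he' h
  have hπ₁ : Etale π₁.left := MorphismProperty.of_isPullback (P := @Etale) hpb.flip he₂'
  have hs₁ : Etale (π₁ ≫ r₁).left := (inferInstance : Etale (π₁.left ≫ r₁.left))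
  have hr : π₁ ≫ r₁ = π₂ ≫ r₂ := by
    rw [← he₁r, ← he₂r, ← Category.assoc, hπe, Category.assoc]
  have hcc : π₁ ≫ c₁ = π₂ ≫ c₂ := by
    rw [← he₁c, ← he₂c, ← Category.assoc, hπe, Category.assoc]
  have key : (yon S).map (π₁ ≫ r₁) ≫ x₁ = (yon S).map (π₁ ≫ r₁) ≫ x₂ := by
    calc (yon S).map (π₁ ≫ r₁) ≫ x₁ = (yon S).map π₁ ≫ (yon S).map c₁ ≫ β := by
          rw [Functor.map_comp, Category.assoc, sq1.w]
      _ = (yon S).map π₂ ≫ (yon S).map c₂ ≫ β := by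
          rw [← Category.assoc, ← Functor.map_comp, hcc, Functor.map_comp, Category.assoc]
      _ = (yon S).map (π₁ ≫ r₁) ≫ x₂ := by
          rw [hr, Functor.map_comp, Category.assoc, sq2.w]
  have hsurj : ∀ α : A.left, α ∈ Set.range (π₁ ≫ r₁).left ∨ α ∈ Set.range s₂.left := by
    intro α
    rcases point_cases j f hsq (Points.ofPt (x₁ ≫ f) α) with ⟨υ, hυ⟩ | ⟨hnot, -⟩
    · obtain ⟨α₂, -, h2⟩ := exists_point_of_isPullback_yon sq₂ υ α hυ
      exact Or.inr ⟨α₂, h2⟩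
    · left
      obtain ⟨-, -, T, P', i, p₁, p₂, hred, sq', hiso⟩ := hsq
      have hi : RepWith @IsClosedImmersion i := hred.1
      have hx' : Points.ofPt (x₁ ≫ f) α ∈ Set.range (Points.map i) := by rw [hred.2.1]; exact hnot
      obtain ⟨τ, hτ⟩ := hx'
      obtain ⟨TA, tT, t, sqT, -⟩ := exists_rep i hi (x₁ ≫ f)
      obtain ⟨α', -, hα'⟩ := exists_point_of_isPullback_yon sqT τ α hτ
      have hxT : (yon S).map t ≫ x₁ = (yon S).map t ≫ x₂ := by
        have h1 : tT ≫ i = ((yon S).map t ≫ x₁) ≫ f := by rw [Category.assoc]; exact sqT.w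
        have h2 : tT ≫ i = ((yon S).map t ≫ x₂) ≫ f := by rw [Category.assoc, ← hx]; exact sqT.w
        have hz : sq'.lift tT ((yon S).map t ≫ x₁) h1 = sq'.lift tT ((yon S).map t ≫ x₂) h2 := by
          rw [← cancel_mono p₁, sq'.lift_fst, sq'.lift_fst]
        calc (yon S).map t ≫ x₁ = sq'.lift tT ((yon S).map t ≫ x₁) h1 ≫ p₂ := (sq'.lift_snd _ _ _).symm
          _ = sq'.lift tT ((yon S).map t ≫ x₂) h2 ≫ p₂ := by rw [hz]
          _ = _ := sq'.lift_snd _ _ _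
      obtain ⟨D, cD, d, sqD, -, hds⟩ := exists_rep_yon β hβe hβs ((yon S).map t ≫ x₁)
      have hds' : Surjective d.left := hds
      obtain ⟨δ, hδ⟩ := hds'.surj α'
      obtain ⟨m₁, hm₁c, hm₁r⟩ := exists_lift_yon_yon sq1 cD (d ≫ t)
        (by rw [Functor.map_comp, Category.assoc]; exact sqD.w)
      obtain ⟨m₂, hm₂c, hm₂r⟩ := exists_lift_yon_yon sq2 cD (d ≫ t)
        (by rw [Functor.map_comp, Category.assoc, ← hxT]; exact sqD.w)
      have hme : m₁ ≫ e₁ = m₂ ≫ e₂ := by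
        refine hom_ext_yon_yon sqE _ _ ?_ ?_
        · rw [Category.assoc, Category.assoc, he₁c, he₂c, hm₁c, hm₂c]
        · rw [Category.assoc, Category.assoc, he₁r, he₂r, hm₁r, hm₂r]
      obtain ⟨m, hmπ₁, hmπ₂⟩ := hlift m₁ m₂ hme
      have hmr : m ≫ π₁ ≫ r₁ = d ≫ t := by rw [← Category.assoc, hmπ₁, hm₁r]
      refine ⟨m.left δ, ?_⟩
      have h3 : (m ≫ π₁ ≫ r₁).left δ = (π₁ ≫ r₁).left (m.left δ) := by
        rw [Over.comp_left, Scheme.Hom.comp_apply]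
      have h4 : (d ≫ t).left δ = t.left (d.left δ) := by
        rw [Over.comp_left, Scheme.Hom.comp_apply]
      rw [← h3, hmr, h4, hδ, hα']
  obtain ⟨R, hR, hR'⟩ := exists_sieve_of_binary_etale_cover (π₁ ≫ r₁) s₂ hs₁ inferInstance hsurj
  refine ⟨R, hR, fun T' g hg => ?_⟩
  rcases hR' g hg with ⟨g₁, rfl⟩ | ⟨g₂, rfl⟩
  · refine Or.inl ?_
    rw [Functor.map_comp, Category.assoc, Category.assoc, key]
  · refine Or.inr ⟨(yon S).map g₂ ≫ u₂, ?_⟩
    simp only [Functor.map_comp, Category.assoc]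
    rw [sq₂.w]

/-- The two summands. -/
def XX (U V : Sp S) : Bool → Sp S := fun b => bif b then U else V

/-- A pair of morphisms as a family. -/
def fam {U V T : Sp S} (a : U ⟶ T) (b : V ⟶ T) : ∀ i, XX U V i ⟶ T
  | true => a
  | false => b

theorem compat_UV {U V W P X : Sp S} {j : U ⟶ W} {f : V ⟶ W} {p : P ⟶ U} {q : P ⟶ V}
    (hP : IsPullback p q j f) {a : U ⟶ X} {b : V ⟶ X} (hab : p ≫ a = q ≫ b) {Z : Sp S} (u : Z ⟶ U)
    (v : Z ⟶ V) (h : u ≫ j = v ≫ f) : u ≫ a = v ≫ b := by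
  calc u ≫ a = (hP.lift u v h ≫ p) ≫ a := by rw [hP.lift_fst]
    _ = (hP.lift u v h ≫ q) ≫ b := by rw [Category.assoc, Category.assoc, hab]
    _ = v ≫ b := by rw [hP.lift_snd]

theorem compat_VV {U V W P X : Sp S} (hV : IsAlgSpace V) (j : U ⟶ W) (f : V ⟶ W)
    (hsq : IsElemDistSq j f) {p : P ⟶ U} {q : P ⟶ V} (hP : IsPullback p q j f)
    {a : U ⟶ X} {b : V ⟶ X} (hab : p ≫ a = q ≫ b) {A : Over S} (y₁ y₂ : (yon S).obj A ⟶ V)
    (h : y₁ ≫ f = y₂ ≫ f) : y₁ ≫ b = y₂ ≫ b := by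
  obtain ⟨R, hR, hR'⟩ := exists_sieve_eq hV j f hsq y₁ y₂ h
  refine hom_eq_of_locally_eq _ _ R hR (fun T' g hg => ?_)
  rcases hR' g hg with heq | ⟨u, hu⟩
  · rw [← Category.assoc, heq, Category.assoc]
  · have h1 : u ≫ j = ((yon S).map g ≫ y₁) ≫ f := by rw [Category.assoc]; exact hu
    have h2 : u ≫ j = ((yon S).map g ≫ y₂) ≫ f := by rw [Category.assoc, ← h]; exact hu
    calc (yon S).map g ≫ y₁ ≫ b = ((yon S).map g ≫ y₁) ≫ b := (Category.assoc _ _ _).symm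
      _ = u ≫ a := (compat_UV hP hab u _ h1).symm
      _ = ((yon S).map g ≫ y₂) ≫ b := compat_UV hP hab u _ h2
      _ = _ := Category.assoc _ _ _

theorem compat {U V W P X : Sp S} (hV : IsAlgSpace V) (j : U ⟶ W) (f : V ⟶ W)
    (hsq : IsElemDistSq j f) {p : P ⟶ U} {q : P ⟶ V} (hP : IsPullback p q j f)
    {a : U ⟶ X} {b : V ⟶ X} (hab : p ≫ a = q ≫ b) {A : Over S} :
    ∀ (i₁ i₂ : Bool) (y₁ : (yon S).obj A ⟶ XX U V i₁) (y₂ : (yon S).obj A ⟶ XX U V i₂),
      y₁ ≫ fam j f i₁ = y₂ ≫ fam j f i₂ → y₁ ≫ fam a b i₁ = y₂ ≫ fam a b i₂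
  | true, true, y₁, y₂, h => by
      have hjm : Mono j := mono_of_repWith_isOpenImmersion j hsq.1
      have : y₁ = y₂ := (cancel_mono j).1 h
      rw [this]
  | true, false, y₁, y₂, h => compat_UV hP hab y₁ y₂ h
  | false, true, y₁, y₂, h => (compat_UV hP hab y₂ y₁ h.symm).symm
  | false, false, y₁, y₂, h => compat_VV hV j f hsq hP hab y₁ y₂ h

/-- Uniqueness of the map out of `W`. -/
theorem desc_unique {U V W X : Sp S} (hV : IsAlgSpace V) (j : U ⟶ W) (f : V ⟶ W)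
    (hsq : IsElemDistSq j f) (h h' : W ⟶ X) (h1 : j ≫ h = j ≫ h') (h2 : f ≫ h = f ≫ h') : h = h' := by
  apply sp_hom_ext'
  intro A w
  obtain ⟨R, hR, hR'⟩ := exists_sieve_lift hV j f hsq w
  refine hom_eq_of_locally_eq _ _ R hR (fun T' g hg => ?_)
  rcases hR' g hg with ⟨u, hu⟩ | ⟨v, hv⟩
  · calc (yon S).map g ≫ w ≫ h = (u ≫ j) ≫ h := by rw [hu, Category.assoc]
      _ = (u ≫ j) ≫ h' := by rw [Category.assoc, h1, Category.assoc]
      _ = (yon S).map g ≫ w ≫ h' := by rw [hu, Category.assoc]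
  · calc (yon S).map g ≫ w ≫ h = (v ≫ f) ≫ h := by rw [hv, Category.assoc]
      _ = (v ≫ f) ≫ h' := by rw [Category.assoc, h2, Category.assoc]
      _ = (yon S).map g ≫ w ≫ h' := by rw [hv, Category.assoc]

/-- Existence of the map out of `W`. -/
theorem exists_desc {U V W P X : Sp S} (hV : IsAlgSpace V) (j : U ⟶ W) (f : V ⟶ W)
    (hsq : IsElemDistSq j f) (p : P ⟶ U) (q : P ⟶ V) (hP : IsPullback p q j f) (a : U ⟶ X) (b : V ⟶ X)
    (hab : p ≫ a = q ≫ b) : ∃ h : W ⟶ X, j ≫ h = a ∧ f ≫ h = b := by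
  have hepi : Epi (Sigma.desc (fam j f)) := by
    rw [epi_iff_locally_lift]
    intro A w
    obtain ⟨R, hR, hR'⟩ := exists_sieve_lift hV j f hsq w
    refine ⟨R, hR, fun T' g hg => ?_⟩
    rcases hR' g hg with ⟨u, hu⟩ | ⟨v, hv⟩
    · refine ⟨u ≫ Sigma.ι (XX U V) true, ?_⟩
      rw [Category.assoc, Sigma.ι_desc]
      exact hu
    · refine ⟨v ≫ Sigma.ι (XX U V) false, ?_⟩
      rw [Category.assoc, Sigma.ι_desc]
      exact hv
  have heff : EffectiveEpi (Sigma.desc (fam j f)) :=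
    Groth.Agent.Lib.Helper5.SheafGrpQuot.effectiveEpi_of_epi (J S) _
  have hdesc : ∀ {Z : Sp S} (g₁ g₂ : Z ⟶ ∐ XX U V),
      g₁ ≫ Sigma.desc (fam j f) = g₂ ≫ Sigma.desc (fam j f) →
      g₁ ≫ Sigma.desc (fam a b) = g₂ ≫ Sigma.desc (fam a b) := by
    intro Z g₁ g₂ hg
    apply sp_hom_ext'
    intro A z
    obtain ⟨R₁, hR₁, hR₁'⟩ := exists_sieve_lift_of_cofan (Cofan.mk _ (Sigma.ι (XX U V)))
      (coproductIsCoproduct _) A (z ≫ g₁)
    obtain ⟨R₂, hR₂, hR₂'⟩ := exists_sieve_lift_of_cofan (Cofan.mk _ (Sigma.ι (XX U V)))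
      (coproductIsCoproduct _) A (z ≫ g₂)
    refine hom_eq_of_locally_eq _ _ (R₁ ⊓ R₂) ((J S).intersection_covering hR₁ hR₂)
      (fun T' g hg' => ?_)
    obtain ⟨i₁, y₁, hy₁⟩ := hR₁' g hg'.1
    obtain ⟨i₂, y₂, hy₂⟩ := hR₂' g hg'.2
    have hy₁' : y₁ ≫ Sigma.ι (XX U V) i₁ = (yon S).map g ≫ z ≫ g₁ := hy₁
    have hy₂' : y₂ ≫ Sigma.ι (XX U V) i₂ = (yon S).map g ≫ z ≫ g₂ := hy₂
    have hc : y₁ ≫ fam j f i₁ = y₂ ≫ fam j f i₂ := by
      calc y₁ ≫ fam j f i₁ = (y₁ ≫ Sigma.ι (XX U V) i₁) ≫ Sigma.desc (fam j f) := by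
            rw [Category.assoc, Sigma.ι_desc]
        _ = (y₂ ≫ Sigma.ι (XX U V) i₂) ≫ Sigma.desc (fam j f) := by
            rw [hy₁', hy₂']
            simp only [Category.assoc]
            rw [hg]
        _ = _ := by rw [Category.assoc, Sigma.ι_desc]
    have he := compat hV j f hsq hP hab i₁ i₂ y₁ y₂ hc
    calc (yon S).map g ≫ z ≫ g₁ ≫ Sigma.desc (fam a b)
        = ((yon S).map g ≫ z ≫ g₁) ≫ Sigma.desc (fam a b) := by simp only [Category.assoc]
      _ = (y₁ ≫ Sigma.ι (XX U V) i₁) ≫ Sigma.desc (fam a b) := by rw [hy₁']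
      _ = y₁ ≫ fam a b i₁ := by rw [Category.assoc, Sigma.ι_desc]
      _ = y₂ ≫ fam a b i₂ := he
      _ = (y₂ ≫ Sigma.ι (XX U V) i₂) ≫ Sigma.desc (fam a b) := by rw [Category.assoc, Sigma.ι_desc]
      _ = ((yon S).map g ≫ z ≫ g₂) ≫ Sigma.desc (fam a b) := by rw [hy₂']
      _ = _ := by simp only [Category.assoc]
  obtain ⟨D, hD⟩ : ∃ D : W ⟶ X, Sigma.desc (fam j f) ≫ D = Sigma.desc (fam a b) :=
    ⟨EffectiveEpi.desc (Sigma.desc (fam j f)) (Sigma.desc (fam a b)) (fun g₁ g₂ h => hdesc g₁ g₂ h),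
      EffectiveEpi.fac _ _ _⟩
  have hι₁ : Sigma.ι (XX U V) true ≫ Sigma.desc (fam j f) = j := Sigma.ι_desc (fam j f) true
  have hι₂ : Sigma.ι (XX U V) false ≫ Sigma.desc (fam j f) = f := Sigma.ι_desc (fam j f) false
  refine ⟨D, ?_, ?_⟩
  · calc j ≫ D = (Sigma.ι (XX U V) true ≫ Sigma.desc (fam j f)) ≫ D := by rw [hι₁]
      _ = Sigma.ι (XX U V) true ≫ Sigma.desc (fam a b) := by rw [Category.assoc, hD]
      _ = a := Sigma.ι_desc (fam a b) true
  · calc f ≫ D = (Sigma.ι (XX U V) false ≫ Sigma.desc (fam j f)) ≫ D := by rw [hι₂]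
      _ = Sigma.ι (XX U V) false ≫ Sigma.desc (fam a b) := by rw [Category.assoc, hD]
      _ = b := Sigma.ι_desc (fam a b) false

/-- Suppose `(U ⊂ W, f : V → W)`, a square of algebraic spaces over `S`, is elementary distinguished and
`P` is a fibre product `U ×_W V`.  Then `W` is the pushout of `U` and `V` along `P` among algebraic spaces
over `S`. -/
theorem main10695 {S : Scheme.{u}} {U V W P : AlgSp.Space S} (j : U ⟶ W) (f : V ⟶ W)
    (hsq : AlgSp.IsElemDistSq j.hom f.hom) (p : P ⟶ U) (q : P ⟶ V)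
    (hP : IsPullback p.hom q.hom j.hom f.hom) : IsPushout p q j f := by
  have hw : p ≫ j = q ≫ f := by
    apply ObjectProperty.hom_ext
    exact hP.w
  have hex : ∀ s : PushoutCocone p q, ∃ h : W ⟶ s.pt, j ≫ h = s.inl ∧ f ≫ h = s.inr := by
    intro s
    have hab : p.hom ≫ s.inl.hom = q.hom ≫ s.inr.hom := congrArg (fun k => k.hom) s.condition
    obtain ⟨h, h1, h2⟩ := exists_desc V.property j.hom f.hom hsq p.hom q.hom hP s.inl.hom s.inr.hom hab
    refine ⟨ObjectProperty.homMk h, ?_, ?_⟩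
    · apply ObjectProperty.hom_ext
      exact h1
    · apply ObjectProperty.hom_ext
      exact h2
  choose d hd1 hd2 using hex
  refine ⟨⟨hw⟩, ⟨PushoutCocone.IsColimit.mk hw d hd1 hd2 (fun s m hm1 hm2 => ?_)⟩⟩
  apply ObjectProperty.hom_ext
  refine desc_unique V.property j.hom f.hom hsq m.hom (d s).hom ?_ ?_
  · exact congrArg (fun k => k.hom) (hm1.trans (hd1 s).symm)
  · exact congrArg (fun k => k.hom) (hm2.trans (hd2 s).symm)

end Groth.Agent.Lib.Helper6.ElemDist
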