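import Groth.Agent.Lib.Helper6.ElemDist
import Groth.Agent.Lib.Helper16.FppfLocal2
import Groth.Agent.Lib.Helper16.FppfLocalT
import Groth.Agent.Lib.Helper16.FibreProduct
import Groth.Agent.S0083

/-!
# Helper library (helper6): separatedness from an elementary distinguished square

For `g : X ⟶ Y` and `(U ⊂ X, f : V ⟶ X)` elementary distinguished, the diagonal of `g` is, locally on a test
scheme, a base change of one of the comparison maps `A ×_X B ⟶ A ×_Y B` with `A, B ∈ {U, V}`.
-/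

set_option autoImplicit false
set_option backward.isDefEq.respectTransparency false
universe u
open CategoryTheory CategoryTheory.Limits AlgebraicGeometry Opposite

namespace Groth.Agent.Lib.Helper6.ElemDistSep

open AlgSp Groth.Agent.Lib.Helper15 Groth.Agent.Lib.Helper16 Groth.Agent.Lib.Helper6.ElemDist

variable {S : Scheme.{u}}

/-- The comparison `A ×_X B ⟶ A ×_Y B` is a base change of the diagonal of `g : X ⟶ Y`. -/
theorem isPullback_cmp {C : Type*} [Category C] {A B X Y PX PY : C} {α : A ⟶ X} {β : B ⟶ X} (g : X ⟶ Y)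
    [HasPullback g g] {pX : PX ⟶ A} {qX : PX ⟶ B} (hPX : IsPullback pX qX α β) {pY : PY ⟶ A} {qY : PY ⟶ B}
    (hPY : IsPullback pY qY (α ≫ g) (β ≫ g)) (c : PX ⟶ PY) (hc₁ : c ≫ pY = pX) (hc₂ : c ≫ qY = qX)
    (w : (pY ≫ α) ≫ g = (qY ≫ β) ≫ g) :
    IsPullback (pX ≫ α) c (pullback.diagonal g) (pullback.lift (pY ≫ α) (qY ≫ β) w) := by
  refine isPullback_of_exists_lift ?_ ?_ ?_
  · apply pullback.hom_ext
    · simp only [Category.assoc, pullback.diagonal_fst, pullback.lift_fst, Category.comp_id]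
      rw [← hc₁, Category.assoc]
    · simp only [Category.assoc, pullback.diagonal_snd, pullback.lift_snd, Category.comp_id]
      rw [hPX.w, ← hc₂, Category.assoc]
  · intro Q a t h
    have h1 : a = t ≫ pY ≫ α := by
      have := congrArg (fun k => k ≫ pullback.fst g g) h
      simpa using this
    have h2 : a = t ≫ qY ≫ β := by
      have := congrArg (fun k => k ≫ pullback.snd g g) h
      simpa using this
    have h3 : (t ≫ pY) ≫ α = (t ≫ qY) ≫ β := by
      rw [Category.assoc, Category.assoc, ← h1, ← h2]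
    refine ⟨hPX.lift (t ≫ pY) (t ≫ qY) h3, ?_, ?_⟩
    · rw [← Category.assoc, hPX.lift_fst, Category.assoc, ← h1]
    · apply hPY.hom_ext
      · rw [Category.assoc, hc₁, hPX.lift_fst]
      · rw [Category.assoc, hc₂, hPX.lift_snd]
  · intro Q l l' _ h2
    apply hPX.hom_ext
    · rw [← hc₁, ← Category.assoc, h2, Category.assoc]
    · rw [← hc₂, ← Category.assoc, h2, Category.assoc]

/-- One step of fppf localisation on the target. -/
theorem P_pullback_of_factor {F G H Q : Sp S} {a : F ⟶ G} {b : H ⟶ G} {b' : Q ⟶ F} {a' : Q ⟶ H}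
    (sq : IsPullback b' a' a b) (P : MorphismProperty Scheme.{u}) [P.IsStableUnderBaseChange]
    (h : RepWith P a') {U V T' : Over S} {g : (yon S).obj U ⟶ G} {fst : (yon S).obj V ⟶ F} {snd : V ⟶ U}
    (sq' : IsPullback fst ((yon S).map snd) a g) (c : T' ⟶ U) (t' : (yon S).obj T' ⟶ H)
    (ht' : t' ≫ b = (yon S).map c ≫ g) : P (pullback.snd snd c).left := by
  have sq1 := h.rep.isPullback t'
  have hP : P (h.rep.snd t').left := h.property_snd t'
  have sq2 : IsPullback (h.rep.fst t' ≫ b') ((yon S).map (h.rep.snd t')) a ((yon S).map c ≫ g) := by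
    rw [← ht']
    exact sq1.paste_horiz sq
  let α : (yon S).obj (h.rep.pullback t') ⟶ (yon S).obj V :=
    sq'.lift (h.rep.fst t' ≫ b') ((yon S).map (h.rep.snd t') ≫ (yon S).map c)
      (by rw [Category.assoc]; exact sq2.w)
  have sq3 : IsPullback α ((yon S).map (h.rep.snd t')) ((yon S).map snd) ((yon S).map c) := by
    refine IsPullback.of_right ?_ (sq'.lift_snd _ _ _) sq'
    rw [sq'.lift_fst]
    exact sq2
  exact P_pullback_snd_of_repWith snd c α _ sq3 ((repWith_yon_map_iff P _).2 hP)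

/-- A representable immersion with closed image on points is a closed immersion. -/
theorem repWith_isClosedImmersion_of_isImmersion {F G : Sp S} (m : F ⟶ G) (hm : RepWith @IsImmersion m)
    (hcl : IsClosed (Set.range (Points.map m))) : RepWith @IsClosedImmersion m := by
  refine ⟨hm.rep, fun A E y fst snd sq => ?_⟩
  have himm : IsImmersion snd.left := hm.property y fst snd sq
  have hrange : Set.range snd.left = Points.ofPt y ⁻¹' Set.range (Points.map m) := by
    ext x
    constructor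
    · rintro ⟨e, rfl⟩
      refine ⟨Points.ofPt fst e, ?_⟩
      rw [Points.map_ofPt, sq.w, ofPt_yon_map_comp]
    · rintro ⟨z, hz⟩
      obtain ⟨e, -, he⟩ := exists_point_of_isPullback_yon sq z x hz
      exact ⟨e, he⟩
  have hc : IsClosed (Set.range snd.left) := by
    rw [hrange]
    exact hcl.preimage (Points.continuous_ofPt y)
  exact IsClosedImmersion.of_isPreimmersion snd.left hc

/-- The diagonal of a morphism from an algebraic space is representable. -/
theorem representable_diagonal {X Y : Sp S} (hX : IsAlgSpace X) (g : X ⟶ Y) :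
    Representable (pullback.diagonal g) := by
  intro T t
  have hmono : Mono (prod.lift (pullback.fst g g) (pullback.snd g g)) := by
    constructor
    intro Z u v h
    apply pullback.hom_ext
    · have := congrArg (fun k => k ≫ prod.fst) h
      simpa using this
    · have := congrArg (fun k => k ≫ prod.snd) h
      simpa using this
  obtain ⟨E, e, fst', sq⟩ := hX.diag (t ≫ prod.lift (pullback.fst g g) (pullback.snd g g))
  refine ⟨E, e, fst', isPullback_of_comp_mono (prod.lift (pullback.fst g g) (pullback.snd g g)) ?_⟩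
  have h1 : pullback.diagonal g ≫ prod.lift (pullback.fst g g) (pullback.snd g g) = Limits.diag X := by
    ext <;> simp
  rw [h1]
  exact sq

/-- `U ×_X V ⟶ U ×_Y V` is a closed immersion when `U ⟶ X` is an open immersion, `U ⟶ Y` is separated and the
map is closed on points. -/
theorem repWith_isClosedImmersion_cmp {U V X Y PX PY : Sp S} (j : U ⟶ X) (f : V ⟶ X) (g : X ⟶ Y)
    (hj : RepWith @IsOpenImmersion j) (hU : RepWith @IsClosedImmersion (pullback.diagonal (j ≫ g)))
    {pX : PX ⟶ U} {qX : PX ⟶ V} (hPX : IsPullback pX qX j f) {pY : PY ⟶ U} {qY : PY ⟶ V}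
    (hPY : IsPullback pY qY (j ≫ g) (f ≫ g)) (c : PX ⟶ PY) (hc₁ : c ≫ pY = pX) (hc₂ : c ≫ qY = qX)
    (hcl : IsClosedMor c) : RepWith @IsClosedImmersion c := by
  have hk : pX ≫ j ≫ g = qX ≫ f ≫ g := by rw [← Category.assoc, hPX.w, Category.assoc]
  obtain ⟨Γ, m, hΓpb, hΓ1, hΓ2⟩ : ∃ (Γ : PX ⟶ pullback (pX ≫ j ≫ g) (j ≫ g))
      (m : pullback (pX ≫ j ≫ g) (j ≫ g) ⟶ pullback (j ≫ g) (j ≫ g)),
      IsPullback pX Γ (pullback.diagonal (j ≫ g)) m ∧ Γ ≫ pullback.fst _ _ = 𝟙 PX ∧
        Γ ≫ pullback.snd _ _ = pX :=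
    ⟨_, _, pullback_lift_diagonal_isPullback pX (j ≫ g), pullback.lift_fst _ _ _, pullback.lift_snd _ _ _⟩
  have hΓ : RepWith @IsClosedImmersion Γ :=
    MorphismProperty.of_isPullback (P := RepWith (S := S) @IsClosedImmersion) hΓpb hU
  have hqX : RepWith @IsOpenImmersion qX :=
    MorphismProperty.of_isPullback (P := RepWith (S := S) @IsOpenImmersion) hPX hj
  have s : IsPullback (pullback.fst (pX ≫ j ≫ g) (j ≫ g)) (pullback.snd (pX ≫ j ≫ g) (j ≫ g))
      (qX ≫ f ≫ g) (j ≫ g) := by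
    rw [← hk]
    exact IsPullback.of_hasPullback _ _
  obtain ⟨N, hN, hNp⟩ : ∃ N : pullback (pX ≫ j ≫ g) (j ≫ g) ⟶ PY,
      IsPullback (pullback.fst (pX ≫ j ≫ g) (j ≫ g)) N qX qY ∧
        N ≫ pY = pullback.snd (pX ≫ j ≫ g) (j ≫ g) :=
    ⟨_, IsPullback.of_bot' s hPY.flip, hPY.flip.lift_snd _ _ _⟩
  have hN' : RepWith @IsOpenImmersion N :=
    MorphismProperty.of_isPullback (P := RepWith (S := S) @IsOpenImmersion) hN hqX
  have hfac : c = Γ ≫ N := by
    apply hPY.hom_ext
    · rw [hc₁, Category.assoc, hNp, hΓ2]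
    · rw [hc₂, Category.assoc, ← hN.w, ← Category.assoc, hΓ1, Category.id_comp]
  have himm : RepWith @IsImmersion c := by
    rw [hfac]
    exact (RepWith (S := S) @IsImmersion).comp_mem _ _
      (repWith_mono (fun _ _ k hk => by
        have : IsClosedImmersion k := hk
        exact (inferInstance : IsImmersion k)) _ hΓ)
      (repWith_mono (fun _ _ k hk => by
        have : IsOpenImmersion k := hk
        exact (inferInstance : IsImmersion k)) _ hN')
  refine repWith_isClosedImmersion_of_isImmersion c himm ?_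
  rw [← Set.image_univ]
  exact hcl _ isClosed_univ

/-- For a monomorphism `j : U ⟶ X` with `U ⟶ Y` separated, `U ×_X U ⟶ U ×_Y U` is a closed immersion. -/
theorem repWith_cmp_of_mono {U X Y : Sp S} (j : U ⟶ X) [Mono j] (g : X ⟶ Y)
    (hU : RepWith @IsClosedImmersion (pullback.diagonal (j ≫ g))) :
    RepWith @IsClosedImmersion
      (pullback.map j j (j ≫ g) (j ≫ g) (𝟙 U) (𝟙 U) g (by simp) (by simp)) := by
  have e : pullback.diagonal (j ≫ g) = pullback.diagonal j ≫
      pullback.map j j (j ≫ g) (j ≫ g) (𝟙 U) (𝟙 U) g (by simp) (by simp) := by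
    apply pullback.hom_ext <;> simp
  rw [e] at hU
  have : (RepWith (S := S) @IsClosedImmersion).RespectsIso :=
    MorphismProperty.IsStableUnderBaseChange.respectsIso
  exact (MorphismProperty.cancel_left_of_respectsIso (RepWith (S := S) @IsClosedImmersion)
    (pullback.diagonal j) _).1 hU

/-- One of the four cases: both components of the test point lift. -/
theorem case_lemma {A B X Y PX PY : Sp S} {α : A ⟶ X} {β : B ⟶ X} (g : X ⟶ Y) {pX : PX ⟶ A}
    {qX : PX ⟶ B} (hPX : IsPullback pX qX α β) {pY : PY ⟶ A} {qY : PY ⟶ B}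
    (hPY : IsPullback pY qY (α ≫ g) (β ≫ g)) (c : PX ⟶ PY) (hc₁ : c ≫ pY = pX) (hc₂ : c ≫ qY = qX)
    (hc : RepWith @IsClosedImmersion c) {T E T' : Over S} {y : (yon S).obj T ⟶ pullback g g}
    {fst : (yon S).obj E ⟶ X} {snd : E ⟶ T}
    (sq' : IsPullback fst ((yon S).map snd) (pullback.diagonal g) y) (k : T' ⟶ T)
    (u : (yon S).obj T' ⟶ A) (v : (yon S).obj T' ⟶ B)
    (hu : u ≫ α = (yon S).map k ≫ y ≫ pullback.fst g g)
    (hv : v ≫ β = (yon S).map k ≫ y ≫ pullback.snd g g) :
    IsClosedImmersion (pullback.snd snd k).left := by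
  have huv : u ≫ α ≫ g = v ≫ β ≫ g := by
    rw [← Category.assoc, hu, ← Category.assoc v, hv]
    simp only [Category.assoc, pullback.condition]
  have w : (pY ≫ α) ≫ g = (qY ≫ β) ≫ g := by
    rw [Category.assoc, Category.assoc]; exact hPY.w
  have ht' : hPY.lift u v huv ≫ pullback.lift (pY ≫ α) (qY ≫ β) w = (yon S).map k ≫ y := by
    apply pullback.hom_ext
    · rw [Category.assoc, pullback.lift_fst, ← Category.assoc, hPY.lift_fst, hu, Category.assoc]
    · rw [Category.assoc, pullback.lift_snd, ← Category.assoc, hPY.lift_snd, hv, Category.assoc]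
  exact P_pullback_of_factor (isPullback_cmp g hPX hPY c hc₁ hc₂ w) @IsClosedImmersion hc sq' k _ ht'

/-- Let `g : X → Y` be a morphism of algebraic spaces over `S` and `(U ⊂ X, f : V → X)` an elementary
distinguished square with `U → Y` separated, `U ×_X V → U ×_Y V` closed on points and
`V ×_X V → V ×_Y V` a closed immersion.  Then `g` is separated. -/
theorem main10698 {S : Scheme.{u}} {U V X Y PX PY QX QY : AlgSp.Space S} (g : X ⟶ Y)
    (j : U ⟶ X) (f : V ⟶ X) (hsq : AlgSp.IsElemDistSq j.hom f.hom)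
    (hU : AlgSp.IsSeparatedMor (j ≫ g).hom) (_hV : AlgSp.IsSeparatedMor (f ≫ g).hom)
    (pX : PX ⟶ U) (qX : PX ⟶ V) (hPX : IsPullback pX.hom qX.hom j.hom f.hom)
    (pY : PY ⟶ U) (qY : PY ⟶ V) (hPY : IsPullback pY.hom qY.hom (j ≫ g).hom (f ≫ g).hom)
    (c : PX ⟶ PY) (hc₁ : c ≫ pY = pX) (hc₂ : c ≫ qY = qX) (hcl : AlgSp.IsClosedMor c.hom)
    (rX₁ rX₂ : QX ⟶ V) (hQX : IsPullback rX₁.hom rX₂.hom f.hom f.hom)
    (rY₁ rY₂ : QY ⟶ V) (hQY : IsPullback rY₁.hom rY₂.hom (f ≫ g).hom (f ≫ g).hom)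
    (d : QX ⟶ QY) (hd₁ : d ≫ rY₁ = rX₁) (hd₂ : d ≫ rY₂ = rX₂)
    (hdcl : AlgSp.RepWith @IsClosedImmersion d.hom) : AlgSp.IsSeparatedMor g.hom := by
  have hj : RepWith @IsOpenImmersion j.hom := hsq.1
  have hjm : Mono j.hom := mono_of_repWith_isOpenImmersion j.hom hj
  have hU' : RepWith @IsClosedImmersion (pullback.diagonal (j.hom ≫ g.hom)) := hU
  have hPY' : IsPullback pY.hom qY.hom (j.hom ≫ g.hom) (f.hom ≫ g.hom) := hPY
  have hQY' : IsPullback rY₁.hom rY₂.hom (f.hom ≫ g.hom) (f.hom ≫ g.hom) := hQY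
  have hc₁' : c.hom ≫ pY.hom = pX.hom := congrArg (fun k => k.hom) hc₁
  have hc₂' : c.hom ≫ qY.hom = qX.hom := congrArg (fun k => k.hom) hc₂
  have hd₁' : d.hom ≫ rY₁.hom = rX₁.hom := congrArg (fun k => k.hom) hd₁
  have hd₂' : d.hom ≫ rY₂.hom = rX₂.hom := congrArg (fun k => k.hom) hd₂
  have hc : RepWith @IsClosedImmersion c.hom :=
    repWith_isClosedImmersion_cmp j.hom f.hom g.hom hj hU' hPX hPY' c.hom hc₁' hc₂' hcl
  have hUU := repWith_cmp_of_mono j.hom g.hom hU'
  have hdesc := Groth.Agent.S0083.result.{u}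
  have hloc : MorphismProperty.IsLocalAtTarget (@IsClosedImmersion : MorphismProperty Scheme.{u})
      Scheme.fppfPrecoverage := isLocalAtTarget_fppf_of_descendsAlong _
  have hrep : Representable (pullback.diagonal g.hom) := representable_diagonal X.property g.hom
  show RepWith @IsClosedImmersion (pullback.diagonal g.hom)
  refine ⟨hrep, fun T E y fst snd sq' => ?_⟩
  obtain ⟨R₁, hR₁, hR₁'⟩ := exists_sieve_lift V.property j.hom f.hom hsq (y ≫ pullback.fst g.hom g.hom)
  obtain ⟨R₂, hR₂, hR₂'⟩ := exists_sieve_lift V.property j.hom f.hom hsq (y ≫ pullback.snd g.hom g.hom)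
  show IsClosedImmersion snd.left
  refine P_of_sieve (P := @IsClosedImmersion) snd (R₁ ⊓ R₂) ((J S).intersection_covering hR₁ hR₂) ?_
  intro T' k hk
  rcases hR₁' k hk.1 with ⟨u₁, hu₁⟩ | ⟨v₁, hv₁⟩ <;> rcases hR₂' k hk.2 with ⟨u₂, hu₂⟩ | ⟨v₂, hv₂⟩
  · exact case_lemma g.hom (IsPullback.of_hasPullback j.hom j.hom)
      (IsPullback.of_hasPullback (j.hom ≫ g.hom) (j.hom ≫ g.hom)) _ (by simp) (by simp) hUU sq' k
      u₁ u₂ hu₁ hu₂
  · exact case_lemma g.hom hPX hPY' c.hom hc₁' hc₂' hc sq' k u₁ v₂ hu₁ hv₂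
  · exact case_lemma g.hom hPX.flip hPY'.flip c.hom hc₂' hc₁' hc sq' k v₁ u₂ hv₁ hu₂
  · exact case_lemma g.hom hQX hQY' d.hom hd₁' hd₂' hdcl sq' k v₁ v₂ hv₁ hv₂

end Groth.Agent.Lib.Helper6.ElemDistSep
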