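import Mathlib

set_option autoImplicit false

namespace Groth.Agent.Lib.Helper6.ElemInvA

open MvPolynomial

/-- the elementary endomorphism `x_i ↦ x_i + x_j ^ d` of the polynomial ring -/
noncomputable def phi (k : Type*) [Field k] (n : ℕ) (i j : Fin n) (d : ℕ) :
    MvPolynomial (Fin n) k →+* MvPolynomial (Fin n) k :=
  (MvPolynomial.aeval (R := k)
    (Function.update MvPolynomial.X i (MvPolynomial.X i + MvPolynomial.X j ^ d) :
      Fin n → MvPolynomial (Fin n) k)).toRingHom

section general

variable {k : Type*} [Field k] {n : ℕ}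

theorem ev_phi {L : Type*} [CommRing L] (ψ : k →+* L) (b : Fin n → L) (i j : Fin n) (d : ℕ)
    (f : MvPolynomial (Fin n) k) :
    eval₂Hom ψ b (phi k n i j d f) = eval₂Hom ψ (Function.update b i (b i + b j ^ d)) f := by
  have h : (eval₂Hom ψ b).comp (phi k n i j d) =
      eval₂Hom ψ (Function.update b i (b i + b j ^ d)) := by
    apply MvPolynomial.ringHom_ext
    · intro r
      simp [phi]
    · intro l
      by_cases hl : l = i
      · subst hl
        simp [phi]
      · simp [phi, hl]
  exact RingHom.congr_fun h f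

/-- `L`-points of the closed set cut out by `I` -/
def ZL (I : Ideal (MvPolynomial (Fin n) k)) {L : Type*} [CommRing L] (ψ : k →+* L) :
    Set (Fin n → L) :=
  {b | ∀ f ∈ I, eval₂Hom ψ b f = 0}

/-- stability of an ideal under the elementary endomorphisms -/
def Stable (I : Ideal (MvPolynomial (Fin n) k)) : Prop :=
  ∀ i j : Fin n, i ≠ j → ∀ d : ℕ, ∀ f ∈ I, phi k n i j d f ∈ I

theorem step {I : Ideal (MvPolynomial (Fin n) k)} (hI : Stable I) {L : Type*} [CommRing L]
    (ψ : k →+* L) {i j : Fin n} (hij : i ≠ j) (d : ℕ) {b : Fin n → L} (hb : b ∈ ZL I ψ) :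
    Function.update b i (b i + b j ^ d) ∈ ZL I ψ := by
  intro f hf
  rw [← ev_phi]
  exact hb _ (hI i j hij d f hf)

/-- additive submonoid generated by the powers of `c` -/
def Sm {L : Type*} [CommRing L] (c : L) : AddSubmonoid L :=
  AddSubmonoid.closure (Set.range fun d : ℕ => c ^ d)

theorem pow_mem_Sm {L : Type*} [CommRing L] (c : L) (d : ℕ) : c ^ d ∈ Sm c :=
  AddSubmonoid.subset_closure ⟨d, rfl⟩

theorem step_Sm {I : Ideal (MvPolynomial (Fin n) k)} (hI : Stable I) {L : Type*} [CommRing L]
    (ψ : k →+* L) {i j : Fin n} (hij : i ≠ j) (β : L) {m : L} (hm : m ∈ Sm β) :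
    ∀ b ∈ ZL I ψ, b j = β → Function.update b i (b i + m) ∈ ZL I ψ := by
  unfold Sm at hm
  induction hm using AddSubmonoid.closure_induction with
  | mem x hx =>
    obtain ⟨d, hd⟩ := hx
    intro b hb hbj
    have h := step hI ψ hij d hb
    rw [hbj] at h
    rw [← hd]
    exact h
  | zero =>
    intro b hb _
    rw [add_zero, Function.update_eq_self]
    exact hb
  | add x y hx hy ihx ihy =>
    intro b hb hbj
    have h1 := ihx b hb hbj
    have h2 := ihy _ h1 (by rw [Function.update_of_ne hij.symm]; exact hbj)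
    rw [Function.update_self, Function.update_idem, add_assoc] at h2
    exact h2

theorem line {I : Ideal (MvPolynomial (Fin n) k)} (hI : Stable I) {L : Type*} [Field L]
    (ψ : k →+* L) {i j : Fin n} (hij : i ≠ j) {b : Fin n → L} (hb : b ∈ ZL I ψ)
    (hinf : (Sm (b j) : Set L).Infinite) (c : L) : Function.update b i c ∈ ZL I ψ := by
  classical
  intro f hf
  let g : Fin n → Polynomial L := fun l => if l = i then Polynomial.X else Polynomial.C (b l)
  let F : Polynomial L := eval₂Hom (Polynomial.C.comp ψ) g f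
  have hF : ∀ t : L, Polynomial.eval t F = eval₂Hom ψ (Function.update b i t) f := by
    intro t
    have h : (Polynomial.evalRingHom t).comp (eval₂Hom (Polynomial.C.comp ψ) g) =
        eval₂Hom ψ (Function.update b i t) := by
      apply MvPolynomial.ringHom_ext
      · intro r
        simp
      · intro l
        by_cases hl : l = i
        · subst hl
          simp [g]
        · simp [g, hl]
    exact RingHom.congr_fun h f
  have hroots : Set.Infinite {x | Polynomial.IsRoot F x} := by
    refine Set.Infinite.mono ?_ (hinf.image (f := fun m => b i + m)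
      (add_right_injective (b i)).injOn)
    rintro _ ⟨m, hm, rfl⟩
    show Polynomial.IsRoot F (b i + m)
    rw [Polynomial.IsRoot.def, hF]
    exact step_Sm hI ψ hij (b j) hm b hb rfl f hf
  have hF0 : F = 0 := Polynomial.eq_zero_of_infinite_isRoot F hroots
  have h := hF c
  rw [hF0, Polynomial.eval_zero] at h
  exact h.symm

theorem hyperplane {I : Ideal (MvPolynomial (Fin n) k)} (hI : Stable I) {L : Type*} [Field L]
    (ψ : k →+* L) {j : Fin n} {a : Fin n → L} (ha : a ∈ ZL I ψ)
    (hinf : (Sm (a j) : Set L).Infinite) (b : Fin n → L) (hb : b j = a j) : b ∈ ZL I ψ := by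
  classical
  have key : ∀ s : Finset (Fin n), j ∉ s →
      (fun l => if l ∈ s then b l else a l) ∈ ZL I ψ := by
    intro s
    induction s using Finset.induction_on with
    | empty =>
      intro _
      have h : (fun l : Fin n => if l ∈ (∅ : Finset (Fin n)) then b l else a l) = a := by
        funext l; simp
      rw [h]; exact ha
    | insert i s hi ih =>
      intro hj
      have hij : i ≠ j := by
        rintro rfl
        exact hj (Finset.mem_insert_self _ _)
      have hjs : j ∉ s := fun h => hj (Finset.mem_insert_of_mem h)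
      have h0 := ih hjs
      have h1 := line hI ψ hij h0 (by simpa [hjs] using hinf) (b i)
      have h : (fun l : Fin n => if l ∈ insert i s then b l else a l) =
          Function.update (fun l : Fin n => if l ∈ s then b l else a l) i (b i) := by
        funext l
        by_cases hl : l = i
        · subst hl; simp
        · simp [hl, Finset.mem_insert]
      rw [h]; exact h1
  have h := key (Finset.univ.erase j) (Finset.notMem_erase j _)
  have h' : (fun l : Fin n => if l ∈ Finset.univ.erase j then b l else a l) = b := by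
    funext l
    by_cases hl : l = j
    · subst hl; simp [hb]
    · simp [hl]
  rw [h'] at h; exact h

theorem bigcoord {I : Ideal (MvPolynomial (Fin n) k)} (hI : Stable I) {L : Type*} [Field L]
    (ψ : k →+* L) {i j : Fin n} (hij : i ≠ j) {a : Fin n → L} (ha : a ∈ ZL I ψ)
    (hinf : (Sm (a j) : Set L).Infinite) (c : Fin n → L)
    (hc : (Sm (c i) : Set L).Infinite) : c ∈ ZL I ψ := by
  have h1 : Function.update c j (a j) ∈ ZL I ψ :=
    hyperplane hI ψ ha hinf _ (Function.update_self ..)
  have h2 := line hI ψ hij.symm h1 (by rw [Function.update_of_ne hij]; exact hc) (c j)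
  rw [Function.update_idem, Function.update_eq_self] at h2
  exact h2

/-- an element is big if it is not fixed by any positive power of Frobenius
(no condition in characteristic zero) -/
def Big {L : Type*} [CommRing L] (c : L) : Prop :=
  ∀ p : ℕ, p.Prime → CharP L p → ∀ m : ℕ, 0 < m → c ^ (p ^ m) ≠ c

theorem frob_cancel {L : Type*} [Field L] {p : ℕ} (hp : p.Prime) [CharP L p] (c : L) (r m : ℕ)
    (h : c ^ (p ^ (r + m)) = c ^ (p ^ r)) : c ^ (p ^ m) = c := by
  haveI : Fact p.Prime := ⟨hp⟩
  have h1 : (c ^ (p ^ m) - c) ^ (p ^ r) = 0 := by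
    rw [sub_pow_char_pow_of_commute p r (Commute.all _ _), ← pow_mul, ← pow_add, add_comm m r, h,
      sub_self]
  exact sub_eq_zero.mp ((pow_eq_zero_iff (pow_ne_zero _ hp.ne_zero)).mp h1)

theorem frob_inj {L : Type*} [Field L] {p : ℕ} (hp : p.Prime) [CharP L p] {c : L} (hc : Big c) :
    Function.Injective (fun r : ℕ => c ^ (p ^ r)) := by
  intro r s hrs
  have hrs' : c ^ (p ^ r) = c ^ (p ^ s) := hrs
  by_contra hne
  rcases lt_or_gt_of_ne hne with hlt | hlt
  · obtain ⟨m, hm⟩ := Nat.exists_eq_add_of_lt hlt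
    rw [hm, add_assoc] at hrs'
    exact hc p hp inferInstance (m + 1) (Nat.succ_pos m) (frob_cancel hp c r (m + 1) hrs'.symm)
  · obtain ⟨m, hm⟩ := Nat.exists_eq_add_of_lt hlt
    rw [hm, add_assoc] at hrs'
    exact hc p hp inferInstance (m + 1) (Nat.succ_pos m) (frob_cancel hp c s (m + 1) hrs')

theorem sm_infinite {L : Type*} [Field L] {c : L} (hc : Big c) : (Sm c : Set L).Infinite := by
  obtain ⟨p, hp⟩ := CharP.exists L
  rcases Nat.eq_zero_or_pos p with h0 | hpos
  · subst h0
    haveI : CharZero L := CharP.charP_to_charZero L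
    refine Set.infinite_of_injective_forall_mem (f := fun m : ℕ => (m : L)) Nat.cast_injective ?_
    intro m
    show ((m : ℕ) : L) ∈ Sm c
    have h : (m : L) = m • (c ^ 0) := by simp
    rw [h]
    exact AddSubmonoid.nsmul_mem _ (pow_mem_Sm c 0) m
  · have hprime : p.Prime := (CharP.char_is_prime_or_zero L p).resolve_right hpos.ne'
    exact Set.infinite_of_injective_forall_mem (frob_inj hprime hc) (fun r => pow_mem_Sm c _)

theorem big_infinite {L : Type*} [Field L] {β : L} (hβ : Big β) : {c : L | Big c}.Infinite := by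
  obtain ⟨p, hp⟩ := CharP.exists L
  rcases Nat.eq_zero_or_pos p with h0 | hpos
  · subst h0
    haveI : CharZero L := CharP.charP_to_charZero L
    haveI : Infinite L := Infinite.of_injective (Nat.cast : ℕ → L) Nat.cast_injective
    have hall : {c : L | Big c} = Set.univ := by
      ext c
      simp only [Set.mem_ofPred_eq, Set.mem_univ, iff_true]
      unfold Big
      intro q hq hcq
      exact absurd (CharP.eq L hcq hp) hq.ne_zero
    rw [hall]
    exact Set.infinite_univ
  · have hprime : p.Prime := (CharP.char_is_prime_or_zero L p).resolve_right hpos.ne'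
    refine Set.infinite_of_injective_forall_mem (frob_inj hprime hβ) ?_
    intro r
    show Big (β ^ p ^ r)
    unfold Big
    intro q hq hcq m hm h
    have hqp : q = p := CharP.eq L hcq hp
    subst hqp
    refine hβ q hq hcq m hm (frob_cancel hq β r m ?_)
    rw [← h, ← pow_mul, ← pow_add]

theorem ideal_bot {I : Ideal (MvPolynomial (Fin n) k)} (hI : Stable I) (hn : 2 ≤ n)
    {L : Type*} [Field L] (ψ : k →+* L) {a : Fin n → L} (ha : a ∈ ZL I ψ) (j : Fin n)
    (hbig : Big (a j)) : I = ⊥ := by
  classical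
  haveI : Nontrivial (Fin n) := Fin.nontrivial_iff_two_le.mpr hn
  obtain ⟨i, hij⟩ := exists_ne j
  have hBinf := big_infinite hbig
  haveI : Infinite L := Set.infinite_univ_iff.mp (hBinf.mono (Set.subset_univ _))
  rw [eq_bot_iff]
  intro f hf
  rw [Ideal.mem_bot]
  let S : Fin n → Set L := fun l => if l = i then {c | Big c} else Set.univ
  have hS : ∀ l, (S l).Infinite := by
    intro l
    by_cases hl : l = i
    · simp only [S, hl, if_true]; exact hBinf
    · simp only [S, hl, if_false]; exact Set.infinite_univ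
  have hmap : MvPolynomial.map ψ f = 0 := by
    apply MvPolynomial.funext_set S hS
    intro x hx
    have hxi : Big (x i) := by
      have h := hx i (Set.mem_univ i)
      simpa [S] using h
    have hx' := bigcoord hI ψ hij ha (sm_infinite hbig) x (sm_infinite hxi) f hf
    rw [map_zero, MvPolynomial.eval_map]
    simpa using hx'
  exact (MvPolynomial.map_injective ψ ψ.injective) (by rw [hmap, map_zero])

end general

section spectrum

variable (k : Type*) [Field k] (n : ℕ)

theorem resField_ev (x : PrimeSpectrum (MvPolynomial (Fin n) k)) (f : MvPolynomial (Fin n) k) :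
    eval₂Hom ((algebraMap (MvPolynomial (Fin n) k) x.asIdeal.ResidueField).comp MvPolynomial.C)
      (fun i => algebraMap (MvPolynomial (Fin n) k) x.asIdeal.ResidueField (MvPolynomial.X i)) f =
    algebraMap (MvPolynomial (Fin n) k) x.asIdeal.ResidueField f := by
  have h : eval₂Hom
      ((algebraMap (MvPolynomial (Fin n) k) x.asIdeal.ResidueField).comp MvPolynomial.C)
      (fun i => algebraMap (MvPolynomial (Fin n) k) x.asIdeal.ResidueField (MvPolynomial.X i)) =
      algebraMap (MvPolynomial (Fin n) k) x.asIdeal.ResidueField := by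
    apply MvPolynomial.ringHom_ext
    · intro r; simp
    · intro l; simp
  exact RingHom.congr_fun h f

theorem not_big (hn : 2 ≤ n) {I : Ideal (MvPolynomial (Fin n) k)} (hI : Stable I) (hne : I ≠ ⊥)
    (x : PrimeSpectrum (MvPolynomial (Fin n) k)) (hx : I ≤ x.asIdeal) (j : Fin n) :
    ¬ Big (algebraMap (MvPolynomial (Fin n) k) x.asIdeal.ResidueField (MvPolynomial.X j)) := by
  intro hbig
  apply hne
  refine ideal_bot hI hn
    ((algebraMap (MvPolynomial (Fin n) k) x.asIdeal.ResidueField).comp MvPolynomial.C)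
    (a := fun i => algebraMap (MvPolynomial (Fin n) k) x.asIdeal.ResidueField (MvPolynomial.X i))
    ?_ j hbig
  intro f hf
  rw [resField_ev, Ideal.algebraMap_residueField_eq_zero]
  exact hx hf

theorem small_coord (hn : 2 ≤ n) {I : Ideal (MvPolynomial (Fin n) k)} (hI : Stable I)
    (hne : I ≠ ⊥) (x : PrimeSpectrum (MvPolynomial (Fin n) k)) (hx : I ≤ x.asIdeal) (j : Fin n) :
    ∃ p : ℕ, p.Prime ∧ CharP x.asIdeal.ResidueField p ∧ ∃ m : ℕ, 0 < m ∧
      (algebraMap (MvPolynomial (Fin n) k) x.asIdeal.ResidueField (MvPolynomial.X j)) ^ (p ^ m) =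
        algebraMap (MvPolynomial (Fin n) k) x.asIdeal.ResidueField (MvPolynomial.X j) := by
  have h := not_big k n hn hI hne x hx j
  unfold Big at h
  push Not at h
  obtain ⟨p, hp, hc, m, hm, h⟩ := h
  exact ⟨p, hp, hc, m, hm, h⟩

theorem isMaximal_of_small (x : PrimeSpectrum (MvPolynomial (Fin n) k)) {p : ℕ} (hp : p.Prime)
    (h : ∀ j : Fin n, ∃ m : ℕ, 0 < m ∧
      (algebraMap (MvPolynomial (Fin n) k) x.asIdeal.ResidueField (MvPolynomial.X j)) ^ (p ^ m) =
        algebraMap (MvPolynomial (Fin n) k) x.asIdeal.ResidueField (MvPolynomial.X j)) :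
    x.asIdeal.IsMaximal := by
  have hinj : Function.Injective
      (algebraMap (MvPolynomial (Fin n) k ⧸ x.asIdeal) x.asIdeal.ResidueField) :=
    Ideal.injective_algebraMap_quotient_residueField x.asIdeal
  have hX : ∀ j : Fin n, IsIntegral k (Ideal.Quotient.mk x.asIdeal (MvPolynomial.X j)) := by
    intro j
    obtain ⟨m, hm, hj⟩ := h j
    have h1 : (Ideal.Quotient.mk x.asIdeal (MvPolynomial.X j)) ^ (p ^ m) =
        Ideal.Quotient.mk x.asIdeal (MvPolynomial.X j) := by
      apply hinj
      rw [map_pow, Ideal.algebraMap_quotient_residueField_mk]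
      exact hj
    have hq : 2 ≤ p ^ m := le_trans hp.two_le (Nat.le_self_pow hm.ne' p)
    have h2 : Ideal.Quotient.mk x.asIdeal (MvPolynomial.X j) *
        ((Ideal.Quotient.mk x.asIdeal (MvPolynomial.X j)) ^ (p ^ m - 1) - 1) = 0 := by
      rw [mul_sub, mul_one, ← pow_succ', Nat.sub_add_cancel (by omega), h1, sub_self]
    rcases mul_eq_zero.mp h2 with h3 | h3
    · rw [h3]; exact isIntegral_zero
    · refine IsIntegral.of_pow (n := p ^ m - 1) (by omega) ?_
      rw [sub_eq_zero.mp h3]; exact isIntegral_one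
  haveI : Algebra.IsIntegral k (MvPolynomial (Fin n) k ⧸ x.asIdeal) := by
    refine ⟨fun b => ?_⟩
    obtain ⟨f, rfl⟩ := Ideal.Quotient.mk_surjective b
    induction f using MvPolynomial.induction_on with
    | C r =>
      have h0 : Ideal.Quotient.mk x.asIdeal (MvPolynomial.C r) =
          algebraMap k (MvPolynomial (Fin n) k ⧸ x.asIdeal) r := by
        rw [IsScalarTower.algebraMap_apply k (MvPolynomial (Fin n) k)
          (MvPolynomial (Fin n) k ⧸ x.asIdeal), Ideal.Quotient.algebraMap_eq,
          MvPolynomial.algebraMap_eq]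
      rw [h0]; exact isIntegral_algebraMap
    | add f g hf hg => rw [map_add]; exact hf.add hg
    | mul_X f j hf => rw [map_mul]; exact hf.mul (hX j)
  have hfield : IsField (MvPolynomial (Fin n) k ⧸ x.asIdeal) :=
    isField_of_isIntegral_of_isField' (Field.toIsField k)
  exact Ideal.Quotient.maximal_of_isField x.asIdeal hfield

theorem main (hn : 2 ≤ n) (Z : Set (PrimeSpectrum (MvPolynomial (Fin n) k))) (hZc : IsClosed Z)
    (hZne : Z ≠ Set.univ)
    (hinv : ∀ i j : Fin n, i ≠ j → ∀ d : ℕ, ∀ x ∈ Z, PrimeSpectrum.comap (phi k n i j d) x ∈ Z) :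
    Z = ∅ ∨ ∃ p : ℕ, p.Prime ∧ CharP k p ∧ Z.Finite ∧ ∀ x ∈ Z,
      x.asIdeal.IsMaximal ∧ ∀ i : Fin n, ∃ m : ℕ, 0 < m ∧
        (algebraMap (MvPolynomial (Fin n) k) x.asIdeal.ResidueField (MvPolynomial.X i)) ^ (p ^ m) =
          algebraMap (MvPolynomial (Fin n) k) x.asIdeal.ResidueField (MvPolynomial.X i) := by
  classical
  obtain ⟨I, hIdef⟩ : ∃ I, I = PrimeSpectrum.vanishingIdeal Z := ⟨_, rfl⟩
  have hZI : Z = PrimeSpectrum.zeroLocus (I : Set (MvPolynomial (Fin n) k)) := by
    rw [hIdef, PrimeSpectrum.zeroLocus_vanishingIdeal_eq_closure, hZc.closure_eq]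
  have hIle : ∀ x ∈ Z, I ≤ x.asIdeal := by
    intro x hx f hf
    rw [hIdef, PrimeSpectrum.mem_vanishingIdeal] at hf
    exact hf x hx
  have hIne : I ≠ ⊥ := by
    intro h
    apply hZne
    rw [hZI, h]
    simp
  have hI : Stable I := by
    unfold Stable
    intro i j hij d f hf
    rw [hIdef, PrimeSpectrum.mem_vanishingIdeal] at hf ⊢
    intro x hx
    exact hf _ (hinv i j hij d x hx)
  rcases Set.eq_empty_or_nonempty Z with hempty | ⟨x₀, hx₀⟩
  · exact Or.inl hempty
  right
  have j₀ : Fin n := ⟨0, by omega⟩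
  obtain ⟨p, hp, hcp, -⟩ := small_coord k n hn hI hIne x₀ (hIle x₀ hx₀) j₀
  haveI := hcp
  haveI hkp : CharP k p := RingHom.charP
    ((algebraMap (MvPolynomial (Fin n) k) x₀.asIdeal.ResidueField).comp
      (MvPolynomial.C : k →+* MvPolynomial (Fin n) k)) (RingHom.injective _) p
  have hsmall : ∀ x ∈ Z, ∀ i : Fin n, ∃ m : ℕ, 0 < m ∧
      (algebraMap (MvPolynomial (Fin n) k) x.asIdeal.ResidueField (MvPolynomial.X i)) ^ (p ^ m) =
        algebraMap (MvPolynomial (Fin n) k) x.asIdeal.ResidueField (MvPolynomial.X i) := by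
    intro x hx i
    obtain ⟨q, hq, hcq, m, hm, h⟩ := small_coord k n hn hI hIne x (hIle x hx) i
    haveI : CharP x.asIdeal.ResidueField p := charP_of_injective_ringHom
      (f := (algebraMap (MvPolynomial (Fin n) k) x.asIdeal.ResidueField).comp
        (MvPolynomial.C : k →+* MvPolynomial (Fin n) k)) (RingHom.injective _) p
    have hqp : q = p := CharP.eq x.asIdeal.ResidueField hcq inferInstance
    subst hqp
    exact ⟨m, hm, h⟩
  have hmax : ∀ x ∈ Z, x.asIdeal.IsMaximal :=
    fun x hx => isMaximal_of_small k n x hp (hsmall x hx)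
  refine ⟨p, hp, hkp, ?_, fun x hx => ⟨hmax x hx, hsmall x hx⟩⟩
  have hfin : (I.minimalPrimes).Finite := Ideal.finite_minimalPrimes_of_isNoetherianRing _ I
  refine Set.Finite.subset (hfin.preimage
    (f := fun x : PrimeSpectrum (MvPolynomial (Fin n) k) => x.asIdeal) ?_) ?_
  · intro x _ y _ hxy
    exact PrimeSpectrum.ext hxy
  · intro x hx
    show x.asIdeal ∈ I.minimalPrimes
    obtain ⟨q, hq, hqx⟩ := Ideal.exists_minimalPrimes_le (hIle x hx)
    haveI hqprime : q.IsPrime := hq.1.1
    have hqZ : (⟨q, hqprime⟩ : PrimeSpectrum (MvPolynomial (Fin n) k)) ∈ Z := by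
      rw [hZI, PrimeSpectrum.mem_zeroLocus]
      exact hq.1.2
    have hqmax : q.IsMaximal := hmax ⟨q, hqprime⟩ hqZ
    have hqe : q = x.asIdeal := hqmax.eq_of_le x.isPrime.ne_top hqx
    rw [← hqe]; exact hq

end spectrum

end Groth.Agent.Lib.Helper6.ElemInvA
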