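import Mathlib
import Groth.Agent.Lib.Helper6.ElemInvA

set_option autoImplicit false

open CategoryTheory AlgebraicGeometry

namespace Groth.Agent.Lib.Helper6.ElemInvB

open Groth.Agent.Lib.Helper6.ElemInvA

universe u

theorem main (k : Type u) [Field k] (n : ℕ) (hn : 2 ≤ n)
    (W : (Spec (CommRingCat.of (MvPolynomial (Fin n) k))).Opens)
    (hW : (W : Set ↥(Spec (CommRingCat.of (MvPolynomial (Fin n) k)))).Nonempty)
    (hinv : ∀ (i j : Fin n), i ≠ j → ∀ d : ℕ,
      (Spec.map (CommRingCat.ofHom (MvPolynomial.aeval (R := k)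
        (Function.update MvPolynomial.X i (MvPolynomial.X i + MvPolynomial.X j ^ d) :
          Fin n → MvPolynomial (Fin n) k)).toRingHom)) ⁻¹ᵁ W = W) :
    W = ⊤ ∨ ∃ p : ℕ, p.Prime ∧ CharP k p ∧
      ((W : Set ↥(Spec (CommRingCat.of (MvPolynomial (Fin n) k))))ᶜ).Finite ∧
      ∀ x : ↥(Spec (CommRingCat.of (MvPolynomial (Fin n) k))),
        x ∉ (W : Set ↥(Spec (CommRingCat.of (MvPolynomial (Fin n) k)))) →
        IsClosed ({x} : Set ↥(Spec (CommRingCat.of (MvPolynomial (Fin n) k)))) ∧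
        ∀ i : Fin n, ∃ m : ℕ, 0 < m ∧
          (algebraMap (MvPolynomial (Fin n) k) x.asIdeal.ResidueField (MvPolynomial.X i)) ^ (p ^ m) =
            algebraMap (MvPolynomial (Fin n) k) x.asIdeal.ResidueField (MvPolynomial.X i) := by
  classical
  let Z : Set (PrimeSpectrum (MvPolynomial (Fin n) k)) :=
    (W : Set ↥(Spec (CommRingCat.of (MvPolynomial (Fin n) k))))ᶜ
  have hZc : IsClosed Z := W.isOpen.isClosed_compl
  have hZne : Z ≠ Set.univ := by
    obtain ⟨w, hw⟩ := hW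
    intro h
    have h1 : (w : PrimeSpectrum (MvPolynomial (Fin n) k)) ∈ Z := by rw [h]; trivial
    exact h1 hw
  have hinvZ : ∀ i j : Fin n, i ≠ j → ∀ d : ℕ, ∀ x ∈ Z,
      PrimeSpectrum.comap (phi k n i j d) x ∈ Z := by
    intro i j hij d x hx hmem
    apply hx
    have h := SetLike.ext_iff.mp (hinv i j hij d) x
    exact h.mp hmem
  rcases ElemInvA.main k n hn Z hZc hZne hinvZ with h | ⟨p, hp, hcp, hfin, hpts⟩
  · left
    refine top_le_iff.mp ?_
    rw [SetLike.le_def]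
    intro x _
    by_contra hx
    have h1 : (x : PrimeSpectrum (MvPolynomial (Fin n) k)) ∈ Z := hx
    rw [h] at h1
    exact h1
  · right
    refine ⟨p, hp, hcp, hfin, fun x hx => ⟨?_, (hpts x hx).2⟩⟩
    exact (PrimeSpectrum.isClosed_singleton_iff_isMaximal x).mpr (hpts x hx).1

end Groth.Agent.Lib.Helper6.ElemInvB
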