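import Mathlib

/-!
# Separated + universally closed + (locally) essentially of finite type ⟹ locally of finite type

If `f : X ⟶ S` is separated and universally closed, and `Γ(S, U) → Γ(X, V)` is essentially of finite
type (`B = T⁻¹ C` with `C` of finite type), then the localization map `Spec B → Spec C` has open
range (graph-closure argument using universal closedness and separatedness), hence is an open
immersion (flat surjective monomorphism onto an open), so `V → S` is locally of finite type.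
-/

set_option autoImplicit false
set_option linter.style.haveILetI false

open CategoryTheory CategoryTheory.Limits AlgebraicGeometry TopologicalSpace

universe u

namespace Groth.Agent.Lib.Helper6.EssFTProper

/-- Graph lemma: if `γ : W ⟶ P` lifts the preimmersion `a : W ⟶ M` along the separated `κ : P ⟶ M`,
then a point of the closure of `range γ` lying over `range a` lies in `range γ`. -/
theorem mem_range_of_mem_closure {P M W : Scheme.{u}} (κ : P ⟶ M) (a : W ⟶ M) (γ : W ⟶ P)
    (hγ : γ ≫ κ = a) [IsSeparated κ] [IsPreimmersion a] (ζ : P)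
    (hζ : ζ ∈ closure (Set.range γ)) (hκ : κ ζ ∈ Set.range a) : ζ ∈ Set.range γ := by
  let δ : W ⟶ pullback κ a := pullback.lift γ (𝟙 W) (by rw [hγ, Category.id_comp])
  have hδ1 : δ ≫ pullback.fst κ a = γ := pullback.lift_fst _ _ _
  have hδ2 : δ ≫ pullback.snd κ a = 𝟙 W := pullback.lift_snd _ _ _
  haveI : IsClosedImmersion (δ ≫ pullback.snd κ a) := by rw [hδ2]; infer_instance
  haveI : IsClosedImmersion δ := IsClosedImmersion.of_comp (f := δ) (g := pullback.snd κ a)
  have hcl : IsClosed (Set.range δ) := δ.isClosedEmbedding.isClosed_range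
  have hemb : Topology.IsEmbedding (pullback.fst κ a) := (pullback.fst κ a).isEmbedding
  have hζr : ζ ∈ Set.range (pullback.fst κ a) := by
    rw [Scheme.Pullback.range_fst]; exact hκ
  obtain ⟨ξ, rfl⟩ := hζr
  have hrange : Set.range γ = (pullback.fst κ a) '' Set.range δ := by
    ext p
    constructor
    · rintro ⟨w, rfl⟩
      exact ⟨δ w, ⟨w, rfl⟩, by rw [← Scheme.Hom.comp_apply, hδ1]⟩
    · rintro ⟨_, ⟨w, rfl⟩, rfl⟩
      exact ⟨w, by rw [← hδ1, Scheme.Hom.comp_apply]⟩
  have hξ : ξ ∈ closure (Set.range δ) := by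
    rw [hemb.isInducing.closure_eq_preimage_closure_image, ← hrange]
    exact hζ
  rw [hcl.closure_eq] at hξ
  obtain ⟨w, rfl⟩ := hξ
  exact ⟨w, by rw [← hδ1, Scheme.Hom.comp_apply]⟩

set_option backward.isDefEq.respectTransparency.types false in
/-- Key geometric statement. -/
theorem key {X S V' D : Scheme.{u}} (f : X ⟶ S) [IsSeparated f] [UniversallyClosed f]
    (ιV : V' ⟶ X) [IsOpenImmersion ιV] (h : D ⟶ S) [IsSeparated h] [LocallyOfFiniteType h]
    (ρ : V' ⟶ D) [IsPreimmersion ρ] [Flat ρ] [QuasiCompact ρ] (hdense : DenseRange ρ)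
    (hcomm : ιV ≫ f = ρ ≫ h) : LocallyOfFiniteType (ιV ≫ f) := by
  let γ : V' ⟶ pullback f h := pullback.lift ιV ρ hcomm
  have hγ1 : γ ≫ pullback.fst f h = ιV := pullback.lift_fst _ _ _
  have hγ2 : γ ≫ pullback.snd f h = ρ := pullback.lift_snd _ _ _
  have hFcl : IsClosed ((pullback.snd f h) '' (closure (Set.range γ) ∩
      (pullback.fst f h) ⁻¹' (Set.range ιV)ᶜ)) :=
    (pullback.snd f h).isClosedMap _ (isClosed_closure.inter
      ((ιV.isOpenEmbedding.isOpen_range.isClosed_compl).preimage (pullback.fst f h).continuous))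
  have hZsurj : ∀ d : D, ∃ ζ ∈ closure (Set.range γ), (pullback.snd f h) ζ = d := by
    have hcl : IsClosed ((pullback.snd f h) '' closure (Set.range γ)) :=
      (pullback.snd f h).isClosedMap _ isClosed_closure
    have hsub : Set.range ρ ⊆ (pullback.snd f h) '' closure (Set.range γ) := by
      rintro _ ⟨w, rfl⟩
      exact ⟨γ w, subset_closure ⟨w, rfl⟩, by rw [← Scheme.Hom.comp_apply, hγ2]⟩
    intro d
    have h1 : d ∈ closure (Set.range ρ) := hdense d
    obtain ⟨ζ, hζ, rfl⟩ := (closure_minimal hsub hcl) h1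
    exact ⟨ζ, hζ, rfl⟩
  have hSig : Set.range ρ = ((pullback.snd f h) '' (closure (Set.range γ) ∩
      (pullback.fst f h) ⁻¹' (Set.range ιV)ᶜ))ᶜ := by
    ext d
    constructor
    · rintro ⟨b, rfl⟩ ⟨ζ, ⟨hζ, hζV⟩, hζd⟩
      obtain ⟨w, rfl⟩ := mem_range_of_mem_closure (pullback.snd f h) ρ γ hγ2 ζ hζ ⟨b, hζd.symm⟩
      apply hζV
      exact ⟨w, by rw [← hγ1, Scheme.Hom.comp_apply]⟩
    · intro hd
      obtain ⟨ζ, hζ, rfl⟩ := hZsurj d
      have hζV : (pullback.fst f h) ζ ∈ Set.range ιV := by
        by_contra hcon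
        exact hd ⟨ζ, ⟨hζ, hcon⟩, rfl⟩
      obtain ⟨w, rfl⟩ := mem_range_of_mem_closure (pullback.fst f h) ιV γ hγ1 ζ hζ hζV
      exact ⟨w, by rw [← hγ2, Scheme.Hom.comp_apply]⟩
  have hSopen : IsOpen (Set.range ρ) := by rw [hSig]; exact hFcl.isOpen_compl
  let So : D.Opens := ⟨Set.range ρ, hSopen⟩
  have hSoι : IsOpenImmersion So.ι := inferInstance
  let ρ' := IsOpenImmersion.lift So.ι ρ (by simp [So])
  have heq : ρ = ρ' ≫ So.ι := by simp [ρ']
  have hflat : Flat ρ' :=
    MorphismProperty.of_postcomp (W := @Flat) ρ' So.ι hSoι (by rwa [← heq])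
  have hmono : Mono ρ' := mono_of_mono_fac heq.symm
  have hsurj : Surjective ρ' := ⟨fun ⟨x, ⟨y, hy⟩⟩ ↦
    ⟨y, by apply So.ι.injective; simp [← Scheme.Hom.comp_apply, ρ', hy]⟩⟩
  have hqc : QuasiCompact ρ' := by
    haveI : QuasiCompact (ρ' ≫ So.ι) := by rw [← heq]; infer_instance
    exact QuasiCompact.of_comp ρ' So.ι
  haveI := Flat.isIso_of_surjective_of_mono ρ'
  have hfac : ρ ≫ h = ρ' ≫ So.ι ≫ h := by rw [← Category.assoc, ← heq]
  rw [hcomm, hfac]
  infer_instance

/-- Affine-chart statement. -/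
theorem lft_of_essFiniteType {X S : Scheme.{u}} (f : X ⟶ S) [IsSeparated f] [UniversallyClosed f]
    {U : S.Opens} (hU : IsAffineOpen U) {V : X.Opens} (hV : IsAffineOpen V) (e : V ≤ f ⁻¹ᵁ U)
    (hess : (f.appLE U V e).hom.EssFiniteType) : LocallyOfFiniteType (V.ι ≫ f) := by
  algebraize [(f.appLE U V e).hom]
  haveI := hU.isOpenImmersion_fromSpec
  haveI := hV.isOpenImmersion_fromSpec
  have hφ : f.appLE U V e =
      CommRingCat.ofHom (algebraMap Γ(S, U)
        (Algebra.EssFiniteType.subalgebra Γ(S, U) Γ(X, V))) ≫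
      CommRingCat.ofHom (algebraMap (Algebra.EssFiniteType.subalgebra Γ(S, U) Γ(X, V))
        Γ(X, V)) := by
    apply CommRingCat.hom_ext
    ext x
    rfl
  have hcomm : hV.fromSpec ≫ f =
      Spec.map (CommRingCat.ofHom (algebraMap (Algebra.EssFiniteType.subalgebra Γ(S, U) Γ(X, V))
        Γ(X, V))) ≫
      (Spec.map (CommRingCat.ofHom (algebraMap Γ(S, U)
        (Algebra.EssFiniteType.subalgebra Γ(S, U) Γ(X, V)))) ≫ hU.fromSpec) := by
    rw [← IsAffineOpen.SpecMap_appLE_fromSpec f hU hV e, hφ, Spec.map_comp, Category.assoc]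
  haveI : IsPreimmersion (Spec.map (CommRingCat.ofHom
      (algebraMap (Algebra.EssFiniteType.subalgebra Γ(S, U) Γ(X, V)) Γ(X, V)))) :=
    IsPreimmersion.of_isLocalization (Algebra.EssFiniteType.submonoid Γ(S, U) Γ(X, V))
  haveI : Flat (Spec.map (CommRingCat.ofHom
      (algebraMap (Algebra.EssFiniteType.subalgebra Γ(S, U) Γ(X, V)) Γ(X, V)))) := by
    rw [HasRingHomProperty.Spec_iff (P := @Flat), CommRingCat.hom_ofHom,
      RingHom.flat_algebraMap_iff]
    exact IsLocalization.flat _ (Algebra.EssFiniteType.submonoid Γ(S, U) Γ(X, V))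
  haveI : LocallyOfFiniteType (Spec.map (CommRingCat.ofHom (algebraMap Γ(S, U)
      (Algebra.EssFiniteType.subalgebra Γ(S, U) Γ(X, V))))) := by
    rw [HasRingHomProperty.Spec_iff (P := @LocallyOfFiniteType), CommRingCat.hom_ofHom,
      RingHom.finiteType_algebraMap]
    infer_instance
  have hdense : DenseRange (Spec.map (CommRingCat.ofHom
      (algebraMap (Algebra.EssFiniteType.subalgebra Γ(S, U) Γ(X, V)) Γ(X, V)))) := by
    have h1 := (PrimeSpectrum.denseRange_comap_iff_ker_le_nilRadical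
      (f := algebraMap (Algebra.EssFiniteType.subalgebra Γ(S, U) Γ(X, V)) Γ(X, V))).mpr (by
        rw [(RingHom.injective_iff_ker_eq_bot _).mp Subtype.val_injective]; exact bot_le)
    exact h1
  have hkey := key f hV.fromSpec
    (Spec.map (CommRingCat.ofHom (algebraMap Γ(S, U)
        (Algebra.EssFiniteType.subalgebra Γ(S, U) Γ(X, V)))) ≫ hU.fromSpec)
    (Spec.map (CommRingCat.ofHom (algebraMap (Algebra.EssFiniteType.subalgebra Γ(S, U) Γ(X, V))
        Γ(X, V)))) hdense hcomm
  rw [← hV.isoSpec_hom_fromSpec, Category.assoc]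
  infer_instance

set_option backward.isDefEq.respectTransparency.types false in
/-- **Main theorem**: a separated universally closed morphism which is pointwise essentially of
finite type on affine charts is locally of finite type. -/
theorem locallyOfFiniteType_of_essFT {X S : Scheme.{u}} (f : X ⟶ S) [IsSeparated f]
    [UniversallyClosed f]
    (H : ∀ x : X, ∃ (U : S.affineOpens) (V : X.affineOpens) (_ : x ∈ V.1)
      (e : V.1 ≤ f ⁻¹ᵁ U.1), (f.appLE U V e).hom.EssFiniteType) :
    LocallyOfFiniteType f := by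
  choose U V hxV e hess using H
  apply IsZariskiLocalAtSource.of_iSup_eq_top (P := @LocallyOfFiniteType) (fun x => (V x).1)
  · exact top_le_iff.mp (fun x _ => by simpa using ⟨x, hxV x⟩)
  · intro x
    exact lft_of_essFiniteType f (U x).2 (V x).2 (e x) (hess x)

end Groth.Agent.Lib.Helper6.EssFTProper
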