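import Mathlib

/-!
# A formally unramified local algebra with a section modulo `I` is trivial modulo `I`

If `S` is a local `R`-algebra which is formally unramified and essentially of finite type, and
there is an `R`-algebra map `S → R/I` for a proper ideal `I`, then `R/I → S/IS` is bijective.
-/

namespace Groth.Agent.Lib.Helper6.EtaleQuotPow

open TensorProduct

theorem bijective_quotientMap_of_section {R S : Type*} [CommRing R] [CommRing S] [Algebra R S]
    [IsLocalRing S] [Algebra.FormallyUnramified R S] [Algebra.EssFiniteType R S]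
    (I : Ideal R) (hI : I ≠ ⊤) (s : S →ₐ[R] R ⧸ I) :
    Function.Bijective
      (Ideal.quotientMap (I.map (algebraMap R S)) (algebraMap R S) Ideal.le_comap_map) := by
  classical
  have : Nontrivial (R ⧸ I) := Ideal.Quotient.nontrivial_iff.mpr hI
  obtain ⟨tS, ht1, ht2⟩ :=
    (Algebra.FormallyUnramified.iff_exists_tensorProduct (R := R) (S := S)).mp inferInstance
  -- `s` kills `I S`
  have hsJ : ∀ y ∈ I.map (algebraMap R S), s y = 0 := by
    have hle : I.map (algebraMap R S) ≤ RingHom.ker (s : S →+* R ⧸ I) := by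
      rw [Ideal.map_le_iff_le_comap]
      intro r hr
      rw [Ideal.mem_comap, RingHom.mem_ker]
      show s (algebraMap R S r) = 0
      rw [s.commutes]
      exact Ideal.Quotient.eq_zero_iff_mem.mpr hr
    intro y hy
    exact hle hy
  let sbar : S ⧸ I.map (algebraMap R S) →ₐ[R] R ⧸ I :=
    Ideal.Quotient.liftₐ (I.map (algebraMap R S)) s hsJ
  have hsbar_mk : ∀ y, sbar (Ideal.Quotient.mk (I.map (algebraMap R S)) y) = s y := fun y => rfl
  have hsι : ∀ b, sbar (Ideal.quotientMap (I.map (algebraMap R S)) (algebraMap R S)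
      Ideal.le_comap_map b) = b := by
    intro b
    obtain ⟨r, rfl⟩ := Ideal.Quotient.mk_surjective b
    rw [Ideal.quotientMap_mk, hsbar_mk, s.commutes]
    rfl
  refine ⟨Function.LeftInverse.injective hsι, ?_⟩
  -- the two maps `S → S/IS`
  let f1 : S →ₐ[R] S ⧸ I.map (algebraMap R S) :=
    { toRingHom := (Ideal.quotientMap (I.map (algebraMap R S)) (algebraMap R S)
        Ideal.le_comap_map).comp (s : S →+* R ⧸ I)
      commutes' := by
        intro r
        show Ideal.quotientMap (I.map (algebraMap R S)) (algebraMap R S) Ideal.le_comap_map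
          (s (algebraMap R S r)) = _
        rw [s.commutes]
        rfl }
  let f2 : S →ₐ[R] S ⧸ I.map (algebraMap R S) := Ideal.Quotient.mkₐ R _
  let Θ : S ⊗[R] S →ₐ[R] S ⧸ I.map (algebraMap R S) :=
    Algebra.TensorProduct.lift f1 f2 (fun _ _ => Commute.all _ _)
  have hΘ : ∀ a b : S, Θ (a ⊗ₜ[R] b) = f1 a * f2 b := fun a b =>
    Algebra.TensorProduct.lift_tmul _ _ _ a b
  -- the idempotent
  have key1 : ∀ x : S, (Ideal.Quotient.mk (I.map (algebraMap R S)) x -
      Ideal.quotientMap (I.map (algebraMap R S)) (algebraMap R S) Ideal.le_comap_map (s x)) *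
      Θ tS = 0 := by
    intro x
    have h := congrArg Θ (ht1 x)
    rw [map_mul, map_sub, hΘ, hΘ, map_zero, map_one, map_one, one_mul, mul_one] at h
    exact h
  have key2 : sbar (Θ tS) = 1 := by
    have hcomp : sbar.comp Θ = s.comp (Algebra.TensorProduct.lmul' R) := by
      apply Algebra.TensorProduct.ext'
      intro a b
      show sbar (Θ (a ⊗ₜ[R] b)) = s (Algebra.TensorProduct.lmul' R (a ⊗ₜ[R] b))
      rw [hΘ, map_mul, Algebra.TensorProduct.lmul'_apply_tmul, map_mul]
      congr 1
      exact hsι (s a)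
    have := AlgHom.congr_fun hcomp tS
    rw [AlgHom.comp_apply, AlgHom.comp_apply, ht2, map_one] at this
    exact this
  have key3 : ∀ z : S ⧸ I.map (algebraMap R S), (z -
      Ideal.quotientMap (I.map (algebraMap R S)) (algebraMap R S) Ideal.le_comap_map (sbar z)) *
      Θ tS = 0 := by
    intro z
    obtain ⟨x, rfl⟩ := Ideal.Quotient.mk_surjective z
    rw [hsbar_mk]
    exact key1 x
  have hidem : Θ tS * Θ tS = Θ tS := by
    have h := key3 (Θ tS)
    rw [key2, map_one, sub_mul, one_mul, sub_eq_zero] at h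
    exact h
  have : Nontrivial (S ⧸ I.map (algebraMap R S)) := RingHom.domain_nontrivial sbar.toRingHom
  have : IsLocalRing (S ⧸ I.map (algebraMap R S)) :=
    IsLocalRing.of_surjective' (Ideal.Quotient.mk (I.map (algebraMap R S)))
      Ideal.Quotient.mk_surjective
  have hone : Θ tS = 1 := by
    rcases IsLocalRing.isUnit_or_isUnit_one_sub_self (Θ tS) with hu | hu
    · have h2 : Θ tS * Θ tS = Θ tS * 1 := by rw [hidem, mul_one]
      exact hu.mul_left_cancel h2
    · exfalso
      have h2 : (1 - Θ tS) * Θ tS = (1 - Θ tS) * 0 := by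
        rw [sub_mul, one_mul, hidem, sub_self, mul_zero]
      have h3 : Θ tS = 0 := hu.mul_left_cancel h2
      rw [h3, map_zero] at key2
      exact zero_ne_one key2
  intro z
  refine ⟨sbar z, ?_⟩
  have h := key3 z
  rw [hone, mul_one, sub_eq_zero] at h
  exact h.symm

end Groth.Agent.Lib.Helper6.EtaleQuotPow
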