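import Mathlib
import Groth.Agent.Lib.Helper6.EtaleQuotPow1

/-!
# Étale local algebras with trivial residue extension are trivial modulo powers of a suitable `t`

Let `R → S` be a local homomorphism of local rings, `S` a localization of an étale `R`-algebra at a
prime, with trivial residue field extension. Then there is `t ∈ 𝔪_R` such that `R/tⁿ → S/tⁿS` is
bijective for all `n ≥ 1`.
-/

namespace Groth.Agent.Lib.Helper6.EtaleQuotPow

open Polynomial

universe u

lemma aeval_sub_aeval_mem {R S : Type*} [CommRing R] [CommRing S] [Algebra R S]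
    (p : R[X]) (x y : S) (J : Ideal S) (h : x - y ∈ J) :
    aeval x p - aeval y p ∈ J := by
  have hd : x - y ∣ aeval x p - aeval y p := by
    rw [aeval_def, aeval_def, ← eval_map, ← eval_map]
    exact Polynomial.sub_dvd_eval_sub x y _
  obtain ⟨c, hc⟩ := hd
  rw [hc]
  exact J.mul_mem_right _ h

set_option maxHeartbeats 800000 in
theorem exists_sections
    (R : Type u) [CommRing R] [IsLocalRing R] (T : Type u) [CommRing T] [Algebra R T]
    [Algebra.Etale R T] (q : Ideal T) [q.IsPrime] (S : Type u) [CommRing S] [IsLocalRing S]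
    [Algebra T S] [IsLocalization.AtPrime S q] [Algebra R S] [IsScalarTower R T S]
    [IsLocalHom (algebraMap R S)]
    (hres : Function.Bijective (IsLocalRing.ResidueField.map (algebraMap R S))) :
    ∃ t ∈ IsLocalRing.maximalIdeal R, ∀ n : ℕ, 1 ≤ n →
      Nonempty (S →ₐ[R] R ⧸ Ideal.span {t ^ n}) := by
  classical
  -- standard étale neighbourhood
  have hetale : Algebra.IsEtaleAt R q := inferInstance
  obtain ⟨f, hfq, hstd⟩ := Algebra.IsEtaleAt.exists_isStandardEtale (R := R) q
  let P : StandardEtalePresentation R (Localization.Away f) :=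
    hstd.nonempty_standardEtalePresentation.some
  -- the map to `S`
  have hfu : IsUnit (algebraMap T S f) := IsLocalization.map_units S (⟨f, hfq⟩ : q.primeCompl)
  let ψ : Localization.Away f →ₐ[R] S :=
    { IsLocalization.Away.lift f hfu with
      commutes' := by
        intro r
        show IsLocalization.Away.lift f hfu (algebraMap R (Localization.Away f) r) =
          algebraMap R S r
        rw [IsScalarTower.algebraMap_apply R T (Localization.Away f),
          IsLocalization.Away.lift_eq, ← IsScalarTower.algebraMap_apply] }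
  have hψ : ∀ y : T, ψ (algebraMap T (Localization.Away f) y) = algebraMap T S y :=
    fun y => IsLocalization.Away.lift_eq f hfu y
  have hx : P.HasMap (ψ P.x) := P.hasMap.map ψ
  -- choose `a`
  obtain ⟨abar, habar⟩ := hres.surjective (IsLocalRing.residue S (ψ P.x))
  obtain ⟨a, rfl⟩ := IsLocalRing.residue_surjective abar
  rw [IsLocalRing.ResidueField.map_residue] at habar
  have hd : algebraMap R S a - ψ P.x ∈ IsLocalRing.maximalIdeal S := by
    rw [← IsLocalRing.residue_eq_zero_iff, map_sub, habar, sub_self]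
  have hcong : ∀ p : R[X],
      algebraMap R S (p.eval a) - aeval (ψ P.x) p ∈ IsLocalRing.maximalIdeal S := by
    intro p
    have := aeval_sub_aeval_mem p (algebraMap R S a) (ψ P.x) _ hd
    rwa [aeval_algebraMap_apply_eq_algebraMap_eval] at this
  have htS : algebraMap R S (P.f.eval a) ∈ IsLocalRing.maximalIdeal S := by
    have := hcong P.f
    rwa [hx.1, sub_zero] at this
  have htm : P.f.eval a ∈ IsLocalRing.maximalIdeal R := by
    rw [IsLocalRing.mem_maximalIdeal, mem_nonunits_iff]
    intro hunit
    exact (IsLocalRing.mem_maximalIdeal _).mp htS (hunit.map (algebraMap R S))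
  have huu : IsUnit (P.g.eval a) := by
    have h1 : algebraMap R S (P.g.eval a) ∉ IsLocalRing.maximalIdeal S := by
      intro hmem
      have h2 := hcong P.g
      have h3 : aeval (ψ P.x) P.g ∈ IsLocalRing.maximalIdeal S := by
        have : aeval (ψ P.x) P.g = algebraMap R S (P.g.eval a) -
            (algebraMap R S (P.g.eval a) - aeval (ψ P.x) P.g) := by ring
        rw [this]
        exact Ideal.sub_mem _ hmem h2
      exact (IsLocalRing.mem_maximalIdeal _).mp h3 hx.2
    have h4 : IsUnit (algebraMap R S (P.g.eval a)) := by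
      by_contra hnu
      exact h1 ((IsLocalRing.mem_maximalIdeal _).mpr hnu)
    exact isUnit_of_map_unit (algebraMap R S) _ h4
  refine ⟨P.f.eval a, htm, fun n hn => ?_⟩
  have hle : Ideal.span {P.f.eval a ^ n} ≤ Ideal.span {P.f.eval a} := by
    rw [Ideal.span_singleton_le_iff_mem]
    obtain ⟨k, rfl⟩ : ∃ k, n = k + 1 := ⟨n - 1, by omega⟩
    rw [pow_succ]
    exact Ideal.mul_mem_left _ _ (Ideal.mem_span_singleton_self _)
  -- the map modulo `t`
  have hmap1 : P.HasMap (Ideal.Quotient.mk (Ideal.span {P.f.eval a}) a) := by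
    constructor
    · show aeval (algebraMap R (R ⧸ Ideal.span {P.f.eval a}) a) P.f = 0
      rw [aeval_algebraMap_apply_eq_algebraMap_eval]
      exact Ideal.Quotient.eq_zero_iff_mem.mpr (Ideal.mem_span_singleton_self _)
    · show IsUnit (aeval (algebraMap R (R ⧸ Ideal.span {P.f.eval a}) a) P.g)
      rw [aeval_algebraMap_apply_eq_algebraMap_eval]
      exact huu.map _
  let σ1 : P.Ring →ₐ[R] R ⧸ Ideal.span {P.f.eval a} := P.lift _ hmap1
  have hσ1X : σ1 P.X = Ideal.Quotient.mk (Ideal.span {P.f.eval a}) a := P.lift_X _ hmap1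
  let σ1' : T →ₐ[R] R ⧸ Ideal.span {P.f.eval a} :=
    (σ1.comp P.equivRing.toAlgHom).comp (IsScalarTower.toAlgHom R T (Localization.Away f))
  let g : R ⧸ Ideal.span {P.f.eval a ^ n} →ₐ[R] R ⧸ Ideal.span {P.f.eval a} :=
    Ideal.Quotient.factorₐ R hle
  have hgs : Function.Surjective g := Ideal.Quotient.factor_surjective hle
  have hgn : IsNilpotent (RingHom.ker
      (g : R ⧸ Ideal.span {P.f.eval a ^ n} →+* R ⧸ Ideal.span {P.f.eval a})) := by
    refine ⟨n, ?_⟩
    have hk : RingHom.ker
        (g : R ⧸ Ideal.span {P.f.eval a ^ n} →+* R ⧸ Ideal.span {P.f.eval a}) =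
        (Ideal.span {P.f.eval a}).map (Ideal.Quotient.mk (Ideal.span {P.f.eval a ^ n})) :=
      Ideal.Quotient.factor_ker hle
    rw [hk, ← Ideal.map_pow, Ideal.span_singleton_pow, Ideal.zero_eq_bot,
      Ideal.map_quotient_self]
  let σn : T →ₐ[R] R ⧸ Ideal.span {P.f.eval a ^ n} :=
    Algebra.FormallySmooth.liftOfSurjective σ1' g hgs hgn
  have hσn : ∀ y, g (σn y) = σ1' y :=
    Algebra.FormallySmooth.liftOfSurjective_apply σ1' g hgs hgn
  -- the map to the residue field of `S`
  have hkill : ∀ x ∈ Ideal.span {P.f.eval a},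
      (Algebra.ofId R (IsLocalRing.ResidueField S)) x = 0 := by
    intro x hx'
    obtain ⟨c, rfl⟩ := Ideal.mem_span_singleton'.mp hx'
    show IsLocalRing.residue S (algebraMap R S (c * P.f.eval a)) = 0
    rw [IsLocalRing.residue_eq_zero_iff, map_mul]
    exact Ideal.mul_mem_left _ _ htS
  let ρ : R ⧸ Ideal.span {P.f.eval a} →ₐ[R] IsLocalRing.ResidueField S :=
    Ideal.Quotient.liftₐ (Ideal.span {P.f.eval a}) (Algebra.ofId R (IsLocalRing.ResidueField S))
      hkill
  have hρmk : ∀ r : R, ρ (Ideal.Quotient.mk _ r) = IsLocalRing.residue S (algebraMap R S r) :=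
    fun r => rfl
  have hunit_of : ∀ b : R ⧸ Ideal.span {P.f.eval a ^ n}, ρ (g b) ≠ 0 → IsUnit b := by
    intro b hb
    obtain ⟨r, rfl⟩ := Ideal.Quotient.mk_surjective b
    have h1 : g (Ideal.Quotient.mk _ r) = Ideal.Quotient.mk _ r := rfl
    rw [h1, hρmk, IsLocalRing.residue_ne_zero_iff_isUnit] at hb
    exact (isUnit_of_map_unit (algebraMap R S) _ hb).map _
  -- comparison of the two maps to the residue field
  have hcomp : ((ρ.comp σ1).comp P.equivRing.toAlgHom).comp P.equivRing.symm.toAlgHom =
      ((IsScalarTower.toAlgHom R S (IsLocalRing.ResidueField S)).comp ψ).comp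
        P.equivRing.symm.toAlgHom := by
    apply StandardEtalePair.hom_ext
    show ρ (σ1 (P.equivRing (P.equivRing.symm P.X))) =
      IsLocalRing.residue S (ψ (P.equivRing.symm P.X))
    rw [AlgEquiv.apply_symm_apply, hσ1X, hρmk, P.equivRing_symm_X, habar]
  have hcomp' : ∀ z : Localization.Away f, ρ (σ1 (P.equivRing z)) =
      IsLocalRing.residue S (ψ z) := by
    intro z
    have := AlgHom.congr_fun hcomp (P.equivRing z)
    simp only [AlgHom.comp_apply, AlgEquiv.coe_toAlgHom, AlgEquiv.symm_apply_apply] at this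
    exact this
  have hunits : ∀ y : q.primeCompl, IsUnit (σn.toRingHom y) := by
    intro y
    apply hunit_of
    show ρ (g (σn y)) ≠ 0
    rw [hσn]
    show ρ (σ1 (P.equivRing (algebraMap T (Localization.Away f) y))) ≠ 0
    rw [hcomp', hψ, IsLocalRing.residue_ne_zero_iff_isUnit]
    exact IsLocalization.map_units S y
  let sn : S →ₐ[R] R ⧸ Ideal.span {P.f.eval a ^ n} :=
    { IsLocalization.lift (M := q.primeCompl) (g := σn.toRingHom) hunits with
      commutes' := by
        intro r
        show IsLocalization.lift hunits (algebraMap R S r) = _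
        rw [IsScalarTower.algebraMap_apply R T S, IsLocalization.lift_eq]
        exact σn.commutes r }
  exact ⟨sn⟩

theorem exists_quotient_pow_bijective
    (R : Type u) [CommRing R] [IsLocalRing R] (T : Type u) [CommRing T] [Algebra R T]
    [Algebra.Etale R T] (q : Ideal T) [q.IsPrime] (S : Type u) [CommRing S] [IsLocalRing S]
    [Algebra T S] [IsLocalization.AtPrime S q] [Algebra R S] [IsScalarTower R T S]
    [IsLocalHom (algebraMap R S)]
    (hres : Function.Bijective (IsLocalRing.ResidueField.map (algebraMap R S))) :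
    ∃ t ∈ IsLocalRing.maximalIdeal R, ∀ n : ℕ, 1 ≤ n →
      Function.Bijective (Ideal.quotientMap ((Ideal.span {t ^ n}).map (algebraMap R S))
        (algebraMap R S) Ideal.le_comap_map) := by
  have h1 : Algebra.FormallyUnramified T S :=
    Algebra.FormallyUnramified.of_isLocalization q.primeCompl
  have h2 : Algebra.FormallyUnramified R S := Algebra.FormallyUnramified.comp R T S
  have h3 : Algebra.EssFiniteType T S := Algebra.EssFiniteType.of_isLocalization S q.primeCompl
  have h4 : Algebra.EssFiniteType R S := Algebra.EssFiniteType.comp R T S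
  obtain ⟨t, htm, hs⟩ := exists_sections R T q S hres
  refine ⟨t, htm, fun n hn => ?_⟩
  obtain ⟨s⟩ := hs n hn
  have hI : Ideal.span {t ^ n} ≠ ⊤ := by
    rw [Ne, Ideal.span_singleton_eq_top]
    intro hu
    have : t ^ n ∈ IsLocalRing.maximalIdeal R := Ideal.pow_mem_of_mem _ htm n (by omega)
    exact (IsLocalRing.mem_maximalIdeal _).mp this hu
  exact bijective_quotientMap_of_section _ hI s

end Groth.Agent.Lib.Helper6.EtaleQuotPow
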