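import Mathlib
import Groth.Statements.S6559

/-! Extension of a morphism from a dense open of an integral scheme to a proper scheme over a
point whose local ring is a discrete valuation ring. -/

set_option autoImplicit false
set_option linter.style.haveILetI false
universe u
open CategoryTheory CategoryTheory.Limits AlgebraicGeometry

namespace Groth.Agent.Lib.Helper6.ExtDVR

theorem main {S : Scheme.{u}} [IsAffine S] (X Y : Scheme.{u}) [X.Over S] [Y.Over S]
    [IsIntegral X] [IsProper (Y ↘ S)]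
    (U : X.Opens) (hU : (U : Set X).Nonempty) (f : (U : Scheme.{u}) ⟶ Y)
    (hf : f ≫ (Y ↘ S) = U.ι ≫ (X ↘ S))
    (x : X) (hdvr : IsDiscreteValuationRing (X.presheaf.stalk x)) :
    ∃ (U' : X.Opens) (hUU' : U ≤ U') (f' : (U' : Scheme.{u}) ⟶ Y), x ∈ U' ∧
      f' ≫ (Y ↘ S) = U'.ι ≫ (X ↘ S) ∧ X.homOfLE hUU' ≫ f' = f := by
  haveI : S.IsSeparated := inferInstance
  haveI : Y.IsSeparated := by
    rw [Scheme.isSeparated_iff, ← terminal.comp_from (Y ↘ S)]
    infer_instance
  haveI := hdvr
  obtain ⟨pf, hpfdom, hpfhom⟩ : ∃ pf : X.PartialMap Y, ∃ h : pf.domain = U,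
      pf.hom = (X.isoOfEq h).hom ≫ f := ⟨⟨U, U.2.dense hU, f⟩, rfl, by simp⟩
  subst hpfdom
  have hpfhom' : pf.hom = f := by rw [hpfhom]; simp
  subst hpfhom'
  haveI hpf : pf.IsOver S := Scheme.PartialMap.isOver_iff.mpr hf
  have hη : genericPoint X ⤳ x := genericPoint_specializes x
  obtain ⟨σ, hσ⟩ : ∃ σ : X.presheaf.stalk x ⟶ X.presheaf.stalk (genericPoint X),
      σ = CommRingCat.ofHom (algebraMap (X.presheaf.stalk x) X.functionField) := ⟨_, rfl⟩
  have hσ' : σ = X.presheaf.stalkSpecializes hη := by rw [hσ]; rfl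
  have hσ1 : Spec.map σ ≫ X.fromSpecStalk x = X.fromSpecStalk (genericPoint X) := by
    rw [hσ']; exact Scheme.SpecMap_stalkSpecializes_fromSpecStalk hη
  have hcomm : pf.fromFunctionField ≫ (Y ↘ S) =
      Spec.map σ ≫ (X.fromSpecStalk x ≫ (X ↘ S)) := by
    have h1 : pf.fromFunctionField ≫ (Y ↘ S) = X.fromSpecStalk (genericPoint X) ≫ (X ↘ S) := by
      show (pf.domain.fromSpecStalkOfMem _ _ ≫ pf.hom) ≫ (Y ↘ S) = _
      rw [Category.assoc, hf, Scheme.Opens.fromSpecStalkOfMem_ι_assoc]
    rw [h1, ← Category.assoc, hσ1]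
  have hex : ValuativeCriterion.Existence (Y ↘ S) := by
    have h' : (ValuativeCriterion.Existence ⊓ @QuasiCompact) (Y ↘ S) := by
      rw [← UniversallyClosed.eq_valuativeCriterion]; infer_instance
    exact h'.1
  have hlift : ∃ l : Spec (X.presheaf.stalk x) ⟶ Y,
      Spec.map σ ≫ l = pf.fromFunctionField ∧
        l ≫ (Y ↘ S) = X.fromSpecStalk x ≫ (X ↘ S) := by
    subst hσ
    obtain ⟨⟨l, hl1, hl2⟩⟩ := (hex
      { R := X.presheaf.stalk x
        commRing := inferInstance
        domain := inferInstance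
        valuationRing := inferInstance
        K := X.functionField
        field := inferInstance
        algebra := inferInstance
        isFractionRing := inferInstance
        i₁ := pf.fromFunctionField
        i₂ := X.fromSpecStalk x ≫ (X ↘ S)
        commSq := ⟨hcomm⟩ }).exists_lift
    exact ⟨l, hl1, hl2⟩
  obtain ⟨l, hl1, hl2⟩ := hlift
  obtain ⟨pg, hxg, hgl⟩ : ∃ pg : X.PartialMap Y, ∃ hxg : x ∈ pg.domain,
      pg.fromSpecStalkOfMem hxg = l :=
    ⟨Scheme.PartialMap.ofFromSpecStalk (X ↘ S) (Y ↘ S) l hl2,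
      Scheme.PartialMap.mem_domain_ofFromSpecStalk (X ↘ S) (Y ↘ S) l hl2,
      Scheme.PartialMap.fromSpecStalkOfMem_ofFromSpecStalk (X ↘ S) (Y ↘ S) l hl2⟩
  have hηg : genericPoint X ∈ pg.domain := hη.mem_open pg.domain.2 hxg
  have key : pg.fromFunctionField = pf.fromFunctionField := by
    have h4 : Spec.map σ ≫ pg.domain.fromSpecStalkOfMem x hxg =
        pg.domain.fromSpecStalkOfMem (genericPoint X) hηg := by
      rw [← cancel_mono pg.domain.ι, Category.assoc, Scheme.Opens.fromSpecStalkOfMem_ι,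
        Scheme.Opens.fromSpecStalkOfMem_ι]
      exact hσ1
    have h3 : pg.fromFunctionField = Spec.map σ ≫ pg.fromSpecStalkOfMem hxg := by
      show pg.domain.fromSpecStalkOfMem (genericPoint X) hηg ≫ pg.hom =
        Spec.map σ ≫ (pg.domain.fromSpecStalkOfMem x hxg ≫ pg.hom)
      rw [← Category.assoc, h4]
    rw [h3, hgl, hl1]
  have heq : pg.toRationalMap = pf.toRationalMap :=
    Scheme.RationalMap.eq_of_fromFunctionField_eq _ _ key
  refine ⟨pf.toRationalMap.toPartialMap.domain, pf.le_domain_toRationalMap,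
    pf.toRationalMap.toPartialMap.hom, ?_, ?_, ?_⟩
  · show x ∈ pf.toRationalMap.domain
    rw [← heq]
    exact pg.le_domain_toRationalMap hxg
  · haveI : pf.toRationalMap.toPartialMap.IsOver S := inferInstance
    exact Scheme.PartialMap.isOver_iff.mp this
  · exact pf.toPartialMap_toRationalMap_restrict

end Groth.Agent.Lib.Helper6.ExtDVR
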