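import Groth.Agent.Lib.Helper6.SchDom
import Groth.Agent.Lib.Helper15.OpenSub
import Groth.Agent.Lib.Helper15.MonoInj
import Groth.Agent.Lib.Helper16.SchImg2
import Groth.Agent.Lib.Helper16.Charts
import Groth.Agent.Lib.Helper16.Rep
import Groth.Agent.Lib.Helper16.FppfLocal2
import Groth.Agent.S10630

/-!
# Helper library (helper6): base change of first order thickenings of algebraic spaces

* scheme level: kernels of closed immersions into affine schemes under base change (`ker_appTop_of_isPullback`),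
  descent of vanishing of ideals along jointly surjective flat families (`ideal_eq_bot_of_flat_family`);
* `exists_chart_ker`: the kernel of the pullback of a representable closed immersion along an arbitrary morphism
  from an affine scheme, compared on an etale chart;
* `isFOThickMor_of_isPullback`: first order thickenings are stable under arbitrary base change;
* `main10637`, `main10635`.
-/

set_option autoImplicit false
universe u
open CategoryTheory CategoryTheory.Limits AlgebraicGeometry Opposite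

namespace Groth.Agent.Lib.Helper6.FOBase

open AlgSp Groth.Agent.Lib.Helper15 Groth.Agent.Lib.Helper16

section Sch

theorem sqZero_iff_of_isAffine {X Y : Scheme.{u}} (f : X ⟶ Y) [QuasiCompact f] [IsAffine Y] :
    AlgSp.sqZero f ↔ RingHom.ker f.appTop.hom * RingHom.ker f.appTop.hom = ⊥ := by
  show f.ker * f.ker = ⊥ ↔ _
  constructor
  · intro h
    have h' := congrArg (fun I : Scheme.IdealSheafData Y => I.ideal ⟨⊤, isAffineOpen_top Y⟩) h
    simp only [Scheme.IdealSheafData.ideal_mul, Pi.mul_apply, Scheme.IdealSheafData.ideal_bot,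
      Pi.bot_apply] at h'
    rw [Scheme.Hom.ker_apply] at h'
    exact h'
  · intro h
    apply Scheme.IdealSheafData.ext_of_isAffine
    simp only [Scheme.IdealSheafData.ideal_mul, Pi.mul_apply, Scheme.IdealSheafData.ideal_bot,
      Pi.bot_apply]
    rw [Scheme.Hom.ker_apply]
    exact h

/-- The kernel of the base change of a closed immersion (affine bases) is contained in the extended ideal. -/
theorem ker_appTop_le_map {W V W' V' : Scheme.{u}} [IsAffine V] [IsAffine V'] (q : W' ⟶ W) (i' : W' ⟶ V')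
    (i : W ⟶ V) (g : V' ⟶ V) [IsClosedImmersion i] (sq : IsPullback q i' i g) :
    RingHom.ker i'.appTop.hom ≤ (RingHom.ker i.appTop.hom).map g.appTop.hom := by
  haveI : IsClosedImmersion i' :=
    MorphismProperty.of_isPullback (P := @IsClosedImmersion) sq inferInstance
  have h𝒥 : (Scheme.IdealSheafData.ofIdealTop
      ((RingHom.ker i.appTop.hom).map g.appTop.hom)).ideal ⟨⊤, isAffineOpen_top V'⟩ =
      (RingHom.ker i.appTop.hom).map g.appTop.hom := by simp
  have hz : RingHom.ker (Scheme.IdealSheafData.ofIdealTop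
      ((RingHom.ker i.appTop.hom).map g.appTop.hom)).subschemeι.appTop.hom =
      (RingHom.ker i.appTop.hom).map g.appTop.hom := by
    have a := Scheme.Hom.ker_apply (Scheme.IdealSheafData.ofIdealTop
      ((RingHom.ker i.appTop.hom).map g.appTop.hom)).subschemeι ⟨⊤, isAffineOpen_top V'⟩
    rw [Scheme.IdealSheafData.ker_subschemeι, h𝒥] at a
    exact a.symm
  have hle : i.ker ≤ ((Scheme.IdealSheafData.ofIdealTop
      ((RingHom.ker i.appTop.hom).map g.appTop.hom)).subschemeι ≫ g).ker := by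
    apply Scheme.IdealSheafData.le_of_isAffine
    rw [Scheme.Hom.ker_apply, Scheme.Hom.ker_apply]
    intro a ha
    rw [RingHom.mem_ker] at ha ⊢
    have h1 : ((Scheme.IdealSheafData.ofIdealTop
        ((RingHom.ker i.appTop.hom).map g.appTop.hom)).subschemeι ≫ g).appTop.hom a =
        (Scheme.IdealSheafData.ofIdealTop
          ((RingHom.ker i.appTop.hom).map g.appTop.hom)).subschemeι.appTop.hom (g.appTop.hom a) := by
      rw [Scheme.Hom.comp_appTop]; rfl
    have h2 : g.appTop.hom a ∈ RingHom.ker (Scheme.IdealSheafData.ofIdealTop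
        ((RingHom.ker i.appTop.hom).map g.appTop.hom)).subschemeι.appTop.hom := by
      rw [hz]; exact Ideal.mem_map_of_mem _ (RingHom.mem_ker.2 ha)
    exact h1.trans (RingHom.mem_ker.1 h2)
  have hℓ : IsClosedImmersion.lift i ((Scheme.IdealSheafData.ofIdealTop
      ((RingHom.ker i.appTop.hom).map g.appTop.hom)).subschemeι ≫ g) hle ≫ i =
      (Scheme.IdealSheafData.ofIdealTop
        ((RingHom.ker i.appTop.hom).map g.appTop.hom)).subschemeι ≫ g :=
    IsClosedImmersion.lift_fac _ _ _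
  have hm : sq.lift _ _ hℓ ≫ i' = (Scheme.IdealSheafData.ofIdealTop
      ((RingHom.ker i.appTop.hom).map g.appTop.hom)).subschemeι := sq.lift_snd _ _ _
  have h3 := Scheme.Hom.le_ker_comp (sq.lift _ _ hℓ) i'
  rw [hm, Scheme.IdealSheafData.ker_subschemeι] at h3
  have h4 := h3 ⟨⊤, isAffineOpen_top V'⟩
  rw [Scheme.Hom.ker_apply, h𝒥] at h4
  exact h4

theorem map_le_ker_appTop {W V W' V' : Scheme.{u}} (q : W' ⟶ W) (i' : W' ⟶ V')
    (i : W ⟶ V) (g : V' ⟶ V) (w : q ≫ i = i' ≫ g) :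
    (RingHom.ker i.appTop.hom).map g.appTop.hom ≤ RingHom.ker i'.appTop.hom := by
  rw [Ideal.map_le_iff_le_comap]
  intro a ha
  rw [Ideal.mem_comap, RingHom.mem_ker]
  rw [RingHom.mem_ker] at ha
  have h1 : (i' ≫ g).appTop.hom a = i'.appTop.hom (g.appTop.hom a) := by
    rw [Scheme.Hom.comp_appTop]; rfl
  have h2 : (q ≫ i).appTop.hom a = q.appTop.hom (i.appTop.hom a) := by
    rw [Scheme.Hom.comp_appTop]; rfl
  rw [← h1, ← w, h2, ha, map_zero]

/-- Base change of the kernel of a closed immersion, affine bases. -/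
theorem ker_appTop_of_isPullback {W V W' V' : Scheme.{u}} [IsAffine V] [IsAffine V'] (q : W' ⟶ W)
    (i' : W' ⟶ V') (i : W ⟶ V) (g : V' ⟶ V) [IsClosedImmersion i] (sq : IsPullback q i' i g) :
    RingHom.ker i'.appTop.hom = (RingHom.ker i.appTop.hom).map g.appTop.hom :=
  le_antisymm (ker_appTop_le_map q i' i g sq) (map_le_ker_appTop q i' i g sq.w)

/-- A global section vanishing on a jointly surjective flat family vanishes. -/
theorem eq_zero_of_flat_family {V : Scheme.{u}} (x : Γ(V, ⊤))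
    (H : ∀ v : V, ∃ (O : Scheme.{u}) (ρ : O ⟶ V), Flat ρ ∧ v ∈ Set.range ρ ∧ ρ.appTop.hom x = 0) :
    x = 0 := by
  refine TopCat.Presheaf.section_ext V.sheaf ⊤ x 0 ?_
  intro v hv
  obtain ⟨O, ρ, hρ, ⟨o, rfl⟩, hx⟩ := H v
  haveI := hρ
  have hinj := Groth.Agent.Lib.Helper6.SchDom.stalkMap_injective_of_flat ρ o
  rw [injective_iff_map_eq_zero] at hinj
  have hx' : ρ.app ⊤ x = 0 := hx
  have h1 : (ρ.stalkMap o).hom (V.presheaf.germ ⊤ (ρ o) hv x) = 0 :=
    (Scheme.Hom.germ_stalkMap_apply ρ ⊤ o hv x).trans (by rw [hx', map_zero])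
  exact (hinj _ h1).trans (map_zero _).symm

/-- An ideal of global sections dying on a jointly surjective flat family is zero. -/
theorem ideal_eq_bot_of_flat_family {V : Scheme.{u}} (I : Ideal Γ(V, ⊤))
    (H : ∀ v : V, ∃ (O : Scheme.{u}) (ρ : O ⟶ V), Flat ρ ∧ v ∈ Set.range ρ ∧
      I.map ρ.appTop.hom = ⊥) : I = ⊥ := by
  rw [eq_bot_iff]
  intro x hx
  rw [Ideal.mem_bot]
  apply eq_zero_of_flat_family
  intro v
  obtain ⟨O, ρ, hρ, hv, hI⟩ := H v
  refine ⟨O, ρ, hρ, hv, ?_⟩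
  have hmem : ρ.appTop.hom x ∈ I.map ρ.appTop.hom := Ideal.mem_map_of_mem _ hx
  rw [hI] at hmem
  exact (Ideal.mem_bot).1 hmem

/-- A closed immersion with square zero kernel is surjective. -/
theorem surjective_of_sqZero {W V : Scheme.{u}} (f : W ⟶ V) [IsClosedImmersion f]
    (h : AlgSp.sqZero f) : Surjective f := by
  have h0 : f.ker * f.ker = ⊥ := h
  have h1 : (f.ker * f.ker).support = f.ker.support := by
    rw [Scheme.IdealSheafData.support_mul]; exact sup_idem _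
  have h2 : f.ker.support = ⊤ := by
    rw [← h1, h0, Scheme.IdealSheafData.support_bot]
  have h3 : (f.ker.support : Set V) = closure (Set.range f) := Scheme.Hom.support_ker f
  rw [h2, f.isClosedEmbedding.isClosed_range.closure_eq] at h3
  exact ⟨Set.range_eq_univ.mp h3.symm⟩

end Sch

section Sp

variable {S : Scheme.{u}}

theorem isPullback_of_mono {C : Type*} [Category C] {A B D : C} (x : A ⟶ B) (m : B ⟶ D) [Mono m] :
    IsPullback x (𝟙 A) m (x ≫ m) := by
  have hw : x ≫ m = 𝟙 A ≫ x ≫ m := (Category.id_comp _).symm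
  exact IsPullback.of_isLimit' ⟨hw⟩ (PullbackCone.IsLimit.mk hw (fun s => s.snd)
    (fun s => by rw [← cancel_mono m, Category.assoc]; exact s.condition.symm)
    (fun s => Category.comp_id _)
    (fun s t _ h2 => by rw [← h2, Category.comp_id]))

/-- Two represented pullbacks of the same morphism along the same map have the same kernel. -/
theorem ker_eq_of_two_pullbacks {F G : Sp S} {i : F ⟶ G} {V W₁ W₂ : Over S} {c₁ c₂ : (yon S).obj V ⟶ G}
    (hc : c₁ = c₂) {fst₁ : (yon S).obj W₁ ⟶ F} {snd₁ : W₁ ⟶ V} {fst₂ : (yon S).obj W₂ ⟶ F}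
    {snd₂ : W₂ ⟶ V} (sq₁ : IsPullback fst₁ ((yon S).map snd₁) i c₁)
    (sq₂ : IsPullback fst₂ ((yon S).map snd₂) i c₂) : snd₂.left.ker = snd₁.left.ker := by
  subst hc
  have he : (sq₂.isoIsPullback _ _ sq₁).hom ≫ (yon S).map snd₁ = (yon S).map snd₂ :=
    sq₂.isoIsPullback_hom_snd _ _ sq₁
  obtain ⟨ε, hε⟩ := (yon S).map_surjective (sq₂.isoIsPullback _ _ sq₁).hom
  have hcomp : ε ≫ snd₁ = snd₂ := by
    apply (yon S).map_injective
    rw [Functor.map_comp, hε, he]
  haveI : IsIso ((yon S).map ε) := by rw [hε]; infer_instance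
  haveI : IsIso ε := isIso_of_fully_faithful (yon S) ε
  haveI : IsIso ε.left := inferInstanceAs (IsIso ((Over.forget S).map ε))
  have hl : snd₂.left = ε.left ≫ snd₁.left := by rw [← hcomp]; rfl
  rw [hl, Scheme.Hom.ker_comp_of_isIso]

/-- The scheme level pullback of a represented pullback is a represented pullback. -/
theorem exists_pullback_yon {F G : Sp S} {i : F ⟶ G} {V W V' : Over S} {c : (yon S).obj V ⟶ G}
    {fst : (yon S).obj W ⟶ F} {snd : W ⟶ V} (sq : IsPullback fst ((yon S).map snd) i c) (g : V' ⟶ V) :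
    ∃ (WP : Over S) (k : WP ⟶ W) (m : WP ⟶ V'), IsPullback k.left m.left snd.left g.left ∧
      IsPullback ((yon S).map k ≫ fst) ((yon S).map m) i ((yon S).map g ≫ c) := by
  let WP : Over S := Over.mk (pullback.snd snd.left g.left ≫ V'.hom)
  let m : WP ⟶ V' := Over.homMk (pullback.snd snd.left g.left) rfl
  have hk : pullback.fst snd.left g.left ≫ W.hom = WP.hom := by
    show pullback.fst snd.left g.left ≫ W.hom = pullback.snd snd.left g.left ≫ V'.hom
    have e1 : pullback.fst snd.left g.left ≫ snd.left ≫ V.hom =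
        pullback.fst snd.left g.left ≫ W.hom := by rw [Over.w snd]
    have e2 : pullback.snd snd.left g.left ≫ g.left ≫ V.hom =
        pullback.snd snd.left g.left ≫ V'.hom := by rw [Over.w g]
    rw [← e1, ← e2, ← Category.assoc, pullback.condition, Category.assoc]
  let k : WP ⟶ W := Over.homMk (pullback.fst snd.left g.left) hk
  have hcomm : k ≫ snd = m ≫ g := by
    apply Over.OverMorphism.ext
    exact pullback.condition
  have sq1 : IsPullback k m snd g :=
    IsPullback.of_map (Over.forget S) hcomm (IsPullback.of_hasPullback snd.left g.left)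
  exact ⟨WP, k, m, IsPullback.of_hasPullback snd.left g.left, (sq1.map (yon S)).paste_horiz sq⟩

/-- Around a point of an affine scheme mapping to an algebraic space: an affine etale neighbourhood mapping to an
affine etale chart of the space. -/
theorem exists_chart {G : Sp S} (hG : IsAlgSpace G) {V' : Over S} (c' : (yon S).obj V' ⟶ G)
    (v : ↥V'.left) :
    ∃ (O₀ O₁ : Over S) (b₀ : (yon S).obj O₀ ⟶ G) (t : O₁ ⟶ O₀) (ρ : O₁ ⟶ V'),
      IsAffine O₀.left ∧ IsAffine O₁.left ∧ RepWith @Etale b₀ ∧ Flat ρ.left ∧ v ∈ Set.range ρ.left ∧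
        (yon S).map t ≫ b₀ = (yon S).map ρ ≫ c' := by
  obtain ⟨V₀, a₀, ha₀e, ha₀s⟩ := hG.atlas
  obtain ⟨V₁, r, s, sq₁⟩ := ha₀e.rep c'
  have hre : Etale r.left := ha₀e.property c' s r sq₁
  have hrs : Surjective r.left := ha₀s.property c' s r sq₁
  obtain ⟨s₀, rfl⟩ := (yon S).map_surjective s
  obtain ⟨v₁, rfl⟩ := hrs.surj v
  obtain ⟨P₀, hP₀, hv₀, -⟩ :=
    exists_isAffineOpen_mem_and_subset (x := s₀.left v₁) (U := ⊤) trivial
  have hv₀' : v₁ ∈ s₀.left ⁻¹ᵁ P₀ := hv₀
  obtain ⟨P₁, hP₁, hv₁, hle⟩ := exists_isAffineOpen_mem_and_subset hv₀'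
  have hle' : P₁ ≤ s₀.left ⁻¹ᵁ P₀ := hle
  let O₀ : Over S := Over.mk (P₀.ι ≫ V₀.hom)
  let ι₀ : O₀ ⟶ V₀ := Over.homMk P₀.ι rfl
  let O₁ : Over S := Over.mk (P₁.ι ≫ V₁.hom)
  let ι₁ : O₁ ⟶ V₁ := Over.homMk P₁.ι rfl
  have ht : s₀.left.resLE P₀ P₁ hle' ≫ O₀.hom = O₁.hom := by
    show s₀.left.resLE P₀ P₁ hle' ≫ P₀.ι ≫ V₀.hom = P₁.ι ≫ V₁.hom
    rw [← Category.assoc, Scheme.Hom.resLE_comp_ι, Category.assoc, Over.w s₀]
  let t : O₁ ⟶ O₀ := Over.homMk (s₀.left.resLE P₀ P₁ hle') ht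
  have htι : t ≫ ι₀ = ι₁ ≫ s₀ := by
    apply Over.OverMorphism.ext
    exact Scheme.Hom.resLE_comp_ι _ _
  have hι₀e : Etale ι₀.left := by
    show Etale P₀.ι
    infer_instance
  refine ⟨O₀, O₁, (yon S).map ι₀ ≫ a₀, t, ι₁ ≫ r, hP₀, hP₁, ?_, ?_, ?_, ?_⟩
  · exact (RepWith @Etale).comp_mem _ _ ((repWith_yon_map_iff _ _).2 hι₀e) ha₀e
  · haveI := hre
    show Flat (P₁.ι ≫ r.left)
    infer_instance
  · exact ⟨⟨v₁, hv₁⟩, rfl⟩
  · rw [← Category.assoc, ← Functor.map_comp, htι, Functor.map_comp, Category.assoc, sq₁.w,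
      ← Category.assoc, ← Functor.map_comp]

/-- The kernel of the pullback of a representable closed immersion along a morphism from an affine scheme,
compared with the kernel on an etale chart. -/
theorem exists_chart_ker {G : Sp S} (hG : IsAlgSpace G) {V' : Over S} (hV' : IsAffine V'.left)
    (c' : (yon S).obj V' ⟶ G) (v : ↥V'.left) :
    ∃ (O₀ O₁ : Over S) (b₀ : (yon S).obj O₀ ⟶ G) (t : O₁ ⟶ O₀) (ρ : O₁ ⟶ V'),
      IsAffine O₀.left ∧ IsAffine O₁.left ∧ RepWith @Etale b₀ ∧ Flat ρ.left ∧ v ∈ Set.range ρ.left ∧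
      ∀ {F : Sp S} (i : F ⟶ G), RepWith @IsClosedImmersion i →
        ∀ {W' W₀ : Over S} (fst' : (yon S).obj W' ⟶ F) (snd' : W' ⟶ V')
          (fst₀ : (yon S).obj W₀ ⟶ F) (snd₀ : W₀ ⟶ O₀),
          IsPullback fst' ((yon S).map snd') i c' → IsPullback fst₀ ((yon S).map snd₀) i b₀ →
          (RingHom.ker snd'.left.appTop.hom).map ρ.left.appTop.hom =
            (RingHom.ker snd₀.left.appTop.hom).map t.left.appTop.hom := by
  obtain ⟨O₀, O₁, b₀, t, ρ, hO₀, hO₁, hb₀, hρ, hv, hcomm⟩ := exists_chart hG c' v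
  refine ⟨O₀, O₁, b₀, t, ρ, hO₀, hO₁, hb₀, hρ, hv, ?_⟩
  intro F i hi W' W₀ fst' snd' fst₀ snd₀ sq' sq₀
  haveI := hV'
  haveI := hO₀
  haveI := hO₁
  haveI : IsClosedImmersion snd'.left := hi.property c' fst' snd' sq'
  haveI : IsClosedImmersion snd₀.left := hi.property b₀ fst₀ snd₀ sq₀
  obtain ⟨WP', k', m', sqs', sqy'⟩ := exists_pullback_yon sq' ρ
  obtain ⟨WP₀, k₀, m₀, sqs₀, sqy₀⟩ := exists_pullback_yon sq₀ t
  haveI : IsClosedImmersion m'.left :=
    MorphismProperty.of_isPullback (P := @IsClosedImmersion) sqs' inferInstance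
  haveI : IsClosedImmersion m₀.left :=
    MorphismProperty.of_isPullback (P := @IsClosedImmersion) sqs₀ inferInstance
  have e1 := ker_appTop_of_isPullback k'.left m'.left snd'.left ρ.left sqs'
  have e0 := ker_appTop_of_isPullback k₀.left m₀.left snd₀.left t.left sqs₀
  have e2 : m'.left.ker = m₀.left.ker := ker_eq_of_two_pullbacks hcomm sqy₀ sqy'
  have a1 := Scheme.Hom.ker_apply m'.left ⟨⊤, isAffineOpen_top _⟩
  have a0 := Scheme.Hom.ker_apply m₀.left ⟨⊤, isAffineOpen_top _⟩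
  rw [e2] at a1
  have e3 : RingHom.ker m'.left.appTop.hom = RingHom.ker m₀.left.appTop.hom := a1.symm.trans a0
  rw [← e1, ← e0, e3]

theorem thick_le_isClosedImmersion :
    (thick : MorphismProperty Scheme.{u}) ≤ @IsClosedImmersion := fun _ _ _ h => h.1

/-- The pullback of a first order thickening of algebraic spaces along any morphism from an affine scheme has square
zero kernel. -/
theorem sqZero_of_isFOThickMor {F G : Sp S} (hG : IsAlgSpace G) {i : F ⟶ G} (hi : IsFOThickMor i)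
    {V' W' : Over S} (hV' : IsAffine V'.left) (c' : (yon S).obj V' ⟶ G) (fst' : (yon S).obj W' ⟶ F)
    (snd' : W' ⟶ V') (sq' : IsPullback fst' ((yon S).map snd') i c') : sqZero snd'.left := by
  haveI := hV'
  have hicl : RepWith @IsClosedImmersion i := repWith_mono thick_le_isClosedImmersion _ hi.1
  haveI : IsClosedImmersion snd'.left := hicl.property c' fst' snd' sq'
  rw [sqZero_iff_of_isAffine]
  apply ideal_eq_bot_of_flat_family
  intro v
  obtain ⟨O₀, O₁, b₀, t, ρ, hO₀, hO₁, hb₀, hρ, hv, H⟩ := exists_chart_ker hG hV' c' v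
  refine ⟨O₁.left, ρ.left, hρ, hv, ?_⟩
  obtain ⟨W₀, snd₀, fst₀, sq₀⟩ := hicl.rep b₀
  have hsz₀ : sqZero snd₀.left := hi.2 b₀ fst₀ snd₀ hO₀ hb₀ sq₀
  haveI := hO₀
  haveI : IsClosedImmersion snd₀.left := hicl.property b₀ fst₀ snd₀ sq₀
  rw [sqZero_iff_of_isAffine] at hsz₀
  rw [Ideal.map_mul, H i hicl fst' snd' fst₀ snd₀ sq' sq₀, ← Ideal.map_mul, hsz₀, Ideal.map_bot]

/-- First order thickenings of algebraic spaces are stable under base change. -/
theorem isFOThickMor_of_isPullback {F G F' G' : Sp S} (hG : IsAlgSpace G) {i : F ⟶ G} {i' : F' ⟶ G'}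
    {p : G' ⟶ G} {q : F' ⟶ F} (sq : IsPullback q i' i p) (hi : IsFOThickMor i) : IsFOThickMor i' := by
  refine ⟨(RepWith thick).of_isPullback sq hi.1, ?_⟩
  intro V W b fst snd hV hb hpb
  exact sqZero_of_isFOThickMor hG hi hV (b ≫ p) (fst ≫ q) snd (hpb.paste_horiz sq)

theorem main10637 {Z X W Y W' P : AlgSp.Space S} (h : Z ⟶ X) (f : Z ⟶ W)
    (g : X ⟶ Y) (h' : W ⟶ Y) (sq : IsPullback h.hom f.hom g.hom h'.hom) (hh' : AlgSp.IsFormallyUnramifiedMor h'.hom)
    (iW : W ⟶ W') (hW' : W' ⟶ Y) (HU : AlgSp.IsUnivFOThick h'.hom iW.hom hW'.hom)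
    (pX : P ⟶ X) (pW : P ⟶ W') (sq' : IsPullback pX.hom pW.hom g.hom hW'.hom)
    (iZ : Z ⟶ P) (w1 : iZ ≫ pX = h) (w2 : iZ ≫ pW = f ≫ iW) :
    AlgSp.IsUnivFOThick h.hom iZ.hom pX.hom := by
  obtain ⟨hiW, hwW, hU⟩ := HU
  have w1' : iZ.hom ≫ pX.hom = h.hom := congrArg (fun t => t.hom) w1
  have w2' : iZ.hom ≫ pW.hom = f.hom ≫ iW.hom := congrArg (fun t => t.hom) w2
  have sqbig : IsPullback (iZ.hom ≫ pX.hom) f.hom g.hom (iW.hom ≫ hW'.hom) := by
    rw [w1', hwW]; exact sq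
  have sqleft : IsPullback iZ.hom f.hom pW.hom iW.hom := IsPullback.of_right sqbig w2' sq'
  refine ⟨isFOThickMor_of_isPullback W'.property sqleft.flip hiW, w1', ?_⟩
  intro T T' hT hT' j a b hj hcomm
  have hcomm' : j ≫ b ≫ g.hom = (a ≫ f.hom) ≫ h'.hom := by
    rw [← Category.assoc, hcomm, Category.assoc, sq.w, Category.assoc]
  obtain ⟨c', ⟨hc1, hc2⟩, hcu⟩ := hU hT hT' j (a ≫ f.hom) (b ≫ g.hom) hj hcomm'
  refine ⟨sq'.lift b c' hc2.symm, ⟨?_, sq'.lift_fst _ _ _⟩, ?_⟩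
  · apply sq'.hom_ext
    · rw [Category.assoc, sq'.lift_fst, hcomm, Category.assoc, w1']
    · rw [Category.assoc, sq'.lift_snd, hc1, Category.assoc, Category.assoc, w2']
  · rintro a'' ⟨h1, h2⟩
    apply sq'.hom_ext
    · rw [h2, sq'.lift_fst]
    · rw [sq'.lift_snd]
      apply hcu
      refine ⟨?_, ?_⟩
      · rw [← Category.assoc, h1, Category.assoc, w2', Category.assoc]
      · rw [Category.assoc, ← sq'.w, ← Category.assoc, h2]

set_option maxHeartbeats 1000000 in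
theorem main10635 {Z U X Z₁ : AlgSp.Space S} (c : Z ⟶ U)
    (hc : AlgSp.RepWith @IsClosedImmersion c.hom) (u : U ⟶ X) (hu : AlgSp.RepWith @IsOpenImmersion u.hom)
    (j : Z ⟶ Z₁) (k : Z₁ ⟶ U) (hN : AlgSp.IsInfNbhd 1 c.hom j.hom k.hom) :
    AlgSp.IsUnivFOThick (c ≫ u).hom j.hom (k ≫ u).hom := by
  obtain ⟨hjk, -, hk, hker⟩ := hN
  haveI : Mono k.hom := SchImg.mono_of_repWith_isClosedImmersion k.hom hk
  haveI : Mono u.hom := mono_of_repWith_isOpenImmersion u.hom hu
  have sqj : IsPullback (𝟙 Z.obj) j.hom c.hom k.hom := by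
    rw [← hjk]; exact (isPullback_of_mono j.hom k.hom).flip
  have hjcl : RepWith @IsClosedImmersion j.hom := (RepWith @IsClosedImmersion).of_isPullback sqj hc
  -- the kernel relation on affine etale charts of `U`
  have hpow : ∀ {O₀ Wc Wk : Over S} (b₀ : (yon S).obj O₀ ⟶ U.obj) (fc : (yon S).obj Wc ⟶ Z.obj)
      (sc : Wc ⟶ O₀) (fk : (yon S).obj Wk ⟶ Z₁.obj) (sk : Wk ⟶ O₀), IsAffine O₀.left →
      RepWith @Etale b₀ → IsPullback fc ((yon S).map sc) c.hom b₀ →
      IsPullback fk ((yon S).map sk) k.hom b₀ →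
      RingHom.ker sk.left.appTop.hom = RingHom.ker sc.left.appTop.hom ^ 2 := by
    intro O₀ Wc Wk b₀ fc sc fk sk hO₀ hb₀ sq₀c sq₀k
    haveI := hO₀
    haveI : IsClosedImmersion sc.left := hc.property b₀ fc sc sq₀c
    haveI : IsClosedImmersion sk.left := hk.property b₀ fk sk sq₀k
    have h := hker b₀ fc sc fk sk hO₀ hb₀ sq₀c sq₀k
    have h' := congrArg (fun I : Scheme.IdealSheafData O₀.left => I.ideal ⟨⊤, isAffineOpen_top _⟩) h
    simp only [Scheme.IdealSheafData.ideal_pow, Pi.pow_apply] at h'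
    rw [Scheme.Hom.ker_apply, Scheme.Hom.ker_apply] at h'
    exact h'
  -- the same relation after an arbitrary base change from an affine scheme, flat locally
  have key : ∀ {V' Wc' Wk' : Over S} (c' : (yon S).obj V' ⟶ U.obj) (fc' : (yon S).obj Wc' ⟶ Z.obj)
      (sc' : Wc' ⟶ V') (fk' : (yon S).obj Wk' ⟶ Z₁.obj) (sk' : Wk' ⟶ V'), IsAffine V'.left →
      IsPullback fc' ((yon S).map sc') c.hom c' → IsPullback fk' ((yon S).map sk') k.hom c' →
      ∀ v : ↥V'.left, ∃ (O : Scheme.{u}) (ρ : O ⟶ V'.left), Flat ρ ∧ v ∈ Set.range ρ ∧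
        (RingHom.ker sk'.left.appTop.hom).map ρ.appTop.hom =
          ((RingHom.ker sc'.left.appTop.hom) ^ 2).map ρ.appTop.hom := by
    intro V' Wc' Wk' c' fc' sc' fk' sk' hV' sqc' sqk' v
    obtain ⟨O₀, O₁, b₀, t, ρ, hO₀, hO₁, hb₀, hρ, hv, H⟩ := exists_chart_ker U.property hV' c' v
    refine ⟨O₁.left, ρ.left, hρ, hv, ?_⟩
    obtain ⟨Wc, sc, fc, sq₀c⟩ := hc.rep b₀
    obtain ⟨Wk, sk, fk, sq₀k⟩ := hk.rep b₀
    rw [H k.hom hk fk' sk' fk sk sqk' sq₀k, hpow b₀ fc sc fk sk hO₀ hb₀ sq₀c sq₀k, Ideal.map_pow,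
      ← H c.hom hc fc' sc' fc sc sqc' sq₀c, ← Ideal.map_pow]
  -- `j` has square zero kernel on affine etale charts
  have hAff : AffLocT sqZero j.hom := by
    intro V W b fst snd hV hb hpb
    haveI := hV
    have hpc : IsPullback (fst ≫ 𝟙 _) ((yon S).map snd) c.hom (b ≫ k.hom) := hpb.paste_horiz sqj
    have hid : (yon S).map (𝟙 V) = 𝟙 _ := (yon S).map_id V
    have hpk : IsPullback b ((yon S).map (𝟙 V)) k.hom (b ≫ k.hom) := by
      rw [hid]; exact isPullback_of_mono b k.hom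
    haveI : IsClosedImmersion snd.left := hjcl.property b fst snd hpb
    have hK1 : RingHom.ker (𝟙 V : V ⟶ V).left.appTop.hom = ⊥ := by
      haveI : IsIso (𝟙 V : V ⟶ V).left := inferInstanceAs (IsIso (𝟙 V.left))
      have a := Scheme.Hom.ker_apply (𝟙 V : V ⟶ V).left ⟨⊤, isAffineOpen_top _⟩
      rw [Scheme.Hom.ker_eq_bot_of_isIso] at a
      exact a.symm
    rw [sqZero_iff_of_isAffine]
    apply ideal_eq_bot_of_flat_family
    intro v
    obtain ⟨O, ρ, hρ, hv, hmap⟩ := key (b ≫ k.hom) (fst ≫ 𝟙 _) snd b (𝟙 V) hV hpc hpk v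
    refine ⟨O, ρ, hρ, hv, ?_⟩
    rw [← pow_two, ← hmap, hK1, Ideal.map_bot]
  -- `j` is surjective on points
  have hsurj : Function.Surjective (Points.map j.hom) := by
    intro z₁
    obtain ⟨A, a, hae, has⟩ := Z₁.property.atlas
    obtain ⟨v, rfl⟩ := ofPt_surjective_of_surjective a has z₁
    obtain ⟨P, hP, hvP, -⟩ := exists_isAffineOpen_mem_and_subset (x := v) (U := ⊤) trivial
    let O : Over S := Over.mk (P.ι ≫ A.hom)
    let ι : O ⟶ A := Over.homMk P.ι rfl
    have hιe : Etale ι.left := by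
      show Etale P.ι
      infer_instance
    have hb : RepWith @Etale ((yon S).map ι ≫ a) :=
      (RepWith @Etale).comp_mem _ _ ((repWith_yon_map_iff _ _).2 hιe) hae
    obtain ⟨W, snd, fst, sq⟩ := hjcl.rep ((yon S).map ι ≫ a)
    haveI : IsClosedImmersion snd.left := hjcl.property _ fst snd sq
    have hsz : sqZero snd.left := hAff _ fst snd hP hb sq
    have hs : Surjective snd.left := surjective_of_sqZero snd.left hsz
    obtain ⟨w, hw⟩ := hs.surj ⟨v, hvP⟩
    refine ⟨Points.ofPt fst w, ?_⟩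
    rw [Points.map_ofPt, sq.w, ofPt_yon_map_comp, hw, ofPt_yon_map_comp]
    rfl
  have hs' : RepWith @Surjective j.hom := (repWith_surjective_iff j.hom hjcl.rep).2 hsurj
  have hthick : IsThickMor j.hom :=
    ⟨hjcl.rep, fun T M t a b sq => ⟨hjcl.property _ _ _ sq, hs'.property _ _ _ sq⟩⟩
  have hFO : IsFOThickMor j.hom := ⟨hthick, hAff⟩
  have hw : j ≫ (k ≫ u) = c ≫ u := by
    apply ObjectProperty.hom_ext
    show j.hom ≫ k.hom ≫ u.hom = c.hom ≫ u.hom
    rw [← Category.assoc, hjk]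
  refine (Groth.Agent.S10630.result (c ≫ u) j (k ≫ u) hFO hw).2 ?_
  intro T T' jT hT' hjT a b hcomm
  haveI := hT'
  have hFT := isFirstOrderThickening_of_isFOThickMor_yon_map hT' hjT
  haveI : IsClosedImmersion jT.left := hFT.1.1
  have hcomm2 : (yon S).map jT ≫ b = (a ≫ c.hom) ≫ u.hom := by
    rw [hcomm, Category.assoc]; rfl
  -- Step A: factor through the open subspace
  obtain ⟨b₁, hb₁⟩ : ∃ b₁ : (yon S).obj T' ⟶ U.obj, b₁ ≫ u.hom = b := by
    rw [exists_factor_iff_of_openImmersion u.hom hu b]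
    intro p'
    obtain ⟨p, rfl⟩ := hFT.1.2.surj p'
    rw [← ofPt_yon_map_comp jT b p, hcomm2]
    exact ⟨Points.ofPt (a ≫ c.hom) p, Points.map_ofPt _ _ p⟩
  have hb₁' : (yon S).map jT ≫ b₁ = a ≫ c.hom := by
    rw [← cancel_mono u.hom, Category.assoc, hb₁, hcomm2]
  -- Step B: factor through the infinitesimal neighbourhood
  obtain ⟨W₁, n₁, f₁, sqk⟩ := hk.rep b₁
  obtain ⟨W₀, n₀, f₀, sqc⟩ := hc.rep b₁
  haveI : IsClosedImmersion n₁.left := hk.property b₁ f₁ n₁ sqk
  haveI : IsClosedImmersion n₀.left := hc.property b₁ f₀ n₀ sqc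
  obtain ⟨m₀, hm₀⟩ := (yon S).map_surjective (sqc.lift a ((yon S).map jT) hb₁'.symm)
  have hm₀' : m₀ ≫ n₀ = jT := by
    apply (yon S).map_injective
    rw [Functor.map_comp, hm₀]
    exact sqc.lift_snd _ _ _
  have hK₀J : RingHom.ker n₀.left.appTop.hom ≤ RingHom.ker jT.left.appTop.hom := by
    have h := Scheme.Hom.le_ker_comp m₀.left n₀.left
    have h2 : m₀.left ≫ n₀.left = jT.left := by rw [← hm₀']; rfl
    rw [h2] at h
    have h3 := h ⟨⊤, isAffineOpen_top _⟩
    rw [Scheme.Hom.ker_apply, Scheme.Hom.ker_apply] at h3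
    exact h3
  have hJ2 : RingHom.ker jT.left.appTop.hom * RingHom.ker jT.left.appTop.hom = ⊥ :=
    (sqZero_iff_of_isAffine jT.left).1 hFT.2
  have hK₀sq : RingHom.ker n₀.left.appTop.hom ^ 2 = ⊥ := by
    rw [eq_bot_iff, pow_two, ← hJ2]
    exact Ideal.mul_mono hK₀J hK₀J
  have hK₁ : RingHom.ker n₁.left.appTop.hom = ⊥ := by
    apply ideal_eq_bot_of_flat_family
    intro v
    obtain ⟨O, ρ, hρ, hv, hmap⟩ := key b₁ f₀ n₀ f₁ n₁ hT' sqc sqk v
    refine ⟨O, ρ, hρ, hv, ?_⟩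
    rw [hmap, hK₀sq, Ideal.map_bot]
  have hker₁ : n₁.left.ker = ⊥ := by
    apply Scheme.IdealSheafData.ext_of_isAffine
    have a := Scheme.Hom.ker_apply n₁.left ⟨⊤, isAffineOpen_top _⟩
    exact a.trans hK₁
  haveI hiso : IsIso n₁.left :=
    IsClosedImmersion.isIso_of_ker_eq n₁.left (𝟙 _) n₁.left (Category.comp_id _)
      (by rw [hker₁, Scheme.Hom.ker_eq_bot_of_isIso])
  haveI : IsIso ((Over.forget S).map n₁) := hiso
  haveI : IsIso n₁ := isIso_of_reflects_iso n₁ (Over.forget S)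
  have hid : (yon S).map (𝟙 T') = 𝟙 _ := (yon S).map_id T'
  have ha'k : ((yon S).map (inv n₁) ≫ f₁) ≫ k.hom = b₁ := by
    rw [Category.assoc, sqk.w, ← Category.assoc, ← Functor.map_comp, IsIso.inv_hom_id, hid,
      Category.id_comp]
  have ha'ku : ((yon S).map (inv n₁) ≫ f₁) ≫ (k ≫ u).hom = b := by
    show ((yon S).map (inv n₁) ≫ f₁) ≫ k.hom ≫ u.hom = b
    rw [← Category.assoc, ha'k, hb₁]
  haveI : Mono (k ≫ u).hom := by
    show Mono (k.hom ≫ u.hom)
    exact mono_comp _ _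
  refine ⟨(yon S).map (inv n₁) ≫ f₁, ⟨?_, ha'ku⟩, ?_⟩
  · rw [← cancel_mono k.hom, Category.assoc, ha'k, hb₁', Category.assoc, hjk]
  · rintro a'' ⟨-, h2⟩
    rw [← cancel_mono (k ≫ u).hom, h2, ha'ku]

end Sp

end Groth.Agent.Lib.Helper6.FOBase
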