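import Groth.Agent.Lib.Helper6.FOBase

/-!
# Helper library (helper6): the universal first order thickening is formally unramified over the base

`main10636`.
-/

set_option autoImplicit false
universe u
open CategoryTheory CategoryTheory.Limits AlgebraicGeometry Opposite

namespace Groth.Agent.Lib.Helper6.FOBase

open AlgSp Groth.Agent.Lib.Helper15 Groth.Agent.Lib.Helper16

section Sch

theorem ker_appTop_SpecMap_mul {R R' : CommRingCat.{u}} (φ : R ⟶ R') (h : RingHom.ker φ.hom ^ 2 = ⊥) :
    RingHom.ker (Spec.map φ).appTop.hom * RingHom.ker (Spec.map φ).appTop.hom = ⊥ := by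
  rw [eq_bot_iff, Ideal.mul_le]
  intro x hx y hy
  rw [Ideal.mem_bot]
  have hinj : Function.Injective (Scheme.ΓSpecIso R).hom.hom :=
    (ConcreteCategory.bijective_of_isIso (Scheme.ΓSpecIso R).hom).1
  apply hinj
  rw [map_mul, map_zero]
  have hker : ∀ w, w ∈ RingHom.ker (Spec.map φ).appTop.hom →
      (Scheme.ΓSpecIso R).hom.hom w ∈ RingHom.ker φ.hom := by
    intro w hw
    rw [RingHom.mem_ker] at hw ⊢
    have hnat := congrArg (fun ψ => ψ.hom w) (Scheme.ΓSpecIso_naturality φ)
    have hnat' : (Scheme.ΓSpecIso R').hom.hom ((Spec.map φ).appTop.hom w) =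
        φ.hom ((Scheme.ΓSpecIso R).hom.hom w) := hnat
    rw [← hnat', hw, map_zero]
  have h1 : (Scheme.ΓSpecIso R).hom.hom x * (Scheme.ΓSpecIso R).hom.hom y ∈
      RingHom.ker φ.hom ^ 2 := by
    rw [sq]
    exact Ideal.mul_mem_mul (hker x hx) (hker y hy)
  rw [h] at h1
  exact h1

theorem ker_appTop_subschemeι {V : Scheme.{u}} [IsAffine V] (J : Ideal Γ(V, ⊤)) :
    RingHom.ker (Scheme.IdealSheafData.ofIdealTop J).subschemeι.appTop.hom = J := by
  have h𝒥 : (Scheme.IdealSheafData.ofIdealTop J).ideal ⟨⊤, isAffineOpen_top V⟩ = J := by simp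
  have a := Scheme.Hom.ker_apply (Scheme.IdealSheafData.ofIdealTop J).subschemeι
    ⟨⊤, isAffineOpen_top V⟩
  rw [Scheme.IdealSheafData.ker_subschemeι, h𝒥] at a
  exact a.symm

theorem exists_lift_of_ker_le {V Y : Scheme.{u}} [IsAffine V] (J : Ideal Γ(V, ⊤)) (g : Y ⟶ V)
    [QuasiCompact g] (h : J ≤ RingHom.ker g.appTop.hom) :
    ∃ e : Y ⟶ (Scheme.IdealSheafData.ofIdealTop J).subscheme,
      e ≫ (Scheme.IdealSheafData.ofIdealTop J).subschemeι = g := by
  have h𝒥 : (Scheme.IdealSheafData.ofIdealTop J).ideal ⟨⊤, isAffineOpen_top V⟩ = J := by simp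
  have hle : (Scheme.IdealSheafData.ofIdealTop J).subschemeι.ker ≤ g.ker := by
    rw [Scheme.IdealSheafData.ker_subschemeι]
    apply Scheme.IdealSheafData.le_of_isAffine
    rw [Scheme.Hom.ker_apply, h𝒥]
    exact h
  exact ⟨IsClosedImmersion.lift _ g hle, IsClosedImmersion.lift_fac _ _ _⟩

end Sch

section Sp

variable {S : Scheme.{u}}

/-- The closed subscheme of an affine scheme over `S` cut out by an ideal of global sections. -/
theorem exists_closed_over {V : Over S} (hV : IsAffine V.left) (J : Ideal Γ(V.left, ⊤)) :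
    ∃ (D : Over S) (d : D ⟶ V), IsClosedImmersion d.left ∧ IsAffine D.left ∧
      RingHom.ker d.left.appTop.hom = J ∧
      ∀ {Y : Over S} (g : Y ⟶ V), QuasiCompact g.left → J ≤ RingHom.ker g.left.appTop.hom →
        ∃ e : Y ⟶ D, e ≫ d = g := by
  haveI := hV
  let D : Over S := Over.mk ((Scheme.IdealSheafData.ofIdealTop J).subschemeι ≫ V.hom)
  let d : D ⟶ V := Over.homMk (Scheme.IdealSheafData.ofIdealTop J).subschemeι rfl
  have hdcl : IsClosedImmersion d.left := by
    show IsClosedImmersion (Scheme.IdealSheafData.ofIdealTop J).subschemeι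
    infer_instance
  refine ⟨D, d, hdcl, (IsClosedImmersion.isAffine_surjective_of_isAffine d.left).1,
    ker_appTop_subschemeι J, ?_⟩
  intro Y g hg hJ
  haveI := hg
  obtain ⟨e₀, he₀⟩ := exists_lift_of_ker_le J g.left hJ
  have hw : e₀ ≫ D.hom = Y.hom := by
    show e₀ ≫ (Scheme.IdealSheafData.ofIdealTop J).subschemeι ≫ V.hom = Y.hom
    rw [← Category.assoc, he₀, Over.w g]
  refine ⟨Over.homMk e₀ hw, ?_⟩
  apply Over.OverMorphism.ext
  exact he₀

/-- A square zero closed immersion of schemes over `S` with affine target is a first order thickening of sheaves. -/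
theorem isFOThickMor_yon_map_of_sqZero {V W : Over S} (g : W ⟶ V) (hV : IsAffine V.left)
    (hcl : IsClosedImmersion g.left) (hsz : sqZero g.left) : IsFOThickMor ((yon S).map g) := by
  haveI := hV
  haveI := hcl
  have hs : Surjective g.left := surjective_of_sqZero g.left hsz
  refine ⟨(isThickMor_yon_map_iff g).2 ⟨hcl, hs⟩, ?_⟩
  intro V₂ W₂ b fst snd hV₂ hb hpb
  haveI := hV₂
  obtain ⟨β, rfl⟩ := (yon S).map_surjective b
  obtain ⟨WP, k, m, sqs, sqy⟩ := exists_pullback_yon (IsPullback.id_horiz ((yon S).map g)) β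
  have hker : snd.left.ker = m.left.ker := ker_eq_of_two_pullbacks (Category.comp_id _) sqy hpb
  haveI : IsClosedImmersion m.left :=
    MorphismProperty.of_isPullback (P := @IsClosedImmersion) sqs inferInstance
  have hm : sqZero m.left := by
    rw [sqZero_iff_of_isAffine] at hsz ⊢
    rw [ker_appTop_of_isPullback k.left m.left g.left β.left sqs, ← Ideal.map_mul, hsz, Ideal.map_bot]
  show snd.left.ker * snd.left.ker = ⊥
  rw [hker]
  exact hm

set_option maxHeartbeats 1000000 in
theorem main10636 {Z Z' X : AlgSp.Space S} (h : Z ⟶ X)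
    (hh : AlgSp.IsFormallyUnramifiedMor h.hom) (i : Z ⟶ Z') (h' : Z' ⟶ X)
    (HU : AlgSp.IsUnivFOThick h.hom i.hom h'.hom) :
    AlgSp.IsFormallyUnramifiedMor h'.hom := by
  obtain ⟨hi, hw, hU⟩ := HU
  have hicl : RepWith @IsClosedImmersion i.hom := repWith_mono thick_le_isClosedImmersion _ hi.1
  intro sq l l' hl1 hl2 hl1' hl2'
  have hT' : IsAffine sq.ptT'.left := by
    show IsAffine (Spec (CommRingCat.of sq.A))
    infer_instance
  haveI := hT'
  have hT : IsAffine sq.ptT.left := by
    show IsAffine (Spec (CommRingCat.of (sq.A ⧸ sq.I)))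
    infer_instance
  haveI := hT
  haveI hjcl : IsClosedImmersion sq.j.left := by
    show IsClosedImmersion (Spec.map (CommRingCat.ofHom (Ideal.Quotient.mk sq.I)))
    exact IsClosedImmersion.spec_of_surjective _ Ideal.Quotient.mk_surjective
  have hN2 : RingHom.ker sq.j.left.appTop.hom * RingHom.ker sq.j.left.appTop.hom = ⊥ := by
    show RingHom.ker (Spec.map (CommRingCat.ofHom (Ideal.Quotient.mk sq.I))).appTop.hom *
      RingHom.ker (Spec.map (CommRingCat.ofHom (Ideal.Quotient.mk sq.I))).appTop.hom = ⊥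
    apply ker_appTop_SpecMap_mul
    have hk : RingHom.ker (CommRingCat.ofHom (Ideal.Quotient.mk sq.I)).hom = sq.I := Ideal.mk_ker
    rw [hk, sq.sq_zero]
  have hφ : Function.Surjective sq.j.left.appTop.hom :=
    (IsClosedImmersion.isAffine_surjective_of_isAffine sq.j.left).2
  obtain ⟨W, n, f, sql⟩ := hicl.rep l
  haveI : IsClosedImmersion n.left := hicl.property l f n sql
  obtain ⟨WP, k, m, sqs, sqy⟩ := exists_pullback_yon sql sq.j
  haveI : IsClosedImmersion m.left :=
    MorphismProperty.of_isPullback (P := @IsClosedImmersion) sqs inferInstance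
  -- the ideal of `WP` in `T'`
  have hI₁ : RingHom.ker (m.left ≫ sq.j.left).appTop.hom ≤
      RingHom.ker n.left.appTop.hom ⊔ RingHom.ker sq.j.left.appTop.hom := by
    intro x hx
    have hx' : (m.left ≫ sq.j.left).appTop.hom x = 0 := RingHom.mem_ker.1 hx
    have hcomp : (m.left ≫ sq.j.left).appTop.hom x =
        m.left.appTop.hom (sq.j.left.appTop.hom x) := by
      rw [Scheme.Hom.comp_appTop]; rfl
    have h1 : sq.j.left.appTop.hom x ∈ RingHom.ker m.left.appTop.hom := by
      rw [RingHom.mem_ker, ← hcomp, hx']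
    rw [ker_appTop_of_isPullback k.left m.left n.left sq.j.left sqs] at h1
    have h2 : x ∈ Ideal.comap sq.j.left.appTop.hom
        (Ideal.map sq.j.left.appTop.hom (RingHom.ker n.left.appTop.hom)) := h1
    rw [Ideal.comap_map_of_surjective _ hφ] at h2
    exact h2
  have hsq : (RingHom.ker n.left.appTop.hom ⊔ RingHom.ker sq.j.left.appTop.hom) *
      (RingHom.ker n.left.appTop.hom ⊔ RingHom.ker sq.j.left.appTop.hom) ≤
      RingHom.ker n.left.appTop.hom := by
    rw [Ideal.sup_mul]
    refine sup_le Ideal.mul_le_left ?_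
    rw [Ideal.mul_sup]
    refine sup_le Ideal.mul_le_right ?_
    rw [hN2]
    exact bot_le
  have hI₁K : RingHom.ker (m.left ≫ sq.j.left).appTop.hom *
      RingHom.ker (m.left ≫ sq.j.left).appTop.hom ≤ RingHom.ker n.left.appTop.hom :=
    (Ideal.mul_mono hI₁ hI₁).trans hsq
  -- the closed subscheme `D₂` of `T'` cut out by the square of that ideal
  obtain ⟨D, d, hdcl, hDaff, hdker, hdlift⟩ := exists_closed_over hT'
    (RingHom.ker (m.left ≫ sq.j.left).appTop.hom * RingHom.ker (m.left ≫ sq.j.left).appTop.hom)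
  haveI := hdcl
  haveI := hDaff
  have hdsurj : Function.Surjective d.left.appTop.hom :=
    (IsClosedImmersion.isAffine_surjective_of_isAffine d.left).2
  obtain ⟨e', he'⟩ := hdlift (m ≫ sq.j) (by show QuasiCompact (m.left ≫ sq.j.left); infer_instance)
    (by show _ ≤ RingHom.ker (m.left ≫ sq.j.left).appTop.hom; exact Ideal.mul_le_right)
  obtain ⟨e₂', he₂'⟩ := hdlift n (by infer_instance) hI₁K
  have hleft : e'.left ≫ d.left = m.left ≫ sq.j.left := congrArg (fun t => t.left) he'
  haveI : IsClosedImmersion (e'.left ≫ d.left) := by rw [hleft]; infer_instance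
  haveI hecl : IsClosedImmersion e'.left := IsClosedImmersion.of_comp e'.left d.left
  have hesz : sqZero e'.left := by
    rw [sqZero_iff_of_isAffine, eq_bot_iff, Ideal.mul_le]
    intro y₁ hy₁ y₂ hy₂
    obtain ⟨r₁, rfl⟩ := hdsurj y₁
    obtain ⟨r₂, rfl⟩ := hdsurj y₂
    have hr : ∀ r, d.left.appTop.hom r ∈ RingHom.ker e'.left.appTop.hom →
        r ∈ RingHom.ker (m.left ≫ sq.j.left).appTop.hom := by
      intro r hr
      rw [RingHom.mem_ker] at hr ⊢
      have hc : (e'.left ≫ d.left).appTop.hom r = e'.left.appTop.hom (d.left.appTop.hom r) := by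
        rw [Scheme.Hom.comp_appTop]; rfl
      rw [← hleft, hc]
      exact hr
    rw [Ideal.mem_bot, ← map_mul]
    have hmem : r₁ * r₂ ∈ RingHom.ker d.left.appTop.hom := by
      rw [hdker]
      exact Ideal.mul_mem_mul (hr r₁ hy₁) (hr r₂ hy₂)
    exact RingHom.mem_ker.1 hmem
  have hFOe : IsFOThickMor ((yon S).map e') := isFOThickMor_yon_map_of_sqZero e' hDaff hecl hesz
  -- Step 1: `l` and `l'` agree on `D₂`
  have hyon_e : (yon S).map e' ≫ (yon S).map d = (yon S).map m ≫ (yon S).map sq.j := by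
    rw [← Functor.map_comp, he', Functor.map_comp]
  have c1 : ((yon S).map k ≫ f) ≫ h.hom = ((yon S).map m ≫ (yon S).map sq.j) ≫ sq.bot := by
    rw [← hw, ← Category.assoc, sqy.w]
    simp only [Category.assoc]
    rw [hl2]
  have hcompat : (yon S).map e' ≫ (yon S).map d ≫ sq.bot = ((yon S).map k ≫ f) ≫ h.hom := by
    rw [c1, ← Category.assoc, hyon_e]
  have p1 : (yon S).map e' ≫ ((yon S).map d ≫ l) = ((yon S).map k ≫ f) ≫ i.hom := by
    rw [← Category.assoc, hyon_e, Category.assoc]
    exact sqy.w.symm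
  have p2 : ((yon S).map d ≫ l) ≫ h'.hom = (yon S).map d ≫ sq.bot := by
    rw [Category.assoc, hl2]
  have p1' : (yon S).map e' ≫ ((yon S).map d ≫ l') = ((yon S).map k ≫ f) ≫ i.hom := by
    rw [← Category.assoc, hyon_e, Category.assoc, hl1', ← hl1]
    exact sqy.w.symm
  have p2' : ((yon S).map d ≫ l') ≫ h'.hom = (yon S).map d ≫ sq.bot := by
    rw [Category.assoc, hl2']
  obtain ⟨a₁, -, hau₁⟩ := hU (IsAlgSpace.yon_obj WP) (IsAlgSpace.yon_obj D) ((yon S).map e')
    ((yon S).map k ≫ f) ((yon S).map d ≫ sq.bot) hFOe hcompat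
  have hl_eq : (yon S).map d ≫ l = (yon S).map d ≫ l' :=
    (hau₁ _ ⟨p1, p2⟩).trans (hau₁ _ ⟨p1', p2'⟩).symm
  -- Step 2: `l'` restricted to `W` factors through `Z`
  have hn : (yon S).map n = (yon S).map e₂' ≫ (yon S).map d := by
    rw [← Functor.map_comp, he₂']
  have hn_eq : (yon S).map n ≫ l' = f ≫ i.hom := by
    rw [hn, Category.assoc, ← hl_eq, ← Category.assoc, ← hn]
    exact sql.w.symm
  -- Step 3: uniqueness for the thickening `W ⊂ T'`
  have hFOn : IsFOThickMor ((yon S).map n) := isFOThickMor_of_isPullback Z'.property sql hi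
  have compat3 : (yon S).map n ≫ sq.bot = f ≫ h.hom := by
    rw [← hl2, ← Category.assoc, ← sql.w, Category.assoc, hw]
  obtain ⟨a₃, -, hau₃⟩ := hU (IsAlgSpace.yon_obj W) (IsAlgSpace.yon_obj sq.ptT') ((yon S).map n) f
    sq.bot hFOn compat3
  exact (hau₃ l ⟨sql.w.symm, hl2⟩).trans (hau₃ l' ⟨hn_eq, hl2'⟩).symm

end Sp

end Groth.Agent.Lib.Helper6.FOBase
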