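import Groth.Agent.Lib.Helper6.FOBase2
import Groth.Agent.Lib.Helper16.FormalF
import Groth.Agent.Lib.Helper24.EtThickGlue

/-!
# Helper library (helper6): descent of universal first order thickenings along etale surjections

`main10633`: if `(Z ⊂ Z') ⟶ (Y ⊂ Y')` is an etale morphism of first order thickenings over `X` with `Z ⟶ Y` surjective
and `Z'` is a universal first order thickening of `Z` over `X`, then `Y'` is one of `Y` over `X`.
-/

set_option autoImplicit false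
universe u
open CategoryTheory CategoryTheory.Limits AlgebraicGeometry Opposite

namespace Groth.Agent.Lib.Helper6.FODescend

open AlgSp Groth.Agent.Lib.Helper15 Groth.Agent.Lib.Helper16 Groth.Agent.Lib.Helper16.Formal

variable {S : Scheme.{u}}

/-- Given an etale surjection `e : Z ⟶ Y` from an algebraic space, a thickening `T ⊂ T'` of schemes and `a : T ⟶ Y`:
an etale covering `T₁' ⟶ T'` whose restriction `T₁ ⟶ T` carries a lift `α : T₁ ⟶ Z` of `a`. -/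
theorem exists_lifted_cover {Z Y : Sp S} (hZ : IsAlgSpace Z) (e : Z ⟶ Y) (he : IsEtaleMor e)
    (hes : IsSurjectiveMor e) {T T' : Over S} (j : T ⟶ T') (hj : IsThickMor ((yon S).map j))
    (a : (yon S).obj T ⟶ Y) :
    ∃ (T₁ T₁' : Over S) (snd : T₁ ⟶ T) (q : T₁' ⟶ T') (j₁ : T₁ ⟶ T₁') (α : (yon S).obj T₁ ⟶ Z),
      Etale q.left ∧ Surjective q.left ∧ Etale snd.left ∧ Surjective snd.left ∧
      IsPullback ((yon S).map j₁) ((yon S).map snd) ((yon S).map q) ((yon S).map j) ∧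
      α ≫ e = (yon S).map snd ≫ a := by
  obtain ⟨U₀, p, hpe, hps⟩ := hZ.atlas
  have hpe' : RepWith @Etale (p ≫ e) := he p hpe
  have hps' : RepWith @Surjective (p ≫ e) := by
    rw [repWith_surjective_iff _ hpe'.rep]
    have h1 : Function.Surjective (Points.map p) := (repWith_surjective_iff _ hpe.rep).1 hps
    intro y
    obtain ⟨z, rfl⟩ := hes y
    obtain ⟨x, rfl⟩ := h1 z
    exact ⟨x, Points.map_comp _ _ _⟩
  obtain ⟨T₁, snd, fst, sq⟩ := hpe'.rep a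
  have hse : Etale snd.left := hpe'.property a fst snd sq
  have hss : Surjective snd.left := hps'.property a fst snd sq
  have hth := (isThickMor_yon_map_iff j).1 hj
  haveI : IsClosedImmersion j.left := hth.1
  haveI : Surjective j.left := hth.2
  haveI : Etale snd.left := hse
  obtain ⟨Y₁, q, j₁, hq, sqL⟩ := Groth.Agent.Lib.Helper24.EtThick.exists_etale_lift j.left snd.left
  let T₁' : Over S := Over.mk (q ≫ T'.hom)
  let q' : T₁' ⟶ T' := Over.homMk q rfl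
  have hj₁ : j₁ ≫ T₁'.hom = T₁.hom := by
    show j₁ ≫ q ≫ T'.hom = T₁.hom
    rw [← Category.assoc, sqL.w, Category.assoc, Over.w j, Over.w snd]
  let j₁' : T₁ ⟶ T₁' := Over.homMk j₁ hj₁
  have hcomm : j₁' ≫ q' = snd ≫ j := by
    apply Over.OverMorphism.ext
    exact sqL.w
  have sqO : IsPullback j₁' snd q' j := IsPullback.of_map (Over.forget S) hcomm sqL
  refine ⟨T₁, T₁', snd, q', j₁', fst ≫ p, hq, ?_, hse, hss, sqO.map (yon S), ?_⟩
  · refine ⟨fun t' => ?_⟩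
    obtain ⟨t, rfl⟩ := hth.2.surj t'
    obtain ⟨t₁, rfl⟩ := hss.surj t
    refine ⟨j₁ t₁, ?_⟩
    show q (j₁ t₁) = j.left (snd.left t₁)
    exact (Scheme.Hom.comp_apply j₁ q t₁).symm.trans
      ((congrArg (fun φ : T₁.left ⟶ T'.left => φ t₁) sqL.w).trans (Scheme.Hom.comp_apply snd.left j.left t₁))
  · rw [Category.assoc]
    exact sq.w

/-- Uniqueness of the dotted arrow into `Y'`, for thickenings of schemes. -/
theorem uniq {Z Y Z' Y' X : Sp S} (hZ : IsAlgSpace Z) (hZ' : IsAlgSpace Z')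
    (e : Z ⟶ Y) (he : IsEtaleMor e) (hes : IsSurjectiveMor e) (hY : Y ⟶ X)
    (iZ : Z ⟶ Z') (iY : Y ⟶ Y') (f' : Z' ⟶ Y') (hf' : IsEtaleMor f') (w : iZ ≫ f' = e ≫ iY)
    (hY' : Y' ⟶ X) (w' : iY ≫ hY' = hY)
    (HU : IsUnivFOThick (e ≫ hY) iZ (f' ≫ hY'))
    {T T' : Over S} (j : T ⟶ T') (hj : IsFOThickMor ((yon S).map j)) (a : (yon S).obj T ⟶ Y)
    (a' a'' : (yon S).obj T' ⟶ Y') (h1 : (yon S).map j ≫ a' = a ≫ iY)
    (h2 : (yon S).map j ≫ a'' = a ≫ iY) (h3 : a' ≫ hY' = a'' ≫ hY') : a' = a'' := by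
  obtain ⟨T₁, T₁', snd, q, j₁, α, hqe, hqs, hse, hss, sq₁, hα⟩ :=
    exists_lifted_cover hZ e he hes j hj.1 a
  have hqE : RepWith @Etale ((yon S).map q) := (repWith_yon_map_iff _ _).2 hqe
  have hqS : RepWith @Surjective ((yon S).map q) := (repWith_yon_map_iff _ _).2 hqs
  have hepi : Epi ((yon S).map q) := epi_of_etale_surjective _ hqE hqS
  have hj₁ : IsFOThickMor ((yon S).map j₁) := isFOThickMor_yon_map_of_isPullback hj hqE sq₁.flip
  have hfe : IsFormallyEtaleMor f' := isFormallyEtaleMor_of_isEtaleMor hZ' f' hf'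
  have hT₁' : IsAlgSpace ((yon S).obj T₁') := IsAlgSpace.yon_obj T₁'
  have hsqw : (yon S).map j₁ ≫ (yon S).map q = (yon S).map snd ≫ (yon S).map j := sq₁.w
  have hw : ∀ x : (yon S).obj T' ⟶ Y', (yon S).map j ≫ x = a ≫ iY →
      (α ≫ iZ) ≫ f' = (yon S).map j₁ ≫ (yon S).map q ≫ x := by
    intro x hx
    calc (α ≫ iZ) ≫ f' = α ≫ (iZ ≫ f') := Category.assoc _ _ _
      _ = α ≫ (e ≫ iY) := by rw [w]
      _ = (α ≫ e) ≫ iY := (Category.assoc _ _ _).symm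
      _ = ((yon S).map snd ≫ a) ≫ iY := by rw [hα]
      _ = (yon S).map snd ≫ (a ≫ iY) := Category.assoc _ _ _
      _ = (yon S).map snd ≫ ((yon S).map j ≫ x) := by rw [hx]
      _ = ((yon S).map snd ≫ (yon S).map j) ≫ x := (Category.assoc _ _ _).symm
      _ = ((yon S).map j₁ ≫ (yon S).map q) ≫ x := by rw [hsqw]
      _ = (yon S).map j₁ ≫ (yon S).map q ≫ x := Category.assoc _ _ _
  obtain ⟨c', hc1, hc2⟩ :=
    exists_lift_of_FOThick hT₁' f' hfe _ hj₁ (α ≫ iZ) ((yon S).map q ≫ a') (hw a' h1)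
  obtain ⟨c'', hd1, hd2⟩ :=
    exists_lift_of_FOThick hT₁' f' hfe _ hj₁ (α ≫ iZ) ((yon S).map q ≫ a'') (hw a'' h2)
  have hcomm : (yon S).map j₁ ≫ ((yon S).map q ≫ a' ≫ hY') = α ≫ (e ≫ hY) :=
    calc (yon S).map j₁ ≫ ((yon S).map q ≫ a' ≫ hY')
        = ((yon S).map j₁ ≫ (yon S).map q) ≫ a' ≫ hY' := (Category.assoc _ _ _).symm
      _ = ((yon S).map snd ≫ (yon S).map j) ≫ a' ≫ hY' := by rw [hsqw]
      _ = (yon S).map snd ≫ ((yon S).map j ≫ a') ≫ hY' := by simp only [Category.assoc]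
      _ = (yon S).map snd ≫ (a ≫ iY) ≫ hY' := by rw [h1]
      _ = (yon S).map snd ≫ a ≫ (iY ≫ hY') := by simp only [Category.assoc]
      _ = (yon S).map snd ≫ a ≫ hY := by rw [w']
      _ = ((yon S).map snd ≫ a) ≫ hY := (Category.assoc _ _ _).symm
      _ = (α ≫ e) ≫ hY := by rw [hα]
      _ = α ≫ (e ≫ hY) := Category.assoc _ _ _
  obtain ⟨c, -, hcu⟩ :=
    HU.2.2 (IsAlgSpace.yon_obj T₁) hT₁' ((yon S).map j₁) α ((yon S).map q ≫ a' ≫ hY') hj₁ hcomm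
  have e1 : c' = c := hcu c' ⟨hc1, by rw [← Category.assoc, hc2, Category.assoc]⟩
  have e2 : c'' = c := hcu c'' ⟨hd1, by rw [← Category.assoc, hd2, Category.assoc, ← h3]⟩
  rw [← cancel_epi ((yon S).map q), ← hc2, ← hd2, e1, e2]

/-- Existence of the dotted arrow into `Y'`, for thickenings of schemes. -/
theorem exist {Z Y Z' Y' X : Sp S} (hZ : IsAlgSpace Z) (hZ' : IsAlgSpace Z')
    (e : Z ⟶ Y) (he : IsEtaleMor e) (hes : IsSurjectiveMor e) (hY : Y ⟶ X)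
    (iZ : Z ⟶ Z') (iY : Y ⟶ Y') (f' : Z' ⟶ Y') (hf' : IsEtaleMor f') (w : iZ ≫ f' = e ≫ iY)
    (hY' : Y' ⟶ X) (w' : iY ≫ hY' = hY)
    (HU : IsUnivFOThick (e ≫ hY) iZ (f' ≫ hY'))
    {T T' : Over S} (j : T ⟶ T') (hj : IsFOThickMor ((yon S).map j)) (a : (yon S).obj T ⟶ Y)
    (b : (yon S).obj T' ⟶ X) (hab : (yon S).map j ≫ b = a ≫ hY) :
    ∃ a' : (yon S).obj T' ⟶ Y', (yon S).map j ≫ a' = a ≫ iY ∧ a' ≫ hY' = b := by
  obtain ⟨T₁, T₁', snd, q, j₁, α, hqe, hqs, hse, hss, sq₁, hα⟩ :=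
    exists_lifted_cover hZ e he hes j hj.1 a
  have hqE : RepWith @Etale ((yon S).map q) := (repWith_yon_map_iff _ _).2 hqe
  have hqS : RepWith @Surjective ((yon S).map q) := (repWith_yon_map_iff _ _).2 hqs
  have hepi : Epi ((yon S).map q) := epi_of_etale_surjective _ hqE hqS
  have hsE : RepWith @Etale ((yon S).map snd) := (repWith_yon_map_iff _ _).2 hse
  have hsS : RepWith @Surjective ((yon S).map snd) := (repWith_yon_map_iff _ _).2 hss
  have hepis : Epi ((yon S).map snd) := epi_of_etale_surjective _ hsE hsS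
  have hj₁ : IsFOThickMor ((yon S).map j₁) := isFOThickMor_yon_map_of_isPullback hj hqE sq₁.flip
  have hT₁' : IsAlgSpace ((yon S).obj T₁') := IsAlgSpace.yon_obj T₁'
  have hsqw : (yon S).map j₁ ≫ (yon S).map q = (yon S).map snd ≫ (yon S).map j := sq₁.w
  have hcomm : (yon S).map j₁ ≫ ((yon S).map q ≫ b) = α ≫ (e ≫ hY) :=
    calc (yon S).map j₁ ≫ ((yon S).map q ≫ b)
        = ((yon S).map j₁ ≫ (yon S).map q) ≫ b := (Category.assoc _ _ _).symm
      _ = ((yon S).map snd ≫ (yon S).map j) ≫ b := by rw [hsqw]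
      _ = (yon S).map snd ≫ ((yon S).map j ≫ b) := Category.assoc _ _ _
      _ = (yon S).map snd ≫ (a ≫ hY) := by rw [hab]
      _ = ((yon S).map snd ≫ a) ≫ hY := (Category.assoc _ _ _).symm
      _ = (α ≫ e) ≫ hY := by rw [hα]
      _ = α ≫ (e ≫ hY) := Category.assoc _ _ _
  obtain ⟨c', ⟨hc1, hc2⟩, -⟩ :=
    HU.2.2 (IsAlgSpace.yon_obj T₁) hT₁' ((yon S).map j₁) α ((yon S).map q ≫ b) hj₁ hcomm
  obtain ⟨ã, hã⟩ : ∃ ã : (yon S).obj T₁' ⟶ Y', ã = c' ≫ f' := ⟨_, rfl⟩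
  have hã1 : (yon S).map j₁ ≫ ã = (yon S).map snd ≫ a ≫ iY :=
    calc (yon S).map j₁ ≫ ã = ((yon S).map j₁ ≫ c') ≫ f' := by rw [hã, Category.assoc]
      _ = (α ≫ iZ) ≫ f' := by rw [hc1]
      _ = α ≫ (iZ ≫ f') := Category.assoc _ _ _
      _ = α ≫ (e ≫ iY) := by rw [w]
      _ = (α ≫ e) ≫ iY := (Category.assoc _ _ _).symm
      _ = ((yon S).map snd ≫ a) ≫ iY := by rw [hα]
      _ = (yon S).map snd ≫ a ≫ iY := Category.assoc _ _ _
  have hã2 : ã ≫ hY' = (yon S).map q ≫ b := by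
    rw [hã, Category.assoc]
    exact hc2
  have heff : EffectiveEpi ((yon S).map q) := Helper5.SheafGrpQuot.effectiveEpi_of_epi (J S) _
  -- the kernel pair of `q`
  obtain ⟨R, pr₂, pr₁', sqR⟩ := hqE.rep ((yon S).map q)
  obtain ⟨pr₁, rfl⟩ := (yon S).map_surjective pr₁'
  have hpr₂ : Etale pr₂.left := hqE.property _ _ _ sqR
  have hrE : RepWith @Etale ((yon S).map pr₂ ≫ (yon S).map q) :=
    (RepWith @Etale).comp_mem _ _ ((repWith_yon_map_iff _ _).2 hpr₂) hqE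
  obtain ⟨T₂, snd₂, fst₂, sq₂⟩ := hj.1.rep ((yon S).map pr₂ ≫ (yon S).map q)
  have hj₂ : IsFOThickMor ((yon S).map snd₂) := isFOThickMor_yon_map_of_isPullback hj hrE sq₂
  have hRw : (yon S).map pr₁ ≫ (yon S).map q = (yon S).map pr₂ ≫ (yon S).map q := sqR.w
  have hkey : ∀ (π : R ⟶ T₁'), (yon S).map π ≫ (yon S).map q = (yon S).map pr₂ ≫ (yon S).map q →
      (yon S).map snd₂ ≫ ((yon S).map π ≫ ã) = (fst₂ ≫ a) ≫ iY := by
    intro π hπ
    have hl : ((yon S).map snd₂ ≫ (yon S).map π) ≫ (yon S).map q = fst₂ ≫ (yon S).map j := by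
      rw [Category.assoc, hπ]
      exact sq₂.w.symm
    have hu1 : sq₁.lift _ _ hl ≫ (yon S).map j₁ = (yon S).map snd₂ ≫ (yon S).map π :=
      sq₁.lift_fst _ _ _
    have hu2 : sq₁.lift _ _ hl ≫ (yon S).map snd = fst₂ := sq₁.lift_snd _ _ _
    calc (yon S).map snd₂ ≫ ((yon S).map π ≫ ã)
        = ((yon S).map snd₂ ≫ (yon S).map π) ≫ ã := (Category.assoc _ _ _).symm
      _ = (sq₁.lift _ _ hl ≫ (yon S).map j₁) ≫ ã := by rw [hu1]
      _ = sq₁.lift _ _ hl ≫ ((yon S).map j₁ ≫ ã) := Category.assoc _ _ _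
      _ = sq₁.lift _ _ hl ≫ ((yon S).map snd ≫ a ≫ iY) := by rw [hã1]
      _ = (sq₁.lift _ _ hl ≫ (yon S).map snd) ≫ a ≫ iY := (Category.assoc _ _ _).symm
      _ = fst₂ ≫ a ≫ iY := by rw [hu2]
      _ = (fst₂ ≫ a) ≫ iY := (Category.assoc _ _ _).symm
  have hRR : (yon S).map pr₁ ≫ ã = (yon S).map pr₂ ≫ ã := by
    refine uniq hZ hZ' e he hes hY iZ iY f' hf' w hY' w' HU snd₂ hj₂ (fst₂ ≫ a) _ _
      (hkey pr₁ hRw) (hkey pr₂ rfl) ?_
    calc ((yon S).map pr₁ ≫ ã) ≫ hY' = (yon S).map pr₁ ≫ (ã ≫ hY') := Category.assoc _ _ _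
      _ = (yon S).map pr₁ ≫ ((yon S).map q ≫ b) := by rw [hã2]
      _ = ((yon S).map pr₁ ≫ (yon S).map q) ≫ b := (Category.assoc _ _ _).symm
      _ = ((yon S).map pr₂ ≫ (yon S).map q) ≫ b := by rw [hRw]
      _ = (yon S).map pr₂ ≫ ((yon S).map q ≫ b) := Category.assoc _ _ _
      _ = (yon S).map pr₂ ≫ (ã ≫ hY') := by rw [hã2]
      _ = ((yon S).map pr₂ ≫ ã) ≫ hY' := (Category.assoc _ _ _).symm
  have hdesc : ∀ {W : Sp S} (g₁ g₂ : W ⟶ (yon S).obj T₁'),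
      g₁ ≫ (yon S).map q = g₂ ≫ (yon S).map q → g₁ ≫ ã = g₂ ≫ ã := by
    intro W g₁ g₂ hg
    have e1 : sqR.lift g₁ g₂ hg ≫ (yon S).map pr₁ = g₁ := sqR.lift_fst _ _ _
    have e2 : sqR.lift g₁ g₂ hg ≫ (yon S).map pr₂ = g₂ := sqR.lift_snd _ _ _
    rw [← e1, Category.assoc, hRR, ← Category.assoc, e2]
  refine ⟨EffectiveEpi.desc ((yon S).map q) ã (fun g₁ g₂ h => hdesc g₁ g₂ h), ?_, ?_⟩
  · rw [← cancel_epi ((yon S).map snd), ← Category.assoc, ← hsqw, Category.assoc, EffectiveEpi.fac]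
    exact hã1
  · rw [← cancel_epi ((yon S).map q), ← Category.assoc, EffectiveEpi.fac]
    exact hã2

/-- S10633. -/
theorem main10633 {S : Scheme.{u}} {Z Y Z' Y' X : AlgSp.Space S} (e : Z ⟶ Y)
    (he : AlgSp.IsEtaleMor e.hom) (hes : AlgSp.IsSurjectiveMor e.hom) (hY : Y ⟶ X)
    (iZ : Z ⟶ Z') (iY : Y ⟶ Y') (hiZ : AlgSp.IsFOThickMor iZ.hom) (hiY : AlgSp.IsFOThickMor iY.hom)
    (f' : Z' ⟶ Y') (hf' : AlgSp.IsEtaleMor f'.hom) (w : iZ ≫ f' = e ≫ iY) (hY' : Y' ⟶ X) (w' : iY ≫ hY' = hY)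
    (HU : AlgSp.IsUnivFOThick (e ≫ hY).hom iZ.hom (f' ≫ hY').hom) :
    AlgSp.IsUnivFOThick hY.hom iY.hom hY'.hom := by
  have hw : iZ.hom ≫ f'.hom = e.hom ≫ iY.hom := congrArg (fun t => t.hom) w
  have hw' : iY.hom ≫ hY'.hom = hY.hom := congrArg (fun t => t.hom) w'
  have HU' : IsUnivFOThick (e.hom ≫ hY.hom) iZ.hom (f'.hom ≫ hY'.hom) := HU
  refine (Groth.Agent.S10630.result hY iY hY' hiY w').2 (fun T T' j _ hj a b hab => ?_)
  obtain ⟨a', h1, h2⟩ := exist Z.property Z'.property e.hom he hes hY.hom iZ.hom iY.hom f'.hom hf' hw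
    hY'.hom hw' HU' j hj a b hab
  exact ⟨a', ⟨h1, h2⟩, fun a'' h'' => uniq Z.property Z'.property e.hom he hes hY.hom iZ.hom iY.hom
    f'.hom hf' hw hY'.hom hw' HU' j hj a a'' a' h''.1 h1 (h''.2.trans h2.symm)⟩

end Groth.Agent.Lib.Helper6.FODescend
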