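import Groth.Agent.Lib.Helper6.FODescend
import Groth.Agent.Lib.Helper26.AlgSpFormal
import Groth.Agent.S10208

/-!
# Helper library (helper6): etale localization of universal first order thickenings

`main10638`: for `h : Z ⟶ X` with universal first order thickening `Z'`, etale `v : V ⟶ Z`, `w : U ⟶ X` and
`ψ : V ⟶ U` over `h`: `ψ` is formally unramified and the canonical map `V' ⟶ Z'` from a universal first order thickening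
of `V` over `U` is etale.
-/

set_option autoImplicit false
universe u
open CategoryTheory CategoryTheory.Limits AlgebraicGeometry Opposite

namespace Groth.Agent.Lib.Helper6.FOLocalize

open AlgSp Groth.Agent.Lib.Helper15 Groth.Agent.Lib.Helper16 Groth.Agent.Lib.Helper16.Formal
  Groth.Agent.Lib.Helper26.AlgSpFormal

variable {S : Scheme.{u}}

/-- Lifting an etale scheme over `T` along a thickening `T ⊂ T'` of schemes over `S`. -/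
theorem exists_etale_lift_over {T T' T₁ : Over S} (j : T ⟶ T') (hj : IsThickMor ((yon S).map j))
    (snd : T₁ ⟶ T) (hse : Etale snd.left) :
    ∃ (T₁' : Over S) (q : T₁' ⟶ T') (j₁ : T₁ ⟶ T₁'), Etale q.left ∧
      (Surjective snd.left → Surjective q.left) ∧
      IsPullback ((yon S).map j₁) ((yon S).map snd) ((yon S).map q) ((yon S).map j) := by
  have hth := (isThickMor_yon_map_iff j).1 hj
  haveI : IsClosedImmersion j.left := hth.1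
  haveI : Surjective j.left := hth.2
  haveI : Etale snd.left := hse
  obtain ⟨Y₁, q, j₁, hq, sqL⟩ := Groth.Agent.Lib.Helper24.EtThick.exists_etale_lift j.left snd.left
  let T₁' : Over S := Over.mk (q ≫ T'.hom)
  let q' : T₁' ⟶ T' := Over.homMk q rfl
  have hj₁ : j₁ ≫ T₁'.hom = T₁.hom := by
    show j₁ ≫ q ≫ T'.hom = T₁.hom
    rw [← Category.assoc, sqL.w, Category.assoc, Over.w j, Over.w snd]
  let j₁' : T₁ ⟶ T₁' := Over.homMk j₁ hj₁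
  have hcomm : j₁' ≫ q' = snd ≫ j := by
    apply Over.OverMorphism.ext
    exact sqL.w
  have sqO : IsPullback j₁' snd q' j := IsPullback.of_map (Over.forget S) hcomm sqL
  refine ⟨T₁', q', j₁', hq, fun hss => ?_, sqO.map (yon S)⟩
  refine ⟨fun t' => ?_⟩
  obtain ⟨t, rfl⟩ := hth.2.surj t'
  obtain ⟨t₁, rfl⟩ := hss.surj t
  refine ⟨j₁ t₁, ?_⟩
  show q (j₁ t₁) = j.left (snd.left t₁)
  exact (Scheme.Hom.comp_apply j₁ q t₁).symm.trans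
    ((congrArg (fun φ : T₁.left ⟶ T'.left => φ t₁) sqL.w).trans (Scheme.Hom.comp_apply snd.left j.left t₁))

/-- The identity is formally etale. -/
theorem isFormallyEtaleMor_id (F : Sp S) : IsFormallyEtaleMor (𝟙 F) := by
  intro sq
  refine ⟨sq.bot, ⟨?_, Category.comp_id _⟩, fun l hl => (Category.comp_id l).symm.trans hl.2⟩
  have := sq.comm
  rw [Category.comp_id] at this
  exact this.symm

/-- Let `Z'` be a universal first order thickening of `Z` over `X`, `W' ⟶ Z'` etale with `W = Z ×_{Z'} W'`, and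
`w : U ⟶ X` formally etale with a factorization `W ⟶ U` of `W ⟶ Z ⟶ X`.  Then `W' ⟶ X` factors uniquely through `U`,
and `W'` is a universal first order thickening of `W` over `U`. -/
theorem univ_of_etale_over {Z Z' X U W W' : Sp S} (h : Z ⟶ X) (iZ : Z ⟶ Z') (hZ' : Z' ⟶ X)
    (HZ : IsUnivFOThick h iZ hZ') (w : U ⟶ X) (hw : IsFormallyEtaleMor w)
    (v₀ : W ⟶ Z) (k : W ⟶ W') (c₁ : W' ⟶ Z') (hc₁ : IsEtaleMor c₁) (hW' : IsAlgSpace W')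
    (sq : IsPullback v₀ k iZ c₁) (ψ₀ : W ⟶ U) (hψ₀ : ψ₀ ≫ w = v₀ ≫ h) :
    ∃ u₁ : W' ⟶ U, k ≫ u₁ = ψ₀ ∧ u₁ ≫ w = c₁ ≫ hZ' ∧ IsUnivFOThick ψ₀ k u₁ := by
  obtain ⟨hiZ, hwZ, hU⟩ := HZ
  have hc₁fe : IsFormallyEtaleMor c₁ := isFormallyEtaleMor_of_isEtaleMor hW' c₁ hc₁
  have hwu : IsFormallyUnramifiedMor w := ((isFormallyEtaleMor_iff w).1 hw).2
  have hk : IsFOThickMor k := by
    refine ⟨(RepWith thick).of_isPullback sq hiZ.1, ?_⟩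
    intro V W'' b fst snd hV hb hpb
    have hpaste : IsPullback (fst ≫ v₀) ((yon S).map snd) iZ (b ≫ c₁) := hpb.paste_horiz sq
    exact hiZ.2 (b ≫ c₁) (fst ≫ v₀) snd hV (hc₁ b hb) hpaste
  have hcomm₀ : ψ₀ ≫ w = k ≫ c₁ ≫ hZ' :=
    calc ψ₀ ≫ w = v₀ ≫ h := hψ₀
      _ = v₀ ≫ (iZ ≫ hZ') := by rw [hwZ]
      _ = (v₀ ≫ iZ) ≫ hZ' := (Category.assoc _ _ _).symm
      _ = (k ≫ c₁) ≫ hZ' := by rw [sq.w]
      _ = k ≫ c₁ ≫ hZ' := Category.assoc _ _ _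
  obtain ⟨u₁, hu1, hu2⟩ := exists_lift_of_FOThick hW' w hw k hk ψ₀ (c₁ ≫ hZ') hcomm₀
  refine ⟨u₁, hu1, hu2, hk, hu1, ?_⟩
  intro T T' hT hT' j a b hj hcomm
  have hc : j ≫ (b ≫ w) = (a ≫ v₀) ≫ h :=
    calc j ≫ (b ≫ w) = (j ≫ b) ≫ w := (Category.assoc _ _ _).symm
      _ = (a ≫ ψ₀) ≫ w := by rw [hcomm]
      _ = a ≫ (ψ₀ ≫ w) := Category.assoc _ _ _
      _ = a ≫ (v₀ ≫ h) := by rw [hψ₀]
      _ = (a ≫ v₀) ≫ h := (Category.assoc _ _ _).symm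
  obtain ⟨z', ⟨hz1, hz2⟩, hzu⟩ := hU hT hT' j (a ≫ v₀) (b ≫ w) hj hc
  have hsq : (a ≫ k) ≫ c₁ = j ≫ z' :=
    calc (a ≫ k) ≫ c₁ = a ≫ (k ≫ c₁) := Category.assoc _ _ _
      _ = a ≫ (v₀ ≫ iZ) := by rw [sq.w]
      _ = (a ≫ v₀) ≫ iZ := (Category.assoc _ _ _).symm
      _ = j ≫ z' := hz1.symm
  obtain ⟨t', ⟨ht1, ht2⟩, htu⟩ := existsUnique_lift_of_FOThick hT' c₁ hc₁fe j hj (a ≫ k) z' hsq
  refine ⟨t', ⟨ht1, ?_⟩, ?_⟩
  · refine eq_of_FOThick hT' w hwu j hj (t' ≫ u₁) b ?_ ?_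
    · calc j ≫ t' ≫ u₁ = (j ≫ t') ≫ u₁ := (Category.assoc _ _ _).symm
        _ = (a ≫ k) ≫ u₁ := by rw [ht1]
        _ = a ≫ (k ≫ u₁) := Category.assoc _ _ _
        _ = a ≫ ψ₀ := by rw [hu1]
        _ = j ≫ b := hcomm.symm
    · calc (t' ≫ u₁) ≫ w = t' ≫ (u₁ ≫ w) := Category.assoc _ _ _
        _ = t' ≫ (c₁ ≫ hZ') := by rw [hu2]
        _ = (t' ≫ c₁) ≫ hZ' := (Category.assoc _ _ _).symm
        _ = z' ≫ hZ' := by rw [ht2]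
        _ = b ≫ w := hz2
  · rintro t'' ⟨h1, h2⟩
    apply htu
    refine ⟨h1, ?_⟩
    apply hzu
    refine ⟨?_, ?_⟩
    · calc j ≫ t'' ≫ c₁ = (j ≫ t'') ≫ c₁ := (Category.assoc _ _ _).symm
        _ = (a ≫ k) ≫ c₁ := by rw [h1]
        _ = a ≫ (k ≫ c₁) := Category.assoc _ _ _
        _ = a ≫ (v₀ ≫ iZ) := by rw [sq.w]
        _ = (a ≫ v₀) ≫ iZ := (Category.assoc _ _ _).symm
    · calc (t'' ≫ c₁) ≫ hZ' = t'' ≫ (c₁ ≫ hZ') := Category.assoc _ _ _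
        _ = t'' ≫ (u₁ ≫ w) := by rw [hu2]
        _ = (t'' ≫ u₁) ≫ w := (Category.assoc _ _ _).symm
        _ = b ≫ w := by rw [h2]

/-- Two universal first order thickenings of the same morphism are isomorphic. -/
theorem exists_iso_of_univ {W U W₁ W₂ : Sp S} (hW : IsAlgSpace W) (hW₁ : IsAlgSpace W₁)
    (hW₂ : IsAlgSpace W₂) (ψ₀ : W ⟶ U) (k₁ : W ⟶ W₁) (u₁ : W₁ ⟶ U) (H₁ : IsUnivFOThick ψ₀ k₁ u₁)
    (k₂ : W ⟶ W₂) (u₂ : W₂ ⟶ U) (H₂ : IsUnivFOThick ψ₀ k₂ u₂) :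
    ∃ θ : W₁ ⟶ W₂, IsIso θ ∧ k₁ ≫ θ = k₂ ∧ θ ≫ u₂ = u₁ := by
  have hc₁ : k₁ ≫ u₁ = 𝟙 W ≫ ψ₀ := by rw [Category.id_comp]; exact H₁.2.1
  have hc₂ : k₂ ≫ u₂ = 𝟙 W ≫ ψ₀ := by rw [Category.id_comp]; exact H₂.2.1
  obtain ⟨θ, ⟨hθ1, hθ2⟩, -⟩ := H₂.2.2 hW hW₁ k₁ (𝟙 W) u₁ H₁.1 hc₁
  obtain ⟨θ', ⟨hθ'1, hθ'2⟩, -⟩ := H₁.2.2 hW hW₂ k₂ (𝟙 W) u₂ H₂.1 hc₂
  rw [Category.id_comp] at hθ1 hθ'1
  obtain ⟨x, -, hxu⟩ := H₁.2.2 hW hW₁ k₁ (𝟙 W) u₁ H₁.1 hc₁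
  obtain ⟨y, -, hyu⟩ := H₂.2.2 hW hW₂ k₂ (𝟙 W) u₂ H₂.1 hc₂
  have e1 : θ ≫ θ' = 𝟙 W₁ := by
    have a1 : θ ≫ θ' = x := hxu (θ ≫ θ')
      ⟨by rw [← Category.assoc, hθ1, hθ'1, Category.id_comp], by rw [Category.assoc, hθ'2, hθ2]⟩
    have a2 : 𝟙 W₁ = x := hxu (𝟙 W₁)
      ⟨by rw [Category.comp_id, Category.id_comp], Category.id_comp _⟩
    exact a1.trans a2.symm
  have e2 : θ' ≫ θ = 𝟙 W₂ := by
    have a1 : θ' ≫ θ = y := hyu (θ' ≫ θ)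
      ⟨by rw [← Category.assoc, hθ'1, hθ1, Category.id_comp], by rw [Category.assoc, hθ2, hθ'2]⟩
    have a2 : 𝟙 W₂ = y := hyu (𝟙 W₂)
      ⟨by rw [Category.comp_id, Category.id_comp], Category.id_comp _⟩
    exact a1.trans a2.symm
  exact ⟨θ, ⟨⟨θ', e1, e2⟩⟩, hθ1, hθ2⟩

set_option maxHeartbeats 1600000 in
/-- The canonical morphism between the universal first order thickenings is etale. -/
theorem etale_of_univ {Z X Z' V U V' : AlgSp.Space S} (h : Z ⟶ X) (iZ : Z ⟶ Z') (hZ' : Z' ⟶ X)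
    (HZ : IsUnivFOThick h.hom iZ.hom hZ'.hom) (v : V ⟶ Z) (w : U ⟶ X) (hv : IsEtaleMor v.hom)
    (hw : IsEtaleMor w.hom) (ψ : V ⟶ U) (c : ψ.hom ≫ w.hom = v.hom ≫ h.hom)
    (iV : V ⟶ V') (hV' : V' ⟶ U) (HV : IsUnivFOThick ψ.hom iV.hom hV'.hom) (e' : V' ⟶ Z')
    (he1 : iV.hom ≫ e'.hom = v.hom ≫ iZ.hom) (he2 : e'.hom ≫ hZ'.hom = hV'.hom ≫ w.hom) :
    IsEtaleMor e'.hom := by
  have hwfe : IsFormallyEtaleMor w.hom := isFormallyEtaleMor_of_isEtaleMor U.property w.hom hw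
  -- an atlas of `Z'` and its restriction to `Z`
  obtain ⟨P, b, hbe, hbs⟩ := Z'.property.atlas
  obtain ⟨P₀, iP, b₀, sqP⟩ := HZ.1.1.rep b
  have hb₀e : RepWith @Etale b₀ := (RepWith @Etale).of_isPullback sqP.flip hbe
  have hb₀s : RepWith @Surjective b₀ := (RepWith @Surjective).of_isPullback sqP.flip hbs
  have hiP : IsFOThickMor ((yon S).map iP) := isFOThickMor_yon_map_of_isPullback HZ.1 hbe sqP
  -- an etale cover `W₀` of `V` mapping to `P₀`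
  obtain ⟨A, α, hαe, hαs⟩ := V.property.atlas
  have hαv : RepWith @Etale (α ≫ v.hom) := hv α hαe
  obtain ⟨W₀, r₀, s₀, sqW⟩ := hαv.rep b₀
  have hr₀ : Etale r₀.left := hαv.property b₀ s₀ r₀ sqW
  have hs₀e : RepWith @Etale s₀ := (RepWith @Etale).of_isPullback sqW.flip hb₀e
  have hs₀s : RepWith @Surjective s₀ := (RepWith @Surjective).of_isPullback sqW.flip hb₀s
  obtain ⟨a₀, ha₀def⟩ : ∃ a₀ : (yon S).obj W₀ ⟶ V.obj, a₀ = s₀ ≫ α := ⟨_, rfl⟩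
  obtain ⟨v₀, hv₀def⟩ : ∃ v₀ : (yon S).obj W₀ ⟶ Z.obj, v₀ = (yon S).map r₀ ≫ b₀ := ⟨_, rfl⟩
  have ha₀e : RepWith @Etale a₀ := by
    rw [ha₀def]
    exact (RepWith @Etale).comp_mem _ _ hs₀e hαe
  have ha₀s : RepWith @Surjective a₀ := by
    rw [ha₀def]
    exact (RepWith @Surjective).comp_mem _ _ hs₀s hαs
  have ha₀v : a₀ ≫ v.hom = v₀ := by
    rw [ha₀def, hv₀def, Category.assoc]
    exact sqW.w
  -- the etale lift `W₁` of `W₀` over `P`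
  obtain ⟨W₁, q₁, k₁, hq₁, -, sq₁⟩ := exists_etale_lift_over iP hiP.1 r₀ hr₀
  haveI : Etale q₁.left := hq₁
  obtain ⟨c₁, hc₁def⟩ : ∃ c₁ : (yon S).obj W₁ ⟶ Z'.obj, c₁ = (yon S).map q₁ ≫ b := ⟨_, rfl⟩
  have hc₁e : RepWith @Etale c₁ := by
    rw [hc₁def]
    exact (RepWith @Etale).comp_mem _ _ ((repWith_yon_map_iff _ _).2 hq₁) hbe
  have sqW₁ : IsPullback v₀ ((yon S).map k₁) iZ.hom c₁ := by
    rw [hv₀def, hc₁def]
    exact sq₁.flip.paste_horiz sqP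
  have hψ₀ : (a₀ ≫ ψ.hom) ≫ w.hom = v₀ ≫ h.hom :=
    calc (a₀ ≫ ψ.hom) ≫ w.hom = a₀ ≫ (ψ.hom ≫ w.hom) := Category.assoc _ _ _
      _ = a₀ ≫ (v.hom ≫ h.hom) := by rw [c]
      _ = (a₀ ≫ v.hom) ≫ h.hom := (Category.assoc _ _ _).symm
      _ = v₀ ≫ h.hom := by rw [ha₀v]
  obtain ⟨u₁, hu₁1, hu₁2, H₁⟩ := univ_of_etale_over h.hom iZ.hom hZ'.hom HZ w.hom hwfe v₀
    ((yon S).map k₁) c₁ (fun _ _ hφ => (RepWith @Etale).comp_mem _ _ hφ hc₁e) (IsAlgSpace.yon_obj W₁) sqW₁ (a₀ ≫ ψ.hom) hψ₀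
  -- an atlas of `V'` and its restriction to `V`
  obtain ⟨Q, β, hβe, hβs⟩ := V'.property.atlas
  obtain ⟨Q₀, iQ, β₀, sqQ⟩ := HV.1.1.rep β
  have hβ₀e : RepWith @Etale β₀ := (RepWith @Etale).of_isPullback sqQ.flip hβe
  have hβ₀s : RepWith @Surjective β₀ := (RepWith @Surjective).of_isPullback sqQ.flip hβs
  have hiQ : IsFOThickMor ((yon S).map iQ) := isFOThickMor_yon_map_of_isPullback HV.1 hβe sqQ
  -- the common refinement `W₀₀`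
  obtain ⟨W₀₀, m, n', sqM⟩ := hβ₀e.rep a₀
  obtain ⟨n, rfl⟩ := (yon S).map_surjective n'
  have hm : Etale m.left := hβ₀e.property a₀ _ m sqM
  have hn : Etale n.left := ha₀e.property β₀ _ n sqM.flip
  have hns : Surjective n.left := ha₀s.property β₀ _ n sqM.flip
  obtain ⟨n₀, hn₀def⟩ : ∃ n₀ : (yon S).obj W₀₀ ⟶ V.obj, n₀ = (yon S).map n ≫ β₀ := ⟨_, rfl⟩
  have hn₀ : n₀ = (yon S).map m ≫ a₀ := by
    rw [hn₀def]
    exact sqM.w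
  -- the two lifts of `W₀₀`
  obtain ⟨W₂, q₂, k₂, hq₂, hq₂s, sq₂⟩ := exists_etale_lift_over iQ hiQ.1 n hn
  obtain ⟨W₁₁, q₁₁, k₁₁, hq₁₁, -, sq₁₁⟩ := exists_etale_lift_over k₁ H₁.1.1 m hm
  haveI : Etale q₁₁.left := hq₁₁
  obtain ⟨c₂, hc₂def⟩ : ∃ c₂ : (yon S).obj W₂ ⟶ V'.obj, c₂ = (yon S).map q₂ ≫ β := ⟨_, rfl⟩
  have hc₂e : RepWith @Etale c₂ := by
    rw [hc₂def]
    exact (RepWith @Etale).comp_mem _ _ ((repWith_yon_map_iff _ _).2 hq₂) hβe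
  have hc₂s : RepWith @Surjective c₂ := by
    rw [hc₂def]
    exact (RepWith @Surjective).comp_mem _ _ ((repWith_yon_map_iff _ _).2 (hq₂s hns)) hβs
  have sqW₂ : IsPullback n₀ ((yon S).map k₂) iV.hom c₂ := by
    rw [hn₀def, hc₂def]
    exact sq₂.flip.paste_horiz sqQ
  obtain ⟨u₂, hu₂1, hu₂2, H₂⟩ := univ_of_etale_over ψ.hom iV.hom hV'.hom HV (𝟙 U.obj)
    (isFormallyEtaleMor_id _) n₀ ((yon S).map k₂) c₂ (fun _ _ hφ => (RepWith @Etale).comp_mem _ _ hφ hc₂e)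
    (IsAlgSpace.yon_obj W₂) sqW₂ (n₀ ≫ ψ.hom) (Category.comp_id _)
  have hu₂2' : u₂ = c₂ ≫ hV'.hom := (Category.comp_id u₂).symm.trans hu₂2
  obtain ⟨u₁₁, hu₁₁1, hu₁₁2, H₁₁⟩ := univ_of_etale_over (a₀ ≫ ψ.hom) ((yon S).map k₁) u₁ H₁ (𝟙 U.obj)
    (isFormallyEtaleMor_id _) ((yon S).map m) ((yon S).map k₁₁) ((yon S).map q₁₁)
    ((isEtaleMor_yon_map_iff q₁₁).2 hq₁₁) (IsAlgSpace.yon_obj W₁₁) sq₁₁.flip (n₀ ≫ ψ.hom)
    (by rw [Category.comp_id, hn₀, Category.assoc])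
  have hu₁₁2' : u₁₁ = (yon S).map q₁₁ ≫ u₁ := (Category.comp_id u₁₁).symm.trans hu₁₁2
  -- the two thickenings of `W₀₀` are isomorphic
  obtain ⟨θ, hθiso, hθ1, hθ2⟩ := exists_iso_of_univ (IsAlgSpace.yon_obj W₀₀) (IsAlgSpace.yon_obj W₂)
    (IsAlgSpace.yon_obj W₁₁) (n₀ ≫ ψ.hom) ((yon S).map k₂) u₂ H₂ ((yon S).map k₁₁) u₁₁ H₁₁
  obtain ⟨θ₀, rfl⟩ := (yon S).map_surjective θ
  haveI : IsIso ((yon S).map θ₀) := hθiso
  haveI : IsIso θ₀ := isIso_of_fully_faithful (yon S) θ₀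
  haveI : IsIso θ₀.left := inferInstanceAs (IsIso ((Over.forget S).map θ₀))
  obtain ⟨g, hg⟩ : ∃ g : W₂ ⟶ P, g = θ₀ ≫ q₁₁ ≫ q₁ := ⟨_, rfl⟩
  haveI hgE : Etale g.left := by
    rw [hg]
    show Etale (θ₀.left ≫ q₁₁.left ≫ q₁.left)
    infer_instance
  have hgy : (yon S).map g ≫ b = (yon S).map θ₀ ≫ (yon S).map q₁₁ ≫ c₁ := by
    rw [hg, hc₁def]
    simp only [Functor.map_comp, Category.assoc]
  refine Groth.Agent.S10208.result e' c₂ hc₂e hc₂s b hbe g ?_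
  -- both composites are the unique lift for the universal thickening `Z'`
  have hcompat : (yon S).map k₂ ≫ (u₂ ≫ w.hom) = ((yon S).map m ≫ v₀) ≫ h.hom :=
    calc (yon S).map k₂ ≫ (u₂ ≫ w.hom) = ((yon S).map k₂ ≫ u₂) ≫ w.hom := (Category.assoc _ _ _).symm
      _ = (n₀ ≫ ψ.hom) ≫ w.hom := by rw [hu₂1]
      _ = n₀ ≫ (ψ.hom ≫ w.hom) := Category.assoc _ _ _
      _ = n₀ ≫ (v.hom ≫ h.hom) := by rw [c]
      _ = ((yon S).map m ≫ a₀) ≫ (v.hom ≫ h.hom) := by rw [hn₀]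
      _ = (yon S).map m ≫ (a₀ ≫ v.hom) ≫ h.hom := by simp only [Category.assoc]
      _ = (yon S).map m ≫ v₀ ≫ h.hom := by rw [ha₀v]
      _ = ((yon S).map m ≫ v₀) ≫ h.hom := (Category.assoc _ _ _).symm
  obtain ⟨x, -, hxu⟩ := HZ.2.2 (IsAlgSpace.yon_obj W₀₀) (IsAlgSpace.yon_obj W₂) ((yon S).map k₂)
    ((yon S).map m ≫ v₀) (u₂ ≫ w.hom) H₂.1 hcompat
  have hm1a : (yon S).map k₂ ≫ (c₂ ≫ e'.hom) = ((yon S).map m ≫ v₀) ≫ iZ.hom :=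
    calc (yon S).map k₂ ≫ (c₂ ≫ e'.hom) = ((yon S).map k₂ ≫ c₂) ≫ e'.hom := (Category.assoc _ _ _).symm
      _ = (n₀ ≫ iV.hom) ≫ e'.hom := by rw [sqW₂.w]
      _ = n₀ ≫ (iV.hom ≫ e'.hom) := Category.assoc _ _ _
      _ = n₀ ≫ (v.hom ≫ iZ.hom) := by rw [he1]
      _ = ((yon S).map m ≫ a₀) ≫ (v.hom ≫ iZ.hom) := by rw [hn₀]
      _ = (yon S).map m ≫ (a₀ ≫ v.hom) ≫ iZ.hom := by simp only [Category.assoc]
      _ = (yon S).map m ≫ v₀ ≫ iZ.hom := by rw [ha₀v]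
      _ = ((yon S).map m ≫ v₀) ≫ iZ.hom := (Category.assoc _ _ _).symm
  have hm1b : (c₂ ≫ e'.hom) ≫ hZ'.hom = u₂ ≫ w.hom :=
    calc (c₂ ≫ e'.hom) ≫ hZ'.hom = c₂ ≫ (e'.hom ≫ hZ'.hom) := Category.assoc _ _ _
      _ = c₂ ≫ (hV'.hom ≫ w.hom) := by rw [he2]
      _ = (c₂ ≫ hV'.hom) ≫ w.hom := (Category.assoc _ _ _).symm
      _ = u₂ ≫ w.hom := by rw [← hu₂2']
  have hm2a : (yon S).map k₂ ≫ ((yon S).map g ≫ b) = ((yon S).map m ≫ v₀) ≫ iZ.hom :=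
    calc (yon S).map k₂ ≫ ((yon S).map g ≫ b)
        = (yon S).map k₂ ≫ ((yon S).map θ₀ ≫ (yon S).map q₁₁ ≫ c₁) := by rw [hgy]
      _ = ((yon S).map k₂ ≫ (yon S).map θ₀) ≫ (yon S).map q₁₁ ≫ c₁ := (Category.assoc _ _ _).symm
      _ = (yon S).map k₁₁ ≫ (yon S).map q₁₁ ≫ c₁ := by rw [hθ1]
      _ = ((yon S).map k₁₁ ≫ (yon S).map q₁₁) ≫ c₁ := (Category.assoc _ _ _).symm
      _ = ((yon S).map m ≫ (yon S).map k₁) ≫ c₁ := by rw [sq₁₁.w]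
      _ = (yon S).map m ≫ ((yon S).map k₁ ≫ c₁) := Category.assoc _ _ _
      _ = (yon S).map m ≫ (v₀ ≫ iZ.hom) := by rw [sqW₁.w]
      _ = ((yon S).map m ≫ v₀) ≫ iZ.hom := (Category.assoc _ _ _).symm
  have hm2b : ((yon S).map g ≫ b) ≫ hZ'.hom = u₂ ≫ w.hom :=
    calc ((yon S).map g ≫ b) ≫ hZ'.hom
        = ((yon S).map θ₀ ≫ (yon S).map q₁₁ ≫ c₁) ≫ hZ'.hom := by rw [hgy]
      _ = (yon S).map θ₀ ≫ (yon S).map q₁₁ ≫ (c₁ ≫ hZ'.hom) := by simp only [Category.assoc]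
      _ = (yon S).map θ₀ ≫ (yon S).map q₁₁ ≫ (u₁ ≫ w.hom) := by rw [hu₁2]
      _ = (yon S).map θ₀ ≫ ((yon S).map q₁₁ ≫ u₁) ≫ w.hom := by simp only [Category.assoc]
      _ = (yon S).map θ₀ ≫ u₁₁ ≫ w.hom := by rw [← hu₁₁2']
      _ = ((yon S).map θ₀ ≫ u₁₁) ≫ w.hom := (Category.assoc _ _ _).symm
      _ = u₂ ≫ w.hom := by rw [hθ2]
  exact (hxu _ ⟨hm1a, hm1b⟩).trans (hxu _ ⟨hm2a, hm2b⟩).symm

/-- S10638. -/
theorem main10638 {S : Scheme.{u}} {Z X Z' V U V' : AlgSp.Space S} (h : Z ⟶ X)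
    (hh : AlgSp.IsFormallyUnramifiedMor h.hom) (iZ : Z ⟶ Z') (hZ' : Z' ⟶ X) (HZ : AlgSp.IsUnivFOThick h.hom iZ.hom hZ'.hom)
    (v : V ⟶ Z) (w : U ⟶ X) (hv : AlgSp.IsEtaleMor v.hom) (hw : AlgSp.IsEtaleMor w.hom) (ψ : V ⟶ U)
    (c : ψ ≫ w = v ≫ h) :
    AlgSp.IsFormallyUnramifiedMor ψ.hom ∧
    ∀ (iV : V ⟶ V') (hV' : V' ⟶ U), AlgSp.IsUnivFOThick ψ.hom iV.hom hV'.hom →
      ∀ e' : V' ⟶ Z', iV ≫ e' = v ≫ iZ → e' ≫ hZ' = hV' ≫ w → AlgSp.IsEtaleMor e'.hom := by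
  have hc : ψ.hom ≫ w.hom = v.hom ≫ h.hom := congrArg (fun t => t.hom) c
  refine ⟨?_, fun iV hV' HV e' he1 he2 => etale_of_univ h iZ hZ' HZ v w hv hw ψ hc iV hV' HV e'
    (congrArg (fun t => t.hom) he1) (congrArg (fun t => t.hom) he2)⟩
  have hvfe : IsFormallyEtaleMor v.hom := isFormallyEtaleMor_of_isEtaleMor V.property v.hom hv
  have hvu : IsFormallyUnramifiedMor v.hom := ((isFormallyEtaleMor_iff v.hom).1 hvfe).2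
  have hcomp : IsFormallyUnramifiedMor (ψ.hom ≫ w.hom) := by
    rw [hc]
    exact unramified_comp hvu hh
  exact unramified_of_comp hcomp

end Groth.Agent.Lib.Helper6.FOLocalize
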