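import Groth.Prelude.Def_EGA41
import Groth.Agent.Lib.Helper6.FSAdic
import Mathlib

/-! Adic formal smoothness of a formally projective algebra can be tested after reduction
modulo the ideal of definition of the base. -/

namespace Groth.Agent.Lib.Helper6.FSAdicBC

universe u

open Function

section pullback

variable {R E F X : Type*} [CommRing R] [CommRing E] [CommRing F] [CommRing X]
  [Algebra R E] [Algebra R F] [Algebra R X]

/-- If `E → (E ⧸ 𝔠) × F` is injective, a compatible pair of maps to `E ⧸ 𝔠` and `F` lifts to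
`E`. -/
theorem exists_lift_pullback (p : E →ₐ[R] F) (hp : Surjective p) (𝔠 : Ideal E)
    (h𝔠 : ∀ δ ∈ 𝔠, p δ = 0 → δ = 0) (s : X →ₐ[R] E ⧸ 𝔠) (g : X →ₐ[R] F)
    (hsg : ∀ x : X, ∀ e : E, Ideal.Quotient.mk 𝔠 e = s x → p e - g x ∈ 𝔠.map p) :
    ∃ v : X →ₐ[R] E, p.comp v = g := by
  let φ : E →ₐ[R] (E ⧸ 𝔠) × F := (Ideal.Quotient.mkₐ R 𝔠).prod p
  have hφ : Injective φ := by
    rw [injective_iff_map_eq_zero]
    intro e he
    have h1 : Ideal.Quotient.mk 𝔠 e = 0 := congrArg Prod.fst he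
    have h2 : p e = 0 := congrArg Prod.snd he
    exact h𝔠 e (Ideal.Quotient.eq_zero_iff_mem.1 h1) h2
  let ψ : X →ₐ[R] (E ⧸ 𝔠) × F := s.prod g
  have hψ : ∀ x, ψ x ∈ φ.range := by
    intro x
    obtain ⟨e', he'⟩ := Ideal.Quotient.mk_surjective (s x)
    obtain ⟨δ, hδ, hδe⟩ := (Ideal.mem_map_iff_of_surjective p hp).1 (hsg x e' he')
    refine ⟨e' - δ, ?_⟩
    refine Prod.ext ?_ ?_
    · show Ideal.Quotient.mk 𝔠 (e' - δ) = s x
      rw [map_sub, he', Ideal.Quotient.eq_zero_iff_mem.2 hδ, sub_zero]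
    · show p (e' - δ) = g x
      rw [map_sub, hδe, sub_sub_cancel]
  let ε := AlgEquiv.ofInjective φ hφ
  refine ⟨ε.symm.toAlgHom.comp (ψ.codRestrict φ.range hψ), ?_⟩
  refine AlgHom.ext fun x => ?_
  have h1 : ε (ε.symm (ψ.codRestrict φ.range hψ x)) = ψ.codRestrict φ.range hψ x :=
    ε.apply_symm_apply _
  have h2 : φ (ε.symm (ψ.codRestrict φ.range hψ x)) = ψ x := congrArg Subtype.val h1
  exact congrArg Prod.snd h2

end pullback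

variable {A B : Type u} [CommRing A] [CommRing B] [Algebra A B]

/-- `A`-form of formal smoothness of `B ⧸ 𝔞B` over `A ⧸ 𝔞`: lifting against test algebras
killed by `𝔞`. -/
def RelFS (𝔞 : Ideal A) (𝔟 : Ideal B) : Prop :=
  ∀ (C D : Type u) [CommRing C] [CommRing D] [Algebra A C] [Algebra A D] (π : C →ₐ[A] D),
    Surjective π → IsNilpotent (RingHom.ker π) → (∀ a ∈ 𝔞, algebraMap A C a = 0) →
    ∀ u : B →ₐ[A] D, (∃ k : ℕ, ∀ x ∈ 𝔟 ^ k, u x = 0) → ∃ v : B →ₐ[A] C, π.comp v = u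

/-- Formal projectivity of `B` as a topological `A`-module. -/
def FormallyProjective (𝔞 : Ideal A) (𝔟 : Ideal B) : Prop :=
  ∀ (n : ℕ) (P Q : Type u) [AddCommGroup P] [Module A P] [AddCommGroup Q] [Module A Q],
      (∀ a ∈ 𝔞 ^ n, ∀ y : P, a • y = 0) → (∀ a ∈ 𝔞 ^ n, ∀ y : Q, a • y = 0) →
      ∀ f : P →ₗ[A] Q, Function.Surjective f → ∀ v : B →ₗ[A] Q, (∃ m : ℕ, ∀ x ∈ 𝔟 ^ m, v x = 0) →
        ∃ w : B →ₗ[A] P, (∃ m : ℕ, ∀ x ∈ 𝔟 ^ m, w x = 0) ∧ f ∘ₗ w = v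

theorem relFS_of_quot {𝔞 : Ideal A} {𝔟 : Ideal B}
    (h₀ : EGA41.IsFormallySmoothAdic (A ⧸ 𝔞) ⊥ (B ⧸ 𝔞.map (algebraMap A B))
        (𝔟.map (Ideal.Quotient.mk (𝔞.map (algebraMap A B))))) : RelFS 𝔞 𝔟 := by
  intro C D _ _ _ _ π hπ hnil hC u hu
  have hD : ∀ a ∈ 𝔞, algebraMap A D a = 0 := fun a ha => by
    rw [← π.commutes a, hC a ha, map_zero]
  letI algC : Algebra (A ⧸ 𝔞) C := (Ideal.Quotient.lift 𝔞 (algebraMap A C) hC).toAlgebra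
  letI algD : Algebra (A ⧸ 𝔞) D := (Ideal.Quotient.lift 𝔞 (algebraMap A D) hD).toAlgebra
  let π' : C →ₐ[A ⧸ 𝔞] D :=
    { π.toRingHom with
      commutes' := fun r => by
        obtain ⟨a, rfl⟩ := Ideal.Quotient.mk_surjective r
        exact π.commutes a }
  have hu0 : ∀ x ∈ 𝔞.map (algebraMap A B), u.toRingHom x = 0 := by
    have : 𝔞.map (algebraMap A B) ≤ RingHom.ker u.toRingHom := by
      rw [Ideal.map_le_iff_le_comap]
      intro a ha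
      show u (algebraMap A B a) = 0
      rw [u.commutes, hD a ha]
    intro x hx
    exact this hx
  let u' : (B ⧸ 𝔞.map (algebraMap A B)) →ₐ[A ⧸ 𝔞] D :=
    { Ideal.Quotient.lift (𝔞.map (algebraMap A B)) u.toRingHom hu0 with
      commutes' := fun r => by
        obtain ⟨a, rfl⟩ := Ideal.Quotient.mk_surjective r
        exact u.commutes a }
  have hkerπ' : RingHom.ker π' = RingHom.ker π := by
    ext x
    exact Iff.rfl
  obtain ⟨v', hv'⟩ := FSAdic.exists_lift_of_surjective h₀ π' hπ (by rw [hkerπ']; exact hnil)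
    ⟨1, by simp [Ideal.map_bot]⟩ u' (by
      obtain ⟨k, hk⟩ := hu
      refine ⟨k, fun x hx => ?_⟩
      rw [← Ideal.map_pow] at hx
      obtain ⟨b, hb, rfl⟩ :=
        (Ideal.mem_map_iff_of_surjective _ Ideal.Quotient.mk_surjective).1 hx
      exact hk b hb)
  refine ⟨{ v'.toRingHom.comp (Ideal.Quotient.mk (𝔞.map (algebraMap A B))) with
      commutes' := fun a => v'.commutes (Ideal.Quotient.mk 𝔞 a) }, ?_⟩
  refine AlgHom.ext fun b => ?_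
  exact AlgHom.congr_fun hv' (Ideal.Quotient.mk _ b)

theorem quot_of_isFormallySmoothAdic {𝔞 : Ideal A} {𝔟 : Ideal B}
    (h : EGA41.IsFormallySmoothAdic A 𝔞 B 𝔟) :
    EGA41.IsFormallySmoothAdic (A ⧸ 𝔞) ⊥ (B ⧸ 𝔞.map (algebraMap A B))
        (𝔟.map (Ideal.Quotient.mk (𝔞.map (algebraMap A B)))) := by
  intro C _ _ J hJ _ u hu
  letI algC : Algebra A C := Algebra.compHom C (Ideal.Quotient.mk 𝔞)
  have hC0 : ∀ a ∈ 𝔞, algebraMap A C a = 0 := by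
    intro a ha
    show algebraMap (A ⧸ 𝔞) C (Ideal.Quotient.mk 𝔞 a) = 0
    rw [Ideal.Quotient.eq_zero_iff_mem.2 ha, map_zero]
  let u₁ : B →ₐ[A] C ⧸ J :=
    { u.toRingHom.comp (Ideal.Quotient.mk (𝔞.map (algebraMap A B))) with
      commutes' := fun a => u.commutes (Ideal.Quotient.mk 𝔞 a) }
  have hC' : ∃ k : ℕ, (𝔞 ^ k).map (algebraMap A C) = ⊥ := by
    refine ⟨1, ?_⟩
    rw [pow_one, eq_bot_iff, Ideal.map_le_iff_le_comap]
    intro a ha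
    show algebraMap A C a ∈ (⊥ : Ideal C)
    rw [hC0 a ha]
    exact Ideal.zero_mem _
  have hu₁ : ∃ k : ℕ, ∀ x ∈ 𝔟 ^ k, u₁ x = 0 := by
    obtain ⟨k, hk⟩ := hu
    exact ⟨k, fun x hx => hk (Ideal.Quotient.mk _ x) (by
      rw [← Ideal.map_pow]; exact Ideal.mem_map_of_mem _ hx)⟩
  obtain ⟨v₁, hv₁⟩ := h C J hJ hC' u₁ hu₁
  have hker : ∀ x ∈ 𝔞.map (algebraMap A B), v₁.toRingHom x = 0 := by
    have : 𝔞.map (algebraMap A B) ≤ RingHom.ker v₁.toRingHom := by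
      rw [Ideal.map_le_iff_le_comap]
      intro a ha
      show v₁ (algebraMap A B a) = 0
      rw [v₁.commutes, hC0 a ha]
    intro x hx
    exact this hx
  refine ⟨{ Ideal.Quotient.lift (𝔞.map (algebraMap A B)) v₁.toRingHom hker with
      commutes' := fun r => by
        obtain ⟨a, rfl⟩ := Ideal.Quotient.mk_surjective r
        exact v₁.commutes a }, ?_⟩
  refine AlgHom.ext fun x => ?_
  obtain ⟨b, rfl⟩ := Ideal.Quotient.mk_surjective x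
  exact AlgHom.congr_fun hv₁ b

/-- The square-zero step, for an abstract model `E` of the fibre product `B ⧸ 𝔟 ^ m ×_D C`. -/
theorem lift_sqZero_aux {𝔞 : Ideal A} {𝔟 : Ideal B} (hrel : RelFS 𝔞 𝔟)
    {C D E : Type u} [CommRing C] [CommRing D] [CommRing E] [Algebra A C] [Algebra A D]
    [Algebra A E] (π : C →ₐ[A] D)
    (hsq : ∀ x y : C, π x = 0 → π y = 0 → x * y = 0)
    (h𝔞N : ∀ a ∈ 𝔞, ∀ n : C, π n = 0 → a • n = 0)
    (u : B →ₐ[A] D) (w : B →ₗ[A] C) (hw' : ∀ x, π (w x) = u x) (m : ℕ)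
    (hwm : ∀ x ∈ 𝔟 ^ m, w x = 0)
    (ū : (B ⧸ 𝔟 ^ m) →ₐ[A] D) (hūmk : ∀ x : B, ū (Ideal.Quotient.mk (𝔟 ^ m) x) = u x)
    (p₁ : E →ₐ[A] B ⧸ 𝔟 ^ m) (p₂ : E →ₐ[A] C)
    (hE : ∀ e : E, ū (p₁ e) = π (p₂ e))
    (hinj : ∀ e : E, p₁ e = 0 → p₂ e = 0 → e = 0)
    (hsurj : ∀ (b : B ⧸ 𝔟 ^ m) (c : C), ū b = π c → ∃ e : E, p₁ e = b ∧ p₂ e = c) :
    ∃ v : B →ₐ[A] C, π.comp v = u := by
  have hp₁ : Surjective p₁ := by
    intro y
    obtain ⟨x, rfl⟩ := Ideal.Quotient.mk_surjective y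
    obtain ⟨e, he, -⟩ := hsurj (Ideal.Quotient.mk _ x) (w x) (by rw [hūmk, hw'])
    exact ⟨e, he⟩
  -- elements of `𝔞 E` are determined by their first component
  have hΦ : ∀ δ : E, δ ∈ (𝔞 • ⊤ : Submodule A E) → ∀ x : B,
      p₁ δ = Ideal.Quotient.mk (𝔟 ^ m) x → p₂ δ = w x := by
    intro δ hδ
    refine Submodule.smul_induction_on hδ ?_ ?_
    · intro a ha e _ x hx
      obtain ⟨xe, hxe⟩ := Ideal.Quotient.mk_surjective (p₁ e)
      have h1 : Ideal.Quotient.mk (𝔟 ^ m) x = Ideal.Quotient.mk (𝔟 ^ m) (a • xe) := by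
        rw [← hx, map_smul, ← hxe]
        rfl
      have h2 : w x = a • w xe := by
        rw [← map_smul, ← sub_eq_zero, ← map_sub]
        exact hwm _ (Ideal.Quotient.eq.1 h1)
      have h3 : π (p₂ e - w xe) = 0 := by
        rw [map_sub, ← hE e, ← hxe, hw' xe, hūmk, sub_self]
      have h4 := h𝔞N a ha _ h3
      rw [smul_sub, sub_eq_zero] at h4
      rw [map_smul, h4, h2]
    · intro δ₁ δ₂ h₁ h₂ x hx
      obtain ⟨x₁, hx₁⟩ := Ideal.Quotient.mk_surjective (p₁ δ₁)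
      have hx₂ : p₁ δ₂ = Ideal.Quotient.mk (𝔟 ^ m) (x - x₁) := by
        rw [map_sub, ← hx, hx₁, map_add, add_sub_cancel_left]
      rw [map_add, h₁ x₁ hx₁.symm, h₂ _ hx₂, ← map_add, add_sub_cancel]
  obtain ⟨𝔠, h𝔠⟩ : ∃ 𝔠 : Ideal E, 𝔠 = 𝔞.map (algebraMap A E) := ⟨_, rfl⟩
  have hkey : ∀ δ ∈ 𝔠, p₁ δ = 0 → δ = 0 := by
    intro δ hδ h0
    have hδ' : δ ∈ (𝔞 • ⊤ : Submodule A E) := by
      rw [Ideal.smul_top_eq_map, ← h𝔠]
      exact hδ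
    have h1 := hΦ δ hδ' 0 (by rw [h0, map_zero])
    rw [map_zero] at h1
    exact hinj δ h0 h1
  have hker_sq : ∀ r s : E, p₁ r = 0 → p₁ s = 0 → r * s = 0 := by
    intro r s hr hs
    refine hinj _ (by rw [map_mul, hr, zero_mul]) ?_
    rw [map_mul]
    exact hsq _ _ (by rw [← hE r, hr, map_zero]) (by rw [← hE s, hs, map_zero])
  let π₀ : (E ⧸ 𝔠) →ₐ[A] ((B ⧸ 𝔟 ^ m) ⧸ 𝔠.map p₁) :=
    Ideal.quotientMapₐ (𝔠.map p₁) p₁ Ideal.le_comap_map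
  have hπ₀mk : ∀ e : E, π₀ (Ideal.Quotient.mk 𝔠 e) = Ideal.Quotient.mk (𝔠.map p₁) (p₁ e) :=
    fun e => rfl
  have hπ₀ : Surjective π₀ := by
    intro y
    obtain ⟨b, rfl⟩ := Ideal.Quotient.mk_surjective y
    obtain ⟨e, rfl⟩ := hp₁ b
    exact ⟨Ideal.Quotient.mk 𝔠 e, rfl⟩
  have hπ₀nil : IsNilpotent (RingHom.ker π₀) := by
    refine ⟨2, ?_⟩
    have aux : ∀ r ∈ RingHom.ker π₀, ∃ e : E, p₁ e = 0 ∧ Ideal.Quotient.mk 𝔠 e = r := by
      intro r hr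
      obtain ⟨e, rfl⟩ := Ideal.Quotient.mk_surjective r
      have h1 : Ideal.Quotient.mk (𝔠.map p₁) (p₁ e) = 0 := hr
      obtain ⟨δ, hδ, hδe⟩ := (Ideal.mem_map_iff_of_surjective p₁ hp₁).1
        (Ideal.Quotient.eq_zero_iff_mem.1 h1)
      refine ⟨e - δ, by rw [map_sub, hδe, sub_self], ?_⟩
      rw [map_sub, Ideal.Quotient.eq_zero_iff_mem.2 hδ, sub_zero]
    have hmul : RingHom.ker π₀ * RingHom.ker π₀ = ⊥ := by
      rw [eq_bot_iff, Ideal.mul_le]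
      intro r hr s hs
      obtain ⟨e, he, rfl⟩ := aux r hr
      obtain ⟨e', he', rfl⟩ := aux s hs
      rw [← map_mul, hker_sq e e' he he', map_zero]
      exact Ideal.zero_mem _
    exact (pow_two (RingHom.ker π₀)).trans hmul
  have h𝔞E₀ : ∀ a ∈ 𝔞, algebraMap A (E ⧸ 𝔠) a = 0 := by
    intro a ha
    show Ideal.Quotient.mk 𝔠 (algebraMap A E a) = 0
    rw [Ideal.Quotient.eq_zero_iff_mem, h𝔠]
    exact Ideal.mem_map_of_mem _ ha
  let g : B →ₐ[A] (B ⧸ 𝔟 ^ m) := Ideal.Quotient.mkₐ A (𝔟 ^ m)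
  let u₀ : B →ₐ[A] ((B ⧸ 𝔟 ^ m) ⧸ 𝔠.map p₁) := (Ideal.Quotient.mkₐ A (𝔠.map p₁)).comp g
  obtain ⟨s, hs⟩ := hrel (E ⧸ 𝔠) ((B ⧸ 𝔟 ^ m) ⧸ 𝔠.map p₁) π₀ hπ₀ hπ₀nil h𝔞E₀ u₀
    ⟨m, fun x hx => by
      show Ideal.Quotient.mk (𝔠.map p₁) (Ideal.Quotient.mk (𝔟 ^ m) x) = 0
      rw [Ideal.Quotient.eq_zero_iff_mem.2 hx, map_zero]⟩
  obtain ⟨vE, hvE⟩ := exists_lift_pullback p₁ hp₁ 𝔠 hkey s g (by
    intro x e he
    have h1 : Ideal.Quotient.mk (𝔠.map p₁) (p₁ e) = Ideal.Quotient.mk (𝔠.map p₁) (g x) := by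
      rw [← hπ₀mk, he]
      exact AlgHom.congr_fun hs x
    exact Ideal.Quotient.eq.1 h1)
  refine ⟨p₂.comp vE, ?_⟩
  refine AlgHom.ext fun x => ?_
  have h1 : p₁ (vE x) = Ideal.Quotient.mk (𝔟 ^ m) x := AlgHom.congr_fun hvE x
  have h2 : ū (p₁ (vE x)) = π (p₂ (vE x)) := hE (vE x)
  show π (p₂ (vE x)) = u x
  rw [← h2, h1, hūmk]

/-- The square-zero step. -/
theorem lift_sqZero {𝔞 : Ideal A} {𝔟 : Ideal B} (hrel : RelFS 𝔞 𝔟)
    (hproj : FormallyProjective 𝔞 𝔟)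
    {C D : Type u} [CommRing C] [CommRing D] [Algebra A C] [Algebra A D] (π : C →ₐ[A] D)
    (hπ : Surjective π) (hsq : ∀ x y : C, π x = 0 → π y = 0 → x * y = 0)
    (h𝔞N : ∀ a ∈ 𝔞, ∀ n : C, π n = 0 → a • n = 0)
    (hk : ∃ k : ℕ, ∀ a ∈ 𝔞 ^ k, algebraMap A C a = 0)
    (u : B →ₐ[A] D) (hu : ∃ m : ℕ, ∀ x ∈ 𝔟 ^ m, u x = 0) :
    ∃ v : B →ₐ[A] C, π.comp v = u := by
  obtain ⟨k, hk⟩ := hk
  obtain ⟨m₁, hm₁⟩ := hu
  obtain ⟨w, ⟨m₂, hm₂⟩, hw⟩ := hproj k C D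
    (fun a ha y => by rw [Algebra.smul_def, hk a ha, zero_mul])
    (fun a ha y => by
      obtain ⟨c, rfl⟩ := hπ y
      rw [← map_smul, Algebra.smul_def, hk a ha, zero_mul, map_zero])
    π.toLinearMap hπ u.toLinearMap ⟨m₁, hm₁⟩
  have hw' : ∀ x, π (w x) = u x := fun x => LinearMap.congr_fun hw x
  obtain ⟨m, hum, hwm⟩ : ∃ m : ℕ, (∀ x ∈ 𝔟 ^ m, u x = 0) ∧ (∀ x ∈ 𝔟 ^ m, w x = 0) :=
    ⟨max m₁ m₂, fun x hx => hm₁ x (Ideal.pow_le_pow_right (le_max_left _ _) hx),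
      fun x hx => hm₂ x (Ideal.pow_le_pow_right (le_max_right _ _) hx)⟩
  let ū : (B ⧸ 𝔟 ^ m) →ₐ[A] D := Ideal.Quotient.liftₐ (𝔟 ^ m) u hum
  have hūmk : ∀ x : B, ū (Ideal.Quotient.mk (𝔟 ^ m) x) = u x := fun x => rfl
  let E : Subalgebra A ((B ⧸ 𝔟 ^ m) × C) :=
    AlgHom.equalizer (ū.comp (AlgHom.fst A (B ⧸ 𝔟 ^ m) C)) (π.comp (AlgHom.snd A (B ⧸ 𝔟 ^ m) C))
  exact lift_sqZero_aux hrel π hsq h𝔞N u w hw' m hwm ū hūmk
    ((AlgHom.fst A (B ⧸ 𝔟 ^ m) C).comp E.val) ((AlgHom.snd A (B ⧸ 𝔟 ^ m) C).comp E.val)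
    (fun e => e.2) (fun e h1 h2 => Subtype.ext (Prod.ext h1 h2))
    (fun b c h => ⟨⟨(b, c), h⟩, rfl, rfl⟩)

/-- Lifting along a surjection whose kernel is filtered with graded pieces killed by `𝔞`. -/
theorem lift_of_filtration {𝔞 : Ideal A} {𝔟 : Ideal B} (hrel : RelFS 𝔞 𝔟)
    (hproj : FormallyProjective 𝔞 𝔟) : ∀ (n : ℕ) {C D : Type u} [CommRing C] [CommRing D]
    [Algebra A C] [Algebra A D] (π : C →ₐ[A] D), Surjective π →
    (∃ k : ℕ, ∀ a ∈ 𝔞 ^ k, algebraMap A C a = 0) →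
    RingHom.ker π * (𝔞.map (algebraMap A C) ⊔ RingHom.ker π) ^ n = ⊥ →
    ∀ u : B →ₐ[A] D, (∃ m : ℕ, ∀ x ∈ 𝔟 ^ m, u x = 0) → ∃ v : B →ₐ[A] C, π.comp v = u := by
  intro n
  induction n with
  | zero =>
    intro C D _ _ _ _ π hπ hk hfil u hu
    rw [pow_zero, Ideal.one_eq_top, Ideal.mul_top] at hfil
    have h0 : ∀ x : C, π x = 0 → x = 0 := fun x hx => by
      have h1 : x ∈ RingHom.ker π := hx
      rw [hfil] at h1
      exact h1
    exact lift_sqZero hrel hproj π hπ (fun x y hx _ => by rw [h0 x hx, zero_mul])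
      (fun a _ n hn => by rw [h0 n hn, smul_zero]) hk u hu
  | succ n ih =>
    intro C D _ _ _ _ π hπ hk hfil u hu
    obtain ⟨N, hN⟩ : ∃ N : Ideal C, N = RingHom.ker π := ⟨_, rfl⟩
    obtain ⟨I, hI⟩ : ∃ I : Ideal C, I = 𝔞.map (algebraMap A C) ⊔ N := ⟨_, rfl⟩
    obtain ⟨K, hK⟩ : ∃ K : Ideal C, K = N * I ^ n := ⟨_, rfl⟩
    rw [← hN, ← hI] at hfil
    have hKN : K ≤ N := hK ▸ Ideal.mul_le_left
    have hNI : N ≤ I := hI ▸ le_sup_right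
    have h𝔞I : 𝔞.map (algebraMap A C) ≤ I := hI ▸ le_sup_left
    have hNmem : ∀ x : C, x ∈ N ↔ π x = 0 := fun x => by rw [hN]; exact Iff.rfl
    let π' : (C ⧸ K) →ₐ[A] D := Ideal.Quotient.liftₐ K π (fun a ha => (hNmem a).1 (hKN ha))
    have hπ' : Surjective π' := fun d => by
      obtain ⟨c, rfl⟩ := hπ d
      exact ⟨Ideal.Quotient.mk _ c, rfl⟩
    have hker : RingHom.ker π' ≤ N.map (Ideal.Quotient.mk K) := by
      intro c₁ hc₁
      obtain ⟨c, rfl⟩ := Ideal.Quotient.mk_surjective c₁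
      exact Ideal.mem_map_of_mem _ ((hNmem c).2 hc₁)
    have h𝔞' : 𝔞.map (algebraMap A (C ⧸ K)) =
        (𝔞.map (algebraMap A C)).map (Ideal.Quotient.mk K) := by
      rw [Ideal.map_map]
      rfl
    have hI' : 𝔞.map (algebraMap A (C ⧸ K)) ⊔ RingHom.ker π' ≤ I.map (Ideal.Quotient.mk K) := by
      rw [h𝔞']
      exact sup_le (Ideal.map_mono h𝔞I) (hker.trans (Ideal.map_mono hNI))
    have hfil' : RingHom.ker π' * (𝔞.map (algebraMap A (C ⧸ K)) ⊔ RingHom.ker π') ^ n = ⊥ := by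
      rw [eq_bot_iff]
      calc RingHom.ker π' * (𝔞.map (algebraMap A (C ⧸ K)) ⊔ RingHom.ker π') ^ n
          ≤ N.map (Ideal.Quotient.mk K) * (I.map (Ideal.Quotient.mk K)) ^ n :=
            Ideal.mul_mono hker (Ideal.pow_right_mono hI' n)
        _ = K.map (Ideal.Quotient.mk K) := by rw [← Ideal.map_pow, ← Ideal.map_mul, hK]
        _ = ⊥ := Ideal.map_quotient_self K
    have hk' : ∃ k : ℕ, ∀ a ∈ 𝔞 ^ k, algebraMap A (C ⧸ K) a = 0 := by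
      obtain ⟨k, hk⟩ := hk
      exact ⟨k, fun a ha => by
        show Ideal.Quotient.mk K (algebraMap A C a) = 0
        rw [hk a ha, map_zero]⟩
    obtain ⟨v₁, hv₁⟩ := ih π' hπ' hk' hfil' u hu
    have hpow : RingHom.ker π' ^ (n + 1) = ⊥ := by
      rw [eq_bot_iff, ← hfil', pow_succ']
      exact Ideal.mul_mono le_rfl (Ideal.pow_right_mono le_sup_right n)
    obtain ⟨m, hm⟩ := hu
    have hcont : ∃ m' : ℕ, ∀ x ∈ 𝔟 ^ m', v₁ x = 0 :=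
      ⟨m * (n + 1), FSAdic.kills_pow_of_comp π' (n + 1) hpow v₁ 𝔟 m (fun x hx => by
        have h1 := AlgHom.congr_fun hv₁ x
        rw [AlgHom.comp_apply] at h1
        rw [h1]
        exact hm x hx)⟩
    have hKmem : ∀ x : C, Ideal.Quotient.mkₐ A K x = 0 ↔ x ∈ K := fun x =>
      Ideal.Quotient.eq_zero_iff_mem
    have hKI : K * I = ⊥ := by rw [hK, mul_assoc, ← pow_succ]; exact hfil
    obtain ⟨v, hv⟩ := lift_sqZero hrel hproj (Ideal.Quotient.mkₐ A K)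
      (Ideal.Quotient.mkₐ_surjective A K)
      (fun x y hx hy => by
        have hx' := (hKmem x).1 hx
        have hy' := (hKmem y).1 hy
        have h1 : x * y ∈ K * I := Ideal.mul_mem_mul hx' (hNI (hKN hy'))
        rw [hKI] at h1
        exact h1)
      (fun a ha x hx => by
        have hx' := (hKmem x).1 hx
        have h1 : x * algebraMap A C a ∈ K * I :=
          Ideal.mul_mem_mul hx' (h𝔞I (Ideal.mem_map_of_mem _ ha))
        rw [hKI, Ideal.mem_bot] at h1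
        rw [Algebra.smul_def, mul_comm]
        exact h1)
      hk v₁ hcont
    refine ⟨v, ?_⟩
    rw [← hv₁, ← hv]
    refine AlgHom.ext fun b => ?_
    rfl

theorem isFormallySmoothAdic_of_quot {𝔞 : Ideal A} {𝔟 : Ideal B}
    (hproj : FormallyProjective 𝔞 𝔟)
    (h₀ : EGA41.IsFormallySmoothAdic (A ⧸ 𝔞) ⊥ (B ⧸ 𝔞.map (algebraMap A B))
        (𝔟.map (Ideal.Quotient.mk (𝔞.map (algebraMap A B))))) :
    EGA41.IsFormallySmoothAdic A 𝔞 B 𝔟 := by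
  intro C _ _ J hJ hC u hu
  obtain ⟨t, ht⟩ := hJ
  obtain ⟨k, hk⟩ := hC
  have hker : RingHom.ker (Ideal.Quotient.mkₐ A J) = J := by
    ext x
    simp [RingHom.mem_ker, Ideal.Quotient.eq_zero_iff_mem]
  refine lift_of_filtration (relFS_of_quot h₀) hproj (k + t) (Ideal.Quotient.mkₐ A J)
    (Ideal.Quotient.mkₐ_surjective A J) ⟨k, fun a ha => ?_⟩ ?_ u hu
  · have h1 : algebraMap A C a ∈ (𝔞 ^ k).map (algebraMap A C) := Ideal.mem_map_of_mem _ ha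
    rw [hk] at h1
    exact h1
  · rw [hker]
    have h1 : (𝔞.map (algebraMap A C) ⊔ J) ^ (k + t) = ⊥ := by
      rw [eq_bot_iff]
      calc (𝔞.map (algebraMap A C) ⊔ J) ^ (k + t)
          ≤ (𝔞.map (algebraMap A C)) ^ k ⊔ J ^ t := Ideal.sup_pow_add_le_pow_sup_pow
        _ = ⊥ := by rw [← Ideal.map_pow, hk, ht]; simp
    rw [h1, Ideal.mul_bot]

end Groth.Agent.Lib.Helper6.FSAdicBC
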