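import Mathlib
import Groth.Agent.Lib.Helper22.NormalSections

/-! Going down for integral dominant morphisms onto normal integral schemes, and lifting
irreducible components of closed subsets along finite surjective morphisms. -/

set_option autoImplicit false
set_option linter.style.haveILetI false

namespace Groth.Agent.Lib.Helper6.GoingDownNormal

open AlgebraicGeometry CategoryTheory TopologicalSpace

universe u

/-- Any irreducible subset of `F` is contained in a maximal irreducible subset of `F`. -/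
lemma exists_maximal_irreducible_subset {X : Type*} [TopologicalSpace X] (F T : Set X)
    (hT : IsIrreducible T) (hTF : T ⊆ F) :
    ∃ Γ, Maximal (fun S : Set X => IsIrreducible S ∧ S ⊆ F) Γ ∧ T ⊆ Γ := by
  obtain ⟨m, hsm, hm⟩ := zorn_subset_nonempty {t : Set X | IsPreirreducible t ∧ t ⊆ F}
    (fun c hc hcc _ => ⟨⋃₀ c, ⟨fun u v hu hv ⟨y, hy, hyu⟩ ⟨x, hx, hxv⟩ =>
          let ⟨p, hpc, hyp⟩ := Set.mem_sUnion.1 hy
          let ⟨q, hqc, hxq⟩ := Set.mem_sUnion.1 hx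
          Or.casesOn (hcc.total hpc hqc)
            (fun hpq : p ⊆ q =>
              let ⟨x, hxp, hxuv⟩ := (hc hqc).1 u v hu hv ⟨y, hpq hyp, hyu⟩ ⟨x, hxq, hxv⟩
              ⟨x, Set.mem_sUnion_of_mem hxp hqc, hxuv⟩)
            fun hqp : q ⊆ p =>
            let ⟨x, hxp, hxuv⟩ := (hc hpc).1 u v hu hv ⟨y, hyp, hyu⟩ ⟨x, hqp hxq, hxv⟩
            ⟨x, Set.mem_sUnion_of_mem hxp hpc, hxuv⟩,
          Set.sUnion_subset fun t ht => (hc ht).2⟩,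
          fun _ hxc => Set.subset_sUnion_of_mem hxc⟩) T ⟨hT.isPreirreducible, hTF⟩
  refine ⟨m, ⟨⟨⟨hT.nonempty.mono hsm, hm.prop.1⟩, hm.prop.2⟩, ?_⟩, hsm⟩
  intro S hS hmS
  exact hm.le_of_ge ⟨hS.1.isPreirreducible, hS.2⟩ hmS

/-- Going down: an integral dominant morphism of integral schemes with normal target is
generalizing. -/
theorem exists_specializes_of_integral_normal {W Z : Scheme.{u}} [IsIntegral W] [IsIntegral Z]
    (ψ : W ⟶ Z) [IsIntegralHom ψ] [IsDominant ψ] (hZn : Pi1.IsNormalScheme Z)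
    (w : W) (z' : Z) (h : z' ⤳ ψ w) : ∃ w', w' ⤳ w ∧ ψ w' = z' := by
  obtain ⟨V, hV, hzV⟩ : ∃ V : Z.Opens, IsAffineOpen V ∧ ψ w ∈ V := by
    obtain ⟨_, ⟨V, hV, rfl⟩, hxV, -⟩ := Z.isBasis_affineOpens.exists_subset_of_mem_open
      (Set.mem_univ (ψ w)) isOpen_univ
    exact ⟨V, hV, hxV⟩
  have hz'V : z' ∈ V := h.mem_open V.isOpen hzV
  have hU : IsAffineOpen (ψ ⁻¹ᵁ V) := hV.preimage ψ
  have hwU : w ∈ ψ ⁻¹ᵁ V := hzV
  haveI : Nonempty V := ⟨⟨ψ w, hzV⟩⟩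
  haveI : Nonempty (ψ ⁻¹ᵁ V : W.Opens) := ⟨⟨w, hwU⟩⟩
  letI : Algebra Γ(Z, V) Γ(W, ψ ⁻¹ᵁ V) := (ψ.app V).hom.toAlgebra
  haveI : IsIntegrallyClosed Γ(Z, V) :=
    Groth.Agent.Lib.Helper22.NormalSections.isIntegrallyClosed_sections hZn V
  haveI : Algebra.IsIntegral Γ(Z, V) Γ(W, ψ ⁻¹ᵁ V) := ⟨IsIntegralHom.isIntegral_app ψ V hV⟩
  haveI : IsSchemeTheoreticallyDominant ψ := IsSchemeTheoreticallyDominant.of_isDominant ψ
  have hinj : Function.Injective (algebraMap Γ(Z, V) Γ(W, ψ ⁻¹ᵁ V)) := ψ.app_injective V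
  haveI : FaithfulSMul Γ(Z, V) Γ(W, ψ ⁻¹ᵁ V) :=
    (faithfulSMul_iff_algebraMap_injective _ _).mpr hinj
  obtain ⟨q, hq⟩ : ∃ q : PrimeSpectrum Γ(Z, V), q = hV.primeIdealOf ⟨ψ w, hzV⟩ := ⟨_, rfl⟩
  obtain ⟨p, hp⟩ : ∃ p : PrimeSpectrum Γ(Z, V), p = hV.primeIdealOf ⟨z', hz'V⟩ := ⟨_, rfl⟩
  obtain ⟨Q, hQ⟩ : ∃ Q : PrimeSpectrum Γ(W, ψ ⁻¹ᵁ V), Q = hU.primeIdealOf ⟨w, hwU⟩ := ⟨_, rfl⟩
  have hQq : Q.comap (ψ.app V).hom = q := by
    rw [hQ, hq]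
    have := IsAffineOpen.comap_primeIdealOf_appLE (f := ψ) (x := w) V hV (ψ ⁻¹ᵁ V) hU le_rfl hwU
    rwa [Scheme.Hom.appLE_eq_app] at this
  have hpq : p ≤ q := by
    rw [PrimeSpectrum.le_iff_specializes]
    have h1 : hV.fromSpec p ⤳ hV.fromSpec q := by
      rw [hp, hq, hV.fromSpec_primeIdealOf, hV.fromSpec_primeIdealOf]; exact h
    exact hV.fromSpec.isOpenEmbedding.isInducing.specializes_iff.mp h1
  haveI : Q.asIdeal.LiesOver q.asIdeal := ⟨by rw [← hQq]; rfl⟩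
  obtain ⟨P, hPQ, hPprime, hPover⟩ := Ideal.exists_ideal_le_liesOver_of_le
    (p := p.asIdeal) (q := q.asIdeal) Q.asIdeal (show p.asIdeal ≤ q.asIdeal from hpq)
  obtain ⟨Ps, hPs⟩ : ∃ Ps : PrimeSpectrum Γ(W, ψ ⁻¹ᵁ V), Ps.asIdeal = P :=
    ⟨⟨P, hPprime⟩, rfl⟩
  refine ⟨hU.fromSpec Ps, ?_, ?_⟩
  · have h1 : Ps ⤳ Q := (PrimeSpectrum.le_iff_specializes _ _).mp
      (show Ps.asIdeal ≤ Q.asIdeal by rw [hPs]; exact hPQ)
    have h2 := h1.map hU.fromSpec.continuous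
    rwa [hQ, hU.fromSpec_primeIdealOf] at h2
  · have hsq := IsAffineOpen.SpecMap_appLE_fromSpec ψ hV hU le_rfl
    have h3 : ψ (hU.fromSpec Ps) =
        hV.fromSpec ((Spec.map (ψ.appLE V (ψ ⁻¹ᵁ V) le_rfl)) Ps) :=
      (congrArg (fun g : Spec Γ(W, ψ ⁻¹ᵁ V) ⟶ Z => g Ps) hsq).symm
    rw [h3]
    have h4 : (Spec.map (ψ.appLE V (ψ ⁻¹ᵁ V) le_rfl)) Ps = p := by
      apply PrimeSpectrum.ext
      show Ps.asIdeal.comap (ψ.appLE V (ψ ⁻¹ᵁ V) le_rfl).hom = p.asIdeal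
      rw [hPs, Scheme.Hom.appLE_eq_app]
      exact (hPover.over).symm
    rw [h4, hp, hV.fromSpec_primeIdealOf]

/-- Lifting irreducible components of a closed subset along a finite surjective morphism onto a
normal integral scheme. -/
theorem main_top {W Z : Scheme.{u}} [IsIntegral W] [IsIntegral Z] (ψ : W ⟶ Z) [IsFinite ψ]
    [Surjective ψ] (hZn : Pi1.IsNormalScheme Z) (FW : Set W) (FZ : Set Z) (hFZ : IsClosed FZ)
    (hF : FW = ψ ⁻¹' FZ) (w : W) (Δ : Set Z)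
    (hΔ : Maximal (fun S : Set Z => IsIrreducible S ∧ S ⊆ FZ) Δ) (hzΔ : ψ w ∈ Δ) :
    ∃ Γ, Maximal (fun S : Set W => IsIrreducible S ∧ S ⊆ FW) Γ ∧ w ∈ Γ ∧ ψ '' Γ = Δ := by
  have hFW : IsClosed FW := by rw [hF]; exact hFZ.preimage ψ.continuous
  have hΔc : IsClosed Δ := closure_subset_iff_isClosed.mp
    (hΔ.le_of_ge ⟨hΔ.prop.1.closure, closure_minimal hΔ.prop.2 hFZ⟩ subset_closure)
  obtain ⟨δ, hδ⟩ := QuasiSober.sober hΔ.prop.1 hΔc
  have hδΔ : closure ({δ} : Set Z) = Δ := hδ.def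
  have hsp : δ ⤳ ψ w := specializes_iff_mem_closure.mpr (hδΔ.symm ▸ hzΔ)
  obtain ⟨w', hw'w, hw'δ⟩ := exists_specializes_of_integral_normal ψ hZn w δ hsp
  have hwT : w ∈ closure ({w'} : Set W) := specializes_iff_mem_closure.mp hw'w
  have hδmem : δ ∈ Δ := hδΔ ▸ subset_closure (Set.mem_singleton δ)
  have hw'F : w' ∈ FW := by
    rw [hF]
    show ψ w' ∈ FZ
    rw [hw'δ]
    exact hΔ.prop.2 hδmem
  have hTF : closure ({w'} : Set W) ⊆ FW :=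
    closure_minimal (Set.singleton_subset_iff.mpr hw'F) hFW
  obtain ⟨Γ, hΓ, hTΓ⟩ := exists_maximal_irreducible_subset FW (closure ({w'} : Set W))
    isIrreducible_singleton.closure hTF
  refine ⟨Γ, hΓ, hTΓ hwT, ?_⟩
  have hirr : IsIrreducible (ψ '' Γ) := hΓ.prop.1.image ψ ψ.continuous.continuousOn
  have hsub : ψ '' Γ ⊆ FZ := by
    rintro _ ⟨g, hg, rfl⟩
    have : g ∈ ψ ⁻¹' FZ := hF ▸ hΓ.prop.2 hg
    exact this
  have hΔsub : Δ ⊆ ψ '' Γ := by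
    have h1 : closure (ψ '' ({w'} : Set W)) = ψ '' closure ({w'} : Set W) :=
      ψ.isClosedMap.closure_image_eq_of_continuous ψ.continuous _
    rw [Set.image_singleton, hw'δ, hδΔ] at h1
    rw [h1]
    exact Set.image_mono hTΓ
  exact Set.Subset.antisymm (hΔ.le_of_ge ⟨hirr, hsub⟩ hΔsub) hΔsub

end Groth.Agent.Lib.Helper6.GoingDownNormal
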