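import Mathlib
import Groth.Prelude.Def_Neron
import Groth.Agent.Lib.Helper6.GoingDownNormal
import Groth.Agent.Lib.Helper6.FibSurfCurve

/-! Counting irreducible components of closed fibres along finite surjective morphisms onto
normal schemes. -/

set_option autoImplicit false
set_option linter.style.haveILetI false

namespace Groth.Agent.Lib.Helper6.FibreCompCount

open AlgebraicGeometry CategoryTheory TopologicalSpace

universe u

lemma finite_maximal_irreducible {X : Type*} [TopologicalSpace X] [NoetherianSpace X]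
    (F : Set X) (hF : IsClosed F) :
    {Γ : Set X | Maximal (fun S : Set X => IsIrreducible S ∧ S ⊆ F) Γ}.Finite := by
  obtain ⟨S, hSfin, hScl, hSirr, hFS⟩ := NoetherianSpace.exists_finite_set_isClosed_irreducible hF
  refine hSfin.subset fun Γ hΓ => ?_
  have hΓ' : Maximal (fun S : Set X => IsIrreducible S ∧ S ⊆ F) Γ := hΓ
  lift S to Finset (Set X) using hSfin
  obtain ⟨t, ht, hΓt⟩ := isIrreducible_iff_sUnion_isClosed.mp hΓ'.prop.1 S hScl
    (hFS ▸ hΓ'.prop.2)
  have htΓ : t ⊆ Γ :=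
    hΓ'.le_of_ge ⟨hSirr t ht, by rw [hFS]; exact Set.subset_sUnion_of_mem ht⟩ hΓt
  rw [Set.Subset.antisymm hΓt htΓ]
  exact ht

theorem ncard_le {X Y : Scheme.{u}} [IsIntegral X] [IsIntegral Y] (f : X ⟶ Y) [IsFinite f]
    [Surjective f] (hYn : Pi1.IsNormalScheme Y) [NoetherianSpace X] (FX : Set X) (FY : Set Y)
    (hFY : IsClosed FY) (hF : FX = f ⁻¹' FY) (x : X) (y : Y) (hx : f x = y) :
    {Δ : Set Y | Maximal (fun S : Set Y => IsIrreducible S ∧ S ⊆ FY) Δ ∧ y ∈ Δ}.ncard ≤
      {Γ : Set X | Maximal (fun S : Set X => IsIrreducible S ∧ S ⊆ FX) Γ ∧ x ∈ Γ}.ncard := by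
  subst hx
  have hFX : IsClosed FX := by rw [hF]; exact hFY.preimage f.continuous
  have H : ∀ Δ : Set Y, (Maximal (fun S : Set Y => IsIrreducible S ∧ S ⊆ FY) Δ ∧ f x ∈ Δ) →
      ∃ Γ : Set X, Maximal (fun S : Set X => IsIrreducible S ∧ S ⊆ FX) Γ ∧ x ∈ Γ ∧ f '' Γ = Δ :=
    fun Δ hΔ => GoingDownNormal.main_top f hYn FX FY hFY hF x Δ hΔ.1 hΔ.2
  choose! g hg using H
  refine Set.ncard_le_ncard_of_injOn g (fun Δ hΔ => ⟨(hg Δ hΔ).1, (hg Δ hΔ).2.1⟩) ?_ ?_
  · intro Δ1 h1 Δ2 h2 h12
    rw [← (hg Δ1 h1).2.2, ← (hg Δ2 h2).2.2, h12]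
  · exact (finite_maximal_irreducible FX hFX).subset fun Γ hΓ => hΓ.1

theorem noetherianSpace_of_projectiveOver {R : Type u} [CommRing R] [IsNoetherianRing R]
    (X : Over (Spec (CommRingCat.of R))) (hp : Neron.IsProjectiveOver R X) :
    NoetherianSpace X.left := by
  obtain ⟨n, i, hi, hcomp⟩ := hp
  have := hi
  have := FibSurfCurve.isProper_toBase n (Spec (CommRingCat.of R))
  have h1 : LocallyOfFiniteType X.hom := by rw [← hcomp]; infer_instance
  have h2 : QuasiCompact X.hom := by rw [← hcomp]; infer_instance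
  have : IsLocallyNoetherian X.left := LocallyOfFiniteType.isLocallyNoetherian X.hom
  have : CompactSpace X.left := QuasiCompact.compactSpace_of_compactSpace X.hom
  have : IsNoetherian X.left := {}
  infer_instance

end Groth.Agent.Lib.Helper6.FibreCompCount
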