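import Mathlib
import Groth.Prelude.Def_Pi1
import Groth.Agent.Lib.Helper6.BirZMT

/-!
# Functions factoring on the components of the closed fibre of a birational proper morphism
onto a normal local surface (helper6)
-/

set_option autoImplicit false
set_option linter.style.haveILetI false
universe u

open CategoryTheory CategoryTheory.Limits AlgebraicGeometry TopologicalSpace

namespace Groth.Agent.Lib.Helper6.FibreFactor

open Groth.Agent.Lib.Helper6.BirZMT

/-! ### normality of an affine scheme (copied from `NormCurve`) -/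

theorem isNormalScheme_of_affine (X : Scheme.{u}) [IsAffine X] [IsIntegral X]
    (hic : ∀ [IsDomain Γ(X, ⊤)], IsIntegrallyClosed Γ(X, ⊤)) : Pi1.IsNormalScheme X := by
  intro x
  haveI : Nonempty (⊤ : X.Opens) := ⟨⟨x, trivial⟩⟩
  haveI : IsDomain Γ(X, ⊤) := inferInstance
  haveI : IsIntegrallyClosed Γ(X, ⊤) := hic
  letI := TopCat.Presheaf.algebra_section_stalk X.presheaf
    (⟨x, trivial⟩ : ↥(⊤ : X.Opens))
  haveI hloc : IsLocalization.AtPrime (X.presheaf.stalk x)
      ((isAffineOpen_top X).primeIdealOf ⟨x, trivial⟩).asIdeal :=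
    (isAffineOpen_top X).isLocalization_stalk ⟨x, trivial⟩
  have hle : ((isAffineOpen_top X).primeIdealOf ⟨x, trivial⟩).asIdeal.primeCompl ≤
      nonZeroDivisors Γ(X, ⊤) := by
    intro a ha
    rw [mem_nonZeroDivisors_iff_ne_zero]
    rintro rfl
    exact ha (Ideal.zero_mem _)
  exact ⟨IsLocalization.isDomain_of_le_nonZeroDivisors (X.presheaf.stalk x) hle,
    isIntegrallyClosed_of_isLocalization (S := X.presheaf.stalk x) _ hle⟩

theorem isNormalScheme_Spec (R : Type u) [CommRing R] [IsDomain R] [IsIntegrallyClosed R] :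
    Pi1.IsNormalScheme (Spec (CommRingCat.of R)) := by
  apply isNormalScheme_of_affine
  intro _
  exact IsIntegrallyClosed.of_equiv
    (Scheme.ΓSpecIso (CommRingCat.of R)).commRingCatIsoToRingEquiv.symm

/-! ### topology -/

theorem exists_closed_point_in_component {T : Type*} [TopologicalSpace T] [T0Space T]
    [NoetherianSpace T] [QuasiSober T] [JacobsonSpace T]
    (hno : ∀ t : T, ¬ IsOpen ({t} : Set T))
    (C : Set T) (hC : C ∈ irreducibleComponents T) :
    ∃ x ξ : T, x ∈ C ∧ IsGenericPoint ξ C ∧ IsClosed ({x} : Set T) ∧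
      (∀ C' ∈ irreducibleComponents T, C' ≠ C → x ∉ C') ∧ ξ ≠ x := by
  have hfin : (irreducibleComponents T).Finite :=
    TopologicalSpace.NoetherianSpace.finite_irreducibleComponents
  have hCirr : IsIrreducible C := hC.1
  have hCcl : IsClosed C := isClosed_of_mem_irreducibleComponents C hC
  obtain ⟨ξ, hξ⟩ := QuasiSober.sober hCirr hCcl
  obtain ⟨D, hD⟩ : ∃ D : Set T, D = ⋃ C' ∈ (irreducibleComponents T) \ {C}, C' := ⟨_, rfl⟩
  have hDcl : IsClosed D := by
    rw [hD]
    exact (hfin.subset Set.sdiff_subset).isClosed_biUnion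
      (fun C' hC' => isClosed_of_mem_irreducibleComponents C' hC'.1)
  have hcover : ∀ t : T, t ∈ C ∨ t ∈ D := by
    intro t
    by_cases ht : t ∈ C
    · exact Or.inl ht
    · right
      rw [hD]
      refine Set.mem_biUnion (x := irreducibleComponent t)
        ⟨irreducibleComponent_mem_irreducibleComponents t, ?_⟩ mem_irreducibleComponent
      intro h
      have h' : irreducibleComponent t = C := h
      exact ht (h' ▸ mem_irreducibleComponent)
  have hξD : ξ ∉ D := by
    intro h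
    rw [hD] at h
    simp only [Set.mem_iUnion] at h
    obtain ⟨C', ⟨hC'1, hC'2⟩, hξC'⟩ := h
    have hsub : C ⊆ C' := by
      rw [← hξ.def]
      exact (isClosed_of_mem_irreducibleComponents C' hC'1).closure_subset_iff.mpr
        (Set.singleton_subset_iff.mpr hξC')
    exact hC'2 (subset_antisymm (hC.2 hC'1.1 hsub) hsub)
  have hO : IsOpen Dᶜ := hDcl.isOpen_compl
  have hOC : Dᶜ ⊆ C := fun t ht => (hcover t).resolve_right ht
  obtain ⟨y, hyD, hyξ⟩ : ∃ y, y ∈ Dᶜ ∧ y ≠ ξ := by
    by_contra hcon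
    push Not at hcon
    apply hno ξ
    have h1 : ({ξ} : Set T) = Dᶜ := by
      ext t
      constructor
      · intro ht
        rw [Set.mem_singleton_iff] at ht
        rw [ht]
        exact hξD
      · intro ht
        exact hcon t ht
    rw [h1]
    exact hO
  have hξy : ξ ⤳ y := hξ.specializes (hOC hyD)
  have hξcl : ξ ∉ closure ({y} : Set T) := by
    intro h
    have h1 : y ⤳ ξ := specializes_iff_mem_closure.mpr h
    exact hyξ ((h1.antisymm hξy).eq)
  obtain ⟨x, ⟨hxD, hxy⟩, hxcl⟩ := nonempty_inter_closedPoints (X := T)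
    (Z := Dᶜ ∩ closure {y}) ⟨y, hyD, subset_closure rfl⟩
    (hO.isLocallyClosed.inter isClosed_closure.isLocallyClosed)
  refine ⟨x, ξ, hOC hxD, hξ, hxcl, ?_, ?_⟩
  · intro C' hC' hne hxC'
    apply hxD
    rw [hD]
    exact Set.mem_biUnion ⟨hC', hne⟩ hxC'
  · intro h
    rw [← h] at hxy
    exact hξcl hxy

/-! ### local algebra on schemes -/

theorem exists_mem_maximalIdeal_isUnit_stalkSpecializes {X : Scheme.{u}} {ξ x : X}
    (h : ξ ⤳ x) (hne : ξ ≠ x) :
    ∃ g : X.presheaf.stalk x, g ∈ IsLocalRing.maximalIdeal (X.presheaf.stalk x) ∧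
      IsUnit ((X.presheaf.stalkSpecializes h).hom g) := by
  have hnot : ¬ x ⤳ ξ := fun h' => hne ((h.antisymm h').eq)
  rw [specializes_iff_forall_open] at hnot
  push Not at hnot
  obtain ⟨s, hs, hξs, hxs⟩ := hnot
  obtain ⟨V, hV, hxV, -⟩ := exists_isAffineOpen_mem_and_subset (X := X) (x := x) (U := ⊤) trivial
  have hξV : ξ ∈ V := h.mem_open V.isOpen hxV
  obtain ⟨b, hb1, hb2⟩ := hV.exists_basicOpen_le (V := ⟨s, hs⟩) ⟨ξ, hξs⟩ hξV
  refine ⟨(X.presheaf.germ V x hxV).hom b, ?_, ?_⟩
  · rw [IsLocalRing.mem_maximalIdeal, mem_nonunits_iff]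
    intro hu
    have h1 : x ∈ X.basicOpen b := (Scheme.mem_basicOpen X b x hxV).mpr hu
    exact hxs (hb1 h1)
  · have e1 : (X.presheaf.stalkSpecializes h).hom ((X.presheaf.germ V x hxV).hom b) =
        (X.presheaf.germ V ξ hξV).hom b :=
      congrArg (fun φ : Γ(X, V) ⟶ X.presheaf.stalk ξ => φ.hom b)
        (X.presheaf.germ_stalkSpecializes hxV h)
    rw [e1]
    exact (Scheme.mem_basicOpen X b ξ hξV).mp hb2

theorem exists_fraction {X S : Scheme.{u}} [IsIntegral X] [IsAffine S] (f : X ⟶ S)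
    (hsurj : Function.Surjective (f.stalkMap (genericPoint X)).hom)
    (x : X) (g : X.presheaf.stalk x) (hg : g ≠ 0) :
    ∃ b c : Γ(S, ⊤), b ≠ 0 ∧
      g * (X.presheaf.germ ⊤ x trivial).hom (f.appTop.hom c) =
        (X.presheaf.germ ⊤ x trivial).hom (f.appTop.hom b) := by
  have hη : genericPoint X ⤳ x := (genericPoint_spec X).specializes (Set.mem_univ x)
  have hinj : Function.Injective (X.presheaf.stalkSpecializes hη).hom := fun a b hab =>
    IsFractionRing.injective (X.presheaf.stalk x) X.functionField hab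
  obtain ⟨z, hz⟩ := hsurj ((X.presheaf.stalkSpecializes hη).hom g)
  have hS : IsAffineOpen (⊤ : S.Opens) := isAffineOpen_top S
  letI := TopCat.Presheaf.algebra_section_stalk S.presheaf
    (⟨f (genericPoint X), trivial⟩ : ↥(⊤ : S.Opens))
  haveI : IsLocalization.AtPrime (S.presheaf.stalk (f (genericPoint X)))
      (hS.primeIdealOf ⟨f (genericPoint X), trivial⟩).asIdeal :=
    hS.isLocalization_stalk ⟨f (genericPoint X), trivial⟩
  obtain ⟨⟨b, c⟩, hbc⟩ := IsLocalization.surj
    (hS.primeIdealOf ⟨f (genericPoint X), trivial⟩).asIdeal.primeCompl z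
  have hu : IsUnit ((S.presheaf.germ ⊤ (f (genericPoint X)) trivial).hom c.1) :=
    IsLocalization.map_units (S.presheaf.stalk (f (genericPoint X))) c
  change z * (S.presheaf.germ ⊤ (f (genericPoint X)) trivial).hom c.1 =
    (S.presheaf.germ ⊤ (f (genericPoint X)) trivial).hom b at hbc
  have key : ∀ s : Γ(S, ⊤),
      (f.stalkMap (genericPoint X)).hom ((S.presheaf.germ ⊤ (f (genericPoint X)) trivial).hom s) =
      (X.presheaf.stalkSpecializes hη).hom
        ((X.presheaf.germ ⊤ x trivial).hom (f.appTop.hom s)) := by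
    intro s
    have e1 : (X.presheaf.stalkSpecializes hη).hom
        ((X.presheaf.germ ⊤ x trivial).hom (f.appTop.hom s)) =
        (X.presheaf.germ ⊤ (genericPoint X) trivial).hom (f.appTop.hom s) :=
      congrArg (fun φ : Γ(X, ⊤) ⟶ X.presheaf.stalk (genericPoint X) => φ.hom (f.appTop.hom s))
        (X.presheaf.germ_stalkSpecializes (U := ⊤) trivial hη)
    rw [e1]
    exact Scheme.Hom.germ_stalkMap_apply f ⊤ (genericPoint X) trivial s
  refine ⟨b, c.1, ?_, hinj ?_⟩
  · intro hb0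
    rw [hb0, map_zero] at hbc
    have hz0 : z = 0 := (hu.mul_left_eq_zero).mp hbc
    apply hg
    apply hinj
    rw [← hz, hz0, map_zero, map_zero]
  · rw [map_mul, ← key, ← key, ← hz, ← map_mul, hbc]

/-! ### no quasi-finite points on the closed fibre -/

theorem not_quasiFiniteAt_closedFibre {A : Type u} [CommRing A] [IsDomain A] [IsLocalRing A]
    [IsIntegrallyClosed A] {X : Scheme.{u}} (f : X ⟶ Spec (CommRingCat.of A)) [IsProper f]
    [IsIntegral X] (U : (Spec (CommRingCat.of A)).Opens)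
    (hU : (U : Set (Spec (CommRingCat.of A))).Nonempty) [IsIso (f ∣_ U)]
    (hf : ¬ IsIso f) (x : X) (hx : f x = IsLocalRing.closedPoint A) : ¬ f.QuasiFiniteAt x := by
  intro hq
  have hN := isNormalScheme_Spec A
  haveI : IsOpenImmersion (f.quasiFiniteLocus.ι ≫ f) :=
    isOpenImmersion_quasiFiniteLocus_of_birational f hN U hU
  have hxW : x ∈ f.quasiFiniteLocus := hq
  have hrange : (f.quasiFiniteLocus.ι ≫ f).opensRange = ⊤ := by
    rw [eq_top_iff]
    intro y _
    have hcl : IsLocalRing.closedPoint A ∈ (f.quasiFiniteLocus.ι ≫ f).opensRange :=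
      ⟨⟨x, hxW⟩, hx⟩
    exact (IsLocalRing.specializes_closedPoint (R := A) y).mem_open
      (f.quasiFiniteLocus.ι ≫ f).opensRange.isOpen hcl
  haveI : IsIso (f.quasiFiniteLocus.ι ≫ f) :=
    isIso_of_isOpenImmersion_of_opensRange_eq_top _ hrange
  haveI : IsProper f.quasiFiniteLocus.ι := IsProper.of_comp f.quasiFiniteLocus.ι f
  have hclosed : IsClosed (f.quasiFiniteLocus : Set X) := by
    have h1 := f.quasiFiniteLocus.ι.isClosedMap _ isClosed_univ
    rwa [Set.image_univ, Scheme.Opens.range_ι] at h1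
  have htop : (f.quasiFiniteLocus : Set X) = Set.univ :=
    IsClopen.eq_univ ⟨hclosed, f.quasiFiniteLocus.isOpen⟩ ⟨x, hxW⟩
  haveI : IsIso f.quasiFiniteLocus.ι :=
    isIso_of_isOpenImmersion_of_opensRange_eq_top _ (by
      rw [Scheme.Opens.opensRange_ι]
      exact TopologicalSpace.Opens.ext htop)
  exact hf (IsIso.of_isIso_comp_left f.quasiFiniteLocus.ι f)

/-! ### the main statement -/

/-- The ring map `A → Γ(X, O_X)` (definitionally `Coh.toGlobal f`). -/
noncomputable def tg {A : Type u} [CommRing A] {X : Scheme.{u}}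
    (f : X ⟶ Spec (CommRingCat.of A)) : A →+* Γ(X, ⊤) :=
  f.appTop.hom.comp (Scheme.ΓSpecIso (CommRingCat.of A)).inv.hom

theorem component_data (A : Type u) [CommRing A] [IsDomain A] [IsLocalRing A]
    [IsNoetherianRing A] [IsIntegrallyClosed A]
    (X : Scheme.{u}) (f : X ⟶ Spec (CommRingCat.of A)) [IsProper f] [IsIntegral X]
    (U : (Spec (CommRingCat.of A)).Opens) (hU : (U : Set (Spec (CommRingCat.of A))).Nonempty)
    [IsIso (f ∣_ U)] (hf : ¬ IsIso f)
    (C : Set ↥(f.base ⁻¹' {IsLocalRing.closedPoint A}))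
    (hC : C ∈ irreducibleComponents ↥(f.base ⁻¹' {IsLocalRing.closedPoint A})) :
    ∃ b : A, b ≠ 0 ∧ ∃ (x ξ : ↥(f.base ⁻¹' {IsLocalRing.closedPoint A}))
      (hξx : (ξ : X) ⤳ (x : X)),
        x ∈ C ∧ IsGenericPoint ξ C ∧ IsClosed ({(x : X)} : Set X) ∧
        (∀ C' ∈ irreducibleComponents ↥(f.base ⁻¹' {IsLocalRing.closedPoint A}),
          C' ≠ C → x ∉ C') ∧
        ∃ g q : X.presheaf.stalk (x : X),
          g ∈ IsLocalRing.maximalIdeal (X.presheaf.stalk (x : X)) ∧
          (X.presheaf.germ ⊤ (x : X) trivial).hom (tg f b) = g * q ∧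
          IsUnit ((X.presheaf.stalkSpecializes hξx).hom g) := by
  haveI : IsLocallyNoetherian X := LocallyOfFiniteType.isLocallyNoetherian f
  haveI : CompactSpace X := QuasiCompact.compactSpace_of_compactSpace f
  haveI : IsNoetherian X := {}
  have hFcl : IsClosed (f.base ⁻¹' {IsLocalRing.closedPoint A}) :=
    (IsLocalRing.isClosed_singleton_closedPoint A).preimage f.continuous
  haveI : QuasiSober ↥(f.base ⁻¹' {IsLocalRing.closedPoint A}) :=
    hFcl.isClosedEmbedding_subtypeVal.quasiSober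
  have hJ : ∀ s : ↥(Spec (CommRingCat.of A)), JacobsonSpace ↥(f.base ⁻¹' {s}) := fun s =>
    JacobsonSpace.of_isClosedEmbedding (f.fiberHomeo s).symm.isClosedEmbedding
  haveI : JacobsonSpace ↥(f.base ⁻¹' {IsLocalRing.closedPoint A}) :=
    hJ (IsLocalRing.closedPoint A)
  have hno : ∀ t : ↥(f.base ⁻¹' {IsLocalRing.closedPoint A}),
      ¬ IsOpen ({t} : Set ↥(f.base ⁻¹' {IsLocalRing.closedPoint A})) := fun t ht =>
    not_quasiFiniteAt_closedFibre f U hU hf t.1 t.2 (quasiFiniteAt_of_isOpen_singleton f _ t ht)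
  obtain ⟨x, ξ, hxC, hξ, hxcl, hxuniq, hne⟩ := exists_closed_point_in_component hno C hC
  have hξx : (ξ : X) ⤳ (x : X) := (hξ.specializes hxC).map continuous_subtype_val
  have hne' : (ξ : X) ≠ (x : X) := fun h => hne (Subtype.ext h)
  obtain ⟨g, hgm, hgu⟩ := exists_mem_maximalIdeal_isUnit_stalkSpecializes hξx hne'
  have hg0 : g ≠ 0 := by
    intro h0
    rw [h0, map_zero] at hgu
    exact not_isUnit_zero hgu
  haveI := isIso_stalkMap_of_isIso_restrict f U (genericPoint X)
    (by rw [map_genericPoint f U hU]; exact genericPoint_mem U hU)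
  obtain ⟨b', c', hb', hbc⟩ := exists_fraction f
    (ConcreteCategory.bijective_of_isIso (f.stalkMap (genericPoint X))).2 x.1 g hg0
  have hinv : ∀ s : Γ(Spec (CommRingCat.of A), ⊤),
      (Scheme.ΓSpecIso (CommRingCat.of A)).inv.hom
        ((Scheme.ΓSpecIso (CommRingCat.of A)).hom.hom s) = s := fun s =>
    congrArg (fun φ : Γ(Spec (CommRingCat.of A), ⊤) ⟶ Γ(Spec (CommRingCat.of A), ⊤) => φ.hom s)
      (Scheme.ΓSpecIso (CommRingCat.of A)).hom_inv_id
  refine ⟨(Scheme.ΓSpecIso (CommRingCat.of A)).hom.hom b', ?_, x, ξ, hξx, hxC, hξ, ?_, hxuniq,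
    g, (X.presheaf.germ ⊤ (x : X) trivial).hom (f.appTop.hom c'), hgm, ?_, hgu⟩
  · intro h0
    apply hb'
    rw [← hinv b', h0, map_zero]
  · have h1 := hFcl.isClosedEmbedding_subtypeVal.isClosedMap _ hxcl
    rwa [Set.image_singleton] at h1
  · show (X.presheaf.germ ⊤ (x : X) trivial).hom (f.appTop.hom
      ((Scheme.ΓSpecIso (CommRingCat.of A)).inv.hom
        ((Scheme.ΓSpecIso (CommRingCat.of A)).hom.hom b'))) = _
    rw [hinv b', hbc]

theorem main (A : Type u) [CommRing A] [IsDomain A] [IsLocalRing A] [IsNoetherianRing A]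
    [IsIntegrallyClosed A] (hdim : ringKrullDim A = 2)
    (X : Scheme.{u}) (f : X ⟶ Spec (CommRingCat.of A)) [IsProper f] [IsIntegral X]
    (hbir : ∃ U : (Spec (CommRingCat.of A)).Opens,
      (U : Set (Spec (CommRingCat.of A))).Nonempty ∧ IsIso (f ∣_ U)) (hf : ¬ IsIso f) :
    ∃ a : A, a ≠ 0 ∧ a ∈ IsLocalRing.maximalIdeal A ∧
      ∀ C ∈ irreducibleComponents ↥(f.base ⁻¹' {IsLocalRing.closedPoint A}),
        ∃ (x ξ : ↥(f.base ⁻¹' {IsLocalRing.closedPoint A})) (hξx : (ξ : X) ⤳ (x : X)),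
          x ∈ C ∧ IsGenericPoint ξ C ∧ IsClosed ({(x : X)} : Set X) ∧
          (∀ C' ∈ irreducibleComponents ↥(f.base ⁻¹' {IsLocalRing.closedPoint A}),
            C' ≠ C → x ∉ C') ∧
          ∃ g q : X.presheaf.stalk (x : X),
            g ∈ IsLocalRing.maximalIdeal (X.presheaf.stalk (x : X)) ∧
            (X.presheaf.germ ⊤ (x : X) trivial).hom (tg f a) = g * q ∧
            IsUnit ((X.presheaf.stalkSpecializes hξx).hom g) := by
  classical
  obtain ⟨U, hU, hiso⟩ := hbir
  haveI := hiso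
  have key := component_data A X f U hU hf
  choose! b hb0 hrest using key
  have hm : IsLocalRing.maximalIdeal A ≠ ⊥ := by
    intro h
    have hfld : IsField A := IsLocalRing.isField_iff_maximalIdeal_eq.mpr h
    have h0 := ringKrullDim_eq_zero_of_isField hfld
    rw [hdim] at h0
    have h2 : ((2 : ℕ∞) : WithBot ℕ∞) = ((0 : ℕ∞) : WithBot ℕ∞) := h0
    exact two_ne_zero (WithBot.coe_injective h2)
  obtain ⟨a₀, ha₀m, ha₀⟩ := Submodule.exists_mem_ne_zero_of_ne_bot hm
  haveI : IsLocallyNoetherian X := LocallyOfFiniteType.isLocallyNoetherian f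
  haveI : CompactSpace X := QuasiCompact.compactSpace_of_compactSpace f
  haveI : IsNoetherian X := {}
  have hfin : (irreducibleComponents ↥(f.base ⁻¹' {IsLocalRing.closedPoint A})).Finite :=
    TopologicalSpace.NoetherianSpace.finite_irreducibleComponents
  refine ⟨a₀ * ∏ C ∈ hfin.toFinset, b C,
    mul_ne_zero ha₀ (Finset.prod_ne_zero_iff.mpr fun C hC => hb0 C (hfin.mem_toFinset.mp hC)),
    Ideal.mul_mem_right _ _ ha₀m, ?_⟩
  intro C hC
  obtain ⟨x, ξ, hξx, h1, h2, h3, h4, g, q, hg, hq, hu⟩ := hrest C hC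
  refine ⟨x, ξ, hξx, h1, h2, h3, h4, g,
    q * (X.presheaf.germ ⊤ (x : X) trivial).hom
      (tg f (a₀ * ∏ C' ∈ hfin.toFinset.erase C, b C')), hg, ?_, hu⟩
  have hprod : a₀ * ∏ C' ∈ hfin.toFinset, b C' =
      b C * (a₀ * ∏ C' ∈ hfin.toFinset.erase C, b C') := by
    rw [← Finset.mul_prod_erase hfin.toFinset b (hfin.mem_toFinset.mpr hC)]
    ring
  rw [hprod, map_mul, map_mul, hq, mul_assoc]

end Groth.Agent.Lib.Helper6.FibreFactor
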