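import Mathlib
import Groth.Prelude.Def_Pi1
import Groth.Agent.Lib.Helper6.FibreFactor
import Groth.Agent.Lib.Helper6.DimOneTop
import Groth.Agent.Lib.Helper9.TopDim
import Groth.Agent.Lib.Helper3.QProj

/-!
# Fibres of a desingularization of a normal projective surface over non-regular points (helper6)
-/

set_option autoImplicit false
set_option linter.style.haveILetI false
universe u

open CategoryTheory CategoryTheory.Limits AlgebraicGeometry TopologicalSpace

namespace Groth.Agent.Lib.Helper6.MonoidalFibre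

open Groth.Agent.Lib.Helper6.BirZMT Groth.Agent.Lib.Helper6.FibreFactor

theorem isClosed_singleton_of_finite_closure {T : Type*} [TopologicalSpace T] [JacobsonSpace T]
    (x : T) (hfin : (closure ({x} : Set T)).Finite) : IsClosed ({x} : Set T) := by
  have h1 := JacobsonSpace.closure_inter_closedPoints_eq_closure (X := T)
    (S := closure {x}) isClosed_closure.isLocallyClosed
  have h2 : IsClosed (closure ({x} : Set T) ∩ closedPoints T) := by
    rw [← Set.biUnion_of_singleton (closure ({x} : Set T) ∩ closedPoints T)]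
    exact (hfin.subset Set.inter_subset_left).isClosed_biUnion
      (fun y hy => mem_closedPoints_iff.mp hy.2)
  rw [h2.closure_eq, closure_closure] at h1
  have h4 : x ∈ closure ({x} : Set T) ∩ closedPoints T := by
    rw [h1]; exact subset_closure rfl
  exact h4.2

theorem le_one_of_lt_two {a : WithBot ℕ∞} (h : a < 2) : a ≤ 1 := by
  induction a using WithBot.recBotCoe with
  | bot => exact bot_le
  | coe a =>
    have h0 : ((a : ℕ∞) : WithBot ℕ∞) < ((2 : ℕ∞) : WithBot ℕ∞) := h
    have h' : a < 2 := WithBot.coe_lt_coe.mp h0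
    have h1 : a ≤ 1 := by
      induction a using ENat.recTopCoe with
      | top => exact absurd h' (by simp)
      | coe n =>
        have h2 : n < 2 := by exact_mod_cast h'
        have h3 : n ≤ 1 := by omega
        exact_mod_cast h3
    show ((a : ℕ∞) : WithBot ℕ∞) ≤ ((1 : ℕ∞) : WithBot ℕ∞)
    exact WithBot.coe_le_coe.mpr h1

theorem main (k : Type u) [Field k] [IsAlgClosed k] (X : Scheme.{u})
    [X.Over (Spec (CommRingCat.of k))]
    [IsIntegral X] (hdim : topologicalKrullDim X = 2)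
    (hproj : ∃ (n : ℕ) (ι : X ⟶ CohB1.ProjSpace n k), IsClosedImmersion ι ∧
      ι ≫ CohB1.ProjSpace.toSpec n k = (X ↘ (Spec (CommRingCat.of k))))
    (hnorm : Pi1.IsNormalScheme X) (U : X.Opens) (hU : ((U : Set X)ᶜ).Finite)
    (Y : Scheme.{u}) (φ : Y ⟶ X) [IsIntegral Y] (hdimY : topologicalKrullDim Y = 2)
    (hregY : ∀ y : Y, IsRegularLocalRing (Y.presheaf.stalk y))
    (hprojY : ∃ (n : ℕ) (ι : Y ⟶ CohB1.ProjSpace n k), IsClosedImmersion ι ∧
      ι ≫ CohB1.ProjSpace.toSpec n k = φ ≫ (X ↘ (Spec (CommRingCat.of k))))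
    (hisoY : IsIso (φ ∣_ U))
    (x : X) (hx : ¬ IsRegularLocalRing (X.presheaf.stalk x)) :
    (φ.base ⁻¹' ({x} : Set X)).Nonempty ∧
      ∀ Z ∈ irreducibleComponents ↥(φ.base ⁻¹' ({x} : Set X)), topologicalKrullDim ↥Z = 1 := by
  classical
  obtain ⟨n, ι, hι, hι2⟩ := hproj
  obtain ⟨m, ιY, hιY, hιY2⟩ := hprojY
  haveI := hι
  haveI := hιY
  haveI := hisoY
  haveI : IsProper (X ↘ Spec (CommRingCat.of k)) := by rw [← hι2]; infer_instance
  haveI : IsProper (φ ≫ (X ↘ Spec (CommRingCat.of k))) := by rw [← hιY2]; infer_instance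
  haveI : IsProper φ := IsProper.of_comp φ (X ↘ Spec (CommRingCat.of k))
  haveI : IsLocallyNoetherian Y :=
    LocallyOfFiniteType.isLocallyNoetherian (φ ≫ (X ↘ Spec (CommRingCat.of k)))
  haveI : CompactSpace Y :=
    QuasiCompact.compactSpace_of_compactSpace (φ ≫ (X ↘ Spec (CommRingCat.of k)))
  haveI : IsNoetherian Y := {}
  haveI : JacobsonSpace X := LocallyOfFiniteType.jacobsonSpace (X ↘ Spec (CommRingCat.of k))
  have hreg : ∀ y : Y, IsIso (φ.stalkMap y) → IsRegularLocalRing (X.presheaf.stalk (φ y)) := by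
    intro y hy
    haveI := hregY y
    exact IsRegularLocalRing.of_ringEquiv
      (asIso (φ.stalkMap y)).commRingCatIsoToRingEquiv.symm
  have hUpre : ∀ u ∈ U, ∃ y : Y, φ y = u ∧ φ y ∈ U := by
    intro u hu
    obtain ⟨y', hy'⟩ := (φ ∣_ U).surjective ⟨u, hu⟩
    have h1 : φ y'.1 = u :=
      (morphismRestrict_base_coe φ U y').symm.trans (congrArg Subtype.val hy')
    exact ⟨y'.1, h1, h1 ▸ hu⟩
  have hxU : x ∉ U := by
    intro hxU
    obtain ⟨y, hy, hyU⟩ := hUpre x hxU
    haveI := isIso_stalkMap_of_isIso_restrict φ U y hyU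
    have h1 := hreg y inferInstance
    rw [hy] at h1
    exact hx h1
  have hclosedpt : ∀ z : X, z ∉ U → IsClosed ({z} : Set X) := by
    intro z hz
    apply isClosed_singleton_of_finite_closure
    exact hU.subset (closure_minimal (Set.singleton_subset_iff.mpr hz) U.isOpen.isClosed_compl)
  have hηU : genericPoint X ∈ U := by
    by_contra hη
    have hcl := hclosedpt _ hη
    have h1 : closure ({genericPoint X} : Set X) = Set.univ := (genericPoint_spec X).def
    rw [hcl.closure_eq] at h1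
    haveI : Subsingleton X := ⟨fun a b => by
      have ha : a ∈ ({genericPoint X} : Set X) := h1 ▸ Set.mem_univ a
      have hb : b ∈ ({genericPoint X} : Set X) := h1 ▸ Set.mem_univ b
      rw [Set.mem_singleton_iff] at ha hb
      rw [ha, hb]⟩
    have h0 := topologicalKrullDim_zero_of_discreteTopology X
    rw [hdim] at h0
    have h2 : ((2 : ℕ∞) : WithBot ℕ∞) ≤ ((0 : ℕ∞) : WithBot ℕ∞) := h0
    have h3 : (2 : ℕ∞) ≤ 0 := WithBot.coe_le_coe.mp h2
    simp at h3
  have hUne : (U : Set X).Nonempty := ⟨_, hηU⟩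
  have hxcl : IsClosed ({x} : Set X) := hclosedpt x hxU
  have hFcl : IsClosed (φ.base ⁻¹' ({x} : Set X)) := hxcl.preimage φ.continuous
  have hne : (φ.base ⁻¹' ({x} : Set X)).Nonempty := by
    have hrange : IsClosed (Set.range φ) := φ.isClosedMap.isClosed_range
    have hsub : (U : Set X) ⊆ Set.range φ := by
      intro u hu
      obtain ⟨y, hy, -⟩ := hUpre u hu
      exact ⟨y, hy⟩
    have hdense : closure (U : Set X) = Set.univ := (U.isOpen.dense hUne).closure_eq
    have hxr : x ∈ Set.range φ := closure_minimal hsub hrange (hdense ▸ Set.mem_univ x)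
    obtain ⟨y, hy⟩ := hxr
    exact ⟨y, hy⟩
  refine ⟨hne, ?_⟩
  have hFne : φ.base ⁻¹' ({x} : Set X) ≠ Set.univ := by
    intro h
    obtain ⟨y, hy, hyU⟩ := hUpre _ hηU
    have hyF : y ∈ φ.base ⁻¹' ({x} : Set X) := h ▸ Set.mem_univ y
    have h1 : φ y = x := hyF
    exact hxU (h1 ▸ hyU)
  have hdimF : topologicalKrullDim ↥(φ.base ⁻¹' ({x} : Set X)) ≤ 1 := by
    have hfin : topologicalKrullDim Y ≠ ⊤ := by
      rw [hdimY]
      intro h
      have h2 : ((2 : ℕ∞) : WithBot ℕ∞) = ((⊤ : ℕ∞) : WithBot ℕ∞) := h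
      exact absurd (WithBot.coe_injective h2) (by simp)
    have h1 := Groth.Agent.Lib.Helper9.topologicalKrullDim_lt_of_isClosed_of_ne_univ
      (X := Y) hfin _ hFcl hFne
    rw [hdimY] at h1
    exact le_one_of_lt_two h1
  haveI : QuasiSober ↥(φ.base ⁻¹' ({x} : Set X)) :=
    hFcl.isClosedEmbedding_subtypeVal.quasiSober
  have hJ : ∀ s : X, JacobsonSpace ↥(φ.base ⁻¹' {s}) := fun s =>
    JacobsonSpace.of_isClosedEmbedding (φ.fiberHomeo s).symm.isClosedEmbedding
  haveI := hJ x
  have hno : ∀ t : ↥(φ.base ⁻¹' ({x} : Set X)),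
      ¬ IsOpen ({t} : Set ↥(φ.base ⁻¹' ({x} : Set X))) := by
    intro t ht
    have hq := quasiFiniteAt_of_isOpen_singleton φ x t ht
    haveI := isIso_stalkMap_of_quasiFiniteAt φ hnorm U hUne t.1 hq
    have h1 := hreg t.1 inferInstance
    have h2 : φ t.1 = x := t.2
    rw [h2] at h1
    exact hx h1
  intro Z hZ
  obtain ⟨x', ξ, hx'Z, hξ, hx'cl, -, hneq⟩ := exists_closed_point_in_component hno Z hZ
  refine DimOneTop.topologicalKrullDim_eq_one_of_mem hdimF hZ.1 hx'Z hξ.mem ?_
  rw [hx'cl.closure_eq]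
  exact hneq

end Groth.Agent.Lib.Helper6.MonoidalFibre
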