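import Mathlib
import Groth.Prelude.Def_Pi1
import Groth.Prelude.Def_ResDeg
import Groth.Agent.Lib.Helper6.BirZMT
import Groth.Agent.Lib.Helper6.MonoidalFibre
import Groth.Agent.Lib.Helper8.EtLocPI
import Groth.Agent.S2771
import Groth.Agent.S2415

/-!
# A dominant morphism to a normal variety which is injective on rational points is an open
immersion (characteristic zero, algebraically closed base field) (helper6)
-/

set_option autoImplicit false
set_option linter.style.haveILetI false
universe u

open CategoryTheory CategoryTheory.Limits AlgebraicGeometry TopologicalSpace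

namespace Groth.Agent.Lib.Helper6.InjOpenImm

open Groth.Agent.Lib.Helper6.BirZMT

section pts

variable {k : Type u} [Field k] [IsAlgClosed k] {X Y : Scheme.{u}}
  (sX : X ⟶ Spec (CommRingCat.of k)) (sY : Y ⟶ Spec (CommRingCat.of k))
  [LocallyOfFiniteType sX] [LocallyOfFiniteType sY] (f : X ⟶ Y) (hf : f ≫ sY = sX)

set_option backward.isDefEq.respectTransparency.types false in
include hf in
theorem isClosed_map_of_isClosed (x : X) (hx : IsClosed ({x} : Set X)) :
    IsClosed ({f x} : Set Y) := by
  have h1 : (pointOfClosedPoint sX x hx ≫ f) ≫ sY = 𝟙 _ := by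
    rw [Category.assoc, hf, pointOfClosedPoint_comp]
  have h2 := ((pointEquivClosedPoint sY) ⟨pointOfClosedPoint sX x hx ≫ f, h1⟩).2
  have h3 : (pointOfClosedPoint sX x hx ≫ f) (IsLocalRing.closedPoint k) = f x := by
    rw [Scheme.Hom.comp_apply, pointOfClosedPoint_apply]
  rw [← h3]
  exact h2

variable (hinj : ∀ a b : Spec (CommRingCat.of k) ⟶ X, a ≫ sX = 𝟙 _ → b ≫ sX = 𝟙 _ →
  a ≫ f = b ≫ f → a = b)

set_option backward.isDefEq.respectTransparency.types false in
include hf hinj in
theorem eq_of_isClosed_of_map_eq (x₁ x₂ : X) (h₁ : IsClosed ({x₁} : Set X))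
    (h₂ : IsClosed ({x₂} : Set X)) (h : f x₁ = f x₂) : x₁ = x₂ := by
  have e1 : (pointOfClosedPoint sX x₁ h₁ ≫ f) ≫ sY = 𝟙 _ := by
    rw [Category.assoc, hf, pointOfClosedPoint_comp]
  have e2 : (pointOfClosedPoint sX x₂ h₂ ≫ f) ≫ sY = 𝟙 _ := by
    rw [Category.assoc, hf, pointOfClosedPoint_comp]
  have e3 : pointOfClosedPoint sX x₁ h₁ ≫ f = pointOfClosedPoint sX x₂ h₂ ≫ f := by
    apply ext_of_apply_closedPoint_eq sY e1 e2
    rw [Scheme.Hom.comp_apply, Scheme.Hom.comp_apply, pointOfClosedPoint_apply,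
      pointOfClosedPoint_apply]
    exact h
  have e4 := hinj _ _ (pointOfClosedPoint_comp sX x₁ h₁) (pointOfClosedPoint_comp sX x₂ h₂) e3
  have e5 : pointOfClosedPoint sX x₁ h₁ (IsLocalRing.closedPoint k) =
      pointOfClosedPoint sX x₂ h₂ (IsLocalRing.closedPoint k) := by rw [e4]
  rwa [pointOfClosedPoint_apply, pointOfClosedPoint_apply] at e5

include hf hinj in
theorem quasiFiniteAt_of_isClosed [LocallyOfFiniteType f] (x : X)
    (hx : IsClosed ({x} : Set X)) : f.QuasiFiniteAt x := by
  have hy : IsClosed ({f x} : Set Y) := isClosed_map_of_isClosed sX sY f hf x hx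
  have hFcl : IsClosed (f.base ⁻¹' {f x}) := hy.preimage f.continuous
  have hJ : ∀ s : Y, JacobsonSpace ↥(f.base ⁻¹' {s}) := fun s =>
    JacobsonSpace.of_isClosedEmbedding (f.fiberHomeo s).symm.isClosedEmbedding
  haveI := hJ (f x)
  have hxF : x ∈ f.base ⁻¹' {f x} := rfl
  have hx' : IsClosed ({⟨x, hxF⟩} : Set ↥(f.base ⁻¹' {f x})) := by
    have h1 := hx.preimage (continuous_subtype_val (p := fun t => t ∈ f.base ⁻¹' {f x}))
    have h2 : (Subtype.val ⁻¹' ({x} : Set X) : Set ↥(f.base ⁻¹' {f x})) = {⟨x, hxF⟩} := by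
      ext t
      constructor
      · intro ht
        exact Subtype.ext ht
      · intro ht
        rw [Set.mem_singleton_iff] at ht
        rw [ht]
        rfl
    rwa [h2] at h1
  have hcp : ∀ t : ↥(f.base ⁻¹' {f x}), IsClosed ({t} : Set ↥(f.base ⁻¹' {f x})) →
      t = ⟨x, hxF⟩ := by
    intro t ht
    have ht' : IsClosed ({t.1} : Set X) := by
      have h1 := hFcl.isClosedEmbedding_subtypeVal.isClosedMap _ ht
      rwa [Set.image_singleton] at h1
    exact Subtype.ext (eq_of_isClosed_of_map_eq sX sY f hf hinj t.1 x ht' hx t.2)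
  have hall : ∀ t : ↥(f.base ⁻¹' {f x}), t = ⟨x, hxF⟩ := by
    intro t
    by_contra hne
    obtain ⟨c, hcZ, hcc⟩ := nonempty_inter_closedPoints (X := ↥(f.base ⁻¹' {f x}))
      (Z := ({⟨x, hxF⟩} : Set ↥(f.base ⁻¹' {f x}))ᶜ) ⟨t, hne⟩ hx'.isOpen_compl.isLocallyClosed
    exact hcZ (hcp c hcc)
  have hopen : IsOpen ({⟨x, hxF⟩} : Set ↥(f.base ⁻¹' {f x})) := by
    have h1 : ({⟨x, hxF⟩} : Set ↥(f.base ⁻¹' {f x})) = Set.univ :=
      Set.eq_univ_of_forall (fun t => hall t)
    rw [h1]
    exact isOpen_univ
  exact quasiFiniteAt_of_isOpen_singleton f (f x) ⟨x, hxF⟩ hopen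

include hf hinj in
theorem locallyQuasiFinite [LocallyOfFiniteType f] : LocallyQuasiFinite f := by
  haveI : JacobsonSpace X := LocallyOfFiniteType.jacobsonSpace sX
  rw [← Scheme.Hom.quasiFiniteLocus_eq_top_iff f, eq_top_iff]
  intro x _
  by_contra hx
  obtain ⟨c, hcZ, hcc⟩ := nonempty_inter_closedPoints (X := X)
    (Z := (f.quasiFiniteLocus : Set X)ᶜ) ⟨x, hx⟩
    f.quasiFiniteLocus.isOpen.isClosed_compl.isLocallyClosed
  exact hcZ (quasiFiniteAt_of_isClosed sX sY f hf hinj c hcc)

end pts

section deg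

theorem charZero_residueField {k : Type u} [Field k] [CharZero k] {Y : Scheme.{u}}
    (sY : Y ⟶ Spec (CommRingCat.of k)) (y : Y) : CharZero (Y.residueField y) := by
  let φ : k →+* Y.residueField y := (Spec.preimage (Y.fromSpecResidueField y ≫ sY)).hom
  exact charZero_of_injective_ringHom (f := φ) φ.injective

theorem sepDeg_eq_deg {k : Type u} [Field k] [CharZero k] {X Y : Scheme.{u}}
    (sY : Y ⟶ Spec (CommRingCat.of k)) (f : X ⟶ Y) (x : X) (hq : f.QuasiFiniteAt x) :
    EGA4loc.residueSepDegree f x = EGA4loc.residueDegree f x := by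
  have hfin := Groth.Agent.Lib.Helper8.EtLocPI.finite_residueFieldMap_of_quasiFiniteAt f x hq
  unfold EGA4loc.residueSepDegree EGA4loc.residueDegree
  letI := (f.residueFieldMap x).hom.toAlgebra
  haveI : Module.Finite (Y.residueField (f.base x)) (X.residueField x) := hfin
  haveI : CharZero (Y.residueField (f.base x)) := charZero_residueField sY (f.base x)
  haveI : Algebra.IsSeparable (Y.residueField (f.base x)) (X.residueField x) :=
    Algebra.IsAlgebraic.isSeparable_of_perfectField
  exact Field.finSepDegree_eq_finrank_of_isSeparable _ _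

theorem residueDegree_pos {X Y : Scheme.{u}} (f : X ⟶ Y) (x : X) (hq : f.QuasiFiniteAt x) :
    0 < EGA4loc.residueDegree f x := by
  have hfin := Groth.Agent.Lib.Helper8.EtLocPI.finite_residueFieldMap_of_quasiFiniteAt f x hq
  unfold EGA4loc.residueDegree
  letI := (f.residueFieldMap x).hom.toAlgebra
  haveI : Module.Finite (Y.residueField (f.base x)) (X.residueField x) := hfin
  exact Module.finrank_pos

theorem residueDegree_eq_one_of_isClosed {k : Type u} [Field k] [IsAlgClosed k]
    {X Y : Scheme.{u}} (sY : Y ⟶ Spec (CommRingCat.of k)) [LocallyOfFiniteType sY]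
    (f : X ⟶ Y) (x : X) (hq : f.QuasiFiniteAt x) (hy : IsClosed ({f.base x} : Set Y)) :
    EGA4loc.residueDegree f x = 1 := by
  have hfin := Groth.Agent.Lib.Helper8.EtLocPI.finite_residueFieldMap_of_quasiFiniteAt f x hq
  unfold EGA4loc.residueDegree
  letI := (f.residueFieldMap x).hom.toAlgebra
  haveI : Module.Finite (Y.residueField (f.base x)) (X.residueField x) := hfin
  haveI : IsAlgClosed (Y.residueField (f.base x)) :=
    IsAlgClosed.of_ringEquiv k _
      (residueFieldIsoBase sY (f.base x) hy).commRingCatIsoToRingEquiv.symm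
  have hbij := IsAlgClosed.algebraMap_bijective_of_isIntegral
    (k := Y.residueField (f.base x)) (K := X.residueField x)
  rw [finrank_eq_one_iff_of_nonzero' (1 : X.residueField x) one_ne_zero]
  intro w
  obtain ⟨c, hc⟩ := hbij.2 w
  exact ⟨c, by rw [Algebra.smul_def, mul_one, hc]⟩

theorem isIso_stalkMap_of_residueDegree_eq_one {X Y : Scheme.{u}} [IsIntegral X] [IsIntegral Y]
    (f : X ⟶ Y) (hgen : f.base (genericPoint X) = genericPoint Y)
    (hdeg : EGA4loc.residueDegree f (genericPoint X) = 1) :
    IsIso (f.stalkMap (genericPoint X)) := by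
  have hFX : IsField (X.presheaf.stalk (genericPoint X)) := Field.toIsField X.functionField
  have hFY : IsField (Y.presheaf.stalk (f.base (genericPoint X))) := by
    rw [hgen]
    exact Field.toIsField Y.functionField
  have hsq := Scheme.residue_residueFieldMap f (genericPoint X)
  have hresX : Function.Injective (X.residue (genericPoint X)).hom :=
    injective_of_isField hFX _
  have hsurjY : Function.Surjective (Y.residue (f.base (genericPoint X))).hom :=
    Y.residue_surjective _
  have hrf : Function.Surjective (f.residueFieldMap (genericPoint X)).hom := by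
    unfold EGA4loc.residueDegree at hdeg
    letI := (f.residueFieldMap (genericPoint X)).hom.toAlgebra
    intro w
    obtain ⟨c, hc⟩ := (finrank_eq_one_iff_of_nonzero'
      (1 : X.residueField (genericPoint X)) one_ne_zero).mp hdeg w
    refine ⟨c, ?_⟩
    rw [← hc, Algebra.smul_def, mul_one]
    rfl
  rw [ConcreteCategory.isIso_iff_bijective]
  constructor
  · exact injective_of_isField hFY (f.stalkMap (genericPoint X)).hom
  · intro b
    obtain ⟨c, hc⟩ := hrf ((X.residue (genericPoint X)).hom b)
    obtain ⟨a, ha⟩ := hsurjY c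
    refine ⟨a, hresX ?_⟩
    have h1 := congrArg (fun φ : Y.presheaf.stalk (f.base (genericPoint X)) ⟶
      X.residueField (genericPoint X) => φ.hom a) hsq
    rw [← hc, ← ha]
    exact h1.symm

end deg

theorem map_genericPoint_of_isDominant {X Y : Scheme.{u}} [IsIntegral X] [IsIntegral Y]
    (f : X ⟶ Y) [IsDominant f] : f (genericPoint X) = genericPoint Y := by
  have h1 : IsGenericPoint (f (genericPoint X)) (closure (f '' (⊤ : Set X))) :=
    (genericPoint_spec X).image f.continuous
  have h2 : closure (f '' (⊤ : Set X)) = ⊤ := by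
    rw [Set.top_eq_univ, Set.image_univ]
    exact f.denseRange.closure_range
  rw [h2] at h1
  exact h1.eq (genericPoint_spec _)

theorem main {k : Type u} [Field k] [IsAlgClosed k] [CharZero k]
    {X Y : Scheme.{u}} (sX : X ⟶ Spec (CommRingCat.of k)) (sY : Y ⟶ Spec (CommRingCat.of k))
    [IsIntegral X] [IsIntegral Y] [IsSeparated sX] [IsSeparated sY]
    [LocallyOfFiniteType sX] [QuasiCompact sX] [LocallyOfFiniteType sY] [QuasiCompact sY]
    (hY : Pi1.IsNormalScheme Y)
    (f : X ⟶ Y) (hf : f ≫ sY = sX) [IsDominant f]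
    (hinj : ∀ a b : Spec (CommRingCat.of k) ⟶ X, a ≫ sX = 𝟙 _ → b ≫ sX = 𝟙 _ →
      a ≫ f = b ≫ f → a = b) :
    IsOpenImmersion f := by
  classical
  haveI : LocallyOfFiniteType (f ≫ sY) := by rw [hf]; infer_instance
  haveI : LocallyOfFiniteType f := locallyOfFiniteType_of_comp f sY
  haveI : IsSeparated (f ≫ sY) := by rw [hf]; infer_instance
  haveI : IsSeparated f := IsSeparated.of_comp f sY
  haveI : QuasiCompact (f ≫ sY) := by rw [hf]; infer_instance
  haveI : QuasiCompact f := QuasiCompact.of_comp f sY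
  haveI : LocallyQuasiFinite f := locallyQuasiFinite sX sY f hf hinj
  haveI : JacobsonSpace Y := LocallyOfFiniteType.jacobsonSpace sY
  haveI : JacobsonSpace X := LocallyOfFiniteType.jacobsonSpace sX
  haveI : IsLocallyNoetherian Y := LocallyOfFiniteType.isLocallyNoetherian sY
  have hfin : ∀ y : Y, (f.base ⁻¹' {y}).Finite := fun y => f.finite_preimage_singleton y
  have hqf : ∀ x : X, f.QuasiFiniteAt x := fun x => f.quasiFiniteAt x
  have hgen : f.base (genericPoint X) = genericPoint Y := map_genericPoint_of_isDominant f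
  have hdom : ∀ Z ∈ irreducibleComponents ↥X, genericPoint Y ∈ f.base '' Z := by
    intro Z hZ
    rw [irreducibleComponents_eq_singleton] at hZ
    have hZu : Z = Set.univ := hZ
    exact ⟨genericPoint X, by rw [hZu]; trivial, hgen⟩
  have hfinη := hfin (genericPoint Y)
  -- finite étale over a neighbourhood of the generic point
  have hL : {x : X | f.base x = genericPoint Y ∧ f.QuasiFiniteAt x}.Finite ∧
      (∑ᶠ x ∈ {x : X | f.base x = genericPoint Y ∧ f.QuasiFiniteAt x},
        EGA4loc.residueSepDegree f x) = ∑ x ∈ hfinη.toFinset, EGA4loc.residueDegree f x := by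
    have hset : {x : X | f.base x = genericPoint Y ∧ f.QuasiFiniteAt x} =
        f.base ⁻¹' {genericPoint Y} := by
      ext x
      constructor
      · exact fun h => h.1
      · exact fun h => ⟨h, hqf x⟩
    rw [hset]
    refine ⟨hfinη, ?_⟩
    rw [finsum_mem_eq_finite_toFinset_sum _ hfinη]
    exact Finset.sum_congr rfl (fun x _ => sepDeg_eq_deg sY f x (hqf x))
  obtain ⟨U, hηU, hUfin, hUet⟩ :=
    (Groth.Agent.S2771.result f hdom hfinη (genericPoint Y) (hY _).2).mp hL
  -- a closed point of `U`
  obtain ⟨y, hyU, hyc⟩ := nonempty_inter_closedPoints (X := Y) (Z := (U : Set Y))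
    ⟨_, hηU⟩ U.isOpen.isLocallyClosed
  have hyc' : IsClosed ({y} : Set Y) := hyc
  obtain ⟨-, hsum⟩ :=
    (Groth.Agent.S2771.result f hdom hfinη y (hY y).2).mpr ⟨U, hyU, hUfin, hUet⟩
  have hFcl : IsClosed (f.base ⁻¹' {y}) := hyc'.preimage f.continuous
  have hclosed_of : ∀ x : X, f.base x = y → IsClosed ({x} : Set X) := by
    intro x hx
    apply MonoidalFibre.isClosed_singleton_of_finite_closure
    exact (hfin y).subset (closure_minimal (Set.singleton_subset_iff.mpr hx) hFcl)
  have hdeg_closed : ∀ x : X, f.base x = y → EGA4loc.residueSepDegree f x = 1 := by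
    intro x hx
    rw [sepDeg_eq_deg sY f x (hqf x)]
    exact residueDegree_eq_one_of_isClosed sY f x (hqf x) (by rw [hx]; exact hyc')
  have hle : (∑ᶠ x ∈ {x : X | f.base x = y ∧ f.QuasiFiniteAt x},
      EGA4loc.residueSepDegree f x) ≤ 1 := by
    by_cases hne : {x : X | f.base x = y ∧ f.QuasiFiniteAt x}.Nonempty
    · obtain ⟨x₀, hx₀⟩ := hne
      have hS1 : {x : X | f.base x = y ∧ f.QuasiFiniteAt x} = {x₀} := by
        ext x
        constructor
        · intro hx
          exact eq_of_isClosed_of_map_eq sX sY f hf hinj x x₀ (hclosed_of x hx.1)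
            (hclosed_of x₀ hx₀.1) (hx.1.trans hx₀.1.symm)
        · intro hx
          rw [Set.mem_singleton_iff] at hx
          rw [hx]
          exact hx₀
      rw [hS1, finsum_mem_singleton]
      exact (hdeg_closed x₀ hx₀.1).le
    · rw [Set.not_nonempty_iff_eq_empty.mp hne, finsum_mem_empty]
      exact Nat.zero_le 1
  have hmem : genericPoint X ∈ hfinη.toFinset := hfinη.mem_toFinset.mpr hgen
  have hle2 : EGA4loc.residueDegree f (genericPoint X) ≤
      ∑ x ∈ hfinη.toFinset, EGA4loc.residueDegree f x :=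
    Finset.single_le_sum (f := fun x => EGA4loc.residueDegree f x)
      (fun _ _ => Nat.zero_le _) hmem
  have hpos := residueDegree_pos f (genericPoint X) (hqf _)
  have hdeg1 : EGA4loc.residueDegree f (genericPoint X) = 1 := by
    rw [hsum] at hle
    omega
  have hbir := isIso_stalkMap_of_residueDegree_eq_one f hgen hdeg1
  exact (Groth.Agent.S2415.result hY f hgen hbir hfin).1

end Groth.Agent.Lib.Helper6.InjOpenImm
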