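import Mathlib
import Groth.Prelude
import Groth.Agent.Lib.Helper11.MacLane
import Groth.Agent.Lib.Helper13.ZariskiNormal
import Groth.Agent.Lib.Helper5.HartogsDepth
import Groth.Agent.Lib.Helper22.NormalSections
import Groth.Agent.Lib.Helper14.ComplNormalSub
import Groth.Agent.Lib.Helper6.InjOpenImm

/-!
# Functions constant on the fibres of a surjection onto a normal variety descend (char. 0)
-/

set_option autoImplicit false
set_option linter.style.haveILetI false
universe u
open CategoryTheory CategoryTheory.Limits AlgebraicGeometry IsLocalRing TensorProduct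

namespace Groth.Agent.Lib.Helper6.FibreConstDescent

theorem mem_range_of_tmul_eq {K L : Type*} [Field K] [Field L] [Algebra K L] (a : L)
    (h : a ⊗ₜ[K] (1 : L) = (1 : L) ⊗ₜ[K] a) : a ∈ Set.range (algebraMap K L) := by
  obtain ⟨g, hg⟩ := LinearMap.exists_leftInverse_of_injective (Algebra.linearMap K L)
    (LinearMap.ker_eq_bot.mpr (algebraMap K L).injective)
  have hg1 : g 1 = 1 := by
    have := LinearMap.congr_fun hg 1
    simpa using this
  have h1 := congrArg (fun t => TensorProduct.lid K L (g.rTensor L t)) h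
  simp only [LinearMap.rTensor_tmul, TensorProduct.lid_tmul, hg1, one_smul] at h1
  exact ⟨g a, by rw [Algebra.algebraMap_eq_smul_one]; exact h1⟩

theorem isReduced_tensor_self (K L : Type u) [Field K] [Field L] [Algebra K L] [CharZero K] :
    IsReduced (L ⊗[K] L) := by
  obtain ⟨s, hs⟩ := exists_isTranscendenceBasis K L
  haveI : Algebra.IsAlgebraic (IntermediateField.adjoin K (Set.range ((↑) : s → L))) L :=
    hs.isAlgebraic_field
  haveI : CharZero (IntermediateField.adjoin K (Set.range ((↑) : s → L))) :=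
    charZero_of_injective_algebraMap (algebraMap K _).injective
  haveI : Algebra.IsSeparable (IntermediateField.adjoin K (Set.range ((↑) : s → L))) L :=
    Algebra.IsAlgebraic.isSeparable_of_perfectField
  exact Groth.Agent.Lib.Helper11.MacLane.isReduced_tensor_of_sepGen L ((↑) : s → L) hs.1

theorem fromSpecStalk_appTop_hom {X : Scheme.{u}} (x : X) :
    (X.fromSpecStalk x).appTop ≫ (Scheme.ΓSpecIso (X.presheaf.stalk x)).hom =
      X.presheaf.germ ⊤ x trivial := by
  rw [Scheme.fromSpecStalk_appTop]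
  simp only [Category.assoc]
  have h3 : ∀ (h : (⊤ : (Spec (X.presheaf.stalk x)).Opens) ≤ ⊤),
      (Spec (X.presheaf.stalk x)).presheaf.map (homOfLE h).op = 𝟙 _ :=
    fun h => (Spec (X.presheaf.stalk x)).presheaf.map_id _
  erw [h3]
  simp

section geom

variable {k : Type u} [Field k] [IsAlgClosed k] {X Y : Scheme.{u}}
  (sX : X ⟶ Spec (CommRingCat.of k)) (sY : Y ⟶ Spec (CommRingCat.of k))
  [LocallyOfFiniteType sX] (φ : X ⟶ Y) (hφ : φ ≫ sY = sX) (s : Γ(X, ⊤))
  (hs : ∀ x₁ x₂ : Spec (CommRingCat.of k) ⟶ X, x₁ ≫ sX = 𝟙 _ → x₂ ≫ sX = 𝟙 _ →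
    x₁ ≫ φ = x₂ ≫ φ → x₁.appTop.hom s = x₂.appTop.hom s)

include hφ hs in
theorem basicOpen_diff_eq_bot [LocallyOfFiniteType φ] :
    (pullback φ φ).basicOpen
      ((pullback.fst φ φ).appTop.hom s - (pullback.snd φ φ).appTop.hom s) = ⊥ := by
  obtain ⟨d, hd⟩ : ∃ d, d = (pullback.fst φ φ).appTop.hom s - (pullback.snd φ φ).appTop.hom s :=
    ⟨_, rfl⟩
  rw [← hd]
  haveI : LocallyOfFiniteType (pullback.fst φ φ ≫ sX) := inferInstance
  haveI : JacobsonSpace ↥(pullback φ φ) :=
    LocallyOfFiniteType.jacobsonSpace (pullback.fst φ φ ≫ sX)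
  by_contra hne
  have hne' := (TopologicalSpace.Opens.ne_bot_iff_nonempty _).mp hne
  obtain ⟨z, hzU, hzc⟩ := nonempty_inter_closedPoints hne'
    ((pullback φ φ).basicOpen _).isOpen.isLocallyClosed
  have hzc' : IsClosed ({z} : Set ↥(pullback φ φ)) := mem_closedPoints_iff.mp hzc
  obtain ⟨ζ, hζ⟩ : ∃ ζ, ζ = pointOfClosedPoint (pullback.fst φ φ ≫ sX) z hzc' := ⟨_, rfl⟩
  have hζc : ζ ≫ pullback.fst φ φ ≫ sX = 𝟙 _ := by
    rw [hζ]; exact pointOfClosedPoint_comp _ z hzc'
  have h1 : (ζ ≫ pullback.fst φ φ) ≫ sX = 𝟙 _ := by rw [Category.assoc]; exact hζc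
  have h2 : (ζ ≫ pullback.snd φ φ) ≫ sX = 𝟙 _ := by
    rw [Category.assoc, ← hφ, ← Category.assoc (pullback.snd φ φ), ← pullback.condition,
      Category.assoc, hφ]
    exact hζc
  have h3 : (ζ ≫ pullback.fst φ φ) ≫ φ = (ζ ≫ pullback.snd φ φ) ≫ φ := by
    rw [Category.assoc, Category.assoc, pullback.condition]
  have h4 := hs _ _ h1 h2 h3
  have e1 : ∀ p : pullback φ φ ⟶ X, (ζ ≫ p).appTop.hom s = ζ.appTop.hom (p.appTop.hom s) := by
    intro p
    rw [Scheme.Hom.comp_appTop]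
    rfl
  have h5 : ζ.appTop.hom d = 0 := by
    rw [hd, map_sub, ← e1, ← e1, h4, sub_self]
  have hz' : ∀ a : Spec (CommRingCat.of k), ζ a = z := fun a => by
    rw [hζ]; exact pointOfClosedPoint_apply _ z hzc' a
  have h6 : ∀ a : Spec (CommRingCat.of k), a ∈ ζ ⁻¹ᵁ (pullback φ φ).basicOpen d := fun a => by
    change ζ a ∈ (pullback φ φ).basicOpen d
    rw [hz' a]; exact hzU
  rw [Scheme.preimage_basicOpen_top] at h6
  have h7 : (Spec (CommRingCat.of k)).basicOpen (ζ.appTop.hom d) = ⊥ := by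
    rw [h5]; exact Scheme.basicOpen_zero _ _
  have h8 := h6 (IsLocalRing.closedPoint k)
  rw [show (ζ.appTop) d = ζ.appTop.hom d from rfl, h7] at h8
  exact h8

end geom

theorem appTop_eq_of_basicOpen_eq_bot {P X : Scheme.{u}} (p₁ p₂ : P ⟶ X) (s : Γ(X, ⊤))
    (h : P.basicOpen (p₁.appTop.hom s - p₂.appTop.hom s) = ⊥) (T : CommRingCat.{u})
    [_root_.IsReduced T] (θ : Spec T ⟶ P) :
    (θ ≫ p₁).appTop.hom s = (θ ≫ p₂).appTop.hom s := by
  have hinj : Function.Injective (Scheme.ΓSpecIso T).hom.hom :=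
    (Scheme.ΓSpecIso T).commRingCatIsoToRingEquiv.injective
  haveI : _root_.IsReduced Γ(Spec T, ⊤) :=
    isReduced_of_injective (Scheme.ΓSpecIso T).hom.hom hinj
  have hb : (Spec T).basicOpen (θ.appTop.hom (p₁.appTop.hom s - p₂.appTop.hom s)) = ⊥ := by
    have h1 := Scheme.preimage_basicOpen_top θ (p₁.appTop.hom s - p₂.appTop.hom s)
    rw [h] at h1
    exact h1.symm.trans rfl
  have h0 : θ.appTop.hom (p₁.appTop.hom s - p₂.appTop.hom s) = 0 :=
    ((Scheme.isNilpotent_iff_basicOpen_eq_bot _).mpr hb).eq_zero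
  rw [map_sub, sub_eq_zero] at h0
  exact h0

theorem ΓSpecIso_appTop_SpecMap_fromSpecStalk {X : Scheme.{u}} (x : X) {R : CommRingCat.{u}}
    (i : X.presheaf.stalk x ⟶ R) (s : Γ(X, ⊤)) :
    (Scheme.ΓSpecIso R).hom.hom ((Spec.map i ≫ X.fromSpecStalk x).appTop.hom s) =
      i.hom ((X.presheaf.germ ⊤ x trivial).hom s) := by
  have h : (Spec.map i ≫ X.fromSpecStalk x).appTop ≫ (Scheme.ΓSpecIso R).hom =
      X.presheaf.germ ⊤ x trivial ≫ i := by
    rw [Scheme.Hom.comp_appTop, Category.assoc, Scheme.ΓSpecIso_naturality, ← Category.assoc,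
      fromSpecStalk_appTop_hom]
  exact congrArg (fun g => g.hom s) h

theorem exists_reduced_equalizer {K L : Type u} [Field K] [Field L] [CharZero K] (ι : K →+* L) :
    ∃ (T : Type u) (_ : CommRing T) (_ : _root_.IsReduced T) (i₁ i₂ : L →+* T),
      i₁.comp ι = i₂.comp ι ∧ ∀ a : L, i₁ a = i₂ a → a ∈ Set.range ι := by
  letI : Algebra K L := ι.toAlgebra
  refine ⟨L ⊗[K] L, inferInstance, isReduced_tensor_self K L,
    (Algebra.TensorProduct.includeLeft : L →ₐ[K] L ⊗[K] L).toRingHom,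
    (Algebra.TensorProduct.includeRight : L →ₐ[K] L ⊗[K] L).toRingHom, ?_, ?_⟩
  · ext c
    exact ((Algebra.TensorProduct.includeLeft : L →ₐ[K] L ⊗[K] L).commutes c).trans
      ((Algebra.TensorProduct.includeRight : L →ₐ[K] L ⊗[K] L).commutes c).symm
  · intro a ha
    exact mem_range_of_tmul_eq a ha

section descent

variable {k : Type u} [Field k] [IsAlgClosed k] [CharZero k] {X Y : Scheme.{u}}
  [IsIntegral X] [IsIntegral Y]
  (sX : X ⟶ Spec (CommRingCat.of k)) (sY : Y ⟶ Spec (CommRingCat.of k))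
  [LocallyOfFiniteType sX] (φ : X ⟶ Y) (hφ : φ ≫ sY = sX) (s : Γ(X, ⊤))
  (hs : ∀ x₁ x₂ : Spec (CommRingCat.of k) ⟶ X, x₁ ≫ sX = 𝟙 _ → x₂ ≫ sX = 𝟙 _ →
    x₁ ≫ φ = x₂ ≫ φ → x₁.appTop.hom s = x₂.appTop.hom s)

include hφ hs in
theorem exists_functionField_eq [LocallyOfFiniteType φ]
    (hdom : φ.base (genericPoint X) ⤳ genericPoint Y) :
    ∃ r₀ : Y.functionField, CohIII.stalkToFunctionField φ (genericPoint Y) hdom r₀ =
      (X.presheaf.germ ⊤ (genericPoint X) trivial).hom s := by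
  haveI : CharZero Y.functionField := by
    let ρ : k →+* Y.functionField :=
      ((Scheme.ΓSpecIso (CommRingCat.of k)).inv ≫ sY.appTop ≫
        Y.presheaf.germ ⊤ (genericPoint Y) trivial).hom
    exact charZero_of_injective_ringHom ρ.injective
  obtain ⟨T, iT, hT, i₁, i₂, hi, hmem⟩ := exists_reduced_equalizer
    (CohIII.stalkToFunctionField φ (genericPoint Y) hdom)
  refine hmem _ ?_
  obtain ⟨j₁, hj₁⟩ : ∃ j : X.functionField ⟶ CommRingCat.of T, j.hom = i₁ :=
    ⟨CommRingCat.ofHom i₁, rfl⟩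
  obtain ⟨j₂, hj₂⟩ : ∃ j : X.functionField ⟶ CommRingCat.of T, j.hom = i₂ :=
    ⟨CommRingCat.ofHom i₂, rfl⟩
  obtain ⟨ιc, hιc⟩ : ∃ ιc : Y.functionField ⟶ X.functionField,
      ιc = Y.presheaf.stalkSpecializes hdom ≫ φ.stalkMap (genericPoint X) := ⟨_, rfl⟩
  have hj : ιc ≫ j₁ = ιc ≫ j₂ := by
    ext c
    have := RingHom.congr_fun hi c
    rw [← hj₁, ← hj₂] at this
    rw [hιc]
    exact this
  have h1 : X.fromSpecStalk (genericPoint X) ≫ φ =
      Spec.map ιc ≫ Y.fromSpecStalk (genericPoint Y) := by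
    rw [hιc, ← Scheme.SpecMap_stalkMap_fromSpecStalk φ, Spec.map_comp, Category.assoc,
      Scheme.SpecMap_stalkSpecializes_fromSpecStalk hdom]
  have hw : (Spec.map j₁ ≫ X.fromSpecStalk (genericPoint X)) ≫ φ =
      (Spec.map j₂ ≫ X.fromSpecStalk (genericPoint X)) ≫ φ := by
    rw [Category.assoc, Category.assoc, h1, ← Category.assoc, ← Category.assoc, ← Spec.map_comp,
      ← Spec.map_comp, hj]
  obtain ⟨θ, hθ⟩ : ∃ θ : Spec (CommRingCat.of T) ⟶ pullback φ φ,
      θ = pullback.lift _ _ hw := ⟨_, rfl⟩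
  have h2 : θ ≫ pullback.fst φ φ = Spec.map j₁ ≫ X.fromSpecStalk (genericPoint X) := by
    rw [hθ]; exact pullback.lift_fst _ _ _
  have h3 : θ ≫ pullback.snd φ φ = Spec.map j₂ ≫ X.fromSpecStalk (genericPoint X) := by
    rw [hθ]; exact pullback.lift_snd _ _ _
  haveI : _root_.IsReduced (CommRingCat.of T) := hT
  have h4 := appTop_eq_of_basicOpen_eq_bot (pullback.fst φ φ) (pullback.snd φ φ) s
    (basicOpen_diff_eq_bot sX sY φ hφ s hs) (CommRingCat.of T) θ
  rw [h2, h3] at h4
  have h5 := congrArg (Scheme.ΓSpecIso (CommRingCat.of T)).hom.hom h4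
  rw [ΓSpecIso_appTop_SpecMap_fromSpecStalk, ΓSpecIso_appTop_SpecMap_fromSpecStalk, hj₁, hj₂] at h5
  exact h5

omit [IsAlgClosed k] [CharZero k] [LocallyOfFiniteType sX] in
theorem stalkToFunctionField_algebraMap (hdom : φ.base (genericPoint X) ⤳ genericPoint Y) (x : X)
    (c : Y.presheaf.stalk (φ.base x)) :
    CohIII.stalkToFunctionField φ (genericPoint Y) hdom
        (algebraMap (Y.presheaf.stalk (φ.base x)) Y.functionField c) =
      algebraMap (X.presheaf.stalk x) X.functionField ((φ.stalkMap x).hom c) := by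
  have hx : genericPoint X ⤳ x := (genericPoint_spec X).specializes trivial
  have h' : genericPoint Y ⤳ φ.base x := (genericPoint_spec Y).specializes trivial
  have h : Y.presheaf.stalkSpecializes h' ≫ Y.presheaf.stalkSpecializes hdom ≫
      φ.stalkMap (genericPoint X) = φ.stalkMap x ≫ X.presheaf.stalkSpecializes hx := by
    rw [← Category.assoc, TopCat.Presheaf.stalkSpecializes_comp]
    exact Scheme.Hom.stalkSpecializes_stalkMap φ (genericPoint X) x hx
  exact congrArg (fun g => g.hom c) h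

omit [IsAlgClosed k] [CharZero k] [LocallyOfFiniteType sX] in
theorem mem_range_of_height_le_one [IsLocallyNoetherian Y]
    (hsurj : Function.Surjective φ.base)
    (hdom : φ.base (genericPoint X) ⤳ genericPoint Y) (r₀ : Y.functionField)
    (hr₀ : CohIII.stalkToFunctionField φ (genericPoint Y) hdom r₀ =
      (X.presheaf.germ ⊤ (genericPoint X) trivial).hom s)
    (y : Y) [IsIntegrallyClosed (Y.presheaf.stalk y)]
    (hy : (maximalIdeal (Y.presheaf.stalk y)).height ≤ 1) :
    r₀ ∈ Set.range (algebraMap (Y.presheaf.stalk y) Y.functionField) := by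
  obtain ⟨x, rfl⟩ := hsurj y
  by_cases hr0 : r₀ = 0
  · exact ⟨0, by rw [hr0, map_zero]⟩
  haveI := Groth.Agent.Lib.Helper14.ComplNormalSub.isPrincipalIdealRing_of_normal_of_height_le_one
    _ hy
  haveI : ValuationRing (Y.presheaf.stalk (φ.base x)) := inferInstance
  rcases ValuationRing.isInteger_or_isInteger (Y.presheaf.stalk (φ.base x)) r₀ with h | h
  · obtain ⟨c, hc⟩ := h
    exact ⟨c, hc⟩
  · obtain ⟨c, hc⟩ := h
    have h1 : r₀ * algebraMap (Y.presheaf.stalk (φ.base x)) Y.functionField c = 1 := by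
      rw [hc]; exact mul_inv_cancel₀ hr0
    by_cases hcu : IsUnit c
    · obtain ⟨u, rfl⟩ := hcu
      refine ⟨((u⁻¹ : (Y.presheaf.stalk (φ.base x))ˣ) : Y.presheaf.stalk (φ.base x)), ?_⟩
      calc algebraMap (Y.presheaf.stalk (φ.base x)) Y.functionField
            ((u⁻¹ : (Y.presheaf.stalk (φ.base x))ˣ) : Y.presheaf.stalk (φ.base x))
          = (r₀ * algebraMap (Y.presheaf.stalk (φ.base x)) Y.functionField u) *
            algebraMap (Y.presheaf.stalk (φ.base x)) Y.functionField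
              ((u⁻¹ : (Y.presheaf.stalk (φ.base x))ˣ) : Y.presheaf.stalk (φ.base x)) := by
            rw [h1, one_mul]
        _ = r₀ * algebraMap (Y.presheaf.stalk (φ.base x)) Y.functionField
              ((u : Y.presheaf.stalk (φ.base x)) *
                ((u⁻¹ : (Y.presheaf.stalk (φ.base x))ˣ) : Y.presheaf.stalk (φ.base x))) := by
            rw [map_mul, mul_assoc]
        _ = r₀ := by rw [Units.mul_inv, map_one, mul_one]
    · exfalso
      have h2 : CohIII.stalkToFunctionField φ (genericPoint Y) hdom r₀ *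
          CohIII.stalkToFunctionField φ (genericPoint Y) hdom
            (algebraMap (Y.presheaf.stalk (φ.base x)) Y.functionField c) = 1 := by
        rw [← map_mul, h1, map_one]
      rw [hr₀, stalkToFunctionField_algebraMap φ hdom x c] at h2
      haveI : Nonempty (⊤ : X.Opens) := ⟨⟨x, trivial⟩⟩
      have h3 : (X.presheaf.germ ⊤ (genericPoint X) trivial).hom s =
          algebraMap (X.presheaf.stalk x) X.functionField
            ((X.presheaf.germ ⊤ x trivial).hom s) :=
        (Scheme.algebraMap_germ_eq_germToFunctionField (X := X) (U := ⊤) trivial s).symm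
      rw [h3, ← map_mul] at h2
      have h4 : (X.presheaf.germ ⊤ x trivial).hom s * (φ.stalkMap x).hom c = 1 :=
        IsFractionRing.injective (X.presheaf.stalk x) X.functionField (by rw [h2, map_one])
      have h5 : IsUnit ((φ.stalkMap x).hom c) :=
        ⟨⟨(φ.stalkMap x).hom c, (X.presheaf.germ ⊤ x trivial).hom s,
          by rw [mul_comm]; exact h4, h4⟩, rfl⟩
      exact hcu (isUnit_of_map_unit (φ.stalkMap x).hom c h5)

include hφ hs in
theorem exists_section [LocallyOfFiniteType sY]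
    (hnorm : Pi1.IsNormalScheme Y) (hsurj : Function.Surjective φ.base) :
    ∃ r : Γ(Y, ⊤), φ.appTop.hom r = s := by
  haveI : IsLocallyNoetherian Y := LocallyOfFiniteType.isLocallyNoetherian sY
  haveI : LocallyOfFiniteType (φ ≫ sY) := by rw [hφ]; infer_instance
  haveI : LocallyOfFiniteType φ := locallyOfFiniteType_of_comp φ sY
  haveI : IsDominant φ := ⟨hsurj.denseRange⟩
  have hη : φ.base (genericPoint X) = genericPoint Y :=
    Groth.Agent.Lib.Helper6.InjOpenImm.map_genericPoint_of_isDominant φ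
  have hdom : φ.base (genericPoint X) ⤳ genericPoint Y := by rw [hη]
  obtain ⟨r₀, hr₀⟩ := exists_functionField_eq sX sY φ hφ s hs hdom
  have hB : ∀ y : Y, (maximalIdeal (Y.presheaf.stalk y)).height ≤ 1 →
      r₀ ∈ Set.range (algebraMap (Y.presheaf.stalk y) Y.functionField) := fun y hy => by
    haveI := (hnorm y).2
    exact mem_range_of_height_le_one φ s hsurj hdom r₀ hr₀ y hy
  have hopen : IsOpen {y : Y | r₀ ∈ Set.range (algebraMap (Y.presheaf.stalk y) Y.functionField)} := by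
    rw [isOpen_iff_forall_mem_open]
    rintro y ⟨a, ha⟩
    obtain ⟨N, hyN, t, ht⟩ := Y.presheaf.exists_germ_eq a
    refine ⟨N, ?_, N.isOpen, hyN⟩
    intro y' hy'
    haveI : Nonempty N := ⟨⟨y, hyN⟩⟩
    refine ⟨Y.presheaf.germ N y' hy' t, ?_⟩
    rw [Scheme.algebraMap_germ_eq_germToFunctionField, ← ha, ← ht,
      Scheme.algebraMap_germ_eq_germToFunctionField]
  obtain ⟨W, hW⟩ : ∃ W : Y.Opens, (W : Set Y) =
      {y : Y | r₀ ∈ Set.range (algebraMap (Y.presheaf.stalk y) Y.functionField)} :=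
    ⟨⟨_, hopen⟩, rfl⟩
  have hWmem : ∀ y : Y, y ∈ W ↔
      r₀ ∈ Set.range (algebraMap (Y.presheaf.stalk y) Y.functionField) := fun y => by
    rw [← SetLike.mem_coe, hW]; rfl
  have hηW : genericPoint Y ∈ W := by
    rw [hWmem]
    refine ⟨r₀, ?_⟩
    have h1 : Y.presheaf.stalkSpecializes
        ((genericPoint_spec Y).specializes (Set.mem_univ (genericPoint Y))) = 𝟙 _ :=
      TopCat.Presheaf.stalkSpecializes_refl _ _
    exact congrArg (fun g => g.hom r₀) h1
  haveI : Nonempty W := ⟨⟨genericPoint Y, hηW⟩⟩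
  obtain ⟨t, ht⟩ := Groth.Agent.Lib.Helper22.NormalSections.exists_section_of_forall_mem_range W r₀
    (fun y hy => (hWmem y).mp hy)
  have hdepth : ∀ z : Y, z ∉ W →
      2 ≤ LocCoh.depth (Y.presheaf.stalk z) (Y.presheaf.stalk z) := by
    intro z hz
    haveI := (hnorm z).2
    have h1 : ¬ (maximalIdeal (Y.presheaf.stalk z)).height ≤ 1 :=
      fun h => hz ((hWmem z).mpr (hB z h))
    have h2 := Groth.Agent.Lib.Helper4.SerreNormal.min_two_le_depth_of_normal
      (Y.presheaf.stalk z)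
    have h3 : ((2 : ℕ) : ℕ∞) ≤ (maximalIdeal (Y.presheaf.stalk z)).height := by
      have := Order.add_one_le_of_lt (not_le.mp h1)
      rw [one_add_one_eq_two] at this
      exact_mod_cast this
    rw [min_eq_left h3] at h2
    exact_mod_cast h2
  obtain ⟨r, hr⟩ := (Groth.Agent.Lib.Helper5.Hartogs.bijective_of_depth W hdepth ⊤).2
    ((Y.presheaf.map (homOfLE (inf_le_right : (⊤ : Y.Opens) ⊓ W ≤ W)).op).hom t)
  have hηtW : genericPoint Y ∈ (⊤ : Y.Opens) ⊓ W := ⟨trivial, hηW⟩
  have hr' : (Y.presheaf.germ ⊤ (genericPoint Y) trivial).hom r = r₀ := by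
    have e1 := TopCat.Presheaf.germ_res_apply Y.presheaf
      (homOfLE (inf_le_left : (⊤ : Y.Opens) ⊓ W ≤ ⊤)) (genericPoint Y) hηtW r
    have e2 := TopCat.Presheaf.germ_res_apply Y.presheaf
      (homOfLE (inf_le_right : (⊤ : Y.Opens) ⊓ W ≤ W)) (genericPoint Y) hηtW t
    calc (Y.presheaf.germ ⊤ (genericPoint Y) trivial).hom r
        = (Y.presheaf.germ ((⊤ : Y.Opens) ⊓ W) (genericPoint Y) hηtW).hom
            ((Y.presheaf.map (homOfLE (inf_le_left : (⊤ : Y.Opens) ⊓ W ≤ ⊤)).op).hom r) :=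
          e1.symm
      _ = (Y.presheaf.germ ((⊤ : Y.Opens) ⊓ W) (genericPoint Y) hηtW).hom
            ((Y.presheaf.map (homOfLE (inf_le_right : (⊤ : Y.Opens) ⊓ W ≤ W)).op).hom t) := by
          exact congrArg _ hr
      _ = (Y.presheaf.germ W (genericPoint Y) hηW).hom t := e2
      _ = r₀ := ht
  refine ⟨r, ?_⟩
  haveI : Nonempty (⊤ : Y.Opens) := ⟨⟨genericPoint Y, trivial⟩⟩
  haveI : Nonempty (φ ⁻¹ᵁ (⊤ : Y.Opens) : X.Opens) := ⟨⟨genericPoint X, trivial⟩⟩
  have h1 := Groth.Agent.Lib.Helper13.ZariskiNormal.germ_app φ hdom ⊤ r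
  apply germ_injective_of_isIntegral X (genericPoint X) (U := ⊤) trivial
  refine Eq.trans ?_ hr₀
  rw [← hr']
  exact h1

end descent

end Groth.Agent.Lib.Helper6.FibreConstDescent
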