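import Groth.Agent.Lib.Helper16.YonSigma
import Groth.Prelude.Def_AlgSp3

/-!
# Helper library (helper6): a finite disjoint union of algebraic spaces finite over `Y` is finite over `Y`
-/

set_option autoImplicit false
universe u
open CategoryTheory CategoryTheory.Limits AlgebraicGeometry
open AlgSp

namespace Groth.Agent.Lib.Helper6.FinCoprod

open Groth.Agent.Lib.Helper16

/-- A finite coproduct of finite morphisms is finite (index type in `Type`; copy of the argument of
`Helper11.SD1.isFinite_sigmaDesc_aux`). -/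
theorem isFinite_sigmaDesc_aux (ι : Type) [Finite ι] :
    ∀ (Y : ι → Scheme.{u}) (X : Scheme.{u}) (f : ∀ i, Y i ⟶ X),
      (∀ i, IsFinite (f i)) → IsFinite (Sigma.desc f) := by
  refine Finite.induction_empty_option
    (P := fun ι : Type => ∀ (Y : ι → Scheme.{u}) (X : Scheme.{u}) (f : ∀ i, Y i ⟶ X),
      (∀ i, IsFinite (f i)) → IsFinite (Sigma.desc f)) ?_ ?_ ?_ ι
  · intro α β e ih Y X f hf
    have h1 : IsFinite (Sigma.desc fun a => f (e a)) :=
      ih (fun a => Y (e a)) X (fun a => f (e a)) (fun a => hf _)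
    have h2 : (Sigma.reindex e Y).hom ≫ Sigma.desc f = Sigma.desc fun a => f (e a) := by
      refine Sigma.hom_ext _ _ fun a => ?_
      rw [Sigma.ι_reindex_hom_assoc, Sigma.ι_desc, Sigma.ι_desc]
    have h3 : IsFinite ((Sigma.reindex e Y).hom ≫ Sigma.desc f) := by
      rw [h2]; exact h1
    exact (MorphismProperty.cancel_left_of_respectsIso @IsFinite _ _).mp h3
  · intro Y X f hf
    have : IsEmpty ↥(∐ Y) := by
      refine ⟨fun x => ?_⟩
      obtain ⟨i, _⟩ := (sigmaOpenCover Y).exists_eq x
      exact i.elim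
    infer_instance
  · intro α _ ih Y X f hf
    have h1 : IsFinite (Sigma.desc fun a => f (some a)) :=
      ih (fun a => Y (some a)) X (fun a => f (some a)) (fun a => hf _)
    have h0 : IsFinite (f none) := hf none
    let fwd : (∐ fun a => Y (some a)) ⨿ Y none ⟶ ∐ Y :=
      coprod.desc (Sigma.desc fun a => Sigma.ι Y (some a)) (Sigma.ι Y none)
    let bc : ∀ o : Option α, Y o ⟶ (∐ fun a => Y (some a)) ⨿ Y none := fun o =>
      match o with
        | some a => Sigma.ι (fun a => Y (some a)) a ≫ coprod.inl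
        | none => coprod.inr
    let bwd : ∐ Y ⟶ (∐ fun a => Y (some a)) ⨿ Y none := Sigma.desc bc
    have hbf : bwd ≫ fwd = 𝟙 _ := by
      refine Sigma.hom_ext _ _ fun o => ?_
      cases o with
      | none =>
        have : bc none = coprod.inr := rfl
        simp only [bwd, fwd, Sigma.ι_desc_assoc, this, coprod.inr_desc, Category.comp_id]
      | some a =>
        have : bc (some a) = Sigma.ι (fun a => Y (some a)) a ≫ coprod.inl := rfl
        simp only [bwd, fwd, Sigma.ι_desc_assoc, this, Category.assoc, coprod.inl_desc,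
          Sigma.ι_desc, Category.comp_id]
    have h2 : fwd ≫ Sigma.desc f = coprod.desc (Sigma.desc fun a => f (some a)) (f none) := by
      refine coprod.hom_ext ?_ ?_
      · refine Sigma.hom_ext _ _ fun a => ?_
        simp only [fwd, coprod.inl_desc_assoc, coprod.inl_desc, Sigma.ι_desc_assoc, Sigma.ι_desc]
      · simp only [fwd, coprod.inr_desc_assoc, coprod.inr_desc, Sigma.ι_desc]
    have h3 : Sigma.desc f = bwd ≫ coprod.desc (Sigma.desc fun a => f (some a)) (f none) := by
      rw [← h2, reassoc_of% hbf]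
    have hfb : fwd ≫ bwd = 𝟙 _ := by
      refine coprod.hom_ext ?_ ?_
      · refine Sigma.hom_ext _ _ fun a => ?_
        have : bc (some a) = Sigma.ι (fun a => Y (some a)) a ≫ coprod.inl := rfl
        simp only [bwd, fwd, coprod.inl_desc_assoc, Sigma.ι_desc_assoc, Sigma.ι_desc, this,
          Category.comp_id]
      · have : bc none = coprod.inr := rfl
        simp only [bwd, fwd, coprod.inr_desc_assoc, Sigma.ι_desc, this, Category.comp_id]
    have : IsIso bwd := ⟨fwd, hbf, hfb⟩
    have h4 : IsFinite (coprod.desc (Sigma.desc fun a => f (some a)) (f none)) := inferInstance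
    rw [h3]
    exact (MorphismProperty.cancel_left_of_respectsIso @IsFinite _ _).mpr h4

theorem main10325 {S : Scheme.{u}} {n : ℕ} (X : Fin n → AlgSp.Space S) (Y : AlgSp.Space S)
    (g : ∀ i, X i ⟶ Y) (hg : ∀ i, AlgSp.IsFiniteMor (g i).hom) (c : Cofan fun i => (X i).obj) (hc : IsColimit c)
    (d : c.pt ⟶ Y.obj) (hd : ∀ i, c.inj i ≫ d = (g i).hom) : AlgSp.IsFiniteMor d := by
  intro Z hZ t
  choose W i fst sq hWaff hfin using fun j => hg j hZ t
  obtain ⟨hSig⟩ := isColimit_cofan_yon_ovSigma W
  have hl : ∀ j, (fst j ≫ c.inj j) ≫ d = (yon S).map (i j) ≫ t := fun j => by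
    rw [Category.assoc, hd, (sq j).w]
  let lift : ∀ j, (yon S).obj (W j) ⟶ pullback d t := fun j =>
    pullback.lift (fst j ≫ c.inj j) ((yon S).map (i j)) (hl j)
  have hsq : ∀ j, IsPullback (lift j) (fst j) (pullback.fst d t) (c.inj j) := by
    intro j
    refine IsPullback.of_right ?_ (pullback.lift_fst _ _ _) (IsPullback.of_hasPullback d t).flip
    rw [pullback.lift_snd, hd]
    exact (sq j).flip
  have huniv := FinitaryPreExtensive.isUniversal_finiteCoproducts hc
  obtain ⟨hP⟩ := huniv (Cofan.mk (pullback d t) lift)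
    (Discrete.natTrans (fun j => fst j.as)) (pullback.fst d t)
    (by
      apply NatTrans.ext
      funext ⟨j⟩
      simp only [NatTrans.comp_app, Discrete.natTrans_app, Cofan.mk_ι_app, Functor.const_map_app]
      exact ((hsq j).w).symm)
    (NatTrans.Equifibered.of_discrete _)
    (fun ⟨j⟩ => hsq j)
  let e : (yon S).obj (ovSigma W) ≅ pullback d t := hSig.coconePointUniqueUpToIso hP
  have he : ∀ j, (yon S).map (ovSigmaι W j) ≫ e.hom = lift j := fun j =>
    hSig.comp_coconePointUniqueUpToIso_hom hP ⟨j⟩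
  have hsnd : e.hom ≫ pullback.snd d t = (yon S).map (ovSigmaDesc W i) := by
    apply Cofan.IsColimit.hom_ext hSig
    intro j
    simp only [Cofan.inj, Cofan.mk_ι_app]
    rw [← Category.assoc, he, pullback.lift_snd, ← Functor.map_comp, ovSigmaι_desc]
  refine ⟨ovSigma W, ovSigmaDesc W i, e.hom ≫ pullback.fst d t, ?_, ?_, ?_⟩
  · refine IsPullback.of_iso (IsPullback.of_hasPullback d t) e.symm (Iso.refl _) (Iso.refl _)
      (Iso.refl _) ?_ ?_ ?_ ?_
    · simp
    · rw [Iso.symm_hom, Iso.refl_hom, Category.comp_id, ← hsnd, Iso.inv_hom_id_assoc]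
    · simp
    · simp
  · have : ∀ j, IsAffine (W j).left := hWaff
    show IsAffine (∐ fun j => (W j).left)
    infer_instance
  · show IsFinite (Sigma.desc fun j => (i j).left)
    exact isFinite_sigmaDesc_aux (Fin n) _ _ _ hfin

end Groth.Agent.Lib.Helper6.FinCoprod
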