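import Mathlib

/-!
# Corepresentability of `Q ↦ Hom_{k[[z]]}(R, Q[[z]])` (helper6)
-/

set_option autoImplicit false
universe u

namespace Groth.Agent.Lib.Helper6.FormalDiscRep

open MvPowerSeries

section

variable (k : Type u) [Field k] (n : ℕ) (R : Type u) [CommRing R]
  [Algebra (MvPowerSeries (Fin n) k) R]

/-- the polynomial ring on the symbols `c_{r,α}`. -/
abbrev Pol : Type u := MvPolynomial (R × (Fin n →₀ ℕ)) k

noncomputable def relAdd (p : R × R × (Fin n →₀ ℕ)) : Pol k n R :=
  MvPolynomial.X (p.1 + p.2.1, p.2.2) - MvPolynomial.X (p.1, p.2.2) -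
    MvPolynomial.X (p.2.1, p.2.2)

noncomputable def relMul (p : R × R × (Fin n →₀ ℕ)) : Pol k n R :=
  MvPolynomial.X (p.1 * p.2.1, p.2.2) -
    ∑ q ∈ Finset.HasAntidiagonal.antidiagonal p.2.2, MvPolynomial.X (p.1, q.1) * MvPolynomial.X (p.2.1, q.2)

noncomputable def relAlg (p : MvPowerSeries (Fin n) k × (Fin n →₀ ℕ)) : Pol k n R :=
  MvPolynomial.X (algebraMap (MvPowerSeries (Fin n) k) R p.1, p.2) -
    MvPolynomial.C (coeff p.2 p.1)

noncomputable def relIdeal : Ideal (Pol k n R) :=
  Ideal.span (Set.range (relAdd k n R) ∪ Set.range (relMul k n R) ∪ Set.range (relAlg k n R))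

/-- the corepresenting algebra. -/
abbrev P : Type u := Pol k n R ⧸ relIdeal k n R

/-- the universal coefficients. -/
noncomputable def c (r : R) (α : Fin n →₀ ℕ) : P k n R :=
  Ideal.Quotient.mk (relIdeal k n R) (MvPolynomial.X (r, α))

lemma c_add (r r' : R) (α : Fin n →₀ ℕ) :
    c k n R (r + r') α = c k n R r α + c k n R r' α := by
  have h : relAdd k n R (r, r', α) ∈ relIdeal k n R :=
    Ideal.subset_span (Or.inl (Or.inl ⟨_, rfl⟩))
  have h2 := (Ideal.Quotient.eq_zero_iff_mem).mpr h
  simp only [relAdd, map_sub] at h2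
  unfold c
  linear_combination h2

lemma c_mul (r r' : R) (α : Fin n →₀ ℕ) :
    c k n R (r * r') α = ∑ q ∈ Finset.HasAntidiagonal.antidiagonal α, c k n R r q.1 * c k n R r' q.2 := by
  have h : relMul k n R (r, r', α) ∈ relIdeal k n R :=
    Ideal.subset_span (Or.inl (Or.inr ⟨_, rfl⟩))
  have h2 := (Ideal.Quotient.eq_zero_iff_mem).mpr h
  simp only [relMul, map_sub, map_sum, map_mul] at h2
  unfold c
  linear_combination h2

lemma c_alg (s : MvPowerSeries (Fin n) k) (α : Fin n →₀ ℕ) :
    c k n R (algebraMap _ R s) α = algebraMap k (P k n R) (coeff α s) := by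
  have h : relAlg k n R (s, α) ∈ relIdeal k n R := Ideal.subset_span (Or.inr ⟨_, rfl⟩)
  have h2 := (Ideal.Quotient.eq_zero_iff_mem).mpr h
  simp only [relAlg, map_sub] at h2
  unfold c
  rw [sub_eq_zero] at h2
  rw [h2, ← MvPolynomial.algebraMap_eq, Ideal.Quotient.mk_algebraMap]

/-- the universal section, as a function. -/
noncomputable def uFun (r : R) : MvPowerSeries (Fin n) (P k n R) := fun α => c k n R r α

lemma coeff_uFun (r : R) (α : Fin n →₀ ℕ) : coeff α (uFun k n R r) = c k n R r α := rfl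

/-- the universal section. -/
noncomputable def u : R →ₐ[MvPowerSeries (Fin n) k] MvPowerSeries (Fin n) (P k n R) where
  toFun := uFun k n R
  map_one' := by
    ext α
    have h := c_alg k n R 1 α
    rw [map_one] at h
    rw [coeff_uFun, h, coeff_one, coeff_one]
    split_ifs <;> simp
  map_mul' r r' := by
    ext α
    rw [coeff_mul]
    simp only [coeff_uFun]
    exact c_mul k n R r r' α
  map_zero' := by
    ext α
    have h := c_add k n R 0 0 α
    rw [add_zero] at h
    rw [coeff_uFun, map_zero]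
    exact left_eq_add.mp h
  map_add' r r' := by
    ext α
    rw [map_add]
    simp only [coeff_uFun]
    exact c_add k n R r r' α
  commutes' s := by
    ext α
    rw [coeff_uFun, c_alg, RingHom.algebraMap_toAlgebra, coeff_map]

lemma coeff_u (r : R) (α : Fin n →₀ ℕ) : coeff α (u k n R r) = c k n R r α := rfl

variable {Q : Type u} [CommRing Q] [Algebra k Q]
  (f : R →ₐ[MvPowerSeries (Fin n) k] MvPowerSeries (Fin n) Q)

noncomputable def gtilde : Pol k n R →ₐ[k] Q :=
  MvPolynomial.aeval (fun p : R × (Fin n →₀ ℕ) => coeff p.2 (f p.1))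

lemma relIdeal_le_ker : ∀ a ∈ relIdeal k n R, gtilde k n R f a = 0 := by
  have h : relIdeal k n R ≤ RingHom.ker (gtilde k n R f : Pol k n R →+* Q) := by
    unfold relIdeal
    rw [Ideal.span_le]
    rintro _ ((⟨⟨r, r', α⟩, rfl⟩ | ⟨⟨r, r', α⟩, rfl⟩) | ⟨⟨s, α⟩, rfl⟩)
    · simp [relAdd, gtilde, RingHom.mem_ker]
    · simp [relMul, gtilde, RingHom.mem_ker, coeff_mul]
    · simp [relAlg, gtilde, RingHom.mem_ker, RingHom.algebraMap_toAlgebra]
  exact fun a ha => h ha

noncomputable def g : P k n R →ₐ[k] Q :=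
  Ideal.Quotient.liftₐ (relIdeal k n R) (gtilde k n R f) (relIdeal_le_ker k n R f)

lemma g_c (r : R) (α : Fin n →₀ ℕ) : g k n R f (c k n R r α) = coeff α (f r) := by
  have h1 : g k n R f (c k n R r α) = gtilde k n R f (MvPolynomial.X (r, α)) := rfl
  rw [h1]
  simp [gtilde]

end

theorem main (k : Type u) [Field k] (n : ℕ)
    (R : Type u) [CommRing R] [Algebra (MvPowerSeries (Fin n) k) R] :
    ∃ (P : Type u) (_ : CommRing P) (_ : Algebra k P)
      (u : R →ₐ[MvPowerSeries (Fin n) k] MvPowerSeries (Fin n) P),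
      (∀ (Q : Type u) [CommRing Q] [Algebra k Q]
          (f : R →ₐ[MvPowerSeries (Fin n) k] MvPowerSeries (Fin n) Q),
          ∃! g : P →ₐ[k] Q,
            (MvPowerSeries.map (σ := Fin n) (g : P →+* Q)).comp (u : R →+* MvPowerSeries (Fin n) P) =
              (f : R →+* MvPowerSeries (Fin n) Q)) ∧
      ((∃ s : Set R, s.Countable ∧ Algebra.adjoin (MvPowerSeries (Fin n) k) s = ⊤) →
        ∃ t : Set P, t.Countable ∧ Algebra.adjoin k t = ⊤) := by
  refine ⟨P k n R, inferInstance, inferInstance, u k n R, ?_, ?_⟩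
  · intro Q _ _ f
    refine ⟨g k n R f, ?_, ?_⟩
    · ext r α
      simp only [RingHom.comp_apply, RingHom.coe_coe, coeff_map, coeff_u]
      exact g_c k n R f r α
    · intro g' hg'
      apply Ideal.Quotient.algHom_ext
      apply MvPolynomial.algHom_ext
      rintro ⟨r, α⟩
      have h1 := congrArg (fun φ => coeff α (φ r)) hg'
      simp only [RingHom.comp_apply, RingHom.coe_coe, coeff_map, coeff_u] at h1
      exact h1.trans (g_c k n R f r α).symm
  · rintro ⟨s, hs, hadj⟩
    refine ⟨(fun p : R × (Fin n →₀ ℕ) => c k n R p.1 p.2) '' (s ×ˢ Set.univ),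
      (hs.prod Set.countable_univ).image _, ?_⟩
    set P' := Algebra.adjoin k ((fun p : R × (Fin n →₀ ℕ) => c k n R p.1 p.2) '' (s ×ˢ Set.univ))
      with hP'
    let R' : Subalgebra (MvPowerSeries (Fin n) k) R :=
      { carrier := {r | ∀ α, c k n R r α ∈ P'}
        mul_mem' := fun {a b} ha hb α => by
          rw [c_mul]
          exact Subalgebra.sum_mem _ (fun q _ => Subalgebra.mul_mem _ (ha _) (hb _))
        add_mem' := fun {a b} ha hb α => by
          rw [c_add]
          exact Subalgebra.add_mem _ (ha α) (hb α)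
        algebraMap_mem' := fun s' α => by
          rw [c_alg]
          exact Subalgebra.algebraMap_mem _ _ }
    have hR' : R' = ⊤ := by
      rw [eq_top_iff, ← hadj]
      apply Algebra.adjoin_le
      intro r hr α
      exact Algebra.subset_adjoin ⟨(r, α), ⟨hr, Set.mem_univ _⟩, rfl⟩
    rw [eq_top_iff]
    rintro p -
    obtain ⟨q, rfl⟩ := Ideal.Quotient.mk_surjective p
    induction q using MvPolynomial.induction_on with
    | C a =>
      rw [← MvPolynomial.algebraMap_eq, Ideal.Quotient.mk_algebraMap]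
      exact Subalgebra.algebraMap_mem _ _
    | add p q hp hq =>
      rw [map_add]
      exact Subalgebra.add_mem _ hp hq
    | mul_X p i hp =>
      rw [map_mul]
      refine Subalgebra.mul_mem _ hp ?_
      have hi : i.1 ∈ R' := by rw [hR']; trivial
      exact hi i.2

end Groth.Agent.Lib.Helper6.FormalDiscRep
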