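import Mathlib
import Groth.Prelude.Def_MoreMor
import Groth.Agent.Lib.Helper6.Glue
import Groth.Agent.Lib.Helper6.FormalEtaleLocal1
import Groth.Agent.Lib.Helper6.FormalEtaleLocal2

/-!
# Formally étale morphisms lift uniquely against first order thickenings of schemes (helper6)
-/

set_option autoImplicit false
universe u
open CategoryTheory CategoryTheory.Limits AlgebraicGeometry

namespace Groth.Agent.Lib.Helper6.FormalEtaleLocal

/-- The lifting property of a formally étale morphism against `Spec B' ⟶ Spec B` for any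
surjection `B → B'` with square-zero kernel. -/
theorem exists_lift_of_surjective {X Y : Scheme.{u}} (f : X ⟶ Y)
    (hf : MoreMor.IsFormallyEtaleHom f)
    {B B' : CommRingCat.{u}} (φ : B ⟶ B') (hφ : Function.Surjective φ.hom)
    (hker : RingHom.ker φ.hom ^ 2 = ⊥)
    (a : Spec B' ⟶ X) (b : Spec B ⟶ Y) (hab : Spec.map φ ≫ b = a ≫ f) :
    ∃ l : Spec B ⟶ X, Spec.map φ ≫ l = a ∧ l ≫ f = b := by
  have he : ∀ x : B, RingHom.quotientKerEquivOfSurjective hφ
      (Ideal.Quotient.mk (RingHom.ker φ.hom) x) = φ.hom x := fun x =>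
    RingHom.quotientKerEquivOfSurjective_apply_mk hφ x
  set e : (B ⧸ RingHom.ker φ.hom) ≃+* B' := RingHom.quotientKerEquivOfSurjective hφ with hedef
  let ψ : B' ⟶ CommRingCat.of (B ⧸ RingHom.ker φ.hom) := CommRingCat.ofHom e.symm.toRingHom
  let ψ' : CommRingCat.of (B ⧸ RingHom.ker φ.hom) ⟶ B' := CommRingCat.ofHom e.toRingHom
  have h1 : φ ≫ ψ = CommRingCat.ofHom (Ideal.Quotient.mk (RingHom.ker φ.hom)) := by
    apply CommRingCat.hom_ext
    apply RingHom.ext
    intro x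
    change e.symm (φ.hom x) = Ideal.Quotient.mk (RingHom.ker φ.hom) x
    rw [← he, e.symm_apply_apply]
  have h2 : CommRingCat.ofHom (Ideal.Quotient.mk (RingHom.ker φ.hom)) ≫ ψ' = φ := by
    apply CommRingCat.hom_ext
    apply RingHom.ext
    intro x
    exact he x
  have h3 : ψ ≫ ψ' = 𝟙 B' := by
    apply CommRingCat.hom_ext
    apply RingHom.ext
    intro x
    exact e.apply_symm_apply x
  have hsq : Spec.map (CommRingCat.ofHom (Ideal.Quotient.mk (RingHom.ker φ.hom))) ≫ b =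
      (Spec.map ψ ≫ a) ≫ f := by
    rw [← h1, Spec.map_comp, Category.assoc, Category.assoc, hab]
  obtain ⟨l, ⟨hl1, hl2⟩, -⟩ := hf B (RingHom.ker φ.hom) hker (Spec.map ψ ≫ a) b hsq
  refine ⟨l, ?_, hl2⟩
  have h4 : Spec.map φ = Spec.map ψ' ≫
      Spec.map (CommRingCat.ofHom (Ideal.Quotient.mk (RingHom.ker φ.hom))) := by
    rw [← Spec.map_comp, h2]
  rw [h4, Category.assoc]
  have hl1' : Spec.map (CommRingCat.ofHom (Ideal.Quotient.mk (RingHom.ker φ.hom))) ≫ l =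
      Spec.map ψ ≫ a := hl1
  rw [hl1', ← Category.assoc, ← Spec.map_comp, h3, Spec.map_id, Category.id_comp]

/-- Formally étale morphisms are formally unramified. -/
theorem formallyUnramified_of_isFormallyEtaleHom {X Y : Scheme.{u}} (f : X ⟶ Y)
    (hf : MoreMor.IsFormallyEtaleHom f) : AlgebraicGeometry.FormallyUnramified f :=
  formallyUnramified_of_affineLocally f
    (fun U V hU hV hUV => formallyEtale_appLE f hf U V hU hV hUV)

/-- The restriction of a first order thickening to an open has nilpotent kernel. -/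
theorem isNilpotent_ker_restrict {T T' : Scheme.{u}} (t : T ⟶ T') [IsClosedImmersion t]
    (hker : t.ker * t.ker = ⊥) (V : T'.Opens) : IsNilpotent (t ∣_ V).ker := by
  refine ⟨2, ?_⟩
  apply Scheme.IdealSheafData.ext
  funext W
  rw [Scheme.IdealSheafData.ideal_pow]
  change (t ∣_ V).ker.ideal W ^ 2 = ⊥
  rw [Scheme.ker_morphismRestrict_ideal, sq]
  have h1 : (t.ker * t.ker).ideal ⟨V.ι ''ᵁ W, W.2.image_of_isOpenImmersion _⟩ =
      t.ker.ideal ⟨V.ι ''ᵁ W, W.2.image_of_isOpenImmersion _⟩ *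
        t.ker.ideal ⟨V.ι ''ᵁ W, W.2.image_of_isOpenImmersion _⟩ := rfl
  exact h1.symm.trans (by rw [hker]; rfl)

/-- Uniqueness of lifts on every open of the thickening. -/
theorem lift_unique_on_open {X S : Scheme.{u}} (f : X ⟶ S)
    [AlgebraicGeometry.FormallyUnramified f]
    {T T' : Scheme.{u}} (t : T ⟶ T') [IsClosedImmersion t] (hker : t.ker * t.ker = ⊥)
    (V : T'.Opens) (g₁ g₂ : (V : Scheme.{u}) ⟶ X)
    (h1 : (t ∣_ V) ≫ g₁ = (t ∣_ V) ≫ g₂) (h2 : g₁ ≫ f = g₂ ≫ f) : g₁ = g₂ :=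
  AlgebraicGeometry.FormallyUnramified.hom_ext (t ∣_ V) (isNilpotent_ker_restrict t hker V) f h1 h2

/-- Local existence of lifts on affine opens of the thickening. -/
theorem exists_lift_on_affine {X S : Scheme.{u}} (f : X ⟶ S) (hf : MoreMor.IsFormallyEtaleHom f)
    {T T' : Scheme.{u}} (t : T ⟶ T') [IsClosedImmersion t] (hker : t.ker * t.ker = ⊥)
    (a : T ⟶ X) (b : T' ⟶ S) (w : t ≫ b = a ≫ f) (W : T'.Opens) (hW : IsAffineOpen W) :
    ∃ l : (W : Scheme.{u}) ⟶ X, (t ∣_ W) ≫ l = (t ⁻¹ᵁ W).ι ≫ a ∧ l ≫ f = W.ι ≫ b := by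
  have hW' : IsAffineOpen (t ⁻¹ᵁ W) := hW.preimage t
  have hφ : Function.Surjective (t.app W).hom := t.app_surjective W hW
  have hk : RingHom.ker (t.app W).hom ^ 2 = ⊥ := by
    rw [← Scheme.Hom.ker_apply t ⟨W, hW⟩, sq]
    have h1 : (t.ker * t.ker).ideal ⟨W, hW⟩ = t.ker.ideal ⟨W, hW⟩ * t.ker.ideal ⟨W, hW⟩ := rfl
    rw [← h1, hker]
    rfl
  have hnat : Spec.map (t.app W) ≫ hW.fromSpec = hW'.fromSpec ≫ t := by
    rw [Scheme.Hom.app_eq_appLE]
    exact hW.SpecMap_appLE_fromSpec t hW' le_rfl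
  have hsq : Spec.map (t.app W) ≫ (hW.fromSpec ≫ b) = (hW'.fromSpec ≫ a) ≫ f := by
    rw [← Category.assoc, hnat, Category.assoc, w, Category.assoc]
  obtain ⟨l₀, hl1, hl2⟩ := exists_lift_of_surjective f hf (t.app W) hφ hk _ _ hsq
  have hnat2 : (t ∣_ W) ≫ hW.isoSpec.hom = hW'.isoSpec.hom ≫ Spec.map (t.app W) := by
    rw [← cancel_mono hW.fromSpec, Category.assoc, Category.assoc, hW.isoSpec_hom_fromSpec,
      morphismRestrict_ι, hnat, ← Category.assoc, hW'.isoSpec_hom_fromSpec]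
  refine ⟨hW.isoSpec.hom ≫ l₀, ?_, ?_⟩
  · rw [← Category.assoc, hnat2, Category.assoc, hl1, ← Category.assoc,
      hW'.isoSpec_hom_fromSpec]
  · rw [Category.assoc, hl2, ← Category.assoc, hW.isoSpec_hom_fromSpec]

/-- Restricting a local lift to a smaller open gives a local lift. -/
theorem restrict_lift {X S : Scheme.{u}} (f : X ⟶ S)
    {T T' : Scheme.{u}} (t : T ⟶ T') (a : T ⟶ X) (b : T' ⟶ S) {V W : T'.Opens} (hVW : V ≤ W)
    (l : (W : Scheme.{u}) ⟶ X) (h1 : (t ∣_ W) ≫ l = (t ⁻¹ᵁ W).ι ≫ a) (h2 : l ≫ f = W.ι ≫ b) :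
    (t ∣_ V) ≫ (T'.homOfLE hVW ≫ l) = (t ⁻¹ᵁ V).ι ≫ a ∧
      (T'.homOfLE hVW ≫ l) ≫ f = V.ι ≫ b := by
  have hpre : t ⁻¹ᵁ V ≤ t ⁻¹ᵁ W := fun x hx => hVW hx
  have hcomm : (t ∣_ V) ≫ T'.homOfLE hVW = T.homOfLE hpre ≫ (t ∣_ W) := by
    rw [← cancel_mono W.ι, Category.assoc, Category.assoc, Scheme.homOfLE_ι, morphismRestrict_ι,
      morphismRestrict_ι, ← Category.assoc, Scheme.homOfLE_ι]
  constructor
  · rw [← Category.assoc, hcomm, Category.assoc, h1, ← Category.assoc, Scheme.homOfLE_ι]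
  · rw [Category.assoc, h2, ← Category.assoc, Scheme.homOfLE_ι]

/-- Formally étale morphisms lift uniquely against first order thickenings of schemes. -/
theorem existsUnique_lift_thickening {X S : Scheme.{u}} (f : X ⟶ S)
    (hf : MoreMor.IsFormallyEtaleHom f)
    {T T' : Scheme.{u}} (t : T ⟶ T') (ht : MoreMor.IsFirstOrderThickening t) (a : T ⟶ X)
    (b : T' ⟶ S) (w : t ≫ b = a ≫ f) :
    ∃! l : T' ⟶ X, t ≫ l = a ∧ l ≫ f = b := by
  have : IsClosedImmersion t := ht.1.1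
  have hker : t.ker * t.ker = ⊥ := ht.2
  have hunr : AlgebraicGeometry.FormallyUnramified f :=
    formallyUnramified_of_isFormallyEtaleHom f hf
  have hloc : ∀ W : T'.affineOpens, ∃ l : ((W : T'.Opens) : Scheme.{u}) ⟶ X,
      (t ∣_ (W : T'.Opens)) ≫ l = (t ⁻¹ᵁ (W : T'.Opens)).ι ≫ a ∧
        l ≫ f = (W : T'.Opens).ι ≫ b := fun W =>
    exists_lift_on_affine f hf t hker a b w W.1 W.2
  choose l hl1 hl2 using hloc
  have hjU : ∀ W : T'.affineOpens, Set.range ((W : T'.Opens).ι).base ⊆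
      Set.range ((⊤ : T'.Opens).ι).base := by
    intro W
    rw [Scheme.Opens.range_ι, Scheme.Opens.range_ι]
    exact fun _ _ => trivial
  have hcov : ∀ x ∈ (⊤ : T'.Opens), ∃ W : T'.affineOpens,
      x ∈ Set.range ((W : T'.Opens).ι).base := by
    intro x _
    obtain ⟨_, ⟨W, hW, rfl⟩, hxW, -⟩ :=
      T'.isBasis_affineOpens.exists_subset_of_mem_open (Set.mem_univ x) isOpen_univ
    refine ⟨⟨W, hW⟩, ?_⟩
    rw [Scheme.Opens.range_ι]
    exact hxW
  obtain ⟨π, hπ, -⟩ := existsUnique_hom_of_charts (⊤ : T'.Opens)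
    (fun W : T'.affineOpens => ((W : T'.Opens) : Scheme.{u}))
    (fun W => (W : T'.Opens).ι) hjU hcov l (fun W W' => by
      refine ⟨_, _, _, isPullback_opens_inf (W : T'.Opens) (W' : T'.Opens), ?_⟩
      obtain ⟨r1, r2⟩ := restrict_lift f t a b (inf_le_left : (W : T'.Opens) ⊓ W' ≤ W) (l W)
        (hl1 W) (hl2 W)
      obtain ⟨r1', r2'⟩ := restrict_lift f t a b (inf_le_right : (W : T'.Opens) ⊓ W' ≤ W') (l W')
        (hl1 W') (hl2 W')
      exact lift_unique_on_open f t hker _ _ _ (r1.trans r1'.symm) (r2.trans r2'.symm))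
  have hL : ∀ W : T'.affineOpens, (W : T'.Opens).ι ≫ (Scheme.topIso T').inv ≫ π = l W := by
    intro W
    have h1 : (W : T'.Opens).ι ≫ (Scheme.topIso T').inv =
        IsOpenImmersion.lift (⊤ : T'.Opens).ι (W : T'.Opens).ι (hjU W) := by
      rw [← cancel_mono (⊤ : T'.Opens).ι, IsOpenImmersion.lift_fac, Category.assoc,
        ← Scheme.topIso_hom, Iso.inv_hom_id, Category.comp_id]
    rw [← Category.assoc, h1]
    exact hπ W
  have hex : t ≫ ((Scheme.topIso T').inv ≫ π) = a ∧ ((Scheme.topIso T').inv ≫ π) ≫ f = b := by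
    constructor
    · refine Scheme.hom_ext_of_forall _ _ fun x => ?_
      obtain ⟨_, ⟨W, hW, rfl⟩, hxW, -⟩ :=
        T'.isBasis_affineOpens.exists_subset_of_mem_open (Set.mem_univ (t.base x)) isOpen_univ
      refine ⟨t ⁻¹ᵁ W, hxW, ?_⟩
      rw [← Category.assoc, ← morphismRestrict_ι, Category.assoc, hL ⟨W, hW⟩]
      exact hl1 ⟨W, hW⟩
    · refine Scheme.hom_ext_of_forall _ _ fun x => ?_
      obtain ⟨_, ⟨W, hW, rfl⟩, hxW, -⟩ :=
        T'.isBasis_affineOpens.exists_subset_of_mem_open (Set.mem_univ x) isOpen_univ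
      refine ⟨W, hxW, ?_⟩
      rw [← Category.assoc, hL ⟨W, hW⟩]
      exact hl2 ⟨W, hW⟩
  refine ⟨(Scheme.topIso T').inv ≫ π, hex, ?_⟩
  rintro l' ⟨h1', h2'⟩
  have hnil : IsNilpotent t.ker := ⟨2, by rw [sq, hker]; rfl⟩
  exact AlgebraicGeometry.FormallyUnramified.hom_ext t hnil f (h1'.trans hex.1.symm)
    (h2'.trans hex.2.symm)

end Groth.Agent.Lib.Helper6.FormalEtaleLocal
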