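import Groth.Agent.Lib.Helper16.FormalA
import Groth.Agent.Lib.Helper1.LiftSmooth
import Groth.Agent.Lib.Helper1.UnivThick

/-!
# Helper library (helper6): representable smooth / etale / unramified morphisms of sheaves are formally so
-/

set_option autoImplicit false
universe u
open CategoryTheory CategoryTheory.Limits AlgebraicGeometry Opposite

namespace Groth.Agent.Lib.Helper6.FormalRep

open AlgSp Groth.Agent.Lib.Helper16 Groth.Agent.Lib.Helper16.Formal

variable {S : Scheme.{u}}

/-- A representable smooth morphism of sheaves is formally smooth. -/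
theorem isFormallySmoothMor_of_repWith_smooth {F G : Sp S} (a : F ⟶ G) (ha : RepWith @Smooth a) :
    IsFormallySmoothMor a := by
  intro sq
  obtain ⟨P, p, fst, hpb⟩ := ha.rep sq.bot
  have hp : Smooth p.left := ha.property _ _ _ hpb
  obtain ⟨σ₀, hσ₀⟩ := (yon S).map_surjective (hpb.lift sq.top ((yon S).map sq.j) sq.comm)
  have hσ1 : (yon S).map σ₀ ≫ fst = sq.top := by rw [hσ₀, hpb.lift_fst]
  have hσ2 : σ₀ ≫ p = sq.j := by
    apply (yon S).map_injective
    rw [Functor.map_comp, hσ₀, hpb.lift_snd]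
  have hthick : MoreMor.IsFirstOrderThickening sq.j.left :=
    Groth.Agent.Lib.Helper1.UnivThick.isFirstOrderThickening_SpecMap
      (CommRingCat.ofHom (Ideal.Quotient.mk sq.I)) Ideal.Quotient.mk_surjective
      (by
        show RingHom.ker (Ideal.Quotient.mk sq.I) ^ 2 = ⊥
        rw [Ideal.mk_ker]
        exact sq.sq_zero)
  haveI : IsAffine sq.ptT.left := by
    show IsAffine (Spec _)
    infer_instance
  haveI := hp
  obtain ⟨b', hb'1, hb'2⟩ := Groth.Agent.Lib.Helper1.LiftSmooth.exists_lift_of_smooth p.left sq.j.left hthick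
    (𝟙 sq.ptT'.left) σ₀.left (by rw [Category.comp_id, ← Over.comp_left, hσ2])
  have hb'w : b' ≫ P.hom = sq.ptT'.hom := by
    have e := Over.w p
    rw [← e, ← Category.assoc, hb'1, Category.id_comp]
  let b : sq.ptT' ⟶ P := Over.homMk b' hb'w
  have hbp : b ≫ p = 𝟙 _ := Over.OverMorphism.ext hb'1
  have hjb : sq.j ≫ b = σ₀ := Over.OverMorphism.ext hb'2
  refine ⟨(yon S).map b ≫ fst, ?_, ?_⟩
  · rw [← Category.assoc, ← Functor.map_comp, hjb, hσ1]
  · rw [Category.assoc, hpb.w, ← Category.assoc, ← Functor.map_comp, hbp, (yon S).map_id, Category.id_comp]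

/-- A representable unramified morphism of sheaves is formally unramified. -/
theorem isFormallyUnramifiedMor_of_repWith_unramified {F G : Sp S} (a : F ⟶ G)
    (ha : RepWith (@LocallyOfFiniteType ⊓ @FormallyUnramified : MorphismProperty Scheme.{u}) a) :
    IsFormallyUnramifiedMor a := by
  intro sq l l' h1 h2 h3 h4
  obtain ⟨W, w, c, sqW⟩ := ha.rep sq.bot
  have hw : FormallyUnramified w.left := by
    have h := ha.property _ _ _ sqW
    exact h.2
  obtain ⟨σ, hσ⟩ := (yon S).map_surjective (sqW.lift l (𝟙 _) (by rw [h2, Category.id_comp]))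
  obtain ⟨σ', hσ'⟩ := (yon S).map_surjective (sqW.lift l' (𝟙 _) (by rw [h4, Category.id_comp]))
  have hσ1 : (yon S).map σ ≫ c = l := by rw [hσ, sqW.lift_fst]
  have hσ'1 : (yon S).map σ' ≫ c = l' := by rw [hσ', sqW.lift_fst]
  have hσ2 : (yon S).map σ ≫ (yon S).map w = 𝟙 _ := by rw [hσ, sqW.lift_snd]
  have hσ'2 : (yon S).map σ' ≫ (yon S).map w = 𝟙 _ := by rw [hσ', sqW.lift_snd]
  have hj : (yon S).map sq.j ≫ (yon S).map σ = (yon S).map sq.j ≫ (yon S).map σ' := by
    apply sqW.hom_ext
    · rw [Category.assoc, Category.assoc, hσ1, hσ'1, h1, h3]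
    · rw [Category.assoc, Category.assoc, hσ2, hσ'2]
  have hwu : IsFormallyUnramifiedMor ((yon S).map w) := (isFormallyUnramifiedMor_yon_map_iff w).2 hw
  let sq' : InfSq ((yon S).map w) :=
    { A := sq.A, I := sq.I, sq_zero := sq.sq_zero, str := sq.str,
      top := (yon S).map sq.j ≫ (yon S).map σ, bot := 𝟙 _,
      comm := by rw [Category.assoc, hσ2] }
  have key : (yon S).map σ = (yon S).map σ' := hwu sq' _ _ rfl hσ2 hj.symm hσ'2
  rw [← hσ1, ← hσ'1, key]

/-- S10616. -/
theorem main10616 {S : Scheme.{u}} {F G : AlgSp.Sp S} (a : F ⟶ G) :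
    (AlgSp.RepWith @Smooth a → AlgSp.IsFormallySmoothMor a) ∧
    (AlgSp.RepWith @Etale a → AlgSp.IsFormallyEtaleMor a) ∧
    (AlgSp.RepWith (@LocallyOfFiniteType ⊓ @FormallyUnramified) a → AlgSp.IsFormallyUnramifiedMor a) :=
  ⟨isFormallySmoothMor_of_repWith_smooth a, isFormallyEtaleMor_of_repWith_etale a,
    isFormallyUnramifiedMor_of_repWith_unramified a⟩

end Groth.Agent.Lib.Helper6.FormalRep
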