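import Mathlib
import Groth.Agent.Lib.Helper9.FppfSource

/-!
# Locally of finite presentation is fppf-local on the source (helper6)
-/

universe u
open CategoryTheory AlgebraicGeometry

namespace Groth.Agent.Lib.Helper6.FppfSrc

theorem lfp_isLocalAtSource_fppf :
    MorphismProperty.IsLocalAtSource
      (@LocallyOfFinitePresentation : MorphismProperty Scheme.{u}) Scheme.fppfPrecoverage := by
  refine MorphismProperty.IsLocalAtSource.mk_of_iff ?_
  intro X Y f R hR
  have hR' : R ∈ Scheme.precoverage (@Flat ⊓ @LocallyOfFinitePresentation) X := hR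
  constructor
  · intro hf U g hg
    have hgP : (@Flat ⊓ @LocallyOfFinitePresentation : MorphismProperty Scheme.{u}) g := hR'.2 hg
    have : LocallyOfFinitePresentation g := hgP.2
    have : LocallyOfFinitePresentation f := hf
    show LocallyOfFinitePresentation (g ≫ f)
    infer_instance
  · intro H
    refine Groth.Agent.Lib.Helper9.FppfSource.core' (P := @LocallyOfFinitePresentation)
      Groth.Agent.Lib.Helper9.FppfSource.fp_source
      (fun φ ψ => Groth.Agent.Lib.Helper9.FppfSource.fp_desc φ ψ) f (fun x => ?_)
    obtain ⟨U, g, hg, u, hu⟩ :=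
      (Presieve.mem_comap_jointlySurjectivePrecoverage_iff Scheme.forget).mp hR'.1 x
    have hgP : (@Flat ⊓ @LocallyOfFinitePresentation : MorphismProperty Scheme.{u}) g := hR'.2 hg
    exact ⟨U, g, u, hu, hgP.1, hgP.2, H hg⟩

end Groth.Agent.Lib.Helper6.FppfSrc
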