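import Mathlib

set_option autoImplicit false
universe u
open CategoryTheory CategoryTheory.Limits AlgebraicGeometry

namespace Groth.Agent.Lib.Helper6.FpqcCover

/-- (Q) quasi-compactness descends along a quasi-compact surjective base change. -/
theorem quasiCompact_of_pullback_snd {X S S' : Scheme.{u}} (f : X ⟶ S) (g : S' ⟶ S)
    [QuasiCompact g] [Surjective g] (h : QuasiCompact (pullback.snd f g)) : QuasiCompact f := by
  rw [quasiCompact_iff_forall_isAffineOpen]
  intro V hV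
  have h1 : IsCompact ((g ⁻¹ᵁ V : S'.Opens) : Set S') :=
    QuasiCompact.isCompact_preimage (f := g) _ V.2 hV.isCompact
  have h2 : IsCompact (((pullback.snd f g) ⁻¹ᵁ (g ⁻¹ᵁ V) : (pullback f g).Opens) : Set ↥(pullback f g)) :=
    QuasiCompact.isCompact_preimage (f := pullback.snd f g) _ (g ⁻¹ᵁ V).2 h1
  have : Surjective (pullback.fst f g) := inferInstance
  have h3 : ((f ⁻¹ᵁ V : X.Opens) : Set X) =
      (pullback.fst f g) '' (((pullback.snd f g) ⁻¹ᵁ (g ⁻¹ᵁ V) : (pullback f g).Opens) : Set ↥(pullback f g)) := by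
    ext x
    constructor
    · intro hx
      obtain ⟨z, rfl⟩ := (pullback.fst f g).surjective x
      refine ⟨z, ?_, rfl⟩
      change g (pullback.snd f g z) ∈ V
      rw [← Scheme.Hom.comp_apply, ← pullback.condition, Scheme.Hom.comp_apply]
      exact hx
    · rintro ⟨z, hz, rfl⟩
      change f (pullback.fst f g z) ∈ V
      rw [← Scheme.Hom.comp_apply, pullback.condition, Scheme.Hom.comp_apply]
      exact hz
  rw [h3]
  exact h2.image (pullback.fst f g).continuous

/-- the family of affine opens as schemes -/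
abbrev Wfam {S' : Scheme.{u}} (s : Set S'.affineOpens) : s → Scheme.{u} :=
  fun i => ((i.1 : S'.Opens) : Scheme.{u})

/-- (Y) over an affine open `V` of `S`, a quasi-compact flat surjective `g : S' ⟶ S` is refined by
an affine flat surjective cover `Y' ⟶ V` factoring through `S'`. -/
theorem exists_affine_flat_cover {S S' : Scheme.{u}} (g : S' ⟶ S) [QuasiCompact g] [Flat g]
    [Surjective g] (V : S.Opens) (hV : IsAffineOpen V) :
    ∃ (Y' : Scheme.{u}) (_ : IsAffine Y') (u : Y' ⟶ S') (gV : Y' ⟶ (V : Scheme.{u})),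
      Flat u ∧ Flat gV ∧ Surjective gV ∧ gV ≫ V.ι = u ≫ g := by
  have hc : IsCompact ((g ⁻¹ᵁ V : S'.Opens) : Set S') :=
    QuasiCompact.isCompact_preimage (f := g) _ V.2 hV.isCompact
  obtain ⟨s, hsfin, hs⟩ := isCompact_iff_finite_and_eq_biUnion_affineOpens.mp hc
  have : Finite s := hsfin
  have : ∀ i, IsAffine (Wfam s i) := fun i => i.1.2
  have hle : ∀ i : s, (i.1 : S'.Opens) ≤ g ⁻¹ᵁ V := by
    intro i
    rw [hs]
    exact le_iSup₂ (f := fun (j : S'.affineOpens) (_ : j ∈ s) => (j : S'.Opens)) i.1 i.2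
  let c : ∀ i : s, Wfam s i ⟶ (V : Scheme.{u}) := fun i => g.resLE V i.1 (hle i)
  have hc' : ∀ i, c i ≫ V.ι = (i.1 : S'.Opens).ι ≫ g := fun i =>
    Scheme.Hom.resLE_comp_ι _ _
  have hcflat : ∀ i, Flat (c i) := fun i => inferInstance
  refine ⟨∐ Wfam s, inferInstance, Sigma.desc (fun i => (i.1 : S'.Opens).ι), Sigma.desc c,
    inferInstance, inferInstance, ⟨?_⟩, ?_⟩
  · intro v
    obtain ⟨s', hs'⟩ := g.surjective v.1
    have hmem : s' ∈ (g ⁻¹ᵁ V : S'.Opens) := by
      change g s' ∈ V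
      rw [hs']; exact v.2
    rw [hs] at hmem
    simp only [TopologicalSpace.Opens.mem_iSup] at hmem
    obtain ⟨i, hi, hsi⟩ := hmem
    let pt : Wfam s ⟨i, hi⟩ := ⟨s', hsi⟩
    refine ⟨Sigma.ι (Wfam s) ⟨i, hi⟩ pt, ?_⟩
    apply V.ι.injective
    have h1 : V.ι ((Sigma.desc c) ((Sigma.ι (Wfam s) ⟨i, hi⟩) pt)) =
        (Sigma.ι (Wfam s) ⟨i, hi⟩ ≫ Sigma.desc c ≫ V.ι) pt := rfl
    rw [h1, ← Category.assoc, Sigma.ι_desc, hc' ⟨i, hi⟩]
    exact hs'
  · apply Sigma.hom_ext
    intro i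
    rw [← Category.assoc, Sigma.ι_desc, hc' i, ← Category.assoc, Sigma.ι_desc]

end Groth.Agent.Lib.Helper6.FpqcCover
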