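import Mathlib

/-! A projective module over a local ring with nilpotent maximal ideal is free. -/

namespace Groth.Agent.Lib.Helper6.FreeNilp

open IsLocalRing

theorem free_of_projective_of_isNilpotent {R : Type*} [CommRing R] [IsLocalRing R]
    (hnil : IsNilpotent (maximalIdeal R)) (P : Type*) [AddCommGroup P] [Module R P]
    [Module.Projective R P] : Module.Free R P := by
  classical
  letI : Field (R ⧸ maximalIdeal R) := Ideal.Quotient.field (maximalIdeal R)
  let bK := Module.Free.chooseBasis (R ⧸ maximalIdeal R)
    (P ⧸ (maximalIdeal R • ⊤ : Submodule R P))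
  choose p hp using fun i => Submodule.Quotient.mk_surjective _ (bK i)
  let φ : (Module.Free.ChooseBasisIndex (R ⧸ maximalIdeal R)
      (P ⧸ (maximalIdeal R • ⊤ : Submodule R P)) →₀ R) →ₗ[R] P :=
    Finsupp.linearCombination R p
  have key1 : ∀ x, (Submodule.Quotient.mk (φ x) : P ⧸ (maximalIdeal R • ⊤ : Submodule R P)) =
      Finsupp.linearCombination (R ⧸ maximalIdeal R) bK
        (x.mapRange (Ideal.Quotient.mk (maximalIdeal R)) (map_zero _)) := by
    intro x
    induction x using Finsupp.induction_linear with
    | zero => simp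
    | add x y hx hy =>
      rw [map_add, Submodule.Quotient.mk_add, hx, hy, Finsupp.mapRange_add (map_add _), map_add]
    | single i r =>
      rw [Finsupp.linearCombination_single, Finsupp.mapRange_single,
        Finsupp.linearCombination_single, Submodule.Quotient.mk_smul, hp i]
      exact (algebraMap_smul (R ⧸ maximalIdeal R) r (bK i)).symm
  have hker1 : ∀ x, φ x = 0 → ∀ i, x i ∈ maximalIdeal R := by
    intro x hx i
    have h1 := key1 x
    rw [hx, Submodule.Quotient.mk_zero] at h1
    have h2 := (linearIndependent_iff.mp bK.linearIndependent) _ h1.symm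
    have h3 := DFunLike.congr_fun h2 i
    rw [Finsupp.mapRange_apply, Finsupp.zero_apply] at h3
    exact Ideal.Quotient.eq_zero_iff_mem.mp h3
  have h1 : (⊤ : Submodule R P) ≤ LinearMap.range φ ⊔ maximalIdeal R • ⊤ := by
    intro y _
    obtain ⟨c, hc⟩ := Finsupp.mapRange_surjective (Ideal.Quotient.mk (maximalIdeal R))
      (map_zero _) Ideal.Quotient.mk_surjective (bK.repr (Submodule.Quotient.mk y))
    have h2 : (Submodule.Quotient.mk (φ c) : P ⧸ (maximalIdeal R • ⊤ : Submodule R P)) =
        Submodule.Quotient.mk y := by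
      rw [key1 c, hc, bK.linearCombination_repr]
    have h3 : y - φ c ∈ (maximalIdeal R • ⊤ : Submodule R P) := by
      rw [← Submodule.Quotient.mk_eq_zero, Submodule.Quotient.mk_sub, h2, sub_self]
    have : y = φ c + (y - φ c) := by abel
    rw [this]
    exact Submodule.add_mem_sup (LinearMap.mem_range_self φ c) h3
  have hsurj : Function.Surjective φ := by
    rw [← LinearMap.range_eq_top, eq_top_iff]
    obtain ⟨k, hk⟩ := hnil
    have h2 : ∀ j : ℕ, (⊤ : Submodule R P) ≤ LinearMap.range φ ⊔ maximalIdeal R ^ j • ⊤ := by
      intro j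
      induction j with
      | zero => simp
      | succ j ih =>
        calc (⊤ : Submodule R P) ≤ LinearMap.range φ ⊔ maximalIdeal R ^ j • ⊤ := ih
          _ ≤ LinearMap.range φ ⊔ maximalIdeal R ^ j • (LinearMap.range φ ⊔ maximalIdeal R • ⊤) :=
              sup_le_sup_left (Submodule.smul_mono le_rfl h1) _
          _ = LinearMap.range φ ⊔ (maximalIdeal R ^ j • LinearMap.range φ ⊔
                maximalIdeal R ^ j • maximalIdeal R • ⊤) := by rw [Submodule.smul_sup]
          _ ≤ LinearMap.range φ ⊔ maximalIdeal R ^ (j + 1) • ⊤ := by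
              rw [← mul_smul, ← pow_succ]
              exact sup_le le_sup_left
                (sup_le (le_sup_of_le_left Submodule.smul_le_right) le_sup_right)
    have h3 := h2 k
    rw [hk] at h3
    simpa using h3
  obtain ⟨σ, hσ⟩ := Module.projective_lifting_property φ LinearMap.id hsurj
  have hσ' : ∀ y, φ (σ y) = y := fun y => LinearMap.congr_fun hσ y
  have hpow : ∀ j : ℕ, ∀ x, φ x = 0 → ∀ i, x i ∈ maximalIdeal R ^ j := by
    intro j
    induction j with
    | zero => intro x _ i; simp
    | succ j ih =>
      intro x hx i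
      have hρker : ∀ z, φ (z - σ (φ z)) = 0 := fun z => by rw [map_sub, hσ', sub_self]
      have h2 : x = x.sum (fun i' r => r • (Finsupp.single i' (1 : R) -
          σ (φ (Finsupp.single i' (1 : R))))) := by
        have h3 : x = x - σ (φ x) := by rw [hx, map_zero, sub_zero]
        conv_lhs => rw [h3]
        conv_lhs => rw [← Finsupp.sum_single x]
        rw [map_finsuppSum, map_finsuppSum, ← Finsupp.sum_sub]
        apply Finsupp.sum_congr
        intro i' _
        rw [smul_sub, ← map_smul, ← map_smul, Finsupp.smul_single, smul_eq_mul, mul_one]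
      rw [h2, Finsupp.sum, Finsupp.finset_sum_apply]
      apply Ideal.sum_mem
      intro i' _
      rw [Finsupp.smul_apply, smul_eq_mul, pow_succ]
      exact Ideal.mul_mem_mul (ih x hx i') (hker1 _ (hρker _) i)
  have hinj : Function.Injective φ := by
    rw [← LinearMap.ker_eq_bot, LinearMap.ker_eq_bot']
    intro x hx
    obtain ⟨k, hk⟩ := hnil
    ext i
    have := hpow k x hx i
    rw [hk] at this
    simpa using this
  exact Module.Free.of_equiv (LinearEquiv.ofBijective φ ⟨hinj, hsurj⟩)

end Groth.Agent.Lib.Helper6.FreeNilp
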