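import Mathlib
import Groth.Agent.Lib.Helper3.AffinePoints

/-!
# Points of schemes of finite type over `ℤ`

* `isJacobsonRing_int`: `ℤ` is a Jacobson ring.
* `finite_of_field_finiteType_int`: a field of finite type over `ℤ` is finite.
* `finite_residueField_of_isClosed`, `isClosed_of_finite_residueField`.
* `finite_setOf_hom_affine`: finitely many points of an affine open of a `ℤ`-scheme locally of
  finite type whose residue field embeds into a given finite field.
-/

set_option autoImplicit false

open CategoryTheory CategoryTheory.Limits AlgebraicGeometry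

universe u

namespace Groth.Agent.Lib.Helper6.FtInt

lemma isJacobsonRing_int : IsJacobsonRing ℤ := by
  rw [isJacobsonRing_iff_prime_eq]
  intro P hP
  by_cases h0 : P = ⊥
  · subst h0
    refine le_antisymm ?_ Ideal.le_jacobson
    intro n hn
    rw [Ideal.mem_bot]
    by_contra hne
    obtain ⟨p, hp1, hp2⟩ := Nat.exists_infinite_primes (n.natAbs + 1)
    have hpZ : Prime (p : ℤ) := Nat.prime_iff_prime_int.mp hp2
    have hmax : (Ideal.span {(p : ℤ)}).IsMaximal :=
      PrincipalIdealRing.isMaximal_of_irreducible hpZ.irreducible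
    have hmem : n ∈ Ideal.span {(p : ℤ)} := by
      rw [Ideal.jacobson, Ideal.mem_sInf] at hn
      exact hn ⟨bot_le, hmax⟩
    rw [Ideal.mem_span_singleton] at hmem
    have h2 : p ∣ n.natAbs := Int.natCast_dvd.mp hmem
    have h3 := Nat.le_of_dvd (Int.natAbs_pos.mpr hne) h2
    omega
  · have : P.IsMaximal := hP.isMaximal h0
    exact Ideal.jacobson_eq_self_of_isMaximal

lemma finite_of_field_finiteType_int (K : Type*) [Field K] [Algebra.FiniteType ℤ K] : Finite K := by
  have := isJacobsonRing_int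
  have hfin : Module.Finite ℤ K := finite_of_finite_type_of_isJacobsonRing ℤ K
  obtain ⟨p, hp⟩ := CharP.exists K
  rcases Nat.eq_zero_or_pos p with h0 | hpos
  · subst h0
    have hcz : CharZero K := CharP.charP_to_charZero K
    have hint : Algebra.IsIntegral ℤ K := inferInstance
    have hinj : Function.Injective (algebraMap ℤ K) := (algebraMap ℤ K).injective_int
    have hf := isField_of_isIntegral_of_isField hinj (Field.toIsField K)
    exact absurd hf Int.not_isField
  · have hprime : Fact p.Prime := ⟨(CharP.char_is_prime_or_zero K p).resolve_right hpos.ne'⟩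
    let _ : Algebra (ZMod p) K := ZMod.algebra K p
    have : Module.Finite (ZMod p) K := Module.Finite.of_restrictScalars_finite ℤ (ZMod p) K
    exact Module.finite_of_finite (ZMod p)

lemma finiteType_int_of_ulift {R : Type u} [CommRing R] (ψ : ULift.{u} ℤ →+* R)
    (h : ψ.FiniteType) : Algebra.FiniteType ℤ R := by
  have h1 : algebraMap ℤ R =
      ψ.comp (ULift.ringEquiv.symm : ℤ ≃+* ULift.{u} ℤ).toRingHom := RingHom.ext_int _ _
  rw [← RingHom.finiteType_algebraMap, h1]
  exact h.comp (RingHom.FiniteType.of_surjective _ (ULift.ringEquiv.symm).surjective)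

variable {Y : Scheme.{u}} (t : Y ⟶ Spec (CommRingCat.of (ULift.{u} ℤ))) [LocallyOfFiniteType t]

include t in
lemma finite_residueField_of_isClosed (y : Y) (hy : IsClosed ({y} : Set Y)) :
    Finite (Y.residueField y) := by
  have h1 : IsClosedImmersion (Y.fromSpecResidueField y) :=
    isClosed_singleton_iff_isClosedImmersion.mp hy
  have h2 : LocallyOfFiniteType (Y.fromSpecResidueField y ≫ t) := inferInstance
  obtain ⟨ψ, hψ⟩ := Spec.map_surjective (Y.fromSpecResidueField y ≫ t)
  have h3 : ψ.hom.FiniteType := by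
    have : LocallyOfFiniteType (Spec.map ψ) := hψ ▸ h2
    exact (HasRingHomProperty.Spec_iff (P := @LocallyOfFiniteType)).mp this
  have : Algebra.FiniteType ℤ (Y.residueField y) := finiteType_int_of_ulift ψ.hom h3
  exact finite_of_field_finiteType_int _

/-- The evaluation homomorphism `Γ(Y, U) → κ(y)`. -/
noncomputable def evalHom (U : Y.Opens) (y : Y) (hy : y ∈ U) : Γ(Y, U) →+* Y.residueField y :=
  (Y.presheaf.germ U y hy ≫ Y.residue y).hom

lemma ker_evalHom (U : Y.Opens) (hU : IsAffineOpen U) (y : Y) (hy : y ∈ U) :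
    RingHom.ker (evalHom U y hy) = (hU.primeIdealOf ⟨y, hy⟩).asIdeal := by
  ext a
  rw [RingHom.mem_ker]
  have h1 : evalHom U y hy a = (Y.residue y).hom ((Y.presheaf.germ U y hy).hom a) := rfl
  rw [h1]
  have h2 : (Y.residue y).hom ((Y.presheaf.germ U y hy).hom a) = 0 ↔
      (Y.presheaf.germ U y hy).hom a ∈ IsLocalRing.maximalIdeal (Y.presheaf.stalk y) :=
    IsLocalRing.residue_eq_zero_iff _
  rw [h2, IsLocalRing.mem_maximalIdeal, mem_nonunits_iff]
  have h3 := Groth.Agent.Lib.Helper3.mem_basicOpen_iff_notMem_primeIdealOf hU y hy a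
  rw [Scheme.mem_basicOpen Y a y hy] at h3
  rw [h3, not_not]

lemma isMaximal_primeIdealOf_of_finite (U : Y.Opens) (hU : IsAffineOpen U) (y : Y) (hy : y ∈ U)
    (h : Finite (Y.residueField y)) : (hU.primeIdealOf ⟨y, hy⟩).asIdeal.IsMaximal := by
  rw [← ker_evalHom U hU y hy]
  have hprime : (RingHom.ker (evalHom U y hy)).IsPrime := RingHom.ker_isPrime _
  have hfin : Finite (Γ(Y, U) ⧸ RingHom.ker (evalHom U y hy)) :=
    Finite.of_injective _ (RingHom.kerLift_injective (evalHom U y hy))
  exact Ideal.Quotient.maximal_of_isField _ (Finite.isField_of_domain _)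

lemma eq_of_specializes_of_finite_aux (U : Y.Opens) (hU : IsAffineOpen U) (y z : Y) (hsp : y ⤳ z)
    (hz : z ∈ U) (h : Finite (Y.residueField y)) : z = y := by
  have hy : y ∈ U := hsp.mem_open U.isOpen hz
  have hmax := isMaximal_primeIdealOf_of_finite U hU y hy h
  have hle := (Groth.Agent.Lib.Helper3.primeIdealOf_le_iff_specializes hU y z hy hz).mpr hsp
  have heq : (hU.primeIdealOf ⟨y, hy⟩).asIdeal = (hU.primeIdealOf ⟨z, hz⟩).asIdeal :=
    hmax.eq_of_le (hU.primeIdealOf ⟨z, hz⟩).isPrime.ne_top hle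
  have h1 : hU.primeIdealOf ⟨y, hy⟩ = hU.primeIdealOf ⟨z, hz⟩ := PrimeSpectrum.ext heq
  have h2 := hU.fromSpec_primeIdealOf ⟨y, hy⟩
  have h3 := hU.fromSpec_primeIdealOf ⟨z, hz⟩
  rw [h1] at h2
  exact h3.symm.trans h2

lemma isClosed_of_finite_residueField (y : Y) (h : Finite (Y.residueField y)) :
    IsClosed ({y} : Set Y) := by
  rw [← closure_subset_iff_isClosed]
  intro z hz
  have hsp : y ⤳ z := specializes_iff_mem_closure.mpr hz
  obtain ⟨_, ⟨U, hU, rfl⟩, hzU, -⟩ := Y.isBasis_affineOpens.exists_subset_of_mem_open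
    (Set.mem_univ z) isOpen_univ
  exact eq_of_specializes_of_finite_aux U hU y z hsp hzU h

include t in
lemma finiteType_int_sections (U : Y.Opens) (hU : IsAffineOpen U) :
    Algebra.FiniteType ℤ Γ(Y, U) := by
  have h2 : LocallyOfFiniteType (hU.fromSpec ≫ t) := inferInstance
  obtain ⟨ψ, hψ⟩ := Spec.map_surjective (hU.fromSpec ≫ t)
  have h3 : ψ.hom.FiniteType := by
    have : LocallyOfFiniteType (Spec.map ψ) := hψ ▸ h2
    exact (HasRingHomProperty.Spec_iff (P := @LocallyOfFiniteType)).mp this
  exact finiteType_int_of_ulift ψ.hom h3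

lemma finite_ringHom_of_finiteType_int (B : Type*) [CommRing B] [Algebra.FiniteType ℤ B]
    (F : Type*) [CommRing F] [Finite F] : Finite (B →+* F) := by
  obtain ⟨s, hs⟩ := (Algebra.FiniteType.out : (⊤ : Subalgebra ℤ B).FG)
  let Φ : (B →+* F) → (s → F) := fun φ x => φ x
  have hinj : Function.Injective Φ := by
    intro φ₁ φ₂ h12
    have h1 : φ₁.toIntAlgHom = φ₂.toIntAlgHom := by
      apply AlgHom.ext_of_adjoin_eq_top hs
      intro x hx
      exact congrFun h12 ⟨x, hx⟩
    ext b
    exact congrArg (fun g : B →ₐ[ℤ] F => g b) h1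
  exact Finite.of_injective Φ hinj

include t in
lemma finite_setOf_hom_affine (F : Type*) [Field F] [Finite F] (U : Y.Opens)
    (hU : IsAffineOpen U) :
    {y : Y | y ∈ U ∧ Nonempty (Y.residueField y →+* F)}.Finite := by
  have := finiteType_int_sections t U hU
  have hfin : Finite (Γ(Y, U) →+* F) := finite_ringHom_of_finiteType_int _ F
  rw [← Set.finite_coe_iff]
  let Φ : {y : Y | y ∈ U ∧ Nonempty (Y.residueField y →+* F)} → (Γ(Y, U) →+* F) :=
    fun y => (y.2.2.some).comp (evalHom U y.1 y.2.1)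
  have hker : ∀ y : {y : Y | y ∈ U ∧ Nonempty (Y.residueField y →+* F)},
      RingHom.ker (Φ y) = (hU.primeIdealOf ⟨y.1, y.2.1⟩).asIdeal := by
    intro y
    rw [← ker_evalHom U hU y.1 y.2.1]
    ext a
    simp only [RingHom.mem_ker, Φ, RingHom.comp_apply]
    exact map_eq_zero_iff _ (RingHom.injective _)
  have hinj : Function.Injective Φ := by
    intro y y' hyy'
    have h1 : (hU.primeIdealOf ⟨y.1, y.2.1⟩).asIdeal = (hU.primeIdealOf ⟨y'.1, y'.2.1⟩).asIdeal := by
      rw [← hker y, ← hker y', hyy']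
    have h2 : hU.primeIdealOf ⟨y.1, y.2.1⟩ = hU.primeIdealOf ⟨y'.1, y'.2.1⟩ := PrimeSpectrum.ext h1
    have h3 := hU.fromSpec_primeIdealOf ⟨y.1, y.2.1⟩
    have h4 := hU.fromSpec_primeIdealOf ⟨y'.1, y'.2.1⟩
    rw [h2] at h3
    exact Subtype.ext (h3.symm.trans h4)
  exact Finite.of_injective Φ hinj

include t in
/-- Main theorem (EGA IV 10.4.11-style): on a quasi-compact scheme locally of finite type over `ℤ`,
closed points are the points with finite residue field, and for every finite field `F` only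
finitely many points have residue field embedding into `F`. -/
theorem closed_iff_finite_and_finite_setOf_hom [CompactSpace Y] :
    (∀ y : Y, IsClosed ({y} : Set Y) ↔ Finite (Y.residueField y)) ∧
    ∀ (F : Type) [Field F] [Finite F], {y : Y | Nonempty (Y.residueField y →+* F)}.Finite := by
  refine ⟨fun y => ⟨finite_residueField_of_isClosed t y, isClosed_of_finite_residueField y⟩, ?_⟩
  intro F _ _
  have hcov : ∀ y : Y, ∃ U : Y.Opens, IsAffineOpen U ∧ y ∈ U := by
    intro y
    obtain ⟨_, ⟨U, hU, rfl⟩, hyU, -⟩ := Y.isBasis_affineOpens.exists_subset_of_mem_open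
      (Set.mem_univ y) isOpen_univ
    exact ⟨U, hU, hyU⟩
  choose U hU hyU using hcov
  obtain ⟨s, hs⟩ := isCompact_univ.elim_finite_subcover (fun y => ((U y : Y.Opens) : Set Y))
    (fun y => (U y).isOpen) (fun y _ => Set.mem_iUnion.mpr ⟨y, hyU y⟩)
  refine Set.Finite.subset (Set.Finite.biUnion s.finite_toSet
    (fun y _ => finite_setOf_hom_affine t F (U y) (hU y))) ?_
  intro z hz
  obtain ⟨y, hy, hzy⟩ := Set.mem_iUnion₂.mp (hs (Set.mem_univ z))
  exact Set.mem_iUnion₂.mpr ⟨y, hy, hzy, hz⟩

end Groth.Agent.Lib.Helper6.FtInt
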