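import Mathlib
import Groth.Prelude.Def_Neron
import Groth.Prelude.Def_Coh
import Groth.Agent.S1536
import Groth.Agent.Lib.Helper6.FibSurfCurve

/-! Global functions of an integral, flat, proper scheme over a domain `R` whose generic fibre is
geometrically irreducible and geometrically reduced: `R → Γ(X, O_X)` is bijective. -/

set_option autoImplicit false
set_option linter.style.haveILetI false

namespace Groth.Agent.Lib.Helper6.GenFibGlobal

open AlgebraicGeometry CategoryTheory CategoryTheory.Limits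

universe u

lemma geomConn {X S : Scheme.{u}} (f : X ⟶ S) [GeometricallyIrreducible f] :
    GeometricallyConnected f :=
  ⟨fun K _ y Z fst snd h => by
    haveI : IrreducibleSpace Z :=
      GeometricallyIrreducible.geometrically_irreducibleSpace (f := f) y fst snd h
    infer_instance⟩

theorem mem_basicOpen_iff_notMem_primeIdealOf {X : Scheme.{u}} {U : X.Opens} (hU : IsAffineOpen U)
    (x : U) (a : Γ(X, U)) : (x : X) ∈ X.basicOpen a ↔ a ∉ (hU.primeIdealOf x).asIdeal := by
  have h1 : hU.fromSpec (hU.primeIdealOf x) = (x : X) := hU.fromSpec_primeIdealOf x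
  have h2 := hU.fromSpec_preimage_basicOpen a
  have h3 : hU.primeIdealOf x ∈ hU.fromSpec ⁻¹ᵁ X.basicOpen a ↔
      hU.primeIdealOf x ∈ PrimeSpectrum.basicOpen a := by rw [h2]; exact Iff.rfl
  rw [← h1]
  exact h3

variable {R : Type u} [CommRing R] [IsDomain R] {X : Scheme.{u}}
  (f : X ⟶ Spec (CommRingCat.of R))

/-- The ring map `R → Γ(X, O_X)` (same function as `Coh.toGlobal f`). -/
noncomputable def tg : R →+* Γ(X, ⊤) :=
  f.appTop.hom.comp (Scheme.ΓSpecIso (CommRingCat.of R)).inv.hom

lemma surjective_base [IsIntegral X] [Flat f] [UniversallyClosed f] :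
    Function.Surjective f.base := by
  intro y
  have hcl : IsClosed (Set.range f.base) := f.isClosedMap.isClosed_range
  have hsp : f.base (genericPoint X) ⤳ y :=
    (PrimeSpectrum.le_iff_specializes (R := R) (f.base (genericPoint X)) y).mp
      (show (f.base (genericPoint X)).asIdeal ≤ y.asIdeal by
        rw [FibSurfCurve.genericPoint_asIdeal f]; exact bot_le)
  exact hsp.mem_closed hcl ⟨_, rfl⟩

/-- the unique point of `Spec K` maps to the generic point. -/
lemma exists_fst_eq_genericPoint [IsIntegral X] [Flat f] :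
    ∃ z : ↑(pullback f (Neron.genPt R)),
      (pullback.fst f (Neron.genPt R)).base z = genericPoint X := by
  obtain ⟨pt, hpt⟩ : ∃ pt : (Spec (CommRingCat.of (FractionRing R)) : Scheme.{u}),
      pt.asIdeal = ⊥ :=
    ⟨(⟨⊥, Ideal.isPrime_bot⟩ : PrimeSpectrum (FractionRing R)), rfl⟩
  have h1 : (f.base (genericPoint X)).asIdeal = ((Neron.genPt R).base pt).asIdeal := by
    rw [FibSurfCurve.genericPoint_asIdeal f]
    symm
    change Ideal.comap (algebraMap R (FractionRing R)) pt.asIdeal = ⊥
    rw [hpt]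
    exact (RingHom.injective_iff_ker_eq_bot _).mp (IsFractionRing.injective R (FractionRing R))
  have h : f.base (genericPoint X) = (Neron.genPt R).base pt := PrimeSpectrum.ext h1
  obtain ⟨z, hz, -⟩ := Scheme.Pullback.exists_preimage_pullback (genericPoint X) pt h
  exact ⟨z, hz⟩

lemma fst_appTop_injective [IsIntegral X] [Flat f] :
    Function.Injective (pullback.fst f (Neron.genPt R)).appTop.hom := by
  obtain ⟨z, hz⟩ := exists_fst_eq_genericPoint f
  haveI : IsDominant (pullback.fst f (Neron.genPt R)) := by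
    refine ⟨?_⟩
    have hcl : closure ({genericPoint X} : Set X) = Set.univ := genericPoint_spec X
    have hd : Dense ({genericPoint X} : Set X) := dense_iff_closure_eq.mpr hcl
    exact hd.mono (by rintro _ rfl; exact ⟨z, hz⟩)
  haveI : QuasiCompact (Neron.genPt R) := inferInstance
  haveI : IsSchemeTheoreticallyDominant (pullback.fst f (Neron.genPt R)) :=
    IsSchemeTheoreticallyDominant.of_isDominant _
  exact (pullback.fst f (Neron.genPt R)).app_injective ⊤

lemma toGlobal_snd_algebraMap (t : R) :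
    tg (pullback.snd f (Neron.genPt R)) (algebraMap R (FractionRing R) t) =
      (pullback.fst f (Neron.genPt R)).appTop.hom (tg f t) := by
  have h1 := Scheme.ΓSpecIso_inv_naturality (CommRingCat.ofHom (algebraMap R (FractionRing R)))
  have h2 : f.appTop ≫ (pullback.fst f (Neron.genPt R)).appTop =
      (Neron.genPt R).appTop ≫ (pullback.snd f (Neron.genPt R)).appTop := by
    rw [← Scheme.Hom.comp_appTop, ← Scheme.Hom.comp_appTop, pullback.condition]
  have h3 : (Scheme.ΓSpecIso (CommRingCat.of (FractionRing R))).inv.hom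
      (algebraMap R (FractionRing R) t) =
      (Neron.genPt R).appTop.hom ((Scheme.ΓSpecIso (CommRingCat.of R)).inv.hom t) :=
    congrArg (fun φ => φ.hom t) h1
  have h4 : (pullback.fst f (Neron.genPt R)).appTop.hom
      (f.appTop.hom ((Scheme.ΓSpecIso (CommRingCat.of R)).inv.hom t)) =
      (pullback.snd f (Neron.genPt R)).appTop.hom
        ((Neron.genPt R).appTop.hom ((Scheme.ΓSpecIso (CommRingCat.of R)).inv.hom t)) :=
    congrArg (fun φ => φ.hom ((Scheme.ΓSpecIso (CommRingCat.of R)).inv.hom t)) h2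
  show (pullback.snd f (Neron.genPt R)).appTop.hom
      ((Scheme.ΓSpecIso (CommRingCat.of (FractionRing R))).inv.hom
        (algebraMap R (FractionRing R) t)) = _
  rw [h3]
  exact h4.symm

lemma genFib_global [IsProper f]
    [GeometricallyIrreducible (pullback.snd f (Neron.genPt R))]
    [GeometricallyReduced (pullback.snd f (Neron.genPt R))] :
    Nontrivial Γ(pullback f (Neron.genPt R), ⊤) ∧
    ∀ b : Γ(pullback f (Neron.genPt R), ⊤),
      ∃ c : FractionRing R, tg (pullback.snd f (Neron.genPt R)) c = b := by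
  letI : (pullback f (Neron.genPt R)).Over (Spec (CommRingCat.of (FractionRing R))) :=
    ⟨pullback.snd f (Neron.genPt R)⟩
  haveI : IsProper (pullback f (Neron.genPt R) ↘ Spec (CommRingCat.of (FractionRing R))) :=
    inferInstanceAs (IsProper (pullback.snd f (Neron.genPt R)))
  haveI : GeometricallyReduced
      (pullback f (Neron.genPt R) ↘ Spec (CommRingCat.of (FractionRing R))) :=
    inferInstanceAs (GeometricallyReduced (pullback.snd f (Neron.genPt R)))
  haveI : GeometricallyConnected
      (pullback f (Neron.genPt R) ↘ Spec (CommRingCat.of (FractionRing R))) :=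
    geomConn (pullback.snd f (Neron.genPt R))
  have h1 := Groth.Agent.S1536.result (FractionRing R) (pullback f (Neron.genPt R))
  letI : Algebra (FractionRing R) Γ(pullback f (Neron.genPt R), ⊤) :=
    (Coh.toGlobal (pullback f (Neron.genPt R) ↘
      Spec (CommRingCat.of (FractionRing R)))).toAlgebra
  let e := Groth.Agent.Lib.Helper23.GeomH0.H0structEquiv (FractionRing R)
    (pullback f (Neron.genPt R))
  have h2 : Module.finrank (FractionRing R) Γ(pullback f (Neron.genPt R), ⊤) = 1 :=
    e.finrank_eq.symm.trans h1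
  haveI hnt : Nontrivial Γ(pullback f (Neron.genPt R), ⊤) :=
    Module.nontrivial_of_finrank_pos (R := FractionRing R) (by rw [h2]; exact Nat.one_pos)
  refine ⟨hnt, fun b => ?_⟩
  obtain ⟨c, hc⟩ := (finrank_eq_one_iff_of_nonzero'
    (1 : Γ(pullback f (Neron.genPt R), ⊤)) one_ne_zero).mp h2 b
  refine ⟨c, ?_⟩
  rw [← hc, Algebra.smul_def, mul_one]
  rfl

/-- Descent along a flat surjective morphism: divisibility of `r` by `s` in global functions
descends to the base ring. -/
lemma exists_mul_eq_of_flat [Flat f] (hsurj : Function.Surjective f.base)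
    (r s : R) (a : Γ(X, ⊤)) (h : tg f r = a * tg f s) :
    ∃ w : R, w * s = r := by
  classical
  obtain ⟨J, hJ⟩ : ∃ J : Ideal R, ∀ v, v ∈ J ↔ ∃ w, w * s = r * v :=
    ⟨Submodule.comap (LinearMap.mulLeft R r) (Ideal.span {s}), fun v => by
      rw [Submodule.mem_comap, LinearMap.mulLeft_apply, Ideal.mem_span_singleton']⟩
  suffices hJtop : J = ⊤ by
    have h1 : (1 : R) ∈ J := hJtop ▸ Submodule.mem_top
    obtain ⟨w, hw⟩ := (hJ 1).mp h1
    exact ⟨w, by rw [hw, mul_one]⟩
  by_contra hne
  obtain ⟨M, hM, hJM⟩ := Ideal.exists_le_maximal J hne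
  obtain ⟨y, hy⟩ : ∃ y : (Spec (CommRingCat.of R) : Scheme.{u}), y.asIdeal = M :=
    ⟨(⟨M, hM.isPrime⟩ : PrimeSpectrum R), rfl⟩
  obtain ⟨x, hx⟩ := hsurj y
  obtain ⟨W, hW, hxW, -⟩ := exists_isAffineOpen_mem_and_subset (X := X) (x := x)
    (U := ⊤) trivial
  have e : W ≤ f ⁻¹ᵁ ⊤ := le_top
  obtain ⟨ψ, hψ⟩ : ∃ ψ : R →+* Γ(X, W), ψ =
      (f.appLE ⊤ W e).hom.comp (Scheme.ΓSpecIso (CommRingCat.of R)).inv.hom := ⟨_, rfl⟩
  obtain ⟨ρ, hρ⟩ : ∃ ρ : Γ(X, ⊤) →+* Γ(X, W), ρ = (X.presheaf.map (homOfLE e).op).hom :=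
    ⟨_, rfl⟩
  have hψρ : ∀ t, ψ t = ρ (tg f t) := fun t => by rw [hψ, hρ]; rfl
  have hflat : ψ.Flat := by
    rw [hψ]
    refine RingHom.Flat.comp ?_ (f.flat_appLE (isAffineOpen_top _) hW e)
    exact RingHom.Flat.of_bijective
      (ConcreteCategory.bijective_of_isIso (Scheme.ΓSpecIso (CommRingCat.of R)).inv)
  letI : Algebra R Γ(X, W) := ψ.toAlgebra
  haveI : Module.Flat R Γ(X, W) := hflat
  have hq : ∀ v ∈ M, ψ v ∈ (hW.primeIdealOf ⟨x, hxW⟩).asIdeal := by
    intro v hv
    by_contra hnot
    have hxb : x ∈ X.basicOpen (ψ v) :=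
      (mem_basicOpen_iff_notMem_primeIdealOf hW ⟨x, hxW⟩ (ψ v)).mpr hnot
    have hb : X.basicOpen (ψ v) = W ⊓ f ⁻¹ᵁ ((Spec (CommRingCat.of R)).basicOpen
        ((Scheme.ΓSpecIso (CommRingCat.of R)).inv.hom v)) := by
      rw [hψ]
      exact Scheme.basicOpen_appLE f W ⊤ e _
    rw [hb] at hxb
    have h3 : f.base x ∈ (Spec (CommRingCat.of R)).basicOpen
        ((Scheme.ΓSpecIso (CommRingCat.of R)).inv.hom v) := hxb.2
    have h4 : f.base x ∈ PrimeSpectrum.basicOpen v :=
      (congrArg (fun U : (Spec (CommRingCat.of R)).Opens => f.base x ∈ U)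
        (basicOpen_eq_of_affine (R := CommRingCat.of R) v)).mp h3
    have h5 : v ∉ (f.base x).asIdeal := h4
    rw [hx, hy] at h5
    exact h5 hv
  have hrel : ∑ i : Fin 2, (![r, -s] i) • (![1, ρ a] i : Γ(X, W)) = 0 := by
    rw [Fin.sum_univ_two]
    simp only [Matrix.cons_val_zero, Matrix.cons_val_one]
    rw [Algebra.smul_def, Algebra.smul_def, RingHom.algebraMap_toAlgebra, mul_one, map_neg,
      hψρ r, hψρ s, h, map_mul]
    ring
  obtain ⟨k, A, yv, hA1, hA2⟩ := Module.Flat.isTrivialRelation_of_sum_smul_eq_zero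
    (R := R) (M := Γ(X, W)) (f := ![r, -s]) (x := ![1, ρ a]) hrel
  have hA0 : ∀ j, A 0 j ∈ M := by
    intro j
    apply hJM
    rw [hJ]
    have h6 := hA2 j
    rw [Fin.sum_univ_two] at h6
    simp only [Matrix.cons_val_zero, Matrix.cons_val_one] at h6
    exact ⟨A 1 j, by linear_combination -h6⟩
  have h1 : (1 : Γ(X, W)) ∈ (hW.primeIdealOf ⟨x, hxW⟩).asIdeal := by
    have h7 := hA1 0
    simp only [Matrix.cons_val_zero] at h7
    rw [h7]
    refine Ideal.sum_mem _ fun j _ => ?_
    rw [Algebra.smul_def, RingHom.algebraMap_toAlgebra]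
    exact Ideal.mul_mem_right _ _ (hq _ (hA0 j))
  exact (hW.primeIdealOf ⟨x, hxW⟩).isPrime.ne_top ((Ideal.eq_top_iff_one _).mpr h1)

theorem main' [IsIntegral X] [Flat f] [IsProper f]
    [GeometricallyIrreducible (pullback.snd f (Neron.genPt R))]
    [GeometricallyReduced (pullback.snd f (Neron.genPt R))] :
    Function.Bijective (tg f) := by
  have hfst := fst_appTop_injective f
  have hnat := toGlobal_snd_algebraMap f
  obtain ⟨hnt, hK⟩ := genFib_global f
  haveI := hnt
  have hinjK : Function.Injective (tg (pullback.snd f (Neron.genPt R))) :=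
    RingHom.injective _
  have hinj : Function.Injective (tg f) := by
    intro t₁ t₂ h
    apply IsFractionRing.injective R (FractionRing R)
    apply hinjK
    rw [hnat, hnat, h]
  refine ⟨hinj, ?_⟩
  intro a
  obtain ⟨c, hc⟩ := hK ((pullback.fst f (Neron.genPt R)).appTop.hom a)
  obtain ⟨⟨r, s⟩, hrs⟩ := IsLocalization.surj (nonZeroDivisors R) c
  have hs0 : algebraMap R (FractionRing R) (s : R) ≠ 0 :=
    (map_ne_zero_iff _ (IsFractionRing.injective R (FractionRing R))).mpr
      (nonZeroDivisors.ne_zero s.2)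
  have h1 : tg f r = a * tg f (s : R) := by
    apply hfst
    rw [map_mul, ← hnat, ← hnat, ← hc, ← map_mul, hrs]
  obtain ⟨w, hw⟩ := exists_mul_eq_of_flat f (surjective_base f) r s a h1
  refine ⟨w, ?_⟩
  apply hfst
  rw [← hnat, ← hc]
  congr 1
  apply mul_right_cancel₀ hs0
  rw [← map_mul, hw, hrs]

theorem main [IsIntegral X] [Flat f] [IsProper f]
    [GeometricallyIrreducible (pullback.snd f (Neron.genPt R))]
    [GeometricallyReduced (pullback.snd f (Neron.genPt R))] :
    Function.Bijective (Coh.toGlobal f) := main' f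

end Groth.Agent.Lib.Helper6.GenFibGlobal
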