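import Mathlib
import Groth.Agent.Lib.Helper28.GenFreeFT

/-!
# Generic freeness of cokernels: the relative inductive step

A variant of helper28's `GenFree.step`: the quotient of `M` by an `R`-submodule `U` of the generating
submodule `M₀` is generically free as soon as `M₀ ⧸ U` is.
-/

set_option autoImplicit false
universe u

namespace Groth.Agent.Lib.Helper6.GenFlatCoker

open TensorProduct nonZeroDivisors
open Groth.Agent.Lib.Helper28.GenFree

section RelStep

variable {R : Type u} [CommRing R] [IsDomain R]
  {S' : Type u} [CommRing S'] [Algebra R S']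
  {M : Type u} [AddCommGroup M] [Module S' M] [Module R M] [IsScalarTower R S' M]
  (φ : M →ₗ[S'] M) (M₀ : Submodule S' M)

set_option maxHeartbeats 800000 in
theorem relStep [IsNoetherianRing (Localization (pR R S'))]
    (hM₀ : M₀.FG) (hsup : ⨆ i, M₀.map (φ ^ i) = ⊤)
    (IH : ∀ (N : Type u) [AddCommGroup N] [Module S' N] [Module R N] [IsScalarTower R S' N]
      [Module.Finite S' N], ∃ f : R, f ≠ 0 ∧ FreeAt f N)
    (U : Submodule R M) (hU : U ≤ M₀.restrictScalars R)
    (h0 : ∃ f : R, f ≠ 0 ∧ FreeAt f (↥M₀ ⧸ U.comap (M₀.subtype.restrictScalars R))) :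
    ∃ f : R, f ≠ 0 ∧ FreeAt f (M ⧸ U) := by
  have : Module.Finite S' ↥M₀ := Module.Finite.iff_fg.2 hM₀
  obtain ⟨i₀, hi₀⟩ := exists_stable (R := R) ⟨Qs φ M₀, Qs_mono φ M₀⟩
  obtain ⟨a₀, ha₀, hfree₀⟩ := h0
  choose a ha hfree using fun i => IH (Ns φ M₀ i)
  set f : R := a₀ * ∏ i ∈ Finset.range (i₀ + 1), a i with hf
  have hf0 : f ≠ 0 := mul_ne_zero ha₀ (Finset.prod_ne_zero_iff.2 (fun i _ => ha i))
  refine ⟨f, hf0, ?_⟩
  have hfreeM₀ : FreeAt f (↥M₀ ⧸ U.comap (M₀.subtype.restrictScalars R)) :=
    hfree₀.of_dvd (Dvd.intro _ rfl)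
  have hfreeN : ∀ i, FreeAt f (Ns φ M₀ i) := by
    intro i
    by_cases hi : i ≤ i₀
    · refine (hfree i).of_dvd (dvd_mul_of_dvd_right ?_ _)
      exact Finset.dvd_prod_of_mem _ (Finset.mem_range.2 (Nat.lt_succ_of_le hi))
    · have hi' : i₀ ≤ i := le_of_not_ge hi
      have h₀ : FreeAt f (Ns φ M₀ i₀) := by
        refine (hfree i₀).of_dvd (dvd_mul_of_dvd_right ?_ _)
        exact Finset.dvd_prod_of_mem _ (Finset.mem_range.2 (Nat.lt_succ_self i₀))
      let σ : Ns φ M₀ i₀ →ₗ[R] Ns φ M₀ i :=
        (Submodule.factor (Qs_mono φ M₀ hi')).restrictScalars R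
      have hσ : Function.Surjective σ := by
        intro z
        obtain ⟨x, rfl⟩ := Submodule.mkQ_surjective _ z
        exact ⟨(Qs φ M₀ i₀).mkQ x, rfl⟩
      have htors : ∀ z ∈ LinearMap.ker σ, ∃ r ∈ R⁰, r • z = 0 := by
        intro z hz
        obtain ⟨x, rfl⟩ := Submodule.mkQ_surjective _ z
        have hx : x ∈ Qs φ M₀ i := by
          rw [LinearMap.mem_ker] at hz
          exact (Submodule.Quotient.mk_eq_zero _).1 hz
        obtain ⟨r, hr, hrx⟩ := hi₀ i hi' x hx
        refine ⟨r, hr, ?_⟩
        rw [← LinearMap.map_smul_of_tower, Submodule.mkQ_apply, Submodule.Quotient.mk_eq_zero]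
        exact hrx
      have hbij := baseChange_bijective_of_torsion_ker hf0 σ hσ htors h₀
      unfold FreeAt at h₀ ⊢
      exact Module.Free.of_equiv (LinearEquiv.ofBijective _ hbij)
  unfold FreeAt
  let L := Localization.Away f
  have : ∀ i, Module.Free L (L ⊗[R] Ns φ M₀ i) := hfreeN
  have hUF : ∀ i, U ≤ LinearMap.ker ((Fil φ M₀ i).mkQ.restrictScalars R) := by
    intro i x hx
    rw [LinearMap.mem_ker]
    exact (Submodule.Quotient.mk_eq_zero _).2 (Fil_mono φ M₀ (Nat.zero_le i) (hU hx))
  let q : ∀ i, (M ⧸ U) →ₗ[R] (M ⧸ Fil φ M₀ i) := fun i =>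
    U.liftQ ((Fil φ M₀ i).mkQ.restrictScalars R) (hUF i)
  have hq : ∀ i m, q i (U.mkQ m) = (Fil φ M₀ i).mkQ m := fun i m => rfl
  have hqsurj : ∀ i, Function.Surjective (q i) := by
    intro i z
    obtain ⟨m, rfl⟩ := Submodule.mkQ_surjective _ z
    exact ⟨U.mkQ m, rfl⟩
  refine free_of_tower' (A := L) (X := L ⊗[R] (M ⧸ U)) (fun i => L ⊗[R] (M ⧸ Fil φ M₀ i))
    (fun i => (q i).baseChange L) ?_
    (fun i => ((tr φ M₀ i).restrictScalars R).baseChange L) ?_ ?_ ?_
    (fun i => L ⊗[R] Ns φ M₀ i)
    (fun i => ((nubar φ M₀ i).restrictScalars R).baseChange L) ?_ ?_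
  · intro i
    exact LinearMap.lTensor_surjective _ (hqsurj i)
  · intro i
    rw [← LinearMap.baseChange_comp]
    congr 1
    apply LinearMap.ext
    intro z
    obtain ⟨m, rfl⟩ := Submodule.mkQ_surjective _ z
    rfl
  · rw [eq_top_iff]
    intro z _
    induction z using TensorProduct.induction_on with
    | zero => exact zero_mem _
    | tmul l z =>
      obtain ⟨m, rfl⟩ := Submodule.mkQ_surjective _ z
      have hm : m ∈ ⨆ i, Fil φ M₀ i := by
        have : (⨆ i, M₀.map (φ ^ i)) ≤ ⨆ i, Fil φ M₀ i :=
          iSup_mono (map_pow_le_Fil φ M₀)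
        apply this
        rw [hsup]
        exact Submodule.mem_top
      obtain ⟨i, hi⟩ := (Submodule.mem_iSup_of_directed _ (Fil_mono φ M₀).directed_le).1 hm
      refine Submodule.mem_iSup_of_mem i ?_
      rw [LinearMap.mem_ker, LinearMap.baseChange_tmul]
      have : q i (U.mkQ m) = 0 := by
        rw [hq]
        exact (Submodule.Quotient.mk_eq_zero _).2 hi
      rw [this, TensorProduct.tmul_zero]
    | add x y hx hy => exact add_mem (hx Submodule.mem_top) (hy Submodule.mem_top)
  · -- the kernel of the first projection is `L ⊗ (M₀ ⧸ U')`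
    let U' : Submodule R ↥M₀ := U.comap (M₀.subtype.restrictScalars R)
    have hle : U' ≤ LinearMap.ker (U.mkQ ∘ₗ (M₀.subtype.restrictScalars R)) := by
      intro x hx
      rw [LinearMap.mem_ker, LinearMap.comp_apply, Submodule.mkQ_apply,
        Submodule.Quotient.mk_eq_zero]
      exact hx
    let j : (↥M₀ ⧸ U') →ₗ[R] (M ⧸ U) := U'.liftQ (U.mkQ ∘ₗ (M₀.subtype.restrictScalars R)) hle
    have hj : ∀ x : ↥M₀, j (U'.mkQ x) = U.mkQ (x : M) := fun x => rfl
    have hjinj : Function.Injective j := by
      rw [← LinearMap.ker_eq_bot]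
      apply Submodule.ker_liftQ_eq_bot
      intro x hx
      rw [LinearMap.mem_ker, LinearMap.comp_apply, Submodule.mkQ_apply,
        Submodule.Quotient.mk_eq_zero] at hx
      exact hx
    have hjex : Function.Exact j (q 0) := by
      intro z
      obtain ⟨m, rfl⟩ := Submodule.mkQ_surjective _ z
      rw [hq, Submodule.mkQ_apply, Submodule.Quotient.mk_eq_zero, Fil_zero]
      constructor
      · intro hm
        exact ⟨U'.mkQ ⟨m, hm⟩, rfl⟩
      · rintro ⟨y, hy⟩
        obtain ⟨x, rfl⟩ := Submodule.mkQ_surjective _ y
        rw [hj, Submodule.mkQ_apply, Submodule.mkQ_apply, Submodule.Quotient.eq] at hy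
        have h1 : (x : M) - m ∈ M₀ := hU hy
        have h2 : m = (x : M) - ((x : M) - m) := by abel
        rw [h2]
        exact M₀.sub_mem x.2 h1
    let ι₀ : L ⊗[R] (↥M₀ ⧸ U') →ₗ[L] L ⊗[R] (M ⧸ U) := j.baseChange L
    have hinj : Function.Injective ι₀ :=
      Module.Flat.lTensor_preserves_injective_linearMap (M := L) j hjinj
    have hex : Function.Exact ι₀ ((q 0).baseChange L) := by
      have := lTensor_exact L (f := j) (g := q 0) hjex (hqsurj 0)
      exact this
    have hker : LinearMap.ker ((q 0).baseChange L) = LinearMap.range ι₀ :=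
      (LinearMap.exact_iff).1 hex
    unfold FreeAt at hfreeM₀
    rw [hker]
    exact Module.Free.of_equiv (LinearEquiv.ofInjective ι₀ hinj)
  · intro i
    exact Module.Flat.lTensor_preserves_injective_linearMap (M := L)
      ((nubar φ M₀ i).restrictScalars R) (nubar_injective φ M₀ i)
  · intro i
    exact lTensor_exact L (f := (nubar φ M₀ i).restrictScalars R)
      (g := (tr φ M₀ i).restrictScalars R) (exact_nubar_tr φ M₀ i) (tr_surjective φ M₀ i)

end RelStep

section Induction

variable {R : Type u} [CommRing R] [IsDomain R] {A : Type u} [CommRing A] [Algebra R A]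
  [Algebra.FiniteType R A]

set_option maxHeartbeats 1600000 in
/-- Generic freeness of `N ⧸ U` for `N` finite over a polynomial ring over `A` and `U` a finitely
generated `A`-submodule. -/
theorem genFree_quot_mvPolynomial (n : ℕ) : ∀ (N : Type u) [AddCommGroup N]
    [Module (MvPolynomial (Fin n) A) N] [Module A N] [Module R N]
    [IsScalarTower A (MvPolynomial (Fin n) A) N] [IsScalarTower R A N]
    [Module.Finite (MvPolynomial (Fin n) A) N] (U : Submodule A N) (_ : U.FG),
    ∃ f : R, f ≠ 0 ∧ FreeAt f (N ⧸ U.restrictScalars R) := by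
  induction n with
  | zero =>
    intro N _ _ _ _ _ _ _ U hU
    have : Module.Finite A (MvPolynomial (Fin 0) A) :=
      Module.Finite.equiv (MvPolynomial.isEmptyAlgEquiv A (Fin 0)).symm.toLinearEquiv
    have : Module.Finite A N := Module.Finite.trans (MvPolynomial (Fin 0) A) N
    obtain ⟨f, hf, hfree⟩ := genFree_finiteType (R := R) (S := A) (N ⧸ U)
    exact ⟨f, hf, hfree.of_linearEquiv (Submodule.Quotient.restrictScalarsEquiv R U).symm⟩
  | succ n ih =>
    intro N _ _ _ _ _ _ _ U hU
    classical
    let S' := MvPolynomial (Fin n) A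
    let P₁ := MvPolynomial (Fin (n + 1)) A
    let ι : S' →ₐ[A] P₁ := MvPolynomial.rename Fin.castSucc
    letI modS' : Module S' N := Module.compHom N (ι : S' →+* P₁)
    have hsm : ∀ (s : S') (m : N), s • m = ι s • m := fun _ _ => rfl
    have towerAS' : IsScalarTower A S' N := ⟨fun a s m => by
      rw [hsm, hsm, map_smul, smul_assoc]⟩
    have hCa : ∀ (a : A) (m : N), (MvPolynomial.C a : S') • m = a • m := by
      intro a m
      have : (MvPolynomial.C a : S') = algebraMap A S' a := rfl
      rw [this, algebraMap_smul]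
    have towerRS' : IsScalarTower R S' N := by
      apply IsScalarTower.of_algebraMap_smul
      intro r m
      have : algebraMap R S' r = MvPolynomial.C (algebraMap R A r) := rfl
      rw [this, hCa, algebraMap_smul]
    have ftS' : Algebra.FiniteType R S' :=
      Algebra.FiniteType.trans (inferInstance : Algebra.FiniteType R A)
        (inferInstance : Algebra.FiniteType A S')
    have hN : IsNoetherianRing (Localization (pR R S')) := isNoetherianRing_pR_finiteType
    let φ : N →ₗ[S'] N :=
      { toFun := fun m => (MvPolynomial.X (Fin.last n) : P₁) • m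
        map_add' := fun _ _ => smul_add _ _ _
        map_smul' := fun s m => by
          show (MvPolynomial.X (Fin.last n) : P₁) • (s • m) =
            s • ((MvPolynomial.X (Fin.last n) : P₁) • m)
          rw [hsm, hsm, smul_smul, smul_smul, mul_comm] }
    have hφ : ∀ m, φ m = (MvPolynomial.X (Fin.last n) : P₁) • m := fun _ => rfl
    obtain ⟨t, ht⟩ := (Module.Finite.fg_top : (⊤ : Submodule P₁ N).FG)
    obtain ⟨s, hs⟩ := hU
    let M₀ : Submodule S' N := Submodule.span S' ((t ∪ s : Finset N) : Set N)
    have hM₀ : M₀.FG := Submodule.fg_span (Finset.finite_toSet _)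
    have hUM₀ : ∀ x ∈ U, x ∈ M₀ := by
      intro x hx
      rw [← hs] at hx
      induction hx using Submodule.span_induction with
      | mem y hy =>
        apply Submodule.subset_span
        rw [Finset.coe_union]
        exact Or.inr hy
      | zero => exact zero_mem _
      | add y z _ _ hy hz => exact add_mem hy hz
      | smul a y _ hy =>
        rw [← hCa]
        exact M₀.smul_mem _ hy
    -- the images of `M₀` under the powers of `φ` span
    have hsup : ⨆ i, M₀.map (φ ^ i) = ⊤ := by
      set Fi : Submodule S' N := ⨆ i, M₀.map (φ ^ i) with hFi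
      have hφF : ∀ m ∈ Fi, φ m ∈ Fi := by
        intro m hm
        have : Fi.map φ ≤ Fi := by
          rw [hFi, Submodule.map_iSup]
          refine iSup_le (fun i => ?_)
          rw [← Submodule.map_comp]
          have : φ ∘ₗ (φ ^ i) = φ ^ (i + 1) := (pow_succ' φ i).symm
          rw [this]
          exact le_iSup (fun i => M₀.map (φ ^ i)) (i + 1)
        exact this ⟨m, hm, rfl⟩
      have hclosed : ∀ (p : P₁) (m : N), m ∈ Fi → p • m ∈ Fi := by
        intro p
        induction p using MvPolynomial.induction_on with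
        | C r =>
          intro m hm
          have : (MvPolynomial.C r : P₁) • m = (MvPolynomial.C r : S') • m := by
            rw [hsm]
            congr 1
            exact (MvPolynomial.rename_C _ r).symm
          rw [this]
          exact Fi.smul_mem _ hm
        | add p q hp hq =>
          intro m hm
          rw [add_smul]
          exact add_mem (hp m hm) (hq m hm)
        | mul_X p k hp =>
          intro m hm
          rw [mul_smul]
          apply hp
          rcases Fin.eq_castSucc_or_eq_last k with ⟨k', rfl⟩ | rfl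
          · have : (MvPolynomial.X (Fin.castSucc k') : P₁) • m =
                (MvPolynomial.X k' : S') • m := by
              rw [hsm]
              congr 1
              exact (MvPolynomial.rename_X _ k').symm
            rw [this]
            exact Fi.smul_mem _ hm
          · rw [← hφ]
            exact hφF m hm
      rw [eq_top_iff]
      intro m _
      have hm : m ∈ Submodule.span P₁ (t : Set N) := by rw [ht]; exact Submodule.mem_top
      induction hm using Submodule.span_induction with
      | mem x hx =>
        have h0 : M₀ ≤ Fi := by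
          have := le_iSup (fun i => M₀.map (φ ^ i)) 0
          rw [pow_zero] at this
          refine le_trans ?_ this
          intro y hy
          exact ⟨y, hy, rfl⟩
        apply h0
        apply Submodule.subset_span
        rw [Finset.coe_union]
        exact Or.inl hx
      | zero => exact zero_mem _
      | add x y _ _ hx hy => exact add_mem (hx Submodule.mem_top) (hy Submodule.mem_top)
      | smul p x _ hx => exact hclosed p x (hx Submodule.mem_top)
    -- the induction hypothesis applied to `M₀`
    have finM₀ : Module.Finite S' ↥M₀ := Module.Finite.iff_fg.2 hM₀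
    have towerRA : IsScalarTower R A ↥M₀ := ⟨fun r a x => Subtype.ext (smul_assoc r a (x : N))⟩
    let U₀ : Submodule A ↥M₀ := U.comap (M₀.subtype.restrictScalars A)
    have hU₀ : U₀.FG := by
      apply Submodule.fg_of_fg_map_injective (M₀.subtype.restrictScalars A)
        (Submodule.subtype_injective _)
      have : U₀.map (M₀.subtype.restrictScalars A) = U := by
        apply le_antisymm
        · rintro _ ⟨x, hx, rfl⟩
          exact hx
        · intro x hx
          exact ⟨⟨x, hUM₀ x hx⟩, hx, rfl⟩
      rw [this]
      exact ⟨s, hs⟩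
    obtain ⟨f₀, hf₀, hfree₀⟩ := ih ↥M₀ U₀ hU₀
    have hUle : U.restrictScalars R ≤ M₀.restrictScalars R := fun x hx => hUM₀ x hx
    have heq : U₀.restrictScalars R =
        (U.restrictScalars R).comap (M₀.subtype.restrictScalars R) := rfl
    refine relStep φ M₀ hM₀ hsup
      (fun N' _ _ _ _ _ => genFree_finiteType (R := R) (S := S') N')
      (U.restrictScalars R) hUle ⟨f₀, hf₀, ?_⟩
    rw [← heq]
    exact hfree₀

end Induction

section Main

open Groth.Agent.Lib.Helper28.GenFree

/-- Generic flatness of the cokernel of an `A`-linear map from a finite `A`-module to a finite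
`B`-module, `R → A → B` of finite type, `R` a domain. -/
theorem exists_flat_coker {R A B : Type u} [CommRing R] [IsDomain R] [CommRing A] [CommRing B]
    [Algebra R A] [Algebra A B] [Algebra.FiniteType R A] [Algebra.FiniteType A B]
    {M N : Type u} [AddCommGroup M] [Module A M] [Module.Finite A M]
    [AddCommGroup N] [Module B N] [Module A N] [Module R N] [IsScalarTower A B N]
    [IsScalarTower R A N] [Module.Finite B N] (u : M →ₗ[A] N) :
    ∃ f : R, f ≠ 0 ∧ Module.Flat (Localization.Away f)
      (LocalizedModule (Submonoid.powers f) (N ⧸ (LinearMap.range u).restrictScalars R)) := by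
  obtain ⟨n, π, hπ⟩ := Algebra.FiniteType.iff_quotient_mvPolynomial''.1
    (inferInstance : Algebra.FiniteType A B)
  letI : Module (MvPolynomial (Fin n) A) N := Module.compHom N (π : MvPolynomial (Fin n) A →+* B)
  have hsm : ∀ (p : MvPolynomial (Fin n) A) (m : N), p • m = π p • m := fun _ _ => rfl
  have tower : IsScalarTower A (MvPolynomial (Fin n) A) N := ⟨fun r p m => by
    rw [hsm, hsm, map_smul, smul_assoc]⟩
  have fin : Module.Finite (MvPolynomial (Fin n) A) N := by
    obtain ⟨t, ht⟩ := (Module.Finite.fg_top : (⊤ : Submodule B N).FG)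
    refine ⟨⟨t, ?_⟩⟩
    rw [eq_top_iff]
    intro m _
    have hm : m ∈ Submodule.span B (t : Set N) := by rw [ht]; exact Submodule.mem_top
    induction hm using Submodule.span_induction with
    | mem x hx => exact Submodule.subset_span hx
    | zero => exact zero_mem _
    | add x y _ _ hx hy => exact add_mem (hx Submodule.mem_top) (hy Submodule.mem_top)
    | smul s x _ hx =>
      obtain ⟨p, rfl⟩ := hπ s
      rw [← hsm]
      exact Submodule.smul_mem _ _ (hx Submodule.mem_top)
  have hfg : (LinearMap.range u).FG := by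
    rw [LinearMap.range_eq_map]
    exact Submodule.FG.map _ Module.Finite.fg_top
  obtain ⟨f, hf, hfree⟩ := genFree_quot_mvPolynomial (R := R) (A := A) n N (LinearMap.range u) hfg
  refine ⟨f, hf, ?_⟩
  have : Module.Free (Localization.Away f)
      (LocalizedModule (Submonoid.powers f) (N ⧸ (LinearMap.range u).restrictScalars R)) :=
    (freeAt_iff_localizedModule f).1 hfree
  infer_instance

end Main

end Groth.Agent.Lib.Helper6.GenFlatCoker
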