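import Mathlib

/-!
# Descent of `geometrically P` along a surjective base change

If `P` is a property of schemes that passes to the target of a surjective morphism, and
`g : Y' ⟶ Y` is surjective, then `geometrically P (pullback.snd f g)` implies `geometrically P f`.
-/

set_option autoImplicit false
universe u
open CategoryTheory CategoryTheory.Limits AlgebraicGeometry

namespace Groth.Agent.Lib.Helper6.GeomDescent

theorem geometrically_of_surjective_pullback (P : ObjectProperty Scheme.{u})
    (hP : ∀ {A B : Scheme.{u}} (h : A ⟶ B), Surjective h → P A → P B)
    {X Y Y' : Scheme.{u}} (f : X ⟶ Y) (g : Y' ⟶ Y) [Surjective g]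
    (hgeom : geometrically P (pullback.snd f g)) : geometrically P f := by
  intro K _ y Z fst snd h
  have hsurjW : Surjective (pullback.fst y g) :=
    MorphismProperty.pullback_fst (P := @Surjective) y g inferInstance
  obtain ⟨w, -⟩ := hsurjW.surj default
  let a : Spec ((pullback y g).residueField w) ⟶ Spec (.of K) :=
    (pullback y g).fromSpecResidueField w ≫ pullback.fst y g
  let b : Spec ((pullback y g).residueField w) ⟶ Y' :=
    (pullback y g).fromSpecResidueField w ≫ pullback.snd y g
  have hab : a ≫ y = b ≫ g := by
    simp only [a, b, Category.assoc, pullback.condition]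
  have hPL : P (pullback (pullback.snd f g) b) :=
    pullback_of_geometrically hgeom ((pullback y g).residueField w) b
  have S1 : IsPullback (pullback.fst f g) (pullback.snd f g) f g := IsPullback.of_hasPullback f g
  have S2 : IsPullback (pullback.fst (pullback.snd f g) b) (pullback.snd (pullback.snd f g) b)
      (pullback.snd f g) b := IsPullback.of_hasPullback _ _
  have Big := S2.paste_horiz S1
  rw [← hab] at Big
  have left := IsPullback.of_right' Big h
  have ha : Surjective a := ⟨fun x => ⟨default, Subsingleton.elim _ _⟩⟩
  have hhs := MorphismProperty.of_isPullback (P := @Surjective) left.flip ha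
  exact hP _ hhs hPL

end Groth.Agent.Lib.Helper6.GeomDescent
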