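import Mathlib

/-!
# Scheme-theoretic dominance facts

* `ker_toImage`: for quasi-compact `f`, `f.toImage` is scheme-theoretically dominant.
* `app_injective_of_flat_of_surjective`, `ker_eq_bot_of_flat_of_surjective`: a flat surjective
  morphism (no quasi-compactness) has injective maps on sections, hence trivial kernel.
-/

set_option autoImplicit false
universe u
open CategoryTheory CategoryTheory.Limits AlgebraicGeometry

namespace Groth.Agent.Lib.Helper6.SchDom

theorem ker_toImage {X Y : Scheme.{u}} (f : X ⟶ Y) [QuasiCompact f] : f.toImage.ker = ⊥ := by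
  refine Scheme.IdealSheafData.ext_of_iSup_eq_top
    (fun V : Y.affineOpens =>
      (⟨f.imageι ⁻¹ᵁ V.1, V.2.preimage f.imageι⟩ : f.image.affineOpens)) ?_ ?_
  · show ⨆ V : Y.affineOpens, f.imageι ⁻¹ᵁ V.1 = ⊤
    rw [← Scheme.Hom.preimage_iSup, iSup_affineOpens_eq_top Y]
    rfl
  · intro V
    simp only [Scheme.Hom.ker_apply, Scheme.IdealSheafData.ideal_bot, Pi.bot_apply]
    rw [← RingHom.injective_iff_ker_eq_bot]
    exact f.toImage_app_injective V

set_option backward.isDefEq.respectTransparency.types false in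
theorem stalkMap_injective_of_flat {W Z : Scheme.{u}} (h : W ⟶ Z) [Flat h] (x : W) :
    Function.Injective (h.stalkMap x).hom := by
  algebraize [(h.stalkMap x).hom]
  have : Module.FaithfullyFlat (Z.presheaf.stalk (h x)) (W.presheaf.stalk x) :=
    @Module.FaithfullyFlat.of_flat_of_isLocalHom _ _ _ _ _ _ _
      (Flat.stalkMap h x) (h.toLRSHom.prop x)
  exact ‹RingHom.FaithfullyFlat _›.injective

theorem app_injective_of_flat_of_surjective {W Z : Scheme.{u}} (h : W ⟶ Z) [Flat h]
    [Surjective h] (U : Z.Opens) : Function.Injective (h.app U) := by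
  rw [injective_iff_map_eq_zero]
  intro s hs
  refine TopCat.Presheaf.section_ext Z.sheaf U s 0 ?_
  intro z hz
  obtain ⟨x, rfl⟩ := h.surjective z
  have hinj := stalkMap_injective_of_flat h x
  rw [injective_iff_map_eq_zero] at hinj
  have h1 : (h.stalkMap x).hom (Z.presheaf.germ U (h x) hz s) = 0 :=
    (Scheme.Hom.germ_stalkMap_apply h U x hz s).trans (by rw [hs, map_zero])
  exact (hinj _ h1).trans (map_zero _).symm

theorem ker_eq_bot_of_flat_of_surjective {W Z : Scheme.{u}} (h : W ⟶ Z) [Flat h]
    [Surjective h] : h.ker = ⊥ := by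
  rw [eq_bot_iff, Scheme.IdealSheafData.le_def]
  intro U
  refine (h.ideal_ker_le U).trans ?_
  rw [(RingHom.injective_iff_ker_eq_bot _).mp (app_injective_of_flat_of_surjective h U.1)]
  exact bot_le

end Groth.Agent.Lib.Helper6.SchDom
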