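import Mathlib
import Groth.Agent.Lib.Helper6.SchDom

/-!
# Descent of `geometrically P` along a surjective base change, flat variant

If `P` passes to the target of a flat surjective morphism and `g : Y' ⟶ Y` is surjective, then
`geometrically P (pullback.snd f g)` implies `geometrically P f`.  Integrality descends along flat
surjective morphisms.
-/

set_option autoImplicit false
universe u
open CategoryTheory CategoryTheory.Limits AlgebraicGeometry

namespace Groth.Agent.Lib.Helper6.GeomDescent

theorem geometrically_of_flat_surjective_pullback (P : ObjectProperty Scheme.{u})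
    (hP : ∀ {A B : Scheme.{u}} (h : A ⟶ B), Flat h → Surjective h → P A → P B)
    {X Y Y' : Scheme.{u}} (f : X ⟶ Y) (g : Y' ⟶ Y) [Surjective g]
    (hgeom : geometrically P (pullback.snd f g)) : geometrically P f := by
  intro K _ y Z fst snd h
  have hsurjW : Surjective (pullback.fst y g) :=
    MorphismProperty.pullback_fst (P := @Surjective) y g inferInstance
  obtain ⟨w, -⟩ := hsurjW.surj default
  let a : Spec ((pullback y g).residueField w) ⟶ Spec (.of K) :=
    (pullback y g).fromSpecResidueField w ≫ pullback.fst y g
  let b : Spec ((pullback y g).residueField w) ⟶ Y' :=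
    (pullback y g).fromSpecResidueField w ≫ pullback.snd y g
  have hab : a ≫ y = b ≫ g := by
    simp only [a, b, Category.assoc, pullback.condition]
  have hPL : P (pullback (pullback.snd f g) b) :=
    pullback_of_geometrically hgeom ((pullback y g).residueField w) b
  have S1 : IsPullback (pullback.fst f g) (pullback.snd f g) f g := IsPullback.of_hasPullback f g
  have S2 : IsPullback (pullback.fst (pullback.snd f g) b) (pullback.snd (pullback.snd f g) b)
      (pullback.snd f g) b := IsPullback.of_hasPullback _ _
  have Big := S2.paste_horiz S1
  rw [← hab] at Big
  have left := IsPullback.of_right' Big h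
  have ha : Surjective a := ⟨fun x => ⟨default, Subsingleton.elim _ _⟩⟩
  have haf : Flat a := inferInstance
  have hhs := MorphismProperty.of_isPullback (P := @Surjective) left.flip ha
  have hhf := MorphismProperty.of_isPullback (P := @Flat) left.flip haf
  exact hP _ hhf hhs hPL

theorem isIntegral_of_flat_surjective {A B : Scheme.{u}} (h : A ⟶ B) [Flat h] [Surjective h]
    [IsIntegral A] : IsIntegral B := by
  haveI : IrreducibleSpace ↥B := by
    have huniv : IsIrreducible (Set.univ : Set ↥B) := by
      rw [← Set.image_univ_of_surjective h.surjective]
      exact (IrreducibleSpace.isIrreducible_univ ↥A).image _ h.continuous.continuousOn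
    exact (irreducibleSpace_def ↥B).mpr huniv
  haveI : IsReduced B :=
    ⟨fun U => isReduced_of_injective _ (SchDom.app_injective_of_flat_of_surjective h U)⟩
  exact isIntegral_of_irreducibleSpace_of_isReduced B

end Groth.Agent.Lib.Helper6.GeomDescent
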