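import Groth.Agent.Lib.Helper14.GeomRedAt
import Groth.Agent.Lib.Helper16.GeomRedSp
import Groth.Agent.Lib.Helper16.Charts
import Groth.Agent.Lib.Helper16.FibreProduct

/-!
# Helper library (helper6): geometric reducedness of algebraic spaces over a field and field extensions
-/

set_option autoImplicit false
universe u
open CategoryTheory CategoryTheory.Limits AlgebraicGeometry
open AlgSp

namespace Groth.Agent.Lib.Helper6.GeomRedBC

open Groth.Agent.Lib.Helper16

/-- `A ⨯ Z ⟶ B ⨯ Z` is the base change of `f : A ⟶ B` along the first projection. -/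
theorem isPullback_prod_map_fst {C : Type*} [Category C] [HasBinaryProducts C] (Z : C) {A B : C}
    (f : A ⟶ B) :
    IsPullback (Limits.prod.map f (𝟙 Z)) (Limits.prod.fst : A ⨯ Z ⟶ A) Limits.prod.fst f := by
  apply isPullback_of_exists_lift
  · exact Limits.prod.map_fst _ _
  · intro Q a b hab
    refine ⟨Limits.prod.lift b (a ≫ Limits.prod.snd), ?_, ?_⟩
    · apply Limits.prod.hom_ext
      · rw [Category.assoc, Limits.prod.map_fst, Limits.prod.lift_fst_assoc, hab]
      · rw [Category.assoc, Limits.prod.map_snd, Category.comp_id, Limits.prod.lift_snd]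
    · exact Limits.prod.lift_fst _ _
  · intro Q l l' h1 h2
    apply Limits.prod.hom_ext
    · exact h2
    · have := congrArg (· ≫ Limits.prod.snd) h1
      simp only [Category.assoc, Limits.prod.map_snd, Category.comp_id] at this
      exact this

/-- `Spec K` as a scheme over `Spec k`. -/
noncomputable abbrev T {k : Type u} [Field k] (K : Type u) [Field K] [Algebra k K] :
    Over (Spec (CommRingCat.of k)) :=
  Over.mk (Spec.map (CommRingCat.ofHom (algebraMap k K)))

section

variable {k : Type u} [Field k] (K : Type u) [Field K] [Algebra k K]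

/-- The base change of a chart `a : h_U ⟶ X` to `X_K = X ⨯ h_{Spec K}`. -/
noncomputable def aK {X : Sp (Spec (CommRingCat.of k))} {U : Over (Spec (CommRingCat.of k))}
    (a : (yon (Spec (CommRingCat.of k))).obj U ⟶ X) :
    (yon (Spec (CommRingCat.of k))).obj (U ⨯ T K) ⟶
      X ⨯ (yon (Spec (CommRingCat.of k))).obj (T K) :=
  prodComparison (yon (Spec (CommRingCat.of k))) U (T K) ≫ Limits.prod.map a (𝟙 _)

theorem aK_fst {X : Sp (Spec (CommRingCat.of k))} {U : Over (Spec (CommRingCat.of k))}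
    (a : (yon (Spec (CommRingCat.of k))).obj U ⟶ X) :
    aK K a ≫ Limits.prod.fst =
      (yon (Spec (CommRingCat.of k))).map (Limits.prod.fst : U ⨯ T K ⟶ U) ≫ a := by
  rw [aK, Category.assoc, Limits.prod.map_fst, ← Category.assoc, prodComparison_fst]

theorem aK_snd {X : Sp (Spec (CommRingCat.of k))} {U : Over (Spec (CommRingCat.of k))}
    (a : (yon (Spec (CommRingCat.of k))).obj U ⟶ X) :
    aK K a ≫ Limits.prod.snd =
      (yon (Spec (CommRingCat.of k))).map (Limits.prod.snd : U ⨯ T K ⟶ T K) := by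
  rw [aK, Category.assoc, Limits.prod.map_snd, Category.comp_id, prodComparison_snd]

theorem isPullback_aK {X : Sp (Spec (CommRingCat.of k))} {U : Over (Spec (CommRingCat.of k))}
    (a : (yon (Spec (CommRingCat.of k))).obj U ⟶ X) :
    IsPullback (aK K a)
      ((yon (Spec (CommRingCat.of k))).map (Limits.prod.fst : U ⨯ T K ⟶ U))
      (Limits.prod.fst : X ⨯ (yon (Spec (CommRingCat.of k))).obj (T K) ⟶ X) a := by
  have h1 := isPullback_prod_map_fst ((yon (Spec (CommRingCat.of k))).obj (T K)) a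
  refine IsPullback.of_iso' h1 (asIso (prodComparison (yon (Spec (CommRingCat.of k))) U (T K)))
    (Iso.refl _) (Iso.refl _) (Iso.refl _) ?_ ?_ ?_ ?_
  · simp only [asIso_hom, Iso.refl_hom, Category.comp_id]
    rfl
  · simp only [asIso_hom, Iso.refl_hom, Category.comp_id]
    rw [prodComparison_fst]
  · simp only [Iso.refl_hom, Category.comp_id, Category.id_comp]
  · simp only [Iso.refl_hom, Category.comp_id, Category.id_comp]

theorem repWith_aK {X : Sp (Spec (CommRingCat.of k))} {U : Over (Spec (CommRingCat.of k))}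
    (a : (yon (Spec (CommRingCat.of k))).obj U ⟶ X) (P : MorphismProperty Scheme.{u})
    [P.IsStableUnderBaseChange] (ha : RepWith P a) : RepWith P (aK K a) :=
  (RepWith P).of_isPullback (isPullback_aK K a).flip ha

/-- The underlying scheme of `U ⨯ Spec K` is the base change `U_K`. -/
noncomputable def eK (U : Over (Spec (CommRingCat.of k))) :
    (U ⨯ T K).left ≅ FBase.bc U.hom K :=
  Over.prodLeftIsoPullback U (T K)

theorem eK_hom_bcπ (U : Over (Spec (CommRingCat.of k))) :
    (eK K U).hom ≫ FBase.bcπ U.hom K = (Limits.prod.fst : U ⨯ T K ⟶ U).left :=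
  Over.prodLeftIsoPullback_hom_fst U (T K)

theorem eK_hom_bcStr (U : Over (Spec (CommRingCat.of k))) :
    (eK K U).hom ≫ FBase.bcStr U.hom K = (Limits.prod.snd : U ⨯ T K ⟶ T K).left :=
  Over.prodLeftIsoPullback_hom_snd U (T K)

theorem eK_inv_fst (U : Over (Spec (CommRingCat.of k))) :
    (eK K U).inv ≫ (Limits.prod.fst : U ⨯ T K ⟶ U).left = FBase.bcπ U.hom K :=
  Over.prodLeftIsoPullback_inv_fst U (T K)

theorem isGeomReducedAt_UK (U : Over (Spec (CommRingCat.of k))) (u'' : ↥(U ⨯ T K).left) :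
    FBase.IsGeomReducedAt (k := K) (Limits.prod.snd : U ⨯ T K ⟶ T K).left u'' ↔
      FBase.IsGeomReducedAt U.hom ((Limits.prod.fst : U ⨯ T K ⟶ U).left u'') := by
  have h1 := GeomRed.isGeomReducedAt_iff_of_etale (FBase.bcStr U.hom K) (eK K U).hom u''
  rw [eK_hom_bcStr] at h1
  have h2 := Groth.Agent.Lib.Helper14.GeomRedAt.geomAt_iff_bcStr U.hom
    (fun R _ => _root_.IsReduced R)
    (fun φ hφ h => Groth.Agent.Lib.Helper14.GeomRedAt.isReduced_of_injective' φ hφ h) K
    ((eK K U).hom u'')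
  have h3 : (FBase.bcπ U.hom K).base ((eK K U).hom u'') =
      (Limits.prod.fst : U ⨯ T K ⟶ U).left u'' := by
    have h4 := congrArg (fun φ : (U ⨯ T K).left ⟶ U.left => φ u'') (eK_hom_bcπ K U)
    exact h4
  refine h1.trans ?_
  rw [← h3]
  exact h2.symm

theorem isGeomReducedAt_iff_of_chartsK {X : Sp (Spec (CommRingCat.of k))}
    {U₁ U₂ : Over (Spec (CommRingCat.of k))}
    (a₁ : (yon (Spec (CommRingCat.of k))).obj U₁ ⟶ X ⨯ (yon (Spec (CommRingCat.of k))).obj (T K))
    (ha₁ : RepWith @Etale a₁) (q₁ : U₁ ⟶ T K)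
    (hq₁ : a₁ ≫ Limits.prod.snd = (yon (Spec (CommRingCat.of k))).map q₁)
    (a₂ : (yon (Spec (CommRingCat.of k))).obj U₂ ⟶ X ⨯ (yon (Spec (CommRingCat.of k))).obj (T K))
    (ha₂ : RepWith @Etale a₂) (q₂ : U₂ ⟶ T K)
    (hq₂ : a₂ ≫ Limits.prod.snd = (yon (Spec (CommRingCat.of k))).map q₂)
    (u₁ : ↥U₁.left) (u₂ : ↥U₂.left) (h : Points.ofPt a₁ u₁ = Points.ofPt a₂ u₂) :
    FBase.IsGeomReducedAt (k := K) q₁.left u₁ ↔ FBase.IsGeomReducedAt (k := K) q₂.left u₂ := by
  obtain ⟨W, r, s₀, sq⟩ := ha₁.rep a₂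
  obtain ⟨s, rfl⟩ := (yon (Spec (CommRingCat.of k))).map_surjective s₀
  have hr : Etale r.left := ha₁.property _ _ _ sq
  have hs : Etale s.left := ha₂.property _ _ _ sq.flip
  obtain ⟨w, hw1, hw2⟩ := exists_point_of_isPullback_yon_yon sq u₁ u₂ h
  have hq : s ≫ q₁ = r ≫ q₂ := by
    apply (yon (Spec (CommRingCat.of k))).map_injective
    rw [(yon (Spec (CommRingCat.of k))).map_comp, (yon (Spec (CommRingCat.of k))).map_comp,
      ← hq₁, ← hq₂, ← Category.assoc, ← Category.assoc, sq.w]
  have hql : s.left ≫ q₁.left = r.left ≫ q₂.left := by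
    have h5 := congrArg (fun φ : W ⟶ T K => φ.left) hq
    exact h5
  have h1 := GeomRed.isGeomReducedAt_iff_of_etale (k := K) q₁.left s.left w
  have h2 := GeomRed.isGeomReducedAt_iff_of_etale (k := K) q₂.left r.left w
  rw [hw1] at h1
  rw [hw2] at h2
  rw [hql] at h1
  exact h1.symm.trans h2

theorem exists_point_aK {X : Sp (Spec (CommRingCat.of k))} {U : Over (Spec (CommRingCat.of k))}
    (a : (yon (Spec (CommRingCat.of k))).obj U ⟶ X)
    (x' : Points (X ⨯ (yon (Spec (CommRingCat.of k))).obj (T K))) (u : ↥U.left)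
    (h : Points.map Limits.prod.fst x' = Points.ofPt a u) :
    ∃ u'' : ↥(U ⨯ T K).left, Points.ofPt (aK K a) u'' = x' ∧
      (Limits.prod.fst : U ⨯ T K ⟶ U).left u'' = u :=
  exists_point_of_isPullback_yon (isPullback_aK K a) x' u h

instance surjective_SpecMap_field : Surjective (Spec.map (CommRingCat.ofHom (algebraMap k K))) := by
  refine ⟨fun y => ?_⟩
  obtain ⟨z⟩ : Nonempty (PrimeSpectrum K) := inferInstance
  exact ⟨z, Subsingleton.elim (α := PrimeSpectrum k) _ _⟩

theorem surjective_fst_left (U : Over (Spec (CommRingCat.of k))) (u : ↥U.left) :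
    ∃ u'' : ↥(U ⨯ T K).left, (Limits.prod.fst : U ⨯ T K ⟶ U).left u'' = u := by
  have : Surjective (FBase.bcπ U.hom K) := by
    unfold FBase.bcπ
    exact MorphismProperty.pullback_fst (P := @Surjective) _ _ inferInstance
  obtain ⟨z, hz⟩ := (inferInstance : Surjective (FBase.bcπ U.hom K)).surj u
  refine ⟨(eK K U).inv z, ?_⟩
  rw [← Scheme.Hom.comp_apply, eK_inv_fst]
  exact hz

theorem isReduced_bc_of_geometricallyReduced {Y : Scheme.{u}} (f : Y ⟶ Spec (CommRingCat.of k))
    (hg : GeometricallyReduced f) : AlgebraicGeometry.IsReduced (FBase.bc f K) := by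
  have h := (Groth.Agent.Lib.Helper14.GeomRedAt.geometricallyReduced_iff_forall_isGeomReducedAt f).1 hg
  have : ∀ z : ↥(FBase.bc f K), _root_.IsReduced ((FBase.bc f K).presheaf.stalk z) :=
    fun z => h _ K z rfl
  exact isReduced_of_isReduced_stalk _

/-- `X_K` is reduced iff `U_K` is reduced, for an atlas `(U, a)` of `X`. -/
theorem etaleLocally_isReduced_iff {X : Sp (Spec (CommRingCat.of k))}
    {U : Over (Spec (CommRingCat.of k))}
    (a : (yon (Spec (CommRingCat.of k))).obj U ⟶ X) (hae : RepWith @Etale a)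
    (has : RepWith @Surjective a) :
    EtaleLocally (fun V => AlgebraicGeometry.IsReduced V)
        (X ⨯ (yon (Spec (CommRingCat.of k))).obj (T K)) ↔
      AlgebraicGeometry.IsReduced (FBase.bc U.hom K) := by
  constructor
  · rintro ⟨U', p, hpe, hps, hred⟩
    have : AlgebraicGeometry.IsReduced U'.left := hred
    have : ∀ z : ↥(FBase.bc U.hom K),
        _root_.IsReduced ((FBase.bc U.hom K).presheaf.stalk z) := by
      intro z
      have h1 := GeomRed.isReduced_stalk_iff_of_etale (eK K U).inv z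
      rw [h1]
      obtain ⟨u', hu'⟩ := ofPt_surjective_of_surjective p hps
        (Points.ofPt (aK K a) ((eK K U).inv z))
      have h2 := HasAtChart.iff_of_charts (fun V v => _root_.IsReduced (V.presheaf.stalk v))
        (fun g hg v => @GeomRed.isReduced_stalk_iff_of_etale _ _ g hg v) p hpe (aK K a)
        (repWith_aK K a _ hae) u' _ hu'
      exact h2.1 inferInstance
    exact isReduced_of_isReduced_stalk _
  · intro hred
    have := hred
    refine ⟨U ⨯ T K, aK K a, repWith_aK K a _ hae, repWith_aK K a _ has, ?_⟩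
    exact isReduced_of_isOpenImmersion (eK K U).hom

end

theorem main10479 (k : Type u) [Field k] (X : AlgSp.Space (Spec (CommRingCat.of k))) (K : Type u) [Field K] [Algebra k K]
    (x : AlgSp.Points X.obj) (x' : AlgSp.Points (X.obj ⨯ (AlgSp.yon (Spec (CommRingCat.of k))).obj (Over.mk (Spec.map (CommRingCat.ofHom (algebraMap k K))))))
    (hx' : AlgSp.Points.map (Limits.prod.fst : (X.obj ⨯ (AlgSp.yon (Spec (CommRingCat.of k))).obj (Over.mk (Spec.map (CommRingCat.ofHom (algebraMap k K))))) ⟶ X.obj) x' = x) :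
    (∃ (U : Over (Spec (CommRingCat.of k))) (a : (AlgSp.yon (Spec (CommRingCat.of k))).obj U ⟶ X.obj) (u : ↥U.left),
      AlgSp.RepWith @Etale a ∧ AlgSp.Points.ofPt a u = x ∧ FBase.IsGeomReducedAt U.hom u) ↔
      ∃ (U' : Over (Spec (CommRingCat.of k))) (a' : (AlgSp.yon (Spec (CommRingCat.of k))).obj U' ⟶ (X.obj ⨯ (AlgSp.yon (Spec (CommRingCat.of k))).obj (Over.mk (Spec.map (CommRingCat.ofHom (algebraMap k K))))))
        (q : U' ⟶ Over.mk (Spec.map (CommRingCat.ofHom (algebraMap k K)))) (u' : ↥U'.left),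
        AlgSp.RepWith @Etale a' ∧ a' ≫ Limits.prod.snd = (AlgSp.yon (Spec (CommRingCat.of k))).map q ∧
          AlgSp.Points.ofPt a' u' = x' ∧ FBase.IsGeomReducedAt q.left u' := by
  constructor
  · rintro ⟨U, a, u, ha, hu, hred⟩
    obtain ⟨u'', hu''1, hu''2⟩ := exists_point_aK K a x' u (by rw [hx', hu])
    refine ⟨U ⨯ T K, aK K a, Limits.prod.snd, u'', repWith_aK K a _ ha, aK_snd K a, hu''1, ?_⟩
    rw [isGeomReducedAt_UK, hu''2]
    exact hred
  · rintro ⟨U', a', q, u', ha', hq, hu', hred⟩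
    obtain ⟨U, a, hae, has⟩ := X.property.atlas
    obtain ⟨u, hu⟩ := ofPt_surjective_of_surjective a has x
    obtain ⟨u'', hu''1, hu''2⟩ := exists_point_aK K a x' u (by rw [hx', hu])
    refine ⟨U, a, u, hae, hu, ?_⟩
    have h1 := isGeomReducedAt_iff_of_chartsK K a' ha' q hq (aK K a) (repWith_aK K a _ hae)
      Limits.prod.snd (aK_snd K a) u' u'' (hu'.trans hu''1.symm)
    have h2 := isGeomReducedAt_UK K U u''
    rw [hu''2] at h2
    exact h2.1 (h1.1 hred)

theorem main10502 (k : Type u) [Field k] (X : AlgSp.Space (Spec (CommRingCat.of k))) (K : Type u) [Field K] [Algebra k K] :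
    (∀ x : AlgSp.Points X.obj, (∃ (U : Over (Spec (CommRingCat.of k))) (a : (AlgSp.yon (Spec (CommRingCat.of k))).obj U ⟶ X.obj) (u : ↥U.left),
      AlgSp.RepWith @Etale a ∧ AlgSp.Points.ofPt a u = x ∧ FBase.IsGeomReducedAt U.hom u)) ↔
      ∀ x' : AlgSp.Points (X.obj ⨯ (AlgSp.yon (Spec (CommRingCat.of k))).obj (Over.mk (Spec.map (CommRingCat.ofHom (algebraMap k K))))), (∃ (U' : Over (Spec (CommRingCat.of k))) (a' : (AlgSp.yon (Spec (CommRingCat.of k))).obj U' ⟶ (X.obj ⨯ (AlgSp.yon (Spec (CommRingCat.of k))).obj (Over.mk (Spec.map (CommRingCat.ofHom (algebraMap k K))))))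
        (q : U' ⟶ Over.mk (Spec.map (CommRingCat.ofHom (algebraMap k K)))) (u' : ↥U'.left),
        AlgSp.RepWith @Etale a' ∧ a' ≫ Limits.prod.snd = (AlgSp.yon (Spec (CommRingCat.of k))).map q ∧
          AlgSp.Points.ofPt a' u' = x' ∧ FBase.IsGeomReducedAt q.left u') := by
  constructor
  · intro h x'
    exact (main10479 k X K _ x' rfl).1 (h _)
  · intro h x
    obtain ⟨U, a, hae, has⟩ := X.property.atlas
    obtain ⟨u, hu⟩ := ofPt_surjective_of_surjective a has x
    obtain ⟨u'', hu''⟩ := surjective_fst_left K U u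
    have hx' : Points.map (Limits.prod.fst : (X.obj ⨯ (AlgSp.yon (Spec (CommRingCat.of k))).obj (Over.mk (Spec.map (CommRingCat.ofHom (algebraMap k K))))) ⟶ X.obj)
        (Points.ofPt (aK K a) u'') = x := by
      rw [Points.map_ofPt, aK_fst, ofPt_yon_map_comp, hu'', hu]
    exact (main10479 k X K x _ hx').2 (h _)

theorem main10476 (k : Type u) [Field k] (p : ℕ) [Fact p.Prime] [CharP k p]
    (X : AlgSp.Space (Spec (CommRingCat.of k))) :
    (∀ x : AlgSp.Points X.obj, (∃ (U : Over (Spec (CommRingCat.of k))) (a : (AlgSp.yon (Spec (CommRingCat.of k))).obj U ⟶ X.obj) (u : ↥U.left),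
      AlgSp.RepWith @Etale a ∧ AlgSp.Points.ofPt a u = x ∧ FBase.IsGeomReducedAt U.hom u)) ↔
      ∀ (K : Type u) [Field K] [Algebra k K], AlgSp.EtaleLocally (fun U => IsReduced U) (X.obj ⨯ (AlgSp.yon (Spec (CommRingCat.of k))).obj (Over.mk (Spec.map (CommRingCat.ofHom (algebraMap k K))))) := by
  obtain ⟨U, a, hae, has⟩ := X.property.atlas
  constructor
  · intro h K _ _
    refine (etaleLocally_isReduced_iff K a hae has).2 ?_
    have : ∀ z : ↥(FBase.bc U.hom K),
        _root_.IsReduced ((FBase.bc U.hom K).presheaf.stalk z) := by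
      intro z
      obtain ⟨U₁, a₁, u₁, ha₁, hu₁, hred₁⟩ := h (Points.ofPt a ((FBase.bcπ U.hom K).base z))
      have h1 := (GeomRed.isGeomReducedAt_iff_of_charts a₁ ha₁ a hae u₁ _ hu₁).1 hred₁
      exact h1 K z rfl
    exact isReduced_of_isReduced_stalk _
  · intro h x
    obtain ⟨u, hu⟩ := ofPt_surjective_of_surjective a has x
    refine ⟨U, a, u, hae, hu, ?_⟩
    intro K _ _ z hz
    have : AlgebraicGeometry.IsReduced (FBase.bc U.hom K) :=
      (etaleLocally_isReduced_iff K a hae has).1 (h K)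
    infer_instance

theorem reduced_bc_of_perfect {k : Type u} [Field k] (X : AlgSp.Space (Spec (CommRingCat.of k)))
    (Ω : Type u) [Field Ω] [Algebra k Ω] [PerfectField Ω]
    (h : AlgSp.EtaleLocally (fun U => IsReduced U) (X.obj ⨯ (AlgSp.yon (Spec (CommRingCat.of k))).obj (Over.mk (Spec.map (CommRingCat.ofHom (algebraMap k Ω))))))
    (K : Type u) [Field K] [Algebra k K] :
    AlgSp.EtaleLocally (fun U => IsReduced U) (X.obj ⨯ (AlgSp.yon (Spec (CommRingCat.of k))).obj (Over.mk (Spec.map (CommRingCat.ofHom (algebraMap k K))))) := by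
  obtain ⟨U, a, hae, has⟩ := X.property.atlas
  refine (etaleLocally_isReduced_iff K a hae has).2 ?_
  have : AlgebraicGeometry.IsReduced (FBase.bc U.hom Ω) :=
    (etaleLocally_isReduced_iff Ω a hae has).1 h
  have hg : GeometricallyReduced (U.hom : U.left ⟶ Spec (CommRingCat.of k)) :=
    Groth.Agent.Lib.Helper14.PerfectGeomRed.geometricallyReduced_of_perfect U.hom Ω
  exact isReduced_bc_of_geometricallyReduced K U.hom hg

theorem main10477 (k : Type u) [Field k] (p : ℕ) [Fact p.Prime] [CharP k p]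
    (X : AlgSp.Space (Spec (CommRingCat.of k))) (kbar : Type u) [Field kbar] [Algebra k kbar] [IsAlgClosure k kbar]
    (h : AlgSp.EtaleLocally (fun U => IsReduced U) (X.obj ⨯ (AlgSp.yon (Spec (CommRingCat.of k))).obj (Over.mk (Spec.map (CommRingCat.ofHom (algebraMap k kbar))))))
    (K : Type u) [Field K] [Algebra k K] : AlgSp.EtaleLocally (fun U => IsReduced U) (X.obj ⨯ (AlgSp.yon (Spec (CommRingCat.of k))).obj (Over.mk (Spec.map (CommRingCat.ofHom (algebraMap k K))))) := by
  have : IsAlgClosed kbar := IsAlgClosure.isAlgClosed k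
  have : PerfectField kbar := inferInstance
  exact reduced_bc_of_perfect X kbar h K

theorem main12204 (k : Type u) [Field k] (p : ℕ) [Fact p.Prime] [CharP k p]
    (X : AlgSp.Space (Spec (CommRingCat.of k))) (k' : Type u) [Field k'] [Algebra k k'] [PerfectField k']
    [IsPurelyInseparable k k']
    (h : AlgSp.EtaleLocally (fun U => IsReduced U) (X.obj ⨯ (AlgSp.yon (Spec (CommRingCat.of k))).obj (Over.mk (Spec.map (CommRingCat.ofHom (algebraMap k k'))))))
    (K : Type u) [Field K] [Algebra k K] : AlgSp.EtaleLocally (fun U => IsReduced U) (X.obj ⨯ (AlgSp.yon (Spec (CommRingCat.of k))).obj (Over.mk (Spec.map (CommRingCat.ofHom (algebraMap k K))))) :=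
  reduced_bc_of_perfect X k' h K

theorem main10478 (k : Type u) [Field k] (p : ℕ) [Fact p.Prime]
    [CharP k p] (X : AlgSp.Space (Spec (CommRingCat.of k)))
    (h : ∀ (k' : Type u) [Field k'] [Algebra k k'], Module.Finite k k' → IsPurelyInseparable k k' →
      AlgSp.EtaleLocally (fun U => IsReduced U) (X.obj ⨯ (AlgSp.yon (Spec (CommRingCat.of k))).obj (Over.mk (Spec.map (CommRingCat.ofHom (algebraMap k k'))))))
    (K : Type u) [Field K] [Algebra k K] : AlgSp.EtaleLocally (fun U => IsReduced U) (X.obj ⨯ (AlgSp.yon (Spec (CommRingCat.of k))).obj (Over.mk (Spec.map (CommRingCat.ofHom (algebraMap k K))))) := by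
  obtain ⟨U, a, hae, has⟩ := X.property.atlas
  refine (etaleLocally_isReduced_iff K a hae has).2 ?_
  have hg : GeometricallyReduced (U.hom : U.left ⟶ Spec (CommRingCat.of k)) :=
    Groth.Agent.Lib.Helper14.GeomRedAt.geometricallyReduced_of_forall_finite_purelyInseparable U.hom
      (fun k' => (etaleLocally_isReduced_iff k' a hae has).1 (h k' inferInstance inferInstance))
  exact isReduced_bc_of_geometricallyReduced K U.hom hg

end Groth.Agent.Lib.Helper6.GeomRedBC
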