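import Groth.Agent.Lib.Helper6.GeomRedBC
import Groth.Agent.Lib.Helper16.Decent

/-!
# Helper library (helper6): geometric integrality of algebraic spaces over a field
-/

set_option autoImplicit false
universe u
open CategoryTheory CategoryTheory.Limits AlgebraicGeometry
open AlgSp

namespace Groth.Agent.Lib.Helper6.GeomRedBC

open Groth.Agent.Lib.Helper16

theorem geomReduced_iff_forall_bc_isReduced (k : Type u) [Field k]
    (X : AlgSp.Space (Spec (CommRingCat.of k))) :
    (∀ x : AlgSp.Points X.obj, (∃ (U : Over (Spec (CommRingCat.of k))) (a : (AlgSp.yon (Spec (CommRingCat.of k))).obj U ⟶ X.obj) (u : ↥U.left),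
      AlgSp.RepWith @Etale a ∧ AlgSp.Points.ofPt a u = x ∧ FBase.IsGeomReducedAt U.hom u)) ↔
      ∀ (K : Type u) [Field K] [Algebra k K], AlgSp.EtaleLocally (fun U => IsReduced U) (X.obj ⨯ (AlgSp.yon (Spec (CommRingCat.of k))).obj (Over.mk (Spec.map (CommRingCat.ofHom (algebraMap k K))))) := by
  obtain ⟨U, a, hae, has⟩ := X.property.atlas
  constructor
  · intro h K _ _
    refine (etaleLocally_isReduced_iff K a hae has).2 ?_
    have : ∀ z : ↥(FBase.bc U.hom K),
        _root_.IsReduced ((FBase.bc U.hom K).presheaf.stalk z) := by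
      intro z
      obtain ⟨U₁, a₁, u₁, ha₁, hu₁, hred₁⟩ := h (Points.ofPt a ((FBase.bcπ U.hom K).base z))
      have h1 := (GeomRed.isGeomReducedAt_iff_of_charts a₁ ha₁ a hae u₁ _ hu₁).1 hred₁
      exact h1 K z rfl
    exact isReduced_of_isReduced_stalk _
  · intro h x
    obtain ⟨u, hu⟩ := ofPt_surjective_of_surjective a has x
    refine ⟨U, a, u, hae, hu, ?_⟩
    intro K _ _ z hz
    have : AlgebraicGeometry.IsReduced (FBase.bc U.hom K) :=
      (etaleLocally_isReduced_iff K a hae has).1 (h K)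
    infer_instance

theorem representable_prod_fst {k : Type u} [Field k] (K : Type u) [Field K] [Algebra k K]
    (X : Sp (Spec (CommRingCat.of k))) :
    Representable (Limits.prod.fst : X ⨯ (yon (Spec (CommRingCat.of k))).obj (T K) ⟶ X) := by
  intro V g
  exact ⟨V ⨯ T K, Limits.prod.fst, aK K g, isPullback_aK K g⟩

theorem main10497 (k : Type u) [Field k] (X : AlgSp.Space (Spec (CommRingCat.of k))) (hX : AlgSp.IsDecent X.obj) :
    (∀ (K : Type u) [Field K] [Algebra k K], AlgSp.IsIntegralSp (X.obj ⨯ (AlgSp.yon (Spec (CommRingCat.of k))).obj (Over.mk (Spec.map (CommRingCat.ofHom (algebraMap k K)))))) ↔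
      (∀ x : AlgSp.Points X.obj, (∃ (U : Over (Spec (CommRingCat.of k))) (a : (AlgSp.yon (Spec (CommRingCat.of k))).obj U ⟶ X.obj) (u : ↥U.left),
      AlgSp.RepWith @Etale a ∧ AlgSp.Points.ofPt a u = x ∧ FBase.IsGeomReducedAt U.hom u)) ∧
        ∀ (K : Type u) [Field K] [Algebra k K], IrreducibleSpace (AlgSp.Points (X.obj ⨯ (AlgSp.yon (Spec (CommRingCat.of k))).obj (Over.mk (Spec.map (CommRingCat.ofHom (algebraMap k K)))))) := by
  constructor
  · intro h
    refine ⟨(geomReduced_iff_forall_bc_isReduced k X).2 (fun K _ _ => (h K).1), fun K _ _ => (h K).2.2⟩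
  · rintro ⟨h1, h2⟩ K _ _
    refine ⟨(geomReduced_iff_forall_bc_isReduced k X).1 h1 K, ?_, h2 K⟩
    exact isDecent_of_representable _ (representable_prod_fst K X.obj) hX

end Groth.Agent.Lib.Helper6.GeomRedBC
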