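import Groth.Agent.Lib.Helper15.OpenLocusInst
import Groth.Agent.Lib.Helper15.OpenSub
import Groth.Agent.Lib.Helper15.GroupoidPts

/-!
# Helper library (helper6): the largest open of the objects of a groupoid over which the source map has a property
local on the base is invariant

* `range_eq_largestOpen`: an open subspace characterised by the maximality property has the largest open as points;
* `isInvariant_of_range_eq_largestOpen`, `main12197`.
-/

set_option autoImplicit false
universe u
open CategoryTheory CategoryTheory.Limits AlgebraicGeometry Opposite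

namespace Groth.Agent.Lib.Helper6.GpdInvOpen

open AlgSp Groth.Agent.Lib.Helper16 Groth.Agent.Lib.Helper15

variable {S : Scheme.{u}}

theorem range_eq_largestOpen {Q P : MorphismProperty (Sp S)} (hQ : OpenLocusHyp Q)
    (hP : IsLocalOnBase (fun _ _ Y g => IsCover Q Y g) P) {X Y : Sp S} (hX : IsAlgSpace X) (hY : IsAlgSpace Y)
    (f : X ⟶ Y) {W : Sp S} (hWsp : IsAlgSpace W) (w : W ⟶ Y) (hw : RepWith @IsOpenImmersion w)
    (hmax : ∀ (W' : Sp S) (w' : W' ⟶ Y), IsAlgSpace W' → RepWith @IsOpenImmersion w' →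
      (P (pullback.snd f w') ↔ ∃ k : W' ⟶ W, k ≫ w = w')) :
    Set.range (Points.map w) = (largestOpen P f : Set (Points Y)) := by
  apply Set.eq_of_subset_of_subset
  · have hPw : P (pullback.snd f w) := (hmax W w hWsp hw).2 ⟨𝟙 W, Category.id_comp w⟩
    have hX' : IsAlgSpace (pullback f w) :=
      isAlgSpace_of_isPullback hX hY.diag hWsp (IsPullback.of_hasPullback f w)
    exact range_subset_largestOpen hQ hP hX hY f hWsp hX' w (pullback.fst f w) (pullback.snd f w)
      (hQ.of_openImm w hWsp hY hw) (IsPullback.of_hasPullback f w) hPw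
  · have hL : IsOpen (largestOpen P f : Set (Points Y)) := (largestOpen P f).isOpen
    have hj : RepWith @IsOpenImmersion (openSubι Y (largestOpen P f : Set (Points Y))) :=
      repWith_isOpenImmersion_openSubι _ hL
    have hW' : IsAlgSpace (openSub Y (largestOpen P f : Set (Points Y))) := isAlgSpace_openSub hY _ hL
    have hX' : IsAlgSpace (pullback f (openSubι Y (largestOpen P f : Set (Points Y)))) :=
      isAlgSpace_of_isPullback hX hY.diag hW' (IsPullback.of_hasPullback _ _)
    have hPL : P (pullback.snd f (openSubι Y (largestOpen P f : Set (Points Y)))) :=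
      hasPOver_largestOpen hQ hP hX hY f _ _ (openSubι Y (largestOpen P f : Set (Points Y)))
        (pullback.fst _ _) (pullback.snd _ _) hW' hX' hj (range_map_openSubι _)
        (IsPullback.of_hasPullback _ _)
    obtain ⟨k, hk⟩ := (hmax _ _ hW' hj).1 hPL
    intro y hy
    obtain ⟨z, hz⟩ : y ∈ Set.range (Points.map (openSubι Y (largestOpen P f : Set (Points Y)))) := by
      rw [range_map_openSubι]; exact hy
    exact ⟨Points.map k z, by rw [← Points.map_comp, hk, hz]⟩

/-- If two base changes of `f` to `R`, along `s` and along `t`, agree over `R`, the inverse images of the largest open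
along `s` and `t` agree, so an open subspace with these points is invariant. -/
theorem isInvariant_of_two_squares {B : Sp S} (G : GroupoidSp B) (hU : IsAlgSpace G.U) (hR : IsAlgSpace G.R)
    {Q P : MorphismProperty (Sp S)} (hQ : OpenLocusHyp Q) (hP : IsLocalOnBase (fun _ _ Y g => IsCover Q Y g) P)
    (hs : Q G.s) (ht : Q G.t) {X X' : Sp S} (hX : IsAlgSpace X) (hX' : IsAlgSpace X') (f : X ⟶ G.U)
    (f' : X' ⟶ G.R) (gs gt : X' ⟶ X) (sqs : IsPullback gs f' f G.s) (sqt : IsPullback gt f' f G.t)
    {W : Sp S} (w : W ⟶ G.U) (hw : RepWith @IsOpenImmersion w)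
    (hrange : Set.range (Points.map w) = (largestOpen P f : Set (Points G.U))) : G.IsInvariant w := by
  have hW₁ := hasPOver_largestOpen hQ hP hX' hR f'
  have e1 := eq_preimage_largestOpen hQ hP hX hU f hR hX' G.s gs f' hs sqs (largestOpen P f') hW₁
    (fun V' hV' => le_sSup hV')
  have e2 := eq_preimage_largestOpen hQ hP hX hU f hR hX' G.t gt f' ht sqt (largestOpen P f') hW₁
    (fun V' hV' => le_sSup hV')
  have e3 : Points.map G.s ⁻¹' (largestOpen P f : Set (Points G.U)) =
      Points.map G.t ⁻¹' (largestOpen P f : Set (Points G.U)) := e1.symm.trans e2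
  intro T r
  rw [exists_factor_iff_of_openImmersion w hw, exists_factor_iff_of_openImmersion w hw, hrange]
  have key : ∀ p : ↥T.left, Points.ofPt (r ≫ G.t) p ∈ (largestOpen P f : Set (Points G.U)) ↔
      Points.ofPt (r ≫ G.s) p ∈ (largestOpen P f : Set (Points G.U)) := by
    intro p
    have h := Set.ext_iff.1 e3 (Points.ofPt r p)
    rw [← Points.map_ofPt r G.t p, ← Points.map_ofPt r G.s p]
    exact h.symm
  exact ⟨fun h p => (key p).1 (h p), fun h p => (key p).2 (h p)⟩

theorem isInvariant_of_range_eq_largestOpen {B : Sp S} (G : GroupoidSp B) (hU : IsAlgSpace G.U)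
    (hR : IsAlgSpace G.R) {Q P : MorphismProperty (Sp S)} (hQ : OpenLocusHyp Q)
    (hP : IsLocalOnBase (fun _ _ Y g => IsCover Q Y g) P)
    (hs : Q G.s) (ht : Q G.t) {W : Sp S} (w : W ⟶ G.U) (hw : RepWith @IsOpenImmersion w)
    (hrange : Set.range (Points.map w) = (largestOpen P G.s : Set (Points G.U))) : G.IsInvariant w :=
  isInvariant_of_two_squares G hU hR hQ hP hs ht hR
    (isAlgSpace_of_isPullback hR hU.diag hR (IsPullback.of_hasPullback G.s G.t)) G.s (pullback.snd G.s G.t)
    G.c (pullback.fst G.s G.t) (GroupoidSp.isPullback_c_snd G) (IsPullback.of_hasPullback G.s G.t) w hw hrange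

theorem main12197 {S : Scheme.{u}} {B : AlgSp.Sp S} (hB : AlgSp.IsAlgSpace B)
    (G : AlgSp.GroupoidSp B) (hU : AlgSp.IsAlgSpace G.U) (hR : AlgSp.IsAlgSpace G.R)
    (τ : AlgSp.CovNotion S) (hτ : τ = AlgSp.IsFppfCover ∨ τ = AlgSp.IsEtCover ∨ τ = AlgSp.IsSmCover)
    (P : MorphismProperty (AlgSp.Sp S)) (hP : AlgSp.IsLocalOnBase τ P)
    (hs : τ (fun _ : PUnit.{u + 1} => G.R) (fun _ => G.s)) (ht : τ (fun _ : PUnit.{u + 1} => G.R) (fun _ => G.t))
    {W : AlgSp.Sp S} (hWsp : AlgSp.IsAlgSpace W) (w : W ⟶ G.U) [Mono w] (hw : AlgSp.RepWith @IsOpenImmersion w)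
    (hmax : ∀ (W' : AlgSp.Sp S) (w' : W' ⟶ G.U), AlgSp.IsAlgSpace W' → AlgSp.RepWith @IsOpenImmersion w' →
      (P (pullback.snd G.s w') ↔ ∃ k : W' ⟶ W, k ≫ w = w')) :
    G.IsInvariant w := by
  rcases hτ with rfl | rfl | rfl
  · obtain ⟨hs1, -⟩ := hs
    obtain ⟨ht1, -⟩ := ht
    exact isInvariant_of_range_eq_largestOpen G hU hR openLocusHyp_fppf hP (hs1 PUnit.unit) (ht1 PUnit.unit) w hw
      (range_eq_largestOpen openLocusHyp_fppf hP hR hU G.s hWsp w hw hmax)
  · obtain ⟨hs1, -⟩ := hs
    obtain ⟨ht1, -⟩ := ht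
    exact isInvariant_of_range_eq_largestOpen G hU hR openLocusHyp_isEtaleMor hP (hs1 PUnit.unit)
      (ht1 PUnit.unit) w hw (range_eq_largestOpen openLocusHyp_isEtaleMor hP hR hU G.s hWsp w hw hmax)
  · obtain ⟨hs1, -⟩ := hs
    obtain ⟨ht1, -⟩ := ht
    exact isInvariant_of_range_eq_largestOpen G hU hR openLocusHyp_smooth hP (hs1 PUnit.unit) (ht1 PUnit.unit) w hw
      (range_eq_largestOpen openLocusHyp_smooth hP hR hU G.s hWsp w hw hmax)

end Groth.Agent.Lib.Helper6.GpdInvOpen
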