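import Groth.Agent.Lib.Helper6.GpdInvOpen
import Groth.Agent.Lib.Helper15.GroupoidStab

/-!
# Helper library (helper6): the largest open of the objects of a groupoid over which the stabilizer has a property
local on the base is invariant

* `conj_inv`, `conj_inv'`: conjugation identities for generalized arrows of a groupoid;
* `isPullback_conj`: the base change of the stabilizer along `s` is also a base change along `t` (conjugation);
* `main12198`.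
-/

set_option autoImplicit false
universe u
open CategoryTheory CategoryTheory.Limits AlgebraicGeometry Opposite

namespace Groth.Agent.Lib.Helper6.GpdInvOpen

open AlgSp Groth.Agent.Lib.Helper16 Groth.Agent.Lib.Helper15 Groth.Agent.Lib.Helper15.GroupoidSp

variable {S : Scheme.{u}} {B : Sp S} (G : AlgSp.GroupoidSp B)

/-- `(r⁻¹ ∘ ((r ∘ g) ∘ r⁻¹)) ∘ r = g`. -/
theorem conj_inv {T : Sp S} (r g : T ⟶ G.R) (h1 : r ≫ G.s = g ≫ G.t)
    (h2 : cmp G r g h1 ≫ G.s = (r ≫ G.i) ≫ G.t)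
    (k1 : (r ≫ G.i) ≫ G.s = cmp G (cmp G r g h1) (r ≫ G.i) h2 ≫ G.t)
    (k2 : cmp G (r ≫ G.i) (cmp G (cmp G r g h1) (r ≫ G.i) h2) k1 ≫ G.s = r ≫ G.t) :
    cmp G (cmp G (r ≫ G.i) (cmp G (cmp G r g h1) (r ≫ G.i) h2) k1) r k2 = g := by
  have hri : (r ≫ G.i) ≫ G.s = r ≫ G.t := by rw [Category.assoc, G.i_s]
  have e0 : (r ≫ G.i) ≫ G.s = cmp G r g h1 ≫ G.t := by rw [cmp_t, hri]
  have e0' : cmp G (r ≫ G.i) (cmp G r g h1) e0 ≫ G.s = (r ≫ G.i) ≫ G.t := by rw [cmp_s]; exact h2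
  have e1 : cmp G (r ≫ G.i) (cmp G (cmp G r g h1) (r ≫ G.i) h2) k1 =
      cmp G (cmp G (r ≫ G.i) (cmp G r g h1) e0) (r ≫ G.i) e0' :=
    (cmp_assoc G (r ≫ G.i) (cmp G r g h1) (r ≫ G.i) e0 h2 e0' k1).symm
  have e2 : cmp G (r ≫ G.i) (cmp G r g h1) e0 = g := i_cmp_cmp G r g h1 e0
  have hg : g ≫ G.s = (r ≫ G.i) ≫ G.t := by
    have h := h2
    rw [cmp_s] at h
    exact h
  have e3 : cmp G (r ≫ G.i) (cmp G (cmp G r g h1) (r ≫ G.i) h2) k1 = cmp G g (r ≫ G.i) hg :=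
    e1.trans (cmp_congr G e2 rfl e0')
  exact (cmp_congr G e3 rfl k2).trans (cmp_i_cmp G g r hg _)

/-- `(r ∘ ((r⁻¹ ∘ a) ∘ r)) ∘ r⁻¹ = a`. -/
theorem conj_inv' {T : Sp S} (r a : T ⟶ G.R) (k1 : (r ≫ G.i) ≫ G.s = a ≫ G.t)
    (k2 : cmp G (r ≫ G.i) a k1 ≫ G.s = r ≫ G.t)
    (h1 : r ≫ G.s = cmp G (cmp G (r ≫ G.i) a k1) r k2 ≫ G.t)
    (h2 : cmp G r (cmp G (cmp G (r ≫ G.i) a k1) r k2) h1 ≫ G.s = (r ≫ G.i) ≫ G.t) :
    cmp G (cmp G r (cmp G (cmp G (r ≫ G.i) a k1) r k2) h1) (r ≫ G.i) h2 = a := by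
  have hri : r ≫ G.s = (r ≫ G.i) ≫ G.t := by rw [Category.assoc, G.i_t]
  have e0 : r ≫ G.s = cmp G (r ≫ G.i) a k1 ≫ G.t := by rw [cmp_t, hri]
  have e0' : cmp G r (cmp G (r ≫ G.i) a k1) e0 ≫ G.s = r ≫ G.t := by rw [cmp_s]; exact k2
  have e1 : cmp G r (cmp G (cmp G (r ≫ G.i) a k1) r k2) h1 =
      cmp G (cmp G r (cmp G (r ≫ G.i) a k1) e0) r e0' :=
    (cmp_assoc G r (cmp G (r ≫ G.i) a k1) r e0 k2 e0' h1).symm
  have e2 : cmp G r (cmp G (r ≫ G.i) a k1) e0 = a := cmp_i_cmp' G r a k1 e0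
  have ha : a ≫ G.s = r ≫ G.t := by
    have h := k2
    rw [cmp_s] at h
    exact h
  have e3 : cmp G r (cmp G (cmp G (r ≫ G.i) a k1) r k2) h1 = cmp G a r ha :=
    e1.trans (cmp_congr G e2 rfl e0')
  exact (cmp_congr G e3 rfl h2).trans (cmp_cmp_i G a r ha _)

/-- Precomposition with the conjugate `(r ∘ g) ∘ r⁻¹`. -/
theorem comp_conj {T T' : Sp S} (k : T' ⟶ T) (r g : T ⟶ G.R) (h1 : r ≫ G.s = g ≫ G.t)
    (h2 : cmp G r g h1 ≫ G.s = (r ≫ G.i) ≫ G.t) (r' g' : T' ⟶ G.R) (hr : k ≫ r = r') (hg : k ≫ g = g')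
    (h1' : r' ≫ G.s = g' ≫ G.t) (h2' : cmp G r' g' h1' ≫ G.s = (r' ≫ G.i) ≫ G.t) :
    k ≫ cmp G (cmp G r g h1) (r ≫ G.i) h2 = cmp G (cmp G r' g' h1') (r' ≫ G.i) h2' := by
  subst hr hg
  exact (comp_cmp G k _ _ h2).trans
    (cmp_congr G (comp_cmp G k r g h1) (Category.assoc k r G.i).symm _)

/-- An arrow with equal source and target lifts to the stabilizer. -/
theorem exists_stab_lift {Q : Sp S} (ρ : Q ⟶ G.R) (v : Q ⟶ G.U) (ht : ρ ≫ G.t = v) (hs : ρ ≫ G.s = v) :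
    ∃ a : Q ⟶ G.stabilizer, a ≫ G.stabilizerι = ρ ∧ a ≫ G.stabilizerToU = v := by
  refine ⟨pullback.lift ρ v ?_, pullback.lift_fst _ _ _, pullback.lift_snd _ _ _⟩
  apply pullback.hom_ext
  · rw [Category.assoc, G.j_fst, ht, Category.assoc, AlgSp.GroupoidSp.diag, pullback.lift_fst,
      Category.comp_id]
  · rw [Category.assoc, G.j_snd, hs, Category.assoc, AlgSp.GroupoidSp.diag, pullback.lift_snd,
      Category.comp_id]

/-- The base change of the stabilizer along `s` is, through conjugation, also a base change along `t`. -/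
theorem exists_isPullback_conj :
    ∃ gt : pullback G.stabilizerToU G.s ⟶ G.stabilizer,
      IsPullback gt (pullback.snd G.stabilizerToU G.s) G.stabilizerToU G.t := by
  obtain ⟨ρ, hρ⟩ : ∃ ρ : pullback G.stabilizerToU G.s ⟶ G.R, ρ = pullback.snd G.stabilizerToU G.s :=
    ⟨_, rfl⟩
  obtain ⟨γ, hγ⟩ : ∃ γ : pullback G.stabilizerToU G.s ⟶ G.R,
      γ = pullback.fst G.stabilizerToU G.s ≫ G.stabilizerι := ⟨_, rfl⟩
  have hγt : γ ≫ G.t = ρ ≫ G.s := by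
    rw [hγ, hρ, Category.assoc, stabilizerι_t, pullback.condition]
  have hγs : γ ≫ G.s = ρ ≫ G.s := by
    rw [hγ, hρ, Category.assoc, stabilizerι_s, pullback.condition]
  have h1 : ρ ≫ G.s = γ ≫ G.t := hγt.symm
  have h2 : cmp G ρ γ h1 ≫ G.s = (ρ ≫ G.i) ≫ G.t := by rw [cmp_s, hγs, Category.assoc, G.i_t]
  have hct : cmp G (cmp G ρ γ h1) (ρ ≫ G.i) h2 ≫ G.t = ρ ≫ G.t := by rw [cmp_t, cmp_t]
  have hcs : cmp G (cmp G ρ γ h1) (ρ ≫ G.i) h2 ≫ G.s = ρ ≫ G.t := by rw [cmp_s, Category.assoc, G.i_s]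
  obtain ⟨gt, hgtι, hgtU⟩ := exists_stab_lift G _ (ρ ≫ G.t) hct hcs
  refine ⟨gt, ?_⟩
  rw [← hρ]
  refine isPullback_of_exists_lift' hgtU ?_ ?_
  · intro Q a b hab
    have hαt : (a ≫ G.stabilizerι) ≫ G.t = b ≫ G.t := by rw [Category.assoc, stabilizerι_t, hab]
    have hαs : (a ≫ G.stabilizerι) ≫ G.s = b ≫ G.t := by rw [Category.assoc, stabilizerι_s, hab]
    have k1 : (b ≫ G.i) ≫ G.s = (a ≫ G.stabilizerι) ≫ G.t := by rw [Category.assoc, G.i_s, hαt]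
    have k2 : cmp G (b ≫ G.i) (a ≫ G.stabilizerι) k1 ≫ G.s = b ≫ G.t := by rw [cmp_s, hαs]
    have hg't : cmp G (cmp G (b ≫ G.i) (a ≫ G.stabilizerι) k1) b k2 ≫ G.t = b ≫ G.s := by
      rw [cmp_t, cmp_t, Category.assoc, G.i_t]
    have hg's : cmp G (cmp G (b ≫ G.i) (a ≫ G.stabilizerι) k1) b k2 ≫ G.s = b ≫ G.s := by
      rw [cmp_s]
    obtain ⟨a', ha'ι, ha'U⟩ := exists_stab_lift G _ (b ≫ G.s) hg't hg's
    have hl1 : pullback.lift a' b ha'U ≫ pullback.fst G.stabilizerToU G.s = a' := pullback.lift_fst _ _ _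
    have hl2 : pullback.lift a' b ha'U ≫ ρ = b := by rw [hρ]; exact pullback.lift_snd _ _ _
    have hlγ : pullback.lift a' b ha'U ≫ γ = cmp G (cmp G (b ≫ G.i) (a ≫ G.stabilizerι) k1) b k2 := by
      rw [hγ, ← Category.assoc, hl1, ha'ι]
    refine ⟨pullback.lift a' b ha'U, ?_, hl2⟩
    apply stabilizer_hom_ext G
    · have h1' : b ≫ G.s = cmp G (cmp G (b ≫ G.i) (a ≫ G.stabilizerι) k1) b k2 ≫ G.t := hg't.symm
      have h2' : cmp G b (cmp G (cmp G (b ≫ G.i) (a ≫ G.stabilizerι) k1) b k2) h1' ≫ G.s =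
          (b ≫ G.i) ≫ G.t := by rw [cmp_s, hg's, Category.assoc, G.i_t]
      rw [Category.assoc, hgtι]
      exact (comp_conj G _ ρ γ h1 h2 b _ hl2 hlγ h1' h2').trans
        (conj_inv' G b (a ≫ G.stabilizerι) k1 k2 h1' h2')
    · rw [Category.assoc, hgtU, ← Category.assoc, hl2, hab]
  · intro Q l l' e1 e2
    have key : ∀ m : Q ⟶ pullback G.stabilizerToU G.s,
        ∀ (k1 : ((m ≫ ρ) ≫ G.i) ≫ G.s = ((m ≫ gt) ≫ G.stabilizerι) ≫ G.t)
          (k2 : cmp G ((m ≫ ρ) ≫ G.i) ((m ≫ gt) ≫ G.stabilizerι) k1 ≫ G.s = (m ≫ ρ) ≫ G.t),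
          m ≫ γ = cmp G (cmp G ((m ≫ ρ) ≫ G.i) ((m ≫ gt) ≫ G.stabilizerι) k1) (m ≫ ρ) k2 := by
      intro m k1 k2
      have h1m : (m ≫ ρ) ≫ G.s = (m ≫ γ) ≫ G.t := by rw [Category.assoc, Category.assoc, h1]
      have h2m : cmp G (m ≫ ρ) (m ≫ γ) h1m ≫ G.s = ((m ≫ ρ) ≫ G.i) ≫ G.t := by
        rw [cmp_s, Category.assoc, hγs, Category.assoc, Category.assoc, G.i_t]
      have hc : (m ≫ gt) ≫ G.stabilizerι = cmp G (cmp G (m ≫ ρ) (m ≫ γ) h1m) ((m ≫ ρ) ≫ G.i) h2m := by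
        rw [Category.assoc, hgtι]
        exact comp_conj G m ρ γ h1 h2 (m ≫ ρ) (m ≫ γ) rfl rfl h1m h2m
      have k1m : ((m ≫ ρ) ≫ G.i) ≫ G.s =
          cmp G (cmp G (m ≫ ρ) (m ≫ γ) h1m) ((m ≫ ρ) ≫ G.i) h2m ≫ G.t := by
        rw [cmp_t, cmp_t, Category.assoc _ G.i, G.i_s]
      have k2m : cmp G ((m ≫ ρ) ≫ G.i) (cmp G (cmp G (m ≫ ρ) (m ≫ γ) h1m) ((m ≫ ρ) ≫ G.i) h2m) k1m ≫ G.s =
          (m ≫ ρ) ≫ G.t := by
        rw [cmp_s, cmp_s, Category.assoc _ G.i, G.i_s]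
      exact (conj_inv G (m ≫ ρ) (m ≫ γ) h1m h2m k1m k2m).symm.trans
        (cmp_congr G (cmp_congr G rfl hc.symm k1m) rfl k2m)
    have hρl : (l ≫ ρ) ≫ G.t = (l ≫ gt) ≫ G.stabilizerToU := by rw [Category.assoc, Category.assoc, hgtU]
    have k1l : ((l ≫ ρ) ≫ G.i) ≫ G.s = ((l ≫ gt) ≫ G.stabilizerι) ≫ G.t := by
      rw [Category.assoc _ G.i, G.i_s, Category.assoc _ G.stabilizerι, stabilizerι_t, hρl]
    have k2l : cmp G ((l ≫ ρ) ≫ G.i) ((l ≫ gt) ≫ G.stabilizerι) k1l ≫ G.s = (l ≫ ρ) ≫ G.t := by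
      rw [cmp_s, Category.assoc _ G.stabilizerι, stabilizerι_s, hρl]
    have hρl' : (l' ≫ ρ) ≫ G.t = (l' ≫ gt) ≫ G.stabilizerToU := by
      rw [Category.assoc, Category.assoc, hgtU]
    have k1l' : ((l' ≫ ρ) ≫ G.i) ≫ G.s = ((l' ≫ gt) ≫ G.stabilizerι) ≫ G.t := by
      rw [Category.assoc _ G.i, G.i_s, Category.assoc _ G.stabilizerι, stabilizerι_t, hρl']
    have k2l' : cmp G ((l' ≫ ρ) ≫ G.i) ((l' ≫ gt) ≫ G.stabilizerι) k1l' ≫ G.s = (l' ≫ ρ) ≫ G.t := by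
      rw [cmp_s, Category.assoc _ G.stabilizerι, stabilizerι_s, hρl']
    have hγeq : l ≫ γ = l' ≫ γ := by
      rw [key l k1l k2l, key l' k1l' k2l']
      have ea : (l ≫ ρ) ≫ G.i = (l' ≫ ρ) ≫ G.i := by rw [e2]
      have eb : (l ≫ gt) ≫ G.stabilizerι = (l' ≫ gt) ≫ G.stabilizerι := by rw [e1]
      exact cmp_congr G (cmp_congr G ea eb k1l) e2 k2l
    have e2' : l ≫ pullback.snd G.stabilizerToU G.s = l' ≫ pullback.snd G.stabilizerToU G.s := by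
      rw [← hρ]; exact e2
    refine pullback.hom_ext ?_ e2'
    apply stabilizer_hom_ext G
    · rw [Category.assoc, Category.assoc, ← hγ]; exact hγeq
    · rw [Category.assoc, Category.assoc, pullback.condition, ← Category.assoc, ← Category.assoc, e2']

theorem main12198 {S : Scheme.{u}} {B : AlgSp.Sp S} (hB : AlgSp.IsAlgSpace B)
    (G : AlgSp.GroupoidSp B) (hU : AlgSp.IsAlgSpace G.U) (hR : AlgSp.IsAlgSpace G.R)
    (τ : AlgSp.CovNotion S) (hτ : τ = AlgSp.IsFppfCover ∨ τ = AlgSp.IsEtCover ∨ τ = AlgSp.IsSmCover)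
    (P : MorphismProperty (AlgSp.Sp S)) (hP : AlgSp.IsLocalOnBase τ P)
    (hs : τ (fun _ : PUnit.{u + 1} => G.R) (fun _ => G.s)) (ht : τ (fun _ : PUnit.{u + 1} => G.R) (fun _ => G.t))
    {W : AlgSp.Sp S} (hWsp : AlgSp.IsAlgSpace W) (w : W ⟶ G.U) [Mono w] (hw : AlgSp.RepWith @IsOpenImmersion w)
    (hmax : ∀ (W' : AlgSp.Sp S) (w' : W' ⟶ G.U), AlgSp.IsAlgSpace W' → AlgSp.RepWith @IsOpenImmersion w' →
      (P (pullback.snd G.stabilizerToU w') ↔ ∃ k : W' ⟶ W, k ≫ w = w')) :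
    G.IsInvariant w := by
  have hUU : IsAlgSpace (pullback G.pU G.pU) :=
    isAlgSpace_of_isPullback hU hB.diag hU (IsPullback.of_hasPullback G.pU G.pU)
  have hSt : IsAlgSpace G.stabilizer :=
    isAlgSpace_of_isPullback hR hUU.diag hU (IsPullback.of_hasPullback G.j G.diag)
  have hX' : IsAlgSpace (pullback G.stabilizerToU G.s) :=
    isAlgSpace_of_isPullback hSt hU.diag hR (IsPullback.of_hasPullback _ _)
  obtain ⟨gt, sqt⟩ := exists_isPullback_conj G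
  have sqs := IsPullback.of_hasPullback G.stabilizerToU G.s
  rcases hτ with rfl | rfl | rfl
  · obtain ⟨hs1, -⟩ := hs
    obtain ⟨ht1, -⟩ := ht
    exact isInvariant_of_two_squares G hU hR openLocusHyp_fppf hP (hs1 PUnit.unit) (ht1 PUnit.unit) hSt hX'
      G.stabilizerToU _ _ gt sqs sqt w hw
      (range_eq_largestOpen openLocusHyp_fppf hP hSt hU G.stabilizerToU hWsp w hw hmax)
  · obtain ⟨hs1, -⟩ := hs
    obtain ⟨ht1, -⟩ := ht
    exact isInvariant_of_two_squares G hU hR openLocusHyp_isEtaleMor hP (hs1 PUnit.unit) (ht1 PUnit.unit) hSt hX'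
      G.stabilizerToU _ _ gt sqs sqt w hw
      (range_eq_largestOpen openLocusHyp_isEtaleMor hP hSt hU G.stabilizerToU hWsp w hw hmax)
  · obtain ⟨hs1, -⟩ := hs
    obtain ⟨ht1, -⟩ := ht
    exact isInvariant_of_two_squares G hU hR openLocusHyp_smooth hP (hs1 PUnit.unit) (ht1 PUnit.unit) hSt hX'
      G.stabilizerToU _ _ gt sqs sqt w hw
      (range_eq_largestOpen openLocusHyp_smooth hP hSt hU G.stabilizerToU hWsp w hw hmax)

end Groth.Agent.Lib.Helper6.GpdInvOpen
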