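import Groth.Agent.Lib.Helper6.WhereMono
import Groth.Agent.Lib.Helper15.OpenSub
import Groth.Agent.Lib.Helper15.OpenSubspace
import Groth.Agent.Lib.Helper16.QuasiCompactMor
import Groth.Agent.Lib.Helper16.Points
import Groth.Agent.Lib.Helper16.SchLocus

/-!
# Helper library (helper6): invariant quasi-compact opens of a groupoid with open quasi-compact source and target
-/

set_option autoImplicit false
universe u
open CategoryTheory CategoryTheory.Limits AlgebraicGeometry Opposite

namespace Groth.Agent.Lib.Helper6.GpdQC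

open AlgSp Groth.Agent.Lib.Helper15 Groth.Agent.Lib.Helper16

/-- S10131. -/
theorem main10131 (S : Scheme.{u}) (B : AlgSp.Sp S) (hB : AlgSp.IsAlgSpace B)
    (G : AlgSp.GroupoidSp B) (hU : AlgSp.IsAlgSpace G.U) (hR : AlgSp.IsAlgSpace G.R)
    (hs : AlgSp.IsOpenMor G.s ∧ AlgSp.IsQuasiCompactMor G.s) (ht : AlgSp.IsOpenMor G.t ∧ AlgSp.IsQuasiCompactMor G.t)
    (x : AlgSp.Points G.U) :
    ∃ (W : AlgSp.Sp S) (w : W ⟶ G.U), AlgSp.RepWith @IsOpenImmersion w ∧ G.IsInvariant w ∧
      AlgSp.IsQuasiCompactSp W ∧ x ∈ Set.range (AlgSp.Points.map w) := by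
  obtain ⟨V, p, hpe, hps⟩ := hU.atlas
  obtain ⟨v, rfl⟩ := ofPt_surjective_of_surjective p hps x
  obtain ⟨O, hO, hvO, -⟩ :=
    exists_isAffineOpen_mem_and_subset (x := v) (U := (⊤ : V.left.Opens)) trivial
  haveI : CompactSpace ↥(overOpen V O).left := isCompact_iff_compactSpace.mp hO.isCompact
  obtain ⟨g, hgdef⟩ : ∃ g : (yon S).obj (overOpen V O) ⟶ G.U,
      g = (yon S).map (overOpenι V O) ≫ p := ⟨_, rfl⟩
  have hge : RepWith @Etale g := by
    rw [hgdef]
    exact repWith_etale_restrict p hpe O
  have hZq : IsQuasiCompactSp ((yon S).obj (overOpen V O)) := isQuasiCompactSp_yon_of_compactSpace _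
  have hAo : IsOpen (Set.range (Points.ofPt g)) := (isOpenMap_ofPt_of_etale g hge).isOpen_range
  have hxA : Points.ofPt p v ∈ Set.range (Points.ofPt g) := by
    refine ⟨⟨v, hvO⟩, ?_⟩
    rw [hgdef]
    exact ofPt_restrict p O ⟨v, hvO⟩
  have sq : IsPullback (pullback.fst G.t g) (pullback.snd G.t g) G.t g := IsPullback.of_hasPullback G.t g
  have hZ'q : IsQuasiCompactSp (pullback G.t g) := ht.2 (IsAlgSpace.yon_obj _) hZq g _ _ sq
  haveI : CompactSpace (Points (pullback G.t g)) := compactSpace_points_of_isQuasiCompactSp hZ'q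
  have hK : Points.map G.t ⁻¹' Set.range (Points.ofPt g) =
      Set.range (Points.map (pullback.fst G.t g)) := by
    ext ρ
    constructor
    · rintro ⟨o, ho⟩
      obtain ⟨z, hz1, -⟩ := exists_point_of_isPullback sq ρ (Points.ofScheme _ o)
        (ho.symm.trans (Points.ofPt_eq_map_ofScheme g o))
      exact ⟨z, hz1⟩
    · rintro ⟨z, rfl⟩
      show Points.map G.t (Points.map (pullback.fst G.t g) z) ∈ Set.range (Points.ofPt g)
      rw [← Points.map_comp, sq.w, Points.map_comp]
      refine ⟨Points.toScheme _ (Points.map (pullback.snd G.t g) z), ?_⟩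
      rw [Points.ofPt_eq_map_ofScheme, Points.ofScheme_toScheme]
  have hKc : IsCompact (Points.map G.t ⁻¹' Set.range (Points.ofPt g)) := by
    rw [hK]
    exact isCompact_range (Points.continuous_map _)
  have hWo : IsOpen (Points.map G.s '' (Points.map G.t ⁻¹' Set.range (Points.ofPt g))) :=
    hs.1 _ (hAo.preimage (Points.continuous_map G.t))
  have hWc : IsCompact (Points.map G.s '' (Points.map G.t ⁻¹' Set.range (Points.ofPt g))) :=
    hKc.image (Points.continuous_map G.s)
  have hw : RepWith @IsOpenImmersion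
      (openSubι G.U (Points.map G.s '' (Points.map G.t ⁻¹' Set.range (Points.ofPt g)))) :=
    repWith_isOpenImmersion_openSubι _ hWo
  have hWalg : IsAlgSpace (openSub G.U (Points.map G.s '' (Points.map G.t ⁻¹' Set.range (Points.ofPt g)))) :=
    isAlgSpace_openSub hU _ hWo
  refine ⟨openSub G.U _, openSubι G.U _, hw, ?_, ?_, ?_⟩
  · exact GroupoidSp.isInvariant_of_range_eq G _ hw (Set.range (Points.ofPt g)) (range_map_openSubι _)
  · rw [isQuasiCompactSp_iff_compactSpace hWalg]
    haveI : Mono (openSubι G.U (Points.map G.s '' (Points.map G.t ⁻¹' Set.range (Points.ofPt g)))) :=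
      mono_of_repWith_isOpenImmersion _ hw
    have hemb : Topology.IsOpenEmbedding
        (Points.map (openSubι G.U (Points.map G.s '' (Points.map G.t ⁻¹' Set.range (Points.ofPt g))))) :=
      Topology.IsOpenEmbedding.of_continuous_injective_isOpenMap (Points.continuous_map _)
        (points_map_injective_of_mono _)
        (Groth.Agent.Lib.Helper6.WhereMono.isOpenMap_points_of_repWith_etale hWalg _
          (repWith_mono SchLocus.isOpenImmersion_le_etale _ hw))
    refine ⟨(hemb.isEmbedding.isInducing.isCompact_iff).2 ?_⟩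
    rw [Set.image_univ, range_map_openSubι]
    exact hWc
  · rw [range_map_openSubι]
    refine ⟨Points.map G.e (Points.ofPt p v), ?_, ?_⟩
    · show Points.map G.t (Points.map G.e (Points.ofPt p v)) ∈ Set.range (Points.ofPt g)
      rw [← Points.map_comp, G.e_t, Points.map_id]
      exact hxA
    · rw [← Points.map_comp, G.e_s, Points.map_id]

end Groth.Agent.Lib.Helper6.GpdQC
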