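import Mathlib
import Groth.Prelude.Def_GrMod2

/-!
# Elements of the fibres of `M(n)~` are single fractions (helper6)
-/

set_option autoImplicit false
universe u
open CategoryTheory CategoryTheory.Limits AlgebraicGeometry Opposite

namespace Groth.Agent.Lib.Helper6

section
variable {R A : Type u} [CommRing R] [CommRing A] [Algebra R A] (𝒜 : ℕ → Submodule R A)
  [GradedAlgebra 𝒜]
  {M : Type u} [AddCommGroup M] [Module R M] [Module A M] (ℳ : ℕ → Submodule R M)
  [SetLike.GradedSMul 𝒜 ℳ]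

/-- Every element of the module of degree-`n` fractions at `p` is a single fraction. -/
lemma exists_eq_mk_of_mem_tildeAt (n : ℤ) (p : ProjectiveSpectrum 𝒜)
    (q : GrTilde.LocMod 𝒜 (M := M) p) (hq : q ∈ GrTilde.tildeAt 𝒜 ℳ n p) :
    ∃ (i j : ℕ) (m : ℳ i) (s : 𝒜 j) (hs : s.1 ∉ p.asHomogeneousIdeal),
      ((i : ℤ) = j + n ∨ m.1 = 0) ∧ q = LocalizedModule.mk m.1 ⟨s.1, hs⟩ := by
  unfold GrTilde.tildeAt at hq
  induction hq using Submodule.span_induction with
  | mem q hq =>
    obtain ⟨i, j, m, s, hs, hij, rfl⟩ := hq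
    exact ⟨i, j, m, s, hs, Or.inl hij, rfl⟩
  | zero =>
    refine ⟨0, 0, 0, ⟨1, SetLike.GradedOne.one_mem⟩,
      fun h => p.isPrime.ne_top ((Ideal.eq_top_iff_one _).mpr h), Or.inr rfl, ?_⟩
    exact (LocalizedModule.zero_mk _).symm
  | add q q' _ _ hq hq' =>
    obtain ⟨i, j, m, s, hs, c, rfl⟩ := hq
    obtain ⟨i', j', m', s', hs', c', rfl⟩ := hq'
    rcases c with c | c
    · rcases c' with c' | c'
      · have hs'' : s.1 * s'.1 ∉ p.asHomogeneousIdeal := fun h =>
          (p.isPrime.mem_or_mem h).elim hs hs'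
        have h1 : s'.1 • m.1 ∈ ℳ (j' + i) := SetLike.GradedSMul.smul_mem s'.2 m.2
        have h2 : s.1 • m'.1 ∈ ℳ (j + i') := SetLike.GradedSMul.smul_mem s.2 m'.2
        have e : j + i' = j' + i := by omega
        rw [e] at h2
        refine ⟨j' + i, j + j', ⟨s'.1 • m.1 + s.1 • m'.1, add_mem h1 h2⟩,
          ⟨s.1 * s'.1, SetLike.mul_mem_graded s.2 s'.2⟩, hs'', Or.inl (by push_cast; omega), ?_⟩
        rw [LocalizedModule.mk_add_mk]
        rfl
      · refine ⟨i, j, m, s, hs, Or.inl c, ?_⟩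
        rw [c', LocalizedModule.zero_mk, add_zero]
    · refine ⟨i', j', m', s', hs', c', ?_⟩
      rw [c, LocalizedModule.zero_mk, zero_add]
  | smul a q _ hq =>
    obtain ⟨i, j, m, s, hs, c, rfl⟩ := hq
    have hden : a.den * s.1 ∉ p.asHomogeneousIdeal := fun h =>
      (p.isPrime.mem_or_mem h).elim a.den_mem hs
    have h1 : a.num • m.1 ∈ ℳ (a.deg + i) := SetLike.GradedSMul.smul_mem a.num_mem_deg m.2
    refine ⟨a.deg + i, a.deg + j, ⟨a.num • m.1, h1⟩,
      ⟨a.den * s.1, SetLike.mul_mem_graded a.den_mem_deg s.2⟩, hden, ?_, ?_⟩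
    · rcases c with c | c
      · exact Or.inl (by push_cast; omega)
      · exact Or.inr (show a.num • m.1 = 0 by rw [c, smul_zero])
    · rw [GrTilde.a0_smul_def, HomogeneousLocalization.eq_num_div_den,
        LocalizedModule.mk_smul_mk]
      rfl

end

end Groth.Agent.Lib.Helper6
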