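import Groth.Agent.Lib.Helper6.UrLocus
import Groth.Agent.Lib.Helper15.GrpSp
import Groth.Agent.Lib.Helper15.OpenSubspace
import Groth.Agent.Lib.Helper15.MonoInj
import Groth.Agent.Lib.Helper16.FpqcMono
import Groth.Agent.Lib.Helper16.QfLocus
import Groth.Agent.Lib.Helper16.RepSpace

/-!
# Helper library (helper6): loci of group algebraic spaces

For a group algebraic space `G ⟶ B` locally of finite type and a "locus" `L` (open, compatible with base
change, detecting a property `P`), the largest open of `B` over which `G` has `P` is `e⁻¹(L)`, where `e` is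
the unit section, and its formation commutes with base change.
-/

set_option autoImplicit false
universe u
open CategoryTheory CategoryTheory.Limits AlgebraicGeometry Opposite MonoidalCategory
  CartesianMonoidalCategory MonObj

namespace Groth.Agent.Lib.Helper6.GrpLocus

open AlgSp Groth.Agent.Lib.Helper15 Groth.Agent.Lib.Helper16 Groth.Agent.Lib.Helper6.UrLocus
  Groth.Agent.Lib.Helper16.QfAt

variable {S : Scheme.{u}}

section Grp

variable {B : Sp S} (G : Over B) [GrpObj G]

/-- The shear map `(x, y) ↦ (x, x y)`. -/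
noncomputable def shear : G ⊗ G ⟶ G ⊗ G := lift (fst G G) (fst G G * snd G G)

/-- Its inverse `(x, y) ↦ (x, x⁻¹ y)`. -/
noncomputable def shearInv : G ⊗ G ⟶ G ⊗ G := lift (fst G G) ((fst G G)⁻¹ * snd G G)

theorem shear_shearInv : shear G ≫ shearInv G = 𝟙 _ := by
  apply CartesianMonoidalCategory.hom_ext
  · rw [Category.assoc, shearInv, lift_fst, shear, lift_fst, Category.id_comp]
  · rw [Category.assoc, shearInv, lift_snd, MonObj.comp_mul, GrpObj.comp_inv, shear, lift_fst, lift_snd,
      inv_mul_cancel_left, Category.id_comp]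

theorem shearInv_shear : shearInv G ≫ shear G = 𝟙 _ := by
  apply CartesianMonoidalCategory.hom_ext
  · rw [Category.assoc, shear, lift_fst, shearInv, lift_fst, Category.id_comp]
  · rw [Category.assoc, shear, lift_snd, MonObj.comp_mul, shearInv, lift_fst, lift_snd,
      mul_inv_cancel_left, Category.id_comp]

instance : IsIso (shear G) := ⟨shearInv G, shear_shearInv G, shearInv_shear G⟩

/-- The section `x ↦ (x, e)`. -/
noncomputable def sec : G ⟶ G ⊗ G := lift (𝟙 G) (toUnit G ≫ η[G])

theorem sec_shear_snd : sec G ≫ shear G ≫ snd G G = 𝟙 G := by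
  rw [shear, lift_snd, MonObj.comp_mul, sec, lift_fst, lift_snd, ← Hom.one_def, _root_.mul_one]

/-- The unit section as a morphism of sheaves `B ⟶ G`. -/
noncomputable def unitSec : B ⟶ G.left := (η[G]).left

theorem unitSec_hom : unitSec G ≫ G.hom = 𝟙 B := GrpSp.unit_hom G

/-- The shear map on the fibre product. -/
noncomputable def tau : pullback G.hom G.hom ⟶ pullback G.hom G.hom := (shear G).left

instance : IsIso (tau G) := by
  have : IsIso ((Over.forget B).map (shear G)) := inferInstance
  exact this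

theorem tau_fst : tau G ≫ pullback.fst G.hom G.hom = pullback.fst G.hom G.hom := by
  have h : shear G ≫ fst G G = fst G G := by rw [shear, lift_fst]
  exact congrArg (fun m => m.left) h

/-- `x ↦ (x, e)` on the fibre product. -/
noncomputable def sigma : G.left ⟶ pullback G.hom G.hom := (sec G).left

theorem sigma_snd : sigma G ≫ pullback.snd G.hom G.hom = G.hom ≫ unitSec G := by
  have h : sec G ≫ snd G G = toUnit G ≫ η[G] := by rw [sec, lift_snd]
  exact congrArg (fun m => m.left) h

theorem sigma_tau_snd : sigma G ≫ tau G ≫ pullback.snd G.hom G.hom = 𝟙 G.left :=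
  congrArg (fun m => m.left) (sec_shear_snd G)

end Grp

/-- The data of a locus detecting a property. -/
structure LocusData (L : ∀ (X Y : Sp S), (X ⟶ Y) → Set (Points X)) (P : MorphismProperty Scheme.{u}) :
    Prop where
  isOpen : ∀ {X Y : Sp S} (f : X ⟶ Y), LocP @LocallyOfFiniteType f → IsOpen (L X Y f)
  baseChange : ∀ {X Y X'' Y'' : Sp S}, IsAlgSpace X → IsAlgSpace Y → IsAlgSpace Y'' →
    ∀ {f : X ⟶ Y} {g : Y'' ⟶ Y} {b : X'' ⟶ X} {f'' : X'' ⟶ Y''}, IsPullback b f'' f g →
    LocP @LocallyOfFiniteType f → ∀ x'' : Points X'', x'' ∈ L X'' Y'' f'' ↔ Points.map b x'' ∈ L X Y f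
  locP_iff : ∀ {X Y : Sp S}, IsAlgSpace X → IsAlgSpace Y → ∀ f : X ⟶ Y, LocP @LocallyOfFiniteType f →
    (LocP P f ↔ ∀ x : Points X, x ∈ L X Y f)

section Generic

variable {L : ∀ (X Y : Sp S), (X ⟶ Y) → Set (Points X)} {P : MorphismProperty Scheme.{u}}
variable {B : Sp S} (G : Over B) [GrpObj G]

theorem mem_of_unit (hL : LocusData L P) (hB : IsAlgSpace B) (hG : IsAlgSpace G.left)
    (hlft : LocP @LocallyOfFiniteType G.hom) (g : Points G.left)
    (h : Points.map (unitSec G) (Points.map G.hom g) ∈ L _ _ G.hom) : g ∈ L _ _ G.hom := by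
  have sq : IsPullback (pullback.snd G.hom G.hom) (pullback.fst G.hom G.hom) G.hom G.hom :=
    (IsPullback.of_hasPullback G.hom G.hom).flip
  have hP2 : IsAlgSpace (pullback G.hom G.hom) := isAlgSpace_of_isPullback hG hB.diag hG sq
  have hlft1 : LocP @LocallyOfFiniteType (pullback.fst G.hom G.hom) :=
    locP_of_isPullback etLocalST_locallyOfFiniteType hG hB sq hlft
  have h1 : Points.map (sigma G) g ∈ L _ _ (pullback.fst G.hom G.hom) := by
    rw [hL.baseChange hG hB hG sq hlft, ← Points.map_comp, sigma_snd, Points.map_comp]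
    exact h
  have sqt : IsPullback (tau G) (tau G ≫ pullback.fst G.hom G.hom) (pullback.fst G.hom G.hom)
      (𝟙 G.left) := IsPullback.of_horiz_isIso ⟨by rw [Category.comp_id]⟩
  have h2 : Points.map (tau G) (Points.map (sigma G) g) ∈ L _ _ (pullback.fst G.hom G.hom) := by
    rw [← hL.baseChange hP2 hG hG sqt hlft1, tau_fst]
    exact h1
  have h3 := (hL.baseChange hG hB hG sq hlft _).1 h2
  rw [← Points.map_comp, ← Points.map_comp, sigma_tau_snd, Points.map_id] at h3
  exact h3

/-- The open subset `e⁻¹(L)` of `|B|`. -/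
def W0 (L : ∀ (X Y : Sp S), (X ⟶ Y) → Set (Points X)) : Set (Points B) :=
  Points.map (unitSec G) ⁻¹' L _ _ G.hom

theorem locP_pullback_iff (hL : LocusData L P) (hB : IsAlgSpace B) (hG : IsAlgSpace G.left)
    (hlft : LocP @LocallyOfFiniteType G.hom) {W' G' : Sp S} (hW' : IsAlgSpace W') (v : W' ⟶ B)
    {fst' : G' ⟶ G.left} {snd' : G' ⟶ W'} (sq : IsPullback fst' snd' G.hom v) :
    LocP P snd' ↔ ∀ y : Points W', Points.map v y ∈ W0 G L := by
  have hG' : IsAlgSpace G' := isAlgSpace_of_isPullback hG hB.diag hW' sq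
  have hlft' : LocP @LocallyOfFiniteType snd' :=
    locP_of_isPullback etLocalST_locallyOfFiniteType hG hB sq hlft
  rw [hL.locP_iff hG' hW' snd' hlft']
  constructor
  · intro H y
    have hcompat : Points.map G.hom (Points.map (unitSec G) (Points.map v y)) = Points.map v y := by
      rw [← Points.map_comp, unitSec_hom, Points.map_id]
    obtain ⟨z, hz1, -⟩ := exists_point_of_isPullback sq _ y hcompat
    have h := (hL.baseChange hG hB hW' sq hlft z).1 (H z)
    rw [hz1] at h
    exact h
  · intro H z
    rw [hL.baseChange hG hB hW' sq hlft z]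
    apply mem_of_unit G hL hB hG hlft
    have e : Points.map G.hom (Points.map fst' z) = Points.map v (Points.map snd' z) := by
      rw [← Points.map_comp, ← Points.map_comp, sq.w]
    rw [e]
    exact H _

end Generic

theorem exists_factor_iff {B' W W'' : Sp S} (hB' : IsAlgSpace B') (w : W ⟶ B')
    (hw : RepWith @IsOpenImmersion w) (w'' : W'' ⟶ B') (hw'' : RepWith @IsOpenImmersion w'') :
    (∃ k : W'' ⟶ W, k ≫ w = w'') ↔
      ∀ y : Points W'', Points.map w'' y ∈ Set.range (Points.map w) := by
  constructor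
  · rintro ⟨k, rfl⟩ y
    exact ⟨Points.map k y, (Points.map_comp k w y).symm⟩
  · intro H
    have hW : IsAlgSpace W := isAlgSpace_of_representable hB' w hw.rep
    have hW'' : IsAlgSpace W'' := isAlgSpace_of_representable hB' w'' hw''.rep
    have sq := IsPullback.of_hasPullback w w''
    have hP : IsAlgSpace (pullback w w'') := isAlgSpace_of_isPullback hW hB'.diag hW'' sq
    have hsnd : RepWith @IsOpenImmersion (pullback.snd w w'') :=
      (RepWith (S := S) @IsOpenImmersion).of_isPullback sq hw
    haveI : Mono (pullback.snd w w'') := mono_of_repWith_isOpenImmersion _ hsnd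
    have het : IsEtaleMor (pullback.snd w w'') := fun U φ hφ =>
      (RepWith (S := S) @Etale).comp_mem _ _ hφ (repWith_mono isOpenImmersion_le_etale _ hsnd)
    have hs : IsSurjectiveMor (pullback.snd w w'') := by
      intro y
      obtain ⟨x, hx⟩ := H y
      obtain ⟨q, -, hq⟩ := exists_point_of_isPullback sq x y hx
      exact ⟨q, hq⟩
    haveI : IsIso (pullback.snd w w'') := isIso_of_etale_mono_surjective hP _ het hs
    refine ⟨inv (pullback.snd w w'') ≫ pullback.fst w w'', ?_⟩
    rw [Category.assoc, sq.w, ← Category.assoc, IsIso.inv_hom_id, Category.id_comp]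

theorem range_pullback_snd {W B B' : Sp S} (w : W ⟶ B) (f : B' ⟶ B) :
    Set.range (Points.map (pullback.snd w f)) = Points.map f ⁻¹' Set.range (Points.map w) := by
  have sq := IsPullback.of_hasPullback w f
  ext y'
  constructor
  · rintro ⟨q, rfl⟩
    exact ⟨Points.map (pullback.fst w f) q, by rw [← Points.map_comp, ← Points.map_comp, sq.w]⟩
  · rintro ⟨x, hx⟩
    obtain ⟨q, -, hq⟩ := exists_point_of_isPullback sq x y' hx
    exact ⟨q, hq⟩

theorem main_generic {L : ∀ (X Y : Sp S), (X ⟶ Y) → Set (Points X)} {P : MorphismProperty Scheme.{u}}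
    (hL : LocusData L P) (B : Sp S) (hB : IsAlgSpace B) (G : Over B) [GrpObj G]
    (hG : IsAlgSpace G.left) (hlft : LocP @LocallyOfFiniteType G.hom) :
    ∃ (W : Sp S) (w : W ⟶ B), RepWith @IsOpenImmersion w ∧
      (∀ (W' : Sp S) (w' : W' ⟶ B), RepWith @IsOpenImmersion w' →
        (LocP P (pullback.snd G.hom w') ↔ ∃ k : W' ⟶ W, k ≫ w = w')) ∧
      (∀ (B' : Sp S), IsAlgSpace B' → ∀ (f : B' ⟶ B) (W'' : Sp S) (w'' : W'' ⟶ B'),
        RepWith @IsOpenImmersion w'' →
        (LocP P (pullback.snd (pullback.snd G.hom f) w'') ↔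
          ∃ k : W'' ⟶ pullback w f, k ≫ pullback.snd w f = w'')) := by
  have hW₀o : IsOpen (W0 G L) := (hL.isOpen G.hom hlft).preimage (Points.continuous_map _)
  have hw := repWith_isOpenImmersion_openSubι (W0 G L) hW₀o
  have hr := range_map_openSubι (W0 G L)
  refine ⟨openSub B (W0 G L), openSubι B (W0 G L), hw, ?_, ?_⟩
  · intro W' w' hw'
    have hW' : IsAlgSpace W' := isAlgSpace_of_representable hB w' hw'.rep
    rw [locP_pullback_iff G hL hB hG hlft hW' w' (IsPullback.of_hasPullback G.hom w'),
      exists_factor_iff hB _ hw w' hw', hr]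
  · intro B' hB' f W'' w'' hw''
    have hW'' : IsAlgSpace W'' := isAlgSpace_of_representable hB' w'' hw''.rep
    have sq := (IsPullback.of_hasPullback (pullback.snd G.hom f) w'').paste_horiz
      (IsPullback.of_hasPullback G.hom f)
    have hwf : RepWith @IsOpenImmersion (pullback.snd (openSubι B (W0 G L)) f) :=
      (RepWith (S := S) @IsOpenImmersion).of_isPullback (IsPullback.of_hasPullback _ f) hw
    rw [locP_pullback_iff G hL hB hG hlft hW'' (w'' ≫ f) sq, exists_factor_iff hB' _ hwf w'' hw'',
      range_pullback_snd, hr]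
    constructor
    · intro H y
      have := H y
      rw [Points.map_comp] at this
      exact this
    · intro H y
      rw [Points.map_comp]
      exact H y

/-- The unramified locus as locus data. -/
theorem locusData_urLocus :
    LocusData (S := S) (fun _ _ f => urLocus f) (@LocallyOfFiniteType ⊓ @FormallyUnramified) where
  isOpen f _ := isOpen_urLocus f
  baseChange hX hY hY'' _ _ _ _ sq hf x'' := urLocus_baseChange hX hY hY'' sq hf x''
  locP_iff hX hY f _ := locP_unram_iff_forall_mem_urLocus hX hY f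

theorem locP_lqf_iff_forall_mem_qfLocus {X Y : Sp S} (hX : IsAlgSpace X) (hY : IsAlgSpace Y) (f : X ⟶ Y)
    (hf : LocP @LocallyOfFiniteType f) :
    LocP (@LocallyQuasiFinite ⊓ @LocallyOfFiniteType) f ↔ ∀ x : Points X, x ∈ qfLocus f := by
  constructor
  · intro H x
    obtain ⟨U₀, a₀, hae, has⟩ := hX.atlas
    obtain ⟨V, b, hbe, hbs⟩ := hY.atlas
    obtain ⟨U, h, c, h1, h2, -, -, h3⟩ := exists_chart_diagram f b hbe a₀ hae
    have has' := h3 hbs has
    obtain ⟨u, rfl⟩ := ofPt_surjective_of_surjective _ has' x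
    rw [mem_qfLocus_iff f hf _ b h h1 hbe h2 u]
    have hP : (@LocallyQuasiFinite ⊓ @LocallyOfFiniteType : MorphismProperty Scheme.{u}) h.left :=
      H _ _ h h1 hbe h2
    have : LocallyQuasiFinite h.left := hP.1
    exact h.left.quasiFiniteAt u
  · intro H U' V' a' b' m' ha' hb' hc'
    have hm : LocallyOfFiniteType m'.left := hf _ _ m' ha' hb' hc'
    refine ⟨?_, hm⟩
    rw [← Scheme.Hom.quasiFiniteLocus_eq_top_iff]
    refine top_le_iff.1 fun u' _ => ?_
    rw [Scheme.Hom.mem_quasiFiniteLocus]
    exact (mem_qfLocus_iff f hf a' b' m' ha' hb' hc' u').1 (H _)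

theorem locusData_qfLocus :
    LocusData (S := S) (fun _ _ f => qfLocus f) (@LocallyQuasiFinite ⊓ @LocallyOfFiniteType) where
  isOpen f hf := isOpen_qfLocus f hf
  baseChange hX hY hY'' _ _ _ _ sq hf x'' := qfLocus_baseChange hX hY hY'' sq hf x''
  locP_iff hX hY f hf := locP_lqf_iff_forall_mem_qfLocus hX hY f hf

end Groth.Agent.Lib.Helper6.GrpLocus
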