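import Groth.Agent.Lib.Helper6.GrpLocus

/-!
# Helper library (helper6): pseudo-torsors inherit unramifiedness / local quasi-finiteness from the group
-/

set_option autoImplicit false
universe u
open CategoryTheory CategoryTheory.Limits AlgebraicGeometry Opposite MonoidalCategory
  CartesianMonoidalCategory MonObj

namespace Groth.Agent.Lib.Helper6.GrpLocus

open AlgSp Groth.Agent.Lib.Helper15 Groth.Agent.Lib.Helper16 Groth.Agent.Lib.Helper6.UrLocus
  Groth.Agent.Lib.Helper16.QfAt

variable {S : Scheme.{u}}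

theorem pseudoTorsor_generic {L : ∀ (X Y : Sp S), (X ⟶ Y) → Set (Points X)}
    {P : MorphismProperty Scheme.{u}} (hL : LocusData L P) (B : Sp S) (hB : IsAlgSpace B)
    (G X : Over B) [GrpObj G] (hG : IsAlgSpace G.left) (hX : IsAlgSpace X.left)
    (a : AlgSp.GAction G X) (ha : a.IsPseudoTorsor)
    (hGt : LocP @LocallyOfFiniteType G.hom) (hXt : LocP @LocallyOfFiniteType X.hom)
    (hP : LocP P G.hom) : LocP P X.hom := by
  rw [hL.locP_iff hX hB X.hom hXt]
  intro x
  have hGall := (hL.locP_iff hG hB G.hom hGt).1 hP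
  have sqG : IsPullback (pullback.fst G.hom X.hom) (pullback.snd G.hom X.hom) G.hom X.hom :=
    IsPullback.of_hasPullback _ _
  have sqX : IsPullback (pullback.fst X.hom X.hom) (pullback.snd X.hom X.hom) X.hom X.hom :=
    IsPullback.of_hasPullback _ _
  have hGX : IsAlgSpace (pullback G.hom X.hom) := isAlgSpace_of_isPullback hG hB.diag hX sqG
  have hXX : IsAlgSpace (pullback X.hom X.hom) := isAlgSpace_of_isPullback hX hB.diag hX sqX
  have hlft2 : LocP @LocallyOfFiniteType (pullback.snd X.hom X.hom) :=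
    locP_of_isPullback etLocalST_locallyOfFiniteType hX hB sqX hXt
  haveI : IsIso (lift a.act (snd G X)) := ha
  let θ : pullback G.hom X.hom ⟶ pullback X.hom X.hom := (lift a.act (snd G X)).left
  haveI : IsIso θ := (inferInstance : IsIso ((Over.forget B).map (lift a.act (snd G X))))
  have hθ : θ ≫ pullback.snd X.hom X.hom = pullback.snd G.hom X.hom :=
    congrArg (fun m => m.left) (lift_snd a.act (snd G X))
  have sqθ : IsPullback θ (θ ≫ pullback.snd X.hom X.hom) (pullback.snd X.hom X.hom) (𝟙 X.left) :=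
    IsPullback.of_horiz_isIso ⟨by rw [Category.comp_id]⟩
  have hz'1 : Points.map (pullback.fst X.hom X.hom) (Points.map (pullback.diagonal X.hom) x) = x := by
    rw [← Points.map_comp, pullback.diagonal_fst, Points.map_id]
  obtain ⟨z, hz⟩ : ∃ z, Points.map θ z = Points.map (pullback.diagonal X.hom) x :=
    ⟨Points.map (inv θ) (Points.map (pullback.diagonal X.hom) x), by
      rw [← Points.map_comp, IsIso.inv_hom_id, Points.map_id]⟩
  have hz' : Points.map (pullback.diagonal X.hom) x ∈ L _ _ (pullback.snd X.hom X.hom) := by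
    rw [← hz, ← hL.baseChange hXX hX hX sqθ hlft2, hθ, hL.baseChange hG hB hX sqG hGt]
    exact hGall _
  have h := (hL.baseChange hX hB hX sqX hXt _).1 hz'
  rwa [hz'1] at h

/-- **S10118**. -/
theorem main10118 (S : Scheme.{u}) (B : AlgSp.Sp S) (hB : AlgSp.IsAlgSpace B)
    (G X : Over B) [GrpObj G] (hG : AlgSp.IsAlgSpace G.left) (hX : AlgSp.IsAlgSpace X.left)
    (a : AlgSp.GAction G X) (ha : a.IsPseudoTorsor)
    (hGt : AlgSp.LocP @LocallyOfFiniteType G.hom) (hXt : AlgSp.LocP @LocallyOfFiniteType X.hom) :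
    (AlgSp.LocP (@LocallyOfFiniteType ⊓ @FormallyUnramified) G.hom →
        AlgSp.LocP (@LocallyOfFiniteType ⊓ @FormallyUnramified) X.hom) ∧
      (AlgSp.LocP (@LocallyQuasiFinite ⊓ @LocallyOfFiniteType) G.hom →
        AlgSp.LocP (@LocallyQuasiFinite ⊓ @LocallyOfFiniteType) X.hom) :=
  ⟨pseudoTorsor_generic locusData_urLocus B hB G X hG hX a ha hGt hXt,
    pseudoTorsor_generic locusData_qfLocus B hB G X hG hX a ha hGt hXt⟩

end Groth.Agent.Lib.Helper6.GrpLocus
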