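import Mathlib

/-!
# Hermite normal form over `k⟦X⟧`

Existence (by induction on the size through row lattices, peeling off the last column) and
uniqueness (triangular argument) of the row-reduced form of a square matrix with non-zero
determinant over a power series ring over a field.
-/

namespace Groth.Agent.Lib.Helper6.HermiteNF

open PowerSeries Matrix

universe u

section Tri

variable {S : Type*} [CommRing S] {r : ℕ}

lemma lower_zero [IsDomain S] (U H H' : Matrix (Fin r) (Fin r) S)
    (hH : ∀ i j, j < i → H i j = 0)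
    (hd : ∀ i, H i i ≠ 0) (hH' : ∀ i j, j < i → H' i j = 0) (hUH : U * H = H') :
    ∀ i j, j < i → U i j = 0 := by
  intro i
  have key : ∀ (m : ℕ) (j : Fin r), j.val = m → j < i → U i j = 0 := by
    intro m
    induction m using Nat.strong_induction_on with
    | _ m ih =>
      intro j hjm hji
      have h1 : (U * H) i j = U i j * H j j := by
        rw [Matrix.mul_apply]
        apply Finset.sum_eq_single j
        · intro b _ hbj
          rcases lt_or_gt_of_ne hbj with hlt | hgt
          · rw [ih b.val (by rw [← hjm]; exact hlt) b rfl (lt_trans hlt hji), zero_mul]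
          · rw [hH b j hgt, mul_zero]
        · intro h; exact absurd (Finset.mem_univ j) h
      rw [hUH, hH' i j hji] at h1
      exact (mul_eq_zero.mp h1.symm).resolve_right (hd j)
  intro j hji
  exact key j.val j rfl hji

lemma diag_mul (U H : Matrix (Fin r) (Fin r) S) (hU : ∀ i j, j < i → U i j = 0)
    (hH : ∀ i j, j < i → H i j = 0) (i : Fin r) : (U * H) i i = U i i * H i i := by
  rw [Matrix.mul_apply]
  apply Finset.sum_eq_single i
  · intro b _ hbi
    rcases lt_or_gt_of_ne hbi with hlt | hgt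
    · rw [hU i b hlt, zero_mul]
    · rw [hH b i hgt, mul_zero]
  · intro h; exact absurd (Finset.mem_univ i) h

end Tri

variable {k : Type u} [Field k]

/-- Row-reduced matrices. -/
def IsRR {r : ℕ} (H : Matrix (Fin r) (Fin r) k⟦X⟧) : Prop :=
  ∃ e : Fin r → ℕ, (∀ i, H i i = (PowerSeries.X : k⟦X⟧) ^ e i) ∧ (∀ i j, j < i → H i j = 0) ∧
    (∀ i j, i < j → ∀ n, e j ≤ n → PowerSeries.coeff n (H i j) = 0)

theorem rr_unique {r : ℕ} (H₁ H₂ U V : Matrix (Fin r) (Fin r) k⟦X⟧) (h₁ : IsRR H₁)
    (h₂ : IsRR H₂) (hU : U * H₁ = H₂) (hV : V * H₂ = H₁) : H₁ = H₂ := by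
  obtain ⟨e₁, hd₁, hl₁, hu₁⟩ := h₁
  obtain ⟨e₂, hd₂, hl₂, hu₂⟩ := h₂
  have hX0 : ∀ n : ℕ, (PowerSeries.X : k⟦X⟧) ^ n ≠ 0 := fun n => pow_ne_zero n PowerSeries.X_ne_zero
  have hUl := lower_zero U H₁ H₂ hl₁ (fun i => by rw [hd₁]; exact hX0 _) hl₂ hU
  have hVl := lower_zero V H₂ H₁ hl₂ (fun i => by rw [hd₂]; exact hX0 _) hl₁ hV
  have hUd : ∀ i, (PowerSeries.X : k⟦X⟧) ^ e₂ i = U i i * PowerSeries.X ^ e₁ i := by
    intro i
    have := diag_mul U H₁ hUl hl₁ i
    rw [hU, hd₂, hd₁] at this; exact this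
  have hVd : ∀ i, (PowerSeries.X : k⟦X⟧) ^ e₁ i = V i i * PowerSeries.X ^ e₂ i := by
    intro i
    have := diag_mul V H₂ hVl hl₂ i
    rw [hV, hd₁, hd₂] at this; exact this
  have hXnu : ¬ IsUnit (PowerSeries.X : k⟦X⟧) := PowerSeries.X_prime.not_isUnit
  have he : ∀ i, e₁ i = e₂ i := by
    intro i
    have h1 : (PowerSeries.X : k⟦X⟧) ^ e₁ i ∣ PowerSeries.X ^ e₂ i :=
      ⟨U i i, by rw [hUd i]; ring⟩
    have h2 : (PowerSeries.X : k⟦X⟧) ^ e₂ i ∣ PowerSeries.X ^ e₁ i :=
      ⟨V i i, by rw [hVd i]; ring⟩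
    exact le_antisymm ((pow_dvd_pow_iff PowerSeries.X_ne_zero hXnu).mp h1)
      ((pow_dvd_pow_iff PowerSeries.X_ne_zero hXnu).mp h2)
  have hU1 : ∀ i, U i i = 1 := by
    intro i
    have := hUd i
    rw [← he i] at this
    have h3 : (U i i - 1) * (PowerSeries.X : k⟦X⟧) ^ e₁ i = 0 := by linear_combination -this
    rcases mul_eq_zero.mp h3 with h | h
    · exact sub_eq_zero.mp h
    · exact absurd h (hX0 _)
  have hUu : ∀ i j, i < j → U i j = 0 := by
    intro i
    have key : ∀ (m : ℕ) (j : Fin r), j.val = m → i < j → U i j = 0 := by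
      intro m
      induction m using Nat.strong_induction_on with
      | _ m ih =>
        intro j hjm hij
        have h1 : (U * H₁) i j = U i i * H₁ i j + U i j * H₁ j j := by
          rw [Matrix.mul_apply]
          apply Finset.sum_eq_add i j (ne_of_lt hij)
          · intro c _ hc
            rcases lt_trichotomy c i with hci | hci | hci
            · rw [hUl i c hci, zero_mul]
            · exact absurd hci hc.1
            · rcases lt_trichotomy c j with hcj | hcj | hcj
              · rw [ih c.val (by rw [← hjm]; exact hcj) c rfl hci, zero_mul]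
              · exact absurd hcj hc.2
              · rw [hl₁ c j hcj, mul_zero]
          · intro h; exact absurd (Finset.mem_univ i) h
          · intro h; exact absurd (Finset.mem_univ j) h
        rw [hU, hU1 i, one_mul, hd₁ j] at h1
        refine PowerSeries.ext (fun n => ?_)
        have h2 := congrArg (PowerSeries.coeff (n + e₁ j)) h1
        rw [map_add, PowerSeries.coeff_mul_X_pow,
          hu₂ i j hij (n + e₁ j) (by rw [← he j]; omega),
          hu₁ i j hij (n + e₁ j) (by omega), zero_add] at h2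
        rw [← h2, map_zero]
    intro j hij
    exact key j.val j rfl hij
  have hUone : U = 1 := by
    refine Matrix.ext (fun i j => ?_)
    rcases lt_trichotomy i j with h | h | h
    · rw [hUu i j h, Matrix.one_apply_ne (ne_of_lt h)]
    · subst h; rw [hU1, Matrix.one_apply_eq]
    · rw [hUl i j h, Matrix.one_apply_ne (ne_of_gt h)]
  rw [← hU, hUone, Matrix.one_mul]

theorem exists_rr_lattice : ∀ (r : ℕ) (Λ : Submodule k⟦X⟧ (Fin r → k⟦X⟧)) (a : k⟦X⟧), a ≠ 0 →
    (∀ v : Fin r → k⟦X⟧, a • v ∈ Λ) →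
    ∃ H : Matrix (Fin r) (Fin r) k⟦X⟧, IsRR H ∧
      Submodule.span k⟦X⟧ (Set.range (fun i => H i)) = Λ := by
  intro r
  induction r with
  | zero =>
    intro Λ a _ _
    refine ⟨0, ⟨fun i => i.elim0, fun i => i.elim0, fun i => i.elim0, fun i => i.elim0⟩, ?_⟩
    refine SetLike.ext (fun v => ?_)
    have hv : v = 0 := Subsingleton.elim _ _
    subst hv
    exact ⟨fun _ => Submodule.zero_mem _, fun _ => Submodule.zero_mem _⟩
  | succ r ih =>
    intro Λ a ha hΛ
    let εl : Fin (r + 1) → k⟦X⟧ := Pi.single (Fin.last r) 1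
    let pr : (Fin (r + 1) → k⟦X⟧) →ₗ[k⟦X⟧] (Fin r → k⟦X⟧) :=
      LinearMap.funLeft k⟦X⟧ k⟦X⟧ Fin.castSucc
    have pr_apply : ∀ (v : Fin (r + 1) → k⟦X⟧) (i : Fin r), pr v i = v i.castSucc :=
      fun v i => rfl
    have hεl_last : εl (Fin.last r) = 1 := Pi.single_eq_same _ _
    have hεl_cs : ∀ i : Fin r, εl i.castSucc = 0 := fun i =>
      Pi.single_eq_of_ne (Fin.castSucc_lt_last i).ne _
    have pr_εl : pr εl = 0 := by
      funext i
      rw [pr_apply, hεl_cs]; rfl
    have hΛ₀ : ∀ w : Fin r → k⟦X⟧, a • w ∈ Λ.map pr := by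
      intro w
      refine Submodule.mem_map.mpr ⟨a • (Fin.snoc (α := fun _ => k⟦X⟧) w 0), hΛ _, ?_⟩
      funext i
      rw [pr_apply]
      simp
    obtain ⟨H₀, ⟨e₀, hd₀, hl₀, hu₀⟩, hspan₀⟩ := ih (Λ.map pr) a ha hΛ₀
    let I : Ideal k⟦X⟧ :=
      Λ.comap (LinearMap.toSpanSingleton k⟦X⟧ (Fin (r + 1) → k⟦X⟧) εl)
    have hI : ∀ b, b ∈ I ↔ b • εl ∈ Λ := by
      intro b
      show (LinearMap.toSpanSingleton k⟦X⟧ (Fin (r + 1) → k⟦X⟧) εl) b ∈ Λ ↔ _
      rw [LinearMap.toSpanSingleton_apply]
    have haI : a ∈ I := (hI a).mpr (hΛ εl)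
    have hIbot : I ≠ ⊥ := by
      intro h
      rw [h] at haI
      exact ha (Ideal.mem_bot.mp haI)
    obtain ⟨e, he⟩ := IsDiscreteValuationRing.ideal_eq_span_pow_irreducible hIbot
      (PowerSeries.X_prime (R := k)).irreducible
    have hXe : (PowerSeries.X : k⟦X⟧) ^ e • εl ∈ Λ :=
      (hI _).mp (by rw [he]; exact Ideal.mem_span_singleton_self _)
    have hlift : ∀ i : Fin r, ∃ h ∈ Λ, pr h = H₀ i ∧
        ∀ n, e ≤ n → PowerSeries.coeff n (h (Fin.last r)) = 0 := by
      intro i
      have hmem : H₀ i ∈ Λ.map pr := by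
        rw [← hspan₀]; exact Submodule.subset_span ⟨i, rfl⟩
      obtain ⟨h', hh', hpr⟩ := Submodule.mem_map.mp hmem
      let rem : k⟦X⟧ :=
        PowerSeries.mk (fun n => if n < e then PowerSeries.coeff n (h' (Fin.last r)) else 0)
      have hdvd : (PowerSeries.X : k⟦X⟧) ^ e ∣ h' (Fin.last r) - rem := by
        rw [PowerSeries.X_pow_dvd_iff]
        intro m hm
        simp [rem, hm]
      obtain ⟨q, hq⟩ := hdvd
      refine ⟨h' - q • ((PowerSeries.X : k⟦X⟧) ^ e • εl),
        Λ.sub_mem hh' (Λ.smul_mem q hXe), ?_, ?_⟩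
      · rw [map_sub, map_smul, map_smul, pr_εl, smul_zero, smul_zero, sub_zero, hpr]
      · intro n hn
        have hlast : (h' - q • ((PowerSeries.X : k⟦X⟧) ^ e • εl)) (Fin.last r) = rem := by
          simp only [Pi.sub_apply, Pi.smul_apply, hεl_last, smul_eq_mul, mul_one]
          have : q * (PowerSeries.X : k⟦X⟧) ^ e = h' (Fin.last r) - rem := by rw [hq]; ring
          rw [this]; ring
        rw [hlast]
        simp [rem, not_lt.mpr hn]
    choose h hhΛ hhpr hhrem using hlift
    let row : Fin (r + 1) → (Fin (r + 1) → k⟦X⟧) :=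
      Fin.lastCases (motive := fun _ => Fin (r + 1) → k⟦X⟧)
        ((PowerSeries.X : k⟦X⟧) ^ e • εl) h
    have row_last : row (Fin.last r) = (PowerSeries.X : k⟦X⟧) ^ e • εl := Fin.lastCases_last
    have row_cs : ∀ i : Fin r, row i.castSucc = h i := fun i => Fin.lastCases_castSucc i
    let e' : Fin (r + 1) → ℕ := Fin.lastCases (motive := fun _ => ℕ) e e₀
    have e'_last : e' (Fin.last r) = e := Fin.lastCases_last
    have e'_cs : ∀ i : Fin r, e' i.castSucc = e₀ i := fun i => Fin.lastCases_castSucc i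
    have h_cs : ∀ i j : Fin r, h i j.castSucc = H₀ i j := by
      intro i j
      have := congrFun (hhpr i) j
      rw [pr_apply] at this; exact this
    refine ⟨Matrix.of row, ⟨e', ?_, ?_, ?_⟩, ?_⟩
    · intro i
      obtain ⟨i', rfl⟩ | rfl := Fin.eq_castSucc_or_eq_last i
      · show row i'.castSucc i'.castSucc = _
        rw [row_cs, e'_cs, h_cs, hd₀]
      · show row (Fin.last r) (Fin.last r) = _
        rw [row_last, e'_last, Pi.smul_apply, hεl_last, smul_eq_mul, mul_one]
    · intro i j hji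
      obtain ⟨i', rfl⟩ | rfl := Fin.eq_castSucc_or_eq_last i
      · obtain ⟨j', rfl⟩ | rfl := Fin.eq_castSucc_or_eq_last j
        · show row i'.castSucc j'.castSucc = 0
          rw [row_cs, h_cs]
          exact hl₀ i' j' (Fin.castSucc_lt_castSucc_iff.mp hji)
        · exact absurd hji (not_lt.mpr (Fin.le_last _))
      · obtain ⟨j', rfl⟩ | rfl := Fin.eq_castSucc_or_eq_last j
        · show row (Fin.last r) j'.castSucc = 0
          rw [row_last, Pi.smul_apply, hεl_cs, smul_zero]
        · exact absurd hji (lt_irrefl _)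
    · intro i j hij n hn
      obtain ⟨i', rfl⟩ | rfl := Fin.eq_castSucc_or_eq_last i
      · obtain ⟨j', rfl⟩ | rfl := Fin.eq_castSucc_or_eq_last j
        · show PowerSeries.coeff n (row i'.castSucc j'.castSucc) = 0
          rw [row_cs, h_cs]
          rw [e'_cs] at hn
          exact hu₀ i' j' (Fin.castSucc_lt_castSucc_iff.mp hij) n hn
        · show PowerSeries.coeff n (row i'.castSucc (Fin.last r)) = 0
          rw [row_cs]
          rw [e'_last] at hn
          exact hhrem i' n hn
      · exact absurd hij (not_lt.mpr (Fin.le_last _))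
    · apply le_antisymm
      · refine Submodule.span_le.mpr ?_
        rintro _ ⟨i, rfl⟩
        show row i ∈ Λ
        obtain ⟨i', rfl⟩ | rfl := Fin.eq_castSucc_or_eq_last i
        · rw [row_cs]; exact hhΛ i'
        · rw [row_last]; exact hXe
      · intro v hv
        have hprv : pr v ∈ Λ.map pr := Submodule.mem_map_of_mem hv
        rw [← hspan₀] at hprv
        obtain ⟨c, hc⟩ := (Submodule.mem_span_range_iff_exists_fun _).mp hprv
        have hwΛ : v - ∑ i, c i • h i ∈ Λ :=
          Λ.sub_mem hv (Λ.sum_mem (fun i _ => Λ.smul_mem _ (hhΛ i)))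
        have hprw : pr (v - ∑ i, c i • h i) = 0 := by
          rw [map_sub, map_sum]
          simp only [map_smul, hhpr]
          rw [hc, sub_self]
        have hw : v - ∑ i, c i • h i = (v - ∑ i, c i • h i) (Fin.last r) • εl := by
          funext j
          obtain ⟨j', rfl⟩ | rfl := Fin.eq_castSucc_or_eq_last j
          · have := congrFun hprw j'
            rw [pr_apply] at this
            rw [this, Pi.smul_apply, hεl_cs, smul_zero]; rfl
          · rw [Pi.smul_apply, hεl_last, smul_eq_mul, mul_one]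
        have hwI : (v - ∑ i, c i • h i) (Fin.last r) ∈ I := by
          rw [hI, ← hw]; exact hwΛ
        rw [he, Ideal.mem_span_singleton'] at hwI
        obtain ⟨b, hb⟩ := hwI
        have hwrow : v - ∑ i, c i • h i = b • row (Fin.last r) := by
          rw [row_last, smul_smul, hb]; exact hw
        have hv' : v = b • row (Fin.last r) + ∑ i : Fin r, c i • row i.castSucc := by
          rw [← hwrow]
          simp only [row_cs]
          exact (sub_add_cancel _ _).symm
        rw [hv']
        exact Submodule.add_mem _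
          (Submodule.smul_mem _ _ (Submodule.subset_span ⟨Fin.last r, rfl⟩))
          (Submodule.sum_mem _ (fun i _ =>
            Submodule.smul_mem _ _ (Submodule.subset_span ⟨i.castSucc, rfl⟩)))

theorem exists_rr (r : ℕ) (M : Matrix (Fin r) (Fin r) k⟦X⟧) (hM : M.det ≠ 0) :
    ∃ H : Matrix (Fin r) (Fin r) k⟦X⟧, IsRR H ∧
      ∃ N : Matrix (Fin r) (Fin r) k⟦X⟧, IsUnit N ∧ N * M = H := by
  have hΛ : ∀ v : Fin r → k⟦X⟧,
      M.det • v ∈ Submodule.span k⟦X⟧ (Set.range (fun i => M i)) := by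
    intro v
    have h1 : M.det • v = Matrix.vecMul (Matrix.vecMul v M.adjugate) M := by
      rw [Matrix.vecMul_vecMul, Matrix.adjugate_mul, Matrix.vecMul_smul, Matrix.vecMul_one]
    rw [h1, Matrix.vecMul_eq_sum]
    exact Submodule.sum_mem _ (fun l _ =>
      Submodule.smul_mem _ _ (Submodule.subset_span ⟨l, rfl⟩))
  obtain ⟨H, hH, hspan⟩ := exists_rr_lattice r _ M.det hM hΛ
  have hrowH : ∀ i, ∃ c : Fin r → k⟦X⟧, ∑ l, c l • M l = H i := by
    intro i
    have : H i ∈ Submodule.span k⟦X⟧ (Set.range (fun i => M i)) := by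
      rw [← hspan]; exact Submodule.subset_span ⟨i, rfl⟩
    exact (Submodule.mem_span_range_iff_exists_fun _).mp this
  choose N hN using hrowH
  have hrowM : ∀ i, ∃ c : Fin r → k⟦X⟧, ∑ l, c l • H l = M i := by
    intro i
    have : M i ∈ Submodule.span k⟦X⟧ (Set.range (fun i => H i)) := by
      rw [hspan]; exact Submodule.subset_span ⟨i, rfl⟩
    exact (Submodule.mem_span_range_iff_exists_fun _).mp this
  choose N' hN' using hrowM
  have hNM : (Matrix.of N) * M = H := by
    refine Matrix.ext (fun i j => ?_)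
    rw [Matrix.mul_apply, ← hN i, Finset.sum_apply]
    rfl
  have hN'H : (Matrix.of N') * H = M := by
    refine Matrix.ext (fun i j => ?_)
    rw [Matrix.mul_apply, ← hN' i, Finset.sum_apply]
    rfl
  have hinv : Matrix.of N' * Matrix.of N = 1 := by
    have h1 : (Matrix.of N' * Matrix.of N - 1) * M = 0 := by
      rw [Matrix.sub_mul, Matrix.mul_assoc, hNM, hN'H, Matrix.one_mul, sub_self]
    have h2 : M.det • (Matrix.of N' * Matrix.of N - 1) = 0 := by
      have := congrArg (fun T => T * M.adjugate) h1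
      simp only [Matrix.mul_assoc, Matrix.mul_adjugate, Matrix.zero_mul] at this
      rwa [Matrix.mul_smul, Matrix.mul_one] at this
    have h3 : Matrix.of N' * Matrix.of N - 1 = 0 := by
      refine Matrix.ext (fun i j => ?_)
      have := congrFun (congrFun h2 i) j
      simp only [Matrix.smul_apply, smul_eq_mul, Matrix.zero_apply] at this
      exact (mul_eq_zero.mp this).resolve_left hM
    exact sub_eq_zero.mp h3
  exact ⟨H, hH, Matrix.of N,
    (Matrix.isUnit_iff_isUnit_det _).mpr (Matrix.isUnit_det_of_left_inverse hinv), hNM⟩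

theorem main (r : ℕ) (M : Matrix (Fin r) (Fin r) k⟦X⟧) (hM : M.det ≠ 0) :
    ∃! H : Matrix (Fin r) (Fin r) k⟦X⟧,
      (∃ e : Fin r → ℕ, (∀ i, H i i = PowerSeries.X ^ e i) ∧ (∀ i j, j < i → H i j = 0) ∧
        (∀ i j, i < j → ∀ n, e j ≤ n → PowerSeries.coeff n (H i j) = 0)) ∧
      ∃ N : Matrix (Fin r) (Fin r) k⟦X⟧, IsUnit N ∧ N * M = H := by
  obtain ⟨H, hH, N, hN, hNM⟩ := exists_rr r M hM
  refine ⟨H, ⟨hH, N, hN, hNM⟩, ?_⟩
  rintro H' ⟨hH', N', hN', hN'M⟩
  obtain ⟨Ni, hNi1⟩ : ∃ Ni, Ni * N = 1 := by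
    obtain ⟨u, hu⟩ := hN
    exact ⟨↑u⁻¹, by rw [← hu]; exact Units.inv_mul u⟩
  obtain ⟨Ni', hNi1'⟩ : ∃ Ni', Ni' * N' = 1 := by
    obtain ⟨u, hu⟩ := hN'
    exact ⟨↑u⁻¹, by rw [← hu]; exact Units.inv_mul u⟩
  have hU : (N' * Ni) * H = H' := by
    rw [← hNM, Matrix.mul_assoc, ← Matrix.mul_assoc Ni, hNi1, Matrix.one_mul, hN'M]
  have hV : (N * Ni') * H' = H := by
    rw [← hN'M, Matrix.mul_assoc, ← Matrix.mul_assoc Ni', hNi1', Matrix.one_mul, hNM]
  exact (rr_unique H H' _ _ hH hH' hU hV).symm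

end Groth.Agent.Lib.Helper6.HermiteNF
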