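import Mathlib
import Groth.Agent.Lib.Helper6.HermiteNF

/-!
# Refined Hermite form over `k⟦X⟧` with column operations over `k⟦X^p⟧`
-/

namespace Groth.Agent.Lib.Helper6.HermiteRefine

open PowerSeries Matrix

universe u

section Band

variable {S : Type*} [CommRing S] {r : ℕ}

lemma band (s : ℕ) (hs : 1 ≤ s) (G A B : Matrix (Fin r) (Fin r) S)
    (hG : ∀ i j, j < i → G i j = 0)
    (hA : ∀ i a : Fin r, a.val ≠ i.val + s → A i a = 0)
    (hB : ∀ b j : Fin r, j.val ≠ b.val + s → B b j = 0)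
    (i j : Fin r) (hij : j.val ≤ i.val + s) :
    ((1 + A) * G * (1 + B)) i j = G i j + A i j * G j j + G i i * B i j := by
  have hAG : ∀ i' j' : Fin r, j'.val ≤ i'.val + s → (A * G) i' j' = A i' j' * G j' j' := by
    intro i' j' h
    rw [Matrix.mul_apply]
    apply Finset.sum_eq_single j'
    · intro a _ haj
      by_cases ha : a.val = i'.val + s
      · have hlt : j' < a := by
          rw [Fin.lt_def]
          have hne : a.val ≠ j'.val := fun h' => haj (Fin.ext h')
          omega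
        rw [hG a j' hlt, mul_zero]
      · rw [hA i' a ha, zero_mul]
    · intro h'; exact absurd (Finset.mem_univ j') h'
  have hGB : (G * B) i j = G i i * B i j := by
    rw [Matrix.mul_apply]
    apply Finset.sum_eq_single i
    · intro b _ hbi
      by_cases hb : j.val = b.val + s
      · have hlt : b < i := by
          rw [Fin.lt_def]
          have hne : b.val ≠ i.val := fun h' => hbi (Fin.ext h')
          omega
        rw [hG i b hlt, zero_mul]
      · rw [hB b j hb, mul_zero]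
    · intro h'; exact absurd (Finset.mem_univ i) h'
  have hAGB : (A * G * B) i j = 0 := by
    rw [Matrix.mul_apply]
    apply Finset.sum_eq_zero
    intro b _
    by_cases hb : j.val = b.val + s
    · rw [hAG i b (by omega), hA i b (by omega), zero_mul, zero_mul]
    · rw [hB b j hb, mul_zero]
  have hexp : (1 + A) * G * (1 + B) = G + A * G + G * B + A * G * B := by
    rw [add_mul, one_mul, mul_add, mul_one, add_mul, ← add_assoc]
  rw [hexp]
  simp only [Matrix.add_apply]
  rw [hAG i j hij, hGB, hAGB, add_zero]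

lemma isUnit_one_add (A : Matrix (Fin r) (Fin r) S) (hA : ∀ i j, j ≤ i → A i j = 0) :
    IsUnit (1 + A) := by
  rw [Matrix.isUnit_iff_isUnit_det]
  have htri : (1 + A).BlockTriangular id := by
    intro i j hji
    have hji' : j < i := hji
    rw [Matrix.add_apply, Matrix.one_apply_ne (ne_of_gt hji'), hA i j hji'.le, add_zero]
  rw [Matrix.det_of_upperTriangular htri]
  have hdiag : ∀ i, (1 + A) i i = 1 := fun i => by
    rw [Matrix.add_apply, Matrix.one_apply_eq, hA i i le_rfl, add_zero]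
  simp only [hdiag, Finset.prod_const_one, isUnit_one]

end Band

variable {k : Type u} [Field k]

/-- Power series in `X^p`. -/
def Sp (k : Type u) [Field k] (p : ℕ) : Subring k⟦X⟧ where
  carrier := {f | ∀ n, ¬ p ∣ n → PowerSeries.coeff n f = 0}
  mul_mem' := by
    intro f g (hf : ∀ n, ¬ p ∣ n → PowerSeries.coeff n f = 0)
      (hg : ∀ n, ¬ p ∣ n → PowerSeries.coeff n g = 0) n hn
    rw [PowerSeries.coeff_mul]
    apply Finset.sum_eq_zero
    rintro ⟨a, b⟩ hab
    have hab' : a + b = n := Finset.HasAntidiagonal.mem_antidiagonal.mp hab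
    show PowerSeries.coeff a f * PowerSeries.coeff b g = 0
    by_cases ha : p ∣ a
    · have hb : ¬ p ∣ b := by
        intro hb; apply hn; rw [← hab']; exact dvd_add ha hb
      rw [hg b hb, mul_zero]
    · rw [hf a ha, zero_mul]
  one_mem' := by
    intro n hn
    rw [PowerSeries.coeff_one, if_neg]
    rintro rfl; exact hn (dvd_zero p)
  add_mem' := by
    intro f g (hf : ∀ n, ¬ p ∣ n → PowerSeries.coeff n f = 0)
      (hg : ∀ n, ¬ p ∣ n → PowerSeries.coeff n g = 0) n hn
    rw [map_add, hf n hn, hg n hn, add_zero]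
  zero_mem' := by
    intro n _; exact map_zero _
  neg_mem' := by
    intro f (hf : ∀ n, ¬ p ∣ n → PowerSeries.coeff n f = 0) n hn
    rw [map_neg, hf n hn, neg_zero]

lemma mem_Sp {p : ℕ} {f : k⟦X⟧} :
    f ∈ Sp k p ↔ ∀ n, ¬ p ∣ n → PowerSeries.coeff n f = 0 := Iff.rfl

/-- The target condition on the entry `(i, j)`. -/
def Good (p ei ej : ℕ) (f : k⟦X⟧) : Prop :=
  ∀ n, (ej ≤ n ∨ (ei ≤ n ∧ n % p = ei % p)) → PowerSeries.coeff n f = 0

lemma onevar (p : ℕ) (g : k⟦X⟧) (ei ej : ℕ) :
    ∃ n π : k⟦X⟧, π ∈ Sp k p ∧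
      Good p ei ej (g + n * (PowerSeries.X : k⟦X⟧) ^ ej + (PowerSeries.X : k⟦X⟧) ^ ei * π) := by
  let rem : k⟦X⟧ := PowerSeries.mk (fun m => if m < ej then PowerSeries.coeff m g else 0)
  have hdvd : (PowerSeries.X : k⟦X⟧) ^ ej ∣ g - rem := by
    rw [PowerSeries.X_pow_dvd_iff]
    intro m hm
    simp [rem, hm]
  obtain ⟨q, hq⟩ := hdvd
  let π : k⟦X⟧ :=
    PowerSeries.mk (fun l => if p ∣ l then - PowerSeries.coeff (l + ei) rem else 0)
  refine ⟨-q, π, ?_, ?_⟩
  · rw [mem_Sp]
    intro l hl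
    simp [π, hl]
  · intro m hm
    have h1 : g + -q * (PowerSeries.X : k⟦X⟧) ^ ej + (PowerSeries.X : k⟦X⟧) ^ ei * π =
        rem + (PowerSeries.X : k⟦X⟧) ^ ei * π := by linear_combination hq
    rw [h1, map_add, PowerSeries.coeff_X_pow_mul']
    have hrem : ∀ m', ej ≤ m' → PowerSeries.coeff m' rem = 0 := by
      intro m' h
      simp [rem, not_lt.mpr h]
    by_cases hle : ei ≤ m
    · rw [if_pos hle]
      have hπ : PowerSeries.coeff (m - ei) π =
          if p ∣ (m - ei) then - PowerSeries.coeff m rem else 0 := by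
        simp only [π, PowerSeries.coeff_mk]
        rw [Nat.sub_add_cancel hle]
      rw [hπ]
      rcases hm with h | ⟨_, h⟩
      · rw [hrem m h]
        split_ifs <;> simp
      · have h' : ei % p = m % p := h.symm
        have hdvd' : p ∣ m - ei := (Nat.modEq_iff_dvd' hle).mp h'
        rw [if_pos hdvd', add_neg_cancel]
    · rw [if_neg hle, add_zero]
      rcases hm with h | ⟨h, _⟩
      · exact hrem m h
      · exact absurd h hle

lemma step (p : ℕ) {r : ℕ} (e : Fin r → ℕ) (s : ℕ) (hs : 1 ≤ s)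
    (G : Matrix (Fin r) (Fin r) k⟦X⟧)
    (hd : ∀ i, G i i = (PowerSeries.X : k⟦X⟧) ^ e i) (hl : ∀ i j, j < i → G i j = 0)
    (hg : ∀ i j : Fin r, i < j → j.val < i.val + s → Good p (e i) (e j) (G i j)) :
    ∃ N₁ P₁ : Matrix (Fin r) (Fin r) k⟦X⟧, IsUnit N₁ ∧ IsUnit P₁ ∧
      (∀ i j, P₁ i j ∈ Sp k p) ∧
      (∀ i, (N₁ * G * P₁) i i = (PowerSeries.X : k⟦X⟧) ^ e i) ∧
      (∀ i j, j < i → (N₁ * G * P₁) i j = 0) ∧
      (∀ i j : Fin r, i < j → j.val < i.val + (s + 1) →
        Good p (e i) (e j) ((N₁ * G * P₁) i j)) := by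
  have h1 : ∀ i j : Fin r, ∃ n π : k⟦X⟧, π ∈ Sp k p ∧
      Good p (e i) (e j) (G i j + n * (PowerSeries.X : k⟦X⟧) ^ e j +
        (PowerSeries.X : k⟦X⟧) ^ e i * π) := fun i j => onevar p (G i j) (e i) (e j)
  choose n π hπ hgood using h1
  let A : Matrix (Fin r) (Fin r) k⟦X⟧ :=
    Matrix.of fun i j => if j.val = i.val + s then n i j else 0
  let B : Matrix (Fin r) (Fin r) k⟦X⟧ :=
    Matrix.of fun i j => if j.val = i.val + s then π i j else 0
  have hAdef : ∀ i j, A i j = if j.val = i.val + s then n i j else 0 := fun i j => rfl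
  have hBdef : ∀ i j, B i j = if j.val = i.val + s then π i j else 0 := fun i j => rfl
  have hA : ∀ i a : Fin r, a.val ≠ i.val + s → A i a = 0 := fun i a h => by
    rw [hAdef, if_neg h]
  have hB : ∀ b j : Fin r, j.val ≠ b.val + s → B b j = 0 := fun b j h => by
    rw [hBdef, if_neg h]
  have key := band s hs G A B hl hA hB
  refine ⟨1 + A, 1 + B, ?_, ?_, ?_, ?_, ?_, ?_⟩
  · apply isUnit_one_add
    intro i j hji
    apply hA
    have : j.val ≤ i.val := hji
    omega
  · apply isUnit_one_add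
    intro i j hji
    apply hB
    have : j.val ≤ i.val := hji
    omega
  · intro i j
    rw [Matrix.add_apply]
    refine Subring.add_mem _ ?_ ?_
    · rw [Matrix.one_apply]
      split_ifs
      · exact Subring.one_mem _
      · exact Subring.zero_mem _
    · rw [hBdef]
      split_ifs
      · exact hπ i j
      · exact Subring.zero_mem _
  · intro i
    rw [key i i (by omega), hA i i (by omega), hB i i (by omega), zero_mul, mul_zero, add_zero,
      add_zero]
    exact hd i
  · intro i j hji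
    have hji' : j.val < i.val := hji
    rw [key i j (by omega), hA i j (by omega), hB i j (by omega), zero_mul, mul_zero, add_zero,
      add_zero]
    exact hl i j hji
  · intro i j hij hlt
    have hij' : i.val < j.val := hij
    by_cases hjs : j.val = i.val + s
    · rw [key i j (by omega), hAdef, hBdef, if_pos hjs, if_pos hjs, hd i, hd j]
      exact hgood i j
    · rw [key i j (by omega), hA i j hjs, hB i j hjs, zero_mul, mul_zero, add_zero, add_zero]
      exact hg i j hij (by omega)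

theorem refine_rr (p : ℕ) {r : ℕ} (e : Fin r → ℕ) (H : Matrix (Fin r) (Fin r) k⟦X⟧)
    (hd : ∀ i, H i i = (PowerSeries.X : k⟦X⟧) ^ e i) (hl : ∀ i j, j < i → H i j = 0) :
    ∀ t : ℕ, ∃ N P : Matrix (Fin r) (Fin r) k⟦X⟧, IsUnit N ∧ IsUnit P ∧
      (∀ i j, P i j ∈ Sp k p) ∧
      (∀ i, (N * H * P) i i = (PowerSeries.X : k⟦X⟧) ^ e i) ∧
      (∀ i j, j < i → (N * H * P) i j = 0) ∧
      (∀ i j : Fin r, i < j → j.val < i.val + (t + 1) →
        Good p (e i) (e j) ((N * H * P) i j)) := by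
  intro t
  induction t with
  | zero =>
    refine ⟨1, 1, isUnit_one, isUnit_one, ?_, ?_, ?_, ?_⟩
    · intro i j
      rw [Matrix.one_apply]
      split_ifs
      · exact Subring.one_mem _
      · exact Subring.zero_mem _
    · intro i; rw [Matrix.one_mul, Matrix.mul_one]; exact hd i
    · intro i j h; rw [Matrix.one_mul, Matrix.mul_one]; exact hl i j h
    · intro i j hij h
      exfalso
      have : i.val < j.val := hij
      omega
  | succ t ih =>
    obtain ⟨N, P, hN, hP, hPS, hd', hl', hg'⟩ := ih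
    obtain ⟨N₁, P₁, hN₁, hP₁, hP₁S, hd'', hl'', hg''⟩ :=
      step p e (t + 1) (by omega) (N * H * P) hd' hl' hg'
    have hassoc : N₁ * N * H * (P * P₁) = N₁ * (N * H * P) * P₁ := by
      simp only [Matrix.mul_assoc]
    refine ⟨N₁ * N, P * P₁, hN₁.mul hN, hP.mul hP₁, ?_, ?_, ?_, ?_⟩
    · intro i j
      rw [Matrix.mul_apply]
      exact Subring.sum_mem _ (fun l _ => Subring.mul_mem _ (hPS i l) (hP₁S l j))
    · intro i; rw [hassoc]; exact hd'' i
    · intro i j h; rw [hassoc]; exact hl'' i j h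
    · intro i j hij h; rw [hassoc]; exact hg'' i j hij h

theorem main (p : ℕ) (r : ℕ) (M : Matrix (Fin r) (Fin r) k⟦X⟧) (hM : M.det ≠ 0) :
    ∃ (N P : Matrix (Fin r) (Fin r) k⟦X⟧) (e : Fin r → ℕ), IsUnit N ∧ IsUnit P ∧
      (∀ i j n, ¬ p ∣ n → PowerSeries.coeff n (P i j) = 0) ∧
      (∀ i, (N * M * P) i i = PowerSeries.X ^ e i) ∧ (∀ i j, j < i → (N * M * P) i j = 0) ∧
      (∀ i j, i < j → ∀ n, (e j ≤ n ∨ (e i ≤ n ∧ n % p = e i % p)) →
        PowerSeries.coeff n ((N * M * P) i j) = 0) := by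
  obtain ⟨H, ⟨e, hd, hl, _⟩, N₀, hN₀, hN₀M⟩ := HermiteNF.exists_rr r M hM
  obtain ⟨N, P, hN, hP, hPS, hd', hl', hg'⟩ := refine_rr p e H hd hl r
  have hassoc : N * N₀ * M * P = N * H * P := by
    rw [← hN₀M]; simp only [Matrix.mul_assoc]
  refine ⟨N * N₀, P, e, hN.mul hN₀, hP, ?_, ?_, ?_, ?_⟩
  · intro i j n hn; exact (mem_Sp.mp (hPS i j)) n hn
  · intro i; rw [hassoc]; exact hd' i
  · intro i j h; rw [hassoc]; exact hl' i j h
  · intro i j hij n hn
    rw [hassoc]
    exact hg' i j hij (by have := j.isLt; omega) n hn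

end Groth.Agent.Lib.Helper6.HermiteRefine
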