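import Mathlib
import Groth.Prelude.Def_ArtFun6
import Groth.Prelude.Def_ArtFun2
import Groth.Prelude.Def_FGA

/-!
# D12 sub-piece Y3a for helper18 (S12265): elements of the local Hilbert functor are points of the
Hilbert functor over `Spec A`  (helper6)
-/

set_option autoImplicit false
universe u
open CategoryTheory CategoryTheory.Limits AlgebraicGeometry

namespace Groth.Agent.Lib.Helper6.HilbTanY3a

open ArtFun ArtFun.Art

variable {k : Type u} [Field k]

instance isLocallyNoetherian_spec (A : Art k k) :
    IsLocallyNoetherian (Over.mk (specOver A)).left := by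
  show IsLocallyNoetherian (Spec (CommRingCat.of A))
  infer_instance

instance isLocallyNoetherian_specPt :
    IsLocallyNoetherian (Over.mk (𝟙 (Spec (CommRingCat.of k)))).left := by
  show IsLocallyNoetherian (Spec (CommRingCat.of k))
  infer_instance

/-- an element of `localHilb(A)` as an element of `Hilb(Spec A)` -/
def toHilbSet (Y : Scheme.{u}) (y : Y ⟶ Spec (CommRingCat.of k)) [IsProper y]
    (I₀ : Y.IdealSheafData) (A : Art k k) (I : (localHilb Y y I₀).obj A) :
    FGA.HilbSet y (Over.mk (specOver A)) :=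
  ⟨I.1, inferInstance, I.2.1⟩

@[simp] theorem toHilbSet_val (Y : Scheme.{u}) (y : Y ⟶ Spec (CommRingCat.of k)) [IsProper y]
    (I₀ : Y.IdealSheafData) (A : Art k k) (I : (localHilb Y y I₀).obj A) :
    (toHilbSet Y y I₀ A I).1 = I.1 := rfl

/-- any morphism from an affine scheme to the spectrum of a field is flat -/
theorem flat_of_field_of_isAffine {T : Scheme.{u}} [IsAffine T]
    (f : T ⟶ Spec (CommRingCat.of k)) : Flat f := by
  rw [HasRingHomProperty.iff_of_isAffine (P := @Flat)]
  have h1 : ((Scheme.ΓSpecIso (CommRingCat.of k)).inv ≫ f.appTop).hom.Flat := by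
    letI := ((Scheme.ΓSpecIso (CommRingCat.of k)).inv ≫ f.appTop).hom.toAlgebra
    show Module.Flat k _
    infer_instance
  have h2 : f.appTop.hom = (((Scheme.ΓSpecIso (CommRingCat.of k)).inv ≫ f.appTop).hom).comp
      (Scheme.ΓSpecIso (CommRingCat.of k)).hom.hom := by
    ext x
    simp
  rw [h2]
  exact RingHom.Flat.comp
    (RingHom.Flat.of_bijective (ConcreteCategory.bijective_of_isIso
      (Scheme.ΓSpecIso (CommRingCat.of k)).hom)) h1

/-- any morphism to the spectrum of a field is flat -/
theorem flat_of_field {W : Scheme.{u}} (f : W ⟶ Spec (CommRingCat.of k)) : Flat f := by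
  rw [HasRingHomProperty.iff_of_source_openCover (P := @Flat) W.affineCover]
  intro i
  have h := flat_of_field_of_isAffine (W.affineCover.f i ≫ f)
  rwa [HasRingHomProperty.iff_of_isAffine (P := @Flat)] at h

/-- every closed subscheme of `Y ×_k Spec k` (for proper `y`) is a point of `Hilb(Spec k)` -/
def toHilbSetPt (Y : Scheme.{u}) (y : Y ⟶ Spec (CommRingCat.of k)) [IsProper y]
    (J : (PicF.XT y (Over.mk (𝟙 (Spec (CommRingCat.of k))))).IdealSheafData) :
    FGA.HilbSet y (Over.mk (𝟙 (Spec (CommRingCat.of k)))) :=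
  ⟨J, inferInstance, flat_of_field _⟩

@[simp] theorem toHilbSetPt_val (Y : Scheme.{u}) (y : Y ⟶ Spec (CommRingCat.of k)) [IsProper y]
    (J : (PicF.XT y (Over.mk (𝟙 (Spec (CommRingCat.of k))))).IdealSheafData) :
    (toHilbSetPt Y y J).1 = J := rfl

end Groth.Agent.Lib.Helper6.HilbTanY3a
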