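import Mathlib

set_option autoImplicit false

namespace Groth.Agent.Lib.Helper6.HirzA

open MvPolynomial

universe u

section Taylor

variable {k : Type*} [CommRing k] {R : Type*} [CommRing R] [Algebra k R]

/-- first-order Taylor expansion for two algebra homs that differ by a square-zero ideal -/
theorem taylor (ψ π : MvPolynomial (Fin 2) k →ₐ[k] R) (N : Ideal R)
    (hN : ∀ a ∈ N, ∀ b ∈ N, a * b = 0)
    (hε : ∀ i, ψ (X i) - π (X i) ∈ N) (G : MvPolynomial (Fin 2) k) :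
    ψ G = π G + π (pderiv 0 G) * (ψ (X 0) - π (X 0)) + π (pderiv 1 G) * (ψ (X 1) - π (X 1)) := by
  have h00 := hN _ (hε 0) _ (hε 0)
  have h01 := hN _ (hε 0) _ (hε 1)
  have h11 := hN _ (hε 1) _ (hε 1)
  have d10 : pderiv (0 : Fin 2) (X 1 : MvPolynomial (Fin 2) k) = 0 := pderiv_X_of_ne (by decide)
  have d01 : pderiv (1 : Fin 2) (X 0 : MvPolynomial (Fin 2) k) = 0 := pderiv_X_of_ne (by decide)
  induction G using MvPolynomial.induction_on with
  | C a =>
    rw [pderiv_C, pderiv_C, map_zero, zero_mul, add_zero, zero_mul, add_zero, ← algebraMap_eq,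
      AlgHom.commutes, AlgHom.commutes]
  | add p q hp hq =>
    rw [map_add, map_add, map_add, map_add, map_add, map_add, hp, hq]; ring
  | mul_X p j hp =>
    have hj : j = 0 ∨ j = 1 := by fin_cases j <;> simp
    rcases hj with rfl | rfl
    · simp only [map_mul, map_add, Derivation.leibniz, pderiv_X_self, d01, smul_eq_mul, mul_one,
        mul_zero, zero_add]
      rw [hp]
      linear_combination (π (pderiv 0 p)) * h00 + (π (pderiv 1 p)) * h01
    · simp only [map_mul, map_add, Derivation.leibniz, pderiv_X_self, d10, smul_eq_mul, mul_one,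
        mul_zero, zero_add]
      rw [hp]
      linear_combination (π (pderiv 0 p)) * h01 + (π (pderiv 1 p)) * h11

end Taylor

section Jac

variable {k : Type u} [Field k]

theorem jac_top_of_smooth (F : MvPolynomial (Fin 2) k) (hF : F ≠ 0)
    [Algebra.FormallySmooth k (MvPolynomial (Fin 2) k ⧸ Ideal.span {F})] :
    Ideal.span {F, pderiv 0 F, pderiv 1 F} = ⊤ := by
  by_contra hne
  obtain ⟨P, hPmax, hJP⟩ := Ideal.exists_le_maximal _ hne
  have hFP : F ∈ P := hJP (Ideal.subset_span (by simp))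
  have h0P : pderiv 0 F ∈ P := hJP (Ideal.subset_span (by simp))
  have h1P : pderiv 1 F ∈ P := hJP (Ideal.subset_span (by simp))
  obtain ⟨I, hIdef⟩ : ∃ I : Ideal (MvPolynomial (Fin 2) k), I = P * Ideal.span {F} := ⟨_, rfl⟩
  have hIdef' : I = Ideal.span {F} * P := by rw [hIdef, mul_comm]
  have hI_le : I ≤ Ideal.span {F} := by
    rw [hIdef']; exact (Ideal.mul_le_left : Ideal.span {F} * P ≤ Ideal.span {F})
  have hmemI : ∀ d ∈ P, ∀ c, d * (F * c) ∈ I := by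
    intro d hd c
    have : d * (F * c) = (d * c) * F := by ring
    rw [this, hIdef]
    exact Ideal.mul_mem_mul (P.mul_mem_right _ hd) (Ideal.mem_span_singleton_self F)
  let g : (MvPolynomial (Fin 2) k ⧸ I) →ₐ[k] (MvPolynomial (Fin 2) k ⧸ Ideal.span {F}) :=
    Ideal.Quotient.factorₐ k hI_le
  have hg : Function.Surjective g := Ideal.Quotient.factor_surjective hI_le
  have hker : ∀ x : MvPolynomial (Fin 2) k ⧸ I, g x = 0 →
      ∃ c, x = Ideal.Quotient.mk I (F * c) := by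
    intro x hx
    obtain ⟨b, rfl⟩ := Ideal.Quotient.mk_surjective x
    have h1 : Ideal.Quotient.mk (Ideal.span {F}) b = 0 := hx
    rw [Ideal.Quotient.eq_zero_iff_mem, Ideal.mem_span_singleton'] at h1
    obtain ⟨c, hc⟩ := h1
    exact ⟨c, by rw [← hc, mul_comm]⟩
  have hsq : ∀ a : MvPolynomial (Fin 2) k ⧸ I, g a = 0 →
      ∀ b : MvPolynomial (Fin 2) k ⧸ I, g b = 0 → a * b = 0 := by
    intro a ha b hb
    obtain ⟨c, rfl⟩ := hker a ha
    obtain ⟨c', rfl⟩ := hker b hb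
    rw [← map_mul, Ideal.Quotient.eq_zero_iff_mem]
    exact hmemI _ (P.mul_mem_right _ hFP) c'
  have hnil : IsNilpotent (RingHom.ker (g : (MvPolynomial (Fin 2) k ⧸ I) →+* (MvPolynomial (Fin 2) k ⧸ Ideal.span {F}))) := by
    refine ⟨2, ?_⟩
    have hp2 : RingHom.ker (g : (MvPolynomial (Fin 2) k ⧸ I) →+* (MvPolynomial (Fin 2) k ⧸ Ideal.span {F})) ^ 2
        = RingHom.ker (g : (MvPolynomial (Fin 2) k ⧸ I) →+* (MvPolynomial (Fin 2) k ⧸ Ideal.span {F}))
          * RingHom.ker (g : (MvPolynomial (Fin 2) k ⧸ I) →+* (MvPolynomial (Fin 2) k ⧸ Ideal.span {F})) := pow_two _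
    rw [Ideal.zero_eq_bot, eq_bot_iff, hp2, Ideal.mul_le]
    intro a ha b hb
    rw [Ideal.mem_bot]
    exact hsq a ha b hb
  obtain ⟨σ, hσ⟩ : ∃ σ : (MvPolynomial (Fin 2) k ⧸ Ideal.span {F}) →ₐ[k]
      (MvPolynomial (Fin 2) k ⧸ I), ∀ x, g (σ x) = x :=
    ⟨Algebra.FormallySmooth.liftOfSurjective (AlgHom.id k _) g hg hnil, fun x =>
      Algebra.FormallySmooth.liftOfSurjective_apply (AlgHom.id k _) g hg hnil x⟩
  obtain ⟨ψ, hψ⟩ : ∃ ψ : MvPolynomial (Fin 2) k →ₐ[k] (MvPolynomial (Fin 2) k ⧸ I),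
      ψ = σ.comp (Ideal.Quotient.mkₐ k (Ideal.span {F})) := ⟨_, rfl⟩
  obtain ⟨π, hπ⟩ : ∃ π : MvPolynomial (Fin 2) k →ₐ[k] (MvPolynomial (Fin 2) k ⧸ I),
      π = Ideal.Quotient.mkₐ k I := ⟨_, rfl⟩
  have hgψ : ∀ b, g (ψ b) = Ideal.Quotient.mk _ b := fun b => by
    rw [hψ, AlgHom.comp_apply, hσ]; rfl
  have hgπ : ∀ b, g (π b) = Ideal.Quotient.mk _ b := fun b => by rw [hπ]; rfl
  have hε : ∀ i, g (ψ (X i) - π (X i)) = 0 := by
    intro i; rw [map_sub, hgψ, hgπ, sub_self]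
  have hT := taylor ψ π (RingHom.ker (g : (MvPolynomial (Fin 2) k ⧸ I) →+* (MvPolynomial (Fin 2) k ⧸ Ideal.span {F})))
    (fun a ha b hb => hsq a ha b hb) (fun i => hε i) F
  have hψF : ψ F = 0 := by
    rw [hψ, AlgHom.comp_apply]
    have : (Ideal.Quotient.mkₐ k (Ideal.span {F})) F = 0 :=
      Ideal.Quotient.eq_zero_iff_mem.2 (Ideal.mem_span_singleton_self F)
    rw [this, map_zero]
  have hkill : ∀ (d : MvPolynomial (Fin 2) k), d ∈ P →
      ∀ e : MvPolynomial (Fin 2) k ⧸ I, g e = 0 → π d * e = 0 := by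
    intro d hd e he
    obtain ⟨c, rfl⟩ := hker e he
    rw [hπ]
    show Ideal.Quotient.mk I d * Ideal.Quotient.mk I (F * c) = 0
    rw [← map_mul, Ideal.Quotient.eq_zero_iff_mem]
    exact hmemI d hd c
  rw [hψF, hkill _ h0P _ (hε 0), hkill _ h1P _ (hε 1), add_zero, add_zero] at hT
  have hFI : F ∈ I := by
    rw [← Ideal.Quotient.eq_zero_iff_mem]
    rw [hπ] at hT
    exact hT.symm
  rw [hIdef, Ideal.mem_mul_span_singleton] at hFI
  obtain ⟨z, hzP, hz⟩ := hFI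
  have h3 : (z - 1) * F = 0 := by rw [sub_mul, hz, one_mul, sub_self]
  rcases mul_eq_zero.1 h3 with h | h
  · have hz1 : z = 1 := sub_eq_zero.1 h
    rw [hz1] at hzP
    exact hPmax.ne_top ((Ideal.eq_top_iff_one _).2 hzP)
  · exact hF h

theorem smooth_of_jac_top (F : MvPolynomial (Fin 2) k)
    (hJ : Ideal.span {F, pderiv 0 F, pderiv 1 F} = ⊤) :
    Algebra.FormallySmooth k (MvPolynomial (Fin 2) k ⧸ Ideal.span {F}) := by
  apply Algebra.FormallySmooth.of_comp_surjective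
  intro R' _ _ I hI g
  have h1 : (1 : MvPolynomial (Fin 2) k) ∈ Ideal.span {F, pderiv 0 F, pderiv 1 F} := by
    rw [hJ]; trivial
  rw [Ideal.mem_span_insert] at h1
  obtain ⟨u, z, hz, h1⟩ := h1
  rw [Ideal.mem_span_pair] at hz
  obtain ⟨v0, v1, hz⟩ := hz
  choose a ha using fun i : Fin 2 =>
    Ideal.Quotient.mk_surjective (g (Ideal.Quotient.mk (Ideal.span {F}) (X i)))
  obtain ⟨ψ0, hψ0def⟩ : ∃ ψ0 : MvPolynomial (Fin 2) k →ₐ[k] R', ψ0 = aeval a := ⟨_, rfl⟩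
  have hψ0 : ∀ G, Ideal.Quotient.mk I (ψ0 G) = g (Ideal.Quotient.mk _ G) := by
    intro G
    have : (Ideal.Quotient.mkₐ k I).comp ψ0 = g.comp (Ideal.Quotient.mkₐ k _) := by
      apply MvPolynomial.algHom_ext
      intro i
      rw [AlgHom.comp_apply, AlgHom.comp_apply, hψ0def, aeval_X]
      exact ha i
    exact AlgHom.congr_fun this G
  have hFI : ψ0 F ∈ I := by
    rw [← Ideal.Quotient.eq_zero_iff_mem, hψ0,
      Ideal.Quotient.eq_zero_iff_mem.2 (Ideal.mem_span_singleton_self F), map_zero]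
  have hsq : ∀ x ∈ I, ∀ y ∈ I, x * y = 0 := by
    intro x hx y hy
    have : x * y ∈ I ^ 2 := by rw [pow_two]; exact Ideal.mul_mem_mul hx hy
    rw [hI] at this
    exact this
  obtain ⟨δ, hδdef⟩ : ∃ δ : Fin 2 → R', δ = ![- ψ0 v0 * ψ0 F, - ψ0 v1 * ψ0 F] := ⟨_, rfl⟩
  obtain ⟨ψ1, hψ1def⟩ : ∃ ψ1 : MvPolynomial (Fin 2) k →ₐ[k] R',
      ψ1 = aeval (fun i => a i + δ i) := ⟨_, rfl⟩
  have hψ1X : ∀ i, ψ1 (X i) = a i + δ i := fun i => by rw [hψ1def, aeval_X]
  have hψ0X : ∀ i, ψ0 (X i) = a i := fun i => by rw [hψ0def, aeval_X]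
  have hδ0 : δ 0 = - ψ0 v0 * ψ0 F := by rw [hδdef]; rfl
  have hδ1 : δ 1 = - ψ0 v1 * ψ0 F := by rw [hδdef]; rfl
  have e0 : ψ1 (X 0) - ψ0 (X 0) = - ψ0 v0 * ψ0 F := by
    rw [hψ1X, hψ0X, add_sub_cancel_left, hδ0]
  have e1 : ψ1 (X 1) - ψ0 (X 1) = - ψ0 v1 * ψ0 F := by
    rw [hψ1X, hψ0X, add_sub_cancel_left, hδ1]
  have hδ : ∀ i, ψ1 (X i) - ψ0 (X i) ∈ I := by
    intro i
    have hj : i = 0 ∨ i = 1 := by fin_cases i <;> simp
    rcases hj with rfl | rfl
    · rw [e0]; exact I.mul_mem_left _ hFI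
    · rw [e1]; exact I.mul_mem_left _ hFI
  have hT := taylor ψ1 ψ0 I hsq hδ F
  have hone : ψ0 u * ψ0 F + (ψ0 v0 * ψ0 (pderiv 0 F) + ψ0 v1 * ψ0 (pderiv 1 F)) = 1 := by
    rw [← map_mul, ← map_mul, ← map_mul, ← map_add, ← map_add, hz, ← h1, map_one]
  have hFF : ψ0 F * ψ0 F = 0 := hsq _ hFI _ hFI
  have hψ1F : ψ1 F = 0 := by
    rw [hT, e0, e1]
    linear_combination (-(ψ0 F)) * hone + (ψ0 u) * hFF
  refine ⟨Ideal.Quotient.liftₐ (Ideal.span {F}) ψ1 ?_, ?_⟩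
  · intro b hb
    rw [Ideal.mem_span_singleton'] at hb
    obtain ⟨c, rfl⟩ := hb
    rw [map_mul, hψ1F, mul_zero]
  · apply Ideal.Quotient.algHom_ext
    apply MvPolynomial.algHom_ext
    intro i
    rw [AlgHom.comp_apply, AlgHom.comp_apply, AlgHom.comp_apply]
    have h2 : (Ideal.Quotient.liftₐ (Ideal.span {F}) ψ1 (by
        intro b hb
        rw [Ideal.mem_span_singleton'] at hb
        obtain ⟨c, rfl⟩ := hb
        rw [map_mul, hψ1F, mul_zero])) ((Ideal.Quotient.mkₐ k (Ideal.span {F})) (X i)) = ψ1 (X i) := rfl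
    rw [h2, hψ1X]
    show Ideal.Quotient.mk I (a i + δ i) = _
    rw [map_add, ha i]
    have h3 : Ideal.Quotient.mk I (δ i) = 0 := by
      rw [Ideal.Quotient.eq_zero_iff_mem]
      have hj : i = 0 ∨ i = 1 := by fin_cases i <;> simp
      rcases hj with rfl | rfl
      · rw [hδ0]; exact I.mul_mem_left _ hFI
      · rw [hδ1]; exact I.mul_mem_left _ hFI
    rw [h3, add_zero]
    rfl

theorem smooth_iff_jac (F : MvPolynomial (Fin 2) k) (hF : F ≠ 0) :
    Algebra.Smooth k (MvPolynomial (Fin 2) k ⧸ Ideal.span {F}) ↔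
      Ideal.span {F, pderiv 0 F, pderiv 1 F} = ⊤ := by
  constructor
  · intro h
    exact jac_top_of_smooth F hF
  · intro h
    haveI := smooth_of_jac_top F h
    haveI : Algebra.FinitePresentation k (MvPolynomial (Fin 2) k ⧸ Ideal.span {F}) :=
      Algebra.FinitePresentation.quotient (Submodule.fg_span_singleton F)
    exact ⟨inferInstance, inferInstance⟩

end Jac

end Groth.Agent.Lib.Helper6.HirzA
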