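import Mathlib
import Groth.Agent.Lib.Helper6.HirzA

set_option autoImplicit false

namespace Groth.Agent.Lib.Helper6.HirzB

open MvPolynomial Groth.Agent.Lib.Helper6.HirzA

universe u

variable {k : Type u} [Field k]

/-- the embedding `k[X] → k[X₀, X₁]`, `X ↦ X₀`. -/
noncomputable def ι : Polynomial k →ₐ[k] MvPolynomial (Fin 2) k := Polynomial.aeval (X 0)

lemma ι_monomial (n : ℕ) (c : k) : ι (Polynomial.monomial n c) = C c * X 0 ^ n := by
  unfold ι
  rw [Polynomial.aeval_monomial, MvPolynomial.algebraMap_eq]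

lemma pderiv0_ι (a : Polynomial k) : pderiv 0 (ι a) = ι (Polynomial.derivative a) := by
  induction a using Polynomial.induction_on' with
  | add p q hp hq => rw [map_add, map_add, hp, hq, Polynomial.derivative_add, map_add]
  | monomial n c =>
    rw [ι_monomial, Polynomial.derivative_monomial, ι_monomial, pderiv_C_mul, Derivation.leibniz_pow,
      pderiv_X_self, C_mul, map_natCast]
    simp only [smul_eq_mul, nsmul_eq_mul, mul_one]
    ring

lemma pderiv1_ι (a : Polynomial k) : pderiv 1 (ι a) = 0 := by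
  induction a using Polynomial.induction_on' with
  | add p q hp hq => rw [map_add, map_add, hp, hq, add_zero]
  | monomial n c =>
    rw [ι_monomial, pderiv_C_mul, Derivation.leibniz_pow,
      pderiv_X_of_ne (by decide : (0 : Fin 2) ≠ 1)]
    simp

/-- evaluation at a point of an extension field -/
lemma aeval_ι {K : Type*} [Field K] [Algebra k K] (t w : K) (a : Polynomial k) :
    aeval ![t, w] (ι a) = Polynomial.aeval t a := by
  have : (aeval ![t, w] : MvPolynomial (Fin 2) k →ₐ[k] K).comp ι = Polynomial.aeval t := by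
    apply Polynomial.algHom_ext
    rw [AlgHom.comp_apply]
    unfold ι
    rw [Polynomial.aeval_X, aeval_X, Polynomial.aeval_X]
    rfl
  exact AlgHom.congr_fun this a

/-- substitution `X₀ ↦ X`, `X₁ ↦ c`. -/
noncomputable def θ (c : k) : MvPolynomial (Fin 2) k →ₐ[k] Polynomial k :=
  aeval ![Polynomial.X, Polynomial.C c]

lemma θ_ι (c : k) (a : Polynomial k) : θ c (ι a) = a := by
  have : (θ c).comp ι = AlgHom.id k _ := by
    apply Polynomial.algHom_ext
    rw [AlgHom.comp_apply]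
    unfold ι θ
    rw [Polynomial.aeval_X, aeval_X]
    rfl
  exact AlgHom.congr_fun this a

lemma θ_X1 (c : k) : θ c (X 1) = Polynomial.C c := by
  unfold θ
  rw [aeval_X]
  rfl

lemma form1_ne_zero (a b : Polynomial k) (hab : a ≠ 0 ∨ b ≠ 0) : ι a + ι b * X 1 ≠ 0 := by
  intro h
  have h0 := congrArg (θ (0 : k)) h
  have h1 := congrArg (θ (1 : k)) h
  rw [map_add, map_mul, θ_ι, θ_ι, θ_X1, map_zero] at h0 h1
  rw [map_zero, mul_zero, add_zero] at h0
  rw [map_one, mul_one, h0, zero_add] at h1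
  rcases hab with h | h
  · exact h h0
  · exact h h1

lemma form2_ne_zero (a b : Polynomial k) (hab : a ≠ 0 ∨ b ≠ 0) : ι a * X 1 + ι b ≠ 0 := by
  intro h
  have h0 := congrArg (θ (0 : k)) h
  have h1 := congrArg (θ (1 : k)) h
  rw [map_add, map_mul, θ_ι, θ_ι, θ_X1, map_zero] at h0 h1
  rw [map_zero, mul_zero, zero_add] at h0
  rw [map_one, mul_one, h0, add_zero] at h1
  rcases hab with h | h
  · exact h h1
  · exact h h0

lemma pderiv0_form1 (a b : Polynomial k) :
    pderiv 0 (ι a + ι b * X 1) = ι (Polynomial.derivative a) + ι (Polynomial.derivative b) * X 1 := by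
  rw [map_add, Derivation.leibniz, pderiv0_ι, pderiv0_ι,
    pderiv_X_of_ne (by decide : (1 : Fin 2) ≠ 0)]
  simp only [smul_eq_mul, mul_zero, zero_add]
  ring

lemma pderiv1_form1 (a b : Polynomial k) : pderiv 1 (ι a + ι b * X 1) = ι b := by
  rw [map_add, Derivation.leibniz, pderiv1_ι, pderiv1_ι, pderiv_X_self]
  simp only [smul_eq_mul, mul_zero, zero_add, mul_one, add_zero]

lemma pderiv0_form2 (a b : Polynomial k) :
    pderiv 0 (ι a * X 1 + ι b) = ι (Polynomial.derivative a) * X 1 + ι (Polynomial.derivative b) := by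
  rw [map_add, Derivation.leibniz, pderiv0_ι, pderiv0_ι,
    pderiv_X_of_ne (by decide : (1 : Fin 2) ≠ 0)]
  simp only [smul_eq_mul, mul_zero, zero_add]
  ring

lemma pderiv1_form2 (a b : Polynomial k) : pderiv 1 (ι a * X 1 + ι b) = ι a := by
  rw [map_add, Derivation.leibniz, pderiv1_ι, pderiv1_ι, pderiv_X_self]
  simp only [smul_eq_mul, mul_zero, zero_add, mul_one, add_zero]

theorem jac1_top_of_coprime (a b : Polynomial k) (h : IsCoprime a b) :
    Ideal.span {ι a + ι b * X 1, pderiv 0 (ι a + ι b * X 1), pderiv 1 (ι a + ι b * X 1)} = ⊤ := by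
  obtain ⟨J, hJ⟩ : ∃ J : Ideal (MvPolynomial (Fin 2) k), J = Ideal.span {ι a + ι b * X 1,
    pderiv 0 (ι a + ι b * X 1), pderiv 1 (ι a + ι b * X 1)} := ⟨_, rfl⟩
  rw [← hJ]
  have hF : ι a + ι b * X 1 ∈ J := by rw [hJ]; exact Ideal.subset_span (by simp)
  have hb : pderiv 1 (ι a + ι b * X 1) ∈ J := by rw [hJ]; exact Ideal.subset_span (by simp)
  rw [pderiv1_form1] at hb
  rw [Ideal.eq_top_iff_one]
  obtain ⟨u, v, huv⟩ := h
  have ha : ι a ∈ J := by
    have h3 := J.sub_mem hF (J.mul_mem_left (X 1) hb)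
    convert h3 using 1
    ring
  have h1 : (1 : MvPolynomial (Fin 2) k) = ι u * ι a + ι v * ι b := by
    rw [← map_mul, ← map_mul, ← map_add, huv, map_one]
  rw [h1]
  exact Ideal.add_mem _ (Ideal.mul_mem_left _ _ ha) (Ideal.mul_mem_left _ _ hb)

theorem jac2_top_of_coprime (a b : Polynomial k) (h : IsCoprime a b) :
    Ideal.span {ι a * X 1 + ι b, pderiv 0 (ι a * X 1 + ι b), pderiv 1 (ι a * X 1 + ι b)} = ⊤ := by
  obtain ⟨J, hJ⟩ : ∃ J : Ideal (MvPolynomial (Fin 2) k), J = Ideal.span {ι a * X 1 + ι b,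
    pderiv 0 (ι a * X 1 + ι b), pderiv 1 (ι a * X 1 + ι b)} := ⟨_, rfl⟩
  rw [← hJ]
  have hF : ι a * X 1 + ι b ∈ J := by rw [hJ]; exact Ideal.subset_span (by simp)
  have ha : pderiv 1 (ι a * X 1 + ι b) ∈ J := by rw [hJ]; exact Ideal.subset_span (by simp)
  rw [pderiv1_form2] at ha
  rw [Ideal.eq_top_iff_one]
  obtain ⟨u, v, huv⟩ := h
  have hb : ι b ∈ J := by
    have h3 := J.sub_mem hF (J.mul_mem_left (X 1) ha)
    convert h3 using 1
    ring
  have h1 : (1 : MvPolynomial (Fin 2) k) = ι u * ι a + ι v * ι b := by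
    rw [← map_mul, ← map_mul, ← map_add, huv, map_one]
  rw [h1]
  exact Ideal.add_mem _ (Ideal.mul_mem_left _ _ ha) (Ideal.mul_mem_left _ _ hb)

/-- a common root kills one of the two Jacobian ideals -/
theorem not_both_top_of_common_root {K : Type*} [Field K] [Algebra k K] (a b : Polynomial k) (t : K)
    (ha : Polynomial.aeval t a = 0) (hb : Polynomial.aeval t b = 0) :
    ¬ (Ideal.span {ι a + ι b * X 1, pderiv 0 (ι a + ι b * X 1), pderiv 1 (ι a + ι b * X 1)} = ⊤ ∧
      Ideal.span {ι a * X 1 + ι b, pderiv 0 (ι a * X 1 + ι b), pderiv 1 (ι a * X 1 + ι b)} = ⊤) := by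
  rintro ⟨h1, h2⟩
  obtain ⟨a', ha'⟩ : ∃ a' : K, a' = Polynomial.aeval t (Polynomial.derivative a) := ⟨_, rfl⟩
  obtain ⟨b', hb'⟩ : ∃ b' : K, b' = Polynomial.aeval t (Polynomial.derivative b) := ⟨_, rfl⟩
  have key1 : ∀ w : K, a' + b' * w = 0 →
      Ideal.span {ι a + ι b * X 1, pderiv 0 (ι a + ι b * X 1), pderiv 1 (ι a + ι b * X 1)}
        ≤ RingHom.ker (aeval (R := k) ![t, w] : MvPolynomial (Fin 2) k →ₐ[k] K) := by
    intro w hw
    rw [Ideal.span_le]
    intro x hx
    simp only [Set.mem_insert_iff, Set.mem_singleton_iff] at hx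
    have hX1 : aeval (R := k) ![t, w] (X 1 : MvPolynomial (Fin 2) k) = w := by
      rw [aeval_X]; rfl
    rcases hx with rfl | rfl | rfl
    · rw [SetLike.mem_coe, RingHom.mem_ker]
      rw [map_add, map_mul, aeval_ι, aeval_ι, ha, hb, zero_mul, add_zero]
    · rw [SetLike.mem_coe, RingHom.mem_ker, pderiv0_form1]
      rw [map_add, map_mul, aeval_ι, aeval_ι, hX1, ← ha', ← hb', hw]
    · rw [SetLike.mem_coe, RingHom.mem_ker, pderiv1_form1, aeval_ι, hb]
  have key2 : ∀ w : K, a' * w + b' = 0 →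
      Ideal.span {ι a * X 1 + ι b, pderiv 0 (ι a * X 1 + ι b), pderiv 1 (ι a * X 1 + ι b)}
        ≤ RingHom.ker (aeval (R := k) ![t, w] : MvPolynomial (Fin 2) k →ₐ[k] K) := by
    intro w hw
    rw [Ideal.span_le]
    intro x hx
    simp only [Set.mem_insert_iff, Set.mem_singleton_iff] at hx
    have hX1 : aeval (R := k) ![t, w] (X 1 : MvPolynomial (Fin 2) k) = w := by
      rw [aeval_X]; rfl
    rcases hx with rfl | rfl | rfl
    · rw [SetLike.mem_coe, RingHom.mem_ker]
      rw [map_add, map_mul, aeval_ι, aeval_ι, ha, hb, zero_mul, add_zero]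
    · rw [SetLike.mem_coe, RingHom.mem_ker, pderiv0_form2]
      rw [map_add, map_mul, aeval_ι, aeval_ι, hX1, ← ha', ← hb', hw]
    · rw [SetLike.mem_coe, RingHom.mem_ker, pderiv1_form2, aeval_ι, ha]
  have hfin : ∀ w : K, ¬ ((⊤ : Ideal (MvPolynomial (Fin 2) k))
      ≤ RingHom.ker (aeval (R := k) ![t, w] : MvPolynomial (Fin 2) k →ₐ[k] K)) := by
    intro w hle
    have : (1 : MvPolynomial (Fin 2) k) ∈
        RingHom.ker (aeval (R := k) ![t, w] : MvPolynomial (Fin 2) k →ₐ[k] K) := hle trivial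
    rw [RingHom.mem_ker, map_one] at this
    exact one_ne_zero this
  by_cases hb0 : b' = 0
  · by_cases ha0 : a' = 0
    · apply hfin 0
      rw [← h1]
      apply key1
      rw [ha0, hb0]; ring
    · apply hfin 0
      rw [← h2]
      apply key2
      rw [hb0]; ring
  · apply hfin (-a' / b')
    rw [← h1]
    apply key1
    field_simp
    ring

theorem pair_smooth_iff (a b : Polynomial k) (hab : a ≠ 0 ∨ b ≠ 0) :
    (Algebra.Smooth k (MvPolynomial (Fin 2) k ⧸ Ideal.span {ι a + ι b * X 1}) ∧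
      Algebra.Smooth k (MvPolynomial (Fin 2) k ⧸ Ideal.span {ι a * X 1 + ι b})) ↔
      IsCoprime a b := by
  rw [smooth_iff_jac _ (form1_ne_zero a b hab), smooth_iff_jac _ (form2_ne_zero a b hab)]
  constructor
  · intro h
    rw [Polynomial.isCoprime_iff_aeval_ne_zero_of_isAlgClosed k (AlgebraicClosure k)]
    intro t
    by_contra hcon
    push Not at hcon
    exact not_both_top_of_common_root a b t hcon.1 hcon.2 h
  · intro h
    exact ⟨jac1_top_of_coprime a b h, jac2_top_of_coprime a b h⟩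

end Groth.Agent.Lib.Helper6.HirzB
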