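import Mathlib
import Groth.Agent.Lib.Helper6.HirzB

set_option autoImplicit false

namespace Groth.Agent.Lib.Helper6.HirzC

open Groth.Agent.Lib.Helper6.HirzA Groth.Agent.Lib.Helper6.HirzB

universe u

variable {k : Type u} [Field k]

noncomputable def fwd {N : ℕ} (c : Fin (N + 1) → k) : Polynomial k :=
  ∑ j : Fin (N + 1), Polynomial.C (c j) * Polynomial.X ^ (j : ℕ)

noncomputable def rev {N : ℕ} (c : Fin (N + 1) → k) : Polynomial k :=
  ∑ j : Fin (N + 1), Polynomial.C (c j) * Polynomial.X ^ (N - (j : ℕ))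

lemma fwd_coeff {N : ℕ} (c : Fin (N + 1) → k) (j : Fin (N + 1)) : (fwd c).coeff j = c j := by
  unfold fwd
  rw [Polynomial.finsetSum_coeff, Finset.sum_eq_single j]
  · rw [Polynomial.coeff_C_mul_X_pow, if_pos rfl]
  · intro i _ hij
    rw [Polynomial.coeff_C_mul_X_pow, if_neg]
    intro h
    exact hij (Fin.ext h.symm)
  · intro h; exact absurd (Finset.mem_univ j) h

lemma rev_coeff {N : ℕ} (c : Fin (N + 1) → k) (j : Fin (N + 1)) :
    (rev c).coeff (N - (j : ℕ)) = c j := by
  unfold rev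
  rw [Polynomial.finsetSum_coeff, Finset.sum_eq_single j]
  · rw [Polynomial.coeff_C_mul_X_pow, if_pos rfl]
  · intro i _ hij
    rw [Polynomial.coeff_C_mul_X_pow, if_neg]
    intro h
    apply hij
    apply Fin.ext
    have h1 := i.is_le
    have h2 := j.is_le
    omega
  · intro h; exact absurd (Finset.mem_univ j) h

lemma fwd_natDegree_le {N : ℕ} (c : Fin (N + 1) → k) : (fwd c).natDegree ≤ N := by
  unfold fwd
  apply Polynomial.natDegree_sum_le_of_forall_le
  intro j _
  exact (Polynomial.natDegree_C_mul_X_pow_le _ _).trans j.is_le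

lemma fwd_ne_zero {N : ℕ} (c : Fin (N + 1) → k) (hc : c ≠ 0) : fwd c ≠ 0 := by
  intro h
  apply hc
  funext j
  rw [← fwd_coeff c j, h]
  simp

lemma rev_ne_zero {N : ℕ} (c : Fin (N + 1) → k) (hc : c ≠ 0) : rev c ≠ 0 := by
  intro h
  apply hc
  funext j
  rw [← rev_coeff c j, h]
  simp

lemma fwd_coeff_top {N : ℕ} (c : Fin (N + 1) → k) : (fwd c).coeff N = c (Fin.last N) := by
  have := fwd_coeff c (Fin.last N)
  rwa [Fin.val_last] at this

lemma rev_coeff_zero {N : ℕ} (c : Fin (N + 1) → k) : (rev c).coeff 0 = c (Fin.last N) := by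
  have := rev_coeff c (Fin.last N)
  rwa [Fin.val_last, Nat.sub_self] at this

lemma aeval_rev {N : ℕ} (c : Fin (N + 1) → k) {K : Type*} [Field K] [Algebra k K] (s : K)
    (hs : s ≠ 0) : Polynomial.aeval s (rev c) = s ^ N * Polynomial.aeval s⁻¹ (fwd c) := by
  unfold rev fwd
  simp only [map_sum, map_mul, map_pow, Polynomial.aeval_C, Polynomial.aeval_X]
  rw [Finset.mul_sum]
  apply Finset.sum_congr rfl
  intro j _
  rw [pow_sub₀ s hs j.is_le, inv_pow]
  ring

lemma ι_fwd {N : ℕ} (c : Fin (N + 1) → k) :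
    ι (fwd c) = ∑ j : Fin (N + 1), MvPolynomial.C (c j) * MvPolynomial.X 0 ^ (j : ℕ) := by
  unfold fwd ι
  simp only [map_sum, map_mul, map_pow, Polynomial.aeval_C, Polynomial.aeval_X,
    MvPolynomial.algebraMap_eq]

lemma ι_rev {N : ℕ} (c : Fin (N + 1) → k) :
    ι (rev c) = ∑ j : Fin (N + 1), MvPolynomial.C (c j) * MvPolynomial.X 0 ^ (N - (j : ℕ)) := by
  unfold rev ι
  simp only [map_sum, map_mul, map_pow, Polynomial.aeval_C, Polynomial.aeval_X,
    MvPolynomial.algebraMap_eq]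

theorem resultant_ne_zero_iff (f g : Polynomial k) (m n : ℕ) (hm : 0 < m) (hn : 0 < n)
    (hf : f.natDegree ≤ m) (hg : g.natDegree ≤ n) :
    Polynomial.resultant f g m n ≠ 0 ↔ IsCoprime f g ∧ ¬(f.coeff m = 0 ∧ g.coeff n = 0) := by
  have hlt : ∀ (p : Polynomial k) (d : ℕ), 0 < d → p.natDegree ≤ d → p.coeff d = 0 →
      p.natDegree < d := by
    intro p d hd hp h0
    rcases hp.lt_or_eq with h | h
    · exact h
    · exfalso
      have h1 : p.leadingCoeff = 0 := by rw [Polynomial.leadingCoeff, h]; exact h0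
      rw [Polynomial.leadingCoeff_eq_zero] at h1
      rw [h1, Polynomial.natDegree_zero] at h
      omega
  constructor
  · intro hres
    constructor
    · obtain ⟨p, q, -, -, e⟩ :=
        Polynomial.exists_mul_add_mul_eq_C_resultant f g hf hg (Or.inl hm.ne')
      refine ⟨Polynomial.C (Polynomial.resultant f g m n)⁻¹ * p,
        Polynomial.C (Polynomial.resultant f g m n)⁻¹ * q, ?_⟩
      have h1 : Polynomial.C (Polynomial.resultant f g m n)⁻¹ *
          Polynomial.C (Polynomial.resultant f g m n) = 1 := by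
        rw [← Polynomial.C_mul, inv_mul_cancel₀ hres, Polynomial.C_1]
      linear_combination (Polynomial.C (Polynomial.resultant f g m n)⁻¹) * e + h1
    · rintro ⟨h1, h2⟩
      apply hres
      exact Polynomial.resultant_eq_zero_of_lt_lt _ _ _ _ (hlt f m hm hf h1) (hlt g n hn hg h2)
  · rintro ⟨hcop, hlead⟩ hres
    by_cases h1 : f.coeff m = 0
    · have h2 : g.coeff n ≠ 0 := fun h => hlead ⟨h1, h⟩
      have hgn : g.natDegree = n := le_antisymm hg (Polynomial.le_natDegree_of_ne_zero h2)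
      obtain ⟨k', hk'⟩ : ∃ k', m = f.natDegree + k' := ⟨m - f.natDegree, by omega⟩
      rw [hk', Polynomial.resultant_add_left_deg _ _ _ _ _ le_rfl] at hres
      have h3 : Polynomial.resultant f g f.natDegree n = 0 := by
        rcases mul_eq_zero.1 hres with h | h
        · exfalso
          rcases mul_eq_zero.1 h with h | h
          · exact pow_ne_zero _ (neg_ne_zero.2 one_ne_zero) h
          · exact pow_ne_zero _ h2 h
        · exact h
      have h4 : Polynomial.resultant f g = 0 := by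
        rw [← h3]
        congr 1
      exact (Polynomial.resultant_eq_zero_iff.1 h4).2 hcop
    · have hfm : f.natDegree = m := le_antisymm hf (Polynomial.le_natDegree_of_ne_zero h1)
      obtain ⟨k', hk'⟩ : ∃ k', n = g.natDegree + k' := ⟨n - g.natDegree, by omega⟩
      rw [hk', Polynomial.resultant_add_right_deg _ _ _ _ _ le_rfl] at hres
      have h3 : Polynomial.resultant f g m g.natDegree = 0 := by
        rcases mul_eq_zero.1 hres with h | h
        · exfalso
          exact pow_ne_zero _ h1 h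
        · exact h
      have h4 : Polynomial.resultant f g = 0 := by
        rw [← h3]
        congr 1
      exact (Polynomial.resultant_eq_zero_iff.1 h4).2 hcop

theorem rev_coprime_iff {N M : ℕ} (c : Fin (N + 1) → k) (e : Fin (M + 1) → k)
    (hcop : IsCoprime (fwd c) (fwd e)) :
    IsCoprime (rev c) (rev e) ↔ ¬ ((fwd c).coeff N = 0 ∧ (fwd e).coeff M = 0) := by
  rw [fwd_coeff_top, fwd_coeff_top]
  constructor
  · rintro h ⟨h1, h2⟩
    have hX : IsUnit (Polynomial.X : Polynomial k) := by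
      apply h.isUnit_of_dvd'
      · rw [Polynomial.X_dvd_iff, rev_coeff_zero, h1]
      · rw [Polynomial.X_dvd_iff, rev_coeff_zero, h2]
    exact Polynomial.not_isUnit_X hX
  · intro h
    rw [Polynomial.isCoprime_iff_aeval_ne_zero_of_isAlgClosed k (AlgebraicClosure k)]
    intro s
    by_cases hs : s = 0
    · rw [hs, ← Polynomial.coeff_zero_eq_aeval_zero', ← Polynomial.coeff_zero_eq_aeval_zero',
        rev_coeff_zero, rev_coeff_zero]
      by_contra hcon
      push Not at hcon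
      apply h
      constructor
      · exact (map_eq_zero _).1 hcon.1
      · exact (map_eq_zero _).1 hcon.2
    · rw [aeval_rev c s hs, aeval_rev e s hs]
      have := (Polynomial.isCoprime_iff_aeval_ne_zero_of_isAlgClosed k (AlgebraicClosure k) _ _).1
        hcop s⁻¹
      rcases this with h1 | h1
      · left; exact mul_ne_zero (pow_ne_zero _ hs) h1
      · right; exact mul_ne_zero (pow_ne_zero _ hs) h1

theorem main185 (k : Type u) [Field k] (n : ℕ) (hn : 3 ≤ n)
    (q : Fin 3 → k) (ξ : Fin (n + 1) → k) (hqξ : q ≠ 0 ∨ ξ ≠ 0) :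
    (Algebra.Smooth k (MvPolynomial (Fin 2) k ⧸ Ideal.span ({(∑ i : Fin 3, MvPolynomial.C (q i) * MvPolynomial.X 0 ^ (i : ℕ)) + (∑ j : Fin (n + 1), MvPolynomial.C (ξ j) * MvPolynomial.X 0 ^ (j : ℕ)) * MvPolynomial.X 1} : Set (MvPolynomial (Fin 2) k))) ∧
      Algebra.Smooth k (MvPolynomial (Fin 2) k ⧸ Ideal.span ({(∑ i : Fin 3, MvPolynomial.C (q i) * MvPolynomial.X 0 ^ (i : ℕ)) * MvPolynomial.X 1 + (∑ j : Fin (n + 1), MvPolynomial.C (ξ j) * MvPolynomial.X 0 ^ (j : ℕ))} : Set (MvPolynomial (Fin 2) k))) ∧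
      Algebra.Smooth k (MvPolynomial (Fin 2) k ⧸ Ideal.span ({(∑ i : Fin 3, MvPolynomial.C (q i) * MvPolynomial.X 0 ^ (2 - (i : ℕ))) + (∑ j : Fin (n + 1), MvPolynomial.C (ξ j) * MvPolynomial.X 0 ^ (n - (j : ℕ))) * MvPolynomial.X 1} : Set (MvPolynomial (Fin 2) k))) ∧
      Algebra.Smooth k (MvPolynomial (Fin 2) k ⧸ Ideal.span ({(∑ i : Fin 3, MvPolynomial.C (q i) * MvPolynomial.X 0 ^ (2 - (i : ℕ))) * MvPolynomial.X 1 + (∑ j : Fin (n + 1), MvPolynomial.C (ξ j) * MvPolynomial.X 0 ^ (n - (j : ℕ)))} : Set (MvPolynomial (Fin 2) k)))) ↔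
    Polynomial.resultant (∑ i : Fin 3, Polynomial.C (q i) * Polynomial.X ^ (i : ℕ))
      (∑ j : Fin (n + 1), Polynomial.C (ξ j) * Polynomial.X ^ (j : ℕ)) 2 n ≠ 0 := by
  have hne1 : fwd q ≠ 0 ∨ fwd ξ ≠ 0 := by
    rcases hqξ with h | h
    · exact Or.inl (fwd_ne_zero q h)
    · exact Or.inr (fwd_ne_zero ξ h)
  have hne2 : rev q ≠ 0 ∨ rev ξ ≠ 0 := by
    rcases hqξ with h | h
    · exact Or.inl (rev_ne_zero q h)
    · exact Or.inr (rev_ne_zero ξ h)
  have h12 := pair_smooth_iff (fwd q) (fwd ξ) hne1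
  have h34 := pair_smooth_iff (rev q) (rev ξ) hne2
  rw [ι_fwd, ι_fwd] at h12
  rw [ι_rev, ι_rev] at h34
  have hres := resultant_ne_zero_iff (fwd q) (fwd ξ) 2 n (by omega) (by omega)
    (fwd_natDegree_le q) (fwd_natDegree_le ξ)
  unfold fwd at hres
  rw [hres]
  rw [← and_assoc, ← and_assoc, and_assoc (c := Algebra.Smooth k _), h12, h34]
  constructor
  · rintro ⟨h1, h2⟩
    exact ⟨h1, (rev_coprime_iff q ξ h1).1 h2⟩
  · rintro ⟨h1, h2⟩
    exact ⟨h1, (rev_coprime_iff q ξ h1).2 h2⟩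

end Groth.Agent.Lib.Helper6.HirzC
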