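import Mathlib

/-!
Helper6: Moore's horn filling algorithm for simplicial groups, in an abstract combinatorial
form (groups `G n`, faces and degeneracies satisfying the simplicial identities), together with a
relative version for degreewise surjective homomorphisms.
-/

set_option autoImplicit false

namespace Groth.Agent.Lib.Helper6.MooreFiller

universe u

/-- simplicial group data with faces and degeneracies indexed by naturals (junk outside the
meaningful range). -/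
structure NSGrp where
  G : ℕ → Type u
  [grp : ∀ n, Group (G n)]
  d : ∀ n, ℕ → G (n + 1) →* G n
  s : ∀ n, ℕ → G n →* G (n + 1)
  d_d : ∀ n i j, i ≤ j → j ≤ n + 1 → ∀ x : G (n + 2),
    d n i (d (n + 1) (j + 1) x) = d n j (d (n + 1) i x)
  d_s_le : ∀ n i j, i ≤ j → j ≤ n → ∀ x : G (n + 1),
    d (n + 1) i (s (n + 1) (j + 1) x) = s n j (d n i x)
  d_s_self : ∀ n j, j ≤ n → ∀ x : G n, d n j (s n j x) = x
  d_s_succ : ∀ n j, j ≤ n → ∀ x : G n, d n (j + 1) (s n j x) = x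
  d_s_gt : ∀ n i j, j < i → i ≤ n + 1 → ∀ x : G (n + 1),
    d (n + 1) (i + 1) (s (n + 1) j x) = s n j (d n i x)

attribute [instance] NSGrp.grp

namespace NSGrp

variable (S : NSGrp.{u}) (P : ∀ n, Subgroup (S.G n))

/-- compatibility of a family of `(m+1)`-simplices indexed by `i ≤ m+2`, `i ≠ k`. -/
def Compat (m k : ℕ) (x : ℕ → S.G (m + 1)) : Prop :=
  ∀ i j, i ≤ j → j ≤ m + 1 → i ≠ k → j + 1 ≠ k → S.d m i (x (j + 1)) = S.d m j (x i)

/-- existence of a filler in the subgroups `P`. -/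
abbrev Fill (m k : ℕ) (x : ℕ → S.G (m + 1)) : Prop :=
  ∃ g ∈ P (m + 2), ∀ i, i ≤ m + 2 → i ≠ k → S.d (m + 1) i g = x i

lemma compat_translate {m k : ℕ} {x : ℕ → S.G (m + 1)} (hx : S.Compat m k x) (w : S.G (m + 2)) :
    S.Compat m k (fun i => (S.d (m + 1) i w)⁻¹ * x i) := by
  intro i j hij hj hik hjk
  simp only [map_mul, map_inv, S.d_d m i j hij hj, hx i j hij hj hik hjk]

lemma fill_of_translate {m k : ℕ} {x : ℕ → S.G (m + 1)} (g₁ : S.G (m + 2))
    (hg₁ : g₁ ∈ P (m + 2)) (h : S.Fill P m k (fun i => (S.d (m + 1) i g₁)⁻¹ * x i)) :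
    S.Fill P m k x := by
  obtain ⟨g', hg', h'⟩ := h
  refine ⟨g₁ * g', (P (m + 2)).mul_mem hg₁ hg', fun i hi hik => ?_⟩
  rw [map_mul, h' i hi hik, mul_inv_cancel_left]

variable (hd : ∀ n i (x : S.G (n + 1)), x ∈ P (n + 1) → S.d n i x ∈ P n)
  (hs : ∀ n j (x : S.G n), x ∈ P n → S.s n j x ∈ P (n + 1))

include hd hs in
lemma fill_upper {m k : ℕ} (c : ℕ) (hkc : k ≤ c) :
    c ≤ m + 2 → ∀ x : ℕ → S.G (m + 1), (∀ i, i ≤ m + 2 → i ≠ k → x i ∈ P (m + 1)) →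
      S.Compat m k x → (∀ i, i < k → x i = 1) → (∀ i, c < i → i ≤ m + 2 → x i = 1) →
      S.Fill P m k x := by
  induction c, hkc using Nat.le_induction with
  | base =>
    intro _ x _ _ hlow hup
    refine ⟨1, (P (m + 2)).one_mem, fun i hi hik => ?_⟩
    rw [map_one]
    rcases Nat.lt_or_gt_of_ne hik with h | h
    · exact (hlow i h).symm
    · exact (hup i h hi).symm
  | succ c hkc ih =>
    intro hc x hxP hx hlow hup
    obtain ⟨g₁, hg₁⟩ : ∃ g, g = S.s (m + 1) c (x (c + 1)) := ⟨_, rfl⟩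
    have hg₁P : g₁ ∈ P (m + 2) := hg₁ ▸ hs _ _ _ (hxP (c + 1) hc (by omega))
    have hface_low : ∀ i, i < k → S.d (m + 1) i g₁ = 1 := by
      intro i hik
      obtain ⟨c', rfl⟩ : ∃ c', c = c' + 1 := ⟨c - 1, by omega⟩
      rw [hg₁, S.d_s_le m i c' (by omega) (by omega),
        hx i (c' + 1) (by omega) (by omega) (by omega) (by omega), hlow i hik, map_one, map_one]
    have hface_mid : S.d (m + 1) (c + 1) g₁ = x (c + 1) := by
      rw [hg₁]; exact S.d_s_succ (m + 1) c (by omega) _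
    have hface_up : ∀ i, c + 1 < i → i ≤ m + 2 → S.d (m + 1) i g₁ = 1 := by
      intro i hci hi
      obtain ⟨i', rfl⟩ : ∃ i', i = i' + 1 := ⟨i - 1, by omega⟩
      rw [hg₁, S.d_s_gt m i' c (by omega) (by omega)]
      have h1 := hx (c + 1) i' (by omega) (by omega) (by omega) (by omega)
      rw [hup (i' + 1) (by omega) hi, map_one] at h1
      rw [← h1, map_one]
    apply S.fill_of_translate P g₁ hg₁P
    apply ih (by omega)
    · intro i hi hik
      exact (P (m + 1)).mul_mem ((P (m + 1)).inv_mem (hd _ _ _ hg₁P)) (hxP i hi hik)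
    · exact S.compat_translate hx g₁
    · intro i hik
      show (S.d (m + 1) i g₁)⁻¹ * x i = 1
      rw [hface_low i hik, hlow i hik, inv_one, mul_one]
    · intro i hci hi
      show (S.d (m + 1) i g₁)⁻¹ * x i = 1
      rcases Nat.eq_or_lt_of_le (Nat.succ_le_of_lt hci) with h | h
      · subst h
        rw [hface_mid, inv_mul_cancel]
      · rw [hface_up i h hi, hup i h hi, inv_one, mul_one]

include hd hs in
lemma fill_lower {m k : ℕ} (hk : k ≤ m + 2) (e : ℕ) : ∀ a, a + e = k →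
    ∀ x : ℕ → S.G (m + 1), (∀ i, i ≤ m + 2 → i ≠ k → x i ∈ P (m + 1)) →
      S.Compat m k x → (∀ i, i < a → x i = 1) → S.Fill P m k x := by
  induction e with
  | zero =>
    intro a ha x hxP hx hlow
    have hak : a = k := by omega
    subst hak
    exact S.fill_upper P hd hs (m + 2) hk le_rfl x hxP hx hlow
      (fun i h1 h2 => absurd h2 (by omega))
  | succ e ih =>
    intro a ha x hxP hx hlow
    obtain ⟨g₁, hg₁⟩ : ∃ g, g = S.s (m + 1) a (x a) := ⟨_, rfl⟩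
    have hg₁P : g₁ ∈ P (m + 2) := hg₁ ▸ hs _ _ _ (hxP a (by omega) (by omega))
    have hface_low : ∀ i, i < a → S.d (m + 1) i g₁ = 1 := by
      intro i hia
      obtain ⟨a', rfl⟩ : ∃ a', a = a' + 1 := ⟨a - 1, by omega⟩
      rw [hg₁, S.d_s_le m i a' (by omega) (by omega),
        hx i a' (by omega) (by omega) (by omega) (by omega), hlow i hia, map_one, map_one]
    have hface_mid : S.d (m + 1) a g₁ = x a := by
      rw [hg₁]; exact S.d_s_self (m + 1) a (by omega) _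
    apply S.fill_of_translate P g₁ hg₁P
    apply ih (a + 1) (by omega)
    · intro i hi hik
      exact (P (m + 1)).mul_mem ((P (m + 1)).inv_mem (hd _ _ _ hg₁P)) (hxP i hi hik)
    · exact S.compat_translate hx g₁
    · intro i hia
      show (S.d (m + 1) i g₁)⁻¹ * x i = 1
      rcases Nat.eq_or_lt_of_le (Nat.le_of_lt_succ hia) with h | h
      · subst h
        rw [hface_mid, inv_mul_cancel]
      · rw [hface_low i h, hlow i h, inv_one, mul_one]

include hd hs in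
theorem fill_succ {m k : ℕ} (hk : k ≤ m + 2) (x : ℕ → S.G (m + 1))
    (hxP : ∀ i, i ≤ m + 2 → i ≠ k → x i ∈ P (m + 1)) (hx : S.Compat m k x) : S.Fill P m k x :=
  S.fill_lower P hd hs hk k 0 (by omega) x hxP hx (fun i h => absurd h (by omega))

include hs in
theorem fill_zero {k : ℕ} (hk : k ≤ 1) (x : ℕ → S.G 0)
    (hxP : ∀ i, i ≤ 1 → i ≠ k → x i ∈ P 0) :
    ∃ g ∈ P 1, ∀ i, i ≤ 1 → i ≠ k → S.d 0 i g = x i := by
  interval_cases k
  · refine ⟨S.s 0 0 (x 1), hs _ _ _ (hxP 1 le_rfl (by omega)), fun i hi hik => ?_⟩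
    have hi1 : i = 1 := by omega
    subst hi1
    exact S.d_s_succ 0 0 le_rfl _
  · refine ⟨S.s 0 0 (x 0), hs _ _ _ (hxP 0 (by omega) (by omega)), fun i hi hik => ?_⟩
    have hi0 : i = 0 := by omega
    subst hi0
    exact S.d_s_self 0 0 le_rfl _

/-- homomorphisms of simplicial group data. -/
structure Hom (S S' : NSGrp.{u}) where
  p : ∀ n, S.G n →* S'.G n
  p_d : ∀ n i (x : S.G (n + 1)), p n (S.d n i x) = S'.d n i (p (n + 1) x)
  p_s : ∀ n j (x : S.G n), p (n + 1) (S.s n j x) = S'.s n j (p n x)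

section rel

variable {S} {S' : NSGrp.{u}} (φ : Hom S S') (hsurj : ∀ n, Function.Surjective (φ.p n))

lemma ker_d (n i : ℕ) (z : S.G (n + 1)) (hz : z ∈ (φ.p (n + 1)).ker) :
    S.d n i z ∈ (φ.p n).ker := by
  rw [MonoidHom.mem_ker] at hz ⊢
  rw [φ.p_d, hz, map_one]

lemma ker_s (n j : ℕ) (z : S.G n) (hz : z ∈ (φ.p n).ker) :
    S.s n j z ∈ (φ.p (n + 1)).ker := by
  rw [MonoidHom.mem_ker] at hz ⊢
  rw [φ.p_s, hz, map_one]

include hsurj in
theorem rel_fill_succ {m k : ℕ} (hk : k ≤ m + 2) (x : ℕ → S.G (m + 1)) (hx : S.Compat m k x)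
    (y : S'.G (m + 2))
    (hy : ∀ i, i ≤ m + 2 → i ≠ k → φ.p (m + 1) (x i) = S'.d (m + 1) i y) :
    ∃ g, (∀ i, i ≤ m + 2 → i ≠ k → S.d (m + 1) i g = x i) ∧ φ.p (m + 2) g = y := by
  obtain ⟨g₀, hg₀⟩ := hsurj (m + 2) y
  have hmem : ∀ i, i ≤ m + 2 → i ≠ k →
      (S.d (m + 1) i g₀)⁻¹ * x i ∈ (φ.p (m + 1)).ker := by
    intro i hi hik
    rw [MonoidHom.mem_ker, map_mul, map_inv, φ.p_d, hg₀, hy i hi hik, inv_mul_cancel]
  obtain ⟨g', hg'P, hg'⟩ := S.fill_succ (fun n => (φ.p n).ker) (ker_d φ) (ker_s φ) hk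
    (fun i => (S.d (m + 1) i g₀)⁻¹ * x i) hmem (S.compat_translate hx g₀)
  refine ⟨g₀ * g', fun i hi hik => ?_, ?_⟩
  · rw [map_mul, hg' i hi hik, mul_inv_cancel_left]
  · rw [map_mul, hg₀, MonoidHom.mem_ker.mp hg'P, mul_one]

include hsurj in
theorem rel_fill_zero {k : ℕ} (hk : k ≤ 1) (x : ℕ → S.G 0) (y : S'.G 1)
    (hy : ∀ i, i ≤ 1 → i ≠ k → φ.p 0 (x i) = S'.d 0 i y) :
    ∃ g, (∀ i, i ≤ 1 → i ≠ k → S.d 0 i g = x i) ∧ φ.p 1 g = y := by
  obtain ⟨g₀, hg₀⟩ := hsurj 1 y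
  have hmem : ∀ i, i ≤ 1 → i ≠ k → (S.d 0 i g₀)⁻¹ * x i ∈ (φ.p 0).ker := by
    intro i hi hik
    rw [MonoidHom.mem_ker, map_mul, map_inv, φ.p_d, hg₀, hy i hi hik, inv_mul_cancel]
  obtain ⟨g', hg'P, hg'⟩ := S.fill_zero (fun n => (φ.p n).ker) (ker_s φ) hk
    (fun i => (S.d 0 i g₀)⁻¹ * x i) hmem
  refine ⟨g₀ * g', fun i hi hik => ?_, ?_⟩
  · rw [map_mul, hg' i hi hik, mul_inv_cancel_left]
  · rw [map_mul, hg₀, MonoidHom.mem_ker.mp hg'P, mul_one]

end rel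

end NSGrp

/-- simplicial group data with faces and degeneracies indexed by `Fin`. -/
structure FSGrp where
  G : ℕ → Type u
  [grp : ∀ n, Group (G n)]
  δ : ∀ n, Fin (n + 2) → G (n + 1) →* G n
  σ : ∀ n, Fin (n + 1) → G n →* G (n + 1)
  δ_δ : ∀ n (i j : Fin (n + 2)), i ≤ j → ∀ x : G (n + 2),
    δ n i (δ (n + 1) j.succ x) = δ n j (δ (n + 1) i.castSucc x)
  δ_σ_le : ∀ n (i : Fin (n + 2)) (j : Fin (n + 1)), i ≤ j.castSucc → ∀ x : G (n + 1),
    δ (n + 1) i.castSucc (σ (n + 1) j.succ x) = σ n j (δ n i x)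
  δ_σ_self : ∀ n (j : Fin (n + 1)) (x : G n), δ n j.castSucc (σ n j x) = x
  δ_σ_succ : ∀ n (j : Fin (n + 1)) (x : G n), δ n j.succ (σ n j x) = x
  δ_σ_gt : ∀ n (i : Fin (n + 2)) (j : Fin (n + 1)), j.castSucc < i → ∀ x : G (n + 1),
    δ (n + 1) i.succ (σ (n + 1) j.castSucc x) = σ n j (δ n i x)

attribute [instance] FSGrp.grp

namespace FSGrp

/-- forget the `Fin` indexing. -/
def toN (S : FSGrp.{u}) : NSGrp.{u} where
  G := S.G
  d n i := if h : i < n + 2 then S.δ n ⟨i, h⟩ else 1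
  s n j := if h : j < n + 1 then S.σ n ⟨j, h⟩ else 1
  d_d n i j hij hj x := by
    have h1 : i < n + 2 := by omega
    have h2 : j + 1 < n + 1 + 2 := by omega
    have h3 : j < n + 2 := by omega
    have h4 : i < n + 1 + 2 := by omega
    simp only [dif_pos h1, dif_pos h2, dif_pos h3, dif_pos h4]
    exact S.δ_δ n ⟨i, h1⟩ ⟨j, h3⟩ (Fin.mk_le_mk.mpr hij) x
  d_s_le n i j hij hj x := by
    have h1 : i < n + 1 + 2 := by omega
    have h2 : j + 1 < n + 1 + 1 := by omega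
    have h3 : j < n + 1 := by omega
    have h4 : i < n + 2 := by omega
    simp only [dif_pos h1, dif_pos h2, dif_pos h3, dif_pos h4]
    exact S.δ_σ_le n ⟨i, h4⟩ ⟨j, h3⟩ (Fin.mk_le_mk.mpr hij) x
  d_s_self n j hj x := by
    have h1 : j < n + 2 := by omega
    have h2 : j < n + 1 := by omega
    simp only [dif_pos h1, dif_pos h2]
    exact S.δ_σ_self n ⟨j, h2⟩ x
  d_s_succ n j hj x := by
    have h1 : j + 1 < n + 2 := by omega
    have h2 : j < n + 1 := by omega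
    simp only [dif_pos h1, dif_pos h2]
    exact S.δ_σ_succ n ⟨j, h2⟩ x
  d_s_gt n i j hji hi x := by
    have h1 : i + 1 < n + 1 + 2 := by omega
    have h2 : j < n + 1 + 1 := by omega
    have h3 : j < n + 1 := by omega
    have h4 : i < n + 2 := by omega
    simp only [dif_pos h1, dif_pos h2, dif_pos h3, dif_pos h4]
    exact S.δ_σ_gt n ⟨i, h4⟩ ⟨j, h3⟩ (Fin.mk_lt_mk.mpr hji) x

lemma toN_d (S : FSGrp.{u}) (n : ℕ) (j : Fin (n + 2)) (g : S.G (n + 1)) :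
    S.toN.d n j.val g = S.δ n j g := by
  show (if h : j.val < n + 2 then S.δ n ⟨j.val, h⟩ else 1) g = _
  rw [dif_pos j.isLt]

/-- homomorphisms of simplicial group data. -/
structure Hom (S S' : FSGrp.{u}) where
  p : ∀ n, S.G n →* S'.G n
  p_δ : ∀ n i (x : S.G (n + 1)), p n (S.δ n i x) = S'.δ n i (p (n + 1) x)
  p_σ : ∀ n j (x : S.G n), p (n + 1) (S.σ n j x) = S'.σ n j (p n x)

/-- forget the `Fin` indexing. -/
def Hom.toN {S S' : FSGrp.{u}} (φ : Hom S S') : NSGrp.Hom S.toN S'.toN where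
  p := φ.p
  p_d n i x := by
    show φ.p n ((if h : i < n + 2 then S.δ n ⟨i, h⟩ else 1) x) =
      (if h : i < n + 2 then S'.δ n ⟨i, h⟩ else 1) (φ.p (n + 1) x)
    split_ifs with h
    · exact φ.p_δ n ⟨i, h⟩ x
    · simp
  p_s n j x := by
    show φ.p (n + 1) ((if h : j < n + 1 then S.σ n ⟨j, h⟩ else 1) x) =
      (if h : j < n + 1 then S'.σ n ⟨j, h⟩ else 1) (φ.p n x)
    split_ifs with h
    · exact φ.p_σ n ⟨j, h⟩ x
    · simp

variable {S S' : FSGrp.{u}} (φ : Hom S S') (hsurj : ∀ n, Function.Surjective (φ.p n))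

include hsurj in
theorem exists_filler_succ (m : ℕ) (k : Fin (m + 3))
    (x : ∀ j : Fin (m + 3), j ≠ k → S.G (m + 1))
    (hc : ∀ (i j : Fin (m + 3)) (hi : i ≠ k) (hj : j ≠ k) (hij : i < j),
      S.δ m (j.pred (Fin.ne_zero_of_lt hij)) (x i hi) =
        S.δ m (i.castPred (Fin.ne_last_of_lt hij)) (x j hj))
    (y : S'.G (m + 2)) (hy : ∀ j hj, φ.p (m + 1) (x j hj) = S'.δ (m + 1) j y) :
    ∃ g, (∀ j hj, S.δ (m + 1) j g = x j hj) ∧ φ.p (m + 2) g = y := by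
  classical
  let x' : ℕ → S.G (m + 1) := fun i =>
    if h : i < m + 3 then (if hk : (⟨i, h⟩ : Fin (m + 3)) ≠ k then x ⟨i, h⟩ hk else 1) else 1
  have hx' : ∀ (j : Fin (m + 3)) (hj : j ≠ k), x' j.val = x j hj := by
    intro j hj
    simp only [x', dif_pos j.isLt, Fin.eta, dif_pos hj]
  have hcompat : S.toN.Compat m k.val x' := by
    intro i j hij hj hik hjk
    have hi3 : i < m + 3 := by omega
    have hj3 : j + 1 < m + 3 := by omega
    have hI : (⟨i, hi3⟩ : Fin (m + 3)) ≠ k := fun h => hik (congrArg Fin.val h)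
    have hJ : (⟨j + 1, hj3⟩ : Fin (m + 3)) ≠ k := fun h => hjk (congrArg Fin.val h)
    have hIJ : (⟨i, hi3⟩ : Fin (m + 3)) < ⟨j + 1, hj3⟩ := Fin.mk_lt_mk.mpr (by omega)
    have h1 := hc _ _ hI hJ hIJ
    have e1 : x' (j + 1) = x _ hJ := hx' ⟨j + 1, hj3⟩ hJ
    have e2 : x' i = x _ hI := hx' ⟨i, hi3⟩ hI
    rw [e1, e2]
    have a1 : S.toN.d m i (x _ hJ) =
        S.δ m ((⟨i, hi3⟩ : Fin (m + 3)).castPred (Fin.ne_last_of_lt hIJ)) (x _ hJ) :=
      S.toN_d m ((⟨i, hi3⟩ : Fin (m + 3)).castPred (Fin.ne_last_of_lt hIJ)) (x _ hJ)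
    have a2 : S.toN.d m j (x _ hI) =
        S.δ m ((⟨j + 1, hj3⟩ : Fin (m + 3)).pred (Fin.ne_zero_of_lt hIJ)) (x _ hI) :=
      S.toN_d m ((⟨j + 1, hj3⟩ : Fin (m + 3)).pred (Fin.ne_zero_of_lt hIJ)) (x _ hI)
    rw [a1, a2]
    exact h1.symm
  have hy' : ∀ i, i ≤ m + 2 → i ≠ k.val →
      φ.toN.p (m + 1) (x' i) = S'.toN.d (m + 1) i y := by
    intro i hi hik
    have hi3 : i < m + 3 := by omega
    have hI : (⟨i, hi3⟩ : Fin (m + 3)) ≠ k := fun h => hik (congrArg Fin.val h)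
    have e2 : x' i = x _ hI := hx' ⟨i, hi3⟩ hI
    rw [e2]
    exact (hy _ hI).trans (S'.toN_d (m + 1) ⟨i, hi3⟩ y).symm
  obtain ⟨g, hg1, hg2⟩ := NSGrp.rel_fill_succ φ.toN hsurj (by omega) x' hcompat y hy'
  refine ⟨g, fun j hj => ?_, hg2⟩
  exact (S.toN_d (m + 1) j g).symm.trans
    ((hg1 j.val (by omega) (fun h => hj (Fin.ext h))).trans (hx' j hj))

include hsurj in
theorem exists_filler_zero (k : Fin 2) (x : ∀ j : Fin 2, j ≠ k → S.G 0)
    (y : S'.G 1) (hy : ∀ j hj, φ.p 0 (x j hj) = S'.δ 0 j y) :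
    ∃ g, (∀ j hj, S.δ 0 j g = x j hj) ∧ φ.p 1 g = y := by
  classical
  let x' : ℕ → S.G 0 := fun i =>
    if h : i < 2 then (if hk : (⟨i, h⟩ : Fin 2) ≠ k then x ⟨i, h⟩ hk else 1) else 1
  have hx' : ∀ (j : Fin 2) (hj : j ≠ k), x' j.val = x j hj := by
    intro j hj
    simp only [x', dif_pos j.isLt, Fin.eta, dif_pos hj]
  have hy' : ∀ i, i ≤ 1 → i ≠ k.val → φ.toN.p 0 (x' i) = S'.toN.d 0 i y := by
    intro i hi hik
    have hi3 : i < 2 := by omega
    have hI : (⟨i, hi3⟩ : Fin 2) ≠ k := fun h => hik (congrArg Fin.val h)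
    have e2 : x' i = x _ hI := hx' ⟨i, hi3⟩ hI
    rw [e2]
    exact (hy _ hI).trans (S'.toN_d 0 ⟨i, hi3⟩ y).symm
  obtain ⟨g, hg1, hg2⟩ := NSGrp.rel_fill_zero φ.toN hsurj (by omega) x' y hy'
  refine ⟨g, fun j hj => ?_, hg2⟩
  exact (S.toN_d 0 j g).symm.trans
    ((hg1 j.val (by omega) (fun h => hj (Fin.ext h))).trans (hx' j hj))

/-- the trivial simplicial group. -/
def triv : FSGrp.{u} where
  G _ := PUnit
  δ _ _ := 1
  σ _ _ := 1
  δ_δ _ _ _ _ _ := rfl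
  δ_σ_le _ _ _ _ _ := rfl
  δ_σ_self _ _ _ := rfl
  δ_σ_succ _ _ _ := rfl
  δ_σ_gt _ _ _ _ _ := rfl

/-- the map to the trivial simplicial group. -/
def toTriv (S : FSGrp.{u}) : Hom S triv.{u} where
  p _ := 1
  p_δ _ _ _ := rfl
  p_σ _ _ _ := rfl

lemma toTriv_surjective (S : FSGrp.{u}) (n : ℕ) : Function.Surjective (S.toTriv.p n) :=
  fun _ => ⟨1, rfl⟩

end FSGrp

end Groth.Agent.Lib.Helper6.MooreFiller
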