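import Mathlib
import Groth.Agent.Lib.Helper6.MooreFiller

/-!
Helper6: simplicial groups are Kan complexes; degreewise surjective homomorphisms of simplicial
abelian groups are Kan fibrations.
-/

set_option autoImplicit false

namespace Groth.Agent.Lib.Helper6.MooreSSet

universe u

open CategoryTheory Simplicial Opposite Groth.Agent.Lib.Helper6.MooreFiller

/-- simplicial group data of a simplicial object of `GrpCat`. -/
def ofGrp (X : SimplicialObject GrpCat.{u}) : FSGrp.{u} where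
  G n := X _⦋n⦌
  δ n i := (X.δ i).hom
  σ n j := (X.σ j).hom
  δ_δ n i j h x := congrArg (fun φ => φ.hom x) (X.δ_comp_δ h)
  δ_σ_le n i j h x := congrArg (fun φ => φ.hom x) (X.δ_comp_σ_of_le h)
  δ_σ_self n j x := congrArg (fun φ => φ.hom x) (X.δ_comp_σ_self (i := j))
  δ_σ_succ n j x := congrArg (fun φ => φ.hom x) (X.δ_comp_σ_succ (i := j))
  δ_σ_gt n i j h x := congrArg (fun φ => φ.hom x) (X.δ_comp_σ_of_gt h)

theorem kanComplex_of_grp (X : SimplicialObject GrpCat.{u}) :
    SSet.KanComplex (X ⋙ forget GrpCat.{u}) := by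
  rw [SSet.KanComplex.iff]
  intro n i f hf
  obtain _ | m := n
  · obtain ⟨g, hg, -⟩ := FSGrp.exists_filler_zero (ofGrp X).toTriv (ofGrp X).toTriv_surjective i
      (fun j hj => SSet.yonedaEquiv (f j hj)) PUnit.unit (fun _ _ => rfl)
    refine ⟨SSet.yonedaEquiv.symm g, fun j hj => ?_⟩
    rw [SSet.stdSimplex.δ_comp_yonedaEquiv_symm, Equiv.symm_apply_eq]
    exact hg j hj
  · obtain ⟨g, hg, -⟩ := FSGrp.exists_filler_succ (ofGrp X).toTriv (ofGrp X).toTriv_surjective m i
      (fun j hj => SSet.yonedaEquiv (f j hj))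
      (fun a b ha hb hab =>
        (SSet.stdSimplex.yonedaEquiv_δ_comp (f a ha) _).symm.trans
          ((congrArg SSet.yonedaEquiv (hf a b ha hb hab)).trans
            (SSet.stdSimplex.yonedaEquiv_δ_comp (f b hb) _)))
      PUnit.unit (fun _ _ => rfl)
    refine ⟨SSet.yonedaEquiv.symm g, fun j hj => ?_⟩
    rw [SSet.stdSimplex.δ_comp_yonedaEquiv_symm, Equiv.symm_apply_eq]
    exact hg j hj

/-- simplicial group data of a simplicial object of `AddCommGrpCat`. -/
def ofAddCommGrp (X : SimplicialObject AddCommGrpCat.{u}) : FSGrp.{u} where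
  G n := Multiplicative (X _⦋n⦌)
  δ n i := AddMonoidHom.toMultiplicative (X.δ i).hom
  σ n j := AddMonoidHom.toMultiplicative (X.σ j).hom
  δ_δ n i j h x :=
    congrArg (fun φ => Multiplicative.ofAdd (φ.hom (Multiplicative.toAdd x))) (X.δ_comp_δ h)
  δ_σ_le n i j h x :=
    congrArg (fun φ => Multiplicative.ofAdd (φ.hom (Multiplicative.toAdd x)))
      (X.δ_comp_σ_of_le h)
  δ_σ_self n j x :=
    congrArg (fun φ => Multiplicative.ofAdd (φ.hom (Multiplicative.toAdd x)))
      (X.δ_comp_σ_self (i := j))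
  δ_σ_succ n j x :=
    congrArg (fun φ => Multiplicative.ofAdd (φ.hom (Multiplicative.toAdd x)))
      (X.δ_comp_σ_succ (i := j))
  δ_σ_gt n i j h x :=
    congrArg (fun φ => Multiplicative.ofAdd (φ.hom (Multiplicative.toAdd x)))
      (X.δ_comp_σ_of_gt h)

/-- the homomorphism of simplicial group data of a morphism of simplicial abelian groups. -/
def homOfAddCommGrp {X Y : SimplicialObject AddCommGrpCat.{u}} (f : X ⟶ Y) :
    FSGrp.Hom (ofAddCommGrp X) (ofAddCommGrp Y) where
  p n := (AddMonoidHom.toMultiplicative (f.app (op ⦋n⦌)).hom :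
    Multiplicative (X _⦋n⦌) →* Multiplicative (Y _⦋n⦌))
  p_δ n i x :=
    congrArg (fun φ => Multiplicative.ofAdd
      (φ.hom (Multiplicative.toAdd (x : Multiplicative (X _⦋n + 1⦌)))))
      (SimplicialObject.δ_naturality f i)
  p_σ n j x :=
    congrArg (fun φ => Multiplicative.ofAdd
      (φ.hom (Multiplicative.toAdd (x : Multiplicative (X _⦋n⦌)))))
      (SimplicialObject.σ_naturality f j)

theorem rlp_of_surjective {X₀ Y₀ : SimplicialObject AddCommGrpCat.{u}} (f : X₀ ⟶ Y₀)
    (hf : ∀ n : SimplexCategoryᵒᵖ, Function.Surjective (f.app n)) :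
    SSet.modelCategoryQuillen.J.rlp (X := X₀ ⋙ forget AddCommGrpCat.{u})
      (Y := Y₀ ⋙ forget AddCommGrpCat.{u}) (Functor.whiskerRight f (forget AddCommGrpCat.{u})) := by
  have hsurj : ∀ n, Function.Surjective ((homOfAddCommGrp f).p n) := by
    intro n y
    obtain ⟨x, hx⟩ := hf (op ⦋n⦌) (Multiplicative.toAdd (y : Multiplicative (Y₀ _⦋n⦌)))
    refine ⟨Multiplicative.ofAdd x, ?_⟩
    have h1 : Multiplicative.ofAdd ((f.app (op ⦋n⦌)).hom x) =
        Multiplicative.ofAdd (Multiplicative.toAdd (y : Multiplicative (Y₀ _⦋n⦌))) :=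
      congrArg Multiplicative.ofAdd hx
    exact h1
  intro _ _ _ hj
  simp only [SSet.modelCategoryQuillen.J, MorphismProperty.iSup_iff] at hj
  obtain ⟨n, ⟨i⟩⟩ := hj
  refine ⟨fun {t b} sq => ?_⟩
  have hcomm : ∀ (j : Fin (n + 2)) (hj : j ≠ i),
      (f.app (op ⦋n⦌)).hom (SSet.yonedaEquiv (SSet.horn.ι i j hj ≫ t)) =
        (Y₀.δ j).hom (SSet.yonedaEquiv b) := by
    intro j hj
    have h1 : (SSet.horn.ι i j hj ≫ t) ≫ Functor.whiskerRight f (forget AddCommGrpCat.{u}) =
        SSet.stdSimplex.δ j ≫ b := by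
      rw [Category.assoc, sq.w, SSet.horn.ι_ι_assoc]
    have h2 := congrArg SSet.yonedaEquiv h1
    rw [SSet.yonedaEquiv_comp, SSet.stdSimplex.yonedaEquiv_δ_comp] at h2
    exact h2
  have key : ∃ g : X₀ _⦋n + 1⦌,
      (∀ (j : Fin (n + 2)) (hj : j ≠ i),
        (X₀.δ j).hom g = SSet.yonedaEquiv (SSet.horn.ι i j hj ≫ t)) ∧
        (f.app (op ⦋n + 1⦌)).hom g = SSet.yonedaEquiv b := by
    obtain _ | m := n
    · obtain ⟨g, hg1, hg2⟩ := FSGrp.exists_filler_zero (homOfAddCommGrp f) hsurj i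
        (fun j hj => Multiplicative.ofAdd (SSet.yonedaEquiv (SSet.horn.ι i j hj ≫ t)))
        (Multiplicative.ofAdd (SSet.yonedaEquiv b))
        (fun j hj => congrArg Multiplicative.ofAdd (hcomm j hj))
      exact ⟨Multiplicative.toAdd (g : Multiplicative (X₀ _⦋_⦌)), fun j hj => congrArg Multiplicative.toAdd (hg1 j hj),
        congrArg Multiplicative.toAdd hg2⟩
    · obtain ⟨g, hg1, hg2⟩ := FSGrp.exists_filler_succ (homOfAddCommGrp f) hsurj m i
        (fun j hj => Multiplicative.ofAdd (SSet.yonedaEquiv (SSet.horn.ι i j hj ≫ t)))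
        (fun a b ha hb hab => congrArg Multiplicative.ofAdd
          ((SSet.stdSimplex.yonedaEquiv_δ_comp (SSet.horn.ι i a ha ≫ t) _).symm.trans
            ((congrArg SSet.yonedaEquiv (SSet.horn.IsCompatible.of_hom t a b ha hb hab)).trans
              (SSet.stdSimplex.yonedaEquiv_δ_comp (SSet.horn.ι i b hb ≫ t) _))))
        (Multiplicative.ofAdd (SSet.yonedaEquiv b))
        (fun j hj => congrArg Multiplicative.ofAdd (hcomm j hj))
      exact ⟨Multiplicative.toAdd (g : Multiplicative (X₀ _⦋_⦌)), fun j hj => congrArg Multiplicative.toAdd (hg1 j hj),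
        congrArg Multiplicative.toAdd hg2⟩
  obtain ⟨g, hg1, hg2⟩ := key
  refine ⟨⟨{ l := SSet.yonedaEquiv.symm g,
             fac_left := SSet.horn.hom_ext' (fun j hj => ?_), fac_right := ?_ }⟩⟩
  · rw [SSet.horn.ι_ι_assoc, SSet.stdSimplex.δ_comp_yonedaEquiv_symm, Equiv.symm_apply_eq]
    exact hg1 j hj
  · rw [SSet.yonedaEquiv_symm_comp, Equiv.symm_apply_eq]
    exact hg2

end Groth.Agent.Lib.Helper6.MooreSSet
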