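import Mathlib
import Groth.Agent.Lib.Helper6.MooreSSet

/-!
Helper6: a degreewise surjective quasi-isomorphism of simplicial abelian groups is a trivial Kan
fibration of the underlying simplicial sets (right lifting property against the boundary
inclusions `∂Δ[n] ⟶ Δ[n]`).
-/

set_option autoImplicit false

namespace Groth.Agent.Lib.Helper6.TrivKan

universe u

open CategoryTheory CategoryTheory.Limits Simplicial Opposite AlgebraicTopology
  AlgebraicTopology.DoldKan Groth.Agent.Lib.Helper6.MooreFiller Groth.Agent.Lib.Helper6.MooreSSet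

section Chain

variable {K L : ChainComplex AddCommGrpCat.{u} ℕ} (φ : K ⟶ L)

/-- relative acyclicity: for a degreewise surjective quasi-isomorphism, a cycle in the kernel
is the boundary of an element of the kernel. -/
theorem exists_bound (hsurj : ∀ n, Function.Surjective (φ.f n)) (hq : QuasiIso φ)
    (j k : ℕ) (hk : (ComplexShape.down ℕ).next j = k)
    (z : K.X j) (hzφ : (φ.f j).hom z = 0) (hzd : (K.d j k).hom z = 0) :
    ∃ u : K.X (j + 1), (φ.f (j + 1)).hom u = 0 ∧ (K.d (j + 1) j).hom u = z := by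
  have hepi : Epi φ := HomologicalComplex.epi_of_epi_f φ
    (fun i => (AddCommGrpCat.epi_iff_surjective _).2 (hsurj i))
  let S : ShortComplex (ChainComplex AddCommGrpCat.{u} ℕ) :=
    ShortComplex.mk (kernel.ι φ) φ (kernel.condition φ)
  have hS : S.ShortExact :=
    { exact := ShortComplex.exact_of_f_is_kernel S (kernelIsKernel φ)
      mono_f := inferInstanceAs (Mono (kernel.ι φ))
      epi_g := hepi }
  have hac : (kernel φ).Acyclic := hS.acyclic_X₁ hq
  have hdeg := (HomologicalComplex.shortExact_iff_degreewise_shortExact S).1 hS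
  have hinj : ∀ i, Function.Injective ((kernel.ι φ).f i).hom := fun i =>
    (AddCommGrpCat.mono_iff_injective ((kernel.ι φ).f i)).1 (hdeg i).mono_f
  have hex : ∀ i (x : K.X i), (φ.f i).hom x = 0 →
      ∃ y : (kernel φ).X i, ((kernel.ι φ).f i).hom y = x :=
    fun i x hx => (ShortComplex.ab_exact_iff _).1 (hdeg i).exact x hx
  have hexact : ∀ y : (kernel φ).X j, ((kernel φ).d j k).hom y = 0 →
      ∃ y' : (kernel φ).X (j + 1), ((kernel φ).d (j + 1) j).hom y' = y :=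
    fun y hy => (ShortComplex.ab_exact_iff _).1
      (((kernel φ).exactAt_iff' (j + 1) j k (ChainComplex.prev ℕ j) hk).1 (hac j)) y hy
  have hcomm : ∀ (a b : ℕ) (y : (kernel φ).X a),
      ((kernel.ι φ).f b).hom (((kernel φ).d a b).hom y) =
        (K.d a b).hom (((kernel.ι φ).f a).hom y) :=
    fun a b y => (congrArg (fun g => g.hom y) ((kernel.ι φ).comm a b)).symm
  obtain ⟨y, hy⟩ := hex j z hzφ
  have hyd : ((kernel φ).d j k).hom y = 0 := by
    apply hinj k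
    rw [hcomm, hy, hzd, map_zero]
  obtain ⟨y', hy'⟩ := hexact y hyd
  refine ⟨((kernel.ι φ).f (j + 1)).hom y', ?_, ?_⟩
  · have h0 : (kernel.ι φ).f (j + 1) ≫ φ.f (j + 1) = 0 := by
      rw [← HomologicalComplex.comp_f, kernel.condition, HomologicalComplex.zero_f]
    exact congrArg (fun g => g.hom y') h0
  · rw [← hcomm, hy', hy]

end Chain

section DK

variable (X : SimplicialObject AddCommGrpCat.{u})

/-- the projector `PInfty` in degree `n`. -/
noncomputable abbrev PI (n : ℕ) : X _⦋n⦌ ⟶ X _⦋n⦌ :=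
  (PInfty : AlternatingFaceMapComplex.obj X ⟶ AlternatingFaceMapComplex.obj X).f n

/-- the differential of the alternating face map complex. -/
noncomputable abbrev dK (i j : ℕ) : X _⦋i⦌ ⟶ X _⦋j⦌ := (AlternatingFaceMapComplex.obj X).d i j

/-- evaluation at an element, as an additive map on morphisms. -/
def evalAt {A B : AddCommGrpCat.{u}} (w : A) : (A ⟶ B) →+ B where
  toFun g := g.hom w
  map_zero' := rfl
  map_add' _ _ := rfl

theorem δ_succ_PI (n : ℕ) (j : Fin (n + 1)) (u : X _⦋n + 1⦌) :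
    (X.δ j.succ).hom ((PI X (n + 1)).hom u) = 0 := by
  have h : (P (n + 1)).f (n + 1) ≫ X.δ j.succ = 0 :=
    HigherFacesVanish.of_P (X := X) (n + 1) n j (by omega)
  rw [← PInfty_f] at h
  exact congrArg (fun g => g.hom u) h

theorem PI_eq_self (n : ℕ) (z : X _⦋n + 1⦌)
    (hz : ∀ j : Fin (n + 1), (X.δ j.succ).hom z = 0) :
    (PI X (n + 1)).hom z = z := by
  let Z : AddSubgroup (X _⦋n + 1⦌) := ⨅ j : Fin (n + 1), (X.δ j.succ).hom.ker
  let ψ : AddCommGrpCat.of Z ⟶ X _⦋n + 1⦌ := AddCommGrpCat.ofHom Z.subtype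
  have v : HigherFacesVanish (n + 1) ψ := by
    intro j _
    apply AddCommGrpCat.hom_ext
    apply AddMonoidHom.ext
    rintro ⟨w, hw⟩
    exact AddMonoidHom.mem_ker.mp ((AddSubgroup.mem_iInf.mp hw) j)
  have h : ψ ≫ (P (n + 1)).f (n + 1) = ψ := v.comp_P_eq_self
  rw [← PInfty_f] at h
  have hzZ : z ∈ Z := AddSubgroup.mem_iInf.mpr (fun j => AddMonoidHom.mem_ker.mpr (hz j))
  exact congrArg (fun g => g.hom (⟨z, hzZ⟩ : Z)) h

theorem dK_eq_δ_zero (n : ℕ) (w : X _⦋n + 1⦌)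
    (hw : ∀ j : Fin (n + 1), (X.δ j.succ).hom w = 0) :
    (dK X (n + 1) n).hom w = (X.δ 0).hom w := by
  have h0 : ∑ j : Fin (n + 1),
      evalAt w ((-1 : ℤ) ^ ((j.succ : Fin (n + 2)) : ℕ) • X.δ j.succ) = 0 :=
    Finset.sum_eq_zero (fun j _ => by
      rw [map_zsmul]
      show _ • (X.δ j.succ).hom w = 0
      rw [hw j, smul_zero])
  show evalAt w (dK X (n + 1) n) = (X.δ 0).hom w
  rw [show dK X (n + 1) n = ∑ i : Fin (n + 2), (-1 : ℤ) ^ (i : ℕ) • X.δ i from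
    AlternatingFaceMapComplex.obj_d_eq X n, map_sum, Fin.sum_univ_succ, h0, add_zero]
  simp only [Fin.val_zero, pow_zero, one_smul]
  rfl

end DK

section Main

variable {X Y : SimplicialObject AddCommGrpCat.{u}} (f : X ⟶ Y)

theorem hsurj_of (hf : ∀ n : SimplexCategoryᵒᵖ, Function.Surjective (f.app n)) :
    ∀ n, Function.Surjective ((homOfAddCommGrp f).p n) := by
  intro n y
  obtain ⟨x, hx⟩ := hf (op ⦋n⦌) (Multiplicative.toAdd (y : Multiplicative (Y _⦋n⦌)))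
  refine ⟨Multiplicative.ofAdd x, ?_⟩
  have h1 : Multiplicative.ofAdd ((f.app (op ⦋n⦌)).hom x) =
      Multiplicative.ofAdd (Multiplicative.toAdd (y : Multiplicative (Y _⦋n⦌))) :=
    congrArg Multiplicative.ofAdd hx
  exact h1

theorem nat_δ {n : ℕ} (i : Fin (n + 2)) (h : X _⦋n + 1⦌) :
    (f.app (op ⦋n⦌)).hom ((X.δ i).hom h) = (Y.δ i).hom ((f.app (op ⦋n + 1⦌)).hom h) :=
  congrArg (fun g => g.hom h) (SimplicialObject.δ_naturality f i)

theorem horn_filler_zero (hf : ∀ n : SimplexCategoryᵒᵖ, Function.Surjective (f.app n))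
    (i : Fin 2) (x : ∀ j : Fin 2, j ≠ i → X _⦋0⦌) (y : Y _⦋1⦌)
    (hy : ∀ j hj, (f.app (op ⦋0⦌)).hom (x j hj) = (Y.δ j).hom y) :
    ∃ g : X _⦋1⦌, (∀ j hj, (X.δ j).hom g = x j hj) ∧ (f.app (op ⦋1⦌)).hom g = y := by
  obtain ⟨g, hg1, hg2⟩ := FSGrp.exists_filler_zero (homOfAddCommGrp f) (hsurj_of f hf) i
    (fun j hj => Multiplicative.ofAdd (x j hj)) (Multiplicative.ofAdd y)
    (fun j hj => congrArg Multiplicative.ofAdd (hy j hj))
  exact ⟨Multiplicative.toAdd (g : Multiplicative (X _⦋_⦌)),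
    fun j hj => congrArg Multiplicative.toAdd (hg1 j hj), congrArg Multiplicative.toAdd hg2⟩

theorem horn_filler_succ (hf : ∀ n : SimplexCategoryᵒᵖ, Function.Surjective (f.app n))
    (m : ℕ) (i : Fin (m + 3)) (x : ∀ j : Fin (m + 3), j ≠ i → X _⦋m + 1⦌)
    (hc : ∀ (a b : Fin (m + 3)) (ha : a ≠ i) (hb : b ≠ i) (hab : a < b),
      (X.δ (b.pred (Fin.ne_zero_of_lt hab))).hom (x a ha) =
        (X.δ (a.castPred (Fin.ne_last_of_lt hab))).hom (x b hb))
    (y : Y _⦋m + 2⦌) (hy : ∀ j hj, (f.app (op ⦋m + 1⦌)).hom (x j hj) = (Y.δ j).hom y) :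
    ∃ g : X _⦋m + 2⦌, (∀ j hj, (X.δ j).hom g = x j hj) ∧ (f.app (op ⦋m + 2⦌)).hom g = y := by
  obtain ⟨g, hg1, hg2⟩ := FSGrp.exists_filler_succ (homOfAddCommGrp f) (hsurj_of f hf) m i
    (fun j hj => Multiplicative.ofAdd (x j hj))
    (fun a b ha hb hab => congrArg Multiplicative.ofAdd (hc a b ha hb hab))
    (Multiplicative.ofAdd y)
    (fun j hj => congrArg Multiplicative.ofAdd (hy j hj))
  exact ⟨Multiplicative.toAdd (g : Multiplicative (X _⦋_⦌)),
    fun j hj => congrArg Multiplicative.toAdd (hg1 j hj), congrArg Multiplicative.toAdd hg2⟩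

/-- a cycle in the kernel, fixed by `PInfty`, is the `0`-th face of an element of the kernel all of
whose higher faces vanish. -/
theorem exists_normalized_bound
    (hf : ∀ n : SimplexCategoryᵒᵖ, Function.Surjective (f.app n))
    (hq : QuasiIso ((alternatingFaceMapComplex AddCommGrpCat.{u}).map f))
    (n k : ℕ) (hk : (ComplexShape.down ℕ).next n = k) (z : X _⦋n⦌)
    (hzf : (f.app (op ⦋n⦌)).hom z = 0) (hzc : (dK X n k).hom z = 0)
    (hP : (PI X n).hom z = z) :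
    ∃ w : X _⦋n + 1⦌, (f.app (op ⦋n + 1⦌)).hom w = 0 ∧ (X.δ 0).hom w = z ∧
      ∀ j : Fin (n + 1), (X.δ j.succ).hom w = 0 := by
  obtain ⟨u, huf, hud⟩ : ∃ u : X _⦋n + 1⦌, (f.app (op ⦋n + 1⦌)).hom u = 0 ∧
      (dK X (n + 1) n).hom u = z :=
    exists_bound ((alternatingFaceMapComplex AddCommGrpCat.{u}).map f)
      (fun m => hf (op ⦋m⦌)) hq n k hk z hzf hzc
  have hnat : (f.app (op ⦋n + 1⦌)).hom ((PI X (n + 1)).hom u) =
      (PI Y (n + 1)).hom ((f.app (op ⦋n + 1⦌)).hom u) :=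
    (congrArg (fun g => g.hom u) (PInfty_f_naturality (n + 1) f)).symm
  refine ⟨(PI X (n + 1)).hom u, ?_, ?_, fun j => δ_succ_PI X n j u⟩
  · rw [hnat, huf, map_zero]
  · rw [← dK_eq_δ_zero X n _ (fun j => δ_succ_PI X n j u)]
    have hc : (dK X (n + 1) n).hom ((PI X (n + 1)).hom u) =
        (PI X n).hom ((dK X (n + 1) n).hom u) :=
      congrArg (fun g => g.hom u)
        ((PInfty : AlternatingFaceMapComplex.obj X ⟶ AlternatingFaceMapComplex.obj X).comm
          (n + 1) n)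
    rw [hc, hud, hP]

theorem sphere_filler_zero
    (hf : ∀ n : SimplexCategoryᵒᵖ, Function.Surjective (f.app n))
    (hq : QuasiIso ((alternatingFaceMapComplex AddCommGrpCat.{u}).map f))
    (x : Fin 2 → X _⦋0⦌) (y : Y _⦋1⦌)
    (hy : ∀ j : Fin 2, (f.app (op ⦋0⦌)).hom (x j) = (Y.δ j).hom y) :
    ∃ g : X _⦋1⦌, (∀ j : Fin 2, (X.δ j).hom g = x j) ∧ (f.app (op ⦋1⦌)).hom g = y := by
  obtain ⟨h, hh1, hh2⟩ : ∃ h : X _⦋1⦌, (∀ j : Fin 2, j ≠ 0 → (X.δ j).hom h = x j) ∧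
      (f.app (op ⦋1⦌)).hom h = y :=
    horn_filler_zero f hf 0 (fun j _ => x j) y (fun j _ => hy j)
  obtain ⟨z, hz⟩ : ∃ z : X _⦋0⦌, z = x 0 - (X.δ 0).hom h := ⟨_, rfl⟩
  have hzf : (f.app (op ⦋0⦌)).hom z = 0 := by
    rw [hz, map_sub, hy 0, nat_δ f 0 h, hh2, sub_self]
  have hzc : (dK X 0 0).hom z = 0 := by
    have h0 : dK X 0 0 = 0 := (AlternatingFaceMapComplex.obj X).shape 0 0 (by simp)
    rw [h0]
    rfl
  have hP : (PI X 0).hom z = z := by
    have h0 : PI X 0 = 𝟙 _ := PInfty_f_0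
    rw [h0]
    rfl
  obtain ⟨w, hwf, hw0, hwj⟩ : ∃ w : X _⦋1⦌, (f.app (op ⦋1⦌)).hom w = 0 ∧ (X.δ 0).hom w = z ∧
      ∀ j : Fin 1, (X.δ j.succ).hom w = 0 :=
    exists_normalized_bound f hf hq 0 0 (by simp) z hzf hzc hP
  refine ⟨h + w, fun j => ?_, ?_⟩
  · obtain rfl | ⟨j', rfl⟩ := j.eq_zero_or_eq_succ
    · show (X.δ 0).hom (h + w) = x 0
      rw [map_add, hw0, hz]
      abel
    · show (X.δ j'.succ).hom (h + w) = x j'.succ
      rw [map_add, hwj j', add_zero, hh1 j'.succ (Fin.succ_ne_zero j')]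
  · rw [map_add, hh2, hwf, add_zero]

theorem sphere_filler_succ
    (hf : ∀ n : SimplexCategoryᵒᵖ, Function.Surjective (f.app n))
    (hq : QuasiIso ((alternatingFaceMapComplex AddCommGrpCat.{u}).map f))
    (m : ℕ) (x : Fin (m + 3) → X _⦋m + 1⦌)
    (hc : ∀ (a b : Fin (m + 3)) (hab : a < b),
      (X.δ (b.pred (Fin.ne_zero_of_lt hab))).hom (x a) =
        (X.δ (a.castPred (Fin.ne_last_of_lt hab))).hom (x b))
    (y : Y _⦋m + 2⦌) (hy : ∀ j, (f.app (op ⦋m + 1⦌)).hom (x j) = (Y.δ j).hom y) :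
    ∃ g : X _⦋m + 2⦌, (∀ j, (X.δ j).hom g = x j) ∧ (f.app (op ⦋m + 2⦌)).hom g = y := by
  obtain ⟨h, hh1, hh2⟩ : ∃ h : X _⦋m + 2⦌,
      (∀ j : Fin (m + 3), j ≠ 0 → (X.δ j).hom h = x j) ∧ (f.app (op ⦋m + 2⦌)).hom h = y :=
    horn_filler_succ f hf m 0 (fun j _ => x j) (fun a b _ _ hab => hc a b hab) y
      (fun j _ => hy j)
  obtain ⟨z, hz⟩ : ∃ z : X _⦋m + 1⦌, z = x 0 - (X.δ 0).hom h := ⟨_, rfl⟩
  have hzf : (f.app (op ⦋m + 1⦌)).hom z = 0 := by
    rw [hz, map_sub, hy 0, nat_δ f 0 h, hh2, sub_self]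
  have hzδ : ∀ j : Fin (m + 2), (X.δ j).hom z = 0 := by
    intro j
    have h1 : (X.δ j).hom (x 0) = (X.δ 0).hom (x j.succ) := by
      have := hc 0 j.succ (Fin.succ_pos j)
      simpa using this
    have h2 : (X.δ j).hom ((X.δ 0).hom h) = (X.δ 0).hom ((X.δ j.succ).hom h) := by
      have e : (X.δ j.succ ≫ X.δ 0).hom h = (X.δ (Fin.castSucc 0) ≫ X.δ j).hom h :=
        congrArg (fun g => g.hom h)
          (X.δ_comp_δ (i := (0 : Fin (m + 2))) (j := j) (Fin.zero_le j))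
      rw [Fin.castSucc_zero] at e
      exact e.symm
    rw [hz, map_sub, h1, h2, hh1 j.succ (Fin.succ_ne_zero j), sub_self]
  have hzc : (dK X (m + 1) m).hom z = 0 := by
    show evalAt z (dK X (m + 1) m) = 0
    rw [show dK X (m + 1) m = ∑ i : Fin (m + 2), (-1 : ℤ) ^ (i : ℕ) • X.δ i from
      AlternatingFaceMapComplex.obj_d_eq X m, map_sum]
    refine Finset.sum_eq_zero (fun j _ => ?_)
    rw [map_zsmul]
    show _ • (X.δ j).hom z = 0
    rw [hzδ j, smul_zero]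
  have hP : (PI X (m + 1)).hom z = z := PI_eq_self X m z (fun j => hzδ j.succ)
  obtain ⟨w, hwf, hw0, hwj⟩ : ∃ w : X _⦋m + 2⦌, (f.app (op ⦋m + 2⦌)).hom w = 0 ∧
      (X.δ 0).hom w = z ∧ ∀ j : Fin (m + 2), (X.δ j.succ).hom w = 0 :=
    exists_normalized_bound f hf hq (m + 1) m (by simp) z hzf hzc hP
  refine ⟨h + w, fun j => ?_, ?_⟩
  · obtain rfl | ⟨j', rfl⟩ := j.eq_zero_or_eq_succ
    · show (X.δ 0).hom (h + w) = x 0
      rw [map_add, hw0, hz]
      abel
    · show (X.δ j'.succ).hom (h + w) = x j'.succ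
      rw [map_add, hwj j', add_zero, hh1 j'.succ (Fin.succ_ne_zero j')]
  · rw [map_add, hh2, hwf, add_zero]

end Main

section SSetPart

theorem boundary_compat {n : ℕ} {X : SSet.{u}} (g : (SSet.boundary (n + 2) : SSet.{u}) ⟶ X)
    (j k : Fin (n + 3)) (hjk : j < k) :
    SSet.stdSimplex.δ (k.pred (Fin.ne_zero_of_lt hjk)) ≫ SSet.boundary.ι j ≫ g =
      SSet.stdSimplex.δ (j.castPred (Fin.ne_last_of_lt hjk)) ≫ SSet.boundary.ι k ≫ g := by
  simp only [← Category.assoc]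
  congr 1
  obtain ⟨j, rfl⟩ := j.eq_castSucc_of_ne_last (Fin.ne_last_of_lt hjk)
  obtain ⟨k, rfl⟩ := k.eq_succ_of_ne_zero (Fin.ne_zero_of_lt hjk)
  rw [← cancel_mono (SSet.Subcomplex.ι _), Category.assoc, Category.assoc, SSet.boundary.ι_ι,
    SSet.boundary.ι_ι, Fin.pred_succ, Fin.castPred_castSucc,
    SSet.stdSimplex.δ_comp_δ (Fin.castSucc_lt_succ_iff.mp hjk)]

theorem rlp_I_of_surjective_of_quasiIso {X₀ Y₀ : SimplicialObject AddCommGrpCat.{u}}
    (f : X₀ ⟶ Y₀) (hf : ∀ n : SimplexCategoryᵒᵖ, Function.Surjective (f.app n))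
    (hq : QuasiIso ((AlgebraicTopology.alternatingFaceMapComplex AddCommGrpCat.{u}).map f)) :
    SSet.modelCategoryQuillen.I.rlp (X := X₀ ⋙ forget AddCommGrpCat.{u})
      (Y := Y₀ ⋙ forget AddCommGrpCat.{u}) (Functor.whiskerRight f (forget AddCommGrpCat.{u})) := by
  intro _ _ _ hi
  simp only [SSet.modelCategoryQuillen.I] at hi
  obtain ⟨n⟩ := hi
  refine ⟨fun {t b} sq => ?_⟩
  obtain _ | n := n
  · obtain ⟨x, hx⟩ := hf (op ⦋0⦌) (SSet.yonedaEquiv b)
    refine ⟨⟨{ l := SSet.yonedaEquiv.symm x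
               fac_left := SSet.boundary.hom_ext₀
               fac_right := ?_ }⟩⟩
    rw [SSet.yonedaEquiv_symm_comp, Equiv.symm_apply_eq]
    exact hx
  · have hcomm : ∀ j : Fin (n + 2),
        (f.app (op ⦋n⦌)).hom (SSet.yonedaEquiv (SSet.boundary.ι j ≫ t)) =
          (Y₀.δ j).hom (SSet.yonedaEquiv b) := by
      intro j
      have h1 : (SSet.boundary.ι j ≫ t) ≫ Functor.whiskerRight f (forget AddCommGrpCat.{u}) =
          SSet.stdSimplex.δ j ≫ b := by
        rw [Category.assoc, sq.w, SSet.boundary.ι_ι_assoc]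
      have h2 := congrArg SSet.yonedaEquiv h1
      rw [SSet.yonedaEquiv_comp, SSet.stdSimplex.yonedaEquiv_δ_comp] at h2
      exact h2
    have key : ∃ g : X₀ _⦋n + 1⦌,
        (∀ j : Fin (n + 2), (X₀.δ j).hom g = SSet.yonedaEquiv (SSet.boundary.ι j ≫ t)) ∧
          (f.app (op ⦋n + 1⦌)).hom g = SSet.yonedaEquiv b := by
      obtain _ | m := n
      · exact sphere_filler_zero f hf hq _ _ hcomm
      · refine sphere_filler_succ f hf hq m _ (fun a b hab => ?_) _ hcomm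
        exact (SSet.stdSimplex.yonedaEquiv_δ_comp (SSet.boundary.ι a ≫ t) _).symm.trans
          ((congrArg SSet.yonedaEquiv (boundary_compat t a b hab)).trans
            (SSet.stdSimplex.yonedaEquiv_δ_comp (SSet.boundary.ι b ≫ t) _))
    obtain ⟨g, hg1, hg2⟩ := key
    refine ⟨⟨{ l := SSet.yonedaEquiv.symm g
               fac_left := SSet.boundary.hom_ext (fun j => ?_)
               fac_right := ?_ }⟩⟩
    · rw [SSet.boundary.ι_ι_assoc, SSet.stdSimplex.δ_comp_yonedaEquiv_symm, Equiv.symm_apply_eq]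
      exact hg1 j
    · rw [SSet.yonedaEquiv_symm_comp, Equiv.symm_apply_eq]
      exact hg2

end SSetPart

end Groth.Agent.Lib.Helper6.TrivKan
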