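import Mathlib
import Groth.Agent.Lib.Helper6.TrivKan

/-!
Helper6: a homomorphism of simplicial abelian groups whose underlying map of simplicial sets is a
homotopy equivalence induces a quasi-isomorphism on alternating face map complexes.
-/

set_option autoImplicit false
set_option backward.isDefEq.respectTransparency false

namespace Groth.Agent.Lib.Helper6.HtpyQis

universe u

open CategoryTheory CategoryTheory.Limits Simplicial Opposite AlgebraicTopology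
  AlgebraicTopology.DoldKan HomologicalComplex Groth.Agent.Lib.Helper6.TrivKan

section Bridge

variable {K L : ChainComplex AddCommGrpCat.{u} ℕ} (φ : K ⟶ L)

theorem quasiIsoAt_of_elementwise (n k : ℕ) (hk : (ComplexShape.down ℕ).next n = k)
    (hinj : ∀ z : K.X n, (K.d n k).hom z = 0 →
      (∃ w : L.X (n + 1), (L.d (n + 1) n).hom w = (φ.f n).hom z) →
      ∃ u : K.X (n + 1), (K.d (n + 1) n).hom u = z)
    (hsurj : ∀ y : L.X n, (L.d n k).hom y = 0 → ∃ x : K.X n, (K.d n k).hom x = 0 ∧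
      ∃ w : L.X (n + 1), (L.d (n + 1) n).hom w = (φ.f n).hom x - y) :
    QuasiIsoAt φ n := by
  rw [quasiIsoAt_iff_isIso_homologyMap, ConcreteCategory.isIso_iff_bijective]
  have hπK : Function.Surjective (K.homologyπ n).hom :=
    (AddCommGrpCat.epi_iff_surjective (K.homologyπ n)).1 inferInstance
  have hπL : Function.Surjective (L.homologyπ n).hom :=
    (AddCommGrpCat.epi_iff_surjective (L.homologyπ n)).1 inferInstance
  have hiK : Function.Injective (K.iCycles n).hom :=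
    (AddCommGrpCat.mono_iff_injective (K.iCycles n)).1 inferInstance
  have hiL : Function.Injective (L.iCycles n).hom :=
    (AddCommGrpCat.mono_iff_injective (L.iCycles n)).1 inferInstance
  have hcycK : ∀ z : K.X n, (K.d n k).hom z = 0 → ∃ e : K.cycles n, (K.iCycles n).hom e = z :=
    fun z hz => (ShortComplex.ab_exact_iff _).1
      (ShortComplex.exact_of_f_is_kernel
        (ShortComplex.mk (K.iCycles n) (K.d n k) (K.iCycles_d n k)) (K.cyclesIsKernel n k hk)) z hz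
  have hdK : ∀ e : K.cycles n, (K.d n k).hom ((K.iCycles n).hom e) = 0 :=
    fun e => congrArg (fun q => q.hom e) (K.iCycles_d n k)
  have hdL : ∀ e : L.cycles n, (L.d n k).hom ((L.iCycles n).hom e) = 0 :=
    fun e => congrArg (fun q => q.hom e) (L.iCycles_d n k)
  have hkerL : ∀ e : L.cycles n, (L.homologyπ n).hom e = 0 →
      ∃ w : L.X (n + 1), (L.toCycles (n + 1) n).hom w = e :=
    fun e he => (ShortComplex.ab_exact_iff _).1
      (ShortComplex.exact_of_g_is_cokernel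
        (ShortComplex.mk (L.toCycles (n + 1) n) (L.homologyπ n)
          (L.toCycles_comp_homologyπ (n + 1) n))
        (L.homologyIsCokernel (n + 1) n (ChainComplex.prev ℕ n))) e he
  have htcK : ∀ u : K.X (n + 1),
      (K.iCycles n).hom ((K.toCycles (n + 1) n).hom u) = (K.d (n + 1) n).hom u :=
    fun u => congrArg (fun q => q.hom u) (K.toCycles_i (n + 1) n)
  have htcL : ∀ w : L.X (n + 1),
      (L.iCycles n).hom ((L.toCycles (n + 1) n).hom w) = (L.d (n + 1) n).hom w :=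
    fun w => congrArg (fun q => q.hom w) (L.toCycles_i (n + 1) n)
  have hπtcK : ∀ u : K.X (n + 1), (K.homologyπ n).hom ((K.toCycles (n + 1) n).hom u) = 0 :=
    fun u => congrArg (fun q => q.hom u) (K.toCycles_comp_homologyπ (n + 1) n)
  have hπtcL : ∀ w : L.X (n + 1), (L.homologyπ n).hom ((L.toCycles (n + 1) n).hom w) = 0 :=
    fun w => congrArg (fun q => q.hom w) (L.toCycles_comp_homologyπ (n + 1) n)
  have hnat : ∀ e : K.cycles n, (homologyMap φ n).hom ((K.homologyπ n).hom e) =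
      (L.homologyπ n).hom ((cyclesMap φ n).hom e) :=
    fun e => congrArg (fun q => q.hom e) (homologyπ_naturality φ n)
  have hcm : ∀ e : K.cycles n, (L.iCycles n).hom ((cyclesMap φ n).hom e) =
      (φ.f n).hom ((K.iCycles n).hom e) :=
    fun e => congrArg (fun q => q.hom e) (cyclesMap_i φ n)
  refine ⟨(injective_iff_map_eq_zero (homologyMap φ n).hom).2 (fun a ha => ?_), fun b => ?_⟩
  · obtain ⟨e, rfl⟩ := hπK a
    rw [hnat] at ha
    obtain ⟨w, hw⟩ := hkerL _ ha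
    have h1 : (L.d (n + 1) n).hom w = (φ.f n).hom ((K.iCycles n).hom e) := by
      rw [← htcL, hw, hcm]
    obtain ⟨u, hu⟩ := hinj _ (hdK e) ⟨w, h1⟩
    have h2 : (K.toCycles (n + 1) n).hom u = e := hiK (by rw [htcK, hu])
    rw [← h2, hπtcK]
  · obtain ⟨e', rfl⟩ := hπL b
    obtain ⟨x, hx, w, hw⟩ := hsurj _ (hdL e')
    obtain ⟨e, he⟩ := hcycK x hx
    refine ⟨(K.homologyπ n).hom e, ?_⟩
    have h3 : (cyclesMap φ n).hom e = e' + (L.toCycles (n + 1) n).hom w :=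
      hiL (by rw [hcm, he, map_add, htcL, hw]; abel)
    show (homologyMap φ n).hom ((K.homologyπ n).hom e) = (L.homologyπ n).hom e'
    rw [hnat, h3, map_add, hπtcL, add_zero]

variable {f g : K ⟶ L}

theorem homotopy_apply (h : Homotopy f g) (n k : ℕ) (hk : (ComplexShape.down ℕ).next n = k)
    (z : K.X n) (hz : (K.d n k).hom z = 0) :
    (f.f n).hom z = (L.d (n + 1) n).hom ((h.hom n (n + 1)).hom z) + (g.f n).hom z := by
  subst hk
  have h1 : (f.f n).hom z = (dNext n h.hom + prevD n h.hom + g.f n).hom z :=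
    congrArg (fun q => q.hom z) (h.comm n)
  have h3 : prevD n h.hom = h.hom n (n + 1) ≫ L.d (n + 1) n := prevD_eq h.hom (by simp)
  have h4 : (dNext n h.hom + prevD n h.hom + g.f n).hom z =
      (h.hom ((ComplexShape.down ℕ).next n) n).hom
          ((K.d n ((ComplexShape.down ℕ).next n)).hom z) +
        (prevD n h.hom).hom z + (g.f n).hom z := rfl
  rw [h1, h4, hz, map_zero, zero_add, h3]
  rfl

end Bridge

section Free

/-- coefficients `ℤ` in universe `u`. -/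
abbrev R : AddCommGrpCat.{u} := AddCommGrpCat.of (ULift.{u} ℤ)

/-- the generator of `R`. -/
def r₁ : ULift.{u} ℤ := ULift.up 1

/-- the morphism `R ⟶ A` with `1 ↦ a`. -/
noncomputable def el {A : AddCommGrpCat.{u}} (a : A) : R.{u} ⟶ A :=
  AddCommGrpCat.ofHom
    { toFun := fun r => (ULift.down r : ℤ) • a
      map_zero' := zero_zsmul a
      map_add' := fun r s => add_zsmul a r.down s.down }

theorem el_apply {A : AddCommGrpCat.{u}} (a : A) : (el a).hom r₁ = a := one_zsmul a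

theorem el_comp {A B : AddCommGrpCat.{u}} (a : A) (g : A ⟶ B) : el a ≫ g = el (g.hom a) := by
  apply AddCommGrpCat.hom_ext
  apply AddMonoidHom.ext
  intro r
  exact map_zsmul g.hom r.down a

variable (X : SimplicialObject AddCommGrpCat.{u})

/-- the underlying simplicial set. -/
abbrev U : SSet.{u} := X ⋙ forget AddCommGrpCat.{u}

/-- the free chain complex on the underlying simplicial set. -/
noncomputable abbrev S : ChainComplex AddCommGrpCat.{u} ℕ := (U X).chainComplex R.{u}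

/-- basis elements of the free chain complex. -/
noncomputable def bas (n : ℕ) (x : X _⦋n⦌) : (S X).X n :=
  ((U X).ιChainComplex (R := R.{u}) x).hom r₁

/-- the counit `ℤ[X_n] ⟶ X_n`. -/
noncomputable def eps (n : ℕ) : (S X).X n ⟶ X _⦋n⦌ :=
  ((U X).isColimitChainComplexXCofan R.{u} n).desc
    (Cofan.mk (X _⦋n⦌) (fun x : (U X) _⦋n⦌ => el (A := X _⦋n⦌) x))

theorem ι_eps (n : ℕ) (x : X _⦋n⦌) :
    (U X).ιChainComplex (R := R.{u}) x ≫ eps X n = el x :=
  ((U X).isColimitChainComplexXCofan R.{u} n).fac _ ⟨x⟩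

theorem eps_bas (n : ℕ) (x : X _⦋n⦌) : (eps X n).hom (bas X n x) = x :=
  (congrArg (fun q => q.hom r₁) (ι_eps X n x)).trans (el_apply x)

theorem d_eps (n : ℕ) : (S X).d (n + 1) n ≫ eps X n = eps X (n + 1) ≫ dK X (n + 1) n := by
  apply SSet.chainComplex_hom_ext
  intro x
  have h1 : (U X).ιChainComplex (R := R.{u}) x ≫ (S X).d (n + 1) n ≫ eps X n =
      ∑ i : Fin (n + 2), (-1 : ℤ) ^ (i : ℕ) • el (A := X _⦋n⦌) ((X.δ i).hom x) := by
    rw [SSet.ιChainComplex_d_assoc, Preadditive.sum_comp]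
    refine Finset.sum_congr rfl (fun i _ => ?_)
    rw [Preadditive.zsmul_comp, ι_eps]
    rfl
  have h2 : (U X).ιChainComplex (R := R.{u}) x ≫ eps X (n + 1) ≫ dK X (n + 1) n =
      ∑ i : Fin (n + 2), (-1 : ℤ) ^ (i : ℕ) • el (A := X _⦋n⦌) ((X.δ i).hom x) := by
    rw [← Category.assoc, ι_eps,
      show dK X (n + 1) n = ∑ i : Fin (n + 2), (-1 : ℤ) ^ (i : ℕ) • X.δ i from
        AlternatingFaceMapComplex.obj_d_eq X n, Preadditive.comp_sum]
    refine Finset.sum_congr rfl (fun i _ => ?_)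
    rw [Preadditive.comp_zsmul, el_comp]
  rw [h1, h2]

theorem eps_d (n : ℕ) (v : (S X).X (n + 1)) :
    (eps X n).hom (((S X).d (n + 1) n).hom v) = (dK X (n + 1) n).hom ((eps X (n + 1)).hom v) :=
  congrArg (fun q => q.hom v) (d_eps X n)

theorem d_bas (n : ℕ) (x : X _⦋n + 1⦌) :
    ((S X).d (n + 1) n).hom (bas X (n + 1) x) =
      ∑ i : Fin (n + 2), (-1 : ℤ) ^ (i : ℕ) • bas X n ((X.δ i).hom x) := by
  have h := congrArg (evalAt (A := R.{u}) r₁) (SSet.ιChainComplex_d (U X) R.{u} x)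
  rw [map_sum] at h
  refine h.trans (Finset.sum_congr rfl (fun i _ => ?_))
  rw [map_zsmul]
  rfl

theorem hcyc_zero (z : X _⦋0⦌) : ((S X).d 0 0).hom (bas X 0 z - bas X 0 0) = 0 := by
  have h0 : (S X).d 0 0 = 0 := (S X).shape 0 0 (by simp)
  rw [h0]
  rfl

theorem hcyc_succ (m : ℕ) (z : X _⦋m + 1⦌) (hz : ∀ i : Fin (m + 2), (X.δ i).hom z = 0) :
    ((S X).d (m + 1) m).hom (bas X (m + 1) z - bas X (m + 1) 0) = 0 := by
  rw [map_sub, d_bas, d_bas, sub_eq_zero]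
  refine Finset.sum_congr rfl (fun i _ => ?_)
  rw [hz i, map_zero]

variable {X}

/-- the action of a map of underlying simplicial sets on `n`-simplices. -/
def ap {X Y : SimplicialObject AddCommGrpCat.{u}} (a : U X ⟶ U Y) (n : ℕ) (x : X _⦋n⦌) :
    Y _⦋n⦌ :=
  a.app (op ⦋n⦌) x

theorem ap_δ {X Y : SimplicialObject AddCommGrpCat.{u}} (a : U X ⟶ U Y) {n : ℕ}
    (i : Fin (n + 2)) (x : X _⦋n + 1⦌) :
    (Y.δ i).hom (ap a (n + 1) x) = ap a n ((X.δ i).hom x) :=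
  (SSet.δ_naturality_apply a i x).symm

theorem map_bas {X Y : SimplicialObject AddCommGrpCat.{u}} (a : U X ⟶ U Y) (n : ℕ)
    (x : X _⦋n⦌) :
    ((SSet.chainComplexMap a R.{u}).f n).hom (bas X n x) = bas Y n (ap a n x) :=
  congrArg (fun q => q.hom r₁) (SSet.ι_chainComplexMap_f (U X) (U Y) a R.{u} x)

theorem htpy_core {X : SimplicialObject AddCommGrpCat.{u}} (a a' : U X ⟶ U X)
    (s : Homotopy (SSet.chainComplexMap a R.{u}) (SSet.chainComplexMap a' R.{u}))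
    (n k : ℕ) (hk : (ComplexShape.down ℕ).next n = k) (z : X _⦋n⦌)
    (hcyc : ((S X).d n k).hom (bas X n z - bas X n 0) = 0) :
    ∃ u : X _⦋n + 1⦌, (dK X (n + 1) n).hom u =
      (ap a n z - ap a n 0) - (ap a' n z - ap a' n 0) := by
  have h := homotopy_apply s n k hk _ hcyc
  refine ⟨(eps X (n + 1)).hom ((s.hom n (n + 1)).hom (bas X n z - bas X n 0)), ?_⟩
  have e1 : (eps X n).hom (((SSet.chainComplexMap a R.{u}).f n).hom (bas X n z - bas X n 0)) =
      ap a n z - ap a n 0 := by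
    rw [map_sub, map_bas, map_bas, map_sub, eps_bas, eps_bas]
  have e2 : (eps X n).hom (((SSet.chainComplexMap a' R.{u}).f n).hom (bas X n z - bas X n 0)) =
      ap a' n z - ap a' n 0 := by
    rw [map_sub, map_bas, map_bas, map_sub, eps_bas, eps_bas]
  rw [← eps_d, ← e1, ← e2, h, map_add]
  abel

theorem exists_chain_htpy {X : SimplicialObject AddCommGrpCat.{u}} (a : U X ⟶ U X)
    (H : Nonempty (SSet.Homotopy a (𝟙 _)) ∨ Nonempty (SSet.Homotopy (𝟙 _) a)) :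
    Nonempty (Homotopy (SSet.chainComplexMap a R.{u}) (SSet.chainComplexMap (𝟙 (U X)) R.{u})) := by
  rcases H with ⟨⟨h⟩⟩ | ⟨⟨h⟩⟩
  · exact ⟨h.chainComplexMap R.{u}⟩
  · exact ⟨(h.chainComplexMap R.{u}).symm⟩

theorem fact1 {X : SimplicialObject AddCommGrpCat.{u}} (a : U X ⟶ U X)
    (H : Nonempty (SSet.Homotopy a (𝟙 _)) ∨ Nonempty (SSet.Homotopy (𝟙 _) a))
    (n k : ℕ) (hk : (ComplexShape.down ℕ).next n = k) (z : X _⦋n⦌)
    (hcyc : ((S X).d n k).hom (bas X n z - bas X n 0) = 0) :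
    ∃ u : X _⦋n + 1⦌, (dK X (n + 1) n).hom u = (ap a n z - ap a n 0) - z := by
  obtain ⟨s⟩ := exists_chain_htpy a H
  obtain ⟨u, hu⟩ := htpy_core a (𝟙 (U X)) s n k hk z hcyc
  refine ⟨u, hu.trans ?_⟩
  show (ap a n z - ap a n 0) - (z - 0) = (ap a n z - ap a n 0) - z
  rw [sub_zero]

theorem fact2 {X T : SimplicialObject AddCommGrpCat.{u}} (g : U X ⟶ U T) (n : ℕ)
    (w : X _⦋n + 1⦌) (hw : ∀ j : Fin (n + 1), (X.δ j.succ).hom w = 0) :
    (dK T (n + 1) n).hom (ap g (n + 1) w - ap g (n + 1) 0) =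
      ap g n ((X.δ 0).hom w) - ap g n 0 := by
  rw [dK_eq_δ_zero T n _ (fun j => by
    rw [map_sub, ap_δ, ap_δ, hw j, map_zero, sub_self])]
  rw [map_sub, ap_δ, ap_δ, map_zero]

end Free

section Norm

variable (X : SimplicialObject AddCommGrpCat.{u})

theorem PI_comm_d (n : ℕ) (v : X _⦋n + 1⦌) :
    (dK X (n + 1) n).hom ((PI X (n + 1)).hom v) = (PI X n).hom ((dK X (n + 1) n).hom v) :=
  congrArg (fun q => q.hom v)
    ((PInfty : AlternatingFaceMapComplex.obj X ⟶ AlternatingFaceMapComplex.obj X).comm (n + 1) n)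

theorem PI_nat {X Y : SimplicialObject AddCommGrpCat.{u}} (f : X ⟶ Y) (n : ℕ) (v : X _⦋n⦌) :
    (f.app (op ⦋n⦌)).hom ((PI X n).hom v) = (PI Y n).hom ((f.app (op ⦋n⦌)).hom v) :=
  (congrArg (fun q => q.hom v) (PInfty_f_naturality n f)).symm

theorem PI_sub_self_bound (n k : ℕ) (hk : (ComplexShape.down ℕ).next n = k) (z₀ : X _⦋n⦌)
    (hz : (dK X n k).hom z₀ = 0) :
    ∃ u : X _⦋n + 1⦌, (dK X (n + 1) n).hom u = (PI X n).hom z₀ - z₀ := by
  have h := homotopy_apply (homotopyPInftyToId X) n k hk z₀ hz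
  refine ⟨((homotopyPInftyToId X).hom n (n + 1)).hom z₀, ?_⟩
  have h' : (PI X n).hom z₀ =
      (dK X (n + 1) n).hom (((homotopyPInftyToId X).hom n (n + 1)).hom z₀) + z₀ := h
  rw [h', add_sub_cancel_right]

theorem PI_faces (m : ℕ) (z₀ : X _⦋m + 1⦌) (hz : (dK X (m + 1) m).hom z₀ = 0)
    (i : Fin (m + 2)) : (X.δ i).hom ((PI X (m + 1)).hom z₀) = 0 := by
  obtain rfl | ⟨j, rfl⟩ := i.eq_zero_or_eq_succ
  · show (X.δ 0).hom ((PI X (m + 1)).hom z₀) = 0
    rw [← dK_eq_δ_zero X m _ (fun j => δ_succ_PI X m j z₀), PI_comm_d, hz, map_zero]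
  · exact δ_succ_PI X m j z₀

theorem cycle_of_faces (m : ℕ) (x : X _⦋m + 1⦌) (hx : ∀ i : Fin (m + 2), (X.δ i).hom x = 0) :
    (dK X (m + 1) m).hom x = 0 := by
  show evalAt x (dK X (m + 1) m) = 0
  rw [show dK X (m + 1) m = ∑ i : Fin (m + 2), (-1 : ℤ) ^ (i : ℕ) • X.δ i from
    AlternatingFaceMapComplex.obj_d_eq X m, map_sum]
  refine Finset.sum_eq_zero (fun j _ => ?_)
  rw [map_zsmul]
  show _ • (X.δ j).hom x = 0
  rw [hx j, smul_zero]

end Norm

section Final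

variable {X Y : SimplicialObject AddCommGrpCat.{u}} (f : X ⟶ Y) (g : U Y ⟶ U X)

/-- the underlying map of simplicial sets. -/
abbrev fU : U X ⟶ U Y := Functor.whiskerRight f (forget AddCommGrpCat.{u})

theorem inj_core
    (hX : Nonempty (SSet.Homotopy (fU f ≫ g) (𝟙 _)) ∨ Nonempty (SSet.Homotopy (𝟙 _) (fU f ≫ g)))
    (n k : ℕ) (hk : (ComplexShape.down ℕ).next n = k) (z : X _⦋n⦌)
    (hcyc : ((S X).d n k).hom (bas X n z - bas X n 0) = 0)
    (hPz : (PI X n).hom z = z)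
    (w₀ : Y _⦋n + 1⦌) (hw₀ : (dK Y (n + 1) n).hom w₀ = (f.app (op ⦋n⦌)).hom z) :
    ∃ u : X _⦋n + 1⦌, (dK X (n + 1) n).hom u = z := by
  obtain ⟨w, hw⟩ : ∃ w : Y _⦋n + 1⦌, w = (PI Y (n + 1)).hom w₀ := ⟨_, rfl⟩
  have hwf : ∀ j : Fin (n + 1), (Y.δ j.succ).hom w = 0 := fun j => by
    rw [hw]
    exact δ_succ_PI Y n j w₀
  have hw0 : (Y.δ 0).hom w = (f.app (op ⦋n⦌)).hom z := by
    rw [← dK_eq_δ_zero Y n w hwf, hw, PI_comm_d, hw₀, ← PI_nat, hPz]
  have h2 := fact2 g n w hwf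
  rw [hw0] at h2
  obtain ⟨u₂, hu₂⟩ := fact1 (fU f ≫ g) hX n k hk z hcyc
  have e1 : ap (fU f ≫ g) n z = ap g n ((f.app (op ⦋n⦌)).hom z) := rfl
  have e2 : ap (fU f ≫ g) n 0 = ap g n 0 := by
    show ap g n ((f.app (op ⦋n⦌)).hom 0) = ap g n 0
    rw [map_zero]
  rw [e1, e2] at hu₂
  refine ⟨(ap g (n + 1) w - ap g (n + 1) 0) - u₂, ?_⟩
  rw [map_sub, h2, hu₂]
  abel

theorem surj_core
    (hY : Nonempty (SSet.Homotopy (g ≫ fU f) (𝟙 _)) ∨ Nonempty (SSet.Homotopy (𝟙 _) (g ≫ fU f)))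
    (n k : ℕ) (hk : (ComplexShape.down ℕ).next n = k) (y : Y _⦋n⦌)
    (hcyc : ((S Y).d n k).hom (bas Y n y - bas Y n 0) = 0) :
    ∃ w : Y _⦋n + 1⦌, (dK Y (n + 1) n).hom w =
      (f.app (op ⦋n⦌)).hom (ap g n y - ap g n 0) - y := by
  obtain ⟨u, hu⟩ := fact1 (g ≫ fU f) hY n k hk y hcyc
  refine ⟨u, hu.trans ?_⟩
  show ((f.app (op ⦋n⦌)).hom (ap g n y) - (f.app (op ⦋n⦌)).hom (ap g n 0)) - y = _
  rw [map_sub]

theorem quasiIso_of_htpyEquiv
    (hX : Nonempty (SSet.Homotopy (fU f ≫ g) (𝟙 _)) ∨ Nonempty (SSet.Homotopy (𝟙 _) (fU f ≫ g)))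
    (hY : Nonempty (SSet.Homotopy (g ≫ fU f) (𝟙 _)) ∨ Nonempty (SSet.Homotopy (𝟙 _) (g ≫ fU f))) :
    QuasiIso ((alternatingFaceMapComplex AddCommGrpCat.{u}).map f) := by
  refine ⟨fun n => ?_⟩
  obtain _ | m := n
  · have hinj : ∀ z : X _⦋0⦌, (dK X 0 0).hom z = 0 →
        (∃ w : Y _⦋1⦌, (dK Y 1 0).hom w = (f.app (op ⦋0⦌)).hom z) →
        ∃ u : X _⦋1⦌, (dK X 1 0).hom u = z := by
      rintro z - ⟨w₀, hw₀⟩
      have hP : (PI X 0).hom z = z := by
        have h0 : PI X 0 = 𝟙 _ := PInfty_f_0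
        rw [h0]
        rfl
      exact inj_core f g hX 0 0 (by simp) z (hcyc_zero X z) hP w₀ hw₀
    have hsurj : ∀ y : Y _⦋0⦌, (dK Y 0 0).hom y = 0 → ∃ x : X _⦋0⦌, (dK X 0 0).hom x = 0 ∧
        ∃ w : Y _⦋1⦌, (dK Y 1 0).hom w = (f.app (op ⦋0⦌)).hom x - y := by
      intro y _
      refine ⟨ap g 0 y - ap g 0 0, ?_, surj_core f g hY 0 0 (by simp) y (hcyc_zero Y y)⟩
      have h0 : dK X 0 0 = 0 := (AlternatingFaceMapComplex.obj X).shape 0 0 (by simp)
      rw [h0]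
      rfl
    exact quasiIsoAt_of_elementwise _ 0 0 (by simp) hinj hsurj
  · have hinj : ∀ z₀ : X _⦋m + 1⦌, (dK X (m + 1) m).hom z₀ = 0 →
        (∃ w : Y _⦋m + 2⦌, (dK Y (m + 2) (m + 1)).hom w = (f.app (op ⦋m + 1⦌)).hom z₀) →
        ∃ u : X _⦋m + 2⦌, (dK X (m + 2) (m + 1)).hom u = z₀ := by
      rintro z₀ hz₀ ⟨w₀, hw₀⟩
      have hfaces := PI_faces X m z₀ hz₀
      have hP : (PI X (m + 1)).hom ((PI X (m + 1)).hom z₀) = (PI X (m + 1)).hom z₀ :=
        PI_eq_self X m _ (fun j => hfaces j.succ)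
      have hw₀' : (dK Y (m + 2) (m + 1)).hom ((PI Y (m + 2)).hom w₀) =
          (f.app (op ⦋m + 1⦌)).hom ((PI X (m + 1)).hom z₀) := by
        rw [PI_comm_d, hw₀, PI_nat]
      obtain ⟨u, hu⟩ := inj_core f g hX (m + 1) m (by simp) _
        (hcyc_succ X m _ hfaces) hP _ hw₀'
      obtain ⟨u₃, hu₃⟩ := PI_sub_self_bound X (m + 1) m (by simp) z₀ hz₀
      refine ⟨u - u₃, ?_⟩
      rw [map_sub, hu, hu₃]
      abel
    have hsurj : ∀ y₀ : Y _⦋m + 1⦌, (dK Y (m + 1) m).hom y₀ = 0 →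
        ∃ x : X _⦋m + 1⦌, (dK X (m + 1) m).hom x = 0 ∧
        ∃ w : Y _⦋m + 2⦌, (dK Y (m + 2) (m + 1)).hom w = (f.app (op ⦋m + 1⦌)).hom x - y₀ := by
      intro y₀ hy₀
      have hfaces := PI_faces Y m y₀ hy₀
      obtain ⟨y, hy⟩ : ∃ y : Y _⦋m + 1⦌, y = (PI Y (m + 1)).hom y₀ := ⟨_, rfl⟩
      rw [← hy] at hfaces
      obtain ⟨w, hw⟩ := surj_core f g hY (m + 1) m (by simp) y (hcyc_succ Y m y hfaces)
      obtain ⟨u₃, hu₃⟩ := PI_sub_self_bound Y (m + 1) m (by simp) y₀ hy₀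
      rw [← hy] at hu₃
      refine ⟨ap g (m + 1) y - ap g (m + 1) 0, ?_, w + u₃, ?_⟩
      · apply cycle_of_faces
        intro i
        rw [map_sub, ap_δ, ap_δ, hfaces i, map_zero, sub_self]
      · rw [map_add, hw, hu₃]
        abel
    exact quasiIsoAt_of_elementwise _ (m + 1) m (by simp) hinj hsurj

end Final

end Groth.Agent.Lib.Helper6.HtpyQis
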