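import Mathlib
import Groth.Agent.Lib.Helper6.LimSp21
import Groth.Agent.Lib.Helper6.LimSp18
import Groth.Agent.Lib.Helper6.LimSp10
import Groth.Agent.Lib.Helper16.SchImg
import Groth.Agent.Lib.Helper16.SchImg2
import Groth.Agent.Lib.Helper16.MonoDescent
import Groth.Agent.Lib.Helper17.AlgSpProper
import Groth.Agent.S9932

/-!
# Helper library (helper6): minimal closed subspaces which are not schemes (`main10049`)

* `subOv`, `subι`, `subMap`, `subFunctor`, `subCone`, `subCone_isLimit`: for a nonempty chain `C` of ideal sheaves on a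
  scheme `V` over `S`, the closed subscheme of `sSup C` is the limit of the closed subschemes of the members of `C`;
* `exists_canonical_chart`, `exists_hom_of_le`, `le_of_hom`: closed subspaces of an algebraic space and the ideal sheaves
  they induce on a chart;
* `chainFunctor`, `chainCone`, `not_representable_of_chain`, `chain_step`: the intersection of a chain of closed
  subspaces that are not schemes is not a scheme (via `main10007`);
* `main10049`: Zorn's lemma.
-/

set_option autoImplicit false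
universe u
open CategoryTheory CategoryTheory.Limits AlgebraicGeometry Opposite
open AlgSp Groth.Agent.Lib.Helper16

namespace Groth.Agent.Lib.Helper6.LimSp

section Sub

variable {S : Scheme.{u}} (V : Over S)

/-- The closed subscheme of `V` cut out by `K`, as a scheme over `S`. -/
noncomputable abbrev subOv (K : V.left.IdealSheafData) : Over S := Over.mk (K.subschemeι ≫ V.hom)

noncomputable abbrev subι (K : V.left.IdealSheafData) : subOv V K ⟶ V := Over.homMk K.subschemeι rfl

instance (K : V.left.IdealSheafData) : IsClosedImmersion (subι V K).left :=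
  inferInstanceAs (IsClosedImmersion K.subschemeι)

theorem mono_subι (K : V.left.IdealSheafData) : Mono (subι V K) :=
  (Over.forget S).mono_of_mono_map (inferInstanceAs (Mono K.subschemeι))

theorem subOv_hom_ext {T : Over S} {K : V.left.IdealSheafData} (f g : T ⟶ subOv V K)
    (h : f.left ≫ K.subschemeι = g.left ≫ K.subschemeι) : f = g :=
  Over.OverMorphism.ext ((cancel_mono K.subschemeι).1 h)

noncomputable def subMap {K K' : V.left.IdealSheafData} (h : K ≤ K') : subOv V K' ⟶ subOv V K :=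
  Over.homMk (Scheme.IdealSheafData.inclusion h) (by
    show Scheme.IdealSheafData.inclusion h ≫ K.subschemeι ≫ V.hom = K'.subschemeι ≫ V.hom
    rw [← Category.assoc, Scheme.IdealSheafData.inclusion_subschemeι])

theorem subMap_left_ι {K K' : V.left.IdealSheafData} (h : K ≤ K') :
    (subMap V h).left ≫ K.subschemeι = K'.subschemeι :=
  Scheme.IdealSheafData.inclusion_subschemeι h

theorem subMap_ι {K K' : V.left.IdealSheafData} (h : K ≤ K') : subMap V h ≫ subι V K = subι V K' := by
  ext1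
  exact Scheme.IdealSheafData.inclusion_subschemeι h

variable (C : Set V.left.IdealSheafData)

/-- The system of closed subschemes attached to a set of ideal sheaves. -/
noncomputable abbrev subFunctor : (↥C)ᵒᵖ ⥤ Over S where
  obj k := subOv V k.unop.1
  map {k k'} φ := subMap V (show k'.unop.1 ≤ k.unop.1 from leOfHom φ.unop)
  map_id k := subOv_hom_ext V _ _ ((subMap_left_ι V _).trans (Category.id_comp _).symm)
  map_comp φ ψ := subOv_hom_ext V _ _ ((subMap_left_ι V _).trans (by
    rw [Over.comp_left, Category.assoc, subMap_left_ι, subMap_left_ι]))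

noncomputable abbrev subCone : Cone (subFunctor V C) where
  pt := subOv V (sSup C)
  π :=
    { app := fun k => subMap V (show k.unop.1 ≤ sSup C from le_sSup k.unop.2)
      naturality := fun k k' φ => subOv_hom_ext V _ _ (by
        show (𝟙 _ ≫ subMap V _).left ≫ _ = (subMap V _ ≫ subMap V _).left ≫ _
        rw [Category.id_comp, Over.comp_left, Category.assoc, subMap_left_ι, subMap_left_ι, subMap_left_ι]) }

theorem subCone_isLimit (hne : C.Nonempty) (hch : IsChain (· ≤ ·) C) : Nonempty (IsLimit (subCone V C)) := by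
  obtain ⟨K₀, hK₀⟩ := hne
  have key : ∀ s : Cone (subFunctor V C), ∃ l : s.pt ⟶ subOv V (sSup C),
      ∀ k : ↥C, l.left ≫ (sSup C).subschemeι = (coneπ s (op k)).left ≫ k.1.subschemeι := by
    intro s
    have hf : ∀ k : ↥C, (coneπ s (op k)).left ≫ k.1.subschemeι =
        (coneπ s (op ⟨K₀, hK₀⟩)).left ≫ K₀.subschemeι := by
      intro k
      rcases hch.total k.2 hK₀ with h | h
      · have hw := coneπ_w s (show (op (⟨K₀, hK₀⟩ : ↥C)) ⟶ op k from
          (homOfLE (show k ≤ ⟨K₀, hK₀⟩ from h)).op)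
        rw [← hw, Over.comp_left, Category.assoc]
        exact congrArg (fun z => (coneπ s (op ⟨K₀, hK₀⟩)).left ≫ z) (subMap_left_ι V _)
      · have hw := coneπ_w s (show (op k) ⟶ op (⟨K₀, hK₀⟩ : ↥C) from
          (homOfLE (show (⟨K₀, hK₀⟩ : ↥C) ≤ k from h)).op)
        rw [← hw, Over.comp_left, Category.assoc]
        exact (congrArg (fun z => (coneπ s (op k)).left ≫ z) (subMap_left_ι V _)).symm
    have hle : sSup C ≤ ((coneπ s (op ⟨K₀, hK₀⟩)).left ≫ K₀.subschemeι).ker := by
      refine sSup_le fun K hK => ?_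
      have h1 : K ≤ ((coneπ s (op ⟨K, hK⟩)).left ≫ K.subschemeι).ker :=
        K.ker_subschemeι.symm.le.trans (Scheme.Hom.le_ker_comp _ _)
      have h2 : (coneπ s (op ⟨K, hK⟩)).left ≫ K.subschemeι =
          (coneπ s (op ⟨K₀, hK₀⟩)).left ≫ K₀.subschemeι := hf ⟨K, hK⟩
      rw [← h2]
      exact h1
    let l₀ : s.pt.left ⟶ (sSup C).subscheme :=
      IsClosedImmersion.lift (sSup C).subschemeι ((coneπ s (op ⟨K₀, hK₀⟩)).left ≫ K₀.subschemeι)
        (by rw [Scheme.IdealSheafData.ker_subschemeι]; exact hle)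
    have hl₀ : l₀ ≫ (sSup C).subschemeι = (coneπ s (op ⟨K₀, hK₀⟩)).left ≫ K₀.subschemeι :=
      IsClosedImmersion.lift_fac _ _ _
    refine ⟨Over.homMk l₀ ?_, fun k => hl₀.trans (hf k).symm⟩
    show l₀ ≫ (sSup C).subschemeι ≫ V.hom = s.pt.hom
    rw [← Category.assoc, hl₀, Category.assoc]
    exact Over.w (coneπ s (op ⟨K₀, hK₀⟩))
  choose lift hlift using key
  refine ⟨{ lift := lift, fac := fun s k => ?_, uniq := fun s m hm => ?_ }⟩
  · refine subOv_hom_ext V _ _ ?_
    show (lift s ≫ subMap V _).left ≫ _ = (coneπ s k).left ≫ _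
    rw [Over.comp_left, Category.assoc, subMap_left_ι]
    exact hlift s k.unop
  · refine subOv_hom_ext V _ _ ?_
    have h1 : m ≫ subMap V (show K₀ ≤ sSup C from le_sSup hK₀) = coneπ s (op ⟨K₀, hK₀⟩) :=
      hm (op ⟨K₀, hK₀⟩)
    rw [hlift s ⟨K₀, hK₀⟩, ← h1, Over.comp_left, Category.assoc, subMap_left_ι]

end Sub

section ChainSys

variable {𝒞 : Type*} [Category 𝒞] {J : Type*} [Preorder J] {X : 𝒞} (Zc : J → 𝒞) (ic : ∀ k, Zc k ⟶ X)
  (hmono : ∀ k, Mono (ic k)) (rmap : ∀ k k' : J, k ≤ k' → (Zc k' ⟶ Zc k))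
  (hr : ∀ (k k' : J) (h : k ≤ k'), rmap k k' h ≫ ic k = ic k')

/-- A system of subobjects indexed by the opposite of a preorder. -/
abbrev chainFunctor : Jᵒᵖ ⥤ 𝒞 where
  obj k := Zc k.unop
  map {k k'} φ := rmap k'.unop k.unop (leOfHom φ.unop)
  map_id k := by
    have := hmono k.unop
    exact (cancel_mono (ic k.unop)).1 ((hr _ _ _).trans (Category.id_comp _).symm)
  map_comp {k k' k''} φ ψ := by
    have := hmono k''.unop
    exact (cancel_mono (ic k''.unop)).1 ((hr _ _ _).trans (by rw [Category.assoc, hr, hr]))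

abbrev chainCone {Zi : 𝒞} (ii : Zi ⟶ X) (πc : ∀ k, Zi ⟶ Zc k) (hπc : ∀ k, πc k ≫ ic k = ii) :
    Cone (chainFunctor Zc ic hmono rmap hr) where
  pt := Zi
  π :=
    { app := fun k => πc k.unop
      naturality := fun k k' φ => by
        have := hmono k'.unop
        exact (cancel_mono (ic k'.unop)).1 (by
          show (𝟙 Zi ≫ πc k'.unop) ≫ ic k'.unop = (πc k.unop ≫ rmap k'.unop k.unop _) ≫ ic k'.unop
          rw [Category.id_comp, Category.assoc, hr, hπc, hπc]) }

/-- A cone from a family of compatible legs. -/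
abbrev coneOfLegs {J' : Type*} [Category J'] (F : J' ⥤ 𝒞) (P : 𝒞) (a : ∀ j, P ⟶ F.obj j)
    (h : ∀ {j j' : J'} (φ : j ⟶ j'), a j ≫ F.map φ = a j') : Cone F where
  pt := P
  π := { app := a, naturality := fun _ _ φ => (Category.id_comp _).trans (h φ).symm }

end ChainSys

section Closed

variable {S : Scheme.{u}}

/-- A closed subspace has a chart of the canonical form. -/
theorem exists_canonical_chart {X Z : Sp S} {V : Over S} (p : (yon S).obj V ⟶ X) (i : Z ⟶ X)
    (hi : RepWith @IsClosedImmersion i) :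
    ∃ (K : V.left.IdealSheafData) (q : (yon S).obj (subOv V K) ⟶ Z),
      IsPullback q ((yon S).map (subι V K)) i p := by
  obtain ⟨W, j, fst', sqW⟩ := hi.rep p
  have hj : IsClosedImmersion j.left := hi.property _ _ _ sqW
  obtain ⟨K, hK⟩ : ∃ K : V.left.IdealSheafData, K = j.left.ker := ⟨_, rfl⟩
  let m₀ : K.subscheme ⟶ W.left := IsClosedImmersion.lift j.left K.subschemeι
    (by rw [Scheme.IdealSheafData.ker_subschemeι, hK])
  have hm₀ : m₀ ≫ j.left = K.subschemeι := IsClosedImmersion.lift_fac _ _ _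
  let n₀ : W.left ⟶ K.subscheme := IsClosedImmersion.lift K.subschemeι j.left
    (by rw [Scheme.IdealSheafData.ker_subschemeι, hK])
  have hn₀ : n₀ ≫ K.subschemeι = j.left := IsClosedImmersion.lift_fac _ _ _
  let m : subOv V K ⟶ W := Over.homMk m₀ (by
    show m₀ ≫ W.hom = K.subschemeι ≫ V.hom
    rw [← Over.w j, ← Category.assoc, hm₀])
  let n : W ⟶ subOv V K := Over.homMk n₀ (by
    show n₀ ≫ K.subschemeι ≫ V.hom = W.hom
    rw [← Category.assoc, hn₀, Over.w j])
  have hnj : n ≫ subι V K = j := by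
    ext1
    exact hn₀
  have hmn : m ≫ n = 𝟙 _ := subOv_hom_ext V _ _ (by
    show (m₀ ≫ n₀) ≫ K.subschemeι = 𝟙 _ ≫ K.subschemeι
    rw [Category.assoc, hn₀, hm₀, Category.id_comp])
  have hnm : n ≫ m = 𝟙 _ := by
    ext1
    have : Mono j.left := inferInstance
    refine (cancel_mono j.left).1 ?_
    show (n₀ ≫ m₀) ≫ j.left = 𝟙 _ ≫ j.left
    rw [Category.assoc, hm₀, hn₀, Category.id_comp]
  refine ⟨K, (yon S).map m ≫ fst', ?_⟩
  refine IsPullback.of_iso sqW ((yon S).mapIso ⟨n, m, hnm, hmn⟩) (Iso.refl _) (Iso.refl _) (Iso.refl _) ?_ ?_ ?_ ?_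
  · show fst' ≫ 𝟙 _ = (yon S).map n ≫ (yon S).map m ≫ fst'
    rw [Category.comp_id, ← Category.assoc, ← Functor.map_comp, hnm, CategoryTheory.Functor.map_id,
      Category.id_comp]
  · show (yon S).map j ≫ 𝟙 _ = (yon S).map n ≫ (yon S).map (subι V K)
    rw [Category.comp_id, ← Functor.map_comp, hnj]
  · exact (Category.comp_id _).trans (Category.id_comp _).symm
  · exact (Category.comp_id _).trans (Category.id_comp _).symm

/-- A larger ideal gives a smaller closed subspace. -/
theorem exists_hom_of_le {X Z Z' : Sp S} {V : Over S} (p : (yon S).obj V ⟶ X) (hpe : RepWith @Etale p)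
    (hps : RepWith @Surjective p) {K K' : V.left.IdealSheafData} (hKK' : K ≤ K')
    (i : Z ⟶ X) (hmono : Mono i) (q : (yon S).obj (subOv V K) ⟶ Z)
    (sq : IsPullback q ((yon S).map (subι V K)) i p)
    (i' : Z' ⟶ X) (q' : (yon S).obj (subOv V K') ⟶ Z')
    (sq' : IsPullback q' ((yon S).map (subι V K')) i' p) :
    ∃ r : Z' ⟶ Z, r ≫ i = i' := by
  have hq'e : RepWith @Etale q' :=
    MorphismProperty.of_isPullback (P := RepWith (S := S) @Etale) sq'.flip hpe
  have hq's : RepWith @Surjective q' :=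
    MorphismProperty.of_isPullback (P := RepWith (S := S) @Surjective) sq'.flip hps
  have hepi : Epi q' := epi_of_etale_surjective _ hq'e hq's
  refine SchImg.exists_lift_of_epi_mono q' i i' ((yon S).map (subMap V hKK') ≫ q) ?_
  rw [sq'.w, Category.assoc, sq.w, ← Category.assoc, ← Functor.map_comp, subMap_ι]

/-- A morphism of closed subspaces gives an inclusion of ideals. -/
theorem le_of_hom {X Z Z' : Sp S} {V : Over S} (p : (yon S).obj V ⟶ X) {K K' : V.left.IdealSheafData}
    (i : Z ⟶ X) (q : (yon S).obj (subOv V K) ⟶ Z) (sq : IsPullback q ((yon S).map (subι V K)) i p)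
    (i' : Z' ⟶ X) (q' : (yon S).obj (subOv V K') ⟶ Z')
    (sq' : IsPullback q' ((yon S).map (subι V K')) i' p) (r : Z' ⟶ Z) (hr : r ≫ i = i') : K ≤ K' := by
  obtain ⟨l, hl⟩ := (yon S).map_surjective
    (sq.lift (q' ≫ r) ((yon S).map (subι V K')) (by rw [Category.assoc, hr, sq'.w]))
  have hl2 : l ≫ subι V K = subι V K' := by
    apply (yon S).map_injective
    rw [Functor.map_comp, hl, sq.lift_snd]
  have hl3 : l.left ≫ K.subschemeι = K'.subschemeι := congrArg CommaMorphism.left hl2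
  calc K = K.subschemeι.ker := K.ker_subschemeι.symm
    _ ≤ (l.left ≫ K.subschemeι).ker := Scheme.Hom.le_ker_comp _ _
    _ = K' := by rw [hl3, Scheme.IdealSheafData.ker_subschemeι]

/-- The intersection of a chain of closed subspaces which are not schemes is not a scheme. -/
theorem not_representable_of_chain [QuasiSeparatedSpace S] {X : Sp S} (hX : IsAlgSpace X)
    (hXqc : IsQuasiCompactSp X) (hXqs : IsQuasiSeparatedSp X) {V : Over S} (p : (yon S).obj V ⟶ X)
    (hpe : RepWith @Etale p) (hps : RepWith @Surjective p)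
    (C : Set V.left.IdealSheafData) (hne : C.Nonempty) (hch : IsChain (· ≤ ·) C)
    (Zc : ↥C → Sp S) (ic : ∀ k, Zc k ⟶ X) (qc : ∀ k : ↥C, (yon S).obj (subOv V k.1) ⟶ Zc k)
    (hZ : ∀ k, IsAlgSpace (Zc k)) (hi : ∀ k, RepWith @IsClosedImmersion (ic k))
    (sq : ∀ k : ↥C, IsPullback (qc k) ((yon S).map (subι V k.1)) (ic k) p)
    (hnr : ∀ k, ¬ (Zc k).obj.IsRepresentable)
    {Zi : Sp S} (ii : Zi ⟶ X) (qi : (yon S).obj (subOv V (sSup C)) ⟶ Zi)
    (hii : RepWith @IsClosedImmersion ii)
    (sqi : IsPullback qi ((yon S).map (subι V (sSup C))) ii p) : ¬ Zi.obj.IsRepresentable := by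
  intro hrep
  obtain ⟨hE⟩ := subCone_isLimit V C hne hch
  have hcE : IsLimit ((yon S).mapCone (subCone V C)) := isLimitOfPreserves (yon S) hE
  have hne' : Nonempty ↥C := hne.to_subtype
  have hdir : IsDirectedOrder ↥C :=
    ⟨fun a b => (hch.total a.2 b.2).elim (fun h => ⟨b, h, le_rfl⟩) (fun h => ⟨a, le_rfl, h⟩)⟩
  obtain ⟨K₀, hK₀⟩ := hne
  obtain ⟨k₀, -⟩ : ∃ k₀ : ↥C, k₀ = ⟨K₀, hK₀⟩ := ⟨_, rfl⟩
  have hmono : ∀ k : ↥C, Mono (ic k) := fun k => SchImg.mono_of_repWith_isClosedImmersion _ (hi k)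
  have himono : Mono ii := SchImg.mono_of_repWith_isClosedImmersion _ hii
  have hB : ∀ (k k' : ↥C) (_ : k ≤ k'), ∃ r : Zc k' ⟶ Zc k, r ≫ ic k = ic k' :=
    fun k k' h => exists_hom_of_le p hpe hps (show k.1 ≤ k'.1 from h) (ic k) (hmono k) (qc k) (sq k)
      (ic k') (qc k') (sq k')
  choose rmap hr using hB
  have hπ : ∀ k : ↥C, ∃ r : Zi ⟶ Zc k, r ≫ ic k = ii := fun k =>
    exists_hom_of_le p hpe hps (show k.1 ≤ sSup C from le_sSup k.2) (ic k) (hmono k) (qc k) (sq k) ii qi sqi
  choose πc hπc using hπ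
  -- all legs of a cone agree in `X`
  have hs : ∀ (s : Cone (chainFunctor Zc ic hmono rmap hr)) (k : ↥C),
      coneπ s (op k) ≫ ic k = coneπ s (op k₀) ≫ ic k₀ := by
    intro s k
    rcases hch.total k.2 k₀.2 with h | h
    · have hw := coneπ_w s (show (op k₀) ⟶ op k from (homOfLE (show k ≤ k₀ from h)).op)
      rw [← hw, Category.assoc]
      exact congrArg (fun z => coneπ s (op k₀) ≫ z) (hr k k₀ _)
    · have hw := coneπ_w s (show (op k) ⟶ op k₀ from (homOfLE (show k₀ ≤ k from h)).op)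
      rw [← hw, Category.assoc]
      exact (congrArg (fun z => coneπ s (op k) ≫ z) (hr k₀ k _)).symm
  have hmonoι : ∀ K : V.left.IdealSheafData, Mono ((yon S).map (subι V K)) := fun K => by
    have := mono_subι V K
    infer_instance
  have key : ∀ s : Cone (chainFunctor Zc ic hmono rmap hr),
      ∃ l : s.pt ⟶ Zi, l ≫ ii = coneπ s (op k₀) ≫ ic k₀ := by
    intro s
    obtain ⟨fT, hfT⟩ : ∃ fT : s.pt ⟶ X, fT = coneπ s (op k₀) ≫ ic k₀ := ⟨_, rfl⟩
    have hs' : ∀ k : ↥C, coneπ s (op k) ≫ ic k = fT := fun k => (hs s k).trans hfT.symm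
    have he1 : RepWith @Etale (pullback.fst fT p) :=
      MorphismProperty.of_isPullback (P := RepWith (S := S) @Etale) (IsPullback.of_hasPullback fT p).flip hpe
    have he2 : RepWith @Surjective (pullback.fst fT p) :=
      MorphismProperty.of_isPullback (P := RepWith (S := S) @Surjective)
        (IsPullback.of_hasPullback fT p).flip hps
    have hepi : Epi (pullback.fst fT p) := epi_of_etale_surjective _ he1 he2
    have ha : ∀ k : ↥C, ∃ a : pullback fT p ⟶ (yon S).obj (subOv V k.1),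
        a ≫ (yon S).map (subι V k.1) = pullback.snd fT p := fun k =>
      ⟨(sq k).lift (pullback.fst fT p ≫ coneπ s (op k)) (pullback.snd fT p)
        (by rw [Category.assoc, hs' k, pullback.condition]), (sq k).lift_snd _ _ _⟩
    choose a ha using ha
    have hnat : ∀ {k k' : (↥C)ᵒᵖ} (φ : k ⟶ k'),
        a k.unop ≫ (subFunctor V C ⋙ yon S).map φ = a k'.unop := by
      intro k k' φ
      have := hmonoι k'.unop.1
      refine (cancel_mono ((yon S).map (subι V k'.unop.1))).1 ?_
      show (a k.unop ≫ (yon S).map (subMap V _)) ≫ (yon S).map (subι V k'.unop.1) = _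
      rw [Category.assoc, ← Functor.map_comp, subMap_ι, ha, ha]
    obtain ⟨l₀, hl₀def⟩ : ∃ l₀, l₀ = hcE.lift (coneOfLegs (subFunctor V C ⋙ yon S) (pullback fT p)
      (fun k => a k.unop) hnat) := ⟨_, rfl⟩
    have hfac : l₀ ≫ (yon S).map (subMap V (show k₀.1 ≤ sSup C from le_sSup k₀.2)) = a k₀ := by
      rw [hl₀def]
      exact hcE.fac (coneOfLegs (subFunctor V C ⋙ yon S) (pullback fT p) (fun k => a k.unop) hnat) (op k₀)
    have hl₀ : l₀ ≫ (yon S).map (subι V (sSup C)) = pullback.snd fT p := by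
      rw [← subMap_ι V (show k₀.1 ≤ sSup C from le_sSup k₀.2), Functor.map_comp, ← Category.assoc, hfac]
      exact ha k₀
    obtain ⟨l, hl⟩ := SchImg.exists_lift_of_epi_mono (pullback.fst fT p) ii fT (l₀ ≫ qi) (by
      rw [Category.assoc, sqi.w, ← Category.assoc, hl₀]
      exact pullback.condition)
    exact ⟨l, hl.trans hfT⟩
  choose lift hlift using key
  have hlim : IsLimit (chainCone Zc ic hmono rmap hr ii πc hπc) :=
    { lift := lift
      fac := fun s k => by
        have := hmono k.unop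
        refine (cancel_mono (ic k.unop)).1 ?_
        show (lift s ≫ πc k.unop) ≫ ic k.unop = coneπ s k ≫ ic k.unop
        rw [Category.assoc, hπc, hlift]
        exact (hs s k.unop).symm
      uniq := fun s m hm => by
        have h1 : m ≫ πc k₀ = coneπ s (op k₀) := hm (op k₀)
        refine (cancel_mono ii).1 ?_
        rw [hlift, ← h1, Category.assoc, hπc] }
  have hDa : ∀ (k k' : (↥C)ᵒᵖ) (φ : k ⟶ k'),
      IsAffineMor ((chainFunctor Zc ic hmono rmap hr).map φ) := by
    intro k k' φ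
    have := hmono k'.unop
    have hpb : IsPullback (𝟙 (Zc k.unop)) (rmap k'.unop k.unop (leOfHom φ.unop)) (ic k.unop) (ic k'.unop) :=
      IsPullback.of_horiz_isIso_mono ⟨by rw [Category.id_comp, hr]⟩
    exact isAffineMor_of_repWith_isClosedImmersion _
      (MorphismProperty.of_isPullback (P := RepWith (S := S) @IsClosedImmersion) hpb (hi k.unop))
  obtain ⟨k, hk⟩ := main10007 S (chainFunctor Zc ic hmono rmap hr) (fun k => hZ k.unop) hDa
    (fun k => isQuasiCompactSp_of_isAffineMor (hZ k.unop) hX (ic k.unop)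
      (isAffineMor_of_repWith_isClosedImmersion _ (hi k.unop)) hXqc)
    (fun k => isQuasiSeparatedSp_of_isAffineMor (hZ k.unop) (ic k.unop)
      (isAffineMor_of_repWith_isClosedImmersion _ (hi k.unop)) hXqs)
    (chainCone Zc ic hmono rmap hr ii πc hπc) hlim hrep
  exact hnr k.unop hk

/-- The chain step of Zorn's lemma. -/
theorem chain_step [QuasiSeparatedSpace S] {X : Sp S} (hX : IsAlgSpace X) (hXqc : IsQuasiCompactSp X)
    (hXqs : IsQuasiSeparatedSp X) {V R : Over S} (p : (yon S).obj V ⟶ X) (hpe : RepWith @Etale p)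
    (hps : RepWith @Surjective p) (s t : R ⟶ V) (sqR : IsPullback ((yon S).map t) ((yon S).map s) p p)
    (C : Set V.left.IdealSheafData) (hne : C.Nonempty) (hch : IsChain (· ≤ ·) C)
    (hC : ∀ K ∈ C, ∃ (Z : Sp S) (i : Z ⟶ X) (q : (yon S).obj (subOv V K) ⟶ Z), IsAlgSpace Z ∧
      RepWith @IsClosedImmersion i ∧ IsPullback q ((yon S).map (subι V K)) i p ∧ ¬ Z.obj.IsRepresentable) :
    ∃ (Z : Sp S) (i : Z ⟶ X) (q : (yon S).obj (subOv V (sSup C)) ⟶ Z), IsAlgSpace Z ∧
      RepWith @IsClosedImmersion i ∧ IsPullback q ((yon S).map (subι V (sSup C))) i p ∧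
        ¬ Z.obj.IsRepresentable := by
  choose Zc ic qc hZ hi sq hnr using hC
  -- invariance
  have hKinv : ∀ K ∈ C, K.comap s.left ≤ K.comap t.left := fun K hK => by
    have h := SchImg.comap_le_of_isPullback p s t sqR.w (ic K hK) (subι V K) (qc K hK) (sq K hK)
    rwa [show (subι V K).left.ker = K from K.ker_subschemeι] at h
  have hinv : (sSup C).comap s.left ≤ (sSup C).comap t.left := by
    have h1 : (sSup C).comap s.left = ⨆ I ∈ C, I.comap s.left :=
      (Scheme.IdealSheafData.map_gc s.left).l_sSup (s := C)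
    rw [h1]
    exact iSup₂_le fun I hI => (hKinv I hI).trans (Scheme.IdealSheafData.comap_mono _ (le_sSup hI))
  have hmonoio : Mono (subι V (sSup C)) := mono_subι V _
  obtain ⟨Zi, ii, qi, hZi, himono, sqi⟩ := InvSub.exists_subspace' hX s t p hpe hps sqR (subι V (sSup C)) (by
    intro T' r x hrx
    have h1 : r.left ≫ t.left = x.left ≫ (sSup C).subschemeι := congrArg CommaMorphism.left hrx
    obtain ⟨w, hw⟩ := SchImg.exists_lift_of_comap_le s.left t.left (sSup C) hinv r.left x.left h1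
    refine ⟨Over.homMk w ?_, ?_⟩
    · show w ≫ (sSup C).subschemeι ≫ V.hom = T'.hom
      rw [← Category.assoc, hw, Category.assoc, Over.w s, Over.w r]
    · ext1
      exact hw)
  have hicl : RepWith @IsClosedImmersion ii :=
    Groth.Agent.S9932.result @IsClosedImmersion (Or.inl rfl) (X := ⟨Zi, hZi⟩) (Y := ⟨X, hX⟩)
      (ObjectProperty.homMk ii) V p hpe hps qi _ sqi
      ((repWith_yon_map_iff @IsClosedImmersion _).2
        (inferInstanceAs (IsClosedImmersion (sSup C).subschemeι)))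
  exact ⟨Zi, ii, qi, hZi, hicl, sqi,
    not_representable_of_chain hX hXqc hXqs p hpe hps C hne hch (fun k => Zc k.1 k.2) (fun k => ic k.1 k.2)
      (fun k => qc k.1 k.2) (fun k => hZ k.1 k.2) (fun k => hi k.1 k.2) (fun k => sq k.1 k.2)
      (fun k => hnr k.1 k.2) ii qi hicl sqi⟩

theorem main10049 (S : Scheme.{u}) [QuasiSeparatedSpace S]
    (X : AlgSp.Space S) (hXqc : AlgSp.IsQuasiCompactSp X.obj) (hXqs : AlgSp.IsQuasiSeparatedSp X.obj) (hX : ¬ X.obj.obj.IsRepresentable) :
    ∃ (Z : AlgSp.Space S) (i : Z ⟶ X), AlgSp.RepWith @IsClosedImmersion i.hom ∧ ¬ Z.obj.obj.IsRepresentable ∧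
      ∀ (Z' : AlgSp.Space S) (i' : Z' ⟶ Z), AlgSp.RepWith @IsClosedImmersion i'.hom → ¬ IsIso i' → Z'.obj.obj.IsRepresentable := by
  obtain ⟨V, p, hpe, hps⟩ := X.property.atlas
  have hrep := X.property.representable_from_yon p
  obtain ⟨R, s, fstR, sqR⟩ := hrep p
  obtain ⟨t, rfl⟩ := (yon S).map_surjective fstR
  have hbase : ∃ K : V.left.IdealSheafData, K ∈ {K : V.left.IdealSheafData | ∃ (Z : Sp S) (i : Z ⟶ X.obj)
      (q : (yon S).obj (subOv V K) ⟶ Z), IsAlgSpace Z ∧ RepWith @IsClosedImmersion i ∧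
        IsPullback q ((yon S).map (subι V K)) i p ∧ ¬ Z.obj.IsRepresentable} := by
    have h1 : RepWith @IsClosedImmersion (𝟙 X.obj) :=
      Groth.Agent.Lib.Helper17.repWith_of_isIso @IsClosedImmersion (𝟙 X.obj)
    obtain ⟨K, q, sq⟩ := exists_canonical_chart p (𝟙 X.obj) h1
    exact ⟨K, X.obj, 𝟙 _, q, X.property, h1, sq, hX⟩
  obtain ⟨K₀, hK₀⟩ := hbase
  obtain ⟨m, hm⟩ := zorn_le₀ {K : V.left.IdealSheafData | ∃ (Z : Sp S) (i : Z ⟶ X.obj)
      (q : (yon S).obj (subOv V K) ⟶ Z), IsAlgSpace Z ∧ RepWith @IsClosedImmersion i ∧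
        IsPullback q ((yon S).map (subι V K)) i p ∧ ¬ Z.obj.IsRepresentable} (fun C hCS hch => by
    rcases C.eq_empty_or_nonempty with rfl | hne
    · exact ⟨K₀, hK₀, fun z hz => absurd hz (Set.notMem_empty z)⟩
    · exact ⟨sSup C, chain_step X.property hXqc hXqs p hpe hps s t sqR C hne hch (fun K hK => hCS hK),
        fun z hz => le_sSup hz⟩)
  obtain ⟨Z, i, q, hZ, hi, sq, hnr⟩ := hm.prop
  have hmonoi : Mono i := SchImg.mono_of_repWith_isClosedImmersion i hi
  refine ⟨⟨Z, hZ⟩, ObjectProperty.homMk i, hi, hnr, fun Z' i' hi' hniso => ?_⟩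
  by_contra hnr'
  have hi'' : RepWith @IsClosedImmersion (i'.hom ≫ i) :=
    (RepWith (S := S) @IsClosedImmersion).comp_mem _ _ hi' hi
  obtain ⟨K', q', sq'⟩ := exists_canonical_chart p (i'.hom ≫ i) hi''
  have hle : m ≤ K' := le_of_hom p i q sq (i'.hom ≫ i) q' sq' i'.hom rfl
  have hge : K' ≤ m := hm.le_of_ge ⟨Z'.obj, i'.hom ≫ i, q', Z'.property, hi'', sq', hnr'⟩ hle
  have hmono'' : Mono (i'.hom ≫ i) := SchImg.mono_of_repWith_isClosedImmersion _ hi''
  obtain ⟨r, hr⟩ := exists_hom_of_le p hpe hps hge (i'.hom ≫ i) hmono'' q' sq' i q sq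
  have h1 : r ≫ i'.hom = 𝟙 Z := (cancel_mono i).1 (by rw [Category.assoc, hr, Category.id_comp])
  have h2 : i'.hom ≫ r = 𝟙 Z'.obj :=
    (cancel_mono (i'.hom ≫ i)).1 (by rw [Category.assoc, hr, Category.id_comp])
  have hiso : IsIso i'.hom := ⟨⟨r, h2, h1⟩⟩
  exact hniso ((ObjectProperty.isIso_hom_iff i').1 hiso)

end Closed

end Groth.Agent.Lib.Helper6.LimSp
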