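import Mathlib
import Groth.Prelude.Def_AlgSpModX
import Groth.Agent.Lib.Helper6.LimSp27
import Groth.Agent.Lib.Helper28.IdealComap
import Groth.Agent.Lib.Helper16.InvSub

/-!
# Helper library (helper6): the closed subspace cut out by a quasi-coherent sheaf of ideals (`main9988`)

* `exists_ff_appLE`, `idealSheafData_ext_of_comap`: an ideal sheaf on a scheme is determined by its inverse image
  along a flat open surjective morphism (variant of helper15's `idealSheafData_eq_bot_of_comap`);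
* `ker_of_isPullback`, `ker_chart`: kernels of base changes of closed immersions;
* `resE`, `resMap`, `idl`, `KE`, `KE_comap`, `KE_top`: a quasi-coherent family of ideals on the affine etale site of
  a space defines an ideal sheaf on every scheme etale over the space, compatibly with inverse images;
* `main9988`.
-/

set_option autoImplicit false
set_option backward.isDefEq.respectTransparency false
universe u
open CategoryTheory CategoryTheory.Limits AlgebraicGeometry Opposite
open AlgSp Groth.Agent.Lib.Helper16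

namespace Groth.Agent.Lib.Helper6.IdealCut

open Groth.Agent.Lib.Helper6.LimSp

section Descent

theorem exists_ff_appLE {X' X : Scheme.{u}} (f : X' ⟶ X) [Flat f] (hopen : IsOpenMap f) (x' : X') :
    ∃ (U : X.affineOpens) (V : X'.affineOpens) (hVU : V.1 ≤ f ⁻¹ᵁ U.1), x' ∈ V.1 ∧ f x' ∈ U.1 ∧
      ∀ I J : Ideal Γ(X, U.1), I.map (f.appLE U.1 V.1 hVU).hom = J.map (f.appLE U.1 V.1 hVU).hom → I = J := by
  obtain ⟨_, ⟨U₀', hU₀', rfl⟩, hxU₀, -⟩ :=
    X.isBasis_affineOpens.exists_subset_of_mem_open (Set.mem_univ (f x')) isOpen_univ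
  let U₀ : X.affineOpens := ⟨U₀', hU₀'⟩
  have hx'pre : x' ∈ f ⁻¹ᵁ U₀.1 := hxU₀
  obtain ⟨_, ⟨V₁', hV₁', rfl⟩, hx'V₁, hV₁U₀⟩ :=
    X'.isBasis_affineOpens.exists_subset_of_mem_open hx'pre (f ⁻¹ᵁ U₀.1).isOpen
  let V₁ : X'.affineOpens := ⟨V₁', hV₁'⟩
  let O : X.Opens := ⟨f '' (V₁.1 : Set X'), hopen _ V₁.1.2⟩
  have hxO : f x' ∈ O := ⟨x', hx'V₁, rfl⟩
  obtain ⟨s, hsO, hxs⟩ := U₀.2.exists_basicOpen_le (V := O) ⟨f x', hxO⟩ hxU₀
  set s' : Γ(X', V₁.1) := (f.appLE U₀.1 V₁.1 hV₁U₀).hom s with hs'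
  have hV₂ : X'.basicOpen s' = V₁.1 ⊓ f ⁻¹ᵁ (X.basicOpen s) :=
    Scheme.basicOpen_appLE f V₁.1 U₀.1 hV₁U₀ s
  let U₁ : X.affineOpens := X.affineBasicOpen s
  let V₂ : X'.affineOpens := X'.affineBasicOpen s'
  have hV₂U₁ : V₂.1 ≤ f ⁻¹ᵁ U₁.1 := by
    show X'.basicOpen s' ≤ f ⁻¹ᵁ (X.basicOpen s)
    rw [hV₂]; exact inf_le_right
  let φ : Γ(X, U₁.1) →+* Γ(X', V₂.1) := (f.appLE U₁.1 V₂.1 hV₂U₁).hom
  have hφflat : φ.Flat := HasRingHomProperty.appLE (P := @Flat) f inferInstance U₁ V₂ hV₂U₁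
  algebraize [φ]
  have hsurj : Function.Surjective (PrimeSpectrum.comap (algebraMap Γ(X, U₁.1) Γ(X', V₂.1))) := by
    intro P
    have hy : U₁.2.fromSpec P ∈ U₁.1 := by
      rw [← SetLike.mem_coe, ← U₁.2.range_fromSpec]; exact ⟨P, rfl⟩
    obtain ⟨z, hz, hzy⟩ : U₁.2.fromSpec P ∈ O := hsO hy
    have hzV₂ : z ∈ V₂.1 := by
      show z ∈ X'.basicOpen s'
      rw [hV₂]
      exact ⟨hz, by show f z ∈ X.basicOpen s; rw [hzy]; exact hy⟩
    obtain ⟨Q, hQ⟩ : z ∈ Set.range V₂.2.fromSpec := by rw [V₂.2.range_fromSpec]; exact hzV₂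
    refine ⟨Q, ?_⟩
    have hcomm := IsAffineOpen.SpecMap_appLE_fromSpec f U₁.2 V₂.2 hV₂U₁
    have h1 : U₁.2.fromSpec ((Spec.map (f.appLE U₁.1 V₂.1 hV₂U₁)) Q) = U₁.2.fromSpec P := by
      rw [← Scheme.Hom.comp_apply, hcomm, Scheme.Hom.comp_apply, hQ, hzy]
    exact U₁.2.fromSpec.isOpenEmbedding.injective h1
  have : Module.FaithfullyFlat Γ(X, U₁.1) Γ(X', V₂.1) := Module.FaithfullyFlat.of_comap_surjective hsurj
  refine ⟨U₁, V₂, hV₂U₁, ?_, hxs, ?_⟩
  · show x' ∈ X'.basicOpen s'
    rw [hV₂]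
    exact ⟨hx'V₁, hxs⟩
  · intro I J hIJ
    exact Ideal.map_injective_of_faithfullyFlat (A := Γ(X, U₁.1)) (B := Γ(X', V₂.1)) hIJ

/-- An ideal sheaf is determined by its inverse image along a flat, open, surjective morphism. -/
theorem idealSheafData_ext_of_comap {T T' : Scheme.{u}} (p : T' ⟶ T) [Flat p] (hopen : IsOpenMap p)
    (hsurj : Function.Surjective p) (J J' : T.IdealSheafData) (h : J.comap p = J'.comap p) : J = J' := by
  have key : ∀ t : T, ∃ U : T.affineOpens, t ∈ U.1 ∧ J.ideal U = J'.ideal U := by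
    intro t
    obtain ⟨t', rfl⟩ := hsurj t
    obtain ⟨U, V, hVU, -, hU, hinj⟩ := exists_ff_appLE p hopen t'
    refine ⟨U, hU, hinj _ _ ?_⟩
    rw [← Groth.Agent.Lib.Helper28.ideal_comap_of_le J p U V hVU,
      ← Groth.Agent.Lib.Helper28.ideal_comap_of_le J' p U V hVU, h]
  choose U hU hJU using key
  refine Scheme.IdealSheafData.ext_of_iSup_eq_top U ?_ hJU
  rw [eq_top_iff]
  intro t _
  exact TopologicalSpace.Opens.mem_iSup.mpr ⟨t, hU t⟩

theorem ker_of_isPullback {P A B C : Scheme.{u}} (fst : P ⟶ C) (snd : P ⟶ A) (g : C ⟶ B) (i : A ⟶ B)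
    [IsClosedImmersion i] (sq : IsPullback fst snd g i) : fst.ker = i.ker.comap g := by
  calc fst.ker = (sq.isoPullback.hom ≫ pullback.fst g i).ker := by rw [sq.isoPullback_hom_fst]
    _ = (pullback.fst g i).ker := Scheme.Hom.ker_comp_of_isIso _ _
    _ = i.ker.comap g := Scheme.IdealSheafData.ker_fst_of_isClosedImmersion i g

/-- The kernel of the base change of a closed subspace to a scheme `T` over a chart `A`, in terms of the
kernel on the chart. -/
theorem ker_chart {S : Scheme.{u}} {X Z : Sp S} (i : Z ⟶ X) {A WA T PT : Over S} (α : (yon S).obj A ⟶ X)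
    (jA : WA ⟶ A) (fA : (yon S).obj WA ⟶ Z) (sqA : IsPullback fA ((yon S).map jA) i α)
    [IsClosedImmersion jA.left] (a : T ⟶ A) (jT : PT ⟶ T) (fP : (yon S).obj PT ⟶ Z)
    (sqP : IsPullback fP ((yon S).map jT) i ((yon S).map a ≫ α)) :
    jT.left.ker = jA.left.ker.comap a.left := by
  have hc : fP ≫ i = (yon S).map (jT ≫ a) ≫ α := by
    rw [sqP.w, Functor.map_comp, Category.assoc]
  obtain ⟨u, hu⟩ := (yon S).map_surjective (sqA.lift fP ((yon S).map (jT ≫ a)) hc)
  have hu1 : (yon S).map u ≫ fA = fP := by rw [hu]; exact sqA.lift_fst _ _ _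
  have hu2 : u ≫ jA = jT ≫ a := (yon S).map_injective (by
    rw [Functor.map_comp, hu]; exact sqA.lift_snd _ _ _)
  have big : IsPullback ((yon S).map u ≫ fA) ((yon S).map jT) i ((yon S).map a ≫ α) := by
    rw [hu1]; exact sqP
  have left : IsPullback ((yon S).map u) ((yon S).map jT) ((yon S).map jA) ((yon S).map a) :=
    IsPullback.of_right big (by rw [← Functor.map_comp, ← Functor.map_comp, hu2]) sqA
  have sqO : IsPullback u jT jA a := IsPullback.of_map (yon S) hu2 left
  have sqSch : IsPullback u.left jT.left jA.left a.left := sqO.map (Over.forget S)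
  exact ker_of_isPullback jT.left u.left a.left jA.left sqSch.flip

end Descent

section Res

variable {S : Scheme.{u}} {X : Sp S}

/-- An open subscheme of an object of the small etale site, as a scheme over `S`. -/
noncomputable abbrev resOv (E : EtOver X) (U : E.obj.left.left.Opens) : Over S :=
  Over.mk (U.ι ≫ E.obj.left.hom)

noncomputable abbrev resι (E : EtOver X) (U : E.obj.left.left.Opens) : resOv E U ⟶ E.obj.left :=
  Over.homMk U.ι rfl

theorem repWith_res (E : EtOver X) (U : E.obj.left.left.Opens) :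
    RepWith @Etale ((yon S).map (resι E U) ≫ E.obj.hom) :=
  (repWith_isMultiplicative (S := S) @Etale).comp_mem _ _
    ((repWith_yon_map_iff @Etale (resι E U)).2 (inferInstanceAs (Etale U.ι))) E.property

/-- An open subscheme of an object of the small etale site, as an object of the site. -/
noncomputable abbrev resE (E : EtOver X) (U : E.obj.left.left.Opens) : EtOver X :=
  EtOver.mk ((yon S).map (resι E U) ≫ E.obj.hom) (repWith_res E U)

/-- The restriction of a morphism of the site to open subschemes, over `S`. -/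
noncomputable def resMapOv {E E' : EtOver X} (g : E' ⟶ E) (U : E.obj.left.left.Opens)
    (W : E'.obj.left.left.Opens) (h : W ≤ g.hom.left.left ⁻¹ᵁ U) : resOv E' W ⟶ resOv E U :=
  Over.homMk (g.hom.left.left.resLE U W h) (by
    show g.hom.left.left.resLE U W h ≫ U.ι ≫ E.obj.left.hom = W.ι ≫ E'.obj.left.hom
    rw [Scheme.Hom.resLE_comp_ι_assoc, Over.w g.hom.left])

theorem resMapOv_ι {E E' : EtOver X} (g : E' ⟶ E) (U : E.obj.left.left.Opens)
    (W : E'.obj.left.left.Opens) (h : W ≤ g.hom.left.left ⁻¹ᵁ U) :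
    resMapOv g U W h ≫ resι E U = resι E' W ≫ g.hom.left := by
  ext1
  exact Scheme.Hom.resLE_comp_ι _ _

/-- The restriction of a morphism of the site to open subschemes. -/
noncomputable def resMap {E E' : EtOver X} (g : E' ⟶ E) (U : E.obj.left.left.Opens)
    (W : E'.obj.left.left.Opens) (h : W ≤ g.hom.left.left ⁻¹ᵁ U) : resE E' W ⟶ resE E U :=
  EtOver.homMk (resMapOv g U W h) (by
    show (yon S).map (resMapOv g U W h) ≫ (yon S).map (resι E U) ≫ E.obj.hom =
      (yon S).map (resι E' W) ≫ E'.obj.hom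
    rw [← Category.assoc, ← Functor.map_comp, resMapOv_ι, Functor.map_comp, Category.assoc, EtOver.w g])

theorem resMap_left {E E' : EtOver X} (g : E' ⟶ E) (U : E.obj.left.left.Opens)
    (W : E'.obj.left.left.Opens) (h : W ≤ g.hom.left.left ⁻¹ᵁ U) :
    (resMap g U W h).hom.left.left = g.hom.left.left.resLE U W h := rfl

variable (I : IdealEt X)

/-- The ideal of functions on an affine open `U` of an object `E` of the site defined by the family `I`. -/
noncomputable def idl (E : EtOver X) (U : E.obj.left.left.Opens) (hU : IsAffineOpen U) :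
    Ideal Γ(E.obj.left.left, U) :=
  Ideal.map U.topIso.hom.hom (show Ideal Γ(U, ⊤) from I.ideal (resE E U) hU)

theorem idl_map (hI : I.IsQCoh) {E E' : EtOver X} (g : E' ⟶ E) (U : E.obj.left.left.Opens)
    (hU : IsAffineOpen U) (W : E'.obj.left.left.Opens) (hW : IsAffineOpen W)
    (h : W ≤ g.hom.left.left ⁻¹ᵁ U) :
    idl I E' W hW = (idl I E U hU).map (g.hom.left.left.appLE U W h).hom := by
  have e1 : I.ideal (resE E' W) hW =
      (I.ideal (resE E U) hU).map (resMap g U W h).hom.left.left.appTop.hom :=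
    le_antisymm (hI (resMap g U W h) hU hW) (I.map_le (resMap g U W h) hU hW)
  have e2 : (g.hom.left.left.resLE U W h).appTop =
      U.topIso.hom ≫ g.hom.left.left.appLE U W h ≫ W.topIso.inv :=
    Scheme.Hom.resLE_app_top _ _
  have e3 : (U.topIso.hom ≫ g.hom.left.left.appLE U W h ≫ W.topIso.inv) ≫ W.topIso.hom =
      U.topIso.hom ≫ g.hom.left.left.appLE U W h := by
    rw [Category.assoc, Category.assoc, Iso.inv_hom_id, Category.comp_id]
  have e4 : W.topIso.hom.hom.comp (g.hom.left.left.resLE U W h).appTop.hom =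
      (g.hom.left.left.appLE U W h).hom.comp U.topIso.hom.hom := by
    rw [e2, ← CommRingCat.hom_comp, ← CommRingCat.hom_comp, e3]
  calc idl I E' W hW
      = Ideal.map W.topIso.hom.hom (Ideal.map (g.hom.left.left.resLE U W h).appTop.hom
          (show Ideal Γ(U, ⊤) from I.ideal (resE E U) hU)) := congrArg (Ideal.map W.topIso.hom.hom) e1
    _ = Ideal.map (W.topIso.hom.hom.comp (g.hom.left.left.resLE U W h).appTop.hom)
          (show Ideal Γ(U, ⊤) from I.ideal (resE E U) hU) := Ideal.map_map _ _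
    _ = Ideal.map ((g.hom.left.left.appLE U W h).hom.comp U.topIso.hom.hom)
          (show Ideal Γ(U, ⊤) from I.ideal (resE E U) hU) :=
        congrArg (fun φ => Ideal.map φ (show Ideal Γ(U, ⊤) from I.ideal (resE E U) hU)) e4
    _ = (idl I E U hU).map (g.hom.left.left.appLE U W h).hom := (Ideal.map_map _ _).symm

theorem idl_map' (hI : I.IsQCoh) {E E' : EtOver X} (g : E' ⟶ E)
    (γ : E'.obj.left.left ⟶ E.obj.left.left) (hγ : g.hom.left.left = γ) (U : E.obj.left.left.Opens)
    (hU : IsAffineOpen U) (W : E'.obj.left.left.Opens) (hW : IsAffineOpen W) (h : W ≤ γ ⁻¹ᵁ U) :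
    idl I E' W hW = (idl I E U hU).map (γ.appLE U W h).hom := by
  subst hγ
  exact idl_map I hI g U hU W hW h

/-- The ideal sheaf on the scheme of an object of the site defined by a quasi-coherent family. -/
noncomputable def KE (hI : I.IsQCoh) (E : EtOver X) : E.obj.left.left.IdealSheafData where
  ideal U := idl I E U.1 U.2
  map_ideal_basicOpen U f := by
    have h : E.obj.left.left.basicOpen f ≤ (𝟙 E.obj.left.left : E.obj.left.left ⟶ E.obj.left.left) ⁻¹ᵁ U.1 :=
      E.obj.left.left.basicOpen_le f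
    have key := idl_map' I hI (𝟙 E) (𝟙 E.obj.left.left) rfl U.1 U.2 (E.obj.left.left.basicOpen f)
      (U.2.basicOpen f) h
    have e5 : (𝟙 E.obj.left.left : E.obj.left.left ⟶ E.obj.left.left).appLE U.1
        (E.obj.left.left.basicOpen f) h =
        E.obj.left.left.presheaf.map (homOfLE (E.obj.left.left.basicOpen_le f)).op := by
      rw [Scheme.Hom.appLE, Scheme.Hom.id_app]
      exact Category.id_comp _
    rw [e5] at key
    exact key.symm

theorem KE_ideal (hI : I.IsQCoh) (E : EtOver X) (U : E.obj.left.left.affineOpens) :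
    (KE I hI E).ideal U = idl I E U.1 U.2 := rfl

theorem KE_comap (hI : I.IsQCoh) {E E' : EtOver X} (g : E' ⟶ E) :
    KE I hI E' = (KE I hI E).comap g.hom.left.left := by
  have key : ∀ x : E'.obj.left.left, ∃ W : E'.obj.left.left.affineOpens, x ∈ W.1 ∧
      (KE I hI E').ideal W = ((KE I hI E).comap g.hom.left.left).ideal W := by
    intro x
    obtain ⟨_, ⟨U, hU, rfl⟩, hxU, -⟩ := E.obj.left.left.isBasis_affineOpens.exists_subset_of_mem_open
      (Set.mem_univ (g.hom.left.left x)) isOpen_univ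
    have hx' : x ∈ g.hom.left.left ⁻¹ᵁ U := hxU
    obtain ⟨_, ⟨W, hW, rfl⟩, hxW, hWU⟩ := E'.obj.left.left.isBasis_affineOpens.exists_subset_of_mem_open
      hx' (g.hom.left.left ⁻¹ᵁ U).isOpen
    refine ⟨⟨W, hW⟩, hxW, ?_⟩
    exact (idl_map I hI g U hU W hW hWU).trans
      (Groth.Agent.Lib.Helper28.ideal_comap_of_le (KE I hI E) g.hom.left.left ⟨U, hU⟩ ⟨W, hW⟩ hWU).symm
  choose W hW hWeq using key
  refine Scheme.IdealSheafData.ext_of_iSup_eq_top W ?_ hWeq
  rw [eq_top_iff]
  intro x _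
  exact TopologicalSpace.Opens.mem_iSup.mpr ⟨x, hW x⟩

theorem KE_comap_mk (hI : I.IsQCoh) (E : EtOver X) {B : Over S} (β : (yon S).obj B ⟶ X)
    (hβ : RepWith @Etale β) (g : B ⟶ E.obj.left) (w : (yon S).map g ≫ E.obj.hom = β) :
    KE I hI (EtOver.mk β hβ) = (KE I hI E).comap g.left :=
  KE_comap I hI (EtOver.homMk (E := EtOver.mk β hβ) (E' := E) g w)

theorem KE_top (hI : I.IsQCoh) (E : EtOver X) (hE : IsAffine E.obj.left.left) :
    (KE I hI E).ideal ⟨⊤, isAffineOpen_top E.obj.left.left⟩ = I.ideal E hE := by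
  let jt : resE E ⊤ ⟶ E := EtOver.homMk (resι E ⊤) rfl
  have hT : IsAffineOpen (⊤ : E.obj.left.left.Opens) := isAffineOpen_top _
  have e1 : I.ideal (resE E ⊤) hT = (I.ideal E hE).map jt.hom.left.left.appTop.hom :=
    le_antisymm (hI jt hE hT) (I.map_le jt hE hT)
  have h3 : ∀ (m : (op (⊤ : E.obj.left.left.Opens)) ⟶ op ⊤), E.obj.left.left.presheaf.map m = 𝟙 _ := by
    intro m
    have hm : m = 𝟙 _ := Quiver.Hom.unop_inj (Subsingleton.elim _ _)
    rw [hm, CategoryTheory.Functor.map_id]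
  have e2 : (⊤ : E.obj.left.left.Opens).ι.appTop ≫ (⊤ : E.obj.left.left.Opens).topIso.hom = 𝟙 _ := by
    rw [Scheme.Opens.ι_appTop, Scheme.Opens.topIso_hom, ← Functor.map_comp]
    exact h3 _
  have e2' : (⊤ : E.obj.left.left.Opens).topIso.hom.hom.comp (⊤ : E.obj.left.left.Opens).ι.appTop.hom =
      RingHom.id _ := by
    rw [← CommRingCat.hom_comp, e2]
    rfl
  calc (KE I hI E).ideal ⟨⊤, isAffineOpen_top E.obj.left.left⟩
      = Ideal.map (⊤ : E.obj.left.left.Opens).topIso.hom.hom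
          (Ideal.map (⊤ : E.obj.left.left.Opens).ι.appTop.hom (I.ideal E hE)) :=
        congrArg (Ideal.map (⊤ : E.obj.left.left.Opens).topIso.hom.hom) e1
    _ = Ideal.map ((⊤ : E.obj.left.left.Opens).topIso.hom.hom.comp
          (⊤ : E.obj.left.left.Opens).ι.appTop.hom) (I.ideal E hE) := Ideal.map_map _ _
    _ = Ideal.map (RingHom.id _) (I.ideal E hE) :=
        congrArg (fun φ => Ideal.map φ (I.ideal E hE)) e2'
    _ = I.ideal E hE := Ideal.map_id _

end Res

section Main

theorem main9988 {S : Scheme.{u}} (X : AlgSp.Space S) (I : AlgSp.IdealEt X.obj) (hI : I.IsQCoh) :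
    ∃ (Z : AlgSp.Space S) (i : Z ⟶ X), AlgSp.IsCutOutBy I i.hom := by
  obtain ⟨V, p, hpe, hps⟩ := X.property.atlas
  have hrep := X.property.representable_from_yon p
  obtain ⟨R, s, fstR, sqR⟩ := hrep p
  obtain ⟨t, rfl⟩ := (yon S).map_surjective fstR
  have ht_et : Etale t.left := hpe.2 p _ t sqR.flip
  have hRet : RepWith @Etale ((yon S).map t ≫ p) :=
    (repWith_isMultiplicative (S := S) @Etale).comp_mem _ _
      ((repWith_yon_map_iff @Etale t).2 ht_et) hpe
  obtain ⟨K, hK⟩ : ∃ K : V.left.IdealSheafData, K = KE I hI (EtOver.mk p hpe) := ⟨_, rfl⟩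
  have hKt : KE I hI (EtOver.mk ((yon S).map t ≫ p) hRet) = K.comap t.left := by
    rw [hK]
    exact KE_comap_mk I hI (EtOver.mk p hpe) _ hRet t rfl
  have hKs : KE I hI (EtOver.mk ((yon S).map t ≫ p) hRet) = K.comap s.left := by
    rw [hK]
    exact KE_comap_mk I hI (EtOver.mk p hpe) _ hRet s sqR.w.symm
  have hinv : K.comap s.left ≤ K.comap t.left := (hKs.symm.trans hKt).le
  have hmonoio : Mono (subι V K) := mono_subι V _
  obtain ⟨Zi, ii, qi, hZi, himono, sqi⟩ := InvSub.exists_subspace' X.property s t p hpe hps sqR (subι V K) (by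
    intro T' r x hrx
    have h1 : r.left ≫ t.left = x.left ≫ K.subschemeι := congrArg CommaMorphism.left hrx
    obtain ⟨w, hw⟩ := SchImg.exists_lift_of_comap_le s.left t.left K hinv r.left x.left h1
    refine ⟨Over.homMk w ?_, ?_⟩
    · show w ≫ K.subschemeι ≫ V.hom = T'.hom
      rw [← Category.assoc, hw, Category.assoc, Over.w s, Over.w r]
    · ext1
      exact hw)
  have hicl : RepWith @IsClosedImmersion ii :=
    Groth.Agent.S9932.result @IsClosedImmersion (Or.inl rfl) (X := ⟨Zi, hZi⟩) (Y := X)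
      (ObjectProperty.homMk ii) V p hpe hps qi _ sqi
      ((repWith_yon_map_iff @IsClosedImmersion _).2
        (inferInstanceAs (IsClosedImmersion K.subschemeι)))
  refine ⟨⟨Zi, hZi⟩, ObjectProperty.homMk ii, hicl, ?_⟩
  refine IdealEt.ext (funext fun E => funext fun hE => ?_)
  show RingHom.ker (EtOver.bcπ hicl.1 E).left.appTop.hom = I.ideal E hE
  have hjcl : IsClosedImmersion (EtOver.bcπ hicl.1 E).left :=
    hicl.2 _ _ _ (hicl.1.isPullback E.obj.hom)
  obtain ⟨T, a, fstT, sqT⟩ := hrep E.obj.hom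
  obtain ⟨b, rfl⟩ := (yon S).map_surjective fstT
  have ha_et : Etale a.left := hpe.2 E.obj.hom _ a sqT
  have ha_surj : Surjective a.left := hps.2 E.obj.hom _ a sqT
  have hTet : RepWith @Etale ((yon S).map a ≫ E.obj.hom) :=
    (repWith_isMultiplicative (S := S) @Etale).comp_mem _ _
      ((repWith_yon_map_iff @Etale a).2 ha_et) E.property
  have hKa : KE I hI (EtOver.mk ((yon S).map a ≫ E.obj.hom) hTet) = (KE I hI E).comap a.left :=
    KE_comap_mk I hI E _ hTet a rfl
  have hKb : KE I hI (EtOver.mk ((yon S).map a ≫ E.obj.hom) hTet) = K.comap b.left := by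
    rw [hK]
    exact KE_comap_mk I hI (EtOver.mk p hpe) _ hTet b sqT.w
  obtain ⟨PT, jT, fP, sqP⟩ := hicl.1 ((yon S).map a ≫ E.obj.hom)
  have h1 : jT.left.ker = (EtOver.bcπ hicl.1 E).left.ker.comap a.left :=
    ker_chart ii E.obj.hom (EtOver.bcπ hicl.1 E) _ (EtOver.isPullback_bcObj hicl.1 E) a jT fP sqP
  have sqP' : IsPullback fP ((yon S).map jT) ii ((yon S).map b ≫ p) := by
    rw [sqT.w]; exact sqP
  have h2 : jT.left.ker = (subι V K).left.ker.comap b.left :=
    ker_chart ii p (subι V K) qi sqi b jT fP sqP'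
  have h3 : (subι V K).left.ker = K := K.ker_subschemeι
  have h4 : (EtOver.bcπ hicl.1 E).left.ker.comap a.left = (KE I hI E).comap a.left :=
    h1.symm.trans (h2.trans ((congrArg (fun J => J.comap b.left) h3).trans (hKb.symm.trans hKa)))
  have h5 : (EtOver.bcπ hicl.1 E).left.ker = KE I hI E :=
    idealSheafData_ext_of_comap a.left a.left.isOpenMap ha_surj.surj _ _ h4
  have h6 : (EtOver.bcπ hicl.1 E).left.ker.ideal ⟨⊤, isAffineOpen_top E.obj.left.left⟩ =
      RingHom.ker (EtOver.bcπ hicl.1 E).left.appTop.hom :=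
    Scheme.Hom.ker_apply _ _
  rw [← h6, h5]
  exact KE_top I hI E hE

end Main

end Groth.Agent.Lib.Helper6.IdealCut
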