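import Mathlib

/-!
# Lifting idempotents modulo a square-zero defect

If `d = β² - β` satisfies `d * d = 0` then `3β² - 2β³` is idempotent.
-/

set_option autoImplicit false

namespace Groth.Agent.Lib.Helper6.IdemLift

theorem idem_of_sq_zero {R : Type*} [Ring R] (β : R) (h : (β * β - β) * (β * β - β) = 0) :
    (β * β + β * β + β * β - (β * β * β + β * β * β)) *
        (β * β + β * β + β * β - (β * β * β + β * β * β)) =
      β * β + β * β + β * β - (β * β * β + β * β * β) := by
  have key : (β * β + β * β + β * β - (β * β * β + β * β * β)) *
        (β * β + β * β + β * β - (β * β * β + β * β * β)) -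
      (β * β + β * β + β * β - (β * β * β + β * β * β)) =
      ((β * β - β) * (β * β - β)) *
        (β * β + β * β + β * β + β * β - (β + β + β + β) - (1 + 1 + 1)) := by
    noncomm_ring
  rw [h, zero_mul] at key
  exact sub_eq_zero.mp key

end Groth.Agent.Lib.Helper6.IdemLift
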