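import Groth.Agent.Lib.Helper6.RelNormCodim0
import Groth.Agent.Lib.Helper16.GeomRedSp
import Groth.Agent.Lib.Helper16.EtDim
import Groth.Agent.Lib.Helper16.QuasiCompactMor

/-!
# Helper library (helper6): equivalent forms of "locally finitely many irreducible components" for algebraic spaces
-/

set_option autoImplicit false
universe u
open CategoryTheory CategoryTheory.Limits AlgebraicGeometry Topology TopologicalSpace
open AlgSp

namespace Groth.Agent.Lib.Helper6.IrredTfae

open Groth.Agent.Lib.Helper16 Groth.Agent.Lib.Helper6.IrredFin Groth.Agent.Lib.Helper6.RelNormCodim0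

/-- Quasi-compact opens have finitely many irreducible components. -/
abbrev PP (U : Scheme.{u}) : Prop :=
  ∀ W : U.Opens, IsCompact (W : Set ↥U) → (irreducibleComponents ↥W).Finite

/-- The local ring has dimension zero. -/
abbrev QQ (U : Scheme.{u}) (u : ↥U) : Prop := ringKrullDim ↥(U.presheaf.stalk u) = 0

lemma hQQ {U V : Scheme.{u}} (g : V ⟶ U) [Etale g] (v : ↥V) : QQ V v ↔ QQ U (g v) := by
  show ringKrullDim _ = 0 ↔ ringKrullDim _ = 0
  rw [EtDim.ringKrullDim_stalk_eq_of_etale g v]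

lemma finite_irreducibleComponents_of_homeomorph {A B : Type*} [TopologicalSpace A]
    [TopologicalSpace B] (h : A ≃ₜ B) (hA : (irreducibleComponents A).Finite) :
    (irreducibleComponents B).Finite := by
  refine (hA.image (fun C => h '' C)).subset ?_
  intro D hD
  refine ⟨h.symm '' D, ⟨hD.1.image h.symm h.symm.continuous.continuousOn, ?_⟩,
    h.toEquiv.image_symm_image D⟩
  intro C' hC' hle
  have h1 : D ⊆ h '' C' := by
    intro d hd
    exact ⟨h.symm d, hle ⟨d, hd, rfl⟩, h.apply_symm_apply d⟩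
  have h2 : h '' C' ⊆ D := hD.2 (hC'.image h h.continuous.continuousOn) h1
  intro c hc
  exact ⟨h c, h2 ⟨c, hc, rfl⟩, h.symm_apply_apply c⟩

lemma finite_irreducibleComponents_of_surjective {T B : Type*} [TopologicalSpace T]
    [TopologicalSpace B] (c : T → B) (hc : Continuous c) (hs : Function.Surjective c)
    (hT : (irreducibleComponents T).Finite) : (irreducibleComponents B).Finite := by
  refine (hT.image (fun C => closure (c '' C))).subset ?_
  intro Z hZ
  have hfin : ((fun C => closure (c '' C)) '' irreducibleComponents T).Finite := hT.image _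
  have hcov : Z ⊆ ⋃₀ ((fun C => closure (c '' C)) '' irreducibleComponents T) := by
    intro z _
    obtain ⟨t, rfl⟩ := hs z
    exact ⟨closure (c '' irreducibleComponent t),
      ⟨_, irreducibleComponent_mem_irreducibleComponents t, rfl⟩,
      subset_closure ⟨t, mem_irreducibleComponent, rfl⟩⟩
  obtain ⟨z, hz, hZz⟩ := (isIrreducible_iff_sUnion_isClosed.1 hZ.1) hfin.toFinset
    (by
      intro z hz
      rw [Set.Finite.mem_toFinset] at hz
      obtain ⟨C, -, rfl⟩ := hz
      exact isClosed_closure)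
    (by rwa [Set.Finite.coe_toFinset])
  rw [Set.Finite.mem_toFinset] at hz
  obtain ⟨C, hC, rfl⟩ := hz
  refine ⟨C, hC, ?_⟩
  have hirr : IsIrreducible (closure (c '' C)) := (hC.1.image c hc.continuousOn).closure
  exact Set.Subset.antisymm (hZ.2 hirr hZz) hZz

/-- Descent of the property along an open surjective morphism. -/
theorem descend_P {W U : Scheme.{u}} (q : W ⟶ U) (hqo : IsOpenMap q) (hqs : Function.Surjective q)
    (hW : PP W) : PP U := by
  intro U' hU'
  have : QuasiSober ↥U' := inferInstanceAs (QuasiSober U'.toScheme)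
  apply finite_irreducibleComponents_of_finite_maxPts
  have hex : ∀ u : U, u ∈ U' → ∃ Ww : W.Opens, IsAffineOpen Ww ∧ Ww ≤ q ⁻¹ᵁ U' ∧
      u ∈ q '' (Ww : Set W) := by
    intro u hu
    obtain ⟨w, rfl⟩ := hqs u
    obtain ⟨_, ⟨Ww, hWw, rfl⟩, hwW, hle⟩ := (W.isBasis_affineOpens).exists_subset_of_mem_open
      (show w ∈ q ⁻¹ᵁ U' from hu) (q ⁻¹ᵁ U').isOpen
    exact ⟨Ww, hWw, hle, w, hwW, rfl⟩
  choose! Wf hWaff hWle hmem using hex
  obtain ⟨t, ht, htU⟩ := hU'.elim_nhds_subcover (fun u => q '' (Wf u : Set W))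
    (fun u hu => (hqo _ (Wf u).isOpen).mem_nhds (hmem u hu))
  have key : {u : U | u ∈ U' ∧ IsMaxPt u}.Finite := by
    have hfin : ∀ u ∈ t, {w : W | w ∈ Wf u ∧ IsMaxPt w}.Finite := by
      intro u hu
      have : QuasiSober ↥(Wf u) := inferInstanceAs (QuasiSober (Wf u).toScheme)
      have h1 := finite_maxPts_of_finite_irreducibleComponents
        (hW (Wf u) (hWaff u (ht u hu)).isCompact)
      refine (h1.image Subtype.val).subset ?_
      rintro w ⟨hwW, hw⟩
      exact ⟨⟨w, hwW⟩, (isMaxPt_subtype_iff (Wf u) ⟨w, hwW⟩).mpr hw, rfl⟩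
    refine ((Set.Finite.biUnion t.finite_toSet hfin).image q).subset ?_
    rintro u ⟨huU, hu⟩
    obtain ⟨a, ha, w, hwW, rfl⟩ := Set.mem_iUnion₂.mp (htU huU)
    obtain ⟨w', hw'max, hw'w⟩ := exists_isMaxPt_specializes w
    have hw'W : w' ∈ Wf a := hw'w.mem_open (Wf a).isOpen hwW
    have hqw : q w' = q w := hu _ (hw'w.map q.continuous)
    exact ⟨w', Set.mem_iUnion₂.mpr ⟨a, ha, hw'W, hw'max⟩, hqw⟩
  refine Set.Finite.of_finite_image (key.subset ?_) Subtype.val_injective.injOn
  rintro _ ⟨z, hz, rfl⟩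
  exact ⟨z.2, (isMaxPt_subtype_iff U' z).mp hz⟩

lemma finite_maxPts_of_P {T : Scheme.{u}} [CompactSpace T] (hT : PP T) :
    {t : T | IsMaxPt t}.Finite := by
  have h1 := hT ⊤ (by rw [TopologicalSpace.Opens.coe_top]; exact isCompact_univ)
  have : QuasiSober ↥(⊤ : T.Opens) := inferInstanceAs (QuasiSober (⊤ : T.Opens).toScheme)
  have h2 := finite_maxPts_of_finite_irreducibleComponents h1
  refine (h2.image Subtype.val).subset ?_
  intro t ht
  exact ⟨⟨t, trivial⟩, (isMaxPt_subtype_iff ⊤ ⟨t, trivial⟩).mpr ht, rfl⟩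

variable {S : Scheme.{u}}

theorem AB (X : AlgSp.Space S) (hA : EtaleLocally (fun U => PP U) X.obj) :
    ∀ (U : Over S) (a : (yon S).obj U ⟶ X.obj), RepWith @Etale a → PP U.left := by
  obtain ⟨V, b, hbe, hbs, hVN⟩ := hA
  intro U a hae
  obtain ⟨W, snd, fst, sq⟩ := hbe.rep a
  have hse : Etale snd.left := hbe.property _ fst snd sq
  have hss : Surjective snd.left := hbs.property _ fst snd sq
  obtain ⟨r, rfl⟩ := (yon S).map_surjective fst
  have hre : Etale r.left := hae.property _ _ r sq.flip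
  have hPW : PP W.left := fun W' hW' => finite_irred_of_flat_lft r.left hVN W' hW'
  have hopen : IsOpenMap snd.left := snd.left.isOpenMap
  exact descend_P snd.left hopen hss.surj hPW

theorem BA (X : AlgSp.Space S)
    (hB : ∀ (U : Over S) (a : (yon S).obj U ⟶ X.obj), RepWith @Etale a → PP U.left) :
    EtaleLocally (fun U => PP U) X.obj := by
  obtain ⟨U, a, hae, has⟩ := X.property.atlas
  exact ⟨U, a, hae, has, hB U a hae⟩

theorem BC (X : AlgSp.Space S)
    (hB : ∀ (U : Over S) (a : (yon S).obj U ⟶ X.obj), RepWith @Etale a → PP U.left)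
    (Y : AlgSp.Space S) (g : Y ⟶ X) (hg : IsEtaleMor g.hom) (hY : IsQuasiCompactSp Y.obj) :
    {y : Points Y.obj | HasAt (fun U u => QQ U u) Y.obj y}.Finite := by
  obtain ⟨T, c, hce, hcs, hTc⟩ := hY
  have : CompactSpace ↥T.left := hTc
  have hPT : PP T.left := hB T (c ≫ g.hom) (hg c hce)
  have hfin := finite_maxPts_of_P hPT
  refine (hfin.image (Points.ofPt c)).subset ?_
  intro y hy
  obtain ⟨t, rfl⟩ := ofPt_surjective_of_surjective c hcs y
  have h0 : QQ T.left t := (HasAtChart.hasAt_iff_of_chart (fun U u => QQ U u)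
    (fun g hg v => @hQQ _ _ g hg v) c hce t).1 hy
  exact ⟨t, isMaxPt_of_dim_zero t h0, rfl⟩

theorem BD (X : AlgSp.Space S)
    (hB : ∀ (U : Over S) (a : (yon S).obj U ⟶ X.obj), RepWith @Etale a → PP U.left)
    (Y : AlgSp.Space S) (g : Y ⟶ X) (hg : IsEtaleMor g.hom) (hY : IsQuasiCompactSp Y.obj) :
    (irreducibleComponents (Points Y.obj)).Finite := by
  obtain ⟨T, c, hce, hcs, hTc⟩ := hY
  have : CompactSpace ↥T.left := hTc
  have hPT : PP T.left := hB T (c ≫ g.hom) (hg c hce)
  have hfin := finite_maxPts_of_P hPT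
  have hirr : (irreducibleComponents ↥T.left).Finite :=
    finite_irreducibleComponents_of_finite_maxPts hfin
  exact finite_irreducibleComponents_of_surjective (Points.ofPt c) (Points.continuous_ofPt c)
    (ofPt_surjective_of_surjective c hcs) hirr

theorem CB (X : AlgSp.Space S)
    (hC : ∀ (Y : AlgSp.Space S) (g : Y ⟶ X), IsEtaleMor g.hom → IsQuasiCompactSp Y.obj →
      {y : Points Y.obj | HasAt (fun U u => QQ U u) Y.obj y}.Finite) :
    ∀ (U : Over S) (a : (yon S).obj U ⟶ X.obj), RepWith @Etale a → PP U.left := by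
  intro U a hae W hW
  have hc : CompactSpace ↥(overOpen U W).left := isCompact_iff_compactSpace.mp hW
  have hfin := hC ⟨(yon S).obj (overOpen U W), IsAlgSpace.yon_obj _⟩
    (ObjectProperty.homMk ((yon S).map (overOpenι U W) ≫ a))
    (fun V φ hφ => (RepWith @Etale).comp_mem _ _ hφ (repWith_etale_restrict a hae W))
    (isQuasiCompactSp_yon_of_compactSpace (overOpen U W))
  have : QuasiSober ↥W := inferInstanceAs (QuasiSober W.toScheme)
  apply finite_irreducibleComponents_of_finite_maxPts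
  refine Set.Finite.of_finite_image (hfin.subset ?_)
    ((ofScheme_injective (overOpen U W)).injOn (s := {w : ↥W | IsMaxPt w}))
  rintro _ ⟨w, hw, rfl⟩
  exact ⟨overOpen U W, 𝟙 _, w, repWith_id _ _, rfl,
    dim_zero_of_isMaxPt (X := (overOpen U W).left) w hw⟩

theorem DB (X : AlgSp.Space S)
    (hD : ∀ (Y : AlgSp.Space S) (g : Y ⟶ X), IsEtaleMor g.hom → IsQuasiCompactSp Y.obj →
      (irreducibleComponents (Points Y.obj)).Finite) :
    ∀ (U : Over S) (a : (yon S).obj U ⟶ X.obj), RepWith @Etale a → PP U.left := by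
  intro U a hae W hW
  have hc : CompactSpace ↥(overOpen U W).left := isCompact_iff_compactSpace.mp hW
  have hfin := hD ⟨(yon S).obj (overOpen U W), IsAlgSpace.yon_obj _⟩
    (ObjectProperty.homMk ((yon S).map (overOpenι U W) ≫ a))
    (fun V φ hφ => (RepWith @Etale).comp_mem _ _ hφ (repWith_etale_restrict a hae W))
    (isQuasiCompactSp_yon_of_compactSpace (overOpen U W))
  exact finite_irreducibleComponents_of_homeomorph (Points.schemeHomeo (overOpen U W)).symm hfin

theorem main10304 (X : AlgSp.Space S) :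
    (AlgSp.EtaleLocally (fun U => ∀ W : U.Opens, IsCompact (W : Set ↥U) → (irreducibleComponents ↥W).Finite) X.obj ↔
      ∀ (U : Over S) (a : (AlgSp.yon S).obj U ⟶ X.obj), AlgSp.RepWith @Etale a →
        ∀ W : U.left.Opens, IsCompact (W : Set ↥U.left) → (irreducibleComponents ↥W).Finite) ∧
    (AlgSp.EtaleLocally (fun U => ∀ W : U.Opens, IsCompact (W : Set ↥U) → (irreducibleComponents ↥W).Finite) X.obj ↔
      ∀ (Y : AlgSp.Space S) (g : Y ⟶ X), AlgSp.IsEtaleMor g.hom → AlgSp.IsQuasiCompactSp Y.obj →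
        {y : AlgSp.Points Y.obj |
          AlgSp.HasAt (fun U u => ringKrullDim ↥(U.presheaf.stalk u) = 0) Y.obj y}.Finite) ∧
    (AlgSp.EtaleLocally (fun U => ∀ W : U.Opens, IsCompact (W : Set ↥U) → (irreducibleComponents ↥W).Finite) X.obj ↔
      ∀ (Y : AlgSp.Space S) (g : Y ⟶ X), AlgSp.IsEtaleMor g.hom → AlgSp.IsQuasiCompactSp Y.obj →
        (irreducibleComponents (AlgSp.Points Y.obj)).Finite) :=
  ⟨⟨AB X, BA X⟩, ⟨fun h => BC X (AB X h), fun h => BA X (CB X h)⟩,
    ⟨fun h => BD X (AB X h), fun h => BA X (DB X h)⟩⟩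

end Groth.Agent.Lib.Helper6.IrredTfae
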