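import Mathlib
import Groth.Agent.Lib.Helper6.JacCritA
import Groth.Agent.Lib.Helper6.JacCritB

set_option autoImplicit false

namespace Groth.Agent.Lib.Helper6.JacCritC

open TensorProduct Groth.Agent.Lib.Helper6.JacCritA Groth.Agent.Lib.Helper6.JacCritB

universe u

section Final

variable {A B C : Type u} [CommRing A] [CommRing B] [CommRing C] [Algebra A B] [Algebra B C]
  [Algebra A C] [IsScalarTower A B C]

variable (A) in
/-- the extension of `C` defined by a surjection `B → C` -/
@[reducible] noncomputable def ext (hsurj : Function.Surjective (algebraMap B C)) :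
    Algebra.Extension.{u} A C :=
  { Ring := B, σ := Function.surjInv hsurj, algebraMap_σ := Function.surjInv_eq hsurj }

theorem injective_iff_E (hsurj : Function.Surjective (algebraMap B C))
    (κ : Type*) [AddCommGroup κ] [Module B κ] [Module C κ] [IsScalarTower B C κ] :
    Function.Injective ((KaehlerDifferential.kerCotangentToTensor A B C).lTensor κ) ↔
    Function.Injective ((ext A hsurj).cotangentComplex.lTensor κ) := by
  have hc1 : TensorProduct.CompatibleSMul B C κ (ext A hsurj).Cotangent := ⟨fun c m n => by
    obtain ⟨b, rfl⟩ := hsurj c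
    rw [algebraMap_smul, algebraMap_smul, TensorProduct.smul_tmul]⟩
  have hc2 : TensorProduct.CompatibleSMul B C κ (ext A hsurj).CotangentSpace := ⟨fun c m n => by
    obtain ⟨b, rfl⟩ := hsurj c
    rw [algebraMap_smul, algebraMap_smul, TensorProduct.smul_tmul]⟩
  let e₁ : κ ⊗[C] (ext A hsurj).Cotangent ≃ₗ[B] κ ⊗[B] (ext A hsurj).Cotangent :=
    TensorProduct.equivOfCompatibleSMul B C B κ (ext A hsurj).Cotangent
  let e₁' : κ ⊗[B] (ext A hsurj).Cotangent ≃ₗ[B] κ ⊗[B] (RingHom.ker (algebraMap B C)).Cotangent :=
    LinearEquiv.lTensor κ (ext A hsurj).cotangentEquivCotangentKer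
  let e₂ : κ ⊗[C] (ext A hsurj).CotangentSpace ≃ₗ[B] κ ⊗[B] (C ⊗[B] Ω[B⁄A]) :=
    TensorProduct.equivOfCompatibleSMul B C B κ (ext A hsurj).CotangentSpace
  have hcomm : ∀ x, e₂ ((ext A hsurj).cotangentComplex.lTensor κ x) =
      (KaehlerDifferential.kerCotangentToTensor A B C).lTensor κ (e₁' (e₁ x)) := by
    intro x
    induction x using TensorProduct.induction_on with
    | zero => simp
    | add x y hx hy => simp only [map_add, hx, hy]
    | tmul k n => rfl
  constructor
  · intro h x y hxy
    have h1 := congrArg e₂ hxy
    rw [hcomm, hcomm] at h1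
    exact e₁.injective (e₁'.injective (h h1))
  · intro h x y hxy
    obtain ⟨x', rfl⟩ := e₁'.surjective x
    obtain ⟨y', rfl⟩ := e₁'.surjective y
    obtain ⟨x'', rfl⟩ := e₁.surjective x'
    obtain ⟨y'', rfl⟩ := e₁.surjective y'
    rw [← hcomm, ← hcomm] at hxy
    rw [h (e₂.injective hxy)]

theorem formallySmooth_atPrime_of_away (p : Ideal C) [p.IsPrime] (f : C) (hf : f ∉ p)
    [Algebra.FormallySmooth A (Localization.Away f)] :
    Algebra.FormallySmooth A (Localization.AtPrime p) := by
  have hle : Submonoid.powers f ≤ p.primeCompl := by
    rw [Submonoid.powers_le]; exact hf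
  letI : Algebra (Localization.Away f) (Localization.AtPrime p) :=
    IsLocalization.localizationAlgebraOfSubmonoidLe (Localization.Away f)
      (Localization.AtPrime p) (Submonoid.powers f) p.primeCompl hle
  haveI : IsScalarTower C (Localization.Away f) (Localization.AtPrime p) :=
    IsLocalization.localization_isScalarTower_of_submonoid_le (Localization.Away f)
      (Localization.AtPrime p) (Submonoid.powers f) p.primeCompl hle
  haveI : IsLocalization (p.primeCompl.map (algebraMap C (Localization.Away f)))
      (Localization.AtPrime p) :=
    IsLocalization.isLocalization_of_submonoid_le (Localization.Away f)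
      (Localization.AtPrime p) (Submonoid.powers f) p.primeCompl hle
  haveI : IsScalarTower A (Localization.Away f) (Localization.AtPrime p) := by
    refine IsScalarTower.of_algebraMap_eq fun a => ?_
    rw [IsScalarTower.algebraMap_apply A C (Localization.AtPrime p),
      IsScalarTower.algebraMap_apply C (Localization.Away f) (Localization.AtPrime p),
      ← IsScalarTower.algebraMap_apply A C (Localization.Away f)]
  haveI : Algebra.FormallySmooth (Localization.Away f) (Localization.AtPrime p) :=
    Algebra.FormallySmooth.of_isLocalization
      (p.primeCompl.map (algebraMap C (Localization.Away f)))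
  exact Algebra.FormallySmooth.comp A (Localization.Away f) (Localization.AtPrime p)

theorem main [Algebra.FormallySmooth A B] (hsurj : Function.Surjective (algebraMap B C))
    [Module.Finite B (RingHom.ker (algebraMap B C)).Cotangent] (p : Ideal C) [p.IsPrime] :
    [Algebra.FormallySmooth A (Localization.AtPrime p),
     Function.Injective
      ((KaehlerDifferential.kerCotangentToTensor A B C).lTensor p.ResidueField),
     ∃ f : C, f ∉ p ∧ Algebra.FormallySmooth A (Localization.Away f)].TFAE := by
  haveI : Algebra.FormallySmooth A (ext A hsurj).Ring := ‹Algebra.FormallySmooth A B›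
  haveI : Module.Finite C (ext A hsurj).Cotangent := by
    haveI : Module.Finite B (ext A hsurj).Cotangent :=
      Module.Finite.equiv (ext A hsurj).cotangentEquivCotangentKer.symm
    exact Module.Finite.of_restrictScalars_finite B C (ext A hsurj).Cotangent
  haveI : Module.Projective C (ext A hsurj).CotangentSpace := inferInstance
  have hE := injective_iff_E (A := A) hsurj p.ResidueField
  tfae_have 1 ↔ 2 := by
    rw [hE, ← retraction_iff p (ext A hsurj).cotangentComplex]
    exact formallySmooth_iff_retraction (ext A hsurj) (Localization.AtPrime p) p.primeCompl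
  tfae_have 2 → 3 := by
    intro h2
    rw [hE] at h2
    obtain ⟨g, hg, ρ', hρ'⟩ := exists_almost_retraction p (ext A hsurj).cotangentComplex h2
    refine ⟨g, hg, ?_⟩
    rw [formallySmooth_iff_retraction (ext A hsurj) (Localization.Away g) (Submonoid.powers g)]
    obtain ⟨u, hu⟩ : IsUnit (algebraMap C (Localization.Away g) g) :=
      IsLocalization.Away.algebraMap_isUnit g
    refine ⟨(↑u⁻¹ : Localization.Away g) • ρ'.baseChange (Localization.Away g), ?_⟩
    refine LinearMap.ext fun x => ?_
    have key : ∀ x, ρ'.baseChange (Localization.Away g)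
        ((ext A hsurj).cotangentComplex.baseChange _ x) = g • x := by
      intro x
      induction x using TensorProduct.induction_on with
      | zero => simp
      | add x y hx hy => simp only [map_add, hx, hy, smul_add]
      | tmul t n =>
        rw [LinearMap.baseChange_tmul, LinearMap.baseChange_tmul]
        have h3 := LinearMap.congr_fun hρ' n
        simp only [LinearMap.comp_apply, LinearMap.smul_apply, LinearMap.id_apply] at h3
        rw [h3, tmul_smul]
    rw [LinearMap.comp_apply, LinearMap.smul_apply, key, LinearMap.id_apply,
      ← algebraMap_smul (Localization.Away g) g x, ← hu, smul_smul, Units.inv_mul, one_smul]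
  tfae_have 3 → 1 := by
    rintro ⟨f, hf, hsm⟩
    exact formallySmooth_atPrime_of_away p f hf
  tfae_finish

end Final

end Groth.Agent.Lib.Helper6.JacCritC
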