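import Mathlib
import Groth.Agent.Lib.Helper6.JacMinorA

/-!
# Jacobian minors: the cotangent map of `R[x]/(F)` in coordinates
-/

set_option autoImplicit false
universe u

namespace Groth.Agent.Lib.Helper6.JacMinorB

open TensorProduct MvPolynomial KaehlerDifferential Groth.Agent.Lib.Helper6.JacMinorA

section

variable (R : Type u) [CommRing R] (n : ℕ)

theorem D_eq_sum (f : MvPolynomial (Fin n) R) :
    D R (MvPolynomial (Fin n) R) f =
      ∑ i, pderiv i f • D R (MvPolynomial (Fin n) R) (X i) := by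
  have h := (mvPolynomialBasis R (Fin n)).sum_repr (D R _ f)
  simp only [mvPolynomialBasis_repr_apply, mvPolynomialBasis_apply] at h
  exact h.symm

end

section

variable (R : Type u) [CommRing R] (n c : ℕ) (F : Fin c → MvPolynomial (Fin n) R)
  (q : Ideal (MvPolynomial (Fin n) R ⧸ Ideal.span (Set.range F))) [q.IsPrime]

local notation "PP" => MvPolynomial (Fin n) R
local notation "SS" => MvPolynomial (Fin n) R ⧸ Ideal.span (Set.range F)
local notation "KK" => RingHom.ker (algebraMap (MvPolynomial (Fin n) R)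
  (MvPolynomial (Fin n) R ⧸ Ideal.span (Set.range F)))

theorem hK : KK = Ideal.span (Set.range F) := by
  rw [Ideal.Quotient.algebraMap_eq, Ideal.mk_ker]

theorem hKκ (k : PP) (hk : k ∈ KK) : algebraMap PP q.ResidueField k = 0 := by
  rw [IsScalarTower.algebraMap_apply PP SS q.ResidueField, RingHom.mem_ker.mp hk, map_zero]

/-- the Jacobian matrix at `q` -/
noncomputable def Jm : Matrix (Fin c) (Fin n) q.ResidueField :=
  fun j i => algebraMap PP q.ResidueField (pderiv i (F j))

/-- the images of `dx_i` -/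
noncomputable def ee (i : Fin n) : q.ResidueField ⊗[PP] (SS ⊗[PP] Ω[PP⁄R]) :=
  (1 : q.ResidueField) ⊗ₜ[PP] ((1 : SS) ⊗ₜ[PP] D R PP (X i))

theorem tmul_D (f : PP) : (1 : q.ResidueField) ⊗ₜ[PP] ((1 : SS) ⊗ₜ[PP] D R PP f)
    = ∑ i, algebraMap PP q.ResidueField (pderiv i f) • ee R n c F q i := by
  rw [D_eq_sum, TensorProduct.tmul_sum, TensorProduct.tmul_sum]
  refine Finset.sum_congr rfl (fun i _ => ?_)
  rw [TensorProduct.tmul_smul, TensorProduct.tmul_smul, ee, algebraMap_smul]

/-- coordinate functionals -/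
noncomputable def lam (i : Fin n) :
    q.ResidueField ⊗[PP] (SS ⊗[PP] Ω[PP⁄R]) →ₗ[q.ResidueField] q.ResidueField :=
  LinearMap.liftBaseChange q.ResidueField
    ((LinearMap.mul' PP q.ResidueField) ∘ₗ
      (TensorProduct.map (IsScalarTower.toAlgHom PP SS q.ResidueField).toLinearMap
        ((Algebra.linearMap PP q.ResidueField) ∘ₗ (pderiv i).liftKaehlerDifferential)))

theorem lam_apply (i : Fin n) (f : PP) :
    lam R n c F q i ((1 : q.ResidueField) ⊗ₜ[PP] ((1 : SS) ⊗ₜ[PP] D R PP f)) =
      algebraMap PP q.ResidueField (pderiv i f) := by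
  rw [lam, LinearMap.liftBaseChange_tmul, one_smul, LinearMap.comp_apply,
    TensorProduct.map_tmul, LinearMap.mul'_apply, AlgHom.toLinearMap_apply, map_one, one_mul,
    LinearMap.comp_apply, Derivation.liftKaehlerDifferential_comp_D, Algebra.linearMap_apply]

/-- the fibre of the cotangent map -/
noncomputable abbrev TT : q.ResidueField ⊗[PP] (Ideal.Cotangent KK) →ₗ[PP]
    q.ResidueField ⊗[PP] (SS ⊗[PP] Ω[PP⁄R]) :=
  (kerCotangentToTensor R PP SS).lTensor q.ResidueField

theorem TT_sum (a : Fin c → q.ResidueField) :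
    TT R n c F q (∑ j, a j • ((1 : q.ResidueField) ⊗ₜ[PP] m F KK (hK R n c F) j)) =
      ∑ j, a j • ((1 : q.ResidueField) ⊗ₜ[PP] ((1 : SS) ⊗ₜ[PP] D R PP (F j))) := by
  have h1 : ∀ z, TT R n c F q z =
      (kerCotangentToTensor R PP SS).baseChange q.ResidueField z :=
    fun z => (congrFun (LinearMap.baseChange_eq_ltensor _) z).symm
  rw [h1, map_sum]
  refine Finset.sum_congr rfl (fun j _ => ?_)
  rw [map_smul, LinearMap.baseChange_tmul, m, kerCotangentToTensor_toCotangent]

theorem injective_of_minor (I : Fin c ↪ Fin n)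
    (hdet : ((Jm R n c F q).submatrix id I).det ≠ 0) :
    Function.Injective (TT R n c F q) := by
  rw [injective_iff_map_eq_zero]
  intro z hz
  obtain ⟨a, rfl⟩ := exists_repr_tensor F KK (hK R n c F) (κ := q.ResidueField) z
  rw [TT_sum] at hz
  have h1 : ∀ i : Fin n, ∑ j, a j * Jm R n c F q j i = 0 := by
    intro i
    have h2 := congrArg (lam R n c F q i) hz
    rw [map_sum, map_zero] at h2
    simp only [map_smul, lam_apply, smul_eq_mul] at h2
    exact h2
  have h3 : Matrix.vecMul a ((Jm R n c F q).submatrix id I) = 0 := by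
    ext i
    simp only [Matrix.vecMul, dotProduct, Matrix.submatrix_apply, id_eq, Pi.zero_apply]
    exact h1 (I i)
  have h4 := Matrix.eq_zero_of_vecMul_eq_zero hdet h3
  rw [h4]
  simp

theorem exists_of_injective_of_minors_zero (hinj : Function.Injective (TT R n c F q))
    (hmin : ∀ I : Fin c ↪ Fin n, ((Jm R n c F q).submatrix id I).det = 0) :
    ∃ (j0 : Fin c) (s : PP), algebraMap PP q.ResidueField s ≠ 0 ∧
      s * F j0 ∈ Ideal.span (Set.range fun j : {j : Fin c // j ≠ j0} => F j) := by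
  have h1 : ¬ ∀ a : Fin c → q.ResidueField,
      Matrix.vecMul a (Jm R n c F q) = 0 → a = 0 := by
    intro h
    obtain ⟨I, hI⟩ := exists_minor_ne_zero _ h
    exact hI (hmin I)
  push Not at h1
  obtain ⟨a, ha0, hane⟩ := h1
  obtain ⟨j0, hj0⟩ : ∃ j0, a j0 ≠ 0 := by
    by_contra hcon
    push Not at hcon
    exact hane (funext hcon)
  have hz : ∑ j, a j • ((1 : q.ResidueField) ⊗ₜ[PP] m F KK (hK R n c F) j) = 0 := by
    apply hinj
    rw [TT_sum, map_zero]
    simp only [tmul_D, Finset.smul_sum, smul_smul]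
    rw [Finset.sum_comm]
    refine Finset.sum_eq_zero (fun i _ => ?_)
    rw [← Finset.sum_smul]
    have h2 : ∑ j, a j * algebraMap PP q.ResidueField (pderiv i (F j)) = 0 := by
      have h3 := congrFun ha0 i
      simpa [Matrix.vecMul, dotProduct, Jm] using h3
    rw [h2, zero_smul]
  obtain ⟨s, hs, hmem⟩ := step3 F KK (hK R n c F) (hKκ R n c F q) a j0 hj0 hz
  exact ⟨j0, s, hs, hmem⟩

end

end Groth.Agent.Lib.Helper6.JacMinorB
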