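import Mathlib
import Groth.Agent.Lib.Helper6.JacMinorB
import Groth.Agent.Lib.Helper6.JacCritC
import Groth.Agent.Lib.Helper12.DimFT2

/-!
# Jacobian minors: the dimension argument and the criterion
-/

set_option autoImplicit false
universe u

namespace Groth.Agent.Lib.Helper6.JacMinorC

open TensorProduct MvPolynomial Groth.Agent.Lib.Helper6.JacMinorA
  Groth.Agent.Lib.Helper6.JacMinorB

section

variable (R : Type u) [CommRing R] (n c : ℕ) (F : Fin c → MvPolynomial (Fin n) R)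
  (q : Ideal (MvPolynomial (Fin n) R ⧸ Ideal.span (Set.range F))) [q.IsPrime]

local notation "PP" => MvPolynomial (Fin n) R
local notation "SS" => MvPolynomial (Fin n) R ⧸ Ideal.span (Set.range F)

theorem dim_contra
    (hF : ∀ p : PrimeSpectrum R, Nontrivial (p.asIdeal.Fiber SS) →
      c ≤ n ∧ ringKrullDim (p.asIdeal.Fiber SS) = ((n - c : ℕ) : WithBot ℕ∞))
    (j0 : Fin c) (s : PP) (hs : algebraMap PP q.ResidueField s ≠ 0)
    (hmem : s * F j0 ∈ Ideal.span (Set.range fun j : {j : Fin c // j ≠ j0} => F j)) :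
    False := by
  classical
  obtain ⟨pp, hpp⟩ : ∃ pp : PrimeSpectrum R, pp.asIdeal = q.comap (algebraMap R SS) :=
    ⟨⟨q.comap (algebraMap R SS), inferInstance⟩, rfl⟩
  obtain ⟨ι, hι⟩ : ∃ ι : pp.asIdeal.ResidueField →+* q.ResidueField,
      ∀ r : R, ι (algebraMap R pp.asIdeal.ResidueField r) =
        algebraMap SS q.ResidueField (algebraMap R SS r) :=
    ⟨Ideal.ResidueField.map pp.asIdeal q (algebraMap R SS) hpp,
      fun r => Ideal.ResidueField.map_algebraMap _ _ _ hpp r⟩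
  obtain ⟨χ, hχC, hχX⟩ : ∃ χ : MvPolynomial (Fin n) pp.asIdeal.ResidueField →+* q.ResidueField,
      (∀ a, χ (C a) = ι a) ∧ ∀ i, χ (X i) = algebraMap PP q.ResidueField (X i) :=
    ⟨MvPolynomial.eval₂Hom ι (fun i => algebraMap PP q.ResidueField (X i)),
      fun a => MvPolynomial.eval₂Hom_C _ _ a, fun i => MvPolynomial.eval₂Hom_X' _ _ i⟩
  obtain ⟨ψ, hψX⟩ : ∃ ψ : PP →ₐ[R] MvPolynomial (Fin n) pp.asIdeal.ResidueField,
      ∀ i, ψ (X i) = X i :=
    ⟨MvPolynomial.aeval (fun i => X i), fun i => MvPolynomial.aeval_X _ i⟩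
  have hψC : ∀ r : R, ψ (C r) = C (algebraMap R pp.asIdeal.ResidueField r) := by
    intro r
    have h1 := ψ.commutes r
    rw [MvPolynomial.algebraMap_eq, MvPolynomial.algebraMap_apply] at h1
    exact h1
  have hχψ : ∀ f : PP, χ (ψ f) = algebraMap PP q.ResidueField f := by
    intro f
    induction f using MvPolynomial.induction_on with
    | C r =>
      rw [hψC, hχC, hι, ← IsScalarTower.algebraMap_apply R SS q.ResidueField,
        ← MvPolynomial.algebraMap_eq, ← IsScalarTower.algebraMap_apply R PP q.ResidueField]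
    | add f g hf hg => rw [map_add, map_add, hf, hg, map_add]
    | mul_X f i hf => rw [map_mul, map_mul, hf, hψX, hχX, map_mul]
  obtain ⟨fbar, hfbar⟩ : ∃ fbar : Fin c → MvPolynomial (Fin n) pp.asIdeal.ResidueField,
      ∀ j, fbar j = ψ (F j) := ⟨fun j => ψ (F j), fun _ => rfl⟩
  have hFκ : ∀ j, algebraMap PP q.ResidueField (F j) = 0 := fun j =>
    hKκ R n c F q (F j) (by rw [hK]; exact Ideal.subset_span ⟨j, rfl⟩)
  haveI hQprime : (RingHom.ker χ).IsPrime := RingHom.ker_isPrime χ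
  have hIQ : Ideal.span (Set.range fbar) ≤ RingHom.ker χ := by
    rw [Ideal.span_le]
    rintro _ ⟨j, rfl⟩
    rw [SetLike.mem_coe, RingHom.mem_ker, hfbar, hχψ, hFκ]
  obtain ⟨𝔓, h𝔓min, h𝔓Q⟩ := Ideal.exists_minimalPrimes_le hIQ
  haveI h𝔓prime : 𝔓.IsPrime := h𝔓min.1.1
  have h𝔓I : Ideal.span (Set.range fbar) ≤ 𝔓 := h𝔓min.1.2
  have hs𝔓 : ∀ 𝔓' : Ideal (MvPolynomial (Fin n) pp.asIdeal.ResidueField), 𝔓' ≤ 𝔓 →
      ψ s ∉ 𝔓' := by
    intro 𝔓' hle hmem'
    have h1 : ψ s ∈ RingHom.ker χ := h𝔓Q (hle hmem')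
    rw [RingHom.mem_ker, hχψ] at h1
    exact hs h1
  have hmem2 : ψ s * fbar j0 ∈
      Ideal.span (Set.range fun j : {j : Fin c // j ≠ j0} => fbar j) := by
    have h1 := Ideal.mem_map_of_mem ψ hmem
    rw [Ideal.map_span, map_mul] at h1
    have h2 : (⇑ψ '' Set.range fun j : {j : Fin c // j ≠ j0} => F j) =
        Set.range fun j : {j : Fin c // j ≠ j0} => fbar j := by
      rw [← Set.range_comp]
      congr 1
      funext j
      exact (hfbar j).symm
    rw [h2, ← hfbar] at h1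
    exact h1
  have h𝔓min' : 𝔓 ∈
      (Ideal.span (Set.range fun j : {j : Fin c // j ≠ j0} => fbar j)).minimalPrimes := by
    have hle' : Ideal.span (Set.range fun j : {j : Fin c // j ≠ j0} => fbar j) ≤
        Ideal.span (Set.range fbar) :=
      Ideal.span_mono (by rintro _ ⟨j, rfl⟩; exact ⟨j, rfl⟩)
    refine ⟨⟨h𝔓prime, hle'.trans h𝔓I⟩, ?_⟩
    rintro 𝔓' ⟨hp', hle''⟩ hle
    apply h𝔓min.2 ⟨hp', ?_⟩ hle
    rw [Ideal.span_le]
    rintro _ ⟨j, rfl⟩
    by_cases hj : j = j0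
    · rw [hj]
      rcases hp'.mem_or_mem (hle'' hmem2) with h | h
      · exact absurd h (hs𝔓 𝔓' hle)
      · exact h
    · exact hle'' (Ideal.subset_span ⟨⟨j, hj⟩, rfl⟩)
  have hcard : Fintype.card {j : Fin c // j ≠ j0} = c - 1 := by
    rw [Fintype.card_subtype_compl, Fintype.card_fin, Fintype.card_subtype_eq]
  have hht : 𝔓.height ≤ ((c - 1 : ℕ) : ℕ∞) := by
    have h1 : 𝔓 ∈ (Ideal.span (↑(Finset.univ.image
        fun j : {j : Fin c // j ≠ j0} => fbar j) : Set _)).minimalPrimes := by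
      rw [Finset.coe_image, Finset.coe_univ, Set.image_univ]
      exact h𝔓min'
    refine (Ideal.height_le_card_of_mem_minimalPrimes_span_finset h1).trans ?_
    have h2 : (Finset.univ.image fun j : {j : Fin c // j ≠ j0} => fbar j).card ≤ c - 1 := by
      refine Finset.card_image_le.trans ?_
      rw [Finset.card_univ, hcard]
    exact_mod_cast h2
  have hd : ringKrullDim (MvPolynomial (Fin n) pp.asIdeal.ResidueField) = (n : ℕ) := by
    rw [MvPolynomial.ringKrullDim_of_isNoetherianRing, ringKrullDim_eq_zero_of_field]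
    simp
  have hsum := Groth.Agent.Lib.Helper12.DimFT2.height_add_coheight' pp.asIdeal.ResidueField
    (MvPolynomial (Fin n) pp.asIdeal.ResidueField) n hd ⟨𝔓, h𝔓prime⟩
  have hq := Groth.Agent.Lib.Helper12.DimFT.ringKrullDim_quotient_eq_coheight
    (⟨𝔓, h𝔓prime⟩ : PrimeSpectrum (MvPolynomial (Fin n) pp.asIdeal.ResidueField))
  have hh := PrimeSpectrum.height_eq_orderHeight
    (⟨𝔓, h𝔓prime⟩ : PrimeSpectrum (MvPolynomial (Fin n) pp.asIdeal.ResidueField))
  -- the surjection from the fibre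
  obtain ⟨fA, hfA⟩ : ∃ fA : pp.asIdeal.ResidueField →ₐ[R]
      (MvPolynomial (Fin n) pp.asIdeal.ResidueField ⧸ 𝔓),
      ∀ a, fA a = Ideal.Quotient.mk 𝔓 (C a) :=
    ⟨(Ideal.Quotient.mkₐ R 𝔓).comp (IsScalarTower.toAlgHom R pp.asIdeal.ResidueField
      (MvPolynomial (Fin n) pp.asIdeal.ResidueField)), fun _ => rfl⟩
  have hg0 : ∀ a ∈ Ideal.span (Set.range F), ((Ideal.Quotient.mkₐ R 𝔓).comp ψ) a = 0 := by
    intro a ha
    have h1 : Ideal.span (Set.range F) ≤ RingHom.ker ((Ideal.Quotient.mkₐ R 𝔓).comp ψ) := by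
      rw [Ideal.span_le]
      rintro _ ⟨j, rfl⟩
      rw [SetLike.mem_coe, RingHom.mem_ker, AlgHom.comp_apply, Ideal.Quotient.mkₐ_eq_mk,
        Ideal.Quotient.eq_zero_iff_mem, ← hfbar]
      exact h𝔓I (Ideal.subset_span ⟨j, rfl⟩)
    exact RingHom.mem_ker.mp (h1 ha)
  obtain ⟨gA, hgA⟩ : ∃ gA : SS →ₐ[R] (MvPolynomial (Fin n) pp.asIdeal.ResidueField ⧸ 𝔓),
      ∀ f : PP, gA (Ideal.Quotient.mk _ f) = Ideal.Quotient.mk 𝔓 (ψ f) :=
    ⟨Ideal.Quotient.liftₐ _ ((Ideal.Quotient.mkₐ R 𝔓).comp ψ) hg0, fun _ => rfl⟩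
  obtain ⟨Θ, hΘ⟩ : ∃ Θ : pp.asIdeal.ResidueField ⊗[R] SS →ₐ[R]
      (MvPolynomial (Fin n) pp.asIdeal.ResidueField ⧸ 𝔓),
      ∀ a b, Θ (a ⊗ₜ b) = fA a * gA b :=
    ⟨Algebra.TensorProduct.productMap fA gA, Algebra.TensorProduct.productMap_apply_tmul fA gA⟩
  have hΘsurj : Function.Surjective Θ := by
    intro y
    obtain ⟨ybar, rfl⟩ := Ideal.Quotient.mk_surjective y
    induction ybar using MvPolynomial.induction_on with
    | C a =>
      refine ⟨a ⊗ₜ 1, ?_⟩
      rw [hΘ, map_one, mul_one, hfA]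
    | add f g hf hg =>
      obtain ⟨t1, h1⟩ := hf
      obtain ⟨t2, h2⟩ := hg
      exact ⟨t1 + t2, by rw [map_add, h1, h2, map_add]⟩
    | mul_X f i hf =>
      obtain ⟨t, ht⟩ := hf
      refine ⟨t * (1 ⊗ₜ Ideal.Quotient.mk _ (X i)), ?_⟩
      rw [map_mul, ht, hΘ, map_one, one_mul, hgA, hψX, map_mul]
  haveI : Nontrivial (pp.asIdeal.Fiber SS) := hΘsurj.nontrivial
  obtain ⟨hcn, hdimF⟩ := hF pp inferInstance
  have hsurj' : Function.Surjective (Θ.toRingHom) := hΘsurj
  have hle := ringKrullDim_le_of_surjective (R := pp.asIdeal.ResidueField ⊗[R] SS)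
    (S := MvPolynomial (Fin n) pp.asIdeal.ResidueField ⧸ 𝔓) Θ.toRingHom hsurj'
  rw [hdimF, hq] at hle
  have hco : Order.coheight (⟨𝔓, h𝔓prime⟩ :
      PrimeSpectrum (MvPolynomial (Fin n) pp.asIdeal.ResidueField)) ≤ ((n - c : ℕ) : ℕ∞) := by
    have h0 : ((n - c : ℕ) : WithBot ℕ∞) = (((n - c : ℕ) : ℕ∞) : WithBot ℕ∞) := by norm_cast
    rw [h0] at hle
    exact WithBot.coe_le_coe.mp hle
  rw [hh] at hht
  have h1 : (n : ℕ∞) ≤ ((c - 1 : ℕ) : ℕ∞) + ((n - c : ℕ) : ℕ∞) := by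
    rw [← hsum]
    exact add_le_add hht hco
  have h2 : n ≤ (c - 1) + (n - c) := by exact_mod_cast h1
  have hc1 : 0 < c := Fin.pos j0
  omega

theorem main
    (hF : ∀ p : PrimeSpectrum R, Nontrivial (p.asIdeal.Fiber SS) →
      c ≤ n ∧ ringKrullDim (p.asIdeal.Fiber SS) = ((n - c : ℕ) : WithBot ℕ∞)) :
    Algebra.IsSmoothAt R q ↔ ∃ I : Fin c ↪ Fin n,
      Ideal.Quotient.mk (Ideal.span (Set.range F))
        (Matrix.det (Matrix.of fun j i => MvPolynomial.pderiv (I i) (F j))) ∉ q := by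
  have hsurj : Function.Surjective (algebraMap PP SS) := Ideal.Quotient.mk_surjective
  haveI : Module.Finite PP (RingHom.ker (algebraMap PP SS)).Cotangent := by
    refine Module.Finite.of_surjective
      (Fintype.linearCombination PP (m F _ (hK R n c F))) ?_
    intro y
    obtain ⟨p, hp⟩ := exists_repr F _ (hK R n c F) y
    exact ⟨p, by rw [Fintype.linearCombination_apply]; exact hp.symm⟩
  have tfae := Groth.Agent.Lib.Helper6.JacCritC.main (A := R) (B := PP) (C := SS) hsurj q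
  have h12 : Algebra.IsSmoothAt R q ↔ Function.Injective (TT R n c F q) := tfae.out 0 1
  have hminor : ∀ I : Fin c ↪ Fin n,
      (Ideal.Quotient.mk (Ideal.span (Set.range F))
        (Matrix.det (Matrix.of fun j i => MvPolynomial.pderiv (I i) (F j))) ∉ q) ↔
      ((Jm R n c F q).submatrix id I).det ≠ 0 := by
    intro I
    have h1 : algebraMap SS q.ResidueField (Ideal.Quotient.mk _
        (Matrix.det (Matrix.of fun j i => MvPolynomial.pderiv (I i) (F j)))) =
        ((Jm R n c F q).submatrix id I).det := by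
      rw [← Ideal.Quotient.algebraMap_eq, ← IsScalarTower.algebraMap_apply PP SS q.ResidueField,
        RingHom.map_det]
      congr 1
    rw [← Ideal.algebraMap_residueField_eq_zero (I := q), h1]
  rw [h12]
  constructor
  · intro hinj
    by_contra hcon
    push Not at hcon
    have hmin : ∀ I : Fin c ↪ Fin n, ((Jm R n c F q).submatrix id I).det = 0 := by
      intro I
      by_contra h
      exact ((hminor I).mpr h) (hcon I)
    obtain ⟨j0, s, hs, hmem⟩ := exists_of_injective_of_minors_zero R n c F q hinj hmin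
    exact dim_contra R n c F q hF j0 s hs hmem
  · rintro ⟨I, hI⟩
    exact injective_of_minor R n c F q I ((hminor I).mp hI)

end

end Groth.Agent.Lib.Helper6.JacMinorC
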