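import Mathlib
import Groth.Agent.Lib.Helper6.FiberRankMono
import Groth.Agent.Lib.Helper6.CartierIneq3
import Groth.Agent.Lib.Helper12.DimFT2

/-!
# Fibre dimension of Kähler differentials of a finite type algebra over a field
is at least the dimension of any component through the point.
-/

namespace Groth.Agent.Lib.Helper6.KaehlerFiberDim

open TensorProduct Module

universe u

theorem le_finrank_kaehler_residueField (k : Type u) [Field k] (A : Type u) [CommRing A]
    [Algebra k A] [Algebra.FiniteType k A] (q : Ideal A) [q.IsPrime] (n : ℕ)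
    (hq : (n : WithBot ℕ∞) ≤ ringKrullDim (A ⧸ q)) :
    n ≤ finrank q.ResidueField (q.ResidueField ⊗[A] Ω[A⁄k]) := by
  obtain ⟨s, hs1, hs2, -⟩ := Groth.Agent.Lib.Helper12.DimFT2.exists_trdeg_residueField k A q
  have hns : n ≤ s := by rw [hs2] at hq; exact_mod_cast hq
  have hef : Algebra.EssFiniteType k q.ResidueField := Algebra.EssFiniteType.comp k A q.ResidueField
  obtain ⟨-, hfin, m, hm, hle⟩ := CartierIneq.good_of_essFiniteType k q.ResidueField
  have hms : m = s := by rw [hs1] at hm; exact_mod_cast hm.symm
  have hun1 : Algebra.FormallyUnramified A (Localization.AtPrime q) :=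
    Algebra.FormallyUnramified.of_isLocalization q.primeCompl
  have hun : Algebra.FormallyUnramified A q.ResidueField :=
    Algebra.FormallyUnramified.comp A (Localization.AtPrime q) q.ResidueField
  have hsurj : Function.Surjective (KaehlerDifferential.mapBaseChange k A q.ResidueField) := by
    rw [← LinearMap.range_eq_top,
      ← LinearMap.exact_iff.mp (KaehlerDifferential.exact_mapBaseChange_map k A q.ResidueField)]
    exact LinearMap.ker_eq_top.mpr (Subsingleton.elim _ _)
  have h3 : finrank q.ResidueField Ω[q.ResidueField⁄k] ≤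
      finrank q.ResidueField (q.ResidueField ⊗[A] Ω[A⁄k]) := by
    have h4 := LinearMap.finrank_range_le (KaehlerDifferential.mapBaseChange k A q.ResidueField)
    rwa [LinearMap.range_eq_top.mpr hsurj, finrank_top] at h4
  omega

theorem le_finrank_kaehler_fiber (k : Type u) [Field k] (A : Type u) [CommRing A]
    [Algebra k A] [Algebra.FiniteType k A] (n : ℕ) (P : Ideal A) [P.IsPrime]
    (q : Ideal A) [q.IsPrime] (hqP : q ≤ P) (hq : (n : WithBot ℕ∞) ≤ ringKrullDim (A ⧸ q)) :
    n ≤ finrank P.ResidueField (P.ResidueField ⊗[A] Ω[A⁄k]) :=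
  le_trans (le_finrank_kaehler_residueField k A q n hq)
    (FiberRankMono.finrank_fiber_mono Ω[A⁄k] q P hqP)

end Groth.Agent.Lib.Helper6.KaehlerFiberDim
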