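import Mathlib
import Groth.Prelude
import Groth.Agent.Lib.Helper23.GammaFieldK

set_option autoImplicit false
set_option linter.style.haveILetI false

universe u

open CategoryTheory CategoryTheory.Limits AlgebraicGeometry

namespace Groth.Agent.Lib.Helper6.KappaDvd

open Groth.Agent.Lib.Helper23 Groth.Agent.Lib.Helper23.GammaField

/-- (D1) the degree of the field of constants divides every cohomology dimension. -/
theorem finrank_H0_dvd_finrank_HH (k : Type u) [Field k] (Y : Scheme.{u})
    [Y.Over (Spec (CommRingCat.of k))] [IsProper (Y ↘ Spec (CommRingCat.of k))] [IsIntegral Y]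
    (F : Y.Modules) (p : ℕ) :
    Module.finrank k (Coh.HH Y (Coh.structureModule Y) 0) ∣ Module.finrank k (Coh.HH Y F p) := by
  rw [finrank_h0_structure k (X := Y)]
  exact finrank_dvd k F p

/-- (D2) the degree of the field of constants is positive. -/
theorem finrank_H0_pos (k : Type u) [Field k] (Y : Scheme.{u})
    [Y.Over (Spec (CommRingCat.of k))] [IsProper (Y ↘ Spec (CommRingCat.of k))] [IsIntegral Y] :
    0 < Module.finrank k (Coh.HH Y (Coh.structureModule Y) 0) := by
  haveI : Module.Finite k (Coh.HH Y (Coh.structureModule Y) 0) :=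
    T2.finite_HH k (Coh.structureModule Y) (T2.isCoh_structureModule Y) 0
  rw [finrank_h0_structure k (X := Y)]
  letI := algΓ k (X := Y)
  have hF : IsField (Coh.Γtop Y) :=
    isField_of_universallyClosed k (Y ↘ Spec (CommRingCat.of k))
  haveI : Nontrivial (Coh.Γtop Y) := hF.nontrivial
  haveI : Module.Finite k (Coh.Γtop Y) := by
    haveI := isScalarTower k (Coh.structureModule Y) 0
    haveI := isScalarTower_self k (X := Y)
    exact Module.Finite.equiv
      (((T2.H0equiv (Coh.structureModule Y)).trans e2).restrictScalars k)
  exact Module.finrank_pos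

end Groth.Agent.Lib.Helper6.KappaDvd
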