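import Mathlib

set_option autoImplicit false

namespace Groth.Agent.Lib.Helper6.KatzHyp

open MvPolynomial

section frob

variable (k : Type*) [Field k] [Fintype k]

theorem exists_char : ∃ p f : ℕ, p.Prime ∧ CharP k p ∧ Fintype.card k = p ^ f := by
  obtain ⟨p, hp⟩ := CharP.exists k
  obtain ⟨f, hpp, hf⟩ := FiniteField.card k p
  exact ⟨p, f, hpp, hp, hf⟩

variable {k}
variable {C' : Type*} [CommRing C'] [Algebra k C'] [Nontrivial C']

theorem exists_frob : ∃ φ : C' →+* C', ∀ x, φ x = x ^ Fintype.card k := by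
  obtain ⟨p, f, hp, hcp, hf⟩ := exists_char k
  haveI := hcp
  haveI : CharP C' p := charP_of_injective_algebraMap (algebraMap k C').injective p
  haveI : ExpChar C' p := ExpChar.prime hp
  exact ⟨iterateFrobenius C' p f, fun x => by rw [iterateFrobenius_def, hf]⟩

theorem algebraMap_pow_card (a : k) :
    (algebraMap k C' a) ^ Fintype.card k = algebraMap k C' a := by
  rw [← map_pow, FiniteField.pow_card]

end frob

section polys

variable (k : Type*) [Field k] [Fintype k] (n : ℕ)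

/-- the hypersurface equation -/
noncomputable def Fp : MvPolynomial (Fin (n + 1) ⊕ Fin (n + 1)) k :=
  ∑ i : Fin (n + 1), (X (Sum.inl i) * X (Sum.inr i) ^ Fintype.card k -
    X (Sum.inr i) * X (Sum.inl i) ^ Fintype.card k)

variable {k n}

/-- the linear form -/
noncomputable def Lp (c : Fin (n + 1) ⊕ Fin (n + 1) → k) :
    MvPolynomial (Fin (n + 1) ⊕ Fin (n + 1)) k :=
  ∑ v, C (c v) * X v

/-- the rational tangency point -/
def Pt (c : Fin (n + 1) ⊕ Fin (n + 1) → k) : Fin (n + 1) ⊕ Fin (n + 1) → k :=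
  Sum.elim (fun i => - c (Sum.inr i)) (fun i => c (Sum.inl i))

theorem exists_w (c : Fin (n + 1) ⊕ Fin (n + 1) → k) (hc : c ≠ 0) : ∃ w, Pt c w ≠ 0 := by
  obtain ⟨u₀, hu₀⟩ : ∃ u, c u ≠ 0 := by
    by_contra h
    push Not at h
    exact hc (funext h)
  rcases u₀ with i | i
  · exact ⟨Sum.inr i, by simpa [Pt] using hu₀⟩
  · exact ⟨Sum.inl i, by simpa [Pt] using hu₀⟩

variable {C' : Type*} [CommRing C'] [Algebra k C']

/-- value of the linear form with coefficients `c` -/
def Lv (c : Fin (n + 1) ⊕ Fin (n + 1) → k) (w : Fin (n + 1) ⊕ Fin (n + 1) → C') : C' :=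
  ∑ v, algebraMap k C' (c v) * w v

theorem aeval_Fp (x : Fin (n + 1) ⊕ Fin (n + 1) → C') :
    aeval x (Fp k n) = ∑ i : Fin (n + 1), (x (Sum.inl i) * x (Sum.inr i) ^ Fintype.card k -
      x (Sum.inr i) * x (Sum.inl i) ^ Fintype.card k) := by
  simp [Fp]

theorem aeval_Lp (c : Fin (n + 1) ⊕ Fin (n + 1) → k) (x : Fin (n + 1) ⊕ Fin (n + 1) → C') :
    aeval x (Lp c) = Lv c x := by
  simp [Lp, Lv]

theorem Lv_split (c : Fin (n + 1) ⊕ Fin (n + 1) → k) (w : Fin (n + 1) ⊕ Fin (n + 1) → C') :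
    Lv c w = ∑ i : Fin (n + 1), (algebraMap k C' (c (Sum.inl i)) * w (Sum.inl i) +
      algebraMap k C' (c (Sum.inr i)) * w (Sum.inr i)) := by
  rw [Lv, Fintype.sum_sum_type, ← Finset.sum_add_distrib]

theorem identityII (c : Fin (n + 1) ⊕ Fin (n + 1) → k) (w : Fin (n + 1) ⊕ Fin (n + 1) → C') :
    aeval (fun u => algebraMap k C' (Pt c u) + w u) (Lp c) = Lv c w := by
  rw [aeval_Lp, Lv_split, Lv_split, ← sub_eq_zero, ← Finset.sum_sub_distrib]
  apply Finset.sum_eq_zero
  intro i _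
  simp only [Pt, Sum.elim_inl, Sum.elim_inr, map_neg]
  ring

variable [Nontrivial C']

theorem identityI (c : Fin (n + 1) ⊕ Fin (n + 1) → k) (w : Fin (n + 1) ⊕ Fin (n + 1) → C') :
    aeval (fun u => algebraMap k C' (Pt c u) + w u) (Fp k n) =
      Lv c w - (Lv c w) ^ Fintype.card k + aeval w (Fp k n) := by
  obtain ⟨φ, hφ⟩ := exists_frob (k := k) (C' := C')
  have hA : ∀ a : k, (algebraMap k C' a) ^ Fintype.card k = algebraMap k C' a :=
    fun a => algebraMap_pow_card a
  have hL : (Lv c w) ^ Fintype.card k =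
      ∑ i : Fin (n + 1), (algebraMap k C' (c (Sum.inl i)) * w (Sum.inl i) ^ Fintype.card k +
        algebraMap k C' (c (Sum.inr i)) * w (Sum.inr i) ^ Fintype.card k) := by
    rw [← hφ, Lv_split, map_sum]
    apply Finset.sum_congr rfl
    intro i _
    rw [map_add, map_mul, map_mul, hφ, hφ, hφ, hφ, hA, hA]
  rw [aeval_Fp, aeval_Fp, hL, Lv_split, ← Finset.sum_sub_distrib, ← Finset.sum_add_distrib]
  apply Finset.sum_congr rfl
  intro i _
  simp only [Pt, Sum.elim_inl, Sum.elim_inr]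
  have e1 : (algebraMap k C' (-(c (Sum.inr i))) + w (Sum.inl i)) ^ Fintype.card k =
      algebraMap k C' (-(c (Sum.inr i))) + w (Sum.inl i) ^ Fintype.card k := by
    rw [← hφ, map_add, hφ, hφ, hA]
  have e2 : (algebraMap k C' (c (Sum.inl i)) + w (Sum.inr i)) ^ Fintype.card k =
      algebraMap k C' (c (Sum.inl i)) + w (Sum.inr i) ^ Fintype.card k := by
    rw [← hφ, map_add, hφ, hφ, hA]
  rw [e1, e2, map_neg]
  ring

end polys

section generic

variable {k : Type*} [Field k] [Fintype k] {n : ℕ}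
variable {Cq : Type*} [CommRing Cq] [Algebra k Cq] [Algebra (Polynomial k) Cq]
  [IsScalarTower k (Polynomial k) Cq] [Nontrivial Cq] (e : Cq)

theorem e_pow_ge (he : e ^ (Fintype.card k + 2) = 0) (m : ℕ) (h : Fintype.card k + 2 ≤ m) :
    e ^ m = 0 := by
  obtain ⟨d, rfl⟩ := Nat.exists_eq_add_of_le h
  rw [pow_add, he, zero_mul]

/-- perturbation vector -/
noncomputable def wv (v : Fin (n + 1) ⊕ Fin (n + 1) → Polynomial k)
    (y : Fin (n + 1) ⊕ Fin (n + 1) → Cq) : Fin (n + 1) ⊕ Fin (n + 1) → Cq :=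
  fun u => e * algebraMap (Polynomial k) Cq (v u) + e ^ (Fintype.card k + 1) * y u

/-- the jet -/
noncomputable def xv (c : Fin (n + 1) ⊕ Fin (n + 1) → k)
    (v : Fin (n + 1) ⊕ Fin (n + 1) → Polynomial k)
    (y : Fin (n + 1) ⊕ Fin (n + 1) → Cq) : Fin (n + 1) ⊕ Fin (n + 1) → Cq :=
  fun u => algebraMap k Cq (Pt c u) + wv e v y u

theorem wv_nilpotent (he : e ^ (Fintype.card k + 2) = 0)
    (v : Fin (n + 1) ⊕ Fin (n + 1) → Polynomial k)
    (y : Fin (n + 1) ⊕ Fin (n + 1) → Cq) (u : Fin (n + 1) ⊕ Fin (n + 1)) :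
    IsNilpotent (wv e v y u) := by
  refine ⟨Fintype.card k + 2, ?_⟩
  have h : wv e v y u = e * (algebraMap (Polynomial k) Cq (v u) +
      e ^ Fintype.card k * y u) := by
    unfold wv; ring
  rw [h, mul_pow, he, zero_mul]

theorem Wterm (he : e ^ (Fintype.card k + 2) = 0)
    (a₁ : Polynomial k) (y₁ : Cq) (a₂ : Polynomial k) (y₂ : Cq) :
    (e * algebraMap (Polynomial k) Cq a₁ + e ^ (Fintype.card k + 1) * y₁) *
      (e * algebraMap (Polynomial k) Cq a₂ + e ^ (Fintype.card k + 1) * y₂) ^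
        Fintype.card k =
    e ^ (Fintype.card k + 1) *
      algebraMap (Polynomial k) Cq (a₁ * a₂ ^ Fintype.card k) := by
  obtain ⟨φ, hφ⟩ := exists_frob (k := k) (C' := Cq)
  have hq : 2 ≤ Fintype.card k := Fintype.one_lt_card
  have z1 : (e ^ (Fintype.card k + 1)) ^ Fintype.card k = 0 := by
    rw [← pow_mul]
    exact e_pow_ge e he _ (by nlinarith)
  have z2 : e ^ (Fintype.card k + 1) * e ^ Fintype.card k = 0 := by
    rw [← pow_add]
    exact e_pow_ge e he _ (by omega)
  have h1 : (e * algebraMap (Polynomial k) Cq a₂ + e ^ (Fintype.card k + 1) * y₂) ^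
      Fintype.card k = e ^ Fintype.card k *
        (algebraMap (Polynomial k) Cq a₂) ^ Fintype.card k := by
    rw [← hφ, map_add, map_mul, map_mul, hφ, hφ, hφ, hφ, z1, zero_mul, add_zero]
  rw [h1, map_mul, map_pow]
  linear_combination (y₁ * (algebraMap (Polynomial k) Cq a₂) ^ Fintype.card k) * z2

theorem lemmaW (he : e ^ (Fintype.card k + 2) = 0)
    (v : Fin (n + 1) ⊕ Fin (n + 1) → Polynomial k)
    (y : Fin (n + 1) ⊕ Fin (n + 1) → Cq) :
    aeval (wv e v y) (Fp k n) = e ^ (Fintype.card k + 1) *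
      algebraMap (Polynomial k) Cq
        (∑ l : Fin (n + 1), (v (Sum.inl l) * v (Sum.inr l) ^ Fintype.card k -
          v (Sum.inr l) * v (Sum.inl l) ^ Fintype.card k)) := by
  rw [aeval_Fp, map_sum, Finset.mul_sum]
  apply Finset.sum_congr rfl
  intro l _
  unfold wv
  rw [Wterm e he, Wterm e he, map_sub, mul_sub]

theorem lemmaW2 (c : Fin (n + 1) ⊕ Fin (n + 1) → k)
    (v : Fin (n + 1) ⊕ Fin (n + 1) → Polynomial k)
    (hv : ∑ u, algebraMap k (Polynomial k) (c u) * v u = 0)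
    (y : Fin (n + 1) ⊕ Fin (n + 1) → Cq) :
    Lv c (wv e v y) = e ^ (Fintype.card k + 1) * Lv c y := by
  have h0 : ∑ u, algebraMap k Cq (c u) * algebraMap (Polynomial k) Cq (v u) = 0 := by
    have h := congrArg (algebraMap (Polynomial k) Cq) hv
    rw [map_sum, map_zero] at h
    rw [← h]
    apply Finset.sum_congr rfl
    intro u _
    rw [map_mul, ← IsScalarTower.algebraMap_apply]
  unfold Lv wv
  calc ∑ u, algebraMap k Cq (c u) *
        (e * algebraMap (Polynomial k) Cq (v u) + e ^ (Fintype.card k + 1) * y u)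
      = e * ∑ u, algebraMap k Cq (c u) * algebraMap (Polynomial k) Cq (v u) +
        e ^ (Fintype.card k + 1) * ∑ u, algebraMap k Cq (c u) * y u := by
        rw [Finset.mul_sum, Finset.mul_sum, ← Finset.sum_add_distrib]
        apply Finset.sum_congr rfl
        intro u _
        ring
    _ = e ^ (Fintype.card k + 1) * ∑ u, algebraMap k Cq (c u) * y u := by
        rw [h0, mul_zero, zero_add]

theorem eval_L (c : Fin (n + 1) ⊕ Fin (n + 1) → k)
    (v : Fin (n + 1) ⊕ Fin (n + 1) → Polynomial k)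
    (hv : ∑ u, algebraMap k (Polynomial k) (c u) * v u = 0)
    (y : Fin (n + 1) ⊕ Fin (n + 1) → Cq) :
    aeval (xv e c v y) (Lp c) = e ^ (Fintype.card k + 1) * Lv c y := by
  unfold xv
  rw [identityII, lemmaW2 e c v hv y]

theorem eval_F (he : e ^ (Fintype.card k + 2) = 0) (c : Fin (n + 1) ⊕ Fin (n + 1) → k)
    (v : Fin (n + 1) ⊕ Fin (n + 1) → Polynomial k)
    (hv : ∑ u, algebraMap k (Polynomial k) (c u) * v u = 0)
    (y : Fin (n + 1) ⊕ Fin (n + 1) → Cq) :
    aeval (xv e c v y) (Fp k n) = e ^ (Fintype.card k + 1) * Lv c y -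
      (e ^ (Fintype.card k + 1) * Lv c y) ^ Fintype.card k +
      e ^ (Fintype.card k + 1) * algebraMap (Polynomial k) Cq
        (∑ l : Fin (n + 1), (v (Sum.inl l) * v (Sum.inr l) ^ Fintype.card k -
          v (Sum.inr l) * v (Sum.inl l) ^ Fintype.card k)) := by
  unfold xv
  rw [identityI, lemmaW2 e c v hv y, lemmaW e he]

theorem key (he : e ^ (Fintype.card k + 2) = 0)
    (hE3 : ∀ κ : Polynomial k,
      e ^ (Fintype.card k + 1) * algebraMap (Polynomial k) Cq κ = 0 → κ = 0)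
    (c : Fin (n + 1) ⊕ Fin (n + 1) → k)
    (v : Fin (n + 1) ⊕ Fin (n + 1) → Polynomial k)
    (hv : ∑ u, algebraMap k (Polynomial k) (c u) * v u = 0)
    (y : Fin (n + 1) ⊕ Fin (n + 1) → Cq)
    (hF : aeval (xv e c v y) (Fp k n) = 0) (hL : aeval (xv e c v y) (Lp c) = 0) :
    (∑ l : Fin (n + 1), (v (Sum.inl l) * v (Sum.inr l) ^ Fintype.card k -
          v (Sum.inr l) * v (Sum.inl l) ^ Fintype.card k)) = 0 := by
  rw [eval_L e c v hv y] at hL
  rw [eval_F e he c v hv y, hL, zero_pow (Fintype.card_ne_zero), sub_zero, zero_add] at hF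
  exact hE3 _ hF

end generic

section vexists

variable {k : Type*} [Field k] [Fintype k] {n : ℕ}

theorem exists_v (hn : 1 ≤ n) (c : Fin (n + 1) ⊕ Fin (n + 1) → k) (hc : c ≠ 0) :
    ∃ v : Fin (n + 1) ⊕ Fin (n + 1) → Polynomial k,
      (∑ u, algebraMap k (Polynomial k) (c u) * v u = 0) ∧
      (∑ l : Fin (n + 1), (v (Sum.inl l) * v (Sum.inr l) ^ Fintype.card k -
          v (Sum.inr l) * v (Sum.inl l) ^ Fintype.card k)) ≠ 0 := by
  classical
  obtain ⟨u₀, hu₀⟩ : ∃ u, c u ≠ 0 := by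
    by_contra h
    push Not at h
    exact hc (funext h)
  obtain ⟨j, α, β, hαβ⟩ : ∃ (j : Fin (n + 1)) (α β : k),
      c (Sum.inl j) * α + c (Sum.inr j) * β = 1 := by
    rcases u₀ with j | j
    · exact ⟨j, (c (Sum.inl j))⁻¹, 0, by simp [hu₀]⟩
    · exact ⟨j, 0, (c (Sum.inr j))⁻¹, by simp [hu₀]⟩
  haveI : Nontrivial (Fin (n + 1)) := Fin.nontrivial_iff_two_le.mpr (by omega)
  obtain ⟨i, hij⟩ := exists_ne j
  set a : k →+* Polynomial k := algebraMap k (Polynomial k) with ha
  set t : Polynomial k := Polynomial.X with ht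
  set m : Polynomial k := -(a (c (Sum.inl i)) + a (c (Sum.inr i)) * t) with hm
  let vX : Fin (n + 1) → Polynomial k := fun l => if l = i then 1 else if l = j then a α * m else 0
  let vY : Fin (n + 1) → Polynomial k := fun l => if l = i then t else if l = j then a β * m else 0
  have vXi : vX i = 1 := by simp [vX]
  have vYi : vY i = t := by simp [vY]
  have vXj : vX j = a α * m := by simp [vX, hij.symm]
  have vYj : vY j = a β * m := by simp [vY, hij.symm]
  have vX0 : ∀ l, l ≠ i ∧ l ≠ j → vX l = 0 := fun l hl => by simp [vX, hl.1, hl.2]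
  have vY0 : ∀ l, l ≠ i ∧ l ≠ j → vY l = 0 := fun l hl => by simp [vY, hl.1, hl.2]
  have hq0 : Fintype.card k ≠ 0 := Fintype.card_ne_zero
  refine ⟨Sum.elim vX vY, ?_, ?_⟩
  · rw [Fintype.sum_sum_type]
    simp only [Sum.elim_inl, Sum.elim_inr]
    rw [Finset.sum_eq_add i j hij (fun l _ hl => by rw [vX0 l hl, mul_zero])
        (fun h => absurd (Finset.mem_univ _) h) (fun h => absurd (Finset.mem_univ _) h),
      Finset.sum_eq_add i j hij (fun l _ hl => by rw [vY0 l hl, mul_zero])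
        (fun h => absurd (Finset.mem_univ _) h) (fun h => absurd (Finset.mem_univ _) h),
      vXi, vXj, vYi, vYj]
    have h1 : a (c (Sum.inl j)) * a α + a (c (Sum.inr j)) * a β = 1 := by
      rw [← map_mul, ← map_mul, ← map_add, hαβ, map_one]
    rw [hm]
    linear_combination (-(a (c (Sum.inl i)) + a (c (Sum.inr i)) * t)) * h1
  · rw [Finset.sum_eq_add i j hij
        (fun l _ hl => by
          simp only [Sum.elim_inl, Sum.elim_inr]
          rw [vX0 l hl, vY0 l hl, zero_mul, sub_zero])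
        (fun h => absurd (Finset.mem_univ _) h) (fun h => absurd (Finset.mem_univ _) h)]
    simp only [Sum.elim_inl, Sum.elim_inr]
    rw [vXi, vXj, vYi, vYj]
    have hα : (a α) ^ Fintype.card k = a α := by rw [← map_pow, FiniteField.pow_card]
    have hβ : (a β) ^ Fintype.card k = a β := by rw [← map_pow, FiniteField.pow_card]
    have h2 : a α * m * (a β * m) ^ Fintype.card k - a β * m * (a α * m) ^ Fintype.card k = 0 := by
      rw [mul_pow, mul_pow, hα, hβ]; ring
    rw [h2, add_zero, one_pow, one_mul, mul_one]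
    exact FiniteField.X_pow_card_sub_X_ne_zero k Fintype.one_lt_card

end vexists

section main

variable (k : Type*) [Field k] [Fintype k] (n : ℕ)

theorem not_formallySmooth_aux {Cq : Type*} [CommRing Cq] [Algebra k Cq]
    [Algebra (Polynomial k) Cq] [IsScalarTower k (Polynomial k) Cq] [Nontrivial Cq] (e : Cq)
    (he : e ^ (Fintype.card k + 2) = 0)
    (hE3 : ∀ κ : Polynomial k,
      e ^ (Fintype.card k + 1) * algebraMap (Polynomial k) Cq κ = 0 → κ = 0)
    (hn : 1 ≤ n) (c : Fin (n + 1) ⊕ Fin (n + 1) → k) (hc : c ≠ 0)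
    (w : Fin (n + 1) ⊕ Fin (n + 1)) (hw : Pt c w ≠ 0) :
    ¬ Algebra.FormallySmooth k
      (Localization.Away (Ideal.Quotient.mk (Ideal.span {Fp k n, Lp c}) (X w))) := by
  intro hfs
  obtain ⟨v, hv1, hv2⟩ := exists_v hn c hc
  have hI : (Ideal.span {e ^ (Fintype.card k + 1)} : Ideal Cq) ^ 2 = ⊥ := by
    rw [Ideal.span_singleton_pow, Ideal.span_singleton_eq_bot, ← pow_mul]
    exact e_pow_ge e he _ (by omega)
  have hF0 : aeval (xv e c v 0) (Fp k n) ∈ (Ideal.span {e ^ (Fintype.card k + 1)} : Ideal Cq) := by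
    rw [eval_F e he c v hv1 0]
    have h0 : Lv c (0 : Fin (n + 1) ⊕ Fin (n + 1) → Cq) = 0 := by simp [Lv]
    rw [h0, mul_zero, zero_pow (Fintype.card_ne_zero), sub_zero, zero_add]
    exact Ideal.mul_mem_right _ _ (Ideal.mem_span_singleton_self _)
  have hL0 : aeval (xv e c v 0) (Lp c) = 0 := by
    rw [eval_L e c v hv1 0]
    have h0 : Lv c (0 : Fin (n + 1) ⊕ Fin (n + 1) → Cq) = 0 := by simp [Lv]
    rw [h0, mul_zero]
  have hker : ∀ a ∈ (Ideal.span {Fp k n, Lp c} :
      Ideal (MvPolynomial (Fin (n + 1) ⊕ Fin (n + 1)) k)),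
      ((Ideal.Quotient.mkₐ k (Ideal.span {e ^ (Fintype.card k + 1)} : Ideal Cq)).comp
        (aeval (xv e c v 0))) a = 0 := by
    intro a ha
    have hle : (Ideal.span {Fp k n, Lp c} :
        Ideal (MvPolynomial (Fin (n + 1) ⊕ Fin (n + 1)) k)) ≤
        RingHom.ker ((Ideal.Quotient.mkₐ k (Ideal.span {e ^ (Fintype.card k + 1)} :
          Ideal Cq)).comp (aeval (xv e c v 0))) := by
      rw [Ideal.span_le]
      rintro b (rfl | rfl)
      · show ((Ideal.Quotient.mkₐ k _).comp (aeval (xv e c v 0))) (Fp k n) = 0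
        rw [AlgHom.comp_apply, Ideal.Quotient.mkₐ_eq_mk, Ideal.Quotient.eq_zero_iff_mem]
        exact hF0
      · show ((Ideal.Quotient.mkₐ k _).comp (aeval (xv e c v 0))) (Lp c) = 0
        rw [AlgHom.comp_apply, hL0, map_zero]
    exact hle ha
  let g1 := Ideal.Quotient.liftₐ (Ideal.span {Fp k n, Lp c})
    ((Ideal.Quotient.mkₐ k (Ideal.span {e ^ (Fintype.card k + 1)} : Ideal Cq)).comp
      (aeval (xv e c v 0))) hker
  have hg1 : ∀ p : MvPolynomial (Fin (n + 1) ⊕ Fin (n + 1)) k,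
      g1 (Ideal.Quotient.mk _ p) = Ideal.Quotient.mk _ (aeval (xv e c v 0) p) := fun p => rfl
  have hunit : IsUnit (g1 (Ideal.Quotient.mk _ (X w))) := by
    rw [hg1, aeval_X]
    apply IsUnit.map
    unfold xv
    exact IsNilpotent.isUnit_add_left_of_commute (wv_nilpotent e he v 0 w)
      ((IsUnit.mk0 _ hw).map (algebraMap k Cq)) (Commute.all _ _)
  let g : Localization.Away (Ideal.Quotient.mk (Ideal.span {Fp k n, Lp c}) (X w)) →ₐ[k]
      Cq ⧸ (Ideal.span {e ^ (Fintype.card k + 1)} : Ideal Cq) :=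
    IsLocalization.liftAlgHom
      (M := Submonoid.powers (Ideal.Quotient.mk (Ideal.span {Fp k n, Lp c}) (X w))) (f := g1)
      (fun y => by
        obtain ⟨m, hm⟩ := y.2
        rw [← hm, map_pow]
        exact hunit.pow m)
  have hg : ∀ r, g (algebraMap _ _ r) = g1 r := fun r => IsLocalization.lift_eq _ r
  obtain ⟨f, hf⟩ := Algebra.FormallySmooth.comp_surjective k
    (Localization.Away (Ideal.Quotient.mk (Ideal.span {Fp k n, Lp c}) (X w)))
    (Ideal.span {e ^ (Fintype.card k + 1)} : Ideal Cq) hI g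
  have hρ : ∀ u, ∃ yu : Cq,
      f (algebraMap _ _ (Ideal.Quotient.mk (Ideal.span {Fp k n, Lp c}) (X u))) =
      xv e c v 0 u + e ^ (Fintype.card k + 1) * yu := by
    intro u
    have h1 := AlgHom.congr_fun hf
      (algebraMap _ _ (Ideal.Quotient.mk (Ideal.span {Fp k n, Lp c}) (X u)))
    rw [AlgHom.comp_apply, hg, hg1, aeval_X, Ideal.Quotient.mkₐ_eq_mk, Ideal.Quotient.eq,
      Ideal.mem_span_singleton] at h1
    obtain ⟨yu, hyu⟩ := h1
    exact ⟨yu, by rw [← hyu]; ring⟩
  choose y hy using hρ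
  have hcomp : ((f.comp (IsScalarTower.toAlgHom k
      (MvPolynomial (Fin (n + 1) ⊕ Fin (n + 1)) k ⧸ Ideal.span {Fp k n, Lp c})
      (Localization.Away (Ideal.Quotient.mk (Ideal.span {Fp k n, Lp c}) (X w))))).comp
      (Ideal.Quotient.mkₐ k (Ideal.span {Fp k n, Lp c}))) = aeval (xv e c v y) := by
    apply MvPolynomial.algHom_ext
    intro u
    rw [aeval_X]
    show f (algebraMap _ _ (Ideal.Quotient.mk (Ideal.span {Fp k n, Lp c}) (X u))) = xv e c v y u
    rw [hy u]
    unfold xv wv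
    simp only [Pi.zero_apply]
    ring
  have hFz : aeval (xv e c v y) (Fp k n) = 0 := by
    rw [← hcomp]
    show f (algebraMap _ _ (Ideal.Quotient.mk (Ideal.span {Fp k n, Lp c}) (Fp k n))) = 0
    have hz : Ideal.Quotient.mk (Ideal.span {Fp k n, Lp c}) (Fp k n) = 0 :=
      Ideal.Quotient.eq_zero_iff_mem.mpr (Ideal.subset_span (by simp))
    rw [hz, map_zero, map_zero]
  have hLz : aeval (xv e c v y) (Lp c) = 0 := by
    rw [← hcomp]
    show f (algebraMap _ _ (Ideal.Quotient.mk (Ideal.span {Fp k n, Lp c}) (Lp c))) = 0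
    have hz : Ideal.Quotient.mk (Ideal.span {Fp k n, Lp c}) (Lp c) = 0 :=
      Ideal.Quotient.eq_zero_iff_mem.mpr (Ideal.subset_span (by simp))
    rw [hz, map_zero, map_zero]
  exact hv2 (key e he hE3 c v hv1 y hFz hLz)

theorem not_formallySmooth (hn : 1 ≤ n) (c : Fin (n + 1) ⊕ Fin (n + 1) → k) (hc : c ≠ 0)
    (w : Fin (n + 1) ⊕ Fin (n + 1)) (hw : Pt c w ≠ 0) :
    ¬ Algebra.FormallySmooth k
      (Localization.Away (Ideal.Quotient.mk (Ideal.span {Fp k n, Lp c}) (X w))) := by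
  have he : (Ideal.Quotient.mk (Ideal.span {(Polynomial.X : Polynomial (Polynomial k)) ^
      (Fintype.card k + 2)}) Polynomial.X) ^ (Fintype.card k + 2) = 0 := by
    rw [← map_pow, Ideal.Quotient.eq_zero_iff_mem]
    exact Ideal.mem_span_singleton_self _
  haveI : Nontrivial (Polynomial (Polynomial k) ⧸
      Ideal.span {(Polynomial.X : Polynomial (Polynomial k)) ^ (Fintype.card k + 2)}) := by
    apply Ideal.Quotient.nontrivial_iff.mpr
    rw [Ne, Ideal.span_singleton_eq_top]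
    intro h
    exact Polynomial.not_isUnit_X ((isUnit_pow_iff (by omega)).mp h)
  refine not_formallySmooth_aux k n (Ideal.Quotient.mk (Ideal.span
    {(Polynomial.X : Polynomial (Polynomial k)) ^ (Fintype.card k + 2)}) Polynomial.X)
    he ?_ hn c hc w hw
  intro κ h
  rw [← Ideal.Quotient.mk_algebraMap, ← map_pow, ← map_mul, Ideal.Quotient.eq_zero_iff_mem,
    Ideal.mem_span_singleton, ← Polynomial.C_eq_algebraMap] at h
  have h2 : (Polynomial.X : Polynomial (Polynomial k)) ^ (Fintype.card k + 2) =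
      Polynomial.X ^ (Fintype.card k + 1) * Polynomial.X := pow_succ _ _
  rw [h2, mul_dvd_mul_iff_left (pow_ne_zero _ Polynomial.X_ne_zero)] at h
  have h3 := Polynomial.X_dvd_iff.mp h
  rwa [Polynomial.coeff_C_zero] at h3

end main

end Groth.Agent.Lib.Helper6.KatzHyp
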