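import Mathlib
import Groth.Agent.Lib.Helper7.FibDim

/-!
# Upper semicontinuity of `dim ker (δ ⊗ x.asIdeal.ResidueField(p))` for `δ : M → F`, `F` finite free
-/

set_option autoImplicit false
universe u v

namespace Groth.Agent.Lib.Helper6.KerDimUSC

open TensorProduct Module Groth.Agent.Lib.Helper7

variable {A : Type u} [CommRing A] {M F : Type v} [AddCommGroup M] [Module A M] [Module.Finite A M]
  [AddCommGroup F] [Module A F] [Module.Finite A F] [Module.Free A F]

theorem kerDim_add (δ : M →ₗ[A] F) (x : PrimeSpectrum A) :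
    finrank x.asIdeal.ResidueField (LinearMap.ker (δ.baseChange x.asIdeal.ResidueField)) +
        finrank A F =
      fibDim M x + fibDim (F ⧸ LinearMap.range δ) x := by
  unfold fibDim
  have : Nontrivial A :=
    ⟨⟨0, 1, fun h => x.isPrime.ne_top ((Ideal.eq_top_iff_one _).mpr (h ▸ x.asIdeal.zero_mem))⟩⟩
  have h1 := LinearMap.finrank_range_add_finrank_ker (δ.baseChange x.asIdeal.ResidueField)
  have hex : Function.Exact (δ.baseChange x.asIdeal.ResidueField) ((LinearMap.range δ).mkQ.baseChange x.asIdeal.ResidueField) :=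
    lTensor_exact x.asIdeal.ResidueField (LinearMap.exact_map_mkQ_range δ) (Submodule.mkQ_surjective _)
  have hs : Function.Surjective ((LinearMap.range δ).mkQ.baseChange x.asIdeal.ResidueField) :=
    LinearMap.lTensor_surjective _ (Submodule.mkQ_surjective _)
  have h2 := LinearMap.finrank_range_add_finrank_ker ((LinearMap.range δ).mkQ.baseChange x.asIdeal.ResidueField)
  rw [LinearMap.range_eq_top.mpr hs, finrank_top, LinearMap.exact_iff.mp hex] at h2
  have h3 : finrank x.asIdeal.ResidueField (x.asIdeal.ResidueField ⊗[A] F) = finrank A F := Module.finrank_baseChange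
  omega

theorem kerDim_upperSemicontinuous (δ : M →ₗ[A] F) :
    UpperSemicontinuous (fun x : PrimeSpectrum A =>
      Module.finrank x.asIdeal.ResidueField
        (LinearMap.ker (δ.baseChange x.asIdeal.ResidueField))) := by
  intro x c hc
  obtain ⟨U₁, hU₁, hx₁, hle₁⟩ := fibDim_le_nhds M x
  obtain ⟨U₂, hU₂, hx₂, hle₂⟩ := fibDim_le_nhds (F ⧸ LinearMap.range δ) x
  refine Filter.mem_of_superset ((hU₁.inter hU₂).mem_nhds ⟨hx₁, hx₂⟩) ?_
  rintro y ⟨hy₁, hy₂⟩
  have ey := kerDim_add δ y
  have ex := kerDim_add δ x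
  have h1 := hle₁ y hy₁
  have h2 := hle₂ y hy₂
  show finrank y.asIdeal.ResidueField (LinearMap.ker (δ.baseChange y.asIdeal.ResidueField)) < c
  have hc' : finrank x.asIdeal.ResidueField
      (LinearMap.ker (δ.baseChange x.asIdeal.ResidueField)) < c := hc
  omega

end Groth.Agent.Lib.Helper6.KerDimUSC
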