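import Mathlib
import Groth.Agent.Lib.Helper27.KosH1
set_option autoImplicit false
universe u
open IsLocalRing Groth.Agent.Lib.Helper27.KosH1 TensorProduct
open scoped Classical

namespace Groth.Agent.Lib.Helper6.KosH1BC

variable {A C : Type u} [CommRing A] [CommRing C] [Algebra A C] {ι : Type u} [Fintype ι]
  (y : ι → A)

/-- `l = Σ zᵢ yᵢ`. -/
abbrev lA : (ι → A) →ₗ[A] A := Fintype.linearCombination A y

variable (C) in
/-- the base-changed form. -/
abbrev lC : (ι → C) →ₗ[C] C := Fintype.linearCombination C (fun i => algebraMap A C (y i))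

variable (C) in
/-- coordinatewise `A → C`. -/
def Φ' : (ι → A) →ₗ[A] (ι → C) := (Algebra.linearMap A C).compLeft ι

@[simp] lemma Φ'_apply (z : ι → A) (i : ι) : Φ' C z i = algebraMap A C (z i) := rfl

lemma lC_Φ' (z : ι → A) : lC C y (Φ' C z) = algebraMap A C (lA y z) := by
  simp [Fintype.linearCombination_apply, map_sum]

variable (C) in
/-- `C ⊗ (ι → A) ≃ (ι → C)`. -/
noncomputable def Φ : C ⊗[A] (ι → A) ≃ₗ[C] (ι → C) := TensorProduct.piScalarRight A C C ι

lemma Φ_tmul (c : C) (z : ι → A) : Φ C (c ⊗ₜ[A] z) = c • Φ' C z := by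
  ext j
  simp [Φ, Algebra.smul_def, mul_comm]

lemma lC_Φ (w : C ⊗[A] (ι → A)) :
    lC C y (Φ C w) = AlgebraTensorModule.rid A C C ((lA y).baseChange C w) := by
  induction w using TensorProduct.induction_on with
  | zero => simp
  | tmul c z =>
    rw [Φ_tmul, map_smul, lC_Φ']
    simp [Algebra.smul_def, mul_comm]
  | add a b ha hb => simp only [map_add, ha, hb]

variable (C) in
/-- `C ⊗ ker l → (ι → C)`. -/
noncomputable def E₀ : C ⊗[A] (LinearMap.ker (lA y)) →ₗ[C] (ι → C) :=
  (Φ C).toLinearMap ∘ₗ ((LinearMap.ker (lA y)).subtype.baseChange C)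

lemma E₀_tmul (c : C) (z : LinearMap.ker (lA y)) : E₀ C y (c ⊗ₜ[A] z) = c • Φ' C (z : ι → A) := by
  simp [E₀, Φ_tmul]

lemma E₀_mem (w : C ⊗[A] (LinearMap.ker (lA y))) : E₀ C y w ∈ LinearMap.ker (lC C y) := by
  rw [LinearMap.mem_ker]
  induction w using TensorProduct.induction_on with
  | zero => simp
  | tmul c z =>
    rw [E₀_tmul, map_smul, lC_Φ']
    have : lA y (z : ι → A) = 0 := z.2
    rw [this, map_zero, smul_zero]
  | add a b ha hb => rw [map_add, map_add, ha, hb, add_zero]

variable (C) in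
/-- `C ⊗ ker l → ker l_C`. -/
noncomputable def E : C ⊗[A] (LinearMap.ker (lA y)) →ₗ[C] LinearMap.ker (lC C y) :=
  (E₀ C y).codRestrict _ (E₀_mem y)

@[simp] lemma E_coe (w : C ⊗[A] (LinearMap.ker (lA y))) : ((E C y w : LinearMap.ker (lC C y)) : ι → C) = E₀ C y w := rfl

lemma E_injective [Module.Flat A C] : Function.Injective (E C y) := by
  intro a b h
  have h1 : E₀ C y a = E₀ C y b := congrArg Subtype.val h
  have h2 : (LinearMap.ker (lA y)).subtype.baseChange C a =
      (LinearMap.ker (lA y)).subtype.baseChange C b := (Φ C).injective h1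
  have hinj : Function.Injective ((LinearMap.ker (lA y)).subtype.lTensor C) :=
    Module.Flat.lTensor_preserves_injective_linearMap _ (Submodule.injective_subtype _)
  exact hinj h2

lemma E_surjective [Module.Flat A C] : Function.Surjective (E C y) := by
  rintro ⟨x, hx⟩
  rw [LinearMap.mem_ker] at hx
  set w := (Φ (A := A) C).symm x with hw
  have h1 : (lA y).baseChange C w = 0 := by
    apply (AlgebraTensorModule.rid A C C).injective
    rw [← lC_Φ (A := A) y w, hw, LinearEquiv.apply_symm_apply, hx, map_zero]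
  have hex : Function.Exact ((LinearMap.ker (lA y)).subtype.lTensor C) ((lA y).lTensor C) :=
    Module.Flat.lTensor_exact C (LinearMap.exact_subtype_ker_map (lA y))
  obtain ⟨v, hv⟩ := (hex w).mp h1
  refine ⟨v, Subtype.ext ?_⟩
  change (Φ C) ((LinearMap.ker (lA y)).subtype.baseChange C v) = x
  have : (LinearMap.ker (lA y)).subtype.baseChange C v = w := hv
  rw [this, hw, LinearEquiv.apply_symm_apply]

lemma Φ'_smul (a : A) (v : ι → A) : Φ' C (a • v) = algebraMap A C a • Φ' C v := by
  ext j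
  simp

lemma Φ'_gen (u v : ι → A) :
    Φ' C (lA y u • v - lA y v • u) =
      lC C y (Φ' C u) • Φ' C v - lC C y (Φ' C v) • Φ' C u := by
  rw [map_sub, Φ'_smul, Φ'_smul, lC_Φ', lC_Φ']

lemma Φ'_mem_Bd {z : ι → A} (hz : z ∈ Bd (lA y)) : Φ' C z ∈ Bd (lC C y) := by
  unfold Bd at hz
  induction hz using Submodule.span_induction with
  | mem x hx =>
    obtain ⟨u, v, rfl⟩ := hx
    rw [Φ'_gen]
    exact gen_mem_Bd _ _ _
  | zero => rw [map_zero]; exact Submodule.zero_mem _
  | add a b _ _ ha hb => rw [map_add]; exact Submodule.add_mem _ ha hb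
  | smul a x _ hx => rw [Φ'_smul]; exact Submodule.smul_mem _ _ hx

/-- the boundaries inside the kernel -/
abbrev BA : Submodule A (LinearMap.ker (lA y)) := (Bd (lA y)).submoduleOf (LinearMap.ker (lA y))

variable (C) in
abbrev BC : Submodule C (LinearMap.ker (lC C y)) :=
  (Bd (lC C y)).submoduleOf (LinearMap.ker (lC C y))

lemma baseChange_le : (BA y).baseChange C ≤ (BC C y).comap (E C y) := by
  rw [Submodule.baseChange_eq_span, Submodule.span_le]
  rintro _ ⟨b, hb, rfl⟩
  change (E C y (1 ⊗ₜ[A] b) : ι → C) ∈ Bd (lC C y)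
  rw [E_coe, E₀_tmul, one_smul]
  exact Φ'_mem_Bd y hb

variable (C) in
/-- the image of the base-changed boundaries, as a submodule of `ι → C` -/
noncomputable def S : Submodule C (ι → C) :=
  (((BA y).baseChange C).map (E C y)).map (LinearMap.ker (lC C y)).subtype

lemma Φ'_gen_mem_S (u v : ι → A) :
    lC C y (Φ' C u) • Φ' C v - lC C y (Φ' C v) • Φ' C u ∈ S C y := by
  rw [← Φ'_gen]
  have hmem : lA y u • v - lA y v • u ∈ LinearMap.ker (lA y) := Bd_le_ker _ (gen_mem_Bd _ u v)
  have hB : (⟨_, hmem⟩ : LinearMap.ker (lA y)) ∈ BA y := gen_mem_Bd (lA y) u v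
  refine ⟨E C y (1 ⊗ₜ[A] ⟨_, hmem⟩), ⟨_, Submodule.tmul_mem_baseChange_of_mem 1 hB, rfl⟩, ?_⟩
  change (E C y (1 ⊗ₜ[A] ⟨_, hmem⟩) : ι → C) = _
  rw [E_coe, E₀_tmul, one_smul]

variable (C) in
/-- the Koszul bracket as a bilinear map -/
noncomputable def β : (ι → C) →ₗ[C] (ι → C) →ₗ[C] (ι → C) :=
  LinearMap.mk₂ C (fun u v => lC C y u • v - lC C y v • u)
    (fun u u' v => by simp only [map_add, add_smul, smul_add]; abel)
    (fun c u v => by
      simp only [map_smul, smul_eq_mul, mul_smul, smul_sub]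
      rw [smul_comm c (lC C y v) u])
    (fun u v v' => by simp only [map_add, add_smul, smul_add]; abel)
    (fun c u v => by
      simp only [map_smul, smul_eq_mul, mul_smul, smul_sub]
      rw [smul_comm c (lC C y u) v])

lemma β_apply (u v : ι → C) : β C y u v = lC C y u • v - lC C y v • u := rfl

/-- standard basis vectors -/
noncomputable abbrev eC (C : Type u) [CommRing C] {ι : Type u} (i : ι) : ι → C := fun j => if i = j then 1 else 0

lemma Φ'_e (i : ι) : Φ' C (eC A i) = eC C i := by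
  ext j
  simp only [Φ'_apply, eC]
  split_ifs <;> simp

lemma β_mem_S (u v : ι → C) : β C y u v ∈ S C y := by
  have hA : ∀ i k : ι, β C y (eC C i) (eC C k) ∈ S C y := by
    intro i k
    rw [β_apply, ← Φ'_e (A := A) i, ← Φ'_e (A := A) k]
    exact Φ'_gen_mem_S y _ _
  have hB : ∀ (i : ι) (v : ι → C), β C y (eC C i) v ∈ S C y := by
    intro i v
    rw [LinearMap.pi_apply_eq_sum_univ (β C y (eC C i)) v]
    exact Submodule.sum_mem _ fun k _ => Submodule.smul_mem _ _ (hA i k)
  rw [← LinearMap.flip_apply, LinearMap.pi_apply_eq_sum_univ ((β C y).flip v) u]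
  exact Submodule.sum_mem _ fun i _ => Submodule.smul_mem _ _ (by
    rw [LinearMap.flip_apply]; exact hB i v)

lemma Bd_le_S : Bd (lC C y) ≤ S C y := by
  unfold Bd
  rw [Submodule.span_le]
  rintro _ ⟨u, v, rfl⟩
  exact β_mem_S y u v

lemma comap_le [Module.Flat A C] : (BC C y).comap (E C y) ≤ (BA y).baseChange C := by
  intro w hw
  have h1 : (E C y w : ι → C) ∈ S C y := Bd_le_S y hw
  obtain ⟨x, ⟨w', hw', rfl⟩, hx⟩ := h1
  have h2 : E C y w' = E C y w := Subtype.ext hx
  rw [← E_injective y h2]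
  exact hw'

theorem baseChange_eq [Module.Flat A C] : (BA y).baseChange C = (BC C y).comap (E C y) :=
  le_antisymm (baseChange_le y) (comap_le y)

lemma ker_mkQ_baseChange_gen {A C M : Type u} [CommRing A] [CommRing C] [Algebra A C]
    [AddCommGroup M] [Module A M] (p : Submodule A M) :
    LinearMap.ker (p.mkQ.baseChange C) = p.baseChange C := by
  have hex : Function.Exact (p.subtype.lTensor C) (p.mkQ.lTensor C) :=
    lTensor_exact C (LinearMap.exact_subtype_mkQ p) (Submodule.mkQ_surjective _)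
  ext w
  rw [LinearMap.mem_ker, Submodule.baseChange, LinearMap.mem_range]
  have e1 : (p.mkQ.baseChange C) w = (p.mkQ.lTensor C) w :=
    congrFun (LinearMap.baseChange_eq_ltensor (A := C) p.mkQ) w
  have e2 : ∀ v, (p.subtype.baseChange C) v = (p.subtype.lTensor C) v := fun v =>
    congrFun (LinearMap.baseChange_eq_ltensor (A := C) p.subtype) v
  rw [e1]
  simp_rw [e2]
  exact hex w

lemma ker_mkQ_baseChange : LinearMap.ker ((BA y).mkQ.baseChange C) = (BA y).baseChange C :=
  ker_mkQ_baseChange_gen (BA y)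

/-- (T2) first Koszul homology of `Helper27.KosH1` commutes with flat base change. -/
theorem nonempty_baseChange_H_equiv {A C : Type u} [CommRing A] [CommRing C] [Algebra A C]
    [Module.Flat A C] {ι : Type u} [Fintype ι] (y : ι → A) :
    Nonempty (TensorProduct A C (H (Fintype.linearCombination A y)) ≃ₗ[C]
      H (Fintype.linearCombination C (fun i => algebraMap A C (y i)))) := by
  let πC : C ⊗[A] (LinearMap.ker (lA y)) →ₗ[C] C ⊗[A] (H (lA y)) := (BA y).mkQ.baseChange C
  have hπ : Function.Surjective πC :=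
    LinearMap.baseChange_surjective C (Submodule.mkQ_surjective _)
  let Θ : C ⊗[A] (LinearMap.ker (lA y)) →ₗ[C] H (lC C y) := (BC C y).mkQ ∘ₗ E C y
  have hΘ : Function.Surjective Θ :=
    (Submodule.mkQ_surjective _).comp (E_surjective y)
  have hker : LinearMap.ker πC = LinearMap.ker Θ := by
    rw [ker_mkQ_baseChange, LinearMap.ker_comp, Submodule.ker_mkQ, baseChange_eq]
  exact ⟨(πC.quotKerEquivOfSurjective hπ).symm.trans
    ((Submodule.quotEquivOfEq _ _ hker).trans (Θ.quotKerEquivOfSurjective hΘ))⟩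

end Groth.Agent.Lib.Helper6.KosH1BC
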