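import Groth.Agent.Lib.Lead.KosVanish

/-!
# If the limit Koszul cohomology of `A` itself vanishes in all degrees, the elements generate `A`

* `subsingleton_TT_of_length_lt`: `H^p((f), M) = 0` for `p > r`.
* `subsingleton_TT_free`: `H^p((f), A^{(J)}) = 0` when `H^p((f), A) = 0` (finite-support argument).
* `subsingleton_TT_all`: descending induction, `H^p((f), M) = 0` for all `M` and `p`.
* `span_eq_top_of_TT`: hence `(f_1, …, f_r) = A` (look at `H^0((f), A / I)`).
-/

set_option autoImplicit false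
set_option linter.style.haveILetI false
set_option linter.unusedSectionVars false
set_option linter.unusedVariables false
set_option maxHeartbeats 800000

universe u

open CategoryTheory CategoryTheory.Limits CochainComplex HomComplex

namespace Groth.Agent.Lib.Helper6.KosUnit

open CohIII Groth.Agent.Lib.Helper14.KoszulFun Groth.Agent.Lib.Helper4.KosCone
  Groth.Agent.Lib.Helper4.KosLim Groth.Agent.Lib.Helper4.LCBridge Groth.Agent.Lib.Helper4.KosBottom
  Groth.Agent.Lib.Lead.KosVanish

variable {A : Type u} [CommRing A]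

/-- `H^p((f), M) = 0` above the number of elements. -/
lemma subsingleton_TT_of_length_lt (fs : List A) (M : ModuleCat.{u} A) (p : ℕ)
    (hp : fs.length < p) : Subsingleton (TT fs M p) := by
  apply TT.subsingleton_of_forall
  intro n y
  have hlen : (pw fs n).length = fs.length := List.length_map _
  have hpos : (0 : ℤ) < (p : ℤ) - fs.length := by
    have : (fs.length : ℤ) < p := by exact_mod_cast hp
    omega
  have hz : IsZero ((koszulCx M (pw fs n)).homology ((p : ℤ) - fs.length)) :=
    isZero_homology_of_isZero_X _ _ (isZero_koszulCx_X_pos M (pw fs n) _ hpos)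
  haveI : Subsingleton (koszulHPow fs M p n) := ModuleCat.subsingleton_of_isZero hz
  exact ⟨n, le_rfl, Subsingleton.elim _ _⟩

/-! ### the finite-support idempotents of a free module -/

section free

variable (A)

/-- the `j`-th coordinate idempotent of `A^{(J)}`. -/
noncomputable def eJ (J : Type u) (j : J) :
    ModuleCat.of A (J →₀ A) ⟶ ModuleCat.of A (J →₀ A) :=
  ModuleCat.ofHom ((Finsupp.lsingle j : A →ₗ[A] (J →₀ A)).comp
    (Finsupp.lapply j : (J →₀ A) →ₗ[A] A))

/-- the projection of `A^{(J)}` onto the coordinates in `t`. -/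
noncomputable def eS (J : Type u) (t : Finset J) :
    ModuleCat.of A (J →₀ A) ⟶ ModuleCat.of A (J →₀ A) :=
  ∑ j ∈ t, eJ A J j

lemma eS_apply (J : Type u) (t : Finset J) (v : J →₀ A) :
    (eS A J t).hom v = ∑ j ∈ t, Finsupp.single j (v j) := by
  simp only [eS, eJ, ModuleCat.hom_sum, LinearMap.sum_apply, ModuleCat.hom_ofHom,
    LinearMap.comp_apply, Finsupp.lsingle_apply, Finsupp.lapply_apply]

lemma eS_apply_of_subset (J : Type u) (t : Finset J) (v : J →₀ A) (h : v.support ⊆ t) :
    (eS A J t).hom v = v := by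
  rw [eS_apply]
  exact ((Finsupp.sum_single v).symm.trans (Finsupp.sum_of_support_subset v h Finsupp.single
    (fun i _ => Finsupp.single_zero i))).symm

variable {A}

lemma fs_single (J : Type u) (d : ℤ)
    (z : ((HomologicalComplex.single (ModuleCat.{u} A) (ComplexShape.up ℤ) 0).obj
      (ModuleCat.of A (J →₀ A))).X d) :
    ∃ s : Finset J, ∀ t, s ⊆ t →
      (((HomologicalComplex.single (ModuleCat.{u} A) (ComplexShape.up ℤ) 0).map
        (eS A J t)).f d).hom z = z := by
  by_cases hd : d = 0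
  · subst hd
    let e := HomologicalComplex.singleObjXSelf (ComplexShape.up ℤ) (0 : ℤ)
      (ModuleCat.of A (J →₀ A))
    refine ⟨(e.hom.hom z : J →₀ A).support, fun t ht => ?_⟩
    have h1 : (((HomologicalComplex.single (ModuleCat.{u} A) (ComplexShape.up ℤ) 0).map
        (eS A J t)).f 0).hom z = e.inv.hom ((eS A J t).hom (e.hom.hom z)) := by
      rw [HomologicalComplex.single_map_f_self]
      rfl
    rw [h1, eS_apply_of_subset A J t _ ht]
    have h2 := congrArg (fun f => f.hom z) e.hom_inv_id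
    simp only [ModuleCat.hom_comp, LinearMap.comp_apply, ModuleCat.hom_id,
      LinearMap.id_apply] at h2
    exact h2
  · refine ⟨∅, fun t _ => ?_⟩
    have hz : z = 0 := single_eq_zero _ d hd z
    rw [hz, map_zero]

lemma fs_cone {K : CochainComplex (ModuleCat.{u} A) ℤ} (g : A) {J : Type u}
    (ψ : Finset J → (K ⟶ K))
    (h : ∀ (d : ℤ) (z : K.X d), ∃ s : Finset J, ∀ t, s ⊆ t → ((ψ t).f d).hom z = z)
    (d : ℤ) (z : (mappingCone (g • 𝟙 K)).X d) :
    ∃ s : Finset J, ∀ t, s ⊆ t → ((coneMap g (ψ t)).f d).hom z = z := by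
  classical
  obtain ⟨s₁, h₁⟩ := h (d + 1) (fstL (g • 𝟙 K) d (d + 1) rfl z)
  obtain ⟨s₂, h₂⟩ := h d (sndL (g • 𝟙 K) d z)
  refine ⟨s₁ ∪ s₂, fun t ht => ?_⟩
  apply ext' (g • 𝟙 K) d (d + 1) rfl
  · unfold coneMap
    rw [fst_map_apply]
    exact h₁ t (Finset.union_subset_left ht)
  · unfold coneMap
    rw [snd_map_apply]
    exact h₂ t (Finset.union_subset_right ht)

lemma fs_koszul (J : Type u) :
    ∀ (gs : List A) (d : ℤ) (z : (koszulCx (ModuleCat.of A (J →₀ A)) gs).X d),
      ∃ s : Finset J, ∀ t, s ⊆ t → ((koszulMap (eS A J t) gs).f d).hom z = z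
  | [], d, z => fs_single J d z
  | g :: gs, d, z =>
    fs_cone g (fun t => koszulMap (eS A J t) gs) (fun d z => fs_koszul J gs d z) d z

lemma TT_map_eS_eq_zero (fs : List A) (p : ℕ)
    (hA : Subsingleton (TT fs (ModuleCat.of A A) p)) (J : Type u) (s : Finset J)
    (x : TT fs (ModuleCat.of A (J →₀ A)) p) : TT.map fs p (eS A J s) x = 0 := by
  unfold eS
  rw [TT_map_sum]
  apply Finset.sum_eq_zero
  intro j _
  have h3 : eJ A J j = (ModuleCat.ofHom (Finsupp.lapply j : (J →₀ A) →ₗ[A] A)) ≫
      (ModuleCat.ofHom (Finsupp.lsingle j : A →ₗ[A] (J →₀ A))) := rfl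
  rw [h3, TT_map_comp,
    Subsingleton.elim (TT.map fs p (ModuleCat.ofHom (Finsupp.lapply j : (J →₀ A) →ₗ[A] A)) x) 0,
    map_zero]

/-- `H^p((f), A^{(J)}) = 0` when `H^p((f), A) = 0`. -/
theorem subsingleton_TT_free (fs : List A) (p : ℕ)
    (hA : Subsingleton (TT fs (ModuleCat.of A A) p)) (J : Type u) :
    Subsingleton (TT fs (ModuleCat.of A (J →₀ A)) p) := by
  have hz : ∀ x : TT fs (ModuleCat.of A (J →₀ A)) p, x = 0 := by
    intro x
    obtain ⟨n, y, rfl⟩ := TT.exists_of fs _ p x
    obtain ⟨z, rfl⟩ := ModCx.cls_surjective (koszulCx (ModuleCat.of A (J →₀ A)) (pw fs n))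
      ((p : ℤ) - fs.length) y
    obtain ⟨s, hs⟩ := fs_koszul J (pw fs n) ((p : ℤ) - fs.length) z.1
    have h1 : mapH fs p (eS A J s) n (ModCx.cls _ _ z) = ModCx.cls _ _ z := by
      change (HomologicalComplex.homologyMap (koszulMap (eS A J s) (pw fs n)) _).hom
        (ModCx.cls _ _ z) = _
      rw [ModCx.homologyMap_cls]
      have hz' : (⟨((koszulMap (eS A J s) (pw fs n)).f ((p : ℤ) - fs.length)).hom z.1,
          ModCx.map_mem_Z _ (koszulMap (eS A J s) (pw fs n)) z⟩ :
          ModCx.Z (koszulCx (ModuleCat.of A (J →₀ A)) (pw fs n)) ((p : ℤ) - fs.length)) = z :=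
        Subtype.ext (hs s (Finset.Subset.refl s))
      rw [hz']
    have h2 : TT.map fs p (eS A J s) (TT.of fs _ p n (ModCx.cls _ _ z)) =
        TT.of fs _ p n (ModCx.cls _ _ z) := by
      rw [TT.map_of, h1]
    rw [← h2]
    exact TT_map_eS_eq_zero fs p hA J s _
  exact ⟨fun a b => by rw [hz a, hz b]⟩

end free

/-! ### the free presentation and the descending induction -/

section pres

variable (M : ModuleCat.{u} A)

/-- the canonical surjection `A^{(M)} → M`. -/
noncomputable def piM : ModuleCat.of A (M →₀ A) ⟶ M :=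
  ModuleCat.ofHom (Finsupp.linearCombination A (id : M → M))

/-- `0 → ker → A^{(M)} → M → 0`. -/
noncomputable def SF : ShortComplex (ModuleCat.{u} A) :=
  ShortComplex.mk (ModuleCat.ofHom (LinearMap.ker (piM M).hom).subtype) (piM M) (by
    ext x
    exact LinearMap.mem_ker.mp x.2)

lemma SF_shortExact : (SF M).ShortExact := by
  haveI : Mono (SF M).f :=
    (ModuleCat.mono_iff_injective _).2 (LinearMap.ker (piM M).hom).injective_subtype
  haveI : Epi (SF M).g :=
    (ModuleCat.epi_iff_surjective _).2 (Finsupp.linearCombination_id_surjective A M)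
  refine ShortComplex.ShortExact.mk ?_
  rw [ShortComplex.moduleCat_exact_iff]
  intro x hx
  exact ⟨⟨x, hx⟩, rfl⟩

end pres

/-- descending induction: all `H^p((f), M)` vanish once all `H^p((f), A)` do. -/
theorem subsingleton_TT_all (fs : List A)
    (hA : ∀ p, Subsingleton (TT fs (ModuleCat.of A A) p)) (k : ℕ) :
    ∀ p : ℕ, p + k = fs.length + 1 → ∀ M : ModuleCat.{u} A, Subsingleton (TT fs M p) := by
  induction k with
  | zero =>
    intro p hp M
    exact subsingleton_TT_of_length_lt fs M p (by omega)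
  | succ k ih =>
    intro p hp M
    have ih' := ih (p + 1) (by omega)
    have hz : ∀ x : TT fs M p, x = 0 := by
      intro x
      haveI : Subsingleton (TT fs (SF M).X₁ (p + 1)) := ih' _
      obtain ⟨x₂, hx₂⟩ := TT.exact₃ fs (SF M) (SF_shortExact M) p x (Subsingleton.elim _ _)
      haveI : Subsingleton (TT fs (SF M).X₂ p) := subsingleton_TT_free fs p (hA p) M
      rw [← hx₂, Subsingleton.elim x₂ 0, map_zero]
      rfl
    exact ⟨fun a b => by rw [hz a, hz b]⟩

/-- If `H^p((f), A) = 0` for all `p`, then `f_1, …, f_r` generate the unit ideal. -/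
theorem span_eq_top_of_TT (fs : List A)
    (hA : ∀ p, Subsingleton (TT fs (ModuleCat.of A A) p)) :
    Ideal.span {a | a ∈ fs} = ⊤ := by
  obtain ⟨I, hI⟩ : ∃ I : Ideal A, I = Ideal.span {a | a ∈ fs} := ⟨_, rfl⟩
  rw [← hI]
  haveI h0 : Subsingleton (TT fs (ModuleCat.of A (A ⧸ I)) 0) :=
    subsingleton_TT_all fs hA (fs.length + 1) 0 (by omega) _
  have e := T0Equiv fs (ModuleCat.of A (A ⧸ I))
  haveI hsub : Subsingleton (DRing.torsionSub (Ideal.span {a | a ∈ fs}) (A ⧸ I)) :=
    e.symm.toEquiv.subsingleton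
  have hm : (Submodule.Quotient.mk (1 : A) : A ⧸ I) ∈
      DRing.torsionSub (Ideal.span {a | a ∈ fs}) (A ⧸ I) := by
    refine ⟨1, fun a ha => ?_⟩
    rw [pow_one, ← hI] at ha
    rw [← Submodule.Quotient.mk_smul, Submodule.Quotient.mk_eq_zero, smul_eq_mul, mul_one]
    exact ha
  have h1 : (⟨Submodule.Quotient.mk (1 : A), hm⟩ :
      DRing.torsionSub (Ideal.span {a | a ∈ fs}) (A ⧸ I)) = 0 := Subsingleton.elim _ _
  have h2 : (Submodule.Quotient.mk (1 : A) : A ⧸ I) = 0 := congrArg Subtype.val h1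
  exact (Ideal.eq_top_iff_one I).2 ((Submodule.Quotient.mk_eq_zero I).1 h2)

end Groth.Agent.Lib.Helper6.KosUnit
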