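import Mathlib

/-!
# Kummer covers over a discrete valuation ring with integral special fibre

If `f` is a unit away from `π`, `(π)` is prime, and the normalization of `Z ^ m = f` has
prime `π`-ideal, then `f = π ^ (m q) u` with `u` a unit.
-/

set_option autoImplicit false

namespace Groth.Agent.Lib.Helper6.KummerDVR

universe u

theorem lemmaA {A : Type*} [CommRing A] [IsDomain A] (π : A) (hπ : π ≠ 0)
    (hprime : (Ideal.span {π}).IsPrime) :
    ∀ (n : ℕ) (f g : A), f * g = π ^ n → ∃ (a : ℕ) (u : Aˣ), f = π ^ a * (u : A) := by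
  intro n
  induction n with
  | zero =>
    intro f g h
    rw [pow_zero] at h
    exact ⟨0, Units.mkOfMulEqOne f g h, by rw [pow_zero, one_mul]; rfl⟩
  | succ n ih =>
    intro f g h
    have hmem : f * g ∈ Ideal.span {π} := by
      rw [h, pow_succ]
      exact Ideal.mul_mem_left _ _ (Ideal.mem_span_singleton_self π)
    rcases hprime.mem_or_mem hmem with hf | hg
    · obtain ⟨f', rfl⟩ := Ideal.mem_span_singleton'.mp hf
      have h2 : f' * g = π ^ n := by
        apply mul_left_cancel₀ hπ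
        rw [pow_succ] at h
        linear_combination h
      obtain ⟨a, u, hu⟩ := ih f' g h2
      exact ⟨a + 1, u, by rw [hu, pow_succ]; ring⟩
    · obtain ⟨g', rfl⟩ := Ideal.mem_span_singleton'.mp hg
      have h2 : f * g' = π ^ n := by
        apply mul_left_cancel₀ hπ
        rw [pow_succ] at h
        linear_combination h
      exact ih f g' h2

theorem lemmaB {A : Type*} [CommRing A] [IsDomain A] (π f : A) (hπ : π ≠ 0)
    (hf : IsUnit (algebraMap A (Localization.Away π) f)) :
    ∃ (g : A) (n : ℕ), f * g = π ^ n := by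
  obtain ⟨x, hx⟩ := hf.exists_right_inv
  obtain ⟨g, ⟨_, n, rfl⟩, rfl⟩ := IsLocalization.exists_mk'_eq (Submonoid.powers π) x
  refine ⟨g, n, ?_⟩
  have hinj : Function.Injective (algebraMap A (Localization.Away π)) :=
    IsLocalization.injective _ (powers_le_nonZeroDivisors_of_noZeroDivisors hπ)
  apply hinj
  rw [IsLocalization.mul_mk'_eq_mk'_of_mul, IsLocalization.mk'_eq_iff_eq_mul, one_mul] at hx
  exact hx

theorem lemmaC {A S : Type*} [CommRing A] [CommRing S] [IsDomain S] [Algebra A S]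
    (π : A) (u : Aˣ) (Q Z : S) (hPQ : algebraMap A S π * Q = 1) (r' d q a : ℕ)
    (ha : a = (r' + 1 + (d + 1)) * q + (r' + 1))
    (hZ : Z ^ (r' + 1 + (d + 1)) = algebraMap A S (π ^ a * (u : A)))
    (hsp : (Ideal.span {algebraMap A (integralClosure A S) π}).IsPrime) : False := by
  subst ha
  obtain ⟨P, hP⟩ : ∃ P : S, P = algebraMap A S π := ⟨_, rfl⟩
  obtain ⟨U, hU⟩ : ∃ U : S, U = algebraMap A S (u : A) := ⟨_, rfl⟩
  rw [← hP] at hPQ
  have hZ' : Z ^ (r' + 1 + (d + 1)) = P ^ ((r' + 1 + (d + 1)) * q + (r' + 1)) * U := by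
    rw [hZ, map_mul, map_pow, hP, hU]
  have hWm : (Z * Q ^ q) ^ (r' + 1 + (d + 1)) = P ^ (r' + 1) * U := by
    have h1 : P ^ ((r' + 1 + (d + 1)) * q) * Q ^ (q * (r' + 1 + (d + 1))) = 1 := by
      rw [mul_comm q (r' + 1 + (d + 1)), ← mul_pow, hPQ, one_pow]
    rw [mul_pow, hZ', ← pow_mul, pow_add]
    linear_combination (P ^ (r' + 1) * U) * h1
  have hWint : IsIntegral A (Z * Q ^ q) := by
    refine ⟨Polynomial.X ^ (r' + 1 + (d + 1)) - Polynomial.C (π ^ (r' + 1) * (u : A)),
      Polynomial.monic_X_pow_sub_C _ (by omega), ?_⟩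
    rw [Polynomial.eval₂_sub, Polynomial.eval₂_pow, Polynomial.eval₂_X, Polynomial.eval₂_C, hWm,
      map_mul, map_pow, hP, hU, sub_self]
  obtain ⟨WB, hWB⟩ : ∃ WB : integralClosure A S, (WB : S) = Z * Q ^ q := ⟨⟨_, hWint⟩, rfl⟩
  obtain ⟨πB, hπB⟩ : ∃ πB : integralClosure A S, πB = algebraMap A (integralClosure A S) π :=
    ⟨_, rfl⟩
  rw [← hπB] at hsp
  have hπBS : (πB : S) = P := by
    rw [hπB, hP]
    rfl
  obtain ⟨uB, huB⟩ : ∃ uB : integralClosure A S, uB = algebraMap A (integralClosure A S) (u : A) :=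
    ⟨_, rfl⟩
  have huBS : (uB : S) = U := by
    rw [huB, hU]
    rfl
  have huBunit : IsUnit uB := by
    rw [huB]
    exact u.isUnit.map _
  have h1 : WB ^ (r' + 1 + (d + 1)) = πB ^ (r' + 1) * uB := by
    apply Subtype.ext
    show (WB : S) ^ (r' + 1 + (d + 1)) = (πB : S) ^ (r' + 1) * (uB : S)
    rw [hWB, hπBS, huBS, hWm]
  have hmem : WB ^ (r' + 1 + (d + 1)) ∈ Ideal.span {πB} := by
    rw [h1, Ideal.mem_span_singleton']
    exact ⟨πB ^ r' * uB, by ring⟩
  have hWBmem : WB ∈ Ideal.span {πB} := hsp.mem_of_pow_mem _ hmem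
  obtain ⟨W', hW'⟩ := Ideal.mem_span_singleton'.mp hWBmem
  rw [← hW'] at h1
  have h3 : πB ^ (r' + 1) * (W' ^ (r' + 1 + (d + 1)) * πB ^ (d + 1) - uB) = 0 := by
    linear_combination h1
  have hπB0 : πB ≠ 0 := by
    intro h0
    have h4 : (πB : S) = 0 := by
      rw [h0]
      rfl
    rw [hπBS] at h4
    rw [h4, zero_mul] at hPQ
    exact zero_ne_one hPQ
  rcases mul_eq_zero.mp h3 with h5 | h5
  · exact hπB0 (pow_eq_zero_iff (Nat.succ_ne_zero r') |>.mp h5)
  · have h6 : W' ^ (r' + 1 + (d + 1)) * πB ^ d * πB = uB := by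
      linear_combination h5
    have h7 : IsUnit (W' ^ (r' + 1 + (d + 1)) * πB ^ d * πB) := by
      rw [h6]
      exact huBunit
    have h8 : IsUnit πB := isUnit_of_mul_isUnit_right h7
    exact hsp.ne_top (Ideal.span_singleton_eq_top.mpr h8)

theorem mainAbs (A : Type u) [CommRing A] [IsDomain A] (π : A) (hπ0 : π ≠ 0)
    (hprime : (Ideal.span {π}).IsPrime)
    (m : ℕ) (hm : 0 < m) (f : A)
    (hf : IsUnit (algebraMap A (Localization.Away π) f))
    [IsDomain (AdjoinRoot (Polynomial.X ^ m -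
      Polynomial.C (algebraMap A (Localization.Away π) f)))]
    (hsp : (Ideal.span {algebraMap A (integralClosure A
        (AdjoinRoot (Polynomial.X ^ m -
          Polynomial.C (algebraMap A (Localization.Away π) f)))) π}).IsPrime) :
    ∃ (q : ℕ) (u : Aˣ), f = π ^ (m * q) * (u : A) := by
  obtain ⟨g, n, hfg⟩ := lemmaB π f hπ0 hf
  obtain ⟨a, u, hfa⟩ := lemmaA π hπ0 hprime n f g hfg
  by_cases hr : a % m = 0
  · refine ⟨a / m, u, ?_⟩
    rw [hfa, Nat.mul_div_cancel' (Nat.dvd_of_mod_eq_zero hr)]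
  · exfalso
    have hrm : a % m < m := Nat.mod_lt a hm
    obtain ⟨r', hr'⟩ : ∃ r', a % m = r' + 1 := ⟨a % m - 1, by omega⟩
    obtain ⟨d, hd⟩ : ∃ d, m = r' + 1 + (d + 1) := ⟨m - r' - 2, by omega⟩
    subst hd
    have ha : a = (r' + 1 + (d + 1)) * (a / (r' + 1 + (d + 1))) + (r' + 1) := by
      have h0 := Nat.div_add_mod a (r' + 1 + (d + 1))
      rw [hr'] at h0
      exact h0.symm
    have hPQ : algebraMap A (AdjoinRoot (Polynomial.X ^ (r' + 1 + (d + 1)) -
          Polynomial.C (algebraMap A (Localization.Away π) f))) π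
        * algebraMap (Localization.Away π) _ (IsLocalization.Away.invSelf π) = 1 := by
      rw [IsScalarTower.algebraMap_apply A (Localization.Away π) (AdjoinRoot _), ← map_mul,
        IsLocalization.Away.mul_invSelf, map_one]
    have hZ : (AdjoinRoot.root (Polynomial.X ^ (r' + 1 + (d + 1)) -
          Polynomial.C (algebraMap A (Localization.Away π) f))) ^ (r' + 1 + (d + 1))
        = algebraMap A _ (π ^ a * (u : A)) := by
      rw [← hfa, IsScalarTower.algebraMap_apply A (Localization.Away π) (AdjoinRoot _),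
        AdjoinRoot.algebraMap_eq]
      have h0 := AdjoinRoot.eval₂_root (Polynomial.X ^ (r' + 1 + (d + 1)) -
          Polynomial.C (algebraMap A (Localization.Away π) f))
      rw [Polynomial.eval₂_sub, Polynomial.eval₂_pow, Polynomial.eval₂_X, Polynomial.eval₂_C,
        sub_eq_zero] at h0
      exact h0
    exact lemmaC π u _ _ hPQ r' d _ a ha hZ hsp

theorem main (R : Type u) [CommRing R]
    [IsDomain R] (ϖ : R) (hϖ : Irreducible ϖ)
    (A : Type u) [CommRing A] [IsDomain A] [Algebra R A]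
    (hinj : Function.Injective (algebraMap R A)) (hprime : (Ideal.span {algebraMap R A ϖ}).IsPrime)
    (m : ℕ) (hm : 0 < m) (f : A)
    (hf : IsUnit (algebraMap A (Localization.Away (algebraMap R A ϖ)) f))
    [IsDomain (AdjoinRoot (Polynomial.X ^ m -
      Polynomial.C (algebraMap A (Localization.Away (algebraMap R A ϖ)) f)))]
    (hsp : (Ideal.span {algebraMap A (integralClosure A
        (AdjoinRoot (Polynomial.X ^ m -
          Polynomial.C (algebraMap A (Localization.Away (algebraMap R A ϖ)) f))))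
          (algebraMap R A ϖ)}).IsPrime) :
    ∃ (q : ℕ) (u : Aˣ), f = algebraMap R A ϖ ^ (m * q) * (u : A) := by
  have hπ0 : algebraMap R A ϖ ≠ 0 := fun h => hϖ.ne_zero (hinj (h.trans (map_zero _).symm))
  exact mainAbs A (algebraMap R A ϖ) hπ0 hprime m hm f hf hsp

end Groth.Agent.Lib.Helper6.KummerDVR
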