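import Mathlib
import Groth.Prelude.Def_W4stkremschemesLRS
import Groth.Agent.Lib.Helper6.LRSClosed

/-!
# A locally ringed space closed-immersed in a scheme is a scheme

Base change of `LRSImm.IsClosedImmersion` along open immersions, and the consequence that the
source of a closed immersion of locally ringed spaces into a scheme is a scheme.
-/

set_option backward.isDefEq.respectTransparency false
set_option autoImplicit false

universe u

open CategoryTheory Opposite TopologicalSpace AlgebraicGeometry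

namespace Groth.Agent.Lib.Helper6.LRSClosedSch

open Groth.Agent.Lib.Helper6.LRSClosed

section Basic

variable {A B : LocallyRingedSpace.{u}}

theorem c_app_eq_zero_congr {h₁ h₂ : A ⟶ B} (e : h₁ = h₂) (V : Opens B.toTopCat)
    (s : B.presheaf.obj (op V)) :
    h₁.c.app (op V) s = 0 ↔ h₂.c.app (op V) s = 0 := by
  subst e; rfl

theorem stalkMap_surjective_congr {h₁ h₂ : A ⟶ B} (e : h₁ = h₂) (a : A) :
    Function.Surjective (h₁.stalkMap a) ↔ Function.Surjective (h₂.stalkMap a) := by
  subst e; rfl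

theorem germ_eq_zero_iff {T : TopCat.{u}} (F : TopCat.Presheaf CommRingCat.{u} T) {V : Opens T}
    (p : T) (hp : p ∈ V) (s : F.obj (op V)) :
    F.germ V p hp s = 0 ↔
      ∃ (V₁ : Opens T) (_ : p ∈ V₁) (hle : V₁ ≤ V), F.map (homOfLE hle).op s = 0 := by
  constructor
  · intro h
    have h2 : F.germ V p hp s = F.germ V p hp 0 := by rw [h, map_zero]
    obtain ⟨W, hpW, iU, iV, hW⟩ := TopCat.Presheaf.germ_eq F p hp hp s 0 h2
    refine ⟨W, hpW, iU.le, ?_⟩
    rw [map_zero] at hW
    have e : homOfLE iU.le = iU := Subsingleton.elim _ _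
    rw [e]
    exact hW
  · rintro ⟨V₁, hp₁, hle, h⟩
    rw [← TopCat.Presheaf.germ_res_apply F (homOfLE hle) p hp₁ s, h, map_zero]

/-- `s` dies under `g.c` on a neighbourhood of `p`. -/
def KZ (g : A ⟶ B) (V : Opens B.toTopCat) (s : B.presheaf.obj (op V)) (p : B.toTopCat) : Prop :=
  ∃ (V₁ : Opens B.toTopCat) (_ : p ∈ V₁) (hle : V₁ ≤ V),
    g.c.app (op V₁) (B.presheaf.map (homOfLE hle).op s) = 0

theorem map_germ_eq_zero_iff (g : A ⟶ B) (V : Opens B.toTopCat) (p : B.toTopCat) (hp : p ∈ V)
    (s : B.presheaf.obj (op V)) :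
    (TopCat.Presheaf.stalkFunctor CommRingCat p).map g.c (B.presheaf.germ V p hp s) = 0 ↔
      KZ g V s p := by
  have e := TopCat.Presheaf.stalkFunctor_map_germ_apply V p hp g.c s
  rw [e, germ_eq_zero_iff]
  constructor
  · rintro ⟨V₁, hp₁, hle, h⟩
    refine ⟨V₁, hp₁, hle, ?_⟩
    rw [c_res g hle s ((Opens.map g.base).map (homOfLE hle))]
    exact h
  · rintro ⟨V₁, hp₁, hle, h⟩
    refine ⟨V₁, hp₁, hle, ?_⟩
    rw [c_res g hle s ((Opens.map g.base).map (homOfLE hle))] at h
    exact h

/-- sections over opens inside the image of an open immersion are detected after restriction. -/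
theorem eq_zero_of_c_app_eq_zero {A' : LocallyRingedSpace.{u}} (ι : A' ⟶ A)
    [LocallyRingedSpace.IsOpenImmersion ι] (O : Opens A.toTopCat)
    (hO : ∀ a ∈ O, a ∈ Set.range ι.base) (σ : A.presheaf.obj (op O))
    (h : ι.c.app (op O) σ = 0) : σ = 0 := by
  apply TopCat.Presheaf.section_ext A.sheaf O σ 0
  intro a ha
  obtain ⟨a', rfl⟩ := hO a ha
  have e := LocallyRingedSpace.stalkMap_germ_apply ι O a' ha σ
  rw [h, map_zero] at e
  have hinj : Function.Injective (ι.stalkMap a') :=
    (ConcreteCategory.bijective_of_isIso (ι.stalkMap a')).1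
  apply hinj
  refine e.trans ?_
  rw [map_zero, map_zero]

end Basic

section Square

variable {A A' B B' : LocallyRingedSpace.{u}} (g : A ⟶ B) (g' : A' ⟶ B') (ι : A' ⟶ A)
  (f : B' ⟶ B)

theorem KZ_transfer [LocallyRingedSpace.IsOpenImmersion ι] [hf : LocallyRingedSpace.IsOpenImmersion f]
    (sq : g' ≫ f = ι ≫ g)
    (cart : ∀ a : A, g.base a ∈ Set.range f.base → a ∈ Set.range ι.base)
    (V : Opens B.toTopCat) (s₀ : B.presheaf.obj (op V)) (b'' : B'.toTopCat) :
    KZ g V s₀ (f.base b'') ↔ KZ g' ((Opens.map f.base).obj V) (f.c.app (op V) s₀) b'' := by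
  have hfo : Topology.IsOpenEmbedding f.base := hf.base_open
  constructor
  · rintro ⟨V₁, hp₁, hle, h⟩
    have hle' : (Opens.map f.base).obj V₁ ≤ (Opens.map f.base).obj V := fun x hx => hle hx
    refine ⟨(Opens.map f.base).obj V₁, hp₁, hle', ?_⟩
    have e1 : B'.presheaf.map (homOfLE hle').op (f.c.app (op V) s₀) =
        f.c.app (op V₁) (B.presheaf.map (homOfLE hle).op s₀) :=
      (c_res f hle s₀ (homOfLE hle')).symm
    rw [e1]
    have e2 : (g' ≫ f).c.app (op V₁) (B.presheaf.map (homOfLE hle).op s₀) = 0 := by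
      rw [c_app_eq_zero_congr sq]
      show ι.c.app _ (g.c.app (op V₁) _) = 0
      rw [h, map_zero]
    exact e2
  · rintro ⟨V₂, hp₂, hle₂, h⟩
    let V₁ : Opens B.toTopCat := ⟨f.base '' (V₂ : Set B'.toTopCat), hfo.isOpenMap _ V₂.isOpen⟩
    have hV₁V : V₁ ≤ V := by
      rintro _ ⟨b, hb, rfl⟩
      exact hle₂ hb
    have hpre : (Opens.map f.base).obj V₁ ≤ V₂ := by
      intro b hb
      obtain ⟨b₂, hb₂, e⟩ := hb
      rw [← hfo.injective e]; exact hb₂
    refine ⟨V₁, ⟨b'', hp₂, rfl⟩, hV₁V, ?_⟩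
    have e3 : (g' ≫ f).c.app (op V₁) (B.presheaf.map (homOfLE hV₁V).op s₀) = 0 := by
      show g'.c.app (op ((Opens.map f.base).obj V₁))
        (f.c.app (op V₁) (B.presheaf.map (homOfLE hV₁V).op s₀)) = 0
      rw [c_res f hV₁V s₀ ((Opens.map f.base).map (homOfLE hV₁V))]
      have hm : ((Opens.map f.base).map (homOfLE hV₁V)).op =
          (homOfLE hle₂).op ≫ (homOfLE hpre).op := Quiver.Hom.unop_inj (Subsingleton.elim _ _)
      rw [hm, Functor.map_comp, ConcreteCategory.comp_apply,
        c_res g' hpre _ ((Opens.map g'.base).map (homOfLE hpre)), h, map_zero]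
    have e5 : ι.c.app (op ((Opens.map g.base).obj V₁))
        (g.c.app (op V₁) (B.presheaf.map (homOfLE hV₁V).op s₀)) = 0 :=
      (c_app_eq_zero_congr sq V₁ _).mp e3
    refine eq_zero_of_c_app_eq_zero ι _ ?_ _ e5
    rintro a ⟨b, hb, e⟩
    exact cart a ⟨b, e⟩

theorem ker_transfer [LocallyRingedSpace.IsOpenImmersion ι] [LocallyRingedSpace.IsOpenImmersion f]
    (sq : g' ≫ f = ι ≫ g)
    (cart : ∀ a : A, g.base a ∈ Set.range f.base → a ∈ Set.range ι.base)
    (b'' : B'.toTopCat) (x : B.presheaf.stalk (f.base b'')) :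
    (TopCat.Presheaf.stalkFunctor CommRingCat (f.base b'')).map g.c x = 0 ↔
      (TopCat.Presheaf.stalkFunctor CommRingCat b'').map g'.c (f.stalkMap b'' x) = 0 := by
  obtain ⟨V, hV, s₀, rfl⟩ := TopCat.Presheaf.exists_germ_eq B.presheaf x
  rw [map_germ_eq_zero_iff g V (f.base b'') hV s₀, KZ_transfer g g' ι f sq cart V s₀ b'']
  have e := LocallyRingedSpace.stalkMap_germ_apply f V b'' hV s₀
  rw [e, map_germ_eq_zero_iff g' _ b'' hV _]

/-- Base change of a closed immersion of locally ringed spaces along an open immersion. -/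
theorem isClosedImmersion_of_square
    [hι : LocallyRingedSpace.IsOpenImmersion ι] [hf : LocallyRingedSpace.IsOpenImmersion f]
    (sq : g' ≫ f = ι ≫ g)
    (cart : ∀ a : A, g.base a ∈ Set.range f.base → a ∈ Set.range ι.base)
    (hg : LRSImm.IsClosedImmersion g) : LRSImm.IsClosedImmersion g' := by
  have hιo : Topology.IsOpenEmbedding ι.base := hι.base_open
  have hfo : Topology.IsOpenEmbedding f.base := hf.base_open
  have hbase : ∀ a', f.base (g'.base a') = g.base (ι.base a') := by
    intro a'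
    have h0 := congrArg (fun h => h.base a') sq
    exact h0
  -- (1)
  have h1 : Topology.IsClosedEmbedding g'.base := by
    have hemb : Topology.IsEmbedding (f.base ∘ g'.base) := by
      have h0 : (f.base ∘ g'.base : A' → B) = g.base ∘ ι.base := funext hbase
      rw [h0]
      exact hg.1.toIsEmbedding.comp hιo.toIsEmbedding
    have hemb' : Topology.IsEmbedding g'.base :=
      Topology.IsEmbedding.of_comp g'.base.hom.continuous f.base.hom.continuous hemb
    refine ⟨hemb', ?_⟩
    have hrange : Set.range g'.base = f.base ⁻¹' (Set.range g.base) := by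
      ext b'
      constructor
      · rintro ⟨a', rfl⟩
        exact ⟨ι.base a', (hbase a').symm⟩
      · rintro ⟨a, ha⟩
        obtain ⟨a', rfl⟩ := cart a ⟨b', ha.symm⟩
        exact ⟨a', hfo.injective ((hbase a').trans ha)⟩
    rw [hrange]
    exact hg.1.isClosed_range.preimage f.base.hom.continuous
  refine ⟨h1, ?_, ?_⟩
  · -- (2) local surjectivity
    rw [TopCat.Presheaf.locally_surjective_iff_surjective_on_stalks]
    intro b'
    by_cases hb : b' ∈ Set.range g'.base
    · obtain ⟨a', rfl⟩ := hb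
      have hs : Function.Surjective (g'.stalkMap a') := by
        have h3 : Function.Surjective ((ι ≫ g).stalkMap a') := by
          have e := LocallyRingedSpace.stalkMap_comp ι g a'
          intro y
          obtain ⟨y1, hy1⟩ := (ConcreteCategory.bijective_of_isIso (ι.stalkMap a')).2 y
          obtain ⟨y2, hy2⟩ := stalkMap_surjective_of g hg.1.isInducing hg.2.1 (ι.base a') y1
          refine ⟨y2, (ConcreteCategory.congr_hom e y2).trans ?_⟩
          show ι.stalkMap a' (g.stalkMap (ι.base a') y2) = y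
          rw [hy2, hy1]
        have h2 : Function.Surjective ((g' ≫ f).stalkMap a') :=
          (stalkMap_surjective_congr sq a').mpr h3
        have e' := LocallyRingedSpace.stalkMap_comp g' f a'
        intro y
        obtain ⟨x, hx⟩ := h2 y
        exact ⟨f.stalkMap (g'.base a') x, (ConcreteCategory.congr_hom e' x).symm.trans hx⟩
      have h4 : IsIso (A'.presheaf.stalkPushforward CommRingCat g'.base a') :=
        TopCat.Presheaf.stalkPushforward.stalkPushforward_iso_of_isInducing CommRingCat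
          h1.isInducing A'.presheaf a'
      have hinj := (ConcreteCategory.bijective_of_isIso
        (A'.presheaf.stalkPushforward CommRingCat g'.base a')).1
      intro y
      obtain ⟨x, hx⟩ := hs (A'.presheaf.stalkPushforward CommRingCat g'.base a' y)
      exact ⟨x, hinj hx⟩
    · intro y
      obtain ⟨V, hbV, t, rfl⟩ := TopCat.Presheaf.exists_germ_eq (g'.base _* A'.presheaf) y
      refine ⟨0, ?_⟩
      rw [map_zero]
      symm
      rw [germ_eq_zero_iff]
      let V₁ : Opens B'.toTopCat := V ⊓ ⟨(Set.range g'.base)ᶜ, h1.isClosed_range.isOpen_compl⟩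
      refine ⟨V₁, ⟨hbV, hb⟩, inf_le_left, ?_⟩
      have hempty : (Opens.map g'.base).obj V₁ = ⊥ :=
        le_bot_iff.mp (fun a' ha' => (ha'.2 ⟨a', rfl⟩).elim)
      have hsub : Subsingleton (A'.presheaf.obj (op ((Opens.map g'.base).obj V₁))) :=
        CommRingCat.subsingleton_of_isTerminal (A'.sheaf.isTerminalOfEqEmpty hempty)
      exact @Subsingleton.elim _ hsub _ _
  · -- (3) kernel locally generated
    intro b'
    obtain ⟨U₀, hbU₀, κ, s, hs0, hsker⟩ := hg.2.2 (f.base b')
    refine ⟨(Opens.map f.base).obj U₀, hbU₀, κ, fun j => f.c.app (op U₀) (s j), ?_, ?_⟩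
    · intro j
      have e1 : (g' ≫ f).c.app (op U₀) (s j) = 0 := by
        rw [c_app_eq_zero_congr sq]
        show ι.c.app _ (g.c.app (op U₀) (s j)) = 0
        rw [hs0 j, map_zero]
      exact e1
    · intro b'' hb''
      show Ideal.span (Set.range fun j => B'.presheaf.germ ((Opens.map f.base).obj U₀) b'' hb''
          (f.c.app (op U₀) (s j))) =
        RingHom.ker ((TopCat.Presheaf.stalkFunctor CommRingCat b'').map g'.c).hom
      have hΦ := ConcreteCategory.bijective_of_isIso (f.stalkMap b'')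
      have hgerm : ∀ j, B'.presheaf.germ ((Opens.map f.base).obj U₀) b'' hb''
          (f.c.app (op U₀) (s j)) =
          f.stalkMap b'' (B.presheaf.germ U₀ (f.base b'') hb'' (s j)) :=
        fun j => (LocallyRingedSpace.stalkMap_germ_apply f U₀ b'' hb'' (s j)).symm
      have hset : (Set.range fun j => B'.presheaf.germ ((Opens.map f.base).obj U₀) b'' hb''
          (f.c.app (op U₀) (s j))) =
          (f.stalkMap b'').hom '' (Set.range fun j => B.presheaf.germ U₀ (f.base b'') hb'' (s j)) := by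
        ext y
        constructor
        · rintro ⟨j, rfl⟩
          exact ⟨_, ⟨j, rfl⟩, (hgerm j).symm⟩
        · rintro ⟨_, ⟨j, rfl⟩, rfl⟩
          exact ⟨j, hgerm j⟩
      rw [hset, ← Ideal.map_span, hsker (f.base b'') hb'']
      apply le_antisymm
      · rw [Ideal.map_le_iff_le_comap]
        intro x hx
        rw [Ideal.mem_comap, RingHom.mem_ker]
        exact (ker_transfer g g' ι f sq cart b'' x).mp (RingHom.mem_ker.mp hx)
      · intro y hy
        obtain ⟨x, rfl⟩ := hΦ.2 y
        have hx : x ∈ RingHom.ker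
            ((TopCat.Presheaf.stalkFunctor CommRingCat (f.base b'')).map g.c).hom :=
          RingHom.mem_ker.mpr
            ((ker_transfer g g' ι f sq cart b'' x).mpr (RingHom.mem_ker.mp hy))
        exact Ideal.mem_map_of_mem _ hx

end Square

section Scheme

theorem local_affine_of (X : Scheme.{u}) (Z : LocallyRingedSpace.{u})
    (i : Z ⟶ X.toLocallyRingedSpace) (hi : LRSImm.IsClosedImmersion i) (z : Z) :
    ∃ (U : TopologicalSpace.OpenNhds z) (R : CommRingCat.{u}),
      Nonempty (Z.restrict U.isOpenEmbedding ≅ Spec.toLocallyRingedSpace.obj (op R)) := by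
  let 𝒰 := X.affineOpenCover
  let k := 𝒰.idx (i.base z)
  have hf : IsOpenImmersion (𝒰.f k) := 𝒰.map_prop k
  have hfL : LocallyRingedSpace.IsOpenImmersion (𝒰.f k).toLRSHom := hf
  let W : Opens Z.toTopCat := (Opens.map i.base).obj (𝒰.f k).opensRange
  have hzW : z ∈ W := 𝒰.covers (i.base z)
  let U : TopologicalSpace.OpenNhds z := ⟨W, hzW⟩
  let ι := Z.ofRestrict U.isOpenEmbedding
  have H : Set.range (ι ≫ i).base ⊆ Set.range (𝒰.f k).toLRSHom.base := by
    rintro _ ⟨w, rfl⟩
    exact w.2
  let g' := LocallyRingedSpace.IsOpenImmersion.lift (𝒰.f k).toLRSHom (ι ≫ i) H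
  have sq : g' ≫ (𝒰.f k).toLRSHom = ι ≫ i :=
    LocallyRingedSpace.IsOpenImmersion.lift_fac _ _ H
  have cart : ∀ a : Z, i.base a ∈ Set.range (𝒰.f k).toLRSHom.base → a ∈ Set.range ι.base := by
    intro a ha
    exact ⟨⟨a, ha⟩, rfl⟩
  have hcl := isClosedImmersion_of_square i g' ι (𝒰.f k).toLRSHom sq cart hi
  obtain ⟨e, -⟩ := LRSClosed.main (𝒰.X k) (Z.restrict U.isOpenEmbedding) g' hcl _ rfl
  exact ⟨U, _, ⟨e⟩⟩

theorem isClosedImmersion_mk {X Z' : Scheme.{u}}
    (i' : Z'.toLocallyRingedSpace ⟶ X.toLocallyRingedSpace)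
    (hi : LRSImm.IsClosedImmersion i') : IsClosedImmersion (Scheme.Hom.mk i' : Z' ⟶ X) :=
  { stalkMap_surjective := fun z => stalkMap_surjective_of i' hi.1.isInducing hi.2.1 z
    isClosedEmbedding := hi.1 }

theorem main5 (X : Scheme.{u}) (Z : LocallyRingedSpace.{u}) (i : Z ⟶ X.toLocallyRingedSpace)
    (hi : LRSImm.IsClosedImmersion i) :
    ∃ (Z' : Scheme.{u}) (e : Z'.toLocallyRingedSpace ≅ Z),
      AlgebraicGeometry.IsClosedImmersion (Scheme.Hom.mk (e.hom ≫ i) : Z' ⟶ X) := by
  let Z' : Scheme.{u} := { toLocallyRingedSpace := Z, local_affine := local_affine_of X Z i hi }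
  have h1 : (Iso.refl Z).hom ≫ i = i := Category.id_comp i
  have hi' : LRSImm.IsClosedImmersion ((Iso.refl Z).hom ≫ i) := by rw [h1]; exact hi
  exact ⟨Z', Iso.refl Z, isClosedImmersion_mk (Z' := Z') _ hi'⟩

end Scheme

end Groth.Agent.Lib.Helper6.LRSClosedSch
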