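import Groth.Agent.Lib.Helper6.LambdaExt

/-!
# `f(λ_t(e - ℓ)) = 1` on the elementary extension (helper6)
-/

set_option autoImplicit false
open LambdaRing PowerSeries

namespace Groth.Agent.Lib.Helper6.LambdaExt

open Groth.Agent.Lib.Helper6.LambdaBasic

universe u
variable {K : Type u} [CommRing K] [LambdaOps K]

lemma neg_one_pow_sub {i k : ℕ} (h : k ≤ i) : (-1 : K) ^ (i - k) = (-1) ^ i * (-1) ^ k := by
  have h2 : i + k = (i - k) + 2 * k := by omega
  rw [← pow_add, h2, pow_add, pow_mul]
  simp

lemma sigma_lam_sum (e : K) (i : ℕ) :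
    ∑ j ∈ Finset.range (i + 1), LambdaOps.lam (i - j) e * ((-1 : K) ^ j * KRR.sigma j e) =
      if i = 0 then 1 else 0 := by
  rcases Nat.eq_zero_or_pos i with rfl | hi
  · have h : KRR.sigma 0 e = 1 := by
      have h1 : rescale (-1 : K) (lamSeries e) * KRR.sigmaSeries e = 1 := by
        unfold KRR.sigmaSeries
        apply PowerSeries.mul_invOfUnit
        rw [← coeff_zero_eq_constantCoeff_apply, coeff_rescale, pow_zero, one_mul,
          coeff_zero_eq_constantCoeff_apply, constantCoeff_lamSeries]
        rfl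
      have h2 := congrArg (coeff 0) h1
      rw [coeff_mul] at h2
      simpa [coeff_rescale, lamSeries, LambdaOps.lam_zero, KRR.sigma] using h2
    simp [LambdaOps.lam_zero, h]
  · rw [if_neg (by omega)]
    rw [← Finset.sum_range_reflect]
    have h := sigma_rec e i hi
    have h2 : ∑ j ∈ Finset.range (i + 1),
        LambdaOps.lam (i - (i + 1 - 1 - j)) e *
          ((-1 : K) ^ (i + 1 - 1 - j) * KRR.sigma (i + 1 - 1 - j) e) =
        (-1 : K) ^ i * ∑ k ∈ Finset.range (i + 1), cc e k * KRR.sigma (i - k) e := by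
      rw [Finset.mul_sum]
      apply Finset.sum_congr rfl
      intro j hj
      rw [Finset.mem_range] at hj
      rw [show i + 1 - 1 - j = i - j by omega, show i - (i - j) = j by omega,
        neg_one_pow_sub (by omega : j ≤ i), cc]
      ring
    rw [h2, h, mul_zero]

theorem functional_lam_sub_root (P : PosStructure K) (e : K) (he : e ∈ P.pos) (r : ℕ)
    (hr : P.aug e = r + 1) (p : Polynomial K)
    (hp : p = ∑ i ∈ Finset.range (r + 2),
      Polynomial.C ((-1 : K) ^ i * LambdaOps.lam i e) * Polynomial.X ^ (r + 1 - i))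
    [LambdaOps (AdjoinRoot p)]
    (hext : ∀ (i : ℕ) (x : K), LambdaOps.lam i (AdjoinRoot.of p x) =
      AdjoinRoot.of p (LambdaOps.lam i x))
    (hroot : ∀ i : ℕ, 2 ≤ i → LambdaOps.lam i (AdjoinRoot.root p) = 0)
    (f : AdjoinRoot p →ₗ[K] K)
    (hf : ∀ i : ℕ, i ≤ r → f (AdjoinRoot.root p ^ i) = KRR.sigma i e) (i : ℕ) :
    f (LambdaOps.lam i (AdjoinRoot.of p e - AdjoinRoot.root p)) = if i = 0 then 1 else 0 := by
  -- values of `f` on all powers of the root
  have part1 : ∀ N, f (AdjoinRoot.root p ^ N) = KRR.sigma N e := by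
    have hm : (P.aug e).toNat = r + 1 := by rw [hr]; norm_cast
    have hrel : ∑ i ∈ Finset.range (r + 2), cc e i • (AdjoinRoot.root p) ^ (r + 1 - i) = 0 := by
      have h := AdjoinRoot.eval₂_root p
      have h2 : Polynomial.eval₂ (AdjoinRoot.of p) (AdjoinRoot.root p)
          (∑ i ∈ Finset.range (r + 2),
            Polynomial.C ((-1 : K) ^ i * LambdaOps.lam i e) * Polynomial.X ^ (r + 1 - i)) = 0 := by
        rw [← hp]; exact h
      rw [Polynomial.eval₂_finset_sum] at h2
      rw [← h2]
      apply Finset.sum_congr rfl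
      intro i _
      rw [Polynomial.eval₂_mul, Polynomial.eval₂_C, Polynomial.eval₂_pow, Polynomial.eval₂_X,
        Algebra.smul_def, AdjoinRoot.algebraMap_eq]
      rfl
    -- an inverse of the root: from the relation, since the last coefficient is a unit
    have cc_unit : IsUnit (cc e (r + 1)) := by
      have h := P.isUnit_lam e he
      rw [hm] at h
      exact ((isUnit_one.neg).pow (r + 1)).mul h
    obtain ⟨c, hc⟩ := cc_unit
    -- root * (stuff) = - c, so root is a unit
    have hsplit : ∑ i ∈ Finset.range (r + 2), cc e i • (AdjoinRoot.root p) ^ (r + 1 - i) =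
        (∑ i ∈ Finset.range (r + 1), cc e i • (AdjoinRoot.root p) ^ (r - i)) * AdjoinRoot.root p +
          cc e (r + 1) • (1 : AdjoinRoot p) := by
      rw [Finset.sum_range_succ, Finset.sum_mul]
      congr 1
      · apply Finset.sum_congr rfl
        intro i hi
        rw [Finset.mem_range] at hi
        rw [smul_mul_assoc, ← pow_succ, show r - i + 1 = r + 1 - i by omega]
      · rw [Nat.sub_self, pow_zero]
    rw [hsplit] at hrel
    let linv : AdjoinRoot p :=
      (-(↑c⁻¹ : K)) • ∑ i ∈ Finset.range (r + 1), cc e i • (AdjoinRoot.root p) ^ (r - i)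
    have hlinv : linv * AdjoinRoot.root p = 1 := by
      have h1 : (∑ i ∈ Finset.range (r + 1), cc e i • (AdjoinRoot.root p) ^ (r - i)) *
          AdjoinRoot.root p = -(cc e (r + 1) • (1 : AdjoinRoot p)) := eq_neg_of_add_eq_zero_left hrel
      change ((-(↑c⁻¹ : K)) • ∑ i ∈ Finset.range (r + 1), cc e i • (AdjoinRoot.root p) ^ (r - i)) *
        AdjoinRoot.root p = 1
      rw [smul_mul_assoc, h1, ← hc, smul_neg, neg_smul, neg_neg, smul_smul, Units.inv_mul, one_smul]
    exact (functional_values P e he r hr p hp f hf linv hlinv).1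
  -- λ-series of the root
  set ℓ := AdjoinRoot.root p with hℓ
  set q := AdjoinRoot.of p e - ℓ with hq
  have hrec : ∀ n : ℕ, LambdaOps.lam (n + 1) q =
      AdjoinRoot.of p (LambdaOps.lam (n + 1) e) - ℓ * LambdaOps.lam n q := by
    intro n
    have h1 : AdjoinRoot.of p e = q + ℓ := by rw [hq]; ring
    have h2 := congrArg (LambdaOps.lam (n + 1)) h1
    rw [hext, LambdaOps.lam_add, Finset.sum_range_succ, Finset.sum_range_succ] at h2
    have h3 : ∑ x ∈ Finset.range n, LambdaOps.lam x q * LambdaOps.lam (n + 1 - x) ℓ = 0 := by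
      apply Finset.sum_eq_zero
      intro x hx
      rw [Finset.mem_range] at hx
      rw [hroot (n + 1 - x) (by omega), mul_zero]
    rw [h3, zero_add, show n + 1 - n = 1 by omega, Nat.sub_self, LambdaOps.lam_one,
      LambdaOps.lam_zero, mul_one] at h2
    rw [h2]
    ring
  have hformula : ∀ n : ℕ, LambdaOps.lam n q =
      ∑ j ∈ Finset.range (n + 1), AdjoinRoot.of p (LambdaOps.lam (n - j) e) * (-ℓ) ^ j := by
    intro n
    induction n with
    | zero => simp [LambdaOps.lam_zero]
    | succ n ih =>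
      rw [hrec, ih, Finset.sum_range_succ' _ (n + 1), Finset.mul_sum]
      simp only [Nat.sub_zero, pow_zero, mul_one]
      have h : ∑ j ∈ Finset.range (n + 1),
          AdjoinRoot.of p (LambdaOps.lam (n + 1 - (j + 1)) e) * (-ℓ) ^ (j + 1) =
          -∑ j ∈ Finset.range (n + 1), ℓ * (AdjoinRoot.of p (LambdaOps.lam (n - j) e) * (-ℓ) ^ j) := by
        rw [← Finset.sum_neg_distrib]
        apply Finset.sum_congr rfl
        intro j _
        rw [show n + 1 - (j + 1) = n - j by omega, pow_succ]
        ring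
      rw [h]
      ring
  rw [hformula, map_sum]
  rw [← sigma_lam_sum e i]
  apply Finset.sum_congr rfl
  intro j _
  have h1 : AdjoinRoot.of p (LambdaOps.lam (i - j) e) * (-ℓ) ^ j =
      (LambdaOps.lam (i - j) e * (-1 : K) ^ j) • ℓ ^ j := by
    rw [Algebra.smul_def, AdjoinRoot.algebraMap_eq, map_mul, map_pow, map_neg, map_one, neg_pow ℓ]
    ring
  rw [h1, map_smul, part1, smul_eq_mul]
  ring

end Groth.Agent.Lib.Helper6.LambdaExt
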