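import Groth.Agent.Lib.Helper6.LambdaExt2

/-!
# The annihilator of `1 - ℓ` in the elementary extension `K[T]/(p_e)` (helper6)
-/

set_option autoImplicit false
open LambdaRing

namespace Groth.Agent.Lib.Helper6.LambdaExt

open Groth.Agent.Lib.Helper6.LambdaBasic
open Polynomial

universe u
variable {K : Type u} [CommRing K] [LambdaOps K]

/-- the polynomials `P_n = Σ_{j ≤ n} (-1)^j λ^j(e) X^(n-j)` -/
noncomputable def PP (e : K) (n : ℕ) : Polynomial K :=
  ∑ j ∈ Finset.range (n + 1), C ((-1 : K) ^ j * LambdaOps.lam j e) * X ^ (n - j)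

lemma PP_zero (e : K) : PP e 0 = 1 := by simp [PP, LambdaOps.lam_zero]

lemma PP_succ (e : K) (n : ℕ) :
    PP e (n + 1) = X * PP e n + C ((-1 : K) ^ (n + 1) * LambdaOps.lam (n + 1) e) := by
  unfold PP
  rw [Finset.sum_range_succ, Finset.mul_sum]
  congr 1
  · apply Finset.sum_congr rfl
    intro j hj
    rw [Finset.mem_range] at hj
    rw [show n + 1 - j = (n - j) + 1 by omega, pow_succ]
    ring
  · simp

lemma PP_monic [Nontrivial K] (e : K) : ∀ n, (PP e n).Monic ∧ (PP e n).natDegree = n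
  | 0 => by rw [PP_zero]; exact ⟨monic_one, natDegree_one⟩
  | n + 1 => by
    obtain ⟨hm, hd⟩ := PP_monic e n
    rw [PP_succ]
    have h1 : (X * PP e n).Monic := monic_X.mul hm
    have h2 : (X * PP e n).natDegree = n + 1 := by rw [natDegree_X_mul hm.ne_zero, hd]
    constructor
    · apply h1.add_of_left
      rw [degree_eq_natDegree h1.ne_zero, h2]
      exact lt_of_le_of_lt degree_C_le (by exact_mod_cast Nat.succ_pos n)
    · rw [natDegree_add_C, h2]

lemma eval_one_PP (e : K) (n : ℕ) :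
    (PP e n).eval 1 = ∑ j ∈ Finset.range (n + 1), (-1 : K) ^ j * LambdaOps.lam j e := by
  unfold PP
  rw [eval_finset_sum]
  apply Finset.sum_congr rfl
  intro j _
  rw [eval_mul, eval_C, eval_pow, eval_X, one_pow, mul_one]

/-- polynomial lifts of `λ^n(e - ℓ)` -/
noncomputable def QQ (e : K) : ℕ → Polynomial K
  | 0 => 1
  | n + 1 => C (LambdaOps.lam (n + 1) e) - X * QQ e n

lemma neg_one_pow_mul_self (n : ℕ) : (-1 : K) ^ n * (-1 : K) ^ n = 1 := by
  rw [← mul_pow, neg_one_mul, neg_neg, one_pow]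

lemma QQ_eq (e : K) : ∀ n, QQ e n = C ((-1 : K) ^ n) * PP e n
  | 0 => by simp [QQ, PP_zero]
  | n + 1 => by
    rw [QQ, QQ_eq e n, PP_succ]
    have hS : (C ((-1 : K) ^ n) : Polynomial K) * C ((-1 : K) ^ n) = 1 := by
      rw [← C_mul, neg_one_pow_mul_self, C_1]
    rw [pow_succ, mul_neg_one]
    simp only [map_neg, map_mul]
    linear_combination (-(C (LambdaOps.lam (n + 1) e) : Polynomial K)) * hS

lemma tele (e : K) : ∀ n, (1 - X) * ∑ i ∈ Finset.range n, C ((-1 : K) ^ i) * QQ e i =
    C (∑ i ∈ Finset.range (n + 1), (-1 : K) ^ i * LambdaOps.lam i e) - C ((-1 : K) ^ n) * QQ e n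
  | 0 => by simp [QQ, LambdaOps.lam_zero]
  | n + 1 => by
    rw [Finset.sum_range_succ, mul_add, tele e n, Finset.sum_range_succ _ (n + 1), QQ]
    simp only [map_add, map_mul, map_pow, map_neg, map_one]
    ring

theorem ann_one_sub_root (P : PosStructure K) (e : K) (he : e ∈ P.pos) (r : ℕ)
    (hr : P.aug e = r + 1) (p : Polynomial K)
    (hp : p = ∑ i ∈ Finset.range (r + 2),
      Polynomial.C ((-1 : K) ^ i * LambdaOps.lam i e) * Polynomial.X ^ (r + 1 - i))
    [LambdaOps (AdjoinRoot p)]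
    (hext : ∀ (i : ℕ) (x : K), LambdaOps.lam i (AdjoinRoot.of p x) =
      AdjoinRoot.of p (LambdaOps.lam i x))
    (hroot : ∀ i : ℕ, 2 ≤ i → LambdaOps.lam i (AdjoinRoot.root p) = 0)
    (f : AdjoinRoot p →ₗ[K] K)
    (hf : ∀ i : ℕ, i ≤ r → f (AdjoinRoot.root p ^ i) = KRR.sigma i e)
    (z : AdjoinRoot p) (hz : z * (1 - AdjoinRoot.root p) = 0) :
    z = AdjoinRoot.of p (f z) * ∑ i ∈ Finset.range (r + 1),
      (-1 : AdjoinRoot p) ^ i * LambdaOps.lam i (AdjoinRoot.of p e - AdjoinRoot.root p) := by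
  haveI : Nontrivial K := P.aug.domain_nontrivial
  have hpP : p = PP e (r + 1) := hp
  obtain ⟨hmon, hdeg⟩ := PP_monic e (r + 1)
  rw [← hpP] at hmon hdeg
  -- the λ-operations of `e - ℓ`
  set ℓ := AdjoinRoot.root p with hℓ
  set q := AdjoinRoot.of p e - ℓ with hq
  have hrec : ∀ n : ℕ, LambdaOps.lam (n + 1) q =
      AdjoinRoot.of p (LambdaOps.lam (n + 1) e) - ℓ * LambdaOps.lam n q := by
    intro n
    have h1 : AdjoinRoot.of p e = q + ℓ := by rw [hq]; ring
    have h2 := congrArg (LambdaOps.lam (n + 1)) h1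
    rw [hext, LambdaOps.lam_add, Finset.sum_range_succ, Finset.sum_range_succ] at h2
    have h3 : ∑ x ∈ Finset.range n, LambdaOps.lam x q * LambdaOps.lam (n + 1 - x) ℓ = 0 := by
      apply Finset.sum_eq_zero
      intro x hx
      rw [Finset.mem_range] at hx
      rw [hroot (n + 1 - x) (by omega), mul_zero]
    rw [h3, zero_add, show n + 1 - n = 1 by omega, Nat.sub_self, LambdaOps.lam_one,
      LambdaOps.lam_zero, mul_one] at h2
    rw [h2]
    ring
  have hmkQ : ∀ n : ℕ, AdjoinRoot.mk p (QQ e n) = LambdaOps.lam n q := by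
    intro n
    induction n with
    | zero => rw [QQ, map_one, LambdaOps.lam_zero]
    | succ n ih =>
      rw [QQ, map_sub, map_mul, ih, hrec, AdjoinRoot.mk_C, AdjoinRoot.mk_X]
  -- the element Λ and its polynomial lift
  set L : Polynomial K := ∑ i ∈ Finset.range (r + 1), C ((-1 : K) ^ i) * QQ e i with hL
  have hmkL : AdjoinRoot.mk p L = ∑ i ∈ Finset.range (r + 1),
      (-1 : AdjoinRoot p) ^ i * LambdaOps.lam i q := by
    rw [hL, map_sum]
    apply Finset.sum_congr rfl
    intro i _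
    rw [map_mul, hmkQ, AdjoinRoot.mk_C, map_pow, map_neg, map_one]
  have hE1 : (1 - X) * L = C (p.eval 1) - p := by
    rw [hL, tele e (r + 1), QQ_eq, ← mul_assoc, ← C_mul, neg_one_pow_mul_self, C_1, one_mul,
      ← hpP, hpP, eval_one_PP]
  have hfΛ : f (∑ i ∈ Finset.range (r + 1), (-1 : AdjoinRoot p) ^ i * LambdaOps.lam i q) = 1 := by
    rw [map_sum, Finset.sum_eq_single 0]
    · rw [pow_zero, one_mul]
      exact functional_lam_sub_root P e he r hr p hp hext hroot f hf 0
    · intro i _ hi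
      have h0 := functional_lam_sub_root P e he r hr p hp hext hroot f hf i
      rw [if_neg hi] at h0
      rcases neg_one_pow_eq_or (AdjoinRoot p) i with h | h
      · rw [h, one_mul]; exact h0
      · rw [h, neg_one_mul, map_neg, neg_eq_zero]; exact h0
    · intro h
      exact absurd (Finset.mem_range.mpr (Nat.succ_pos r)) h
  -- a representative of `z` of small degree
  set g := AdjoinRoot.modByMonicHom hmon z with hg
  have hmkg : AdjoinRoot.mk p g = z := AdjoinRoot.mk_leftInverse hmon z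
  have hgdeg : g.natDegree < r + 1 := by
    obtain ⟨g₀, hg₀⟩ := AdjoinRoot.mk_surjective z
    rw [hg, ← hg₀, AdjoinRoot.modByMonicHom_mk, ← hdeg]
    apply natDegree_modByMonic_lt _ hmon
    intro h1
    rw [h1, natDegree_one] at hdeg
    omega
  have hdvd : p ∣ g * (1 - X) := by
    rw [← AdjoinRoot.mk_eq_zero, map_mul, map_sub, map_one, AdjoinRoot.mk_X, hmkg]
    exact hz
  obtain ⟨w, hw⟩ := hdvd
  have hw0 : w.natDegree = 0 := by
    by_cases hw1 : w = 0
    · rw [hw1, natDegree_zero]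
    · have h1 : (p * w).natDegree = p.natDegree + w.natDegree := hmon.natDegree_mul' hw1
      have h2 : (g * (1 - X)).natDegree ≤ g.natDegree + 1 := by
        refine le_trans natDegree_mul_le ?_
        have : (1 - X : Polynomial K).natDegree ≤ 1 := by
          refine le_trans (natDegree_sub_le _ _) ?_
          rw [natDegree_one, natDegree_X]
          exact max_le (Nat.zero_le _) le_rfl
        omega
      rw [hw, h1, hdeg] at h2
      omega
  obtain ⟨a, rfl⟩ : ∃ a, w = C a := ⟨w.coeff 0, eq_C_of_natDegree_eq_zero hw0⟩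
  have heval : p.eval 1 * a = 0 := by
    have h := congrArg (eval 1) hw
    rw [eval_mul, eval_sub, eval_one, eval_X, sub_self, mul_zero, eval_mul, eval_C] at h
    exact h.symm
  have hkey : (X - C 1) * (g + C a * L) = 0 := by
    have h1 : (1 - X) * (g + C a * L) = 0 := by
      rw [mul_add, mul_left_comm, hE1, mul_comm (1 - X) g, hw, mul_sub, ← C_mul, mul_comm a,
        heval, C_0]
      ring
    rw [C_1]
    linear_combination (-1 : Polynomial K) * h1
  have hgL : g + C a * L = 0 := ((monic_X_sub_C (1 : K)).mul_right_eq_zero_iff).mp hkey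
  have hzΛ : z = -(AdjoinRoot.of p a) * ∑ i ∈ Finset.range (r + 1),
      (-1 : AdjoinRoot p) ^ i * LambdaOps.lam i q := by
    rw [← hmkL, ← hmkg, eq_neg_of_add_eq_zero_left hgL, map_neg, map_mul, AdjoinRoot.mk_C]
    ring
  have hfz : f z = -a := by
    rw [hzΛ, neg_mul, map_neg, ← AdjoinRoot.algebraMap_eq, ← Algebra.smul_def, map_smul, hfΛ,
      smul_eq_mul, mul_one]
  rw [hfz, map_neg]
  exact hzΛ

end Groth.Agent.Lib.Helper6.LambdaExt
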