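import Mathlib
import Groth.Agent.S4529

/-! Left invertibility of linear maps into projective modules over a local ring. -/

namespace Groth.Agent.Lib.Helper6.LeftInv

universe u

open IsLocalRing TensorProduct

theorem ker_eq_bot_of_linearIndependent_comp {ι K V W : Type*} [Ring K]
    [AddCommGroup V] [Module K V] [AddCommGroup W] [Module K W]
    (b : Module.Basis ι K V) (f : V →ₗ[K] W) (h : LinearIndependent K (f ∘ b)) :
    LinearMap.ker f = ⊥ := by
  rw [LinearMap.ker_eq_bot']
  intro x hx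
  have h1 : x = Finsupp.linearCombination K b (b.repr x) := (b.linearCombination_repr x).symm
  rw [h1, Finsupp.apply_linearCombination] at hx
  have h2 := (linearIndependent_iff.mp h) (b.repr x) hx
  rw [h1, h2, map_zero]

theorem core {A : Type u} [CommRing A] [IsLocalRing A] {M N : Type u}
    [AddCommGroup M] [Module A M] [AddCommGroup N] [Module A N] [Module.Projective A N]
    (u : M →ₗ[A] N) (m : ℕ) (x : Fin m → M) (hspan : Submodule.span A (Set.range x) = ⊤)
    (hli : LinearIndependent (ResidueField A) (fun i => (1 : ResidueField A) ⊗ₜ[A] u (x i))) :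
    (∃ b : Module.Basis (Fin m) A M, ∀ i, b i = x i) ∧
      ∃ w : N →ₗ[A] M, w ∘ₗ u = LinearMap.id := by
  classical
  let φ : (Fin m → A) →ₗ[A] M := Fintype.linearCombination A x
  have hφ : ∀ i, φ (Pi.single i 1) = x i := fun i => by
    simp [φ, Fintype.linearCombination_apply_single]
  have hφsurj : Function.Surjective φ := by
    rw [← LinearMap.range_eq_top, Fintype.range_linearCombination, hspan]
  let g : (Fin m → A) →ₗ[A] N := u ∘ₗ φ
  let gk : ResidueField A ⊗[A] (Fin m → A) →ₗ[ResidueField A] ResidueField A ⊗[A] N :=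
    g.baseChange (ResidueField A)
  let bF : Module.Basis (Fin m) (ResidueField A) (ResidueField A ⊗[A] (Fin m → A)) :=
    (Pi.basisFun A (Fin m)).baseChange (ResidueField A)
  have hgk : LinearMap.ker gk = ⊥ := by
    have heq : (gk ∘ bF) = fun i => (1 : ResidueField A) ⊗ₜ[A] u (x i) := by
      funext i
      simp [gk, bF, g, hφ]
    have hli' : LinearIndependent (ResidueField A) (gk ∘ bF) := by
      rw [heq]; exact hli
    exact ker_eq_bot_of_linearIndependent_comp bF gk hli'
  obtain ⟨r, hr⟩ := LinearMap.exists_leftInverse_of_injective gk hgk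
  let e := TensorProduct.quotTensorEquivQuotSMul (Fin m → A) (maximalIdeal A)
  let v : N →ₗ[A] (Fin m → A) ⧸ (maximalIdeal A • ⊤ : Submodule A (Fin m → A)) :=
    e.toLinearMap ∘ₗ (r.restrictScalars A) ∘ₗ (TensorProduct.mk A (ResidueField A) N 1)
  have hv : v ∘ₗ g = (maximalIdeal A • ⊤ : Submodule A (Fin m → A)).mkQ := by
    refine LinearMap.ext fun y => ?_
    show e (r ((1 : ResidueField A) ⊗ₜ[A] g y)) = Submodule.Quotient.mk y
    have h1 : (1 : ResidueField A) ⊗ₜ[A] g y = gk ((1 : ResidueField A) ⊗ₜ[A] y) :=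
      (LinearMap.baseChange_tmul _ _ _).symm
    rw [h1]
    have h2 : r (gk ((1 : ResidueField A) ⊗ₜ[A] y)) = (1 : ResidueField A) ⊗ₜ[A] y :=
      LinearMap.congr_fun hr _
    rw [h2]
    exact TensorProduct.quotTensorEquivQuotSMul_mk_one_tmul _ _
  obtain ⟨wg, hwg⟩ := (Groth.Agent.S4529.result g (maximalIdeal A)
    (Or.inr ⟨(IsLocalRing.jacobson_eq_maximalIdeal ⊥ bot_ne_top).ge, inferInstance⟩)).mpr ⟨v, hv⟩
  have hφinj : Function.Injective φ := by
    intro y₁ y₂ h
    have h1 : g y₁ = g y₂ := congrArg u h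
    have h2 := congrArg wg h1
    rwa [← LinearMap.comp_apply, ← LinearMap.comp_apply, hwg] at h2
  let eφ : (Fin m → A) ≃ₗ[A] M := LinearEquiv.ofBijective φ ⟨hφinj, hφsurj⟩
  refine ⟨⟨Module.Basis.ofEquivFun eφ.symm, fun i => ?_⟩, ⟨φ ∘ₗ wg, ?_⟩⟩
  · rw [Module.Basis.coe_ofEquivFun]
    exact hφ i
  · refine LinearMap.ext fun z => ?_
    obtain ⟨y, rfl⟩ := hφsurj z
    show φ (wg (u (φ y))) = φ y
    have : wg (g y) = y := LinearMap.congr_fun hwg y
    exact congrArg φ this

end Groth.Agent.Lib.Helper6.LeftInv
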