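import Mathlib

/-!
Helper6: left invertibility of `u : M → N` (`M` finite, `N` projective) after localization,
tested on the residue field of a prime.
-/

set_option autoImplicit false

namespace Groth.Agent.Lib.Helper6.LeftInvLocal

universe u

open TensorProduct

variable {A : Type u} [CommRing A] {M N : Type u} [AddCommGroup M] [Module A M]
  [AddCommGroup N] [Module A N]

/-- a map `W` with `W ∘ u = f • id` gives a left inverse after inverting `f`. -/
theorem exists_leftInverse_localized (u : M →ₗ[A] N) (S : Submonoid A) (f : A) (hf : f ∈ S)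
    (W : N →ₗ[A] M) (hW : W ∘ₗ u = f • LinearMap.id) :
    ∃ w : LocalizedModule S N →ₗ[A] LocalizedModule S M,
      w ∘ₗ (LocalizedModule.map S u).restrictScalars A = LinearMap.id := by
  have hunit := IsLocalizedModule.map_units (LocalizedModule.mkLinearMap S M) ⟨f, hf⟩
  refine ⟨(↑hunit.unit⁻¹ : Module.End A (LocalizedModule S M)) ∘ₗ
    (LocalizedModule.map S W).restrictScalars A, ?_⟩
  have h1 : (LocalizedModule.map S W).restrictScalars A ∘ₗ
      (LocalizedModule.map S u).restrictScalars A =
      algebraMap A (Module.End A (LocalizedModule S M)) f := by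
    ext x
    induction x using LocalizedModule.induction_on with
    | h m s =>
      simp only [LinearMap.coe_comp, LinearMap.coe_restrictScalars, Function.comp_apply,
        LocalizedModule.map_mk, Module.algebraMap_end_apply, LocalizedModule.smul'_mk]
      have := LinearMap.congr_fun hW m
      simp only [LinearMap.coe_comp, Function.comp_apply, LinearMap.smul_apply,
        LinearMap.id_coe, id_eq] at this
      rw [this]
  rw [LinearMap.comp_assoc, h1]
  have h2 := hunit.unit.inv_mul
  rw [hunit.unit_spec] at h2
  exact h2

/-- a left inverse after localizing at a submonoid disjoint from `p` gives injectivity on the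
fibre at `p`. -/
theorem lTensor_injective_of_leftInverse (u : M →ₗ[A] N) (p : Ideal A) [p.IsPrime]
    (S : Submonoid A) (hS : S ≤ p.primeCompl)
    (w : LocalizedModule S N →ₗ[A] LocalizedModule S M)
    (hw : w ∘ₗ (LocalizedModule.map S u).restrictScalars A = LinearMap.id) :
    Function.Injective (u.lTensor p.ResidueField) := by
  have hunit : ∀ x : S, IsUnit (algebraMap A (Module.End A (p.ResidueField ⊗[A] M)) x) := by
    intro x
    have hc : algebraMap A p.ResidueField x ≠ 0 := fun h0 =>
      hS x.2 (Ideal.algebraMap_residueField_eq_zero.mp h0)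
    rw [Module.End.isUnit_iff]
    constructor
    · intro z₁ z₂ h
      simp only [Module.algebraMap_end_apply] at h
      rw [← algebraMap_smul p.ResidueField (x : A) z₁,
        ← algebraMap_smul p.ResidueField (x : A) z₂] at h
      exact smul_right_injective _ hc h
    · intro z
      refine ⟨(algebraMap A p.ResidueField x)⁻¹ • z, ?_⟩
      simp only [Module.algebraMap_end_apply]
      rw [← algebraMap_smul p.ResidueField (x : A), smul_inv_smul₀ hc]
  let g : LocalizedModule S M →ₗ[A] p.ResidueField ⊗[A] M :=
    IsLocalizedModule.lift S (LocalizedModule.mkLinearMap S M)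
      (TensorProduct.mk A p.ResidueField M 1) hunit
  let r : p.ResidueField ⊗[A] LocalizedModule S M →ₗ[p.ResidueField] p.ResidueField ⊗[A] M :=
    LinearMap.liftBaseChange p.ResidueField g
  have key : ∀ z : p.ResidueField ⊗[A] M,
      r ((w.lTensor p.ResidueField) (((LocalizedModule.mkLinearMap S N).lTensor p.ResidueField)
        (u.lTensor p.ResidueField z))) = z := by
    intro z
    induction z using TensorProduct.induction_on with
    | zero => simp
    | tmul c m =>
      have h1 : w (LocalizedModule.mkLinearMap S N (u m)) = LocalizedModule.mkLinearMap S M m := by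
        have := LinearMap.congr_fun hw (LocalizedModule.mk m 1)
        simpa [LocalizedModule.map_mk, LocalizedModule.mkLinearMap_apply] using this
      simp only [LinearMap.lTensor_tmul, h1, r, LinearMap.liftBaseChange_tmul, g,
        IsLocalizedModule.lift_apply, TensorProduct.mk_apply, TensorProduct.smul_tmul',
        smul_eq_mul, mul_one]
    | add z₁ z₂ h₁ h₂ => simp only [map_add, h₁, h₂]
  intro x y hxy
  rw [← key x, ← key y, hxy]

/-- a map from a finite module to a projective module factors through a finite free module, up to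
a retraction on its image. -/
theorem exists_factor_finite_free [Module.Finite A M] [Module.Projective A N] (u : M →ₗ[A] N) :
    ∃ (ι : Type u) (_ : Fintype ι) (j : N →ₗ[A] (ι → A)) (k : (ι → A) →ₗ[A] N),
      k ∘ₗ j ∘ₗ u = u := by
  classical
  obtain ⟨s, hs⟩ := Module.projective_def'.mp (inferInstance : Module.Projective A N)
  obtain ⟨σ, hσ⟩ := (Module.Finite.fg_top : (⊤ : Submodule A M).FG)
  let Λ : Finset N := σ.biUnion fun m => (s (u m)).support
  refine ⟨↥Λ, inferInstance,
    LinearMap.pi fun l : Λ => (Finsupp.lapply (l : N)) ∘ₗ s,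
    Fintype.linearCombination A (fun l : Λ => (l : N)), ?_⟩
  -- supports are contained in Λ
  let T : Submodule A M :=
    { carrier := {m | (s (u m)).support ⊆ Λ}
      zero_mem' := by simp
      add_mem' := fun {a b} ha hb => by
        simp only [Set.mem_setOf_eq, map_add] at ha hb ⊢
        exact (Finsupp.support_add).trans (Finset.union_subset ha hb)
      smul_mem' := fun c a ha => by
        simp only [Set.mem_setOf_eq, map_smul] at ha ⊢
        exact (Finsupp.support_smul).trans ha }
  have hT : T = ⊤ := by
    rw [eq_top_iff, ← hσ, Submodule.span_le]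
    intro m hm
    show (s (u m)).support ⊆ Λ
    exact Finset.subset_biUnion_of_mem (fun m => (s (u m)).support) hm
  ext m
  have hm : (s (u m)).support ⊆ Λ := by
    have : m ∈ T := hT ▸ Submodule.mem_top
    exact this
  have h1 : u m = Finsupp.linearCombination A id (s (u m)) := by
    have := LinearMap.congr_fun hs (u m)
    simpa using this.symm
  simp only [LinearMap.coe_comp, Function.comp_apply, Fintype.linearCombination_apply,
    LinearMap.pi_apply, Finsupp.lapply_apply]
  conv_rhs => rw [h1, Finsupp.linearCombination_apply, Finsupp.sum]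
  rw [Finset.sum_coe_sort Λ (fun x => (s (u m)) x • x)]
  symm
  apply Finset.sum_subset hm
  intro x _ hx
  rw [Finsupp.notMem_support_iff.mp hx, zero_smul]

theorem exists_of_lTensor_injective_free [Module.Finite A M] {ι : Type u} [Fintype ι]
    (u₀ : M →ₗ[A] (ι → A)) (p : Ideal A) [p.IsPrime]
    (hinj : Function.Injective (u₀.lTensor p.ResidueField)) :
    ∃ f : A, f ∉ p ∧ ∃ W : (ι → A) →ₗ[A] M, W ∘ₗ u₀ = f • LinearMap.id := by
  classical
  let l : Localization.AtPrime p ⊗[A] M →ₗ[Localization.AtPrime p]
      Localization.AtPrime p ⊗[A] (ι → A) := u₀.baseChange (Localization.AtPrime p)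
  have hnat : ∀ x : p.ResidueField ⊗[Localization.AtPrime p] (Localization.AtPrime p ⊗[A] M),
      AlgebraTensorModule.cancelBaseChange A (Localization.AtPrime p) (Localization.AtPrime p)
        p.ResidueField (ι → A) (l.lTensor p.ResidueField x) =
      u₀.lTensor p.ResidueField
        (AlgebraTensorModule.cancelBaseChange A (Localization.AtPrime p) (Localization.AtPrime p)
          p.ResidueField M x) := by
    intro x
    induction x using TensorProduct.induction_on with
    | zero => simp
    | tmul c y =>
      induction y using TensorProduct.induction_on with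
      | zero => simp
      | tmul a m =>
        simp only [l, LinearMap.lTensor_tmul, LinearMap.baseChange_tmul,
          AlgebraTensorModule.cancelBaseChange_tmul]
      | add y₁ y₂ h₁ h₂ => simp only [tmul_add, map_add, h₁, h₂]
    | add x₁ x₂ h₁ h₂ => simp only [map_add, h₁, h₂]
  have hl : Function.Injective (l.lTensor (IsLocalRing.ResidueField (Localization.AtPrime p))) := by
    intro x y hxy
    have h1 := congrArg (AlgebraTensorModule.cancelBaseChange A (Localization.AtPrime p)
      (Localization.AtPrime p) p.ResidueField (ι → A)) hxy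
    rw [hnat, hnat] at h1
    exact (AlgebraTensorModule.cancelBaseChange A (Localization.AtPrime p)
      (Localization.AtPrime p) p.ResidueField M).injective (hinj h1)
  obtain ⟨l', hl'⟩ := (IsLocalRing.split_injective_iff_lTensor_residueField_injective l).mpr hl
  -- spreading out
  let fM : M →ₗ[A] Localization.AtPrime p ⊗[A] M := TensorProduct.mk A (Localization.AtPrime p) M 1
  let g : (ι → A) →ₗ[A] Localization.AtPrime p ⊗[A] M :=
    (l'.restrictScalars A) ∘ₗ (TensorProduct.mk A (Localization.AtPrime p) (ι → A) 1)
  obtain ⟨h, s, hs⟩ := Module.FinitePresentation.exists_lift_of_isLocalizedModule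
    p.primeCompl fM g
  have hcomp : fM ∘ₗ (h ∘ₗ u₀) = fM ∘ₗ ((s : A) • LinearMap.id) := by
    ext m
    have e1 : fM (h (u₀ m)) = (s • g) (u₀ m) := LinearMap.congr_fun hs (u₀ m)
    have e2 : l' (l ((1 : Localization.AtPrime p) ⊗ₜ[A] m)) = (1 : Localization.AtPrime p) ⊗ₜ[A] m :=
      LinearMap.congr_fun hl' _
    have e3 : g (u₀ m) = (1 : Localization.AtPrime p) ⊗ₜ[A] m := by
      show l' ((1 : Localization.AtPrime p) ⊗ₜ[A] u₀ m) = _
      rw [← e2]
      rfl
    show fM (h (u₀ m)) = fM ((s : A) • m)
    rw [e1, LinearMap.smul_apply, e3, map_smul]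
    rfl
  obtain ⟨t, ht⟩ := Module.Finite.exists_smul_of_comp_eq_of_isLocalizedModule p.primeCompl fM
    (h ∘ₗ u₀) ((s : A) • LinearMap.id) hcomp
  refine ⟨(t : A) * (s : A), (t * s).2, (t : A) • h, ?_⟩
  rw [LinearMap.smul_comp, mul_smul]
  exact ht

theorem exists_of_lTensor_injective [Module.Finite A M] [Module.Projective A N] (u : M →ₗ[A] N)
    (p : Ideal A) [p.IsPrime] (hinj : Function.Injective (u.lTensor p.ResidueField)) :
    ∃ f : A, f ∉ p ∧ ∃ W : N →ₗ[A] M, W ∘ₗ u = f • LinearMap.id := by
  obtain ⟨ι, _, j, k, hk⟩ := exists_factor_finite_free u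
  have hinj' : Function.Injective ((j ∘ₗ u).lTensor p.ResidueField) := by
    have h1 : u.lTensor p.ResidueField =
        (k.lTensor p.ResidueField) ∘ₗ ((j ∘ₗ u).lTensor p.ResidueField) := by
      rw [← LinearMap.lTensor_comp, hk]
    rw [h1] at hinj
    exact Function.Injective.of_comp hinj
  obtain ⟨f, hf, W₀, hW₀⟩ := exists_of_lTensor_injective_free (j ∘ₗ u) p hinj'
  exact ⟨f, hf, W₀ ∘ₗ j, by rw [LinearMap.comp_assoc]; exact hW₀⟩

end Groth.Agent.Lib.Helper6.LeftInvLocal
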