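import Mathlib
import Groth.Agent.Lib.Helper6.LeftInvLocal

/-!
Helper6: global left invertibility of `u : M → N` (`M` finite, `N` projective) from injectivity on
the fibres at maximal ideals; descent of fibre injectivity along a faithfully flat algebra.
-/

set_option autoImplicit false

namespace Groth.Agent.Lib.Helper6.LeftInvGlobal

universe u

open TensorProduct

variable {A : Type u} [CommRing A] {M N : Type u} [AddCommGroup M] [Module A M]
  [AddCommGroup N] [Module A N]

/-- the ideal of scalars `a` such that `a • id` factors through `u` on the left. -/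
def factorIdeal (u : M →ₗ[A] N) : Ideal A where
  carrier := {a | ∃ W : N →ₗ[A] M, W ∘ₗ u = a • LinearMap.id}
  zero_mem' := ⟨0, by simp⟩
  add_mem' := by
    rintro a b ⟨W₁, h₁⟩ ⟨W₂, h₂⟩
    exact ⟨W₁ + W₂, by rw [LinearMap.add_comp, h₁, h₂, add_smul]⟩
  smul_mem' := by
    rintro c a ⟨W, h⟩
    exact ⟨c • W, by rw [LinearMap.smul_comp, h, smul_smul, smul_eq_mul]⟩

theorem exists_leftInverse_of_forall_maximal [Module.Finite A M] [Module.Projective A N]
    (u : M →ₗ[A] N)
    (h : ∀ (m : Ideal A) [m.IsMaximal], Function.Injective (u.lTensor m.ResidueField)) :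
    ∃ w : N →ₗ[A] M, w ∘ₗ u = LinearMap.id := by
  have htop : factorIdeal u = ⊤ := by
    by_contra hne
    obtain ⟨m, hm, hle⟩ := Ideal.exists_le_maximal _ hne
    haveI := hm
    obtain ⟨f, hf, W, hW⟩ := LeftInvLocal.exists_of_lTensor_injective u m (h m)
    exact hf (hle ⟨W, hW⟩)
  have h1 : (1 : A) ∈ factorIdeal u := htop ▸ Submodule.mem_top
  obtain ⟨W, hW⟩ := h1
  exact ⟨W, by rw [hW, one_smul]⟩

/-- if `u ⊗ A'` is left invertible with `A'` faithfully flat then `k ⊗ u` is injective for every
`A`-module `k`. -/
theorem lTensor_injective_of_faithfullyFlat (u : M →ₗ[A] N)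
    (A' : Type u) [CommRing A'] [Algebra A A'] [Module.FaithfullyFlat A A']
    (w : A' ⊗[A] N →ₗ[A'] A' ⊗[A] M) (hw : w ∘ₗ u.baseChange A' = LinearMap.id)
    (k : Type u) [AddCommGroup k] [Module A k] :
    Function.Injective (u.lTensor k) := by
  rw [← Module.FaithfullyFlat.lTensor_injective_iff_injective A A']
  have hnat : ∀ x : A' ⊗[A] (k ⊗[A] M),
      TensorProduct.leftComm A A' k N ((u.lTensor k).lTensor A' x) =
        (u.lTensor A').lTensor k (TensorProduct.leftComm A A' k M x) := by
    intro x
    induction x using TensorProduct.induction_on with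
    | zero => simp
    | tmul a y =>
      induction y using TensorProduct.induction_on with
      | zero => simp
      | tmul c m => simp only [LinearMap.lTensor_tmul, TensorProduct.leftComm_tmul]
      | add y₁ y₂ h₁ h₂ => simp only [tmul_add, map_add, h₁, h₂]
    | add x₁ x₂ h₁ h₂ => simp only [map_add, h₁, h₂]
  have hleft : ∀ z : k ⊗[A] (A' ⊗[A] M),
      (w.restrictScalars A).lTensor k ((u.lTensor A').lTensor k z) = z := by
    intro z
    induction z using TensorProduct.induction_on with
    | zero => simp
    | tmul c y =>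
      have hy : w (u.lTensor A' y) = y := LinearMap.congr_fun hw y
      simp only [LinearMap.lTensor_tmul, LinearMap.coe_restrictScalars, hy]
    | add z₁ z₂ h₁ h₂ => simp only [map_add, h₁, h₂]
  intro x y hxy
  have h1 := congrArg (TensorProduct.leftComm A A' k N) hxy
  rw [hnat, hnat] at h1
  have h2 := congrArg ((w.restrictScalars A).lTensor k) h1
  rw [hleft, hleft] at h2
  exact (TensorProduct.leftComm A A' k M).injective h2

end Groth.Agent.Lib.Helper6.LeftInvGlobal
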