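import Mathlib
import Groth.Agent.Lib.Helper6.PermReg
import Groth.Agent.Lib.Helper6.GrassA
import Groth.Prelude.Def_W4c1bouilletffgsL3

/-!
# Regular sequences in the ring of structure constants of three-dimensional Lie algebras

A polynomial `u * X k + v` whose coefficients `u, v` and whose modulus ideal `J` do not involve
the variable `X k` is regular modulo `J` as soon as `u` is.  Combined with the swap lemma this
gives the regularity of the linear forms and of the Jacobi polynomials.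
-/

set_option autoImplicit false

universe u

namespace Groth.Agent.Lib.Helper6.Lie3A

open Groth.Agent.Lib.Helper6.PermReg Groth.Agent.Lib.Helper6.GrassA MvPolynomial

section poly

variable {R : Type*} [CommRing R]

theorem Reg_poly_linear (J : Ideal R) (u v : R) (hu : Reg J u) :
    Reg (Ideal.map (Polynomial.C : R →+* Polynomial R) J)
      (Polynomial.C u * Polynomial.X + Polynomial.C v) := by
  intro x hx
  rw [Ideal.mem_map_C_iff] at hx ⊢
  have key : ∀ m n : ℕ, x.natDegree + 1 ≤ n + m → x.coeff n ∈ J := by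
    intro m
    induction m with
    | zero =>
      intro n hn
      have hlt : x.natDegree < n := by omega
      rw [Polynomial.coeff_eq_zero_of_natDegree_lt hlt]
      exact J.zero_mem
    | succ m ih =>
      intro n hn
      have h1 : x.coeff (n + 1) ∈ J := ih (n + 1) (by omega)
      have h2 := hx (n + 1)
      have h3 : ((Polynomial.C u * Polynomial.X + Polynomial.C v) * x).coeff (n + 1)
          = u * x.coeff n + v * x.coeff (n + 1) := by
        rw [add_mul, Polynomial.coeff_add, mul_assoc, Polynomial.coeff_C_mul,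
          Polynomial.coeff_X_mul, Polynomial.coeff_C_mul]
      rw [h3] at h2
      apply hu
      have h4 : u * x.coeff n
          = (u * x.coeff n + v * x.coeff (n + 1)) - v * x.coeff (n + 1) := by
        ring
      rw [h4]
      exact J.sub_mem h2 (J.mul_mem_left _ h1)
  intro n
  exact key (x.natDegree + 1) n (by omega)

theorem Reg_of_Reg_C (J : Ideal R) (u : R)
    (h : Reg (Ideal.map (Polynomial.C : R →+* Polynomial R) J) (Polynomial.C u)) :
    Reg J u := by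
  intro x hx
  have h1 : Polynomial.C u * Polynomial.C x
      ∈ Ideal.map (Polynomial.C : R →+* Polynomial R) J := by
    rw [← Polynomial.C_mul]
    exact Ideal.mem_map_of_mem _ hx
  have h2 := h _ h1
  rw [Ideal.mem_map_C_iff] at h2
  have h3 := h2 0
  rwa [Polynomial.coeff_C_zero] at h3

end poly

section transfer

variable {R S : Type*} [CommRing R] [CommRing S]

theorem Reg_of_equiv (φ : R ≃+* S) (J : Ideal R) (J' : Ideal S)
    (hJ : ∀ x, x ∈ J ↔ φ x ∈ J') (a : R) (h : Reg J' (φ a)) : Reg J a := by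
  intro x hx
  rw [hJ] at hx ⊢
  rw [map_mul] at hx
  exact h _ hx

theorem Reg_equiv (φ : R ≃+* S) (J : Ideal R) (J' : Ideal S)
    (hJ : ∀ x, x ∈ J ↔ φ x ∈ J') (a : R) (h : Reg J a) : Reg J' (φ a) := by
  intro y hy
  obtain ⟨x, rfl⟩ := φ.surjective y
  rw [← map_mul, ← hJ] at hy
  rw [← hJ]
  exact h _ hy

end transfer

section fresh

variable {A : Type*} [CommRing A] {n : ℕ}

/-- The isomorphism singling out the variable `k`. -/
noncomputable def Φ (k : Fin (n + 1)) :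
    MvPolynomial (Fin (n + 1)) A ≃+* Polynomial (MvPolynomial (Fin n) A) :=
  ((renameEquiv A (finSuccEquiv' k)).trans (optionEquivLeft A (Fin n))).toRingEquiv

theorem Φ_apply (k : Fin (n + 1)) (x : MvPolynomial (Fin (n + 1)) A) :
    Φ k x = optionEquivLeft A (Fin n) (rename (finSuccEquiv' k) x) := rfl

theorem Φ_X (k : Fin (n + 1)) : Φ (A := A) k (X k) = Polynomial.X := by
  rw [Φ_apply, rename_X, finSuccEquiv'_at, optionEquivLeft_X_none]

theorem Φ_rename (k : Fin (n + 1)) (q : MvPolynomial (Fin n) A) :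
    Φ k (rename (Fin.succAbove k) q) = Polynomial.C q := by
  induction q using MvPolynomial.induction_on with
  | C a => rw [rename_C, Φ_apply, rename_C, optionEquivLeft_C]
  | add p q hp hq => simp only [map_add, hp, hq]
  | mul_X p j hp =>
    simp only [map_mul, hp, rename_X]
    rw [Φ_apply, rename_X, finSuccEquiv'_succAbove, optionEquivLeft_X_some]

theorem Φ_mem (k : Fin (n + 1)) (J0 : Ideal (MvPolynomial (Fin n) A))
    (x : MvPolynomial (Fin (n + 1)) A) :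
    x ∈ Ideal.map (rename (Fin.succAbove k)) J0 ↔
      Φ k x ∈ Ideal.map
        (Polynomial.C : MvPolynomial (Fin n) A →+* Polynomial (MvPolynomial (Fin n) A)) J0 := by
  constructor
  · intro hx
    have h1 : Ideal.map (rename (Fin.succAbove k)) J0 ≤
        Ideal.comap (Φ (A := A) k) (Ideal.map
          (Polynomial.C : MvPolynomial (Fin n) A →+* Polynomial (MvPolynomial (Fin n) A))
          J0) := by
      rw [Ideal.map_le_iff_le_comap]
      intro q hq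
      rw [Ideal.mem_comap, Ideal.mem_comap, Φ_rename]
      exact Ideal.mem_map_of_mem _ hq
    exact Ideal.mem_comap.1 (h1 hx)
  · intro hx
    have h1 : Ideal.map
        (Polynomial.C : MvPolynomial (Fin n) A →+* Polynomial (MvPolynomial (Fin n) A)) J0 ≤
        Ideal.comap (Φ (A := A) k).symm (Ideal.map (rename (Fin.succAbove k)) J0) := by
      rw [Ideal.map_le_iff_le_comap]
      intro q hq
      rw [Ideal.mem_comap, Ideal.mem_comap, ← Φ_rename k q, RingEquiv.symm_apply_apply]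
      exact Ideal.mem_map_of_mem _ hq
    have h2 := Ideal.mem_comap.1 (h1 hx)
    rwa [RingEquiv.symm_apply_apply] at h2

theorem Reg_fresh (k : Fin (n + 1)) (J0 : Ideal (MvPolynomial (Fin n) A))
    (u0 v0 : MvPolynomial (Fin n) A)
    (h : Reg (Ideal.map (rename (Fin.succAbove k)) J0) (rename (Fin.succAbove k) u0)) :
    Reg (Ideal.map (rename (Fin.succAbove k)) J0)
      (rename (Fin.succAbove k) u0 * X k + rename (Fin.succAbove k) v0) := by
  have h1 : Reg (Ideal.map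
      (Polynomial.C : MvPolynomial (Fin n) A →+* Polynomial (MvPolynomial (Fin n) A)) J0)
      (Polynomial.C u0) := by
    have h0 := Reg_equiv (Φ (A := A) k) _ _ (Φ_mem k J0) _ h
    rwa [Φ_rename] at h0
  have h2 : Reg J0 u0 := Reg_of_Reg_C J0 u0 h1
  have h3 := Reg_poly_linear J0 u0 v0 h2
  apply Reg_of_equiv (Φ (A := A) k) _ _ (Φ_mem k J0)
  rw [map_add, map_mul, Φ_rename, Φ_rename, Φ_X]
  exact h3

/-- `q` does not involve the variable `X k`. -/
def Fr (k : Fin (n + 1)) (q : MvPolynomial (Fin (n + 1)) A) : Prop :=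
  ∃ q0 : MvPolynomial (Fin n) A, rename (Fin.succAbove k) q0 = q

/-- `J` is generated by polynomials not involving the variable `X k`. -/
def FrI (k : Fin (n + 1)) (J : Ideal (MvPolynomial (Fin (n + 1)) A)) : Prop :=
  ∃ J0 : Ideal (MvPolynomial (Fin n) A), Ideal.map (rename (Fin.succAbove k)) J0 = J

theorem Fr_X {k j : Fin (n + 1)} (h : j ≠ k) : Fr (A := A) k (X j) := by
  obtain ⟨z, hz⟩ := Fin.exists_succAbove_eq h
  exact ⟨X z, by rw [rename_X, hz]⟩

theorem Fr_one (k : Fin (n + 1)) : Fr (A := A) k 1 := ⟨1, map_one _⟩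

theorem Fr_add {k : Fin (n + 1)} {p q : MvPolynomial (Fin (n + 1)) A} (hp : Fr k p)
    (hq : Fr k q) : Fr k (p + q) := by
  obtain ⟨p0, rfl⟩ := hp
  obtain ⟨q0, rfl⟩ := hq
  exact ⟨p0 + q0, map_add _ _ _⟩

theorem Fr_sub {k : Fin (n + 1)} {p q : MvPolynomial (Fin (n + 1)) A} (hp : Fr k p)
    (hq : Fr k q) : Fr k (p - q) := by
  obtain ⟨p0, rfl⟩ := hp
  obtain ⟨q0, rfl⟩ := hq
  exact ⟨p0 - q0, map_sub _ _ _⟩

theorem Fr_mul {k : Fin (n + 1)} {p q : MvPolynomial (Fin (n + 1)) A} (hp : Fr k p)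
    (hq : Fr k q) : Fr k (p * q) := by
  obtain ⟨p0, rfl⟩ := hp
  obtain ⟨q0, rfl⟩ := hq
  exact ⟨p0 * q0, map_mul _ _ _⟩

theorem Fr_neg {k : Fin (n + 1)} {p : MvPolynomial (Fin (n + 1)) A} (hp : Fr k p) :
    Fr k (-p) := by
  obtain ⟨p0, rfl⟩ := hp
  exact ⟨-p0, map_neg _ _⟩

theorem FrI_bot (k : Fin (n + 1)) : FrI (A := A) k ⊥ := ⟨⊥, Ideal.map_bot⟩

theorem FrI_span {k : Fin (n + 1)} {q : MvPolynomial (Fin (n + 1)) A} (h : Fr k q) :
    FrI k (Ideal.span {q}) := by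
  obtain ⟨q0, rfl⟩ := h
  exact ⟨Ideal.span {q0}, by rw [Ideal.map_span, Set.image_singleton]⟩

theorem FrI_sup {k : Fin (n + 1)} {I J : Ideal (MvPolynomial (Fin (n + 1)) A)} (hI : FrI k I)
    (hJ : FrI k J) : FrI k (I ⊔ J) := by
  obtain ⟨I0, rfl⟩ := hI
  obtain ⟨J0, rfl⟩ := hJ
  exact ⟨I0 ⊔ J0, Ideal.map_sup _ _ _⟩

theorem Reg_lin {k : Fin (n + 1)} {J : Ideal (MvPolynomial (Fin (n + 1)) A)}
    {u v : MvPolynomial (Fin (n + 1)) A} (hJ : FrI k J) (hu : Fr k u) (hv : Fr k v)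
    (h : Reg J u) : Reg J (u * X k + v) := by
  obtain ⟨J0, rfl⟩ := hJ
  obtain ⟨u0, rfl⟩ := hu
  obtain ⟨v0, rfl⟩ := hv
  exact Reg_fresh k J0 u0 v0 h

theorem Reg_monic {k : Fin (n + 1)} {J : Ideal (MvPolynomial (Fin (n + 1)) A)}
    {v : MvPolynomial (Fin (n + 1)) A} (hJ : FrI k J) (hv : Fr k v) : Reg J (X k + v) := by
  have h := Reg_lin hJ (Fr_one k) hv (Reg_one J)
  rwa [one_mul] at h

end fresh

section seq

variable {R : Type*} [CommRing R]

theorem wreg3 (a b c : R) (h0 : Reg ⊥ a) (h1 : Reg (Ideal.span {a}) b)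
    (h2 : Reg (Ideal.span {a} ⊔ Ideal.span {b}) c) :
    RingTheory.Sequence.IsWeaklyRegular R [a, b, c] := by
  rw [RingTheory.Sequence.isWeaklyRegular_iff]
  intro i hi
  rw [isSMulRegular_quot_smul_top_iff]
  have hi3 : i < 3 := hi
  interval_cases i
  · show Reg (Ideal.ofList ([] : List R)) a
    rw [Ideal.ofList_nil]
    exact h0
  · show Reg (Ideal.ofList [a]) b
    rw [Ideal.ofList_singleton]
    exact h1
  · show Reg (Ideal.ofList [a, b]) c
    rw [Ideal.ofList_cons, Ideal.ofList_singleton]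
    exact h2

theorem reg3 (a b c : R) (hw : RingTheory.Sequence.IsWeaklyRegular R [a, b, c])
    (hne : Ideal.ofList [a, b, c] ≠ ⊤) : RingTheory.Sequence.IsRegular R [a, b, c] :=
  ⟨hw, by
    rw [smul_top_self]
    exact fun h => hne h.symm⟩

end seq

section lie

open Lie3Mod

variable (A : Type u) [CommRing A]

theorem ofList_ne_top [Nontrivial A] (l : List (D A))
    (hl : ∀ r ∈ l, constantCoeff r = 0) : Ideal.ofList l ≠ ⊤ := by
  intro h
  have h1 : Ideal.ofList l ≤ RingHom.ker (constantCoeff : D A →+* A) := by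
    show Ideal.span {r | r ∈ l} ≤ _
    apply Ideal.span_le.2
    intro r hr
    exact (RingHom.mem_ker).2 (hl r hr)
  have h2 : (1 : D A) ∈ RingHom.ker (constantCoeff : D A →+* A) :=
    h1 (by rw [h]; exact Submodule.mem_top)
  rw [RingHom.mem_ker, map_one] at h2
  exact one_ne_zero h2

theorem Fr_L1 (k : Fin 9) (h0 : (0 : Fin 9) ≠ k := by decide)
    (h8 : (8 : Fin 9) ≠ k := by decide) : Fr k (L1 A) := by
  show Fr k (X 0 - X 8)
  exact Fr_sub (Fr_X h0) (Fr_X h8)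

theorem Fr_L2 (k : Fin 9) (h1 : (1 : Fin 9) ≠ k := by decide)
    (h5 : (5 : Fin 9) ≠ k := by decide) : Fr k (L2 A) := by
  show Fr k (X 1 + X 5)
  exact Fr_add (Fr_X h1) (Fr_X h5)

theorem Fr_L3 (k : Fin 9) (h3 : (3 : Fin 9) ≠ k := by decide)
    (h7 : (7 : Fin 9) ≠ k := by decide) : Fr k (L3 A) := by
  show Fr k (X 3 + X 7)
  exact Fr_add (Fr_X h3) (Fr_X h7)

theorem Fr_Q1 (k : Fin 9) (h0 : (0 : Fin 9) ≠ k := by decide)
    (h1 : (1 : Fin 9) ≠ k := by decide) (h3 : (3 : Fin 9) ≠ k := by decide)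
    (h5 : (5 : Fin 9) ≠ k := by decide) (h6 : (6 : Fin 9) ≠ k := by decide)
    (h7 : (7 : Fin 9) ≠ k := by decide) (h8 : (8 : Fin 9) ≠ k := by decide) :
    Fr k (Q1 A) := by
  show Fr k (X 0 * X 7 + X 3 * X 8 - X 5 * X 6 - X 1 * X 6)
  exact Fr_sub (Fr_sub (Fr_add (Fr_mul (Fr_X h0) (Fr_X h7)) (Fr_mul (Fr_X h3) (Fr_X h8)))
    (Fr_mul (Fr_X h5) (Fr_X h6))) (Fr_mul (Fr_X h1) (Fr_X h6))

theorem Fr_Q2 (k : Fin 9) (h0 : (0 : Fin 9) ≠ k := by decide)
    (h1 : (1 : Fin 9) ≠ k := by decide) (h3 : (3 : Fin 9) ≠ k := by decide)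
    (h4 : (4 : Fin 9) ≠ k := by decide) (h5 : (5 : Fin 9) ≠ k := by decide)
    (h7 : (7 : Fin 9) ≠ k := by decide) (h8 : (8 : Fin 9) ≠ k := by decide) :
    Fr k (Q2 A) := by
  show Fr k (X 8 * X 4 + X 1 * X 3 - X 5 * X 7 - X 0 * X 4)
  exact Fr_sub (Fr_sub (Fr_add (Fr_mul (Fr_X h8) (Fr_X h4)) (Fr_mul (Fr_X h1) (Fr_X h3)))
    (Fr_mul (Fr_X h5) (Fr_X h7))) (Fr_mul (Fr_X h0) (Fr_X h4))

theorem L1_eq : L1 A = X 0 + -(X 8) := by
  show (X 0 - X 8 : D A) = X 0 + -(X 8)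
  ring

theorem Q1_eq : Q1 A = -(L2 A) * X 6 + (X 0 * X 7 + X 3 * X 8) := by
  show (X 0 * X 7 + X 3 * X 8 - X 5 * X 6 - X 1 * X 6 : D A)
    = -(X 1 + X 5) * X 6 + (X 0 * X 7 + X 3 * X 8)
  ring

theorem Q2_eq : Q2 A = -(L1 A) * X 4 + (X 1 * X 3 - X 5 * X 7) := by
  show (X 8 * X 4 + X 1 * X 3 - X 5 * X 7 - X 0 * X 4 : D A)
    = -(X 0 - X 8) * X 4 + (X 1 * X 3 - X 5 * X 7)
  ring

theorem Q3_eq : Q3 A = L3 A * X 2 + -(X 0 * X 5 + X 1 * X 8) := by
  show (X 7 * X 2 + X 3 * X 2 - X 0 * X 5 - X 1 * X 8 : D A)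
    = (X 3 + X 7) * X 2 + -(X 0 * X 5 + X 1 * X 8)
  ring

theorem RegL1 (J : Ideal (D A)) (hJ : FrI 0 J) : Reg J (L1 A) := by
  rw [L1_eq]
  exact Reg_monic hJ (Fr_neg (Fr_X (by decide)))

theorem RegL2 (J : Ideal (D A)) (hJ : FrI 1 J) : Reg J (L2 A) := by
  show Reg J (X 1 + X 5)
  exact Reg_monic hJ (Fr_X (by decide))

theorem RegL3 (J : Ideal (D A)) (hJ : FrI 3 J) : Reg J (L3 A) := by
  show Reg J (X 3 + X 7)
  exact Reg_monic hJ (Fr_X (by decide))

theorem RegQ1 (J : Ideal (D A)) (hJ : FrI 6 J) (h : Reg J (L2 A)) : Reg J (Q1 A) := by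
  rw [Q1_eq]
  exact Reg_lin hJ (Fr_neg (Fr_L2 A 6))
    (Fr_add (Fr_mul (Fr_X (by decide)) (Fr_X (by decide)))
      (Fr_mul (Fr_X (by decide)) (Fr_X (by decide)))) (Reg_neg h)

theorem RegQ2 (J : Ideal (D A)) (hJ : FrI 4 J) (h : Reg J (L1 A)) : Reg J (Q2 A) := by
  rw [Q2_eq]
  exact Reg_lin hJ (Fr_neg (Fr_L1 A 4))
    (Fr_sub (Fr_mul (Fr_X (by decide)) (Fr_X (by decide)))
      (Fr_mul (Fr_X (by decide)) (Fr_X (by decide)))) (Reg_neg h)

theorem RegQ3 (J : Ideal (D A)) (hJ : FrI 2 J) (h : Reg J (L3 A)) : Reg J (Q3 A) := by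
  rw [Q3_eq]
  exact Reg_lin hJ (Fr_L3 A 2)
    (Fr_neg (Fr_add (Fr_mul (Fr_X (by decide)) (Fr_X (by decide)))
      (Fr_mul (Fr_X (by decide)) (Fr_X (by decide))))) h

theorem V1 : Reg (⊥ : Ideal (D A)) (L1 A) := RegL1 A ⊥ (FrI_bot 0)

theorem V2 : Reg (⊥ : Ideal (D A)) (L2 A) := RegL2 A ⊥ (FrI_bot 1)

theorem V3 : Reg (⊥ : Ideal (D A)) (L3 A) := RegL3 A ⊥ (FrI_bot 3)

theorem V12 : Reg (Ideal.span {L1 A}) (L2 A) := RegL2 A _ (FrI_span (Fr_L1 A 1))

theorem V123 : Reg (Ideal.span {L1 A} ⊔ Ideal.span {L2 A}) (L3 A) :=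
  RegL3 A _ (FrI_sup (FrI_span (Fr_L1 A 3)) (FrI_span (Fr_L2 A 3)))

theorem V32 : Reg (Ideal.span {L3 A}) (L2 A) := RegL2 A _ (FrI_span (Fr_L3 A 1))

theorem V31 : Reg (Ideal.span {L3 A}) (L1 A) := RegL1 A _ (FrI_span (Fr_L3 A 0))

theorem V312 : Reg (Ideal.span {L3 A} ⊔ Ideal.span {L1 A}) (L2 A) :=
  RegL2 A _ (FrI_sup (FrI_span (Fr_L3 A 1)) (FrI_span (Fr_L1 A 1)))

theorem R1 : Reg (⊥ : Ideal (D A)) (Q1 A) := RegQ1 A ⊥ (FrI_bot 6) (V2 A)

theorem RA : Reg (Ideal.span {L1 A}) (Q1 A) := RegQ1 A _ (FrI_span (Fr_L1 A 6)) (V12 A)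

theorem RB : Reg (Ideal.span {Q1 A}) (L1 A) := by
  have h := reg_swap (J := ⊥) (V1 A) (by rw [bot_sup_eq]; exact RA A)
  rwa [bot_sup_eq] at h

theorem R2 : Reg (Ideal.span {Q1 A}) (Q2 A) := RegQ2 A _ (FrI_span (Fr_Q1 A 4)) (RB A)

theorem RC : Reg (Ideal.span {L3 A}) (Q1 A) := RegQ1 A _ (FrI_span (Fr_L3 A 6)) (V32 A)

theorem RD : Reg (Ideal.span {Q1 A}) (L3 A) := by
  have h := reg_swap (J := ⊥) (V3 A) (by rw [bot_sup_eq]; exact RC A)
  rwa [bot_sup_eq] at h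

theorem RE : Reg (Ideal.span {L3 A} ⊔ Ideal.span {L1 A}) (Q1 A) :=
  RegQ1 A _ (FrI_sup (FrI_span (Fr_L3 A 6)) (FrI_span (Fr_L1 A 6))) (V312 A)

theorem RF : Reg (Ideal.span {L3 A} ⊔ Ideal.span {Q1 A}) (L1 A) := reg_swap (V31 A) (RE A)

theorem RG : Reg (Ideal.span {Q1 A} ⊔ Ideal.span {L3 A}) (Q2 A) :=
  RegQ2 A _ (FrI_sup (FrI_span (Fr_Q1 A 4)) (FrI_span (Fr_L3 A 4)))
    (by rw [sup_comm]; exact RF A)

theorem RH : Reg (Ideal.span {Q1 A} ⊔ Ideal.span {Q2 A}) (L3 A) := reg_swap (RD A) (RG A)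

theorem R3 : Reg (Ideal.span {Q1 A} ⊔ Ideal.span {Q2 A}) (Q3 A) :=
  RegQ3 A _ (FrI_sup (FrI_span (Fr_Q1 A 2)) (FrI_span (Fr_Q2 A 2))) (RH A)

theorem cc_L1 : constantCoeff (L1 A) = 0 := by
  show constantCoeff (X 0 - X 8 : D A) = 0
  simp

theorem cc_L2 : constantCoeff (L2 A) = 0 := by
  show constantCoeff (X 1 + X 5 : D A) = 0
  simp

theorem cc_L3 : constantCoeff (L3 A) = 0 := by
  show constantCoeff (X 3 + X 7 : D A) = 0
  simp

theorem cc_Q1 : constantCoeff (Q1 A) = 0 := by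
  show constantCoeff (X 0 * X 7 + X 3 * X 8 - X 5 * X 6 - X 1 * X 6 : D A) = 0
  simp

theorem cc_Q2 : constantCoeff (Q2 A) = 0 := by
  show constantCoeff (X 8 * X 4 + X 1 * X 3 - X 5 * X 7 - X 0 * X 4 : D A) = 0
  simp

theorem cc_Q3 : constantCoeff (Q3 A) = 0 := by
  show constantCoeff (X 7 * X 2 + X 3 * X 2 - X 0 * X 5 - X 1 * X 8 : D A) = 0
  simp

theorem main087 [Nontrivial A] :
    RingTheory.Sequence.IsRegular (Lie3Mod.D A) [Lie3Mod.L1 A, Lie3Mod.L2 A, Lie3Mod.L3 A] ∧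
      RingTheory.Sequence.IsRegular (Lie3Mod.D A) [Lie3Mod.Q1 A, Lie3Mod.Q2 A, Lie3Mod.Q3 A] := by
  refine ⟨reg3 _ _ _ (wreg3 _ _ _ (V1 A) (V12 A) (V123 A)) (ofList_ne_top A _ ?_),
    reg3 _ _ _ (wreg3 _ _ _ (R1 A) (R2 A) (R3 A)) (ofList_ne_top A _ ?_)⟩
  · intro r hr
    simp only [List.mem_cons, List.not_mem_nil, or_false] at hr
    rcases hr with rfl | rfl | rfl
    · exact cc_L1 A
    · exact cc_L2 A
    · exact cc_L3 A
  · intro r hr
    simp only [List.mem_cons, List.not_mem_nil, or_false] at hr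
    rcases hr with rfl | rfl | rfl
    · exact cc_Q1 A
    · exact cc_Q2 A
    · exact cc_Q3 A

end lie

end Groth.Agent.Lib.Helper6.Lie3A
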