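import Mathlib

/-!
Openness of the regular locus of a section of a finite projective Lie algebra whose fibres have
locally constant rank.
-/

set_option autoImplicit false
universe u

namespace Groth.Agent.Lib.Helper6.LieRegOpen

open scoped TensorProduct

/-- characteristic polynomials and a projective presentation -/
theorem charpoly_rel {A : Type u} [CommRing A] {L : Type u} [AddCommGroup L] [Module A L]
    [Module.Finite A L] (K : Type u) [Field K] [Algebra A K]
    (n : ℕ) (f : (Fin n → A) →ₗ[A] L) (g : L →ₗ[A] (Fin n → A)) (hfg : f ∘ₗ g = LinearMap.id)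
    (φ : L →ₗ[A] L) :
    Polynomial.X ^ (Module.finrank K (K ⊗[A] L)) *
        ((g ∘ₗ φ ∘ₗ f).charpoly.map (algebraMap A K)) =
      Polynomial.X ^ n * (φ.baseChange K).charpoly := by
  classical
  haveI : Nontrivial A := (algebraMap A K).domain_nontrivial
  let bV := Module.finBasis K (K ⊗[A] L)
  let bW := Module.finBasis K (K ⊗[A] (Fin n → A))
  have hW : Module.finrank K (K ⊗[A] (Fin n → A)) = n := by
    rw [Module.finrank_baseChange, Module.finrank_fin_fun]
  have hE : (g ∘ₗ φ ∘ₗ f).baseChange K =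
      (g.baseChange K) ∘ₗ (φ.baseChange K) ∘ₗ (f.baseChange K) := by
    rw [LinearMap.baseChange_comp, LinearMap.baseChange_comp]
  have hid : (f.baseChange K) ∘ₗ (g.baseChange K) = LinearMap.id := by
    rw [← LinearMap.baseChange_comp, hfg, LinearMap.baseChange_id]
  have h1 := Matrix.charpoly_mul_comm' (LinearMap.toMatrix bV bW (g.baseChange K))
    (LinearMap.toMatrix bV bV (φ.baseChange K) * LinearMap.toMatrix bW bV (f.baseChange K))
  have e1 : LinearMap.toMatrix bV bW (g.baseChange K) *
      (LinearMap.toMatrix bV bV (φ.baseChange K) * LinearMap.toMatrix bW bV (f.baseChange K)) =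
      LinearMap.toMatrix bW bW ((g ∘ₗ φ ∘ₗ f).baseChange K) := by
    rw [hE, LinearMap.toMatrix_comp bW bV bW, LinearMap.toMatrix_comp bW bV bV]
  have e2 : (LinearMap.toMatrix bV bV (φ.baseChange K) *
      LinearMap.toMatrix bW bV (f.baseChange K)) * LinearMap.toMatrix bV bW (g.baseChange K) =
      LinearMap.toMatrix bV bV (φ.baseChange K) := by
    rw [Matrix.mul_assoc, ← LinearMap.toMatrix_comp bV bW bV, hid, LinearMap.toMatrix_id,
      Matrix.mul_one]
  rw [e1, e2, LinearMap.charpoly_toMatrix, LinearMap.charpoly_toMatrix,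
    LinearMap.charpoly_baseChange, Fintype.card_fin, Fintype.card_fin, hW] at h1
  exact h1

theorem ntd_rel {A : Type u} [CommRing A] {L : Type u} [AddCommGroup L] [Module A L]
    [Module.Finite A L] (K : Type u) [Field K] [Algebra A K]
    (n : ℕ) (f : (Fin n → A) →ₗ[A] L) (g : L →ₗ[A] (Fin n → A)) (hfg : f ∘ₗ g = LinearMap.id)
    (φ : L →ₗ[A] L) :
    Module.finrank K (K ⊗[A] L) +
        ((g ∘ₗ φ ∘ₗ f).charpoly.map (algebraMap A K)).natTrailingDegree =
      n + (φ.baseChange K).charpoly.natTrailingDegree := by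
  have h := congrArg Polynomial.natTrailingDegree (charpoly_rel K n f g hfg φ)
  have hne1 : ((g ∘ₗ φ ∘ₗ f).charpoly.map (algebraMap A K)) ≠ 0 := by
    rw [← LinearMap.charpoly_baseChange]
    exact (LinearMap.charpoly_monic _).ne_zero
  have hne2 : (φ.baseChange K).charpoly ≠ 0 := (LinearMap.charpoly_monic _).ne_zero
  rw [Polynomial.natTrailingDegree_mul (pow_ne_zero _ Polynomial.X_ne_zero) hne1,
    Polynomial.natTrailingDegree_mul (pow_ne_zero _ Polynomial.X_ne_zero) hne2,
    Polynomial.natTrailingDegree_X_pow, Polynomial.natTrailingDegree_X_pow] at h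
  exact h

theorem ad_baseChange {A : Type u} [CommRing A] {L : Type u} [LieRing L] [LieAlgebra A L]
    (K : Type u) [Field K] [Algebra A K] (a : L) :
    LieAlgebra.ad K (K ⊗[A] L) ((1 : K) ⊗ₜ[A] a) = (LieAlgebra.ad A L a).baseChange K := by
  apply LinearMap.ext
  intro z
  induction z using TensorProduct.induction_on with
  | zero => rw [map_zero, map_zero]
  | tmul t y =>
    rw [LieAlgebra.ad_apply, LieAlgebra.ExtendScalars.bracket_tmul, one_mul,
      LinearMap.baseChange_tmul, LieAlgebra.ad_apply]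
  | add z w hz hw => rw [map_add, map_add, hz, hw]

theorem main {A : Type u} [CommRing A] {L : Type u} [LieRing L]
    [LieAlgebra A L] [Module.Finite A L] [Module.Projective A L]
    (hC0 : ∀ p : PrimeSpectrum A, ∃ f : A, f ∉ p.asIdeal ∧ ∀ q : PrimeSpectrum A, f ∉ q.asIdeal →
        LieAlgebra.rank q.asIdeal.ResidueField (q.asIdeal.ResidueField ⊗[A] L) =
          LieAlgebra.rank p.asIdeal.ResidueField (p.asIdeal.ResidueField ⊗[A] L)) (a : L) :
    IsOpen {p : PrimeSpectrum A |
      LieAlgebra.IsRegular p.asIdeal.ResidueField ((1 : p.asIdeal.ResidueField) ⊗ₜ[A] a)} := by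
  classical
  obtain ⟨n, f, g, -, -, hfg⟩ := Module.Finite.exists_comp_eq_id_of_projective A L
  obtain ⟨P, hP⟩ : ∃ P : Polynomial A, P = (g ∘ₗ (LieAlgebra.ad A L a) ∘ₗ f).charpoly := ⟨_, rfl⟩
  haveI : Module.FinitePresentation A L := Module.finitePresentation_of_projective A L
  -- characterization
  have key : ∀ q : PrimeSpectrum A,
      LieAlgebra.IsRegular q.asIdeal.ResidueField ((1 : q.asIdeal.ResidueField) ⊗ₜ[A] a) ↔
        Module.rankAtStalk L q +
          (P.map (algebraMap A q.asIdeal.ResidueField)).natTrailingDegree ≤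
        n + LieAlgebra.rank q.asIdeal.ResidueField (q.asIdeal.ResidueField ⊗[A] L) := by
    intro q
    have hrel := ntd_rel q.asIdeal.ResidueField n f g hfg (LieAlgebra.ad A L a)
    rw [← hP, ← ad_baseChange] at hrel
    have hle := LieAlgebra.rank_le_natTrailingDegree_charpoly_ad q.asIdeal.ResidueField
      ((1 : q.asIdeal.ResidueField) ⊗ₜ[A] a)
    have hd : Module.rankAtStalk L q =
        Module.finrank q.asIdeal.ResidueField (q.asIdeal.ResidueField ⊗[A] L) :=
      Module.rankAtStalk_eq q
    rw [LieAlgebra.isRegular_iff_natTrailingDegree_charpoly_eq_rank, hd]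
    constructor
    · intro h
      omega
    · intro h
      omega
  rw [isOpen_iff_forall_mem_open]
  intro p hp
  obtain ⟨f₁, hf₁, hrank⟩ := hC0 p
  have hp' := (key p).mp hp
  obtain ⟨j₀, hj₀⟩ : ∃ j₀, j₀ = (P.map (algebraMap A p.asIdeal.ResidueField)).natTrailingDegree :=
    ⟨_, rfl⟩
  have hPp : P.map (algebraMap A p.asIdeal.ResidueField) ≠ 0 := by
    rw [hP, ← LinearMap.charpoly_baseChange]
    exact (LinearMap.charpoly_monic _).ne_zero
  have hcoef : P.coeff j₀ ∉ p.asIdeal := by
    intro hmem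
    have h0 : (P.map (algebraMap A p.asIdeal.ResidueField)).trailingCoeff = 0 := by
      rw [Polynomial.trailingCoeff, ← hj₀, Polynomial.coeff_map]
      exact Ideal.algebraMap_residueField_eq_zero.mpr hmem
    exact (Polynomial.trailingCoeff_nonzero_iff_nonzero.mpr hPp) h0
  refine ⟨((PrimeSpectrum.basicOpen f₁ : Set (PrimeSpectrum A)) ∩
    {q | Module.rankAtStalk L q = Module.rankAtStalk L p}) ∩
    (PrimeSpectrum.basicOpen (P.coeff j₀) : Set (PrimeSpectrum A)), ?_, ?_, ?_⟩
  · rintro q ⟨⟨hq1, hq2⟩, hq3⟩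
    rw [Set.mem_ofPred_eq, key q]
    have hq1' : f₁ ∉ q.asIdeal := hq1
    have hq3' : P.coeff j₀ ∉ q.asIdeal := hq3
    have hq2' : Module.rankAtStalk L q = Module.rankAtStalk L p := hq2
    have hntd : (P.map (algebraMap A q.asIdeal.ResidueField)).natTrailingDegree ≤ j₀ := by
      apply Polynomial.natTrailingDegree_le_of_ne_zero
      rw [Polynomial.coeff_map]
      intro h0
      exact hq3' (Ideal.algebraMap_residueField_eq_zero.mp h0)
    rw [hrank q hq1', hq2']
    omega
  · exact ((PrimeSpectrum.basicOpen f₁).isOpen.inter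
      (Module.isLocallyConstant_rankAtStalk.isOpen_fiber _)).inter
      (PrimeSpectrum.basicOpen (P.coeff j₀)).isOpen
  · exact ⟨⟨hf₁, rfl⟩, hcoef⟩

end Groth.Agent.Lib.Helper6.LieRegOpen
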