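import Mathlib
import Groth.Agent.Lib.Helper6.LimSp11

/-!
# Helper library (helper6): an immersion into a limit of algebraic spaces is an immersion into the stages

* `exists_qc_open_closedImmersion_factor`: an immersion from a quasi-compact algebraic space factors as a closed
  immersion into a quasi-compact open subspace;
* `main10010`.
-/

set_option autoImplicit false
universe u
open CategoryTheory CategoryTheory.Limits AlgebraicGeometry Topology
open AlgSp Groth.Agent.Lib.Helper16 Groth.Agent.Lib.Helper15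

namespace Groth.Agent.Lib.Helper6.LimSp

variable {S : Scheme.{u}}

theorem exists_qc_open_closedImmersion_factor {X Y : Sp S} (hX : IsAlgSpace X) (hYqc : IsQuasiCompactSp Y)
    (y : Y ⟶ X) (hy : RepWith @IsImmersion y) :
    ∃ (A : Set (Points X)), IsOpen A ∧ IsQuasiCompactSp (openSub X A) ∧
      ∃ y₀ : Y ⟶ openSub X A, y₀ ≫ openSubι X A = y ∧ RepWith @IsClosedImmersion y₀ := by
  obtain ⟨K, hKdef⟩ : ∃ K : Set (Points X), K = Set.range (Points.map y) := ⟨_, rfl⟩
  -- description of the inverse image of `K` on charts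
  have hpre : ∀ {T W : Over S} (g : (yon S).obj T ⟶ X) (fst : (yon S).obj W ⟶ Y) (snd : W ⟶ T),
      IsPullback fst ((yon S).map snd) y g → Set.range snd.left = Points.ofPt g ⁻¹' K := by
    intro T W g fst snd sq
    ext v
    rw [hKdef]
    constructor
    · rintro ⟨t, rfl⟩
      refine ⟨Points.ofPt fst t, ?_⟩
      rw [Points.map_ofPt, sq.w, ofPt_yon_map_comp]
    · rintro ⟨x, hx⟩
      obtain ⟨t, -, ht⟩ := exists_point_of_isPullback_yon sq x v hx
      exact ⟨t, ht⟩
  -- the coborder of `K` is open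
  have hcob : IsOpen (coborder K) := by
    obtain ⟨V, a, hae, has⟩ := hX.atlas
    have hsurj := ofPt_surjective_of_surjective a has
    have hopen := isOpenMap_ofPt_of_etale a hae
    have hcont := Points.continuous_ofPt a
    obtain ⟨P, snd, fst, sq⟩ := hy.rep a
    have himm : IsImmersion snd.left := hy.property a fst snd sq
    have hlc : IsLocallyClosed (Points.ofPt a ⁻¹' K) := by
      rw [← hpre a fst snd sq]
      exact snd.left.isLocallyClosed_range
    have h1 : IsOpen (Points.ofPt a ⁻¹' coborder K) := by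
      rw [← coborder_preimage hopen hcont K]
      exact hlc.isOpen_coborder
    have h2 := hopen _ h1
    rwa [Set.image_preimage_eq _ hsurj] at h2
  -- `K` is compact
  have hYc : CompactSpace (Points Y) := compactSpace_points_of_isQuasiCompactSp hYqc
  have hK : IsCompact K := by rw [hKdef]; exact isCompact_range (Points.continuous_map y)
  obtain ⟨V', a', O, hae', hOc, hKO, hOA⟩ :=
    exists_compact_open_chart hX K (coborder K) hK hcob subset_coborder
  obtain ⟨A, hAdef⟩ : ∃ A : Set (Points X), A = Points.ofPt a' '' (O : Set ↥V'.left) := ⟨_, rfl⟩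
  have hAo : IsOpen A := by rw [hAdef]; exact isOpenMap_ofPt_of_etale a' hae' _ O.isOpen
  have hAqc : IsQuasiCompactSp (openSub X A) := by
    rw [hAdef]; exact isQuasiCompactSp_openSub_image a' hae' O hOc
  have hι : RepWith @IsOpenImmersion (openSubι X A) := repWith_isOpenImmersion_openSubι A hAo
  obtain ⟨y₀, hy₀⟩ := exists_factor_of_range_subset (openSubι X A) hι y (by
    rw [range_map_openSubι, ← hKdef, hAdef]; exact hKO)
  refine ⟨A, hAo, hAqc, y₀, hy₀, ?_⟩
  have himm₀ : RepWith @IsImmersion y₀ :=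
    repWith_of_comp_mono _ y₀ (openSubι X A) (by rw [hy₀]; exact hy)
  refine ⟨himm₀.rep, fun T W g fst snd sq => ?_⟩
  show IsClosedImmersion snd.left
  have h1 : IsImmersion snd.left := himm₀.property g fst snd sq
  have sq' : IsPullback fst ((yon S).map snd) y (g ≫ openSubι X A) := by
    have h2 := isPullback_comp_mono (openSubι X A) sq
    rwa [hy₀] at h2
  have hrange : Set.range snd.left = Points.ofPt (g ≫ openSubι X A) ⁻¹' K := hpre _ fst snd sq'
  have hmemA : ∀ t, Points.ofPt (g ≫ openSubι X A) t ∈ A := by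
    intro t
    have h3 : Points.map (openSubι X A) (Points.ofPt g t) ∈ Set.range (Points.map (openSubι X A)) :=
      ⟨_, rfl⟩
    rw [range_map_openSubι, Points.map_ofPt] at h3
    exact h3
  have h2 : Points.ofPt (g ≫ openSubι X A) ⁻¹' K = Points.ofPt (g ≫ openSubι X A) ⁻¹' closure K := by
    ext t
    constructor
    · intro h; exact subset_closure h
    · intro h
      have h4 : Points.ofPt (g ≫ openSubι X A) t ∈ closure K ∩ coborder K :=
        ⟨h, hOA (by rw [← hAdef]; exact hmemA t)⟩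
      rw [closure_inter_coborder] at h4
      exact h4
  have hcl : IsClosed (Set.range snd.left) := by
    rw [hrange, h2]
    exact isClosed_closure.preimage (Points.continuous_ofPt _)
  exact IsClosedImmersion.of_isPreimmersion snd.left hcl

theorem main10010 (S : Scheme.{u}) [QuasiSeparatedSpace S] {I : Type u} [SmallCategory I] [IsCofiltered I]
    (B : AlgSp.Space S) (D : I ⥤ AlgSp.Sp S) (hD : ∀ i, AlgSp.IsAlgSpace (D.obj i))
    (t : D ⟶ (Functor.const I).obj B.obj)
    (hDa : ∀ (i j : I) (φ : i ⟶ j), AlgSp.IsAffineMor (D.map φ))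
    (c : Cone D) (hc : IsLimit c)
    (hqs : ∀ i, AlgSp.IsQuasiSeparatedSp (D.obj i))
    (Y : AlgSp.Space S) (hYqc : AlgSp.IsQuasiCompactSp Y.obj) (y : Y.obj ⟶ c.pt) (hy : AlgSp.RepWith @IsImmersion y) (i₁ : I)
    (hYB : AlgSp.LocP @LocallyOfFiniteType (y ≫ c.π.app i₁ ≫ t.app i₁)) :
    ∃ i₀ : I, ∀ (i : I) (_ : i ⟶ i₀), AlgSp.RepWith @IsImmersion (y ≫ c.π.app i) := by
  have hX : IsAlgSpace c.pt := (main10004 S D hD hDa c hc).1
  have ht : ∀ {a b : I} (φ : a ⟶ b), D.map φ ≫ t.app b = t.app a := by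
    intro a b φ
    have h := t.naturality φ
    simpa using h
  -- the structure map to `B` does not depend on the stage
  have hst : ∀ a b : I, coneπ c a ≫ t.app a = coneπ c b ≫ t.app b := by
    intro a b
    obtain ⟨m, φa, φb, -⟩ := IsCofilteredOrEmpty.cone_objs a b
    rw [← coneπ_w c φa, ← coneπ_w c φb, Category.assoc, Category.assoc, ht, ht]
  obtain ⟨A, hAo, hAqc, y₀, hy₀, hy₀c⟩ := exists_qc_open_closedImmersion_factor hX hYqc y hy
  obtain ⟨i, A₁, hA₁o, hA₁qc, hrange⟩ := exists_qc_open_stage S D hD hDa hqs c hc (openSub c.pt A)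
    (openSubι c.pt A) (repWith_isOpenImmersion_openSubι A hAo) hAqc
  rw [range_map_openSubι] at hrange
  subst hrange
  obtain ⟨hcR⟩ := restrCone_isLimit D i A₁ c hA₁o hc
  let tR : restrFunctor D i A₁ hA₁o ⟶ (Functor.const (Over i)).obj B.obj :=
    { app := fun k => openSubι (D.obj k.left) (stageSet D i A₁ k) ≫ t.app k.left
      naturality := fun j k m => by
        have e : restrMap D i A₁ hA₁o m ≫ openSubι (D.obj k.left) (stageSet D i A₁ k) ≫ t.app k.left =
            openSubι (D.obj j.left) (stageSet D i A₁ j) ≫ t.app j.left := by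
          rw [restrMap_ι_assoc, ht]
        exact e.trans (Category.comp_id _).symm }
  obtain ⟨k₁, hk₁⟩ : ∃ k₁ : Over i, k₁ = Over.mk (𝟙 i) := ⟨_, rfl⟩
  have hYB' : LocP @LocallyOfFiniteType
      (y₀ ≫ (restrCone D i A₁ c hA₁o).π.app k₁ ≫ tR.app k₁) := by
    have e : y₀ ≫ restrπ D i A₁ c hA₁o k₁ ≫
        openSubι (D.obj k₁.left) (stageSet D i A₁ k₁) ≫ t.app k₁.left = y ≫ coneπ c i₁ ≫ t.app i₁ := by
      rw [restrπ_ι_assoc, ← Category.assoc, hy₀]
      exact congrArg (fun f => y ≫ f) (hst k₁.left i₁)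
    have h : LocP @LocallyOfFiniteType (y ≫ coneπ c i₁ ≫ t.app i₁) := hYB
    rw [← e] at h
    exact h
  obtain ⟨k₀, hk₀⟩ := main10009 S B (restrFunctor D i A₁ hA₁o) (restr_isAlgSpace D i A₁ hD hA₁o) tR
    (restr_isAffineMor D i A₁ hDa hA₁o) (restrCone D i A₁ c hA₁o) hcR
    (restr_isQuasiCompactSp D i A₁ hD hDa hA₁o hA₁qc) Y y₀ hy₀c k₁ hYB'
  refine ⟨k₀.left, fun i' φ => ?_⟩
  obtain ⟨k, m, rfl⟩ : ∃ (k : Over i) (_ : k ⟶ k₀), k.left = i' :=
    ⟨Over.mk (φ ≫ k₀.hom), Over.homMk φ rfl, rfl⟩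
  have h1 : RepWith @IsClosedImmersion (y₀ ≫ restrπ D i A₁ c hA₁o k) := hk₀ k m
  have e : y ≫ coneπ c k.left = (y₀ ≫ restrπ D i A₁ c hA₁o k) ≫
      openSubι (D.obj k.left) (stageSet D i A₁ k) := by
    rw [Category.assoc, restrπ_ι, ← Category.assoc, hy₀]
  show RepWith @IsImmersion (y ≫ coneπ c k.left)
  rw [e]
  refine (RepWith @IsImmersion).comp_mem _ _ (repWith_mono ?_ _ h1)
    (repWith_mono ?_ _ (repWith_openSubι_stage D i A₁ hA₁o k))
  · intro _ _ f hf
    have : IsClosedImmersion f := hf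
    exact (inferInstance : IsImmersion f)
  · intro _ _ f hf
    have : IsOpenImmersion f := hf
    exact (inferInstance : IsImmersion f)

end Groth.Agent.Lib.Helper6.LimSp
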