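import Mathlib
import Groth.Agent.Lib.Helper6.LimSp21

/-!
# Helper library (helper6): limits over a fixed algebraic space with closed immersions as transition maps

* `surjective_of_adjoin_eq_top`: a ring theoretic lemma;
* `exists_common_stage`: finitely many conditions which hold at some stage hold at a common stage;
* `closedImmersion_stage_of_affine`: for a cofiltered system of affine schemes, of finite type over an affine scheme `V`,
  with closed immersions as transition maps and whose limit is a closed subscheme of `V`: the stages are closed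
  subschemes of `V` eventually;
* `LimChart.sqmap`: the transition maps of the chart system are base changes of the transition maps;
* `descend_over_core`: the resulting statement for limits of algebraic spaces over a fixed algebraic space;
* `main10062`.
-/

set_option autoImplicit false
universe u
open CategoryTheory CategoryTheory.Limits AlgebraicGeometry
open AlgSp Groth.Agent.Lib.Helper16

namespace Groth.Agent.Lib.Helper6.LimSp

section Ring

theorem surjective_of_adjoin_eq_top {R A B : Type*} [CommRing R] [CommRing A] [CommRing B] (φ : R →+* A)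
    (ρ : A →+* B) (hρ : Function.Surjective ρ) (s : Set A) (hs : @Algebra.adjoin R A _ _ φ.toAlgebra s = ⊤)
    (h : ∀ a ∈ s, ∃ r : R, ρ a = ρ (φ r)) : Function.Surjective (ρ.comp φ) := by
  letI := φ.toAlgebra
  letI := (ρ.comp φ).toAlgebra
  let ρ' : A →ₐ[R] B := { ρ with commutes' := fun r => rfl }
  have key : (⊤ : Subalgebra R B) = ⊥ := by
    have h1 : (⊤ : Subalgebra R B) = (⊤ : Subalgebra R A).map ρ' := by
      rw [Algebra.map_top]
      exact ((AlgHom.range_eq_top ρ').2 hρ).symm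
    rw [h1, ← hs, AlgHom.map_adjoin]
    refine le_bot_iff.1 (Algebra.adjoin_le ?_)
    rintro _ ⟨a, ha, rfl⟩
    obtain ⟨r, hr⟩ := h a ha
    show ρ a ∈ (⊥ : Subalgebra R B)
    rw [hr]
    exact Subalgebra.algebraMap_mem ⊥ r
  exact Algebra.surjective_algebraMap_iff.2 key

end Ring

theorem exists_common_stage {J : Type u} [SmallCategory J] [IsCofiltered J] {i₁ : J} {α : Type*}
    (P : α → ∀ j : J, (j ⟶ i₁) → Prop)
    (hP : ∀ (a : α) {j j' : J} (f : j ⟶ i₁) (m : j' ⟶ j), P a j f → P a j' (m ≫ f))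
    (s : Finset α) (h : ∀ a ∈ s, ∃ (j : J) (f : j ⟶ i₁), P a j f) :
    ∃ (j₀ : J) (f₀ : j₀ ⟶ i₁), ∀ a ∈ s, P a j₀ f₀ := by
  classical
  induction s using Finset.induction_on with
  | empty => exact ⟨i₁, 𝟙 i₁, fun a ha => absurd ha (Finset.notMem_empty a)⟩
  | insert a s ha ih =>
    obtain ⟨j₁, f₁, h₁⟩ := ih (fun b hb => h b (Finset.mem_insert_of_mem hb))
    obtain ⟨j₂, f₂, h₂⟩ := h a (Finset.mem_insert_self a s)
    obtain ⟨W, m₁, m₂, hW⟩ := IsCofiltered.cospan f₁ f₂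
    refine ⟨W, m₁ ≫ f₁, fun b hb => ?_⟩
    rcases Finset.mem_insert.1 hb with rfl | hb
    · rw [hW]
      exact hP _ f₂ m₂ h₂
    · exact hP b f₁ m₁ (h₁ b hb)

/-- A cofiltered system of affine schemes of finite type over an affine scheme `V` with closed immersions as transition
maps whose limit is a closed subscheme of `V` consists of closed subschemes of `V` eventually. -/
theorem closedImmersion_stage_of_affine {J : Type u} [SmallCategory J] [IsCofiltered J] (E : J ⥤ Scheme.{u})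
    (cE : Cone E) (hcE : IsLimit cE) (haff : ∀ j, IsAffine (E.obj j))
    (hci : ∀ {j k : J} (m : j ⟶ k), IsClosedImmersion (E.map m)) {V : Scheme.{u}} (hV : IsAffine V)
    (τ : ∀ j, E.obj j ⟶ V) (hτ : ∀ {j k : J} (m : j ⟶ k), E.map m ≫ τ k = τ j)
    (hlft : ∀ j, LocallyOfFiniteType (τ j)) (g : cE.pt ⟶ V) (hg : ∀ j, cE.π.app j ≫ τ j = g)
    (hgci : IsClosedImmersion g) : ∃ j₀ : J, ∀ (j : J) (_ : j ⟶ j₀), IsClosedImmersion (τ j) := by
  obtain ⟨i₁⟩ := IsCofiltered.nonempty (C := J)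
  have hV' : IsAffine V := hV
  have haff' : ∀ j, IsAffine (E.obj j) := haff
  have hft : RingHom.FiniteType (τ i₁).appTop.hom :=
    (HasRingHomProperty.iff_of_isAffine (P := @LocallyOfFiniteType)).1 (hlft i₁)
  obtain ⟨⟨s, hs⟩⟩ := hft
  have hgs : Function.Surjective g.appTop := (IsClosedImmersion.isAffine_surjective_of_isAffine g).2
  obtain ⟨π₁, hπ₁⟩ : ∃ π₁ : cE.pt ⟶ E.obj i₁, π₁ = cE.π.app i₁ := ⟨_, rfl⟩
  have hgπ : π₁ ≫ τ i₁ = g := by rw [hπ₁]; exact hg i₁
  have e : g.appTop = (τ i₁).appTop ≫ π₁.appTop := by rw [← hgπ, Scheme.Hom.comp_appTop]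
  have hr : ∀ a : Γ(E.obj i₁, ⊤), ∃ r : Γ(V, ⊤), π₁.appTop a = π₁.appTop ((τ i₁).appTop r) := by
    intro a
    obtain ⟨r, hr⟩ := hgs (π₁.appTop a)
    refine ⟨r, ?_⟩
    rw [← hr, e]
    rfl
  choose r hr using hr
  obtain ⟨j₀, f₀, h₀⟩ := exists_common_stage (i₁ := i₁)
    (fun (a : Γ(E.obj i₁, ⊤)) j f => (E.map f).appTop (a - (τ i₁).appTop (r a)) = 0)
    (fun a j j' f m h => by
      show (E.map (m ≫ f)).appTop _ = 0
      rw [E.map_comp, Scheme.Hom.comp_appTop]
      show (E.map m).appTop ((E.map f).appTop _) = 0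
      rw [h, map_zero])
    s (fun a _ => by
      have h0 : (cE.π.app i₁).appTop (a - (τ i₁).appTop (r a)) = 0 := by
        rw [← hπ₁, map_sub, sub_eq_zero]
        exact hr a
      exact exists_appTop_map_eq_zero_of_isAffine_of_isLimit E cE hcE i₁ _ h0)
  refine ⟨j₀, fun j m => ?_⟩
  have hsurjρ : Function.Surjective (E.map (m ≫ f₀)).appTop := by
    have : IsClosedImmersion (E.map (m ≫ f₀)) := hci _
    exact (IsClosedImmersion.isAffine_surjective_of_isAffine (E.map (m ≫ f₀))).2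
  have hτj : (τ j).appTop = (τ i₁).appTop ≫ (E.map (m ≫ f₀)).appTop := by
    rw [← hτ (m ≫ f₀), Scheme.Hom.comp_appTop]
  apply IsClosedImmersion.of_surjective_of_isAffine
  rw [hτj]
  refine surjective_of_adjoin_eq_top (τ i₁).appTop.hom (E.map (m ≫ f₀)).appTop.hom hsurjρ (s : Set _) hs
    (fun a ha => ⟨r a, ?_⟩)
  have h1 : (E.map f₀).appTop (a - (τ i₁).appTop (r a)) = 0 := h₀ a ha
  have h2 : (E.map (m ≫ f₀)).appTop (a - (τ i₁).appTop (r a)) = 0 := by
    rw [E.map_comp, Scheme.Hom.comp_appTop]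
    show (E.map m).appTop ((E.map f₀).appTop _) = 0
    rw [h1, map_zero]
  rw [map_sub, sub_eq_zero] at h2
  exact h2

variable {S : Scheme.{u}}

/-- The transition maps of the chart system are base changes of the transition maps. -/
theorem LimChart.sqmap {J : Type u} [SmallCategory J] {t : J} {ht : IsTerminal t} {D : J ⥤ Sp S} {c : Cone D}
    {U₀ : Over S} {g : (yon S).obj U₀ ⟶ D.obj t} (L : LimChart ht D c g) {j k : J} (m : j ⟶ k) :
    IsPullback (L.α.app j) ((yon S).map (L.E.map m)) (D.map m) (L.α.app k) := by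
  have hnat : (yon S).map (L.E.map m) ≫ L.α.app k = L.α.app j ≫ D.map m := L.α.naturality m
  have hsj := (L.sq j).flip
  have hsk := (L.sq k).flip
  have e1 : (yon S).map (L.E.map m) ≫ (yon S).map (L.p k) = (yon S).map (L.p j) := by
    rw [← Functor.map_comp, L.hp m]
  have e2 : D.map m ≫ D.map (ht.from k) = D.map (ht.from j) := by
    rw [← D.map_comp, ht.hom_ext (m ≫ ht.from k) (ht.from j)]
  have t' : IsPullback ((yon S).map (L.E.map m) ≫ (yon S).map (L.p k)) (L.α.app j) g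
      (D.map m ≫ D.map (ht.from k)) := by
    rw [e1, e2]
    exact hsj
  exact (IsPullback.of_right t' hnat hsk).flip

theorem repWith_closedImmersion_of_chart {X Y : Sp S} (hX : IsAlgSpace X) (hY : IsAlgSpace Y) (f : X ⟶ Y)
    {V W : Over S} (yV : (yon S).obj V ⟶ Y) (hyVe : RepWith @Etale yV) (hyVs : RepWith @Surjective yV)
    (xW : (yon S).obj W ⟶ X) (w : W ⟶ V) (sq : IsPullback xW ((yon S).map w) f yV)
    (_ : IsAffine V.left) (_ : IsAffine W.left) (hP : IsClosedImmersion w.left) :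
    RepWith @IsClosedImmersion f :=
  repWith_of_fpqcRefines_of_le_isAffineHom (Pr := @IsClosedImmersion) closedImmersion_le_isAffineHom hY
    (fun _ : PUnit.{u + 1} => (yon S).obj V) (fun _ => yV) (fpqcRefines_chart hY yV hyVe hyVs) hX f
    (fun _ => (yon S).obj W) (fun _ => (yon S).map w) (fun _ => xW) (fun _ => sq)
    (fun _ => (repWith_yon_map_iff @IsClosedImmersion w).2 hP)

theorem isFiniteMor_of_chart {X Y : Sp S} (hX : IsAlgSpace X) (hY : IsAlgSpace Y) (f : X ⟶ Y)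
    {V W : Over S} (yV : (yon S).obj V ⟶ Y) (hyVe : RepWith @Etale yV) (hyVs : RepWith @Surjective yV)
    (xW : (yon S).obj W ⟶ X) (w : W ⟶ V) (sq : IsPullback xW ((yon S).map w) f yV)
    (hV : IsAffine V.left) (hW : IsAffine W.left) (hP : IsFinite w.left) : IsFiniteMor f := by
  have hV' : IsAffine V.left := hV
  have hW' : IsAffine W.left := hW
  have hwaff : IsAffineHom w.left := inferInstance
  have h : AffWith @IsFinite f := affWith_of_fpqcRefines hY
    (fun _ : PUnit.{u + 1} => (yon S).obj V) (fun _ => yV) (fpqcRefines_chart hY yV hyVe hyVs) hX f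
    (fun _ => (yon S).obj W) (fun _ => (yon S).map w) (fun _ => xW) (fun _ => sq)
    (fun _ => affWith_yon_map @IsFinite w hwaff hP)
  exact h

/-- Descent of a property of affine morphisms to a fixed algebraic space along a cofiltered limit of algebraic spaces
over it, from the corresponding statement for affine schemes. -/
theorem descend_over_core {P Ptr Plim : MorphismProperty Scheme.{u}}
    (hschemes : ∀ {J : Type u} [SmallCategory J] [IsCofiltered J] (E : J ⥤ Scheme.{u}) (cE : Cone E)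
      (_ : IsLimit cE) (_ : ∀ j, IsAffine (E.obj j)) (_ : ∀ {j k : J} (m : j ⟶ k), Ptr (E.map m))
      {V : Scheme.{u}} (_ : IsAffine V) (τ : ∀ j, E.obj j ⟶ V)
      (_ : ∀ {j k : J} (m : j ⟶ k), E.map m ≫ τ k = τ j) (_ : ∀ j, LocallyOfFiniteType (τ j))
      (g : cE.pt ⟶ V) (_ : ∀ j, cE.π.app j ≫ τ j = g) (_ : Plim g),
      ∃ j₀ : J, ∀ (j : J) (_ : j ⟶ j₀), P (τ j))
    (Q : MorphismProperty (Sp S))
    (hQ : ∀ {X Y : Sp S} (_ : IsAlgSpace X) (_ : IsAlgSpace Y) (f : X ⟶ Y) {V W : Over S}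
      (yV : (yon S).obj V ⟶ Y) (_ : RepWith @Etale yV) (_ : RepWith @Surjective yV)
      (xW : (yon S).obj W ⟶ X) (w : W ⟶ V) (_ : IsPullback xW ((yon S).map w) f yV),
      IsAffine V.left → IsAffine W.left → P w.left → Q f)
    [QuasiSeparatedSpace ↥S] {I : Type u} [SmallCategory I] [IsCofiltered I]
    (Y : AlgSp.Space S) (D : I ⥤ AlgSp.Sp S) (hD : ∀ i, AlgSp.IsAlgSpace (D.obj i))
    (t : D ⟶ (Functor.const I).obj Y.obj)
    (hDa : ∀ (i j : I) (φ : i ⟶ j), AlgSp.IsAffineMor (D.map φ))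
    (hDtr : ∀ {i j : I} (φ : i ⟶ j) {V W : Over S} (_ : IsAffine V.left) (yV : (yon S).obj V ⟶ D.obj j)
      (xW : (yon S).obj W ⟶ D.obj i) (iW : W ⟶ V), IsPullback xW ((yon S).map iW) (D.map φ) yV → Ptr iW.left)
    (c : Cone D) (hc : IsLimit c) (g : c.pt ⟶ Y.obj) (hg : ∀ i, c.π.app i ≫ t.app i = g)
    (hqc : ∀ i, AlgSp.IsQuasiCompactSp (D.obj i)) (hqs : ∀ i, AlgSp.IsQuasiSeparatedSp (D.obj i))
    (hYqc : AlgSp.IsQuasiCompactSp Y.obj) (hYqs : AlgSp.IsQuasiSeparatedSp Y.obj)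
    (hft : ∀ i, AlgSp.LocP @LocallyOfFiniteType (t.app i)) (hgaff : AlgSp.IsAffineMor g)
    (hPlim : ∀ {V W : Over S} (_ : IsAffine V.left) (yV : (yon S).obj V ⟶ Y.obj) (xW : (yon S).obj W ⟶ c.pt)
      (iW : W ⟶ V), IsPullback xW ((yon S).map iW) g yV → Plim iW.left) :
    ∃ i₀ : I, ∀ (i : I) (_ : i ⟶ i₀), Q (t.app i) := by
  obtain ⟨V, v, hVaff, hve, hvs⟩ := DenseFin.exists_affine_chart_of_isQuasiCompactSp hYqc
  have hVaff' : IsAffine V.left := hVaff
  obtain ⟨W, iW, fstW, sqW, hW⟩ := hgaff hVaff v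
  have hVcomp : CompactSpace ↥V.left := inferInstance
  obtain ⟨i₀, H⟩ := affine_stage_pb D hD hDa hqc hqs Y.property hYqs (IsAlgSpace.yon_obj V)
    (isQuasiCompactSp_yon_of_compactSpace V) (isQuasiSeparatedSp_yon_of_isAffine V hVaff) t v c hc g hg W hW
    sqW.isoPullback
  obtain ⟨U₀, hU₀, ⟨ε₀⟩⟩ : ∃ (T' : Over S), IsAffine T'.left ∧
      Nonempty ((yon S).obj T' ≅ pullback (t.app i₀) v) := H i₀ (𝟙 i₀)
  have hU₀' : IsAffine U₀.left := hU₀
  -- the chart of the stage `i₀`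
  obtain ⟨g₀, hg₀⟩ : ∃ g₀ : (yon S).obj U₀ ⟶ D.obj i₀, g₀ = ε₀.hom ≫ pullback.fst (t.app i₀) v := ⟨_, rfl⟩
  obtain ⟨u₀, hu₀⟩ : ∃ u₀ : U₀ ⟶ V, (yon S).map u₀ = ε₀.hom ≫ pullback.snd (t.app i₀) v :=
    (yon S).map_surjective _
  have sq₀ : IsPullback g₀ ((yon S).map u₀) (t.app i₀) v := by
    rw [hg₀, hu₀]
    exact IsPullback.of_iso (IsPullback.of_hasPullback (t.app i₀) v) ε₀.symm (Iso.refl _) (Iso.refl _)
      (Iso.refl _) (by simp) (by simp) (by simp) (by simp)
  obtain ⟨hc'⟩ := isLimit_whisker_over D c hc i₀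
  obtain ⟨LV⟩ := nonempty_limChart (Over.mkIdTerminal (X := i₀)) (Over.forget i₀ ⋙ D) (fun j => hD j.left)
    (fun i j φ => hDa _ _ φ.left) (c.whisker (Over.forget i₀)) hc' g₀
  obtain ⟨a, hasq, hanat⟩ : ∃ a : ∀ j : Over i₀, (yon S).obj (LV.E.obj j) ⟶ D.obj j.left,
      (∀ j, IsPullback (a j) ((yon S).map (LV.p j)) (D.map j.hom) g₀) ∧
      (∀ {j k : Over i₀} (m : j ⟶ k), IsPullback (a j) ((yon S).map (LV.E.map m)) (D.map m.left) (a k)) := by
    refine ⟨fun j => LV.α.app j, fun j => ?_, fun m => LV.sqmap m⟩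
    have h := LV.sq j
    have e : (Over.forget i₀ ⋙ D).map ((Over.mkIdTerminal (X := i₀)).from j) = D.map j.hom := by
      show D.map ((Over.mkIdTerminal (X := i₀)).from j).left = D.map j.hom
      rw [mkId_from_left]
    rw [e] at h
    exact h
  have sqτ : ∀ j : Over i₀, IsPullback (a j) ((yon S).map (LV.p j ≫ u₀)) (t.app j.left) v := fun j => by
    have h := (hasq j).paste_vert sq₀
    rw [← Functor.map_comp, pb_t_w D t j.hom] at h
    exact h
  have hEaff : ∀ j : Over i₀, IsAffine (LV.E.obj j).left := fun j => by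
    have h1 : IsAffineHom (LV.p j).left := LV.affp j
    exact isAffine_of_isAffineHom (LV.p j).left
  have hlft : ∀ j : Over i₀, LocallyOfFiniteType (LV.p j ≫ u₀).left := fun j =>
    locP_yon_map (locP_of_isPullback etLocalST_locallyOfFiniteType (hD j.left) Y.property (sqτ j) (hft j.left))
  -- the limit
  have h1 : ∀ j : Over i₀, LV.cE.π.app j ≫ LV.p j =
      LV.cE.π.app (Over.mk (𝟙 i₀)) ≫ LV.p (Over.mk (𝟙 i₀)) := fun j => by
    rw [← LV.hp ((Over.mkIdTerminal (X := i₀)).from j), ← Category.assoc, LV.cE.w]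
  obtain ⟨γ, hγ⟩ : ∃ γ : LV.cE.pt ⟶ V,
      γ = (LV.cE.π.app (Over.mk (𝟙 i₀)) ≫ LV.p (Over.mk (𝟙 i₀))) ≫ u₀ := ⟨_, rfl⟩
  have hsl : IsPullback LV.fst ((yon S).map (LV.cE.π.app (Over.mk (𝟙 i₀)) ≫ LV.p (Over.mk (𝟙 i₀))))
      (coneπ c i₀) g₀ := LV.sqlim
  have sqγ : IsPullback LV.fst ((yon S).map γ) g v := by
    have e : coneπ c i₀ ≫ t.app i₀ = g := hg i₀
    have h := hsl.paste_vert sq₀
    rw [e, ← Functor.map_comp, ← hγ] at h
    exact h
  have hcomp : ∀ j : Over i₀, LV.cE.π.app j ≫ LV.p j ≫ u₀ = γ := fun j => by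
    rw [hγ, ← Category.assoc, h1 j]
  obtain ⟨j₀, Hj⟩ := hschemes (LV.E ⋙ Over.forget S) ((Over.forget S).mapCone LV.cE) LV.hc₀ hEaff
    (fun {j k} m => hDtr m.left (hEaff k) (a k) (a j) (LV.E.map m) (hanat m)) hVaff'
    (fun j => (LV.p j ≫ u₀).left) (fun {j k} m => by
      show (LV.E.map m).left ≫ (LV.p k ≫ u₀).left = (LV.p j ≫ u₀).left
      rw [← Over.comp_left, ← Category.assoc, LV.hp m])
    (fun j => hlft j) γ.left (fun j => by
      show (LV.cE.π.app j).left ≫ (LV.p j ≫ u₀).left = γ.left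
      rw [← Over.comp_left, hcomp j]) (hPlim hVaff v LV.fst γ sqγ)
  refine ⟨j₀.left, fun i ψ => ?_⟩
  obtain ⟨j, m, hj⟩ : ∃ (j : Over i₀) (_ : j ⟶ j₀), j.left = i := ⟨Over.mk (ψ ≫ j₀.hom), Over.homMk ψ, rfl⟩
  subst hj
  exact hQ (hD j.left) Y.property (t.app j.left) v hve hvs (a j) (LV.p j ≫ u₀) (sqτ j) hVaff (hEaff j) (Hj j m)

theorem main10062 (S : Scheme.{u}) [QuasiSeparatedSpace S] {I : Type u} [SmallCategory I] [IsCofiltered I]
    (Y : AlgSp.Space S) (D : I ⥤ AlgSp.Sp S) (hD : ∀ i, AlgSp.IsAlgSpace (D.obj i))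
    (t : D ⟶ (Functor.const I).obj Y.obj)
    (hDc : ∀ (i j : I) (φ : i ⟶ j), AlgSp.RepWith @IsClosedImmersion (D.map φ))
    (c : Cone D) (hc : IsLimit c) (g : c.pt ⟶ Y.obj) (hg : ∀ i, c.π.app i ≫ t.app i = g)
    (hqc : ∀ i, AlgSp.IsQuasiCompactSp (D.obj i)) (hqs : ∀ i, AlgSp.IsQuasiSeparatedSp (D.obj i))
    (hYqc : AlgSp.IsQuasiCompactSp Y.obj) (hYqs : AlgSp.IsQuasiSeparatedSp Y.obj)
    (hft : ∀ i, AlgSp.LocP @LocallyOfFiniteType (t.app i)) (hX : AlgSp.RepWith @IsClosedImmersion g) :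
    ∃ i₀ : I, ∀ (i : I) (_ : i ⟶ i₀), AlgSp.RepWith @IsClosedImmersion (t.app i) :=
  descend_over_core (P := @IsClosedImmersion) (Ptr := @IsClosedImmersion) (Plim := @IsClosedImmersion)
    @closedImmersion_stage_of_affine (RepWith @IsClosedImmersion) repWith_closedImmersion_of_chart Y D hD t
    (fun i j φ => isAffineMor_of_repWith_isClosedImmersion _ (hDc i j φ))
    (fun {i j} φ {V W} _ yV xW iW sq => (hDc i j φ).property yV xW iW sq) c hc g hg hqc hqs hYqc hYqs hft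
    (isAffineMor_of_repWith_isClosedImmersion g hX) (fun {V W} _ yV xW iW sq => hX.property yV xW iW sq)

end Groth.Agent.Lib.Helper6.LimSp
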