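import Mathlib
import Groth.Agent.Lib.Helper6.LimSp22

/-!
# Helper library (helper6): limits over a fixed algebraic space with finite transition maps

* `isIntegral_comp_of_adjoin`: a ring theoretic lemma;
* `finite_stage_of_affine`: for a cofiltered system of affine schemes, of finite type over an affine scheme `V`, with
  finite transition maps and whose limit is integral over `V`: the stages are finite over `V` eventually;
* `main10061`.
-/

set_option autoImplicit false
universe u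
open CategoryTheory CategoryTheory.Limits AlgebraicGeometry
open AlgSp Groth.Agent.Lib.Helper16

namespace Groth.Agent.Lib.Helper6.LimSp

section Ring

theorem isIntegral_comp_of_adjoin {R A B : Type*} [CommRing R] [CommRing A] [CommRing B] (φ : R →+* A)
    (ρ : A →+* B) (hρ : ρ.IsIntegral) (s : Set A) (hs : @Algebra.adjoin R A _ _ φ.toAlgebra s = ⊤)
    (h : ∀ a ∈ s, (ρ.comp φ).IsIntegralElem (ρ a)) : (ρ.comp φ).IsIntegral := by
  letI := φ.toAlgebra
  letI := (ρ.comp φ).toAlgebra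
  let ρ' : A →ₐ[R] B := { ρ with commutes' := fun r => rfl }
  have h1 : ρ'.range ≤ integralClosure R B := by
    rw [← Algebra.map_top, ← hs, AlgHom.map_adjoin]
    refine Algebra.adjoin_le ?_
    rintro _ ⟨a, ha, rfl⟩
    exact h a ha
  have hrange : ∀ a : A, ρ' a ∈ integralClosure R B := fun a => h1 ⟨a, rfl⟩
  let σ : A →ₐ[R] integralClosure R B := ρ'.codRestrict (integralClosure R B) hrange
  intro b
  obtain ⟨p, hpm, hp⟩ := hρ b
  have hb : IsIntegral (integralClosure R B) b := by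
    refine ⟨p.map σ.toRingHom, hpm.map _, ?_⟩
    rw [Polynomial.eval₂_map]
    have e : (algebraMap (integralClosure R B) B).comp σ.toRingHom = ρ := by
      ext a
      rfl
    rw [e]
    exact hp
  exact isIntegral_trans b hb

end Ring

/-- A cofiltered system of affine schemes of finite type over an affine scheme `V` with finite transition maps whose
limit is integral over `V` consists of finite `V`-schemes eventually. -/
theorem finite_stage_of_affine {J : Type u} [SmallCategory J] [IsCofiltered J] (E : J ⥤ Scheme.{u})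
    (cE : Cone E) (hcE : IsLimit cE) (haff : ∀ j, IsAffine (E.obj j))
    (hfin : ∀ {j k : J} (m : j ⟶ k), IsFinite (E.map m)) {V : Scheme.{u}} (hV : IsAffine V)
    (τ : ∀ j, E.obj j ⟶ V) (hτ : ∀ {j k : J} (m : j ⟶ k), E.map m ≫ τ k = τ j)
    (hlft : ∀ j, LocallyOfFiniteType (τ j)) (g : cE.pt ⟶ V) (hg : ∀ j, cE.π.app j ≫ τ j = g)
    (hgint : IsIntegralHom g) : ∃ j₀ : J, ∀ (j : J) (_ : j ⟶ j₀), IsFinite (τ j) := by
  obtain ⟨i₁⟩ := IsCofiltered.nonempty (C := J)
  have hV' : IsAffine V := hV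
  have haff' : ∀ j, IsAffine (E.obj j) := haff
  have hft : RingHom.FiniteType (τ i₁).appTop.hom :=
    (HasRingHomProperty.iff_of_isAffine (P := @LocallyOfFiniteType)).1 (hlft i₁)
  obtain ⟨⟨s, hs⟩⟩ := hft
  have hgint' : IsIntegralHom g := hgint
  have hptaff : IsAffine cE.pt := isAffine_of_isAffineHom g
  have hint : RingHom.IsIntegral g.appTop.hom :=
    ((HasAffineProperty.iff_of_isAffine (P := @IsIntegralHom)).1 hgint).2
  obtain ⟨π₁, hπ₁⟩ : ∃ π₁ : cE.pt ⟶ E.obj i₁, π₁ = cE.π.app i₁ := ⟨_, rfl⟩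
  have hgπ : π₁ ≫ τ i₁ = g := by rw [hπ₁]; exact hg i₁
  have e : g.appTop = (τ i₁).appTop ≫ π₁.appTop := by rw [← hgπ, Scheme.Hom.comp_appTop]
  have e' : π₁.appTop.hom.comp (τ i₁).appTop.hom = g.appTop.hom := by rw [e]; rfl
  have hpoly : ∀ a : Γ(E.obj i₁, ⊤), ∃ p : Polynomial Γ(V, ⊤), p.Monic ∧
      π₁.appTop.hom (Polynomial.eval₂ (τ i₁).appTop.hom a p) = 0 := by
    intro a
    obtain ⟨p, hpm, hp⟩ := hint (π₁.appTop.hom a)
    refine ⟨p, hpm, ?_⟩
    have h1 := Polynomial.hom_eval₂ p (τ i₁).appTop.hom π₁.appTop.hom a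
    rw [e'] at h1
    exact h1.trans hp
  choose p hpm hp using hpoly
  obtain ⟨j₀, f₀, h₀⟩ := exists_common_stage (i₁ := i₁)
    (fun (a : Γ(E.obj i₁, ⊤)) j f => (E.map f).appTop (Polynomial.eval₂ (τ i₁).appTop.hom a (p a)) = 0)
    (fun a j j' f m h => by
      show (E.map (m ≫ f)).appTop _ = 0
      rw [E.map_comp, Scheme.Hom.comp_appTop]
      show (E.map m).appTop ((E.map f).appTop _) = 0
      rw [h, map_zero])
    s (fun a _ => by
      have h0 : (cE.π.app i₁).appTop (Polynomial.eval₂ (τ i₁).appTop.hom a (p a)) = 0 := by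
        rw [← hπ₁]
        exact hp a
      exact exists_appTop_map_eq_zero_of_isAffine_of_isLimit E cE hcE i₁ _ h0)
  refine ⟨j₀, fun j m => ?_⟩
  have hfinm : IsFinite (E.map (m ≫ f₀)) := hfin _
  have hρfin : RingHom.Finite (E.map (m ≫ f₀)).appTop.hom := Scheme.Hom.finite_appTop _
  have hτj : (τ j).appTop = (τ i₁).appTop ≫ (E.map (m ≫ f₀)).appTop := by
    rw [← hτ (m ≫ f₀), Scheme.Hom.comp_appTop]
  have e2 : (τ j).appTop.hom = (E.map (m ≫ f₀)).appTop.hom.comp (τ i₁).appTop.hom := by rw [hτj]; rfl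
  have hint_j : RingHom.IsIntegral ((E.map (m ≫ f₀)).appTop.hom.comp (τ i₁).appTop.hom) := by
    refine isIntegral_comp_of_adjoin _ _ hρfin.to_isIntegral (s : Set _) hs (fun a ha => ⟨p a, hpm a, ?_⟩)
    rw [← Polynomial.hom_eval₂]
    have h1 : (E.map f₀).appTop (Polynomial.eval₂ (τ i₁).appTop.hom a (p a)) = 0 := h₀ a ha
    have h2 : (E.map (m ≫ f₀)).appTop (Polynomial.eval₂ (τ i₁).appTop.hom a (p a)) = 0 := by
      rw [E.map_comp, Scheme.Hom.comp_appTop]
      show (E.map m).appTop ((E.map f₀).appTop _) = 0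
      rw [h1, map_zero]
    exact h2
  have hft_j : RingHom.FiniteType (τ j).appTop.hom :=
    (HasRingHomProperty.iff_of_isAffine (P := @LocallyOfFiniteType)).1 (hlft j)
  have hfin_j : RingHom.Finite (τ j).appTop.hom := by
    rw [e2] at hft_j ⊢
    exact hint_j.to_finite hft_j
  exact (HasAffineProperty.iff_of_isAffine (P := @IsFinite)).2 ⟨haff j, hfin_j⟩

variable {S : Scheme.{u}}

theorem main10061 (S : Scheme.{u}) [QuasiSeparatedSpace S] {I : Type u} [SmallCategory I] [IsCofiltered I]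
    (Y : AlgSp.Space S) (D : I ⥤ AlgSp.Sp S) (hD : ∀ i, AlgSp.IsAlgSpace (D.obj i))
    (t : D ⟶ (Functor.const I).obj Y.obj)
    (hDf : ∀ (i j : I) (φ : i ⟶ j), AlgSp.IsFiniteMor (D.map φ))
    (c : Cone D) (hc : IsLimit c) (g : c.pt ⟶ Y.obj) (hg : ∀ i, c.π.app i ≫ t.app i = g)
    (hqc : ∀ i, AlgSp.IsQuasiCompactSp (D.obj i)) (hqs : ∀ i, AlgSp.IsQuasiSeparatedSp (D.obj i))
    (hYqc : AlgSp.IsQuasiCompactSp Y.obj) (hYqs : AlgSp.IsQuasiSeparatedSp Y.obj)
    (hft : ∀ i, AlgSp.LocP @LocallyOfFiniteType (t.app i)) (hX : AlgSp.IsIntegralMor g) :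
    ∃ i₀ : I, ∀ (i : I) (_ : i ⟶ i₀), AlgSp.IsFiniteMor (t.app i) :=
  descend_over_core (P := @IsFinite) (Ptr := @IsFinite) (Plim := @IsIntegralHom)
    @finite_stage_of_affine IsFiniteMor isFiniteMor_of_chart Y D hD t
    (fun i j φ Z hZ z => by
      obtain ⟨W, i', fst, sq, hW, -⟩ := hDf i j φ hZ z
      exact ⟨W, i', fst, sq, hW⟩)
    (fun {i j} φ {V W} hV yV xW iW sq => by
      obtain ⟨W', i', fst', sq', -, hfin⟩ := hDf i j φ hV yV
      exact P_of_isPullback_yon @IsFinite sq sq' hfin)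
    c hc g hg hqc hqs hYqc hYqs hft
    (fun Z hZ z => by
      obtain ⟨W, i', fst, sq, hW, -⟩ := hX hZ z
      exact ⟨W, i', fst, sq, hW⟩)
    (fun {V W} hV yV xW iW sq => by
      obtain ⟨W', i', fst', sq', -, hint⟩ := hX hV yV
      exact P_of_isPullback_yon @IsIntegralHom sq sq' hint)

end Groth.Agent.Lib.Helper6.LimSp
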