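import Mathlib
import Groth.Agent.Lib.Helper6.LimSp23
import Groth.Agent.Lib.Helper6.LimSp5

/-!
# Helper library (helper6): separatedness over a fixed algebraic space descends to a stage

* `ppFunctor`, `ppCone`, `ppCone_isLimit`: the system of the self fibre products `X_i ×_Y X_i` of a system over `Y`;
* `ppMap_factor`: its transition maps are composites of two base changes of the transition maps;
* `main10059`.
-/

set_option autoImplicit false
universe u
open CategoryTheory CategoryTheory.Limits AlgebraicGeometry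
open AlgSp Groth.Agent.Lib.Helper16

namespace Groth.Agent.Lib.Helper6.LimSp

section General

variable {C : Type*} [Category C] [HasPullbacks C] {I : Type*} [Category I] (D : I ⥤ C) {Y : C}
  (t : D ⟶ (Functor.const I).obj Y)

/-- The transition maps of the system of self fibre products. -/
noncomputable def ppMap ⦃i j : I⦄ (φ : i ⟶ j) :
    pullback (t.app i) (t.app i) ⟶ pullback (t.app j) (t.app j) :=
  pullback.lift (pullback.fst (t.app i) (t.app i) ≫ D.map φ) (pullback.snd (t.app i) (t.app i) ≫ D.map φ)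
    (by rw [Category.assoc, Category.assoc, pb_t_w D t φ, pullback.condition])

@[reassoc]
theorem ppMap_fst ⦃i j : I⦄ (φ : i ⟶ j) :
    ppMap D t φ ≫ pullback.fst (t.app j) (t.app j) = pullback.fst (t.app i) (t.app i) ≫ D.map φ :=
  pullback.lift_fst _ _ _

@[reassoc]
theorem ppMap_snd ⦃i j : I⦄ (φ : i ⟶ j) :
    ppMap D t φ ≫ pullback.snd (t.app j) (t.app j) = pullback.snd (t.app i) (t.app i) ≫ D.map φ :=
  pullback.lift_snd _ _ _

/-- The system of self fibre products of a system over `Y`. -/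
noncomputable abbrev ppFunctor : I ⥤ C where
  obj i := pullback (t.app i) (t.app i)
  map φ := ppMap D t φ
  map_id i := by
    apply pullback.hom_ext
    · rw [ppMap_fst, CategoryTheory.Functor.map_id, Category.comp_id, Category.id_comp]
    · rw [ppMap_snd, CategoryTheory.Functor.map_id, Category.comp_id, Category.id_comp]
  map_comp φ ψ := by
    apply pullback.hom_ext
    · rw [ppMap_fst, Category.assoc, ppMap_fst, ppMap_fst_assoc, D.map_comp]
    · rw [ppMap_snd, Category.assoc, ppMap_snd, ppMap_snd_assoc, D.map_comp]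

/-- `ppMap` is a composite of two base changes of `D.map φ`. -/
theorem ppMap_factor ⦃i j : I⦄ (φ : i ⟶ j) :
    ∃ (u : pullback (t.app i) (t.app i) ⟶ pullback (t.app j) (t.app i))
      (w : pullback (t.app j) (t.app i) ⟶ pullback (t.app j) (t.app j)),
      u ≫ w = ppMap D t φ ∧
      IsPullback (pullback.fst (t.app i) (t.app i)) u (D.map φ) (pullback.fst (t.app j) (t.app i)) ∧
      IsPullback (pullback.snd (t.app j) (t.app i)) w (D.map φ) (pullback.snd (t.app j) (t.app j)) := by
  have c1 : (pullback.fst (t.app i) (t.app i) ≫ D.map φ) ≫ t.app j =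
      pullback.snd (t.app i) (t.app i) ≫ t.app i := by
    rw [Category.assoc, pb_t_w D t φ, pullback.condition]
  have c2 : pullback.fst (t.app j) (t.app i) ≫ t.app j =
      (pullback.snd (t.app j) (t.app i) ≫ D.map φ) ≫ t.app j := by
    rw [Category.assoc, pb_t_w D t φ, pullback.condition]
  refine ⟨pullback.lift _ _ c1, pullback.lift _ _ c2, ?_, ?_, ?_⟩
  · apply pullback.hom_ext
    · rw [Category.assoc, pullback.lift_fst, pullback.lift_fst, ppMap_fst]
    · rw [Category.assoc, pullback.lift_snd, pullback.lift_snd_assoc, ppMap_snd]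
  · refine (IsPullback.of_right ?_ (pullback.lift_fst _ _ c1)
      (IsPullback.of_hasPullback (t.app j) (t.app i)).flip).flip
    rw [pullback.lift_snd, pb_t_w D t φ]
    exact (IsPullback.of_hasPullback (t.app i) (t.app i)).flip
  · refine (IsPullback.of_right ?_ (pullback.lift_snd _ _ c2)
      (IsPullback.of_hasPullback (t.app j) (t.app j))).flip
    rw [pullback.lift_fst, pb_t_w D t φ]
    exact IsPullback.of_hasPullback (t.app j) (t.app i)

variable (c : Cone D) (g : c.pt ⟶ Y) (hg : ∀ i, c.π.app i ≫ t.app i = g)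

/-- The legs of the cone of self fibre products. -/
noncomputable def ppπ (i : I) : pullback g g ⟶ pullback (t.app i) (t.app i) :=
  pullback.lift (pullback.fst g g ≫ c.π.app i) (pullback.snd g g ≫ c.π.app i)
    (by rw [Category.assoc, Category.assoc, hg i, pullback.condition])

@[reassoc]
theorem ppπ_fst (i : I) :
    ppπ D t c g hg i ≫ pullback.fst (t.app i) (t.app i) = pullback.fst g g ≫ c.π.app i :=
  pullback.lift_fst _ _ _

@[reassoc]
theorem ppπ_snd (i : I) :
    ppπ D t c g hg i ≫ pullback.snd (t.app i) (t.app i) = pullback.snd g g ≫ c.π.app i :=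
  pullback.lift_snd _ _ _

theorem ppπ_map ⦃i j : I⦄ (φ : i ⟶ j) : ppπ D t c g hg i ≫ ppMap D t φ = ppπ D t c g hg j := by
  apply pullback.hom_ext
  · rw [Category.assoc, ppMap_fst, ppπ_fst_assoc, ppπ_fst, c.w]
  · rw [Category.assoc, ppMap_snd, ppπ_snd_assoc, ppπ_snd, c.w]

/-- The cone of self fibre products. -/
noncomputable abbrev ppCone : Cone (ppFunctor D t) where
  pt := pullback g g
  π :=
    { app := fun i => ppπ D t c g hg i
      naturality := fun i j φ => (Category.id_comp _).trans (ppπ_map D t c g hg φ).symm }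

theorem ppCone_isLimit [IsCofiltered I] (hc : IsLimit c) : Nonempty (IsLimit (ppCone D t c g hg)) := by
  obtain ⟨i₀⟩ := IsCofiltered.nonempty (C := I)
  have hs1 : ∀ (s : Cone (ppFunctor D t)) ⦃i j : I⦄ (φ : i ⟶ j),
      s.π.app i ≫ ppMap D t φ = s.π.app j := fun s i j φ => s.w φ
  let cD₁ : ∀ s : Cone (ppFunctor D t), Cone D := fun s =>
    { pt := s.pt
      π :=
        { app := fun i => s.π.app i ≫ pullback.fst (t.app i) (t.app i)
          naturality := fun i j φ => by
            refine (Category.id_comp _).trans ?_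
            rw [Category.assoc, ← ppMap_fst, ← Category.assoc, hs1 s φ] } }
  let cD₂ : ∀ s : Cone (ppFunctor D t), Cone D := fun s =>
    { pt := s.pt
      π :=
        { app := fun i => s.π.app i ≫ pullback.snd (t.app i) (t.app i)
          naturality := fun i j φ => by
            refine (Category.id_comp _).trans ?_
            rw [Category.assoc, ← ppMap_snd, ← Category.assoc, hs1 s φ] } }
  have hl1 : ∀ (s : Cone (ppFunctor D t)) (i : I),
      hc.lift (cD₁ s) ≫ c.π.app i = s.π.app i ≫ pullback.fst (t.app i) (t.app i) := fun s i => hc.fac (cD₁ s) i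
  have hl2 : ∀ (s : Cone (ppFunctor D t)) (i : I),
      hc.lift (cD₂ s) ≫ c.π.app i = s.π.app i ≫ pullback.snd (t.app i) (t.app i) := fun s i => hc.fac (cD₂ s) i
  have hw : ∀ s : Cone (ppFunctor D t), hc.lift (cD₁ s) ≫ g = hc.lift (cD₂ s) ≫ g := fun s => by
    rw [← hg i₀, ← Category.assoc, hl1 s i₀, ← Category.assoc, hl2 s i₀, Category.assoc, Category.assoc,
      pullback.condition]
  refine ⟨{ lift := fun s => pullback.lift (hc.lift (cD₁ s)) (hc.lift (cD₂ s)) (hw s)
            fac := fun s i => ?_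
            uniq := fun s m hm => ?_ }⟩
  · apply pullback.hom_ext
    · rw [Category.assoc]
      erw [ppπ_fst D t c g hg i]
      rw [pullback.lift_fst_assoc, hl1 s i]
    · rw [Category.assoc]
      erw [ppπ_snd D t c g hg i]
      rw [pullback.lift_snd_assoc, hl2 s i]
  · have hm' : ∀ i, m ≫ ppπ D t c g hg i = s.π.app i := hm
    apply pullback.hom_ext
    · rw [pullback.lift_fst]
      apply hc.hom_ext
      intro i
      rw [hl1 s i, Category.assoc, ← ppπ_fst D t c g hg i, ← Category.assoc, hm' i]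
    · rw [pullback.lift_snd]
      apply hc.hom_ext
      intro i
      rw [hl2 s i, Category.assoc, ← ppπ_snd D t c g hg i, ← Category.assoc, hm' i]

end General

variable {S : Scheme.{u}}

theorem main10059 (S : Scheme.{u}) [QuasiSeparatedSpace S] {I : Type u} [SmallCategory I] [IsCofiltered I]
    (Y : AlgSp.Space S) (D : I ⥤ AlgSp.Sp S) (hD : ∀ i, AlgSp.IsAlgSpace (D.obj i))
    (t : D ⟶ (Functor.const I).obj Y.obj)
    (hDa : ∀ (i j : I) (φ : i ⟶ j), AlgSp.IsAffineMor (D.map φ))
    (c : Cone D) (hc : IsLimit c) (g : c.pt ⟶ Y.obj) (hg : ∀ i, c.π.app i ≫ t.app i = g)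
    (hqc : ∀ i, AlgSp.IsQuasiCompactSp (D.obj i)) (hqs : ∀ i, AlgSp.IsQuasiSeparatedSp (D.obj i))
    (hYqs : AlgSp.IsQuasiSeparatedSp Y.obj) (hX : AlgSp.IsSeparatedMor g) :
    ∃ i₀ : I, ∀ (i : I) (_ : i ⟶ i₀), AlgSp.IsSeparatedMor (t.app i) := by
  obtain ⟨i₀⟩ := IsCofiltered.nonempty (C := I)
  have hcalg : IsAlgSpace c.pt := (main10004 S D hD hDa c hc).1
  have hπaff : ∀ i, IsAffineMor (coneπ c i) := (main10004 S D hD hDa c hc).2
  have hcqc : IsQuasiCompactSp c.pt :=
    isQuasiCompactSp_of_isAffineMor hcalg (hD i₀) (coneπ c i₀) (hπaff i₀) (hqc i₀)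
  have hcqs : IsQuasiSeparatedSp c.pt := isQuasiSeparatedSp_of_isAffineMor hcalg (coneπ c i₀) (hπaff i₀) (hqs i₀)
  have hg' : ∀ i, coneπ c i ≫ t.app i = g := hg
  -- `Q = X ×_Y X`
  have hQalg : IsAlgSpace (pullback g g) :=
    isAlgSpace_of_isPullback hcalg Y.property.diag hcalg (IsPullback.of_hasPullback g g)
  have hQqc : IsQuasiCompactSp (pullback g g) :=
    isQuasiCompactSp_of_isPullback (IsPullback.of_hasPullback g g) hcqc hcqc hYqs
  have hQqs : IsQuasiSeparatedSp (pullback g g) :=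
    repWith_diag_of_isPullback (IsPullback.of_hasPullback g g) hcqs hcqs
  -- the stages `P_i = X_i ×_Y X_i`
  have hPalg : ∀ i, IsAlgSpace ((ppFunctor D t).obj i) := fun i =>
    isAlgSpace_of_isPullback (hD i) Y.property.diag (hD i) (IsPullback.of_hasPullback (t.app i) (t.app i))
  have hPqc : ∀ i, IsQuasiCompactSp ((ppFunctor D t).obj i) := fun i =>
    isQuasiCompactSp_of_isPullback (IsPullback.of_hasPullback (t.app i) (t.app i)) (hqc i) (hqc i) hYqs
  have hPqs : ∀ i, IsQuasiSeparatedSp ((ppFunctor D t).obj i) := fun i =>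
    repWith_diag_of_isPullback (IsPullback.of_hasPullback (t.app i) (t.app i)) (hqs i) (hqs i)
  have hPaff : ∀ (i j : I) (φ : i ⟶ j), IsAffineMor ((ppFunctor D t).map φ) := fun i j φ => by
    obtain ⟨u, w, huw, sq1, sq2⟩ := ppMap_factor D t φ
    show IsAffineMor (ppMap D t φ)
    rw [← huw]
    exact isAffineMor_comp u w (isAffineMor_of_isPullback sq1 (hDa i j φ))
      (isAffineMor_of_isPullback sq2 (hDa i j φ))
  obtain ⟨hPlim⟩ := ppCone_isLimit D t c g hg hc
  -- the system of kernel pairs of the projections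
  have hyi : ∀ ⦃i j : I⦄ (φ : i ⟶ j), coneπ c i ≫ D.map φ = coneπ c j := fun i j φ => coneπ_w c φ
  have hmono : ∀ ⦃T : Sp S⦄ (a b : T ⟶ c.pt), (∀ i, a ≫ coneπ c i = b ≫ coneπ c i) → a = b :=
    fun T a b h => hc.hom_ext h
  have hkcond : ∀ i, kpFst D (coneπ c) hyi i ≫ g = kpSnd D (coneπ c) hyi i ≫ g := fun i => by
    rw [← hg' i, ← Category.assoc, kp_condition, Category.assoc]
  obtain ⟨k, hk1, hk2⟩ : ∃ k : ∀ i, (kerPairFunctor D (coneπ c) hyi).obj i ⟶ pullback g g,
      (∀ i, k i ≫ pullback.fst g g = kpFst D (coneπ c) hyi i) ∧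
      (∀ i, k i ≫ pullback.snd g g = kpSnd D (coneπ c) hyi i) :=
    ⟨fun i => pullback.lift _ _ (hkcond i), fun i => pullback.lift_fst _ _ _, fun i => pullback.lift_snd _ _ _⟩
  let t' : kerPairFunctor D (coneπ c) hyi ⟶ (Functor.const I).obj (pullback g g) :=
    { app := fun i => k i
      naturality := fun i j φ => by
        refine Eq.trans ?_ (Category.comp_id _).symm
        apply pullback.hom_ext
        · rw [Category.assoc, hk1, hk1, kp_map_fst]
        · rw [Category.assoc, hk2, hk2, kp_map_snd] }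
  have sqk : ∀ i, IsPullback (kpFst D (coneπ c) hyi i ≫ coneπ c i) (k i) (pullback.diagonal (t.app i))
      (ppπ D t c g hg i) := fun i =>
    isPullback_kerPair (coneπ c i) (t.app i) g (hg' i) (kp_isPullback D (coneπ c) hyi i)
      (IsPullback.of_hasPullback g g) (IsPullback.of_hasPullback (t.app i) (t.app i))
      (pullback.diagonal (t.app i)) (pullback.diagonal_fst _) (pullback.diagonal_snd _)
      (k i) (hk1 i) (hk2 i) (ppπ D t c g hg i) (ppπ_fst D t c g hg i) (ppπ_snd D t c g hg i)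
  have hft' : ∀ i, LocP @LocallyOfFiniteType (t'.app i) := fun i =>
    locP_of_isPullback etLocalST_locallyOfFiniteType (hD i) (hPalg i) (sqk i)
      (locP_lft_diagonal' (X₀ := ⟨D.obj i, hD i⟩) (Y₀ := Y) (t.app i))
  have hDsep : ∀ ⦃i j : I⦄ (φ : i ⟶ j), RepWith @IsClosedImmersion (pullback.diagonal (D.map φ)) :=
    fun i j φ => Groth.Agent.Lib.Helper17.isSeparatedMor_of_isAffineMor (hD i).diag (hDa i j φ)
  have hDc' : ∀ (i j : I) (φ : i ⟶ j),
      RepWith @IsClosedImmersion ((kerPairFunctor D (coneπ c) hyi).map φ) := fun i j φ => by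
    have hG := IsPullback.of_hasPullback (D.map φ) (D.map φ)
    have hw : (kpFst D (coneπ c) hyi j ≫ coneπ c i) ≫ D.map φ =
        (kpSnd D (coneπ c) hyi j ≫ coneπ c i) ≫ D.map φ := by
      rw [Category.assoc, Category.assoc, hyi φ, kp_condition]
    have sq := isPullback_kerPair (coneπ c i) (D.map φ) (coneπ c j) (hyi φ) (kp_isPullback D (coneπ c) hyi i)
      (kp_isPullback D (coneπ c) hyi j) hG (pullback.diagonal (D.map φ)) (pullback.diagonal_fst _)
      (pullback.diagonal_snd _) ((kerPairFunctor D (coneπ c) hyi).map φ)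
      (kp_map_fst D (coneπ c) hyi φ) (kp_map_snd D (coneπ c) hyi φ)
      (hG.lift (kpFst D (coneπ c) hyi j ≫ coneπ c i) (kpSnd D (coneπ c) hyi j ≫ coneπ c i) hw)
      (hG.lift_fst _ _ _) (hG.lift_snd _ _ _)
    exact (RepWith @IsClosedImmersion).of_isPullback sq (hDsep φ)
  have hD' : ∀ i, IsAlgSpace ((kerPairFunctor D (coneπ c) hyi).obj i) := fun i =>
    isAlgSpace_of_isPullback hcalg (hD i).diag hcalg (kp_isPullback D (coneπ c) hyi i)
  have hqc' : ∀ i, IsQuasiCompactSp ((kerPairFunctor D (coneπ c) hyi).obj i) := fun i =>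
    isQuasiCompactSp_of_isPullback (kp_isPullback D (coneπ c) hyi i) hcqc hcqc (hqs i)
  have hqs' : ∀ i, IsQuasiSeparatedSp ((kerPairFunctor D (coneπ c) hyi).obj i) := fun i =>
    repWith_diag_of_isPullback (kp_isPullback D (coneπ c) hyi i) hcqs hcqs
  have hgk : ∀ i, (kerPairCone D (coneπ c) hyi).π.app i ≫ t'.app i = pullback.diagonal g := fun i => by
    show kpDiag D (coneπ c) hyi i ≫ k i = pullback.diagonal g
    apply pullback.hom_ext
    · rw [Category.assoc, hk1, kpDiag_fst, pullback.diagonal_fst]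
    · rw [Category.assoc, hk2, kpDiag_snd, pullback.diagonal_snd]
  have hX' : RepWith @IsClosedImmersion (pullback.diagonal g) := hX
  obtain ⟨i₁, Hi₁⟩ := main10062 S ⟨pullback g g, hQalg⟩ (kerPairFunctor D (coneπ c) hyi) hD' t' hDc'
    (kerPairCone D (coneπ c) hyi) (kerPairConeIsLimit D (coneπ c) hyi hmono i₀) (pullback.diagonal g) hgk
    hqc' hqs' hQqc hQqs hft' hX'
  have hk₁ : RepWith @IsClosedImmersion (k i₁) := Hi₁ i₁ (𝟙 i₁)
  -- descent of the closed immersion along the system of the `P_i`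
  have hYsq : IsPullback (ppπ D t c g hg i₁) (𝟙 (pullback g g)) (𝟙 (pullback (t.app i₁) (t.app i₁)))
      (ppπ D t c g hg i₁) :=
    IsPullback.of_vert_isIso ⟨(Category.comp_id _).trans (Category.id_comp _).symm⟩
  obtain ⟨i₂, φ, H2⟩ := main10019 S (ppFunctor D t) hPalg hPaff (ppCone D t c g hg) hPlim i₁ (hPqc i₁) (hPqs i₁)
    ⟨D.obj i₁, hD i₁⟩ ⟨pullback (t.app i₁) (t.app i₁), hPalg i₁⟩ (pullback.diagonal (t.app i₁)) (𝟙 _)
    (hqc i₁) (hqs i₁) (hPqc i₁) (hPqs i₁) ((kerPairFunctor D (coneπ c) hyi).obj i₁) (pullback g g) (k i₁)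
    (ppπ D t c g hg i₁) (𝟙 _) hYsq (kpFst D (coneπ c) hyi i₁ ≫ coneπ c i₁) (sqk i₁) hk₁
    (locP_lft_diagonal' (X₀ := ⟨D.obj i₁, hD i₁⟩) (Y₀ := Y) (t.app i₁))
  -- the stages
  have stage : ∀ ⦃j : I⦄ (χ : j ⟶ i₁), ∃ m : pullback (D.map χ) (D.map χ) ⟶ pullback (t.app j) (t.app j),
      IsPullback (pullback.fst (D.map χ) (D.map χ) ≫ D.map χ) m (pullback.diagonal (t.app i₁)) (ppMap D t χ) ∧
      pullback.diagonal (D.map χ) ≫ m = pullback.diagonal (t.app j) := by
    intro j χ
    have cond : pullback.fst (D.map χ) (D.map χ) ≫ t.app j = pullback.snd (D.map χ) (D.map χ) ≫ t.app j := by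
      rw [← pb_t_w D t χ, pullback.condition_assoc]
    refine ⟨pullback.lift _ _ cond, ?_, ?_⟩
    · exact isPullback_kerPair (D.map χ) (t.app i₁) (t.app j) (pb_t_w D t χ) (IsPullback.of_hasPullback _ _)
        (IsPullback.of_hasPullback _ _) (IsPullback.of_hasPullback _ _) (pullback.diagonal (t.app i₁))
        (pullback.diagonal_fst _) (pullback.diagonal_snd _) (pullback.lift _ _ cond) (pullback.lift_fst _ _ _)
        (pullback.lift_snd _ _ _) (ppMap D t χ) (ppMap_fst D t χ) (ppMap_snd D t χ)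
    · apply pullback.hom_ext
      · rw [Category.assoc, pullback.lift_fst, pullback.diagonal_fst, pullback.diagonal_fst]
      · rw [Category.assoc, pullback.lift_snd, pullback.diagonal_snd, pullback.diagonal_snd]
  obtain ⟨m₂, sqm₂, -⟩ := stage φ
  have hY2 : IsPullback (ppMap D t φ) (𝟙 (pullback (t.app i₂) (t.app i₂)))
      (𝟙 (pullback (t.app i₁) (t.app i₁))) (ppMap D t φ) :=
    IsPullback.of_vert_isIso ⟨(Category.comp_id _).trans (Category.id_comp _).symm⟩
  have hm₂ : RepWith @IsClosedImmersion m₂ := H2 _ _ m₂ (ppMap D t φ) (𝟙 _) hY2 _ sqm₂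
  refine ⟨i₂, fun i ψ => ?_⟩
  obtain ⟨m, sqm, hdiag⟩ := stage (ψ ≫ φ)
  have hρ : ppMap D t ψ ≫ ppMap D t φ = ppMap D t (ψ ≫ φ) := ((ppFunctor D t).map_comp ψ φ).symm
  have hm : RepWith @IsClosedImmersion m := P_of_base_sq (RepWith @IsClosedImmersion) sqm₂ sqm (ppMap D t ψ) hρ hm₂
  show RepWith @IsClosedImmersion (pullback.diagonal (t.app i))
  rw [← hdiag]
  exact (RepWith @IsClosedImmersion).comp_mem _ _ (hDsep (ψ ≫ φ)) hm

end Groth.Agent.Lib.Helper6.LimSp
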