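import Mathlib
import Groth.Agent.Lib.Helper6.LimSp24
import Groth.Agent.Lib.Helper6.LimSp15
import Groth.Agent.Lib.Helper16.SpCoprod

/-!
# Helper library (helper6): separatedness over `S` descends to a stage

* `isSeparatedSp_iff_terminal'`: `X` is separated over `S` iff the map to a terminal object is separated;
* `main10005`: if the limit of a cofiltered system of qcqs algebraic spaces with affine transition maps is separated
  over `S`, so is some stage.
-/

set_option autoImplicit false
universe u
open CategoryTheory CategoryTheory.Limits AlgebraicGeometry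
open AlgSp Groth.Agent.Lib.Helper16

namespace Groth.Agent.Lib.Helper6.LimSp

variable {S : Scheme.{u}}

theorem isSeparatedSp_iff_terminal' {T : Sp S} (hT : IsTerminal T) (X : Sp S) :
    IsSeparatedSp X ↔ IsSeparatedMor (hT.from X) := by
  have sqprod : IsPullback (prod.fst : X ⨯ X ⟶ X) prod.snd (hT.from X) (hT.from X) :=
    IsPullback.of_is_product' (prodIsProd X X) hT
  have h : Limits.diag X ≫ sqprod.isoPullback.hom = pullback.diagonal (hT.from X) := by
    apply pullback.hom_ext
    · rw [Category.assoc, IsPullback.isoPullback_hom_fst, pullback.diagonal_fst]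
      exact prod.lift_fst _ _
    · rw [Category.assoc, IsPullback.isoPullback_hom_snd, pullback.diagonal_snd]
      exact prod.lift_snd _ _
  show RepWith @IsClosedImmersion (Limits.diag X) ↔ RepWith @IsClosedImmersion (pullback.diagonal (hT.from X))
  rw [← h]
  exact (MorphismProperty.cancel_right_of_respectsIso (RepWith @IsClosedImmersion) _ _).symm

theorem isQuasiSeparatedSp_one (S : Scheme.{u}) : IsQuasiSeparatedSp ((yon S).obj (SpCoprod.one S)) := by
  have : QuasiCompact (pullback.diagonal (SpCoprod.one S).hom) := by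
    show QuasiCompact (pullback.diagonal (𝟙 S))
    infer_instance
  exact (repWith_diag_yon_iff @QuasiCompact (SpCoprod.one S)).2 this

theorem main10005 (S : Scheme.{u}) [QuasiSeparatedSpace S] {I : Type u} [SmallCategory I] [IsCofiltered I]
    (D : I ⥤ AlgSp.Sp S) (hD : ∀ i, AlgSp.IsAlgSpace (D.obj i))
    (hDa : ∀ (i j : I) (φ : i ⟶ j), AlgSp.IsAffineMor (D.map φ))
    (hqc : ∀ i, AlgSp.IsQuasiCompactSp (D.obj i)) (hqs : ∀ i, AlgSp.IsQuasiSeparatedSp (D.obj i))
    (c : Cone D) (hc : IsLimit c)
    (hX : AlgSp.IsSeparatedSp c.pt) : ∃ i, AlgSp.IsSeparatedSp (D.obj i) := by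
  have hT : IsTerminal ((yon S).obj (SpCoprod.one S)) := SpCoprod.isTerminalOne S
  let Y : AlgSp.Space S := ⟨(yon S).obj (SpCoprod.one S), IsAlgSpace.yon_obj _⟩
  let t : D ⟶ (Functor.const I).obj Y.obj :=
    { app := fun i => hT.from (D.obj i)
      naturality := fun i j φ => hT.hom_ext _ _ }
  have hYqs : IsQuasiSeparatedSp Y.obj := isQuasiSeparatedSp_one S
  obtain ⟨i₀, H⟩ := main10059 S Y D hD t hDa c hc (hT.from c.pt) (fun i => hT.hom_ext _ _) hqc hqs hYqs
    ((isSeparatedSp_iff_terminal' hT c.pt).1 hX)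
  exact ⟨i₀, (isSeparatedSp_iff_terminal' hT (D.obj i₀)).2 (H i₀ (𝟙 i₀))⟩

end Groth.Agent.Lib.Helper6.LimSp
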