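import Mathlib
import Groth.Agent.Lib.Helper6.LimSp21
import Groth.Agent.Lib.Helper6.LimSp16
import Groth.Agent.Lib.Helper6.LimSp15
import Groth.Agent.Lib.Helper16.SpCoprod

/-!
# Helper library (helper6): minimal non-scheme closed subspaces of the base (`main10052`)

* `spec_factors_iff`: a morphism `T ⟶ Spec A` factors through `Spec (A/K)` iff the corresponding ring map kills `K`;
* `quotFunctor`, `quotCone`, `quotCone_isLimit`: for a nonempty chain `c` of ideals, `Spec (A / sSup c)` is the limit of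
  the `Spec (A / I)`, `I ∈ c`, in schemes over `Spec A`;
* `main10052`: Zorn's lemma + `main10007`.
-/

set_option autoImplicit false
universe u
open CategoryTheory CategoryTheory.Limits AlgebraicGeometry Opposite
open AlgSp Groth.Agent.Lib.Helper16

namespace Groth.Agent.Lib.Helper6.LimSp

section Quot

variable {A : CommRingCat.{u}}

/-- The quotient map as a morphism of commutative rings. -/
abbrev qh (K : Ideal A) : A ⟶ CommRingCat.of (A ⧸ K) := CommRingCat.ofHom (Ideal.Quotient.mk K)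

/-- The closed immersion `Spec (A/K) ⟶ Spec A`. -/
noncomputable abbrev jS (K : Ideal A) : Spec (CommRingCat.of (A ⧸ K)) ⟶ Spec A := Spec.map (qh K)

noncomputable abbrev ov (K : Ideal A) : Over (Spec A) := Over.mk (jS K)

noncomputable abbrev jO (K : Ideal A) : ov K ⟶ Over.mk (𝟙 (Spec A)) := Over.homMk (jS K)

noncomputable abbrev jY (K : Ideal A) : (yon (Spec A)).obj (ov K) ⟶ (yon (Spec A)).obj (Over.mk (𝟙 (Spec A))) :=
  (yon (Spec A)).map (jO K)

theorem spec_factors_iff (K : Ideal A) {T : Scheme.{u}} (f : T ⟶ Spec A) :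
    (∃ l : T ⟶ Spec (CommRingCat.of (A ⧸ K)), l ≫ jS K = f) ↔
      ∀ a ∈ K, ((ΓSpec.adjunction.homEquiv T (op A)).symm f).unop.hom a = 0 := by
  constructor
  · rintro ⟨l, rfl⟩ a ha
    have h1 : (ΓSpec.adjunction.homEquiv T (op A)).symm (l ≫ Scheme.Spec.map (qh K).op) =
        (ΓSpec.adjunction.homEquiv T (op (CommRingCat.of (A ⧸ K)))).symm l ≫ (qh K).op :=
      ΓSpec.adjunction.homEquiv_naturality_right_symm l (qh K).op
    have h3 : ((ΓSpec.adjunction.homEquiv T (op A)).symm (l ≫ jS K)).unop.hom a =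
        ((ΓSpec.adjunction.homEquiv T (op (CommRingCat.of (A ⧸ K)))).symm l).unop.hom
          (Ideal.Quotient.mk K a) :=
      congrArg (fun φ => φ.unop.hom a) h1
    rw [h3, Ideal.Quotient.eq_zero_iff_mem.2 ha, map_zero]
  · intro hK
    let ρ' : CommRingCat.of (A ⧸ K) ⟶ (Scheme.Γ.rightOp.obj T).unop :=
      CommRingCat.ofHom (Ideal.Quotient.lift K ((ΓSpec.adjunction.homEquiv T (op A)).symm f).unop.hom hK)
    have e1 : qh K ≫ ρ' = ((ΓSpec.adjunction.homEquiv T (op A)).symm f).unop :=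
      CommRingCat.hom_ext (RingHom.ext fun a => rfl)
    have e2 : ρ'.op ≫ (qh K).op = (ΓSpec.adjunction.homEquiv T (op A)).symm f := congrArg Quiver.Hom.op e1
    exact ⟨ΓSpec.adjunction.homEquiv T (op (CommRingCat.of (A ⧸ K))) ρ'.op,
      ((ΓSpec.adjunction.homEquiv_naturality_right ρ'.op (qh K).op).symm.trans
        (congrArg (ΓSpec.adjunction.homEquiv T (op A)) e2)).trans (Equiv.apply_symm_apply _ _)⟩

theorem ov_hom_ext {T : Over (Spec A)} {J : Ideal A} (f g : T ⟶ ov J) : f = g := by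
  have hm : Mono (jS J) := inferInstance
  exact Over.OverMorphism.ext ((cancel_mono (jS J)).1 ((Over.w f).trans (Over.w g).symm))

theorem jS_factor {I J : Ideal A} (h : J ≤ I) :
    Spec.map (CommRingCat.ofHom (Ideal.Quotient.factor h)) ≫ jS J = jS I := by
  have e : qh J ≫ CommRingCat.ofHom (Ideal.Quotient.factor h) = qh I :=
    CommRingCat.hom_ext (RingHom.ext fun a => rfl)
  exact (Spec.map_comp _ _).symm.trans (congrArg Spec.map e)

theorem isAffineHom_ov_hom {I J : Ideal A} (w : ov I ⟶ ov J) : IsAffineHom w.left := by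
  have h1 : IsAffine (ov I).left := inferInstanceAs (IsAffine (Spec (CommRingCat.of (A ⧸ I))))
  have h2 : IsAffine (ov J).left := inferInstanceAs (IsAffine (Spec (CommRingCat.of (A ⧸ J))))
  infer_instance

variable (c : Set (Ideal A))

/-- The system `I ↦ Spec (A/I)` over `Spec A`, for `I` in a set of ideals ordered by reverse inclusion. -/
noncomputable abbrev quotFunctor : (↥c)ᵒᵖ ⥤ Over (Spec A) where
  obj i := ov i.unop.1
  map {i j} φ := Over.homMk (Spec.map (CommRingCat.ofHom (Ideal.Quotient.factor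
    (show j.unop.1 ≤ i.unop.1 from leOfHom φ.unop)))) (jS_factor _)
  map_id _ := ov_hom_ext _ _
  map_comp _ _ := ov_hom_ext _ _

/-- The cone with vertex `Spec (A / sSup c)`. -/
noncomputable abbrev quotCone : Cone (quotFunctor c) where
  pt := ov (sSup c)
  π :=
    { app := fun i => Over.homMk (Spec.map (CommRingCat.ofHom (Ideal.Quotient.factor
        (show i.unop.1 ≤ sSup c from le_sSup i.unop.2)))) (jS_factor _)
      naturality := fun _ _ _ => ov_hom_ext _ _ }

theorem quotCone_isLimit (hne : c.Nonempty) (hch : IsChain (· ≤ ·) c) : Nonempty (IsLimit (quotCone c)) := by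
  have key : ∀ s : Cone (quotFunctor c), ∃ _ : s.pt ⟶ ov (sSup c), True := by
    intro s
    have hk : ∀ a ∈ sSup c,
        ((ΓSpec.adjunction.homEquiv s.pt.left (op A)).symm s.pt.hom).unop.hom a = 0 := by
      intro a ha
      obtain ⟨I, hI, haI⟩ := (Submodule.mem_sSup_of_directed hne hch.directedOn).1 ha
      exact (spec_factors_iff I s.pt.hom).1
        ⟨(s.π.app (op ⟨I, hI⟩)).left, Over.w (s.π.app (op ⟨I, hI⟩))⟩ a haI
    obtain ⟨l, hl⟩ := (spec_factors_iff (sSup c) s.pt.hom).2 hk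
    exact ⟨Over.homMk l hl, trivial⟩
  choose lift _ using key
  exact ⟨{ lift := lift, fac := fun s j => ov_hom_ext _ _, uniq := fun s m _ => ov_hom_ext _ _ }⟩

/-- The system `I ↦ h_{Spec (A/I)}` of sheaves. -/
noncomputable abbrev quotSys : (↥c)ᵒᵖ ⥤ Sp (Spec A) := quotFunctor c ⋙ yon (Spec A)

noncomputable abbrev quotT :
    quotSys c ⟶ (Functor.const (↥c)ᵒᵖ).obj ((yon (Spec A)).obj (Over.mk (𝟙 (Spec A)))) where
  app i := jY i.unop.1
  naturality _ _ _ := (SpCoprod.isTerminalOne (Spec A)).hom_ext _ _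

end Quot

theorem isRepresentable_of_iso' {S : Scheme.{u}} {F G : Sp S} (e : F ≅ G) (h : F.obj.IsRepresentable) :
    G.obj.IsRepresentable := by
  obtain ⟨M, ⟨e'⟩⟩ := SchLocus.exists_iso_yon_of_isRepresentable h
  exact SchLocus.isRepresentable_of_iso (e.symm ≪≫ e'.symm)

theorem rep_iff_of_isPullback {A : CommRingCat.{u}} {X : Sp (Spec A)}
    (q : X ⟶ (yon (Spec A)).obj (Over.mk (𝟙 (Spec A)))) (I : Ideal A)
    {P : Sp (Spec A)} {fst : P ⟶ X} {snd : P ⟶ (yon (Spec A)).obj (ov I)} (sq : IsPullback fst snd q (jY I)) :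
    P.obj.IsRepresentable ↔ (pullback (jY I) q).obj.IsRepresentable :=
  ⟨isRepresentable_of_iso' (sq.isoIsPullback _ _ (IsPullback.of_hasPullback (jY I) q).flip),
   isRepresentable_of_iso' (sq.isoIsPullback _ _ (IsPullback.of_hasPullback (jY I) q).flip).symm⟩

theorem main10052 (A : CommRingCat.{u}) (X : AlgSp.Space (Spec A))
    (q : X.obj ⟶ (AlgSp.yon (Spec A)).obj (Over.mk (𝟙 (Spec A))))
    (hqc : AlgSp.IsQuasiCompactMor q) (hqs : AlgSp.IsQuasiSeparatedMor q) (hX : ¬ X.obj.obj.IsRepresentable) :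
    ∃ I : Ideal A,
      (∀ (P : AlgSp.Sp (Spec A)) (fst : P ⟶ X.obj)
        (snd : P ⟶ (AlgSp.yon (Spec A)).obj (Over.mk (Spec.map (CommRingCat.ofHom (Ideal.Quotient.mk I))))),
        IsPullback fst snd q ((AlgSp.yon (Spec A)).map (Over.homMk (Spec.map (CommRingCat.ofHom (Ideal.Quotient.mk I))))) →
          ¬ P.obj.IsRepresentable) ∧
      ∀ I' : Ideal A, I < I' →
        ∀ (P : AlgSp.Sp (Spec A)) (fst : P ⟶ X.obj)
          (snd : P ⟶ (AlgSp.yon (Spec A)).obj (Over.mk (Spec.map (CommRingCat.ofHom (Ideal.Quotient.mk I'))))),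
          IsPullback fst snd q ((AlgSp.yon (Spec A)).map (Over.homMk (Spec.map (CommRingCat.ofHom (Ideal.Quotient.mk I'))))) →
            P.obj.IsRepresentable := by
  -- properties of the stages
  have hDalg : ∀ I : Ideal A, IsAlgSpace (pullback (jY I) q) := fun I =>
    isAlgSpace_of_isPullback (IsAlgSpace.yon_obj _) (IsAlgSpace.yon_obj _).diag X.property
      (IsPullback.of_hasPullback (jY I) q)
  have hDqc : ∀ I : Ideal A, IsQuasiCompactSp (pullback (jY I) q) := fun I => by
    have : CompactSpace ↥(ov I).left := inferInstanceAs (CompactSpace ↥(Spec (CommRingCat.of (A ⧸ I))))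
    exact hqc (IsAlgSpace.yon_obj (ov I)) (isQuasiCompactSp_yon_of_compactSpace (ov I)) (jY I)
      (pullback.snd (jY I) q) (pullback.fst (jY I) q) (IsPullback.of_hasPullback (jY I) q).flip
  have hDqs : ∀ I : Ideal A, IsQuasiSeparatedSp (pullback (jY I) q) := fun I => by
    have h1 : (RepWith (S := Spec A) @QuasiCompact).diagonal (pullback.fst (jY I) q) :=
      MorphismProperty.of_isPullback (P := (RepWith (S := Spec A) @QuasiCompact).diagonal)
        (IsPullback.of_hasPullback (jY I) q).flip hqs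
    have h2 : IsAffine (ov I).left := inferInstanceAs (IsAffine (Spec (CommRingCat.of (A ⧸ I))))
    exact isQuasiSeparatedSp_of_isQuasiSeparatedMor (pullback.fst (jY I) q) h1
      (isQuasiSeparatedSp_yon_of_isAffine (ov I) h2)
  -- the zero ideal is bad
  have hbot : ¬ (pullback (jY (⊥ : Ideal A)) q).obj.IsRepresentable := by
    intro h
    obtain ⟨l, hl⟩ := (spec_factors_iff (⊥ : Ideal A) (𝟙 (Spec A))).2 (fun a ha => by
      rw [Ideal.mem_bot] at ha
      rw [ha, map_zero])
    have hiso : IsIso (jO (⊥ : Ideal A)) :=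
      ⟨⟨Over.homMk l hl, ov_hom_ext _ _, Over.mkIdTerminal.hom_ext _ _⟩⟩
    have hiso2 : IsIso (jY (⊥ : Ideal A)) := by
      show IsIso ((yon (Spec A)).map (jO (⊥ : Ideal A)))
      infer_instance
    have hiso3 : IsIso (pullback.snd (jY (⊥ : Ideal A)) q) := inferInstance
    exact hX (isRepresentable_of_iso' (asIso (pullback.snd (jY (⊥ : Ideal A)) q)) h)
  -- chains
  have hchain : ∀ c : Set (Ideal A), c ⊆ {I | ¬ (pullback (jY I) q).obj.IsRepresentable} →
      IsChain (· ≤ ·) c → c.Nonempty → ¬ (pullback (jY (sSup c)) q).obj.IsRepresentable := by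
    intro c hcS hch hne hrep
    have hne' : Nonempty ↥c := hne.to_subtype
    have hdir : IsDirectedOrder ↥c :=
      ⟨fun a b => (hch.total a.2 b.2).elim (fun h => ⟨b, h, le_rfl⟩) (fun h => ⟨a, le_rfl, h⟩)⟩
    obtain ⟨hc₀⟩ := quotCone_isLimit c hne hch
    have hc₁ : IsLimit ((yon (Spec A)).mapCone (quotCone c)) := isLimitOfPreserves (yon (Spec A)) hc₀
    have hg : ∀ i, ((yon (Spec A)).mapCone (quotCone c)).π.app i ≫ (quotT c).app i = jY (sSup c) :=
      fun i => (SpCoprod.isTerminalOne (Spec A)).hom_ext _ _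
    obtain ⟨hlim⟩ := pbCone_isLimit (quotSys c) (quotT c) q ((yon (Spec A)).mapCone (quotCone c))
      (jY (sSup c)) hg hc₁
    have hDa : ∀ (i j : (↥c)ᵒᵖ) (φ : i ⟶ j), IsAffineMor ((pbFunctor (quotSys c) (quotT c) q).map φ) :=
      fun i j φ => by
        have h1 : IsAffineHom ((quotFunctor c).map φ).left := isAffineHom_ov_hom _
        have h2 : IsAffineMor ((quotSys c).map φ) :=
          isAffineMor_of_repWith_le_isAffineHom le_rfl _
            ((repWith_yon_map_iff @IsAffineHom ((quotFunctor c).map φ)).2 h1)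
        exact isAffineMor_of_isPullback (pbMap_isPullback (quotSys c) (quotT c) q φ).flip h2
    obtain ⟨i, hi⟩ := main10007 (Spec A) (pbFunctor (quotSys c) (quotT c) q)
      (fun i => hDalg i.unop.1) hDa (fun i => hDqc i.unop.1) (fun i => hDqs i.unop.1)
      (pbCone (quotSys c) (quotT c) q ((yon (Spec A)).mapCone (quotCone c)) (jY (sSup c)) hg) hlim hrep
    exact hcS i.unop.2 hi
  -- Zorn
  obtain ⟨m, hm⟩ := zorn_le₀ {I : Ideal A | ¬ (pullback (jY I) q).obj.IsRepresentable} (fun c hcS hch => by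
    rcases c.eq_empty_or_nonempty with rfl | hne
    · exact ⟨⊥, hbot, fun z hz => absurd hz (Set.notMem_empty z)⟩
    · exact ⟨sSup c, hchain c hcS hch hne, fun z hz => le_sSup hz⟩)
  refine ⟨m, fun P fst snd sq hrep => hm.prop ((rep_iff_of_isPullback q m sq).1 hrep),
    fun I' hlt P fst snd sq => ?_⟩
  by_contra hnot
  have hI' : ¬ (pullback (jY I') q).obj.IsRepresentable := fun h => hnot ((rep_iff_of_isPullback q I' sq).2 h)
  exact absurd (hm.le_of_ge hI' hlt.le) (not_le_of_gt hlt)

end Groth.Agent.Lib.Helper6.LimSp
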