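import Mathlib
import Groth.Agent.Lib.Helper12.NormField
import Groth.Agent.Lib.Helper22.NormalSections

/-! The canonical map to the relative normalization is a local isomorphism for a
locally quasi-finite morphism from a normal integral scheme (EGA IV 8.12.10-type statement). -/

set_option autoImplicit false
set_option linter.style.haveILetI false

namespace Groth.Agent.Lib.Helper6.LocIsoNorm

open AlgebraicGeometry CategoryTheory TopologicalSpace Opposite

universe u

/-- If `φ : B ⟶ R` is injective with integrally closed image, the relative normalization of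
`Spec B` in `Spec R` is `Spec B`. -/
theorem isIso_fromNormalization_of_closed {B R : CommRingCat.{u}} (φ : B ⟶ R)
    (h : Spec R ⟶ Spec B) [QuasiCompact h] [QuasiSeparated h] (hh : h = Spec.map φ)
    (hinj : Function.Injective φ.hom)
    (hcl : ∀ r : R, φ.hom.IsIntegralElem r → r ∈ Set.range φ.hom) :
    IsIso h.fromNormalization := by
  haveI : IsAffine h.normalization := isAffine_of_isAffineHom h.fromNormalization
  have hle : h ⁻¹ᵁ ⊤ ≤ h.toNormalization ⁻¹ᵁ (h.fromNormalization ⁻¹ᵁ ⊤) := by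
    rw [← Scheme.Hom.comp_preimage, h.toNormalization_fromNormalization]
  obtain ⟨γR, hγR⟩ : ∃ γR : Γ(Spec R, ⊤) →+* R, γR = (Scheme.ΓSpecIso R).hom.hom := ⟨_, rfl⟩
  obtain ⟨γB, hγB⟩ : ∃ γB : Γ(Spec B, ⊤) →+* B, γB = (Scheme.ΓSpecIso B).hom.hom := ⟨_, rfl⟩
  have hγRi : Function.Injective γR := by
    rw [hγR]; exact (Scheme.ΓSpecIso R).commRingCatIsoToRingEquiv.injective
  have hγBi : Function.Injective γB := by
    rw [hγB]; exact (Scheme.ΓSpecIso B).commRingCatIsoToRingEquiv.injective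
  have hγBs : Function.Surjective γB := by
    rw [hγB]; exact (Scheme.ΓSpecIso B).commRingCatIsoToRingEquiv.surjective
  obtain ⟨hT, hhT⟩ : ∃ hT : Γ(Spec B, ⊤) →+* Γ(Spec R, ⊤), hT = (h.app ⊤).hom := ⟨_, rfl⟩
  have hnat : ∀ a : Γ(Spec B, ⊤), γR (hT a) = φ.hom (γB a) := by
    intro a
    subst hh hγR hγB hhT
    exact congr($(Scheme.ΓSpecIso_naturality φ).hom a)
  letI : Algebra Γ(Spec B, ⊤) Γ(Spec R, h ⁻¹ᵁ ⊤) := (h.app ⊤).hom.toAlgebra
  obtain ⟨E, hE1, hE2⟩ :=
    Groth.Agent.Lib.Helper12.NormField.exists_ringEquiv' h (isAffineOpen_top _) hle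
  have hcomp : φ.hom.comp γB = γR.comp hT := by
    ext a; exact (hnat a).symm
  have hbij : Function.Bijective (h.fromNormalization.app ⊤).hom := by
    constructor
    · intro a a' haa
      have h1 : E ((h.fromNormalization.app ⊤).hom a) = E ((h.fromNormalization.app ⊤).hom a') := by
        rw [haa]
      rw [hE1, hE1] at h1
      have h2 : hT a = hT a' := by
        subst hhT
        exact congrArg Subtype.val h1
      have h3 : φ.hom (γB a) = φ.hom (γB a') := by rw [← hnat, ← hnat, h2]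
      exact hγBi (hinj h3)
    · intro y
      obtain ⟨p, hp, hp0⟩ := (E y).2
      obtain ⟨t, ht⟩ : ∃ t : Γ(Spec R, ⊤), t = (E y : Γ(Spec R, h ⁻¹ᵁ ⊤)) := ⟨_, rfl⟩
      have hp0' : Polynomial.eval₂ hT t p = 0 := by
        subst hhT ht
        exact hp0
      have hint : φ.hom.IsIntegralElem (γR t) := by
        refine ⟨p.map γB, hp.map _, ?_⟩
        rw [Polynomial.eval₂_map, hcomp, ← Polynomial.hom_eval₂, hp0', map_zero]
      obtain ⟨b, hb⟩ := hcl _ hint
      obtain ⟨a, ha⟩ := hγBs b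
      refine ⟨a, ?_⟩
      apply E.injective
      rw [hE1]
      apply Subtype.ext
      apply hγRi
      have : γR (hT a) = γR t := by rw [hnat, ha, hb]
      subst hhT ht
      exact this
  haveI : IsIso (h.fromNormalization.appTop) :=
    (ConcreteCategory.isIso_iff_bijective _).mpr hbij
  exact (MorphismProperty.arrow_mk_iso_iff (MorphismProperty.isomorphisms _)
    (arrowIsoSpecΓOfIsAffine h.fromNormalization)).mpr
    (inferInstanceAs (IsIso (Spec.map (h.fromNormalization.appTop))))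

variable {X Y : Scheme.{u}} [IsIntegral X]

theorem exists_isOpenImmersion (hN : ∀ x : X, IsIntegrallyClosed (X.presheaf.stalk x))
    (f : X ⟶ Y) [LocallyQuasiFinite f] [LocallyOfFiniteType f] [QuasiCompact f]
    [QuasiSeparated f] (x : X) :
    ∃ U : X.Opens, x ∈ U ∧ IsOpenImmersion (U.ι ≫ f.toNormalization) := by
  obtain ⟨V, hV, hxV⟩ : ∃ V : Y.Opens, IsAffineOpen V ∧ f x ∈ V := by
    obtain ⟨_, ⟨V, hV, rfl⟩, hxV, -⟩ := Y.isBasis_affineOpens.exists_subset_of_mem_open
      (Set.mem_univ (f x)) isOpen_univ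
    exact ⟨V, hV, hxV⟩
  obtain ⟨U, hU, hxU, hUV⟩ : ∃ U : X.Opens, IsAffineOpen U ∧ x ∈ U ∧ U ≤ f ⁻¹ᵁ V := by
    obtain ⟨_, ⟨U, hU, rfl⟩, hxU, hUV⟩ := X.isBasis_affineOpens.exists_subset_of_mem_open
      (show x ∈ ((f ⁻¹ᵁ V : X.Opens) : Set X) from hxV) (f ⁻¹ᵁ V).2
    exact ⟨U, hU, hxU, hUV⟩
  refine ⟨U, hxU, ?_⟩
  haveI : Nonempty U := ⟨⟨x, hxU⟩⟩
  haveI : Nonempty (f ⁻¹ᵁ V : X.Opens) := ⟨⟨x, hxV⟩⟩
  have hNV : IsAffineOpen (f.fromNormalization ⁻¹ᵁ V) := hV.preimage f.fromNormalization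
  have hle0 : f ⁻¹ᵁ V ≤ f.toNormalization ⁻¹ᵁ (f.fromNormalization ⁻¹ᵁ V) := by
    rw [← Scheme.Hom.comp_preimage, f.toNormalization_fromNormalization]
  have hle : U ≤ f.toNormalization ⁻¹ᵁ (f.fromNormalization ⁻¹ᵁ V) := hUV.trans hle0
  obtain ⟨φ, hφ⟩ : ∃ φ : Γ(f.normalization, f.fromNormalization ⁻¹ᵁ V) ⟶ Γ(X, U),
      φ = f.toNormalization.appLE (f.fromNormalization ⁻¹ᵁ V) U hle := ⟨_, rfl⟩
  have hsq : Spec.map φ ≫ hNV.fromSpec = hU.fromSpec ≫ f.toNormalization := by
    rw [hφ]; exact IsAffineOpen.SpecMap_appLE_fromSpec _ hNV hU hle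
  have e1 : Spec.map φ ≫ (hNV.fromSpec ≫ f.fromNormalization) = hU.fromSpec ≫ f := by
    rw [← Category.assoc, hsq, Category.assoc, f.toNormalization_fromNormalization]
  haveI : LocallyOfFiniteType (Spec.map φ ≫ (hNV.fromSpec ≫ f.fromNormalization)) := by
    rw [e1]; infer_instance
  haveI : LocallyQuasiFinite (Spec.map φ ≫ (hNV.fromSpec ≫ f.fromNormalization)) := by
    rw [e1]; infer_instance
  haveI : LocallyOfFiniteType (Spec.map φ) :=
    locallyOfFiniteType_of_comp _ (hNV.fromSpec ≫ f.fromNormalization)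
  haveI : LocallyQuasiFinite (Spec.map φ) :=
    LocallyQuasiFinite.of_comp _ (hNV.fromSpec ≫ f.fromNormalization)
  -- algebra of the situation
  letI : Algebra Γ(Y, V) Γ(X, f ⁻¹ᵁ V) := (f.app V).hom.toAlgebra
  obtain ⟨E, hE1, hE2⟩ := Groth.Agent.Lib.Helper12.NormField.exists_ringEquiv' f hV hle0
  have hφE : ∀ b, φ.hom b =
      (X.presheaf.map (homOfLE hUV).op).hom ((E b : Γ(X, f ⁻¹ᵁ V))) := by
    intro b
    rw [hE2 b, hφ]
    exact congr($((f.toNormalization.appLE_map hle0 (homOfLE hUV).op).symm).hom b)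
  have hres : Function.Injective (X.presheaf.map (homOfLE hUV).op).hom :=
    map_injective_of_isIntegral X (homOfLE hUV)
  have hinj : Function.Injective φ.hom := by
    intro b b' hbb
    rw [hφE, hφE] at hbb
    exact E.injective (Subtype.ext (hres hbb))
  have hgerm : ∀ a : Γ(X, f ⁻¹ᵁ V),
      (X.germToFunctionField U).hom ((X.presheaf.map (homOfLE hUV).op).hom a) =
        (X.germToFunctionField (f ⁻¹ᵁ V)).hom a := by
    intro a
    exact TopCat.Presheaf.germ_res_apply X.presheaf (homOfLE hUV) _ _ a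
  have hφπ : ∀ a : Γ(Y, V), φ.hom ((f.fromNormalization.app V).hom a) =
      (X.presheaf.map (homOfLE hUV).op).hom ((f.app V).hom a) := by
    intro a
    rw [hφE, hE1]
    rfl
  have hcl : ∀ r : Γ(X, U), φ.hom.IsIntegralElem r → r ∈ Set.range φ.hom := by
    intro r hr
    have hπ : (f.fromNormalization.app V).hom.IsIntegral :=
      IsIntegralHom.isIntegral_app f.fromNormalization V hV
    obtain ⟨p, hp, hp0⟩ : (φ.hom.comp (f.fromNormalization.app V).hom).IsIntegralElem r := by
      letI : Algebra Γ(Y, V) Γ(f.normalization, f.fromNormalization ⁻¹ᵁ V) :=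
        (f.fromNormalization.app V).hom.toAlgebra
      letI : Algebra Γ(f.normalization, f.fromNormalization ⁻¹ᵁ V) Γ(X, U) := φ.hom.toAlgebra
      letI : Algebra Γ(Y, V) Γ(X, U) :=
        (φ.hom.comp (f.fromNormalization.app V).hom).toAlgebra
      haveI : IsScalarTower Γ(Y, V) Γ(f.normalization, f.fromNormalization ⁻¹ᵁ V) Γ(X, U) :=
        IsScalarTower.of_algebraMap_eq' rfl
      haveI : Algebra.IsIntegral Γ(Y, V) Γ(f.normalization, f.fromNormalization ⁻¹ᵁ V) := ⟨hπ⟩
      exact isIntegral_trans (R := Γ(Y, V))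
        (A := Γ(f.normalization, f.fromNormalization ⁻¹ᵁ V)) r hr
    obtain ⟨ρ, hρ⟩ : ∃ ρ : Γ(Y, V) →+* X.functionField, ρ =
        (X.germToFunctionField U).hom.comp (φ.hom.comp (f.fromNormalization.app V).hom) :=
      ⟨_, rfl⟩
    obtain ⟨g, hg⟩ : ∃ g : X.functionField, g = (X.germToFunctionField U).hom r := ⟨_, rfl⟩
    have hρ0 : Polynomial.eval₂ ρ g p = 0 := by
      rw [hρ, hg, ← Polynomial.hom_eval₂, hp0, map_zero]
    have hρA : (X.germToFunctionField (f ⁻¹ᵁ V)).hom.comp (f.app V).hom = ρ := by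
      rw [hρ]
      ext a
      simp only [RingHom.comp_apply]
      rw [hφπ, hgerm]
    have hρy : ∀ (y : X) (hy : y ∈ f ⁻¹ᵁ V),
        (algebraMap (X.presheaf.stalk y) X.functionField).comp
          ((X.presheaf.germ (f ⁻¹ᵁ V) y hy).hom.comp (f.app V).hom) = ρ := by
      intro y hy
      rw [← hρA]
      ext a
      simp only [RingHom.comp_apply]
      exact X.algebraMap_germ_eq_germToFunctionField hy _
    have hmem : ∀ y ∈ (f ⁻¹ᵁ V : X.Opens),
        g ∈ Set.range (algebraMap (X.presheaf.stalk y) X.functionField) := by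
      intro y hy
      haveI := hN y
      have hint : IsIntegral (X.presheaf.stalk y) g := by
        refine ⟨p.map ((X.presheaf.germ (f ⁻¹ᵁ V) y hy).hom.comp (f.app V).hom), hp.map _, ?_⟩
        rw [Polynomial.eval₂_map, hρy y hy]
        exact hρ0
      exact IsIntegrallyClosed.isIntegral_iff.mp hint
    obtain ⟨s, hs⟩ := Groth.Agent.Lib.Helper22.NormalSections.exists_section_of_forall_mem_range
      (f ⁻¹ᵁ V) g hmem
    have hs' : (X.germToFunctionField (f ⁻¹ᵁ V)).hom s = g := hs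
    have hsint : IsIntegral Γ(Y, V) s := by
      refine ⟨p, hp, ?_⟩
      apply X.germToFunctionField_injective (f ⁻¹ᵁ V)
      show (X.germToFunctionField (f ⁻¹ᵁ V)).hom (Polynomial.eval₂ (f.app V).hom s p) =
        (X.germToFunctionField (f ⁻¹ᵁ V)).hom 0
      rw [Polynomial.hom_eval₂, hρA, hs', map_zero]
      exact hρ0
    refine ⟨E.symm ⟨s, hsint⟩, ?_⟩
    rw [hφE, RingEquiv.apply_symm_apply]
    apply X.germToFunctionField_injective U
    show (X.germToFunctionField U).hom ((X.presheaf.map (homOfLE hUV).op).hom s) =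
      (X.germToFunctionField U).hom r
    rw [hgerm, hs', hg]
  have hopen : IsOpenImmersion (Spec.map φ) := by
    haveI : IsIso (Spec.map φ).fromNormalization :=
      isIso_fromNormalization_of_closed φ _ rfl hinj hcl
    have : IsOpenImmersion
      ((Spec.map φ).toNormalization ≫ (Spec.map φ).fromNormalization) := inferInstance
    rwa [(Spec.map φ).toNormalization_fromNormalization] at this
  have hfin : U.ι ≫ f.toNormalization = hU.isoSpec.hom ≫ Spec.map φ ≫ hNV.fromSpec := by
    rw [hsq, ← hU.isoSpec_inv_ι]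
    simp
  rw [hfin]
  infer_instance

theorem main (hN : ∀ x : X, IsIntegrallyClosed (X.presheaf.stalk x)) (f : X ⟶ Y)
    [LocallyQuasiFinite f] [LocallyOfFiniteType f] [QuasiCompact f] [QuasiSeparated f] :
    IsLocalIso f.toNormalization ∧ (IsOpenImmersion f.toNormalization ↔ IsSeparated f) := by
  refine ⟨⟨fun x => exists_isOpenImmersion hN f x⟩, ⟨fun h => ?_, fun h => inferInstance⟩⟩
  have : IsSeparated (f.toNormalization ≫ f.fromNormalization) := inferInstance
  rwa [f.toNormalization_fromNormalization] at this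

end Groth.Agent.Lib.Helper6.LocIsoNorm
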