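import Mathlib
import Groth.Agent.Lib.Helper16.LocPGen
import Groth.Agent.Lib.Helper16.ChartDiagram
import Groth.Agent.Lib.Helper16.FppfLocal
import Groth.Agent.Lib.Helper9.FppfSource

/-!
# Descent of flat / lft / lfp through a locally surjective map of fppf sheaves (helper6)
-/

set_option autoImplicit false
universe u
open CategoryTheory CategoryTheory.Limits AlgebraicGeometry Opposite TensorProduct

namespace Groth.Agent.Lib.Helper6.LocSurjComp

open AlgSp Groth.Agent.Lib.Helper16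

section Ring

/-- purity of a faithfully flat ring map, in the relative form. -/
theorem rTensor_algebraMap_injective (A B B' M : Type u) [CommRing A] [CommRing B] [CommRing B']
    [Algebra A B] [Algebra A B'] [Algebra B B'] [IsScalarTower A B B'] [Module.FaithfullyFlat B B']
    [AddCommGroup M] [Module A M] :
    Function.Injective (LinearMap.rTensor M (IsScalarTower.toAlgHom A B B').toLinearMap) := by
  have key : ∀ x : B ⊗[A] M,
      TensorProduct.AlgebraTensorModule.cancelBaseChange A B B' B' M ((1 : B') ⊗ₜ[B] x) =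
        LinearMap.rTensor M (IsScalarTower.toAlgHom A B B').toLinearMap x := by
    intro x
    induction x using TensorProduct.induction_on with
    | zero => simp
    | tmul b m =>
      rw [TensorProduct.AlgebraTensorModule.cancelBaseChange_tmul, LinearMap.rTensor_tmul]
      simp [Algebra.algebraMap_eq_smul_one]
    | add x y hx hy => rw [TensorProduct.tmul_add, map_add, map_add, hx, hy]
  intro x y hxy
  have h1 : (1 : B') ⊗ₜ[B] x = (1 : B') ⊗ₜ[B] y := by
    apply (TensorProduct.AlgebraTensorModule.cancelBaseChange A B B' B' M).injective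
    rw [key, key, hxy]
  exact Module.FaithfullyFlat.tensorProduct_mk_injective (A := B) (B := B') (B ⊗[A] M) h1

theorem flat_sandwich (A B C B' : Type u) [CommRing A] [CommRing B] [CommRing C] [CommRing B']
    [Algebra A B] [Algebra A C] [Algebra A B'] [Algebra B C] [Algebra B B'] [Algebra C B']
    [IsScalarTower A B C] [IsScalarTower A B B'] [IsScalarTower A C B'] [IsScalarTower B C B']
    [Module.Flat A C] [Module.FaithfullyFlat B B'] : Module.Flat A B := by
  rw [Module.Flat.iff_lTensor_injective']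
  intro I
  rw [injective_iff_map_eq_zero]
  intro x hx
  let γ : B →ₗ[A] C := (IsScalarTower.toAlgHom A B C).toLinearMap
  let δ : C →ₗ[A] B' := (IsScalarTower.toAlgHom A C B').toLinearMap
  let β : B →ₗ[A] B' := (IsScalarTower.toAlgHom A B B').toLinearMap
  have hβ : β = δ ∘ₗ γ := by
    ext b
    simp only [β, δ, γ, LinearMap.comp_apply, AlgHom.toLinearMap_apply, IsScalarTower.coe_toAlgHom']
    exact IsScalarTower.algebraMap_apply B C B' b
  have h1 : LinearMap.rTensor I γ x = 0 := by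
    have hinj : Function.Injective (LinearMap.lTensor C I.subtype) :=
      Module.Flat.iff_lTensor_injective'.1 inferInstance I
    apply hinj
    rw [map_zero]
    have e : LinearMap.lTensor C I.subtype (LinearMap.rTensor I γ x)
        = LinearMap.rTensor A γ (LinearMap.lTensor B I.subtype x) := by
      show ((LinearMap.lTensor C I.subtype).comp (LinearMap.rTensor I γ)) x =
        ((LinearMap.rTensor A γ).comp (LinearMap.lTensor B I.subtype)) x
      rw [LinearMap.lTensor_comp_rTensor, LinearMap.rTensor_comp_lTensor]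
    rw [e, hx, map_zero]
  have h2 : LinearMap.rTensor I β x = 0 := by
    rw [hβ, LinearMap.rTensor_comp, LinearMap.comp_apply, h1, map_zero]
  have hinj := rTensor_algebraMap_injective A B B' I
  exact hinj (by rw [map_zero]; exact h2)

theorem ringHom_flat_sandwich {A B C B' : Type u} [CommRing A] [CommRing B] [CommRing C]
    [CommRing B'] [IsLocalRing B] [IsLocalRing B']
    (φ : A →+* B) (ψ : B →+* C) (χ : C →+* B') (h1 : (ψ.comp φ).Flat) (h2 : (χ.comp ψ).Flat)
    [hloc : IsLocalHom (χ.comp ψ)] : φ.Flat := by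
  letI : Algebra A B := φ.toAlgebra
  letI : Algebra B C := ψ.toAlgebra
  letI : Algebra C B' := χ.toAlgebra
  letI : Algebra A C := (ψ.comp φ).toAlgebra
  letI : Algebra B B' := (χ.comp ψ).toAlgebra
  letI : Algebra A B' := (χ.comp (ψ.comp φ)).toAlgebra
  haveI : IsScalarTower A B C := IsScalarTower.of_algebraMap_eq (fun _ => rfl)
  haveI : IsScalarTower A B B' := IsScalarTower.of_algebraMap_eq (fun _ => rfl)
  haveI : IsScalarTower A C B' := IsScalarTower.of_algebraMap_eq (fun _ => rfl)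
  haveI : IsScalarTower B C B' := IsScalarTower.of_algebraMap_eq (fun _ => rfl)
  haveI : Module.Flat A C := h1
  haveI : Module.Flat B B' := h2
  haveI : IsLocalHom (algebraMap B B') := hloc
  haveI : Module.FaithfullyFlat B B' := Module.FaithfullyFlat.of_flat_of_isLocalHom
  exact flat_sandwich A B C B'

end Ring

section Sch

theorem flat_of_sections {W U V : Scheme.{u}} (w : W ⟶ U) (k : U ⟶ V) [Flat (w ≫ k)]
    (H : ∀ u : U, ∃ (T : Scheme.{u}) (s : T ⟶ W) (t : T), (s ≫ w) t = u ∧ Flat (s ≫ w)) :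
    Flat k := by
  rw [Flat.iff_flat_stalkMap]
  intro u
  obtain ⟨T, s, t, hu, hfl⟩ := H u
  have hu' : u = w (s t) := hu.symm
  subst hu'
  have h1 := (Flat.iff_flat_stalkMap _).1 (inferInstance : Flat (w ≫ k)) (s t)
  have h2 := (Flat.iff_flat_stalkMap _).1 hfl t
  rw [Scheme.Hom.stalkMap_comp] at h1 h2
  have h1' : ((w.stalkMap (s t)).hom.comp (k.stalkMap (w (s t))).hom).Flat := h1
  have h2' : ((s.stalkMap t).hom.comp (w.stalkMap (s t)).hom).Flat := h2
  exact ringHom_flat_sandwich _ _ _ h1' h2'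

theorem lfp_of_comp_of_lft {T W U : Scheme.{u}} (s : T ⟶ W) (w : W ⟶ U)
    [LocallyOfFinitePresentation (s ≫ w)] [LocallyOfFiniteType w] :
    LocallyOfFinitePresentation s := by
  rw [HasRingHomProperty.iff_exists_appLE (P := @LocallyOfFinitePresentation)
    Groth.Agent.Lib.Helper9.FppfSource.fp_source]
  intro t
  obtain ⟨U₀, hU₀, htU₀, -⟩ :=
    exists_isAffineOpen_mem_and_subset (x := w (s t)) (U := ⊤) trivial
  obtain ⟨W₀, hW₀, htW₀, hWU⟩ :=
    exists_isAffineOpen_mem_and_subset (x := s t) (U := w ⁻¹ᵁ U₀) htU₀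
  obtain ⟨T₀, hT₀, htT₀, hTW⟩ :=
    exists_isAffineOpen_mem_and_subset (x := t) (U := s ⁻¹ᵁ W₀) htW₀
  have hWU' : W₀ ≤ w ⁻¹ᵁ U₀ := hWU
  have hTW' : T₀ ≤ s ⁻¹ᵁ W₀ := hTW
  refine ⟨⟨W₀, hW₀⟩, ⟨T₀, hT₀⟩, htT₀, hTW', ?_⟩
  have e3 : T₀ ≤ (s ≫ w) ⁻¹ᵁ U₀ :=
    hTW'.trans ((TopologicalSpace.Opens.map s.base).map (homOfLE hWU')).le
  have hcomp := HasRingHomProperty.appLE (P := @LocallyOfFinitePresentation) (s ≫ w)
    inferInstance ⟨U₀, hU₀⟩ ⟨T₀, hT₀⟩ e3
  rw [← Scheme.Hom.appLE_comp_appLE s w U₀ W₀ T₀ hWU' hTW'] at hcomp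
  rw [CommRingCat.hom_comp] at hcomp
  have hft := HasRingHomProperty.appLE (P := @LocallyOfFiniteType) w inferInstance
    ⟨U₀, hU₀⟩ ⟨W₀, hW₀⟩ hWU'
  exact RingHom.FinitePresentation.of_comp_finiteType _ hcomp hft

theorem scheme_core {W U V : Scheme.{u}} (w : W ⟶ U) (k : U ⟶ V)
    (H : ∀ u : U, ∃ (T : Scheme.{u}) (s : T ⟶ W) (t : T), (s ≫ w) t = u ∧ Flat (s ≫ w) ∧
      LocallyOfFinitePresentation (s ≫ w)) :
    (Flat (w ≫ k) → Flat k) ∧ (LocallyOfFiniteType (w ≫ k) → LocallyOfFiniteType k) ∧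
    (LocallyOfFinitePresentation (w ≫ k) → LocallyOfFinitePresentation k) := by
  refine ⟨fun hwk => ?_, fun hwk => ?_, fun hwk => ?_⟩
  · exact flat_of_sections w k (fun u => by
      obtain ⟨T, s, t, ht, hfl, -⟩ := H u
      exact ⟨T, s, t, ht, hfl⟩)
  · have hw : LocallyOfFiniteType w := locallyOfFiniteType_of_comp w k
    refine Groth.Agent.Lib.Helper9.FppfSource.core' (P := @LocallyOfFiniteType)
      Groth.Agent.Lib.Helper9.FppfSource.ft_source
      (fun φ ψ => Groth.Agent.Lib.Helper9.FppfSource.ft_desc φ ψ) k (fun u => ?_)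
    obtain ⟨T, s, t, ht, hfl, hfp⟩ := H u
    have hs : LocallyOfFinitePresentation s := lfp_of_comp_of_lft s w
    refine ⟨T, s ≫ w, t, ht, hfl, hfp, ?_⟩
    rw [Category.assoc]
    infer_instance
  · have hwk' : LocallyOfFiniteType (w ≫ k) := inferInstance
    have hw : LocallyOfFiniteType w := locallyOfFiniteType_of_comp w k
    refine Groth.Agent.Lib.Helper9.FppfSource.core' (P := @LocallyOfFinitePresentation)
      Groth.Agent.Lib.Helper9.FppfSource.fp_source
      (fun φ ψ => Groth.Agent.Lib.Helper9.FppfSource.fp_desc φ ψ) k (fun u => ?_)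
    obtain ⟨T, s, t, ht, hfl, hfp⟩ := H u
    have hs : LocallyOfFinitePresentation s := lfp_of_comp_of_lft s w
    refine ⟨T, s ≫ w, t, ht, hfl, hfp, ?_⟩
    rw [Category.assoc]
    infer_instance

end Sch

section Sp

variable {S : Scheme.{u}}

theorem exists_cover_of_mem_J {U : Over S} (R : Sieve U) (hR : R ∈ J S U) (u : ↥U.left) :
    ∃ (T : Scheme.{u}) (f : T ⟶ U.left) (t : T), f t = u ∧ Flat f ∧
      LocallyOfFinitePresentation f ∧ R (Over.homMk f : Over.mk (f ≫ U.hom) ⟶ U) := by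
  rw [J_eq, GrothendieckTopology.mem_over_iff] at hR
  obtain ⟨𝒰, hle⟩ := (Scheme.mem_grothendieckTopology_iff
    (P := @Flat ⊓ @LocallyOfFinitePresentation)).1 hR
  obtain ⟨j, t₀, ht₀⟩ := 𝒰.exists_eq u
  have hj := hle _ _ (Presieve.ofArrows.mk j)
  rw [Sieve.overEquiv_iff] at hj
  have hjP := 𝒰.map_prop j
  exact ⟨𝒰.X j, 𝒰.f j, t₀, ht₀, hjP.1, hjP.2, hj⟩

/-- The section data: a chart `w : W ⟶ U` of a locally surjective `g` has fppf local sections. -/
theorem exists_sections {X Y : Sp S} (g : X ⟶ Y) [Sheaf.IsLocallySurjective g]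
    {U W₀ W : Over S} (a : (yon S).obj U ⟶ Y) (a₀' : (yon S).obj W₀ ⟶ X)
    (ha₀'e : RepWith @Etale a₀') (ha₀'s : RepWith @Surjective a₀')
    (w : W ⟶ U) (c' : W ⟶ W₀)
    (sqW : IsPullback ((yon S).map w) ((yon S).map c') a (a₀' ≫ g)) (u : ↥U.left) :
    ∃ (T : Scheme.{u}) (s : T ⟶ W.left) (t : T), (s ≫ w.left) t = u ∧ Flat (s ≫ w.left) ∧
      LocallyOfFinitePresentation (s ≫ w.left) := by
  have hR : Presheaf.imageSieve g.hom ((J S).uliftYonedaEquiv a) ∈ J S U :=
    Presheaf.imageSieve_mem (J S) g.hom (U := op U) ((J S).uliftYonedaEquiv a)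
  obtain ⟨T₀, fj, t₀, ht₀, hjfl, hjfp, hj⟩ := exists_cover_of_mem_J _ hR u
  obtain ⟨x, hx⟩ := hj
  let Tj : Over S := Over.mk (fj ≫ U.hom)
  let cj : Tj ⟶ U := Over.homMk fj
  let x' : (yon S).obj Tj ⟶ X := (J S).uliftYonedaEquiv.symm x
  have hx' : x' ≫ g = (yon S).map cj ≫ a := by
    apply (J S).uliftYonedaEquiv.injective
    rw [GrothendieckTopology.uliftYonedaEquiv_comp, Equiv.apply_symm_apply,
      ← GrothendieckTopology.uliftYonedaEquiv_naturality]
    exact hx
  obtain ⟨T', e, s₀, sqT⟩ := ha₀'e.rep x'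
  have hee : Etale e.left := ha₀'e.property _ _ _ sqT
  have hes : Surjective e.left := ha₀'s.property _ _ _ sqT
  obtain ⟨s₀', rfl⟩ := (yon S).map_surjective s₀
  have hcompat : (yon S).map (e ≫ cj) ≫ a = (yon S).map s₀' ≫ a₀' ≫ g := by
    rw [← Category.assoc ((yon S).map s₀'), sqT.w, Category.assoc, hx', Functor.map_comp,
      Category.assoc]
  obtain ⟨s, hs⟩ := (yon S).map_surjective (sqW.lift _ _ hcompat)
  have hsw : s ≫ w = e ≫ cj := by
    apply (yon S).map_injective
    rw [Functor.map_comp, hs, sqW.lift_fst]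
  have hsw' : s.left ≫ w.left = e.left ≫ fj := by
    have := congrArg (fun m => m.left) hsw
    simpa [cj] using this
  obtain ⟨t', ht'⟩ := hes.surj t₀
  refine ⟨T'.left, s.left, t', ?_, ?_, ?_⟩
  · rw [hsw', Scheme.Hom.comp_apply, ht', ht₀]
  · rw [hsw']; infer_instance
  · rw [hsw']; infer_instance

theorem main10557 {S : Scheme.{u}} {X Y Z : AlgSp.Space S} (g : X ⟶ Y) (h : Y ⟶ Z)
    (hg : Sheaf.IsLocallySurjective g.hom) :
    (AlgSp.LocP @Flat (g ≫ h).hom → AlgSp.LocP @Flat h.hom) ∧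
    (AlgSp.LocP @LocallyOfFiniteType (g ≫ h).hom → AlgSp.LocP @LocallyOfFiniteType h.hom) ∧
    (AlgSp.LocP @LocallyOfFinitePresentation (g ≫ h).hom →
      AlgSp.LocP @LocallyOfFinitePresentation h.hom) := by
  haveI := hg
  obtain ⟨V, b, hbe, hbs⟩ := Z.property.atlas
  obtain ⟨U₀, a₀, ha₀e, ha₀s⟩ := Y.property.atlas
  obtain ⟨U, k, c, hae, hcomm, hce, sqU, hsurj⟩ := exists_chart_diagram h.hom b hbe a₀ ha₀e
  have has := hsurj hbs ha₀s
  obtain ⟨W₀, a₀', ha₀'e, ha₀'s⟩ := X.property.atlas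
  obtain ⟨W, w, c', ha'e, hcomm', hc'e, sqW, hsurj'⟩ :=
    exists_chart_diagram g.hom ((yon S).map c ≫ a₀) hae a₀' ha₀'e
  have hcomm2 : ((yon S).map c' ≫ a₀') ≫ (g ≫ h).hom = (yon S).map (w ≫ k) ≫ b := by
    have : (g ≫ h).hom = g.hom ≫ h.hom := rfl
    rw [this, ← Category.assoc, hcomm', Category.assoc, hcomm, Functor.map_comp, Category.assoc]
  have H := fun u => exists_sections g.hom ((yon S).map c ≫ a₀) a₀' ha₀'e ha₀'s w c' sqW u
  obtain ⟨c1, c2, c3⟩ := scheme_core w.left k.left H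
  refine ⟨fun hP => ?_, fun hP => ?_, fun hP => ?_⟩
  · have h1 : Flat (w ≫ k).left := hP _ b (w ≫ k) ha'e hbe hcomm2
    exact locP_of_chart etLocalST_flat h.hom _ b k hae has hbe hcomm (c1 h1)
  · have h1 : LocallyOfFiniteType (w ≫ k).left := hP _ b (w ≫ k) ha'e hbe hcomm2
    exact locP_of_chart etLocalST_locallyOfFiniteType h.hom _ b k hae has hbe hcomm (c2 h1)
  · have h1 : LocallyOfFinitePresentation (w ≫ k).left := hP _ b (w ≫ k) ha'e hbe hcomm2
    exact locP_of_chart etLocalST_locallyOfFinitePresentation h.hom _ b k hae has hbe hcomm (c3 h1)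

end Sp

end Groth.Agent.Lib.Helper6.LocSurjComp
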