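import Mathlib
import Groth.Agent.Lib.Helper12.DimFT2

/-!
# Local dimension of `Spec S` at `p` as an infimum over maximal ideals
-/

namespace Groth.Agent.Lib.Helper6.LocalDimMax

open Groth.Agent.Lib.Helper12 TopologicalSpace

universe u

theorem main {k S : Type u} [Field k] [CommRing S] [Algebra k S] [Algebra.FiniteType k S]
    (p : Ideal S) [p.IsPrime] :
    FlatMor.localDim (PrimeSpectrum S) ⟨p, inferInstance⟩ =
      ⨅ m : {m : Ideal S // m.IsMaximal ∧ p ≤ m},
        ringKrullDim (Localization.AtPrime (hp := m.2.1.isPrime') m.1) := by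
  have hmax : ∀ m : {m : Ideal S // m.IsMaximal ∧ p ≤ m},
      ringKrullDim (Localization.AtPrime (hp := m.2.1.isPrime') m.1)
        = FlatMor.localDim (PrimeSpectrum S) ⟨m.1, m.2.1.isPrime'⟩ := by
    intro m
    haveI := m.2.1.isPrime'
    rw [IsLocalization.AtPrime.ringKrullDim_eq_height m.1 (Localization.AtPrime m.1),
      DimFT2.localDim_primeSpectrum k S]
    have hco : Order.coheight (⟨m.1, m.2.1.isPrime'⟩ : PrimeSpectrum S) = 0 := by
      rw [Order.coheight_eq_zero]
      intro z hz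
      have h1 : m.1 ≤ z.asIdeal := hz
      have h2 : z.asIdeal = m.1 := (m.2.1.eq_of_le z.2.ne_top h1).symm
      exact le_of_eq (PrimeSpectrum.ext h2)
    rw [hco, add_zero, ← PrimeSpectrum.height_eq_orderHeight]
  apply le_antisymm
  · refine le_iInf fun m => ?_
    rw [hmax m]
    unfold FlatMor.localDim
    refine le_iInf fun U => ?_
    have hspec : (⟨p, inferInstance⟩ : PrimeSpectrum S) ⤳ ⟨m.1, m.2.1.isPrime'⟩ :=
      (PrimeSpectrum.le_iff_specializes _ _).mp m.2.2
    exact iInf_le_of_le ⟨U.1, hspec.mem_open U.1.2 U.2⟩ le_rfl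
  · unfold FlatMor.localDim
    refine le_iInf fun U => ?_
    obtain ⟨m, hm, hpm, hmU⟩ :=
      DimFT2.exists_isMaximal_mem_of_mem_open k S ⟨p, inferInstance⟩ U.1 U.1.2 U.2
    refine (iInf_le _ (⟨m.asIdeal, hm, hpm⟩ : {m : Ideal S // m.IsMaximal ∧ p ≤ m})).trans
      ((hmax _).le.trans ?_)
    exact Groth.Agent.Lib.Helper9.localDim_le_of_mem U.1 hmU

end Groth.Agent.Lib.Helper6.LocalDimMax
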