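import Mathlib
import Groth.Prelude
import Groth.Agent.Lib.Helper1.ModHomMk
import Groth.Agent.Lib.Helper1.ModLocal

/-! Multiplication by a global function `g : Γ(X, ⊤)` as an endomorphism of any `O_X`-module
(piece F1 of S19496). -/

set_option autoImplicit false
universe u
open CategoryTheory CategoryTheory.Limits AlgebraicGeometry TopologicalSpace Opposite

namespace Groth.Agent.Lib.Helper6.MulTop

open Groth.Agent.Lib.Helper1 Groth.Agent.Lib.Helper3 Groth.Agent.Lib.Helper3.QCSec

variable {X : Scheme.{u}}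

/-- multiplication by the global function `g` on the module `M` -/
noncomputable def mulTop (g : Γ(X, ⊤)) (M : X.Modules) : M ⟶ M :=
  ModHomMk.mk M M
    (fun V => AddMonoidHom.mk'
      (fun m : Γ(M, V) => X.presheaf.map (homOfLE (le_top : V ≤ ⊤)).op g • m)
      (fun m m' => smul_add _ m m'))
    (fun V V' h m => by
      change X.presheaf.map (homOfLE (le_top : V' ≤ ⊤)).op g • M.presheaf.map (homOfLE h).op m =
        M.presheaf.map (homOfLE h).op (X.presheaf.map (homOfLE (le_top : V ≤ ⊤)).op g • m)
      rw [Scheme.Modules.map_smul]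
      congr 1
      rw [← ConcreteCategory.comp_apply, ← Functor.map_comp]
      rfl)
    (fun V r m => by
      change X.presheaf.map (homOfLE (le_top : V ≤ ⊤)).op g • (r • m) =
        r • (X.presheaf.map (homOfLE (le_top : V ≤ ⊤)).op g • m)
      exact smul_comm _ _ _)

theorem mulTop_app (g : Γ(X, ⊤)) (M : X.Modules) (V : X.Opens) (m : Γ(M, V)) :
    (mulTop g M).app V m = X.presheaf.map (homOfLE (le_top : V ≤ ⊤)).op g • m := rfl

theorem mulTop_app_rres (g : Γ(X, ⊤)) (M : X.Modules) (V : X.Opens) (m : Γ(M, V)) :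
    (mulTop g M).app V m = rres X (le_top : V ≤ ⊤) g • m := rfl

/-- multiplication by `g` is natural in the module -/
theorem mulTop_comm (g : Γ(X, ⊤)) {M M' : X.Modules} (φ : M ⟶ M') :
    mulTop g M ≫ φ = φ ≫ mulTop g M' :=
  ModLocal.hom_ext_affine _ _ (fun V _ m =>
    Scheme.Modules.Hom.app_smul φ (X.presheaf.map (homOfLE (le_top : V ≤ ⊤)).op g) m)

end Groth.Agent.Lib.Helper6.MulTop
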