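import Mathlib
import Groth.Statements.S9802
import Groth.Agent.Lib.Helper6.NagataSp
import Groth.Agent.Lib.Helper12.N2Field
import Groth.Agent.Lib.Helper12.NagataLoc

/-! A locally Noetherian scheme is Nagata iff its integral closed subschemes are Japanese. -/

set_option autoImplicit false
set_option linter.style.haveILetI false
universe u
open CategoryTheory CategoryTheory.Limits AlgebraicGeometry
open Groth.Agent.Lib.Helper12.N2 Groth.Agent.Lib.Helper12.NagataLoc

namespace Groth.Agent.Lib.Helper6.NagataClosed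

/-- A Nagata domain is N-2. -/
theorem n2_of_nagata (R : Type u) [CommRing R] [IsDomain R] (h : CAlg.IsNagata R) :
    CAlg.IsN2 R := by
  have h2 : CAlg.IsN2 (R ⧸ (⊥ : Ideal R)) := h.2 ⊥
  exact (isN2_iff_N2' R).mpr (N2'_of_ringEquiv (RingEquiv.quotientBot R) (N2'_of_isN2 _ h2))

theorem forward (X : Scheme.{u}) [IsLocallyNoetherian X]
    (h : ∀ U : X.Opens, IsAffineOpen U → CAlg.IsNagata Γ(X, U))
    (Z : Scheme.{u}) (i : Z ⟶ X) [IsClosedImmersion i] [IsIntegral Z]
    (V : Z.Opens) [Nonempty V] (hV : IsAffineOpen V) : CAlg.IsN2 Γ(Z, V) :=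
  n2_of_nagata _ (Groth.Agent.Lib.Helper6.NagataSp.nagata_of_lft i h V hV)

section

variable {X : Scheme.{u}} {U : X.Opens} (hU : IsAffineOpen U) (p : Ideal Γ(X, U))

/-- the morphism `Spec (Γ(X,U)/p) ⟶ X`. -/
noncomputable def gp : Spec (CommRingCat.of (Γ(X, U) ⧸ p)) ⟶ X :=
  Spec.map (CommRingCat.ofHom (Ideal.Quotient.mk p)) ≫ hU.fromSpec

theorem gp_mem (y : Spec (CommRingCat.of (Γ(X, U) ⧸ p))) : (gp hU p) y ∈ U := by
  have h := Set.mem_range_self (f := hU.fromSpec)
    ((Spec.map (CommRingCat.ofHom (Ideal.Quotient.mk p))) y)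
  rw [hU.range_fromSpec] at h
  exact h

theorem le_preimage :
    (⊤ : (Spec (CommRingCat.of (Γ(X, U) ⧸ p))).Opens) ≤ (gp hU p) ⁻¹ᵁ U :=
  fun y _ => gp_mem hU p y

theorem appLE_eq :
    (gp hU p).appLE U ⊤ (le_preimage hU p) =
      CommRingCat.ofHom (Ideal.Quotient.mk p) ≫
        (Scheme.ΓSpecIso (CommRingCat.of (Γ(X, U) ⧸ p))).inv := by
  apply Spec.map_injective
  rw [← cancel_mono hU.fromSpec,
    IsAffineOpen.SpecMap_appLE_fromSpec (gp hU p) hU (isAffineOpen_top _) (le_preimage hU p),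
    IsAffineOpen.fromSpec_top, Scheme.isoSpec_Spec_inv, Spec.map_comp, Category.assoc]
  rfl

theorem ker_app : RingHom.ker ((gp hU p).app U).hom = p := by
  ext r
  rw [RingHom.mem_ker]
  have hres : ∀ s : Γ(Spec (CommRingCat.of (Γ(X, U) ⧸ p)), (gp hU p) ⁻¹ᵁ U),
      ((Spec (CommRingCat.of (Γ(X, U) ⧸ p))).presheaf.map
        (homOfLE (le_preimage hU p)).op).hom s = 0 → s = 0 := by
    intro s hs
    have h2 := congrArg ((Spec (CommRingCat.of (Γ(X, U) ⧸ p))).presheaf.map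
      (homOfLE (le_top : (gp hU p) ⁻¹ᵁ U ≤ ⊤)).op).hom hs
    rw [map_zero, ← CommRingCat.comp_apply, ← Functor.map_comp] at h2
    have h3 : (homOfLE (le_preimage hU p)).op ≫ (homOfLE (le_top : (gp hU p) ⁻¹ᵁ U ≤ ⊤)).op =
        𝟙 _ := Subsingleton.elim _ _
    rw [h3, CategoryTheory.Functor.map_id] at h2
    exact h2
  have hLE : ((gp hU p).appLE U ⊤ (le_preimage hU p)).hom r =
      (Scheme.ΓSpecIso (CommRingCat.of (Γ(X, U) ⧸ p))).commRingCatIsoToRingEquiv.symm
        (Ideal.Quotient.mk p r) := by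
    rw [appLE_eq]; rfl
  have hLE' : ((gp hU p).appLE U ⊤ (le_preimage hU p)).hom r =
      ((Spec (CommRingCat.of (Γ(X, U) ⧸ p))).presheaf.map
        (homOfLE (le_preimage hU p)).op).hom (((gp hU p).app U).hom r) := rfl
  constructor
  · intro h0
    rw [h0, map_zero] at hLE'
    rw [hLE'] at hLE
    have := (RingEquiv.map_eq_zero_iff _).mp hLE.symm
    exact Ideal.Quotient.eq_zero_iff_mem.mp this
  · intro hr
    apply hres
    rw [← hLE', hLE, Ideal.Quotient.eq_zero_iff_mem.mpr hr, map_zero]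

end

theorem backward (X : Scheme.{u}) [IsLocallyNoetherian X]
    (H : ∀ (Z : Scheme.{u}) (i : Z ⟶ X) [IsClosedImmersion i] [IsIntegral Z]
        (V : Z.Opens) [Nonempty V], IsAffineOpen V → CAlg.IsN2 Γ(Z, V))
    (U : X.Opens) (hU : IsAffineOpen U) : CAlg.IsNagata Γ(X, U) := by
  haveI hN : IsNoetherianRing Γ(X, U) := IsLocallyNoetherian.component_noetherian ⟨U, hU⟩
  refine ⟨hN, fun p hp => ?_⟩
  haveI := hp
  obtain ⟨g, hg⟩ : ∃ g : Spec (CommRingCat.of (Γ(X, U) ⧸ p)) ⟶ X, g = gp hU p := ⟨_, rfl⟩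
  haveI : QuasiCompact g := inferInstance
  haveI : IsIntegral (Spec (CommRingCat.of (Γ(X, U) ⧸ p))) := inferInstance
  have key : ∀ W : X.affineOpens,
      IsReduced (Spec (CommRingCat.of (Γ(X, W.1) ⧸ g.ker.ideal W))) := by
    intro W
    have hrad : (g.ker.ideal W).IsRadical := by
      rw [Scheme.Hom.ker_apply]
      intro a ⟨n, hn⟩
      rw [RingHom.mem_ker] at hn ⊢
      rw [map_pow] at hn
      exact IsReduced.eq_zero _ ⟨n, hn⟩
    haveI : _root_.IsReduced (Γ(X, W.1) ⧸ g.ker.ideal W) :=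
      (Ideal.isRadical_iff_quotient_reduced _).mp hrad
    infer_instance
  haveI hred : IsReduced g.image :=
    @IsReduced.of_openCover _ (g.ker.subschemeCover.openCover) (fun W => key W)
  haveI : IrreducibleSpace g.image := by
    have hd : DenseRange g.toImage := g.toImage.denseRange
    have h1 : IsIrreducible (Set.range g.toImage) := by
      rw [← Set.image_univ]
      exact (IrreducibleSpace.isIrreducible_univ _).image _ g.toImage.continuous.continuousOn
    have h2 : IsIrreducible (closure (Set.range g.toImage)) := h1.closure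
    rw [hd.closure_range] at h2
    exact (irreducibleSpace_def _).mpr h2
  haveI : IsIntegral g.image := isIntegral_of_irreducibleSpace_of_isReduced g.image
  have hV : IsAffineOpen (g.imageι ⁻¹ᵁ U) := hU.preimage g.imageι
  haveI : Nonempty (PrimeSpectrum (Γ(X, U) ⧸ p)) := inferInstance
  obtain ⟨pt⟩ : Nonempty (Spec (CommRingCat.of (Γ(X, U) ⧸ p))) :=
    ‹Nonempty (PrimeSpectrum (Γ(X, U) ⧸ p))›
  haveI : Nonempty (g.imageι ⁻¹ᵁ U : g.image.Opens) := by
    refine ⟨⟨g.toImage pt, ?_⟩⟩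
    show g.imageι (g.toImage pt) ∈ U
    have h1 : g.imageι (g.toImage pt) = g pt := by
      rw [← Scheme.Hom.comp_apply, g.toImage_imageι]
    rw [h1, hg]
    exact gp_mem hU p pt
  have hN2 := H g.image g.imageι (g.imageι ⁻¹ᵁ U) hV
  have hker : g.ker.ideal ⟨U, hU⟩ = p := by
    rw [Scheme.Hom.ker_apply, hg]; exact ker_app hU p
  let E : Γ(g.image, g.imageι ⁻¹ᵁ U) ≃+* Γ(X, U) ⧸ p :=
    (g.ker.subschemeObjIso ⟨U, hU⟩).commRingCatIsoToRingEquiv.trans (Ideal.quotEquivOfEq hker)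
  exact (isN2_iff_N2' _).mpr (N2'_of_ringEquiv E ((isN2_iff_N2' _).mp hN2))

theorem main (X : Scheme.{u}) [IsLocallyNoetherian X] :
    (∀ U : X.Opens, IsAffineOpen U → CAlg.IsNagata Γ(X, U)) ↔
      ∀ (Z : Scheme.{u}) (i : Z ⟶ X) [IsClosedImmersion i] [IsIntegral Z]
        (V : Z.Opens) [Nonempty V], IsAffineOpen V → CAlg.IsN2 Γ(Z, V) :=
  ⟨fun h Z i _ _ V _ hV => forward X h Z i V hV, fun H U hU => backward X H U hU⟩

end Groth.Agent.Lib.Helper6.NagataClosed
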