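import Mathlib
import Groth.Agent.Lib.Helper12.DimFT

/-!
# The nilpotent cone (helper6)

The variety of nilpotent `n × n` matrices over an algebraically closed field is irreducible of
dimension `n² - n`.  Parametrisation `(G, U) ↦ adj(G) U G` with `U` strictly upper triangular,
Nullstellensatz, a chain of primes given by adding diagonal entries, Krull's height theorem and
the dimension formula of helper12.
-/

set_option autoImplicit false
set_option backward.isDefEq.respectTransparency false

universe u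

open Module

namespace Groth.Agent.Lib.Helper6.NilCone

section Flag

variable {k : Type u} [Field k]

theorem mapQ_pow_apply {V : Type u} [AddCommGroup V] [Module k V] (L : Submodule k V)
    (f : V →ₗ[k] V) (hLf : L ≤ L.comap f) (m : ℕ) (x : V) :
    ((L.mapQ L f hLf) ^ m) (Submodule.Quotient.mk x) = Submodule.Quotient.mk ((f ^ m) x) := by
  induction m generalizing x with
  | zero => simp
  | succ m ih =>
    rw [pow_succ (L.mapQ L f hLf) m, Module.End.mul_apply, Submodule.mapQ_apply, ih,
      pow_succ f m, Module.End.mul_apply]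

/-- A nilpotent endomorphism of a finite dimensional vector space has a basis in which it is
strictly upper triangular. -/
theorem exists_flagBasis : ∀ (d : ℕ) (V : Type u) [AddCommGroup V] [Module k V]
    [FiniteDimensional k V] (f : V →ₗ[k] V), finrank k V = d → IsNilpotent f →
    ∃ b : Basis (Fin d) k V, ∀ i l : Fin d, i ≤ l → b.repr (f (b i)) l = 0 := by
  intro d
  induction d with
  | zero =>
    intro V _ _ _ f hd _
    haveI : Subsingleton V := (Module.finrank_zero_iff (R := k)).mp hd
    exact ⟨Basis.empty V, fun i => i.elim0⟩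
  | succ d ih =>
    intro V _ _ _ f hd hnil
    haveI : Nontrivial V :=
      Module.nontrivial_of_finrank_pos (R := k) (by rw [hd]; exact Nat.succ_pos d)
    obtain ⟨m, hm⟩ := hnil
    have hker : ∃ v : V, v ≠ 0 ∧ f v = 0 := by
      by_contra hcon
      push Not at hcon
      have hinj : ∀ (j : ℕ) (w : V), w ≠ 0 → (f ^ j) w ≠ 0 := by
        intro j
        induction j with
        | zero => intro w hw; simpa using hw
        | succ j ihj =>
          intro w hw
          rw [pow_succ f j, Module.End.mul_apply]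
          exact ihj (f w) (hcon w hw)
      obtain ⟨w, hw⟩ := exists_ne (0 : V)
      exact hinj m w hw (by rw [hm]; rfl)
    obtain ⟨v, hv0, hfv⟩ := hker
    obtain ⟨L, hL⟩ : ∃ L : Submodule k V, L = Submodule.span k {v} := ⟨_, rfl⟩
    have hvL : v ∈ L := by rw [hL]; exact Submodule.mem_span_singleton_self v
    have hLf : L ≤ L.comap f := by
      rw [hL, Submodule.span_le]
      intro x hx
      have hxv : x = v := hx
      rw [hxv]
      show f v ∈ Submodule.span k {v}
      rw [hfv]; exact zero_mem _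
    have hfinQ : finrank k (V ⧸ L) = d := by
      have h1 := L.finrank_quotient_add_finrank
      have h2 : finrank k L = 1 := by rw [hL]; exact finrank_span_singleton hv0
      omega
    obtain ⟨fbar, hfbar⟩ : ∃ g : (V ⧸ L) →ₗ[k] (V ⧸ L), g = L.mapQ L f hLf := ⟨_, rfl⟩
    have hfbar_nil : IsNilpotent fbar := by
      refine ⟨m, ?_⟩
      apply LinearMap.ext
      intro q
      obtain ⟨x, rfl⟩ := Submodule.Quotient.mk_surjective L q
      rw [hfbar, mapQ_pow_apply L f hLf m x, hm]
      rfl
    obtain ⟨bq, hbq⟩ := ih (V ⧸ L) fbar hfinQ hfbar_nil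
    have hsurj : ∀ q : V ⧸ L, ∃ x : V, (Submodule.Quotient.mk x : V ⧸ L) = q :=
      Submodule.Quotient.mk_surjective L
    choose w hw using fun i : Fin d => hsurj (bq i)
    have hwli : LinearIndependent k w := by
      apply LinearIndependent.of_comp L.mkQ
      have hcomp : (L.mkQ ∘ w) = bq := by
        funext i
        exact hw i
      rw [hcomp]
      exact bq.linearIndependent
    have hvw : v ∉ Submodule.span k (Set.range w) := by
      intro hmem
      obtain ⟨c, hc⟩ := (Submodule.mem_span_range_iff_exists_fun k).mp hmem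
      have hmk := congrArg L.mkQ hc
      rw [map_sum] at hmk
      have hv0' : L.mkQ v = 0 := (Submodule.Quotient.mk_eq_zero L).mpr hvL
      rw [hv0'] at hmk
      have h0 : ∑ i, c i • bq i = 0 := by
        calc ∑ i, c i • bq i = ∑ i, L.mkQ (c i • w i) :=
              Finset.sum_congr rfl (fun i _ => by rw [map_smul, ← hw i]; rfl)
          _ = 0 := hmk
      have hc0 := Fintype.linearIndependent_iff.mp bq.linearIndependent c h0
      apply hv0
      rw [← hc]
      exact Finset.sum_eq_zero fun i _ => by rw [hc0 i, zero_smul]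
    have hli : LinearIndependent k (Fin.cons v w : Fin (d + 1) → V) :=
      LinearIndependent.finCons hwli hvw
    have hcard : Fintype.card (Fin (d + 1)) = finrank k V := by rw [Fintype.card_fin, hd]
    obtain ⟨b, hb⟩ : ∃ b : Basis (Fin (d + 1)) k V, ⇑b = (Fin.cons v w : Fin (d + 1) → V) :=
      ⟨basisOfLinearIndependentOfCardEqFinrank hli hcard,
        coe_basisOfLinearIndependentOfCardEqFinrank hli hcard⟩
    have hb0 : b 0 = v := by rw [hb]; rfl
    have hbs : ∀ i : Fin d, b i.succ = w i := fun i => by rw [hb]; rfl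
    refine ⟨b, ?_⟩
    intro i l hil
    rcases Fin.eq_zero_or_eq_succ i with rfl | ⟨i', rfl⟩
    · rw [hb0, hfv, map_zero]
      rfl
    · obtain ⟨a, ha⟩ : ∃ a : Fin d → k, a = fun l' => bq.repr (fbar (bq i')) l' := ⟨_, rfl⟩
      have hsum : fbar (bq i') = ∑ l', a l' • bq l' := by
        rw [ha]; exact (bq.sum_repr _).symm
      have h1 : L.mkQ (f (w i')) = fbar (bq i') := by
        rw [← hw i', hfbar]
        rfl
      have h2 : L.mkQ (∑ l', a l' • w l') = ∑ l', a l' • bq l' := by
        rw [map_sum]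
        exact Finset.sum_congr rfl fun l' _ => by rw [map_smul, ← hw l']; rfl
      have hmem : f (w i') - ∑ l', a l' • w l' ∈ L := by
        rw [← Submodule.Quotient.mk_eq_zero L]
        show L.mkQ (f (w i') - ∑ l', a l' • w l') = 0
        rw [map_sub, h1, h2, hsum, sub_self]
      rw [hL] at hmem
      obtain ⟨t, ht⟩ := Submodule.mem_span_singleton.mp hmem
      have hexp : f (b i'.succ) = ∑ j : Fin (d + 1), (Fin.cons t a : Fin (d + 1) → k) j • b j := by
        simp only [Fin.sum_univ_succ, Fin.cons_zero, Fin.cons_succ, hbs, hb0]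
        rw [ht]
        abel
      rw [hexp, Basis.repr_sum_self]
      rcases Fin.eq_zero_or_eq_succ l with rfl | ⟨l', rfl⟩
      · exact absurd hil (not_le.mpr (Fin.succ_pos i'))
      · rw [Fin.cons_succ, ha]
        exact hbq i' l' (Fin.succ_le_succ_iff.mp hil)

/-- A nilpotent matrix over a field is conjugate to a strictly upper triangular matrix. -/
theorem exists_conj_strictUpper (n : ℕ) (A : Matrix (Fin n) (Fin n) k) (hA : IsNilpotent A) :
    ∃ S P T : Matrix (Fin n) (Fin n) k, S * P = 1 ∧ P * S = 1 ∧ A = S * T * P ∧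
      ∀ i l : Fin n, l ≤ i → T i l = 0 := by
  obtain ⟨f, hfdef⟩ : ∃ f : (Fin n → k) →ₗ[k] (Fin n → k), f = Matrix.toLinAlgEquiv' A :=
    ⟨_, rfl⟩
  have hf : IsNilpotent f := by
    rw [hfdef]
    exact hA.map (Matrix.toLinAlgEquiv' : Matrix (Fin n) (Fin n) k ≃ₐ[k] _)
  obtain ⟨b, hb⟩ := exists_flagBasis n (Fin n → k) f (by simp) hf
  have hAf : LinearMap.toMatrix (Pi.basisFun k (Fin n)) (Pi.basisFun k (Fin n)) f = A := by
    rw [LinearMap.toMatrix_eq_toMatrix', hfdef]
    exact LinearMap.toMatrixAlgEquiv'_toLinAlgEquiv' A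
  refine ⟨(Pi.basisFun k (Fin n)).toMatrix b, b.toMatrix (Pi.basisFun k (Fin n)),
    LinearMap.toMatrix b b f, ?_, ?_, ?_, ?_⟩
  · exact Basis.toMatrix_mul_toMatrix_flip _ _
  · exact Basis.toMatrix_mul_toMatrix_flip _ _
  · rw [basis_toMatrix_mul_linearMap_toMatrix_mul_basis_toMatrix]
    exact hAf.symm
  · intro i l hli
    rw [LinearMap.toMatrix_apply]
    exact hb l i hli

end Flag

section Param

/-- the parameter space: entries of `G`, entries of `U`, diagonal entries -/
abbrev Tau (n : ℕ) : Type := (Fin n × Fin n) ⊕ ((Fin n × Fin n) ⊕ Fin n)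

variable (k : Type u) [Field k] (n : ℕ)

def gOf {S : Type*} [CommRing S] (y : Tau n → S) : Matrix (Fin n) (Fin n) S :=
  Matrix.of fun i l => y (Sum.inl (i, l))

def uOf {S : Type*} [CommRing S] (y : Tau n → S) : Matrix (Fin n) (Fin n) S :=
  Matrix.of fun i l => if i < l then y (Sum.inr (Sum.inl (i, l))) else 0

def lamOf {S : Type*} [CommRing S] (y : Tau n → S) (j : ℕ) (i : Fin n) : S :=
  if (i : ℕ) < j then y (Sum.inr (Sum.inr i)) else 0

def NN {S : Type*} [CommRing S] (y : Tau n → S) (j : ℕ) : Matrix (Fin n) (Fin n) S :=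
  (gOf n y).adjugate * (uOf n y + Matrix.diagonal (lamOf n y j)) * gOf n y

theorem uOf_strict {S : Type*} [CommRing S] (y : Tau n → S) (i l : Fin n) (h : l ≤ i) :
    uOf n y i l = 0 := by
  unfold uOf
  simp only [Matrix.of_apply]
  rw [if_neg (not_lt.mpr h)]

theorem lamOf_zero {S : Type*} [CommRing S] (y : Tau n → S) (j : ℕ) (i : Fin n)
    (h : j ≤ (i : ℕ)) : lamOf n y j i = 0 := by
  unfold lamOf
  rw [if_neg (not_lt.mpr h)]

theorem map_NN {S S' : Type*} [CommRing S] [CommRing S'] (ψ : S →+* S') (y : Tau n → S)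
    (j : ℕ) : ψ.mapMatrix (NN n y j) = NN n (fun t => ψ (y t)) j := by
  unfold NN
  have hg : ψ.mapMatrix (gOf n y) = gOf n (fun t => ψ (y t)) := by
    ext i l; rfl
  have hu : ψ.mapMatrix (uOf n y) = uOf n (fun t => ψ (y t)) := by
    ext i l
    show ψ (uOf n y i l) = uOf n (fun t => ψ (y t)) i l
    unfold uOf
    simp only [Matrix.of_apply]
    by_cases h : i < l
    · rw [if_pos h, if_pos h]
    · rw [if_neg h, if_neg h, map_zero]
  have hd : ψ.mapMatrix (Matrix.diagonal (lamOf n y j)) =
      Matrix.diagonal (lamOf n (fun t => ψ (y t)) j) := by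
    rw [RingHom.mapMatrix_apply, Matrix.diagonal_map (map_zero ψ)]
    congr 1
    funext i
    unfold lamOf
    by_cases h : (i : ℕ) < j
    · rw [if_pos h, if_pos h]
    · rw [if_neg h, if_neg h, map_zero]
  rw [map_mul, map_mul, map_add, RingHom.map_adjugate, hg, hu, hd]

theorem charpoly_NN {S : Type*} [CommRing S] (y : Tau n → S) (j : ℕ) :
    (NN n y j).charpoly =
      ∏ i : Fin n, (Polynomial.X - Polynomial.C ((gOf n y).det * lamOf n y j i)) := by
  unfold NN
  rw [Matrix.mul_assoc, Matrix.charpoly_mul_comm, Matrix.mul_assoc, Matrix.mul_adjugate,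
    Matrix.mul_smul, Matrix.mul_one]
  rw [Matrix.charpoly_of_isUpperTriangular]
  · refine Finset.prod_congr rfl fun i _ => ?_
    rw [Matrix.smul_apply, Matrix.add_apply, uOf_strict n y i i le_rfl, zero_add,
      Matrix.diagonal_apply_eq, smul_eq_mul]
  · intro i l hli
    have hli' : l < i := hli
    rw [Matrix.smul_apply, Matrix.add_apply, uOf_strict n y i l hli'.le, zero_add,
      Matrix.diagonal_apply_ne _ hli'.ne', smul_zero]

theorem prod_X_sub_C_split {S : Type*} [CommRing S] (a : Fin n → S) (j : ℕ)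
    (ha : ∀ i : Fin n, j ≤ (i : ℕ) → a i = 0) :
    ∏ i : Fin n, (Polynomial.X - Polynomial.C (a i)) =
      (∏ i ∈ Finset.univ.filter (fun i : Fin n => (i : ℕ) < j),
        (Polynomial.X - Polynomial.C (a i))) * Polynomial.X ^ (n - j) := by
  rw [← Finset.prod_filter_mul_prod_filter_not Finset.univ (fun i : Fin n => (i : ℕ) < j)]
  congr 1
  have hcard : (Finset.univ.filter (fun i : Fin n => ¬ (i : ℕ) < j)).card = n - j := by
    have himg : (Finset.univ.filter (fun i : Fin n => ¬ (i : ℕ) < j)).image Fin.val =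
        Finset.Ico j n := by
      ext x
      simp only [Finset.mem_image, Finset.mem_filter, Finset.mem_univ, true_and, Finset.mem_Ico,
        not_lt]
      constructor
      · rintro ⟨i, hi, rfl⟩
        exact ⟨hi, i.2⟩
      · rintro ⟨h1, h2⟩
        exact ⟨⟨x, h2⟩, h1, rfl⟩
    rw [← Finset.card_image_of_injective _ Fin.val_injective, himg, Nat.card_Ico]
  rw [← hcard, ← Finset.prod_const]
  refine Finset.prod_congr rfl fun i hi => ?_
  rw [Finset.mem_filter] at hi
  rw [ha i (not_lt.mp hi.2), map_zero, sub_zero]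

theorem coeff_prod_eq_zero {S : Type*} [CommRing S] (a : Fin n → S) (j : ℕ)
    (ha : ∀ i : Fin n, j ≤ (i : ℕ) → a i = 0) (m : ℕ) (hm : m + j < n) :
    (∏ i : Fin n, (Polynomial.X - Polynomial.C (a i))).coeff m = 0 := by
  rw [prod_X_sub_C_split n a j ha, Polynomial.coeff_mul_X_pow', if_neg (by omega)]

theorem coeff_prod_ne_zero {K : Type*} [Field K] (a : Fin n → K) (j : ℕ) (hj : j ≤ n)
    (ha0 : ∀ i : Fin n, j ≤ (i : ℕ) → a i = 0) (ha1 : ∀ i : Fin n, (i : ℕ) < j → a i ≠ 0) :
    (∏ i : Fin n, (Polynomial.X - Polynomial.C (a i))).coeff (n - j) ≠ 0 := by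
  rw [prod_X_sub_C_split n a j ha0, Polynomial.coeff_mul_X_pow', if_pos le_rfl, Nat.sub_self,
    Polynomial.coeff_zero_eq_eval_zero, Polynomial.eval_prod, Finset.prod_ne_zero_iff]
  intro i hi
  rw [Finset.mem_filter] at hi
  simp only [Polynomial.eval_sub, Polynomial.eval_X, Polynomial.eval_C, zero_sub, ne_eq,
    neg_eq_zero]
  exact ha1 i hi.2

theorem map_coeff_charpoly {S : Type*} [CommRing S]
    (ρ : MvPolynomial (Fin n × Fin n) k →+* S) (N : Matrix (Fin n) (Fin n) S)
    (hN : ∀ i l, ρ (MvPolynomial.X (i, l)) = N i l) (m : ℕ) :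
    ρ ((Matrix.mvPolynomialX (Fin n) (Fin n) k).charpoly.coeff m) = N.charpoly.coeff m := by
  have h1 : (Matrix.mvPolynomialX (Fin n) (Fin n) k).map ρ = N := by
    ext i l
    rw [Matrix.map_apply, Matrix.mvPolynomialX_apply, hN]
  rw [← h1, Matrix.charpoly_map, Polynomial.coeff_map]

/-- the parametrisation of matrices with at most `j` nonzero eigenvalues -/
noncomputable def phi (j : ℕ) :
    MvPolynomial (Fin n × Fin n) k →ₐ[k] MvPolynomial (Tau n) k :=
  MvPolynomial.aeval fun p =>
    NN n (MvPolynomial.X : Tau n → MvPolynomial (Tau n) k) j p.1 p.2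

theorem aeval_phi {S : Type*} [CommRing S] [Algebra k S] (y : Tau n → S) (j : ℕ)
    (f : MvPolynomial (Fin n × Fin n) k) :
    MvPolynomial.aeval y (phi k n j f) =
      MvPolynomial.aeval (fun p : Fin n × Fin n => NN n y j p.1 p.2) f := by
  have h : (MvPolynomial.aeval y).comp (phi k n j) =
      MvPolynomial.aeval (fun p : Fin n × Fin n => NN n y j p.1 p.2) := by
    apply MvPolynomial.algHom_ext
    intro p
    rw [AlgHom.comp_apply, MvPolynomial.aeval_X]
    unfold phi
    rw [MvPolynomial.aeval_X]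
    have h2 := map_NN n (MvPolynomial.aeval y : MvPolynomial (Tau n) k →ₐ[k] S).toRingHom
      (MvPolynomial.X : Tau n → MvPolynomial (Tau n) k) j
    have h4 : (fun t => (MvPolynomial.aeval y : MvPolynomial (Tau n) k →ₐ[k] S).toRingHom
        ((MvPolynomial.X : Tau n → MvPolynomial (Tau n) k) t)) = y := by
      funext t
      exact MvPolynomial.aeval_X y t
    rw [h4] at h2
    have h3 := congrFun (congrFun h2 p.1) p.2
    exact h3
  rw [← h]
  rfl

theorem phi_coeff_eq_zero (j m : ℕ) (hm : m + j < n) :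
    phi k n j ((Matrix.mvPolynomialX (Fin n) (Fin n) k).charpoly.coeff m) = 0 := by
  have h1 := map_coeff_charpoly k n (phi k n j).toRingHom
    (NN n (MvPolynomial.X : Tau n → MvPolynomial (Tau n) k) j)
    (fun i l => by
      show phi k n j (MvPolynomial.X (i, l)) = _
      unfold phi
      rw [MvPolynomial.aeval_X]) m
  have h1' : phi k n j ((Matrix.mvPolynomialX (Fin n) (Fin n) k).charpoly.coeff m) =
      (NN n (MvPolynomial.X : Tau n → MvPolynomial (Tau n) k) j).charpoly.coeff m := h1
  rw [h1', charpoly_NN]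
  exact coeff_prod_eq_zero n _ j (fun i hi => by rw [lamOf_zero n _ j i hi, mul_zero]) m hm

theorem phi_coeff_ne_zero (j : ℕ) (hj : j ≤ n) :
    phi k n j ((Matrix.mvPolynomialX (Fin n) (Fin n) k).charpoly.coeff (n - j)) ≠ 0 := by
  intro h0
  obtain ⟨y1, hy1⟩ : ∃ y1 : Tau n → k, y1 = Sum.elim (fun p => if p.1 = p.2 then 1 else 0)
      (Sum.elim (fun _ => 0) (fun _ => 1)) := ⟨_, rfl⟩
  have h1 := aeval_phi k n y1 j ((Matrix.mvPolynomialX (Fin n) (Fin n) k).charpoly.coeff (n - j))
  rw [h0, map_zero] at h1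
  have h2 := map_coeff_charpoly k n
    (MvPolynomial.aeval (fun p : Fin n × Fin n => NN n y1 j p.1 p.2) :
      MvPolynomial (Fin n × Fin n) k →ₐ[k] k).toRingHom (NN n y1 j)
    (fun i l => by
      show MvPolynomial.aeval (fun p : Fin n × Fin n => NN n y1 j p.1 p.2)
        (MvPolynomial.X (i, l)) = _
      rw [MvPolynomial.aeval_X]) (n - j)
  have h2' : MvPolynomial.aeval (fun p : Fin n × Fin n => NN n y1 j p.1 p.2)
      ((Matrix.mvPolynomialX (Fin n) (Fin n) k).charpoly.coeff (n - j)) =
      (NN n y1 j).charpoly.coeff (n - j) := h2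
  rw [h2', charpoly_NN] at h1
  refine coeff_prod_ne_zero n _ j hj ?_ ?_ h1.symm
  · intro i hi
    rw [lamOf_zero n y1 j i hi, mul_zero]
  · intro i hi
    have hg : gOf n y1 = 1 := by
      ext a b
      show y1 (Sum.inl (a, b)) = (1 : Matrix (Fin n) (Fin n) k) a b
      rw [Matrix.one_apply, hy1]
      rfl
    rw [hg, Matrix.det_one, one_mul]
    unfold lamOf
    rw [if_pos hi, hy1]
    exact one_ne_zero

theorem ker_phi_succ_le (j : ℕ) :
    RingHom.ker (phi k n (j + 1)) ≤ RingHom.ker (phi k n j) := by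
  intro f hf
  rw [RingHom.mem_ker] at hf ⊢
  obtain ⟨ys, hys⟩ : ∃ ys : Tau n → MvPolynomial (Tau n) k,
      ys = Sum.elim (fun p : Fin n × Fin n => (MvPolynomial.X (Sum.inl p) : MvPolynomial (Tau n) k))
        (Sum.elim (fun p : Fin n × Fin n => (MvPolynomial.X (Sum.inr (Sum.inl p)) : MvPolynomial (Tau n) k))
          (fun i : Fin n => if (i : ℕ) = j then (0 : MvPolynomial (Tau n) k)
            else MvPolynomial.X (Sum.inr (Sum.inr i)))) :=
    ⟨_, rfl⟩
  have h1 := aeval_phi k n ys (j + 1) f
  rw [hf, map_zero] at h1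
  have h2 : NN n ys (j + 1) = NN n (MvPolynomial.X : Tau n → MvPolynomial (Tau n) k) j := by
    unfold NN
    have hg : gOf n ys = gOf n (MvPolynomial.X : Tau n → MvPolynomial (Tau n) k) := by
      ext i l
      rw [hys]
      rfl
    have hu : uOf n ys = uOf n (MvPolynomial.X : Tau n → MvPolynomial (Tau n) k) := by
      ext i l
      rw [hys]
      rfl
    have hl : lamOf n ys (j + 1) =
        lamOf n (MvPolynomial.X : Tau n → MvPolynomial (Tau n) k) j := by
      funext i
      unfold lamOf
      rw [hys]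
      by_cases h1 : (i : ℕ) < j
      · have h2 : (i : ℕ) < j + 1 := by omega
        have h3 : ¬ (i : ℕ) = j := by omega
        rw [if_pos h2, if_pos h1]
        show (if (i : ℕ) = j then 0 else MvPolynomial.X (Sum.inr (Sum.inr i))) = _
        rw [if_neg h3]
      · rw [if_neg h1]
        by_cases h2 : (i : ℕ) < j + 1
        · have h3 : (i : ℕ) = j := by omega
          rw [if_pos h2]
          show (if (i : ℕ) = j then 0 else MvPolynomial.X (Sum.inr (Sum.inr i))) = _
          rw [if_pos h3]
        · rw [if_neg h2]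
    rw [hg, hu, hl]
  rw [h2] at h1
  exact h1.symm

end Param

section Main

open Groth.Agent.Lib.Helper12

theorem main (k : Type u) [Field k] [IsAlgClosed k] (n : ℕ)
    (I : Ideal (MvPolynomial (Fin n × Fin n) k))
    (hI : I = Ideal.span (Set.range (fun i : Fin n =>
      (Matrix.charpoly (Matrix.mvPolynomialX (Fin n) (Fin n) k)).coeff (i : ℕ)))) :
    IrreducibleSpace (PrimeSpectrum (MvPolynomial (Fin n × Fin n) k ⧸ I)) ∧
      ringKrullDim (MvPolynomial (Fin n × Fin n) k ⧸ I) = ((n ^ 2 - n : ℕ) : WithBot ℕ∞) := by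
  have hPprime : ∀ j, (RingHom.ker (phi k n j)).IsPrime := fun j => RingHom.ker_isPrime _
  have hIP : I ≤ RingHom.ker (phi k n 0) := by
    rw [hI, Ideal.span_le]
    rintro _ ⟨i, rfl⟩
    exact RingHom.mem_ker.mpr (phi_coeff_eq_zero k n 0 i (by have := i.isLt; omega))
  -- Nullstellensatz direction
  have hPI : RingHom.ker (phi k n 0) ≤ I.radical := by
    rw [← MvPolynomial.vanishingIdeal_zeroLocus_eq_radical (K := k) I]
    intro f hf
    rw [MvPolynomial.mem_vanishingIdeal_iff]
    intro x hx
    rw [MvPolynomial.mem_zeroLocus_iff] at hx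
    rw [RingHom.mem_ker] at hf
    obtain ⟨A, hA⟩ : ∃ A : Matrix (Fin n) (Fin n) k, A = Matrix.of (fun i l => x (i, l)) :=
      ⟨_, rfl⟩
    have hxA : x = fun p => A p.1 p.2 := by
      funext p
      rw [hA]
      rfl
    have hcoef : ∀ m : ℕ, m < n → A.charpoly.coeff m = 0 := by
      intro m hm
      have h1 := map_coeff_charpoly k n
        (MvPolynomial.aeval x : MvPolynomial (Fin n × Fin n) k →ₐ[k] k).toRingHom A
        (fun i l => by
          show MvPolynomial.aeval x (MvPolynomial.X (i, l)) = _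
          rw [MvPolynomial.aeval_X, hA]
          rfl) m
      have h1' : MvPolynomial.aeval x
          ((Matrix.mvPolynomialX (Fin n) (Fin n) k).charpoly.coeff m) = A.charpoly.coeff m := h1
      rw [← h1']
      apply hx
      rw [hI]
      exact Ideal.subset_span ⟨⟨m, hm⟩, rfl⟩
    have hchar : A.charpoly = Polynomial.X ^ n := by
      ext m
      rw [Polynomial.coeff_X_pow]
      rcases lt_trichotomy m n with h | h | h
      · rw [hcoef m h, if_neg h.ne]
      · rw [h, if_pos rfl]
        have hmon := (Matrix.charpoly_monic A).coeff_natDegree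
        rwa [Matrix.charpoly_natDegree_eq_dim, Fintype.card_fin] at hmon
      · rw [if_neg h.ne']
        apply Polynomial.coeff_eq_zero_of_natDegree_lt
        rw [Matrix.charpoly_natDegree_eq_dim, Fintype.card_fin]
        exact h
    have hnil : IsNilpotent A := by
      refine ⟨n, ?_⟩
      have hCH := Matrix.aeval_self_charpoly A
      rw [hchar, map_pow, Polynomial.aeval_X] at hCH
      exact hCH
    obtain ⟨S, P, T, hSP, hPS, hAT, hT⟩ := exists_conj_strictUpper n A hnil
    have hdet : P.det * S.det = 1 := by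
      rw [← Matrix.det_mul, hPS, Matrix.det_one]
    have hdetne : P.det ≠ 0 := left_ne_zero_of_mul_eq_one hdet
    have hadj : P.adjugate = P.det • S := by
      calc P.adjugate = P.adjugate * (P * S) := by rw [hPS, Matrix.mul_one]
        _ = (P.adjugate * P) * S := (Matrix.mul_assoc _ _ _).symm
        _ = P.det • S := by rw [Matrix.adjugate_mul, Matrix.smul_mul, Matrix.one_mul]
    obtain ⟨y2, hy2⟩ : ∃ y2 : Tau n → k, y2 = Sum.elim (fun p => P p.1 p.2)
        (Sum.elim (fun p => (P.det)⁻¹ * T p.1 p.2) (fun _ => 0)) := ⟨_, rfl⟩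
    have hg2 : gOf n y2 = P := by
      ext i l
      rw [hy2]
      rfl
    have hu2 : uOf n y2 = (P.det)⁻¹ • T := by
      ext i l
      show (if i < l then y2 (Sum.inr (Sum.inl (i, l))) else 0) = (P.det)⁻¹ * T i l
      by_cases h : i < l
      · rw [if_pos h, hy2]
        rfl
      · rw [if_neg h, hT i l (not_lt.mp h), mul_zero]
    have hl2 : lamOf n y2 0 = fun _ => 0 := by
      funext i
      unfold lamOf
      rw [if_neg (Nat.not_lt_zero _)]
    have hsm : ∀ (a b : k) (M N Q : Matrix (Fin n) (Fin n) k),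
        (a • M) * (b • N) * Q = (a * b) • (M * N * Q) := by
      intro a b M N Q
      simp [Matrix.smul_mul, Matrix.mul_smul, smul_smul, mul_comm]
    have hNN : NN n y2 0 = A := by
      unfold NN
      rw [hg2, hu2, hl2, hadj, Matrix.diagonal_zero, add_zero, hsm, mul_inv_cancel₀ hdetne,
        one_smul, hAT]
    have h3 := aeval_phi k n y2 0 f
    rw [hf, map_zero, hNN, ← hxA] at h3
    exact h3.symm
  have hP0 := hPprime 0
  have hrad : I.radical = RingHom.ker (phi k n 0) :=
    le_antisymm (hP0.radical_le_iff.mpr hIP) hPI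
  -- irreducibility
  have hirr : IrreducibleSpace (PrimeSpectrum (MvPolynomial (Fin n × Fin n) k ⧸ I)) := by
    rw [PrimeSpectrum.irreducibleSpace_iff_isPrime_nilradical]
    have hker : nilradical (MvPolynomial (Fin n × Fin n) k ⧸ I) =
        RingHom.ker (Ideal.Quotient.factor hIP) := by
      ext q
      obtain ⟨x, rfl⟩ := Ideal.Quotient.mk_surjective q
      rw [RingHom.mem_ker, Ideal.Quotient.factor_mk, Ideal.Quotient.eq_zero_iff_mem, ← hrad,
        mem_nilradical]
      constructor
      · rintro ⟨m, hm⟩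
        rw [← map_pow, Ideal.Quotient.eq_zero_iff_mem] at hm
        exact ⟨m, hm⟩
      · rintro ⟨m, hm⟩
        exact ⟨m, by rw [← map_pow, Ideal.Quotient.eq_zero_iff_mem]; exact hm⟩
    rw [hker]
    exact RingHom.ker_isPrime _
  refine ⟨hirr, ?_⟩
  -- dimension
  have hdimR : ringKrullDim (MvPolynomial (Fin n × Fin n) k) = ((n * n : ℕ) : WithBot ℕ∞) := by
    rw [MvPolynomial.ringKrullDim_of_isNoetherianRing, ringKrullDim_eq_zero_of_field, zero_add]
    simp [Nat.card_eq_fintype_card]
  obtain ⟨y0, hy0⟩ : ∃ y : PrimeSpectrum (MvPolynomial (Fin n × Fin n) k),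
      y.asIdeal = RingHom.ker (phi k n 0) := ⟨⟨_, hP0⟩, rfl⟩
  have hstrict : ∀ j, j < n → RingHom.ker (phi k n (j + 1)) < RingHom.ker (phi k n j) := by
    intro j hj
    refine SetLike.lt_iff_le_and_exists.mpr ⟨ker_phi_succ_le k n j,
      (Matrix.mvPolynomialX (Fin n) (Fin n) k).charpoly.coeff (n - (j + 1)), ?_, ?_⟩
    · exact RingHom.mem_ker.mpr (phi_coeff_eq_zero k n j (n - (j + 1)) (by omega))
    · intro hmem
      exact phi_coeff_ne_zero k n (j + 1) hj (RingHom.mem_ker.mp hmem)
  have hht_ge : (n : ℕ∞) ≤ Order.height y0 := by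
    have hq : StrictMono (fun i : Fin (n + 1) =>
        (⟨RingHom.ker (phi k n (n - (i : ℕ))), hPprime _⟩ :
          PrimeSpectrum (MvPolynomial (Fin n × Fin n) k))) := by
      rw [Fin.strictMono_iff_lt_succ]
      intro i
      show RingHom.ker (phi k n (n - ((Fin.castSucc i : Fin (n + 1)) : ℕ))) <
        RingHom.ker (phi k n (n - ((Fin.succ i : Fin (n + 1)) : ℕ)))
      rw [Fin.val_castSucc, Fin.val_succ]
      have hi := i.isLt
      have h1 : n - (i : ℕ) = (n - ((i : ℕ) + 1)) + 1 := by omega
      rw [h1]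
      exact hstrict _ (by omega)
    have hlast : (LTSeries.mk n _ hq).last ≤ y0 := by
      show RingHom.ker (phi k n (n - ((Fin.last n : Fin (n + 1)) : ℕ))) ≤ y0.asIdeal
      rw [hy0]
      exact le_of_eq (by rw [Fin.val_last, Nat.sub_self])
    exact Order.length_le_height hlast
  have hht_le : Order.height y0 ≤ (n : ℕ∞) := by
    rw [← PrimeSpectrum.height_eq_orderHeight, hy0]
    have hmin : RingHom.ker (phi k n 0) ∈ I.minimalPrimes :=
      ⟨⟨hP0, hIP⟩, fun q hq _ => by rw [← hrad]; exact hq.1.radical_le_iff.mpr hq.2⟩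
    classical
    have hspan : I = Ideal.span ((Finset.univ.image (fun i : Fin n =>
        (Matrix.charpoly (Matrix.mvPolynomialX (Fin n) (Fin n) k)).coeff (i : ℕ)) :
          Finset (MvPolynomial (Fin n × Fin n) k)) : Set (MvPolynomial (Fin n × Fin n) k)) := by
      rw [Finset.coe_image, Finset.coe_univ, Set.image_univ]
      exact hI
    rw [hspan] at hmin
    have h1 := Ideal.height_le_card_of_mem_minimalPrimes_span_finset hmin
    have h2 : (Finset.univ.image (fun i : Fin n =>
        (Matrix.charpoly (Matrix.mvPolynomialX (Fin n) (Fin n) k)).coeff (i : ℕ))).card ≤ n := by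
      calc _ ≤ (Finset.univ : Finset (Fin n)).card := Finset.card_image_le
        _ = n := by simp
    exact h1.trans (by exact_mod_cast h2)
  have hht : Order.height y0 = (n : ℕ∞) := le_antisymm hht_le hht_ge
  have hsum := DimFT.height_add_coheight k (MvPolynomial (Fin n × Fin n) k) (n * n) hdimR n y0 hht
  have hco : Order.coheight y0 = ((n * n - n : ℕ) : ℕ∞) := by
    rw [hht] at hsum
    have hne : Order.coheight y0 ≠ ⊤ := by
      intro h
      rw [h, add_top] at hsum
      exact ENat.top_ne_coe _ hsum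
    obtain ⟨c, hc⟩ := ENat.ne_top_iff_exists.mp hne
    rw [← hc] at hsum ⊢
    have h1 : n + c = n * n := by exact_mod_cast hsum
    have h2 : c = n * n - n := by omega
    rw [h2]
  have hq0 := DimFT.ringKrullDim_quotient_eq_coheight y0
  rw [hy0, hco] at hq0
  rw [ringKrullDim_quotient, ← PrimeSpectrum.zeroLocus_radical, hrad, ← ringKrullDim_quotient,
    hq0, pow_two]
  rfl

end Main

end Groth.Agent.Lib.Helper6.NilCone
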