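import Mathlib

/-!
# No-name lemma, part A: invariant basis (Speiser) (helper6)
-/

set_option autoImplicit false

namespace Groth.Agent.Lib.Helper6.NoName

open scoped BigOperators
open Classical

variable {k L : Type*} [Field k] [Field L] [Algebra k L]
  (G : Subgroup (L ≃ₐ[k] L)) (E : IntermediateField k L)
  (hE : ∀ σ ∈ G, ∀ a ∈ E, σ a ∈ E)

/-- restriction of `σ` to `E`. -/
noncomputable def ρ (σ : G) : E →+* E :=
  ((σ.1 : L ≃ₐ[k] L) : L →+* L).restrict E E (fun a ha => hE σ.1 σ.2 a ha)

lemma ρ_coe (σ : G) (a : E) : ((ρ G E hE σ a : E) : L) = σ.1 (a : L) := rfl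

lemma linearIndependent_ρ (hfaith : ∀ σ ∈ G, (∀ a ∈ E, σ a = a) → σ = 1) :
    LinearIndependent E (fun σ : G => (fun a : E => ρ G E hE σ a)) := by
  have hinj : Function.Injective (fun σ : G => ((ρ G E hE σ : E →+* E) : E →* E)) := by
    intro σ τ h
    have h1 : ∀ a : E, σ.1 (a : L) = τ.1 (a : L) := fun a => by
      have := congrArg (fun f : E →* E => ((f a : E) : L)) h
      exact this
    have h2 : (τ⁻¹ * σ : G).1 = 1 := hfaith _ (τ⁻¹ * σ).2 (fun a ha => by
      change τ.1⁻¹ (σ.1 a) = a
      rw [h1 ⟨a, ha⟩]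
      exact τ.1.symm_apply_apply a)
    have h3 : τ⁻¹ * σ = 1 := Subtype.ext h2
    exact (inv_mul_eq_one.mp h3).symm
  exact (linearIndependent_monoidHom E E).comp _ hinj

variable [Fintype G]

lemma exists_dual_family (hfaith : ∀ σ ∈ G, (∀ a ∈ E, σ a = a) → σ = 1) :
    ∃ c : E →₀ E, ∀ σ : G,
      (c.sum fun a r => r * ρ G E hE σ a) = if σ = 1 then 1 else 0 := by
  classical
  have hLI := linearIndependent_ρ G E hE hfaith
  let v : E → (G → E) := fun a σ => ρ G E hE σ a
  have hS : Submodule.span E (Set.range v) = ⊤ := by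
    by_contra hne
    obtain ⟨f, hf0, hf⟩ := Submodule.exists_le_ker_of_lt_top _ (lt_top_iff_ne_top.mpr hne)
    apply hf0
    have hzero : ∀ σ : G, f (fun τ => if σ = τ then 1 else 0) = 0 := by
      refine Fintype.linearIndependent_iff.mp hLI
        (fun σ => f (fun τ => if σ = τ then 1 else 0)) ?_
      funext a
      have h1 : f (v a) = 0 := hf (Submodule.subset_span ⟨a, rfl⟩)
      rw [LinearMap.pi_apply_eq_sum_univ] at h1
      simp only [Finset.sum_apply, Pi.smul_apply, smul_eq_mul, Pi.zero_apply]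
      refine Eq.trans (Finset.sum_congr rfl fun σ _ => ?_) h1
      rw [smul_eq_mul, mul_comm]
    refine LinearMap.ext fun x => ?_
    rw [LinearMap.pi_apply_eq_sum_univ, LinearMap.zero_apply]
    exact Finset.sum_eq_zero fun σ _ => by rw [hzero, smul_zero]
  have hmem : (Pi.single 1 1 : G → E) ∈ Submodule.span E (Set.range v) := by
    rw [hS]; trivial
  obtain ⟨c, hc⟩ := Finsupp.mem_span_range_iff_exists_finsupp.mp hmem
  refine ⟨c, fun σ => ?_⟩
  have h1 := congrFun hc σ
  rw [Pi.single_apply] at h1
  rw [← h1, Finsupp.sum, Finsupp.sum, Finset.sum_apply]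
  refine Finset.sum_congr rfl fun a _ => ?_
  rfl

/-- the trace. -/
noncomputable def tr (z : L) : L := ∑ σ : G, σ.1 z

omit hE in
lemma tr_fixed (τ : G) (z : L) : τ.1 (tr G z) = tr G z := by
  unfold tr
  rw [map_sum]
  exact Fintype.sum_equiv (Equiv.mulLeft τ) _ _ (fun σ => rfl)

variable {ι : Type*} (y : ι → L)

include hE

lemma map_mem_span (hW : ∀ σ ∈ G, ∀ j, σ (y j) ∈ Submodule.span E (Set.range y)) (σ : G)
    {w : L} (hw : w ∈ Submodule.span E (Set.range y)) :
    σ.1 w ∈ Submodule.span E (Set.range y) := by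
  induction hw using Submodule.span_induction with
  | mem x hx =>
    obtain ⟨j, rfl⟩ := hx
    exact hW σ.1 σ.2 j
  | zero => rw [map_zero]; exact Submodule.zero_mem _
  | add x y _ _ hx hy => rw [map_add]; exact Submodule.add_mem _ hx hy
  | smul a x _ hx =>
    have h1 : σ.1 (a • x) = (ρ G E hE σ a) • σ.1 x := by
      rw [IntermediateField.smul_def, IntermediateField.smul_def, smul_eq_mul, smul_eq_mul, map_mul]
      rfl
    rw [h1]
    exact Submodule.smul_mem _ _ hx

lemma tr_mem_span (hW : ∀ σ ∈ G, ∀ j, σ (y j) ∈ Submodule.span E (Set.range y))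
    {w : L} (hw : w ∈ Submodule.span E (Set.range y)) (a : E) :
    tr G ((a : L) * w) ∈ Submodule.span E (Set.range y) := by
  unfold tr
  refine Submodule.sum_mem _ fun σ _ => ?_
  have h1 : (a : L) * w = a • w := rfl
  rw [h1]
  exact map_mem_span G E hE y hW σ (Submodule.smul_mem _ _ hw)

lemma reconstruct (c : E →₀ E)
    (hc : ∀ σ : G, (c.sum fun a r => r * ρ G E hE σ a) = if σ = 1 then 1 else 0) (w : L) :
    w = c.sum fun a r => r • tr G ((a : L) * w) := by
  classical
  have h1 : ∀ σ : G, ((c.sum fun a r => r * ρ G E hE σ a : E) : L) =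
      c.sum fun a r => (r : L) * σ.1 (a : L) := by
    intro σ
    rw [Finsupp.sum, Finsupp.sum]
    push_cast
    rfl
  calc w = ∑ σ : G, ((if σ = 1 then (1 : E) else 0 : E) : L) * σ.1 w := by
        rw [Finset.sum_eq_single (1 : G)]
        · simp
        · intro σ _ hσ
          simp [hσ]
        · simp
    _ = ∑ σ : G, (c.sum fun a r => (r : L) * σ.1 (a : L)) * σ.1 w := by
        refine Finset.sum_congr rfl fun σ _ => ?_
        rw [← hc σ, h1]
    _ = c.sum fun a r => r • tr G ((a : L) * w) := by
        simp only [Finsupp.sum, Finset.sum_mul, tr]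
        rw [Finset.sum_comm]
        refine Finset.sum_congr rfl fun a _ => ?_
        rw [IntermediateField.smul_def, smul_eq_mul, Finset.mul_sum]
        refine Finset.sum_congr rfl fun σ _ => ?_
        rw [map_mul, mul_assoc]

omit hE in
/-- the invariant vectors of the span -/
def WG : Set L := {z | z ∈ Submodule.span E (Set.range y) ∧ ∀ σ : G, σ.1 z = z}

theorem span_WG (hfaith : ∀ σ ∈ G, (∀ a ∈ E, σ a = a) → σ = 1)
    (hW : ∀ σ ∈ G, ∀ j, σ (y j) ∈ Submodule.span E (Set.range y)) :
    Submodule.span E (WG G E y) = Submodule.span E (Set.range y) := by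
  apply le_antisymm
  · rw [Submodule.span_le]
    intro z hz
    exact hz.1
  · obtain ⟨c, hc⟩ := exists_dual_family G E hE hfaith
    intro w hw
    rw [reconstruct G E hE c hc w, Finsupp.sum]
    refine Submodule.sum_mem _ fun a _ => Submodule.smul_mem _ _ (Submodule.subset_span ?_)
    exact ⟨tr_mem_span G E hE y hW hw a, fun σ => tr_fixed G σ _⟩

/-- Speiser: an invariant basis of the span. -/
theorem exists_invariant_basis {m : ℕ} (y : Fin m → L)
    (hfaith : ∀ σ ∈ G, (∀ a ∈ E, σ a = a) → σ = 1)
    (hW : ∀ σ ∈ G, ∀ j, σ (y j) ∈ Submodule.span E (Set.range y))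
    (hli : LinearIndependent E y) :
    ∃ t : Fin m → L, (∀ j, ∀ σ : G, σ.1 (t j) = t j) ∧
      Submodule.span E (Set.range t) = Submodule.span E (Set.range y) := by
  classical
  obtain ⟨b, hbs, hbspan, hbli⟩ := exists_linearIndependent E (WG G E y)
  rw [span_WG G E hE y hfaith hW] at hbspan
  -- finiteness of `b`
  have hfin : Module.finrank E (Submodule.span E (Set.range y)) = m := by
    rw [finrank_span_eq_card hli, Fintype.card_fin]
  haveI : Module.Finite E (Submodule.span E (Set.range y)) :=
    Module.Finite.span_of_finite E (Set.finite_range y)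
  have hbW : ∀ z : b, (z : L) ∈ Submodule.span E (Set.range y) := fun z => (hbs z.2).1
  let f : b → Submodule.span E (Set.range y) := fun z => ⟨z, hbW z⟩
  have hfli : LinearIndependent E f := by
    apply LinearIndependent.of_comp (Submodule.span E (Set.range y)).subtype
    exact hbli
  haveI : Finite b := hfli.finite
  haveI : Fintype b := Fintype.ofFinite b
  have hcard : Fintype.card b = m := by
    have h1 : Module.finrank E (Submodule.span E (b : Set L)) = Fintype.card b := by
      have := finrank_span_eq_card hbli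
      rwa [Subtype.range_coe] at this
    rw [← h1, hbspan, hfin]
  let e : Fin m ≃ b := (Fintype.equivFinOfCardEq hcard).symm
  refine ⟨fun j => (e j : L), fun j σ => (hbs (e j).2).2 σ, ?_⟩
  rw [← hbspan]
  congr 1
  ext z
  constructor
  · rintro ⟨j, rfl⟩
    exact (e j).2
  · intro hz
    exact ⟨e.symm ⟨z, hz⟩, by simp⟩

end Groth.Agent.Lib.Helper6.NoName
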