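import Mathlib
import Groth.Agent.Lib.Helper6.NoNameA

/-!
# No-name lemma, parts B, C and the abstract theorem (helper6)
-/

set_option autoImplicit false

namespace Groth.Agent.Lib.Helper6.NoName

open scoped BigOperators
open Classical

universe u

variable {k L : Type u} [Field k] [Field L] [Algebra k L] (E : IntermediateField k L) {m : ℕ}

lemma isAlgebraic_of_adjoin_eq_top {ι : Type*} (x : ι → L)
    (h : IntermediateField.adjoin E (Set.range x) = ⊤) :
    Algebra.IsAlgebraic (Algebra.adjoin E (Set.range x)) L := by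
  rw [← IntermediateField.isAlgebraic_adjoin_iff_top, h]
  exact ⟨fun z => isAlgebraic_algebraMap (⟨z, IntermediateField.mem_top⟩ :
    (⊤ : IntermediateField E L))⟩

theorem algebraicIndependent_of_span_eq (y t : Fin m → L) (hy : AlgebraicIndependent E y)
    (hytop : IntermediateField.adjoin E (Set.range y) = ⊤)
    (hspan : Submodule.span E (Set.range t) = Submodule.span E (Set.range y)) :
    AlgebraicIndependent E t ∧ IntermediateField.adjoin E (Set.range t) = ⊤ := by
  have httop : IntermediateField.adjoin E (Set.range t) = ⊤ := by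
    rw [eq_top_iff, ← hytop]
    apply IntermediateField.adjoin_le_iff.mpr
    rintro _ ⟨j, rfl⟩
    have h1 : y j ∈ Submodule.span E (Set.range t) := by
      rw [hspan]; exact Submodule.subset_span ⟨j, rfl⟩
    have h2 : Submodule.span E (Set.range t) ≤
        Subalgebra.toSubmodule (IntermediateField.adjoin E (Set.range t)).toSubalgebra :=
      Submodule.span_le.mpr (IntermediateField.subset_adjoin E _)
    exact h2 h1
  refine ⟨?_, httop⟩
  haveI := isAlgebraic_of_adjoin_eq_top E y hytop
  haveI := isAlgebraic_of_adjoin_eq_top E t httop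
  have hytb : IsTranscendenceBasis E y := hy.isTranscendenceBasis_iff_isAlgebraic.mpr inferInstance
  have htr : Algebra.trdeg E L = m := by
    have h4 := hytb.lift_cardinalMk_eq_trdeg
    simpa using h4.symm
  have httb : IsTranscendenceBasis E t :=
    Algebra.IsAlgebraic.isTranscendenceBasis_of_lift_le_trdeg_of_finite E t
      (by rw [htr]; simp)
  exact httb.1

variable (G : Subgroup (L ≃ₐ[k] L)) [Fintype G] (hE : ∀ σ ∈ G, ∀ a ∈ E, σ a ∈ E)

/-- the conjugate polynomial. -/
noncomputable def conj (σ : G) (P : MvPolynomial (Fin m) E) : MvPolynomial (Fin m) E :=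
  MvPolynomial.map (ρ G E hE σ) P

omit [Fintype G] in
lemma aeval_conj (t : Fin m → L) (ht : ∀ j, ∀ σ : G, σ.1 (t j) = t j) (σ : G)
    (P : MvPolynomial (Fin m) E) :
    MvPolynomial.aeval t (conj E G hE σ P) = σ.1 (MvPolynomial.aeval t P) := by
  induction P using MvPolynomial.induction_on with
  | C a =>
    simp only [conj, MvPolynomial.map_C, MvPolynomial.aeval_C]
    rfl
  | add p q hp hq =>
    simp only [conj, map_add] at *
    rw [hp, hq]
  | mul_X p j hp =>
    simp only [conj, map_mul, MvPolynomial.map_X, MvPolynomial.aeval_X] at *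
    rw [hp, ht]

include hE

omit [Fintype G] in
lemma aeval_mem_of_fixed (t : Fin m → L) (ht : ∀ j, ∀ σ : G, σ.1 (t j) = t j)
    (hti : AlgebraicIndependent E t) (R : MvPolynomial (Fin m) E)
    (hR : ∀ σ : G, σ.1 (MvPolynomial.aeval t R) = MvPolynomial.aeval t R) :
    MvPolynomial.aeval t R ∈
      IntermediateField.adjoin (↥(E ⊓ IntermediateField.fixedField G)) (Set.range t) := by
  have hconj : ∀ σ : G, conj E G hE σ R = R := by
    intro σ
    apply (algebraicIndependent_iff_injective_aeval.mp hti)
    rw [aeval_conj E G hE t ht, hR]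
  have hcoeff : ∀ c, ((MvPolynomial.coeff c R : E) : L) ∈ E ⊓ IntermediateField.fixedField G := by
    intro c
    refine ⟨(MvPolynomial.coeff c R).2, ?_⟩
    rw [SetLike.mem_coe, IntermediateField.mem_fixedField_iff]
    intro f hf
    have h1 := congrArg (MvPolynomial.coeff c) (hconj ⟨f, hf⟩)
    rw [conj, MvPolynomial.coeff_map] at h1
    exact congrArg Subtype.val h1
  rw [MvPolynomial.aeval_def, MvPolynomial.eval₂_eq]
  refine sum_mem fun c _ => mul_mem ?_ (prod_mem fun j _ => pow_mem ?_ _)
  · exact IntermediateField.algebraMap_mem _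
      (⟨_, hcoeff c⟩ : ↥(E ⊓ IntermediateField.fixedField G))
  · exact IntermediateField.subset_adjoin _ _ ⟨j, rfl⟩

theorem fixedField_le (t : Fin m → L) (ht : ∀ j, ∀ σ : G, σ.1 (t j) = t j)
    (hti : AlgebraicIndependent E t) (httop : IntermediateField.adjoin E (Set.range t) = ⊤)
    (z : L) (hz : z ∈ IntermediateField.fixedField G) :
    z ∈ IntermediateField.adjoin (↥(E ⊓ IntermediateField.fixedField G)) (Set.range t) := by
  have hz' : ∀ σ : G, σ.1 z = z := fun σ =>
    (IntermediateField.mem_fixedField_iff _ _).mp hz σ.1 σ.2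
  have hzt : z ∈ IntermediateField.adjoin E (Set.range t) := by rw [httop]; trivial
  obtain ⟨P, Q, hPQ⟩ := (IntermediateField.mem_adjoin_range_iff E t z).mp hzt
  set q := MvPolynomial.aeval t Q with hqdef
  by_cases hq : q = 0
  · rw [hPQ, hq, div_zero]; exact zero_mem _
  let n : L := ∏ σ : G, σ.1 q
  have hn0 : n ≠ 0 := Finset.prod_ne_zero_iff.mpr
    (fun σ _ => (map_ne_zero_iff _ σ.1.injective).mpr hq)
  have hnfix : ∀ τ : G, τ.1 n = n := fun τ => by
    change τ.1 (∏ σ : G, σ.1 q) = ∏ σ : G, σ.1 q
    rw [map_prod]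
    exact Fintype.prod_equiv (Equiv.mulLeft τ) _ _ (fun σ => rfl)
  have hn : n = MvPolynomial.aeval t (∏ σ : G, conj E G hE σ Q) := by
    rw [map_prod]
    exact Finset.prod_congr rfl (fun σ _ => (aeval_conj E G hE t ht σ Q).symm)
  have hzn : z * n = MvPolynomial.aeval t (P * ∏ σ ∈ Finset.univ.erase (1 : G), conj E G hE σ Q) := by
    rw [map_mul, map_prod, hPQ]
    have h3 : n = q * ∏ σ ∈ Finset.univ.erase (1 : G), σ.1 q := by
      exact (Finset.mul_prod_erase Finset.univ (fun σ : G => σ.1 q) (Finset.mem_univ (1 : G))).symm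
    rw [h3, ← mul_assoc, div_mul_cancel₀ _ hq]
    congr 1
    exact Finset.prod_congr rfl (fun σ _ => (aeval_conj E G hE t ht σ Q).symm)
  have h1 := aeval_mem_of_fixed E G hE t ht hti
    (P * ∏ σ ∈ Finset.univ.erase (1 : G), conj E G hE σ Q)
    (by intro σ; rw [← hzn, map_mul, hz' σ, hnfix σ])
  have h2 := aeval_mem_of_fixed E G hE t ht hti (∏ σ : G, conj E G hE σ Q)
    (by intro σ; rw [← hn]; exact hnfix σ)
  rw [← hzn] at h1
  rw [← hn] at h2
  have h4 : z = (z * n) / n := by field_simp
  rw [h4]
  exact div_mem h1 h2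

/-- The abstract no-name lemma. -/
theorem noName (y : Fin m → L)
    (hfaith : ∀ σ ∈ G, (∀ a ∈ E, σ a = a) → σ = 1)
    (hW : ∀ σ ∈ G, ∀ j, σ (y j) ∈ Submodule.span E (Set.range y))
    (hy : AlgebraicIndependent E y)
    (hytop : IntermediateField.adjoin E (Set.range y) = ⊤) :
    ∃ t : Fin m → L,
      AlgebraicIndependent (↥(E ⊓ IntermediateField.fixedField G)) t ∧
      IntermediateField.restrictScalars k
        (IntermediateField.adjoin (↥(E ⊓ IntermediateField.fixedField G)) (Set.range t)) =
        IntermediateField.fixedField G := by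
  obtain ⟨t, ht, hspan⟩ := exists_invariant_basis G E hE y hfaith hW hy.linearIndependent
  obtain ⟨hti, httop⟩ := algebraicIndependent_of_span_eq E y t hy hytop hspan
  refine ⟨t, ?_, ?_⟩
  · letI : Algebra (↥(E ⊓ IntermediateField.fixedField G)) E :=
      (IntermediateField.inclusion (inf_le_left : E ⊓ IntermediateField.fixedField G ≤ E)).toAlgebra
    haveI : IsScalarTower (↥(E ⊓ IntermediateField.fixedField G)) E L :=
      .of_algebraMap_eq fun _ => rfl
    exact hti.restrictScalars
      (IntermediateField.inclusion (inf_le_left : E ⊓ IntermediateField.fixedField G ≤ E)).injective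
  · apply le_antisymm
    · rw [IntermediateField.restrictScalars_adjoin, IntermediateField.adjoin_le_iff]
      rintro z (hz | ⟨j, rfl⟩)
      · exact hz.2
      · rw [SetLike.mem_coe, IntermediateField.mem_fixedField_iff]
        intro f hf
        exact ht j ⟨f, hf⟩
    · intro z hz
      exact fixedField_le E G hE t ht hti httop z hz

end Groth.Agent.Lib.Helper6.NoName
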