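import Mathlib
import Groth.Prelude.Def_W4c2brnrinvarInvFld
import Groth.Agent.Lib.Helper6.NoNameB

/-!
# The no-name lemma for rational function fields (helper6)
-/

set_option autoImplicit false

namespace Groth.Agent.Lib.Helper6.NoName

universe u

section

variable (k : Type u) [Field k] (σ : Type) 

/-- the variables are algebraically independent. -/
lemma algebraicIndependent_X :
    AlgebraicIndependent k (fun i : σ => (InvFld.X i : InvFld.Fld σ k)) := by
  haveI : Algebra.IsAlgebraic (MvPolynomial σ k) (InvFld.Fld σ k) :=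
    IsLocalization.isAlgebraic (InvFld.Fld σ k) (nonZeroDivisors (MvPolynomial σ k))
  exact ((IsTranscendenceBasis.mvPolynomial σ k).algebraMap_comp (A := InvFld.Fld σ k)).1

end

theorem main (k : Type u) [Field k] (n m : ℕ)
    (G : Subgroup (InvFld.Fld (Fin n ⊕ Fin m) k ≃ₐ[k] InvFld.Fld (Fin n ⊕ Fin m) k)) [Finite G]
    (hx : ∀ σ ∈ G, ∀ i : Fin n, σ (InvFld.X (Sum.inl i)) ∈ Submodule.span k (Set.range fun j : Fin n => (InvFld.X (Sum.inl j) : InvFld.Fld (Fin n ⊕ Fin m) k)))
    (hy : ∀ σ ∈ G, ∀ i : Fin m, σ (InvFld.X (Sum.inr i)) ∈ Submodule.span k (Set.range fun j : Fin m => (InvFld.X (Sum.inr j) : InvFld.Fld (Fin n ⊕ Fin m) k)))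
    (hfaith : ∀ σ ∈ G, (∀ i : Fin n, σ (InvFld.X (Sum.inl i)) = InvFld.X (Sum.inl i)) → σ = 1) :
    ∃ t : Fin m → InvFld.Fld (Fin n ⊕ Fin m) k,
      AlgebraicIndependent (↥(IntermediateField.adjoin k (Set.range fun j : Fin n => (InvFld.X (Sum.inl j) : InvFld.Fld (Fin n ⊕ Fin m) k)) ⊓ IntermediateField.fixedField G)) t ∧
      IntermediateField.restrictScalars k (IntermediateField.adjoin (↥(IntermediateField.adjoin k (Set.range fun j : Fin n => (InvFld.X (Sum.inl j) : InvFld.Fld (Fin n ⊕ Fin m) k)) ⊓ IntermediateField.fixedField G)) (Set.range t)) =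
        IntermediateField.fixedField G := by
  classical
  haveI : Fintype G := Fintype.ofFinite G
  set L := InvFld.Fld (Fin n ⊕ Fin m) k with hL
  set x' : Fin n → L := fun j => (InvFld.X (Sum.inl j) : L) with hx'
  set y : Fin m → L := fun j => (InvFld.X (Sum.inr j) : L) with hy'
  set E : IntermediateField k L := IntermediateField.adjoin k (Set.range x') with hEdef
  have hxE : ∀ i, x' i ∈ E := fun i => IntermediateField.subset_adjoin k _ ⟨i, rfl⟩
  have hspanE : Submodule.span k (Set.range x') ≤ Subalgebra.toSubmodule E.toSubalgebra :=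
    Submodule.span_le.mpr (by rintro _ ⟨i, rfl⟩; exact hxE i)
  have hE : ∀ σ ∈ G, ∀ a ∈ E, σ a ∈ E := by
    intro σ hσ a ha
    have h1 : E.map (σ : L →ₐ[k] L) ≤ E := by
      rw [hEdef, IntermediateField.adjoin_map, IntermediateField.adjoin_le_iff]
      rintro _ ⟨_, ⟨i, rfl⟩, rfl⟩
      exact hspanE (hx σ hσ i)
    exact h1 ((IntermediateField.mem_map _).mpr ⟨a, ha, rfl⟩)
  have hfaith' : ∀ σ ∈ G, (∀ a ∈ E, σ a = a) → σ = 1 := fun σ hσ h =>
    hfaith σ hσ (fun i => h _ (hxE i))
  have hW : ∀ σ ∈ G, ∀ j, σ (y j) ∈ Submodule.span E (Set.range y) := fun σ hσ j =>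
    Submodule.span_le_restrictScalars k E (Set.range y) (hy σ hσ j)
  have hX := algebraicIndependent_X k (Fin n ⊕ Fin m)
  have hyE : AlgebraicIndependent E y := by
    rw [hEdef, IntermediateField.algebraicIndependent_adjoin_iff]
    have h1 : AlgebraicIndependent k (Sum.elim y x') := by
      have h2 := hX.comp (Equiv.sumComm (Fin m) (Fin n)) (Equiv.injective _)
      convert h2 using 1
      ext (j | i) <;> rfl
    exact (AlgebraicIndependent.sumElim_iff.mp h1).2
  have hytop : IntermediateField.adjoin E (Set.range y) = ⊤ := by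
    rw [eq_top_iff]
    intro g _
    obtain ⟨p, q, hq, rfl⟩ := IsFractionRing.div_surjective (A := MvPolynomial (Fin n ⊕ Fin m) k) g
    have key : ∀ p : MvPolynomial (Fin n ⊕ Fin m) k,
        algebraMap _ L p ∈ IntermediateField.adjoin E (Set.range y) := by
      intro p
      induction p using MvPolynomial.induction_on with
      | C a =>
        have h1 : algebraMap (MvPolynomial (Fin n ⊕ Fin m) k) L (MvPolynomial.C a) =
            algebraMap E L (algebraMap k E a) := by
          rw [← IsScalarTower.algebraMap_apply k E L, ← MvPolynomial.algebraMap_eq,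
            ← IsScalarTower.algebraMap_apply]
        rw [h1]
        exact IntermediateField.algebraMap_mem _ _
      | add p q hp hq => rw [map_add]; exact add_mem hp hq
      | mul_X p i hp =>
        rw [map_mul]
        refine mul_mem hp ?_
        rcases i with i | j
        · exact IntermediateField.algebraMap_mem _ (⟨x' i, hxE i⟩ : E)
        · exact IntermediateField.subset_adjoin _ _ ⟨j, rfl⟩
    exact div_mem (key p) (key q)
  exact noName E G hE y hfaith' hW hyE hytop

end Groth.Agent.Lib.Helper6.NoName
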