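import Mathlib
import Groth.Agent.Lib.Helper29.PolyNodeBasis

/-!
Injectivity of the first map of the conormal sequence for the node `A'[x,y]/(xy - τ)` over a
trivial square-zero extension `A' = A ⊕ J`.

Idea: the two `A'`-algebra maps `x ↦ T, y ↦ τ T⁻¹` and `x ↦ τ T, y ↦ T⁻¹` into the Laurent
polynomial ring `A'[T;T⁻¹]`, composed with the coefficientwise Euler derivation `a + j ↦ j`,
give `A`-derivations of `B'` which see every element of `J B'`.
-/

set_option autoImplicit false
universe u

namespace Groth.Agent.Lib.Helper6.NodeConormal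

open TensorProduct
open Groth.Agent.Lib.Helper29.PolyNodeBasis (Φ Ψ Φ_Ψ Ψ_Φ coeff_gamma e Φ_single)

/-! ### A criterion for the vanishing of a derivation on the kernel of `kerToTensor` -/

theorem criterion {R S : Type*} [CommRing R] [CommRing S] [Algebra R S] (I : Ideal S)
    {M : Type*} [AddCommGroup M] [Module R M] [Module S M] [IsScalarTower R S M]
    (δ : Derivation R S M) (hδ : ∀ i ∈ I, ∀ s : S, i • δ s = 0) (x : S)
    (hx : (1 : S ⧸ I) ⊗ₜ[S] KaehlerDifferential.D R S x = 0) : δ x = 0 := by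
  have hL : ∀ (i : S), i ∈ I → ∀ ω : Ω[S⁄R], i • δ.liftKaehlerDifferential ω = 0 := by
    intro i hi ω
    have hω : ω ∈ Submodule.span S (Set.range (KaehlerDifferential.D R S)) := by
      rw [KaehlerDifferential.span_range_derivation]
      exact Submodule.mem_top
    induction hω using Submodule.span_induction with
    | mem w hw =>
      obtain ⟨s, rfl⟩ := hw
      rw [Derivation.liftKaehlerDifferential_comp_D]
      exact hδ i hi s
    | zero => rw [map_zero, smul_zero]
    | add w₁ w₂ _ _ h₁ h₂ => rw [map_add, smul_add, h₁, h₂, add_zero]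
    | smul a w _ h => rw [map_smul, smul_comm, h, smul_zero]
  have hker : ∀ ω ∈ (I • (⊤ : Submodule S (Ω[S⁄R]))), δ.liftKaehlerDifferential ω = 0 := by
    intro ω hω
    refine Submodule.smul_induction_on hω ?_ ?_
    · intro i hi w _
      rw [map_smul]
      exact hL i hi w
    · intro w₁ w₂ h₁ h₂
      rw [map_add, h₁, h₂, add_zero]
  have h1 := congrArg (TensorProduct.quotTensorEquivQuotSMul (Ω[S⁄R]) I) hx
  rw [TensorProduct.quotTensorEquivQuotSMul_mk_one_tmul, map_zero,
    Submodule.Quotient.mk_eq_zero] at h1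
  rw [← Derivation.liftKaehlerDifferential_comp_D]
  exact hker _ h1

/-! ### The Euler derivation on a trivial square-zero extension and on Laurent polynomials -/

section euler

variable (A : Type u) [CommRing A] (J : Type u) [AddCommGroup J] [Module A J] [Module Aᵐᵒᵖ J]
  [IsCentralScalar A J]

/-- `a + j ↦ j` -/
noncomputable def E0 : TrivSqZeroExt A J →ₗ[A] TrivSqZeroExt A J :=
  (TrivSqZeroExt.inrHom A J).comp (TrivSqZeroExt.sndHom A J)

omit [Module Aᵐᵒᵖ J] [IsCentralScalar A J] in
theorem E0_apply (α : TrivSqZeroExt A J) : E0 A J α = TrivSqZeroExt.inr α.snd := rfl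

theorem E0_mul (α β : TrivSqZeroExt A J) :
    E0 A J (α * β) = α * E0 A J β + β * E0 A J α := by
  rw [E0_apply, E0_apply, E0_apply]
  apply TrivSqZeroExt.ext
  · simp
  · simp [TrivSqZeroExt.snd_mul, op_smul_eq_smul]

theorem E0_of_mem {α : TrivSqZeroExt A J} (hα : α ∈ TrivSqZeroExt.kerIdeal A J) :
    E0 A J α = α := by
  rw [E0_apply]
  exact ((TrivSqZeroExt.mem_kerIdeal_iff_inr A J α).mp hα).symm

theorem mul_E0_of_mem {α : TrivSqZeroExt A J} (hα : α ∈ TrivSqZeroExt.kerIdeal A J)
    (β : TrivSqZeroExt A J) : α * E0 A J β = 0 := by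
  rw [E0_apply, (TrivSqZeroExt.mem_kerIdeal_iff_inr A J α).mp hα]
  exact TrivSqZeroExt.inr_mul_inr A _ _

/-- coefficientwise Euler map as a linear map -/
noncomputable def Elin : LaurentPolynomial (TrivSqZeroExt A J) →ₗ[A]
    LaurentPolynomial (TrivSqZeroExt A J) where
  toFun f := AddMonoidAlgebra.map (E0 A J).toAddMonoidHom f
  map_add' f g := AddMonoidAlgebra.map_add _ f g
  map_smul' a f := by
    apply LaurentPolynomial.ext
    intro m
    show E0 A J (a • f.coeff m) = a • E0 A J (f.coeff m)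
    rw [map_smul]

theorem Elin_coeff (f : LaurentPolynomial (TrivSqZeroExt A J)) (m : ℤ) :
    (Elin A J f).coeff m = E0 A J (f.coeff m) := rfl

theorem Elin_single (m : ℤ) (α : TrivSqZeroExt A J) :
    Elin A J (AddMonoidAlgebra.single m α) = AddMonoidAlgebra.single m (E0 A J α) :=
  AddMonoidAlgebra.map_single _ α m

theorem Elin_mul (f g : LaurentPolynomial (TrivSqZeroExt A J)) :
    Elin A J (f * g) = f * Elin A J g + g * Elin A J f := by
  induction f using AddMonoidAlgebra.induction_linear with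
  | zero => simp
  | add f₁ f₂ h₁ h₂ =>
    rw [add_mul, map_add, h₁, h₂, map_add]
    ring
  | single m α =>
    induction g using AddMonoidAlgebra.induction_linear with
    | zero => simp
    | add g₁ g₂ h₁ h₂ =>
      rw [mul_add, map_add, h₁, h₂, map_add]
      ring
    | single n β =>
      rw [AddMonoidAlgebra.single_mul_single, Elin_single, Elin_single, Elin_single,
        AddMonoidAlgebra.single_mul_single, AddMonoidAlgebra.single_mul_single, E0_mul,
        AddMonoidAlgebra.single_add, add_comm n m]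

/-- the Euler derivation of the Laurent polynomial ring -/
noncomputable def E : Derivation A (LaurentPolynomial (TrivSqZeroExt A J))
    (LaurentPolynomial (TrivSqZeroExt A J)) :=
  Derivation.mk' (Elin A J) (fun f g => by
    rw [smul_eq_mul, smul_eq_mul]
    exact Elin_mul A J f g)

theorem E_coeff (f : LaurentPolynomial (TrivSqZeroExt A J)) (m : ℤ) :
    (E A J f).coeff m = E0 A J (f.coeff m) := rfl

theorem C_mul_E_of_mem {α : TrivSqZeroExt A J} (hα : α ∈ TrivSqZeroExt.kerIdeal A J)
    (f : LaurentPolynomial (TrivSqZeroExt A J)) :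
    LaurentPolynomial.C α * E A J f = 0 := by
  rw [← LaurentPolynomial.smul_eq_C_mul]
  apply LaurentPolynomial.ext
  intro m
  show α • (E A J f).coeff m = 0
  rw [E_coeff, smul_eq_mul]
  exact mul_E0_of_mem A J hα _

end euler

/-! ### The two Laurent evaluations of the node ring -/

section laurent

variable (R : Type u) [CommRing R] (π : R)

open MvPolynomial in
noncomputable def g1 : MvPolynomial (Fin 2) R →ₐ[R] LaurentPolynomial R :=
  MvPolynomial.aeval ![LaurentPolynomial.T 1, LaurentPolynomial.C π * LaurentPolynomial.T (-1)]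

open MvPolynomial in
noncomputable def g2 : MvPolynomial (Fin 2) R →ₐ[R] LaurentPolynomial R :=
  MvPolynomial.aeval ![LaurentPolynomial.C π * LaurentPolynomial.T 1, LaurentPolynomial.T (-1)]

theorem T_one_mul_T_neg_one :
    (LaurentPolynomial.T 1 * LaurentPolynomial.T (-1) : LaurentPolynomial R) = 1 := by
  rw [← LaurentPolynomial.T_add]
  exact LaurentPolynomial.T_zero

theorem g1_rel : g1 R π (MvPolynomial.X 0 * MvPolynomial.X 1 - MvPolynomial.C π) = 0 := by
  have h0 : g1 R π (MvPolynomial.X 0) = LaurentPolynomial.T 1 := by simp [g1]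
  have h1 : g1 R π (MvPolynomial.X 1) =
      LaurentPolynomial.C π * LaurentPolynomial.T (-1) := by simp [g1]
  have hC : g1 R π (MvPolynomial.C π) = LaurentPolynomial.C π := by
    rw [← MvPolynomial.algebraMap_eq, AlgHom.commutes, LaurentPolynomial.C_eq_algebraMap]
  rw [map_sub, map_mul, h0, h1, hC, mul_left_comm, T_one_mul_T_neg_one, mul_one, sub_self]

theorem g2_rel : g2 R π (MvPolynomial.X 0 * MvPolynomial.X 1 - MvPolynomial.C π) = 0 := by
  have h0 : g2 R π (MvPolynomial.X 0) =
      LaurentPolynomial.C π * LaurentPolynomial.T 1 := by simp [g2]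
  have h1 : g2 R π (MvPolynomial.X 1) = LaurentPolynomial.T (-1) := by simp [g2]
  have hC : g2 R π (MvPolynomial.C π) = LaurentPolynomial.C π := by
    rw [← MvPolynomial.algebraMap_eq, AlgHom.commutes, LaurentPolynomial.C_eq_algebraMap]
  rw [map_sub, map_mul, h0, h1, hC, mul_assoc, T_one_mul_T_neg_one, mul_one, sub_self]

noncomputable def gh1 : SpinCurv.PolyNodeRing R π →ₐ[R] LaurentPolynomial R :=
  Ideal.Quotient.liftₐ _ (g1 R π) (fun a ha => by
    obtain ⟨c, rfl⟩ := Ideal.mem_span_singleton'.mp ha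
    rw [map_mul, g1_rel, mul_zero])

noncomputable def gh2 : SpinCurv.PolyNodeRing R π →ₐ[R] LaurentPolynomial R :=
  Ideal.Quotient.liftₐ _ (g2 R π) (fun a ha => by
    obtain ⟨c, rfl⟩ := Ideal.mem_span_singleton'.mp ha
    rw [map_mul, g2_rel, mul_zero])

theorem gh1_mk (p : MvPolynomial (Fin 2) R) :
    gh1 R π (Ideal.Quotient.mk _ p) = g1 R π p := rfl

theorem gh2_mk (p : MvPolynomial (Fin 2) R) :
    gh2 R π (Ideal.Quotient.mk _ p) = g2 R π p := rfl

theorem gh1_x : gh1 R π (SpinCurv.PolyNodeRing.x R π) = LaurentPolynomial.T 1 := by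
  show gh1 R π (Ideal.Quotient.mk _ (MvPolynomial.X 0)) = _
  rw [gh1_mk]
  simp [g1]

theorem gh1_y : gh1 R π (SpinCurv.PolyNodeRing.y R π) =
    LaurentPolynomial.C π * LaurentPolynomial.T (-1) := by
  show gh1 R π (Ideal.Quotient.mk _ (MvPolynomial.X 1)) = _
  rw [gh1_mk]
  simp [g1]

theorem gh2_x : gh2 R π (SpinCurv.PolyNodeRing.x R π) =
    LaurentPolynomial.C π * LaurentPolynomial.T 1 := by
  show gh2 R π (Ideal.Quotient.mk _ (MvPolynomial.X 0)) = _
  rw [gh2_mk]
  simp [g2]

theorem gh2_y : gh2 R π (SpinCurv.PolyNodeRing.y R π) = LaurentPolynomial.T (-1) := by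
  show gh2 R π (Ideal.Quotient.mk _ (MvPolynomial.X 1)) = _
  rw [gh2_mk]
  simp [g2]

theorem gamma2_e (γ : SpinCurv.PolyNodeRing R π →ₐ[R] LaurentPolynomial R)
    (hx : γ (SpinCurv.PolyNodeRing.x R π) = LaurentPolynomial.C π * LaurentPolynomial.T 1)
    (hy : γ (SpinCurv.PolyNodeRing.y R π) = LaurentPolynomial.T (-1)) (m : ℤ) :
    γ (e R π m) = LaurentPolynomial.C (π ^ m.toNat) * LaurentPolynomial.T m := by
  have harith : ((m.toNat : ℤ) * 1 + ((-m).toNat : ℤ) * -1) = m := by omega
  rw [e, map_mul, map_pow, map_pow, hx, hy, mul_pow, LaurentPolynomial.T_pow,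
    LaurentPolynomial.T_pow, ← map_pow, mul_assoc, ← LaurentPolynomial.T_add, harith]

theorem coeff_gamma2 (γ : SpinCurv.PolyNodeRing R π →ₐ[R] LaurentPolynomial R)
    (hx : γ (SpinCurv.PolyNodeRing.x R π) = LaurentPolynomial.C π * LaurentPolynomial.T 1)
    (hy : γ (SpinCurv.PolyNodeRing.y R π) = LaurentPolynomial.T (-1))
    (a : ℤ →₀ R) (M : ℤ) :
    (γ (Φ R π a)).coeff M = π ^ M.toNat * a M := by
  induction a using Finsupp.induction_linear with
  | zero => simp
  | add f g hf hg =>
    rw [map_add, map_add, AddMonoidAlgebra.coeff_add, Finsupp.add_apply, Finsupp.add_apply, hf, hg,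
      mul_add]
  | single m r =>
    rw [Φ_single, map_smul, gamma2_e R π γ hx hy, ← LaurentPolynomial.single_eq_C_mul_T,
      AddMonoidAlgebra.coeff_smul, AddMonoidAlgebra.coeff_single, Finsupp.smul_apply,
      Finsupp.single_apply, Finsupp.single_apply]
    split_ifs with h
    · subst h; rw [smul_eq_mul, mul_comm]
    · rw [smul_zero, mul_zero]

end laurent

/-! ### Main theorem -/

section main

variable (A : Type u) [CommRing A] (J : Type u) [AddCommGroup J] [Module A J] [Module Aᵐᵒᵖ J]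
  [IsCentralScalar A J] (τ : TrivSqZeroExt A J)
  (B' : Type u) [CommRing B'] [Algebra (TrivSqZeroExt A J) B'] [Algebra A B']
  [IsScalarTower A (TrivSqZeroExt A J) B']

/-- the key step: a derivation `E ∘ γ` kills the kernel of `kerToTensor` -/
theorem key_gamma (γ : B' →ₐ[TrivSqZeroExt A J] LaurentPolynomial (TrivSqZeroExt A J)) (z : B')
    (h0 : (1 : B' ⧸ Ideal.map (algebraMap (TrivSqZeroExt A J) B') (TrivSqZeroExt.kerIdeal A J))
      ⊗ₜ[B'] KaehlerDifferential.D A B' z = 0) : E A J (γ z) = 0 := by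
  letI : Algebra B' (LaurentPolynomial (TrivSqZeroExt A J)) := γ.toRingHom.toAlgebra
  have halg : ∀ b : B', algebraMap B' (LaurentPolynomial (TrivSqZeroExt A J)) b = γ b :=
    fun b => rfl
  haveI : IsScalarTower A B' (LaurentPolynomial (TrivSqZeroExt A J)) := by
    apply IsScalarTower.of_algebraMap_eq
    intro a
    rw [halg, IsScalarTower.algebraMap_apply A (TrivSqZeroExt A J) B', AlgHom.commutes,
      ← IsScalarTower.algebraMap_apply]
  let δ : Derivation A B' (LaurentPolynomial (TrivSqZeroExt A J)) := (E A J).compAlgebraMap B'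
  have hδ : ∀ b : B', δ b = E A J (γ b) := fun b => rfl
  have hann : ∀ i ∈ Ideal.map (algebraMap (TrivSqZeroExt A J) B') (TrivSqZeroExt.kerIdeal A J),
      ∀ l : LaurentPolynomial (TrivSqZeroExt A J), γ i * E A J l = 0 := by
    intro i hi
    induction hi using Submodule.span_induction with
    | mem w hw =>
      obtain ⟨α, hα, rfl⟩ := hw
      intro l
      rw [AlgHom.commutes, ← LaurentPolynomial.C_eq_algebraMap]
      exact C_mul_E_of_mem A J hα l
    | zero => intro l; rw [map_zero, zero_mul]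
    | add w₁ w₂ _ _ h₁ h₂ => intro l; rw [map_add, add_mul, h₁ l, h₂ l, add_zero]
    | smul b w _ h => intro l; rw [smul_eq_mul, map_mul, mul_assoc, h l, mul_zero]
  have := criterion (R := A) (S := B')
    (Ideal.map (algebraMap (TrivSqZeroExt A J) B') (TrivSqZeroExt.kerIdeal A J)) δ
    (fun i hi s => by
      rw [Algebra.smul_def, halg, hδ]
      exact hann i hi _) z h0
  rw [hδ] at this
  exact this

variable (x y : B')
  (hsurj : Function.Surjective
      (MvPolynomial.aeval ![x, y] : MvPolynomial (Fin 2) (TrivSqZeroExt A J) →ₐ[TrivSqZeroExt A J] B'))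
  (hker : RingHom.ker
      (MvPolynomial.aeval ![x, y] : MvPolynomial (Fin 2) (TrivSqZeroExt A J) →ₐ[TrivSqZeroExt A J] B') =
      Ideal.span {MvPolynomial.X 0 * MvPolynomial.X 1 - MvPolynomial.C τ})

include hker in
/-- the map from the standard node ring to `B'` -/
noncomputable def fh : SpinCurv.PolyNodeRing (TrivSqZeroExt A J) τ →ₐ[TrivSqZeroExt A J] B' :=
  Ideal.Quotient.liftₐ _
    (MvPolynomial.aeval ![x, y] : MvPolynomial (Fin 2) (TrivSqZeroExt A J) →ₐ[TrivSqZeroExt A J] B')
    (fun a ha => by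
      rw [← hker] at ha
      exact ha)

omit [Algebra A B'] [IsScalarTower A (TrivSqZeroExt A J) B'] in
theorem fh_mk (p : MvPolynomial (Fin 2) (TrivSqZeroExt A J)) :
    fh A J τ B' x y hker (Ideal.Quotient.mk _ p) = MvPolynomial.aeval ![x, y] p := rfl

include hsurj in
theorem fh_bijective : Function.Bijective (fh A J τ B' x y hker) := by
  constructor
  · rw [injective_iff_map_eq_zero]
    intro n hn
    obtain ⟨p, rfl⟩ := Ideal.Quotient.mk_surjective n
    rw [fh_mk] at hn
    have : p ∈ RingHom.ker (MvPolynomial.aeval ![x, y] :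
        MvPolynomial (Fin 2) (TrivSqZeroExt A J) →ₐ[TrivSqZeroExt A J] B') := hn
    rw [hker] at this
    exact Ideal.Quotient.eq_zero_iff_mem.mpr this
  · intro b
    obtain ⟨p, rfl⟩ := hsurj b
    exact ⟨Ideal.Quotient.mk _ p, fh_mk A J τ B' x y hker p⟩

include hsurj hker in
theorem main :
    Function.Injective (KaehlerDifferential.kerToTensor A B'
      (B' ⧸ Ideal.map (algebraMap (TrivSqZeroExt A J) B') (TrivSqZeroExt.kerIdeal A J))) := by
  rw [injective_iff_map_eq_zero]
  rintro ⟨z, hz⟩ h0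
  rw [KaehlerDifferential.kerToTensor_apply] at h0
  have hzI : z ∈ Ideal.map (algebraMap (TrivSqZeroExt A J) B') (TrivSqZeroExt.kerIdeal A J) := by
    rw [Ideal.Quotient.algebraMap_eq, Ideal.mk_ker] at hz
    exact hz
  obtain ⟨ε, hε⟩ : ∃ ε : SpinCurv.PolyNodeRing (TrivSqZeroExt A J) τ ≃ₐ[TrivSqZeroExt A J] B',
      ∀ n, ε n = fh A J τ B' x y hker n :=
    ⟨AlgEquiv.ofBijective _ (fh_bijective A J τ B' x y hsurj hker), fun _ => rfl⟩
  -- coordinates
  obtain ⟨n, hn⟩ : ∃ n, n = ε.symm z := ⟨_, rfl⟩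
  obtain ⟨a, ha⟩ : ∃ a, a = Ψ (TrivSqZeroExt A J) τ n := ⟨_, rfl⟩
  have hΦ : Φ (TrivSqZeroExt A J) τ a = n := by rw [ha]; exact Φ_Ψ _ _ n
  -- the coordinates lie in the square-zero ideal
  have hcoord : ∀ M : ℤ, a M ∈ TrivSqZeroExt.kerIdeal A J := by
    intro M
    let c : B' →ₗ[TrivSqZeroExt A J] TrivSqZeroExt A J :=
      (Finsupp.lapply M).comp ((Ψ (TrivSqZeroExt A J) τ).comp ε.symm.toLinearMap)
    have hc : c z = a M := by rw [ha, hn]; rfl
    have hz' : z ∈ (TrivSqZeroExt.kerIdeal A J • (⊤ : Submodule (TrivSqZeroExt A J) B')) := by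
      rw [Ideal.smul_top_eq_map]
      exact hzI
    rw [← hc]
    refine Submodule.smul_induction_on hz' ?_ ?_
    · intro α hα b _
      rw [map_smul, smul_eq_mul]
      exact Ideal.mul_mem_right _ _ hα
    · intro b₁ b₂ h₁ h₂
      rw [map_add]
      exact Ideal.add_mem _ h₁ h₂
  -- the two derivations
  have h1 := key_gamma A J B'
    ((gh1 (TrivSqZeroExt A J) τ).comp (ε.symm : B' →ₐ[TrivSqZeroExt A J] _)) z h0
  have h2 := key_gamma A J B'
    ((gh2 (TrivSqZeroExt A J) τ).comp (ε.symm : B' →ₐ[TrivSqZeroExt A J] _)) z h0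
  have e1 : ((gh1 (TrivSqZeroExt A J) τ).comp (ε.symm : B' →ₐ[TrivSqZeroExt A J] _)) z =
      gh1 (TrivSqZeroExt A J) τ (Φ (TrivSqZeroExt A J) τ a) := by
    rw [hΦ, hn]; rfl
  have e2 : ((gh2 (TrivSqZeroExt A J) τ).comp (ε.symm : B' →ₐ[TrivSqZeroExt A J] _)) z =
      gh2 (TrivSqZeroExt A J) τ (Φ (TrivSqZeroExt A J) τ a) := by
    rw [hΦ, hn]; rfl
  rw [e1] at h1
  rw [e2] at h2
  have ha0 : a = 0 := by
    refine Finsupp.ext fun M => ?_
    rw [Finsupp.zero_apply]
    rcases le_total 0 M with hM | hM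
    · have hc : (E A J (gh1 (TrivSqZeroExt A J) τ (Φ (TrivSqZeroExt A J) τ a))).coeff M = 0 := by
        rw [h1]; rfl
      rw [E_coeff, coeff_gamma _ τ _ (gh1_x _ τ) (gh1_y _ τ)] at hc
      have h0' : (-M).toNat = 0 := by omega
      rw [h0', pow_zero, one_mul, E0_of_mem A J (hcoord M)] at hc
      exact hc
    · have hc : (E A J (gh2 (TrivSqZeroExt A J) τ (Φ (TrivSqZeroExt A J) τ a))).coeff M = 0 := by
        rw [h2]; rfl
      rw [E_coeff, coeff_gamma2 _ τ _ (gh2_x _ τ) (gh2_y _ τ)] at hc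
      have h0' : M.toNat = 0 := by omega
      rw [h0', pow_zero, one_mul, E0_of_mem A J (hcoord M)] at hc
      exact hc
  have hn0 : n = 0 := by rw [← hΦ, ha0, map_zero]
  have hz0 : z = 0 := by
    have : z = ε n := by rw [hn, AlgEquiv.apply_symm_apply]
    rw [this, hn0, map_zero]
  exact Subtype.ext hz0

end main

end Groth.Agent.Lib.Helper6.NodeConormal
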