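import Mathlib

set_option autoImplicit false

namespace Groth.Agent.Lib.Helper6.NonNoeth

open TensorProduct Polynomial

universe u

section

variable {A : Type u} [CommRing A] (t : A)

/-- `Wit t P a`: the polynomial `P` and the element `a` have the same image in `ℚ ⊗ A` -/
def Wit (P : ℚ[X]) (a : A) : Prop :=
  (1 : ℚ) ⊗ₜ[ℤ] a = Polynomial.aeval ((1 : ℚ) ⊗ₜ[ℤ] t) P

variable {t}

theorem Wit.mul {P Q : ℚ[X]} {a b : A} (hP : Wit t P a) (hQ : Wit t Q b) :
    Wit t (P * Q) (a * b) := by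
  unfold Wit at *
  rw [map_mul, ← hP, ← hQ, Algebra.TensorProduct.tmul_mul_tmul, one_mul]

theorem Wit.sub {P Q : ℚ[X]} {a b : A} (hP : Wit t P a) (hQ : Wit t Q b) :
    Wit t (P - Q) (a - b) := by
  unfold Wit at *
  rw [map_sub, ← hP, ← hQ, tmul_sub]

theorem Wit.sum {ι : Type*} (s : Finset ι) (f : ι → ℚ[X]) (g : ι → A)
    (h : ∀ i ∈ s, Wit t (f i) (g i)) : Wit t (∑ i ∈ s, f i) (∑ i ∈ s, g i) := by
  classical
  induction s using Finset.induction_on with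
  | empty => simp [Wit]
  | insert i s hi ih =>
    rw [Finset.sum_insert hi, Finset.sum_insert hi]
    have h1 := h i (Finset.mem_insert_self _ _)
    have h2 := ih (fun j hj => h j (Finset.mem_insert_of_mem hj))
    unfold Wit at *
    rw [map_add, ← h1, ← h2, tmul_add]

variable (t)

theorem wit_map_int (H : ℤ[X]) : Wit t (H.map (Int.castRingHom ℚ)) (Polynomial.aeval t H) := by
  have key : (Algebra.TensorProduct.includeRight : A →ₐ[ℤ] ℚ ⊗[ℤ] A).toRingHom.comp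
      (Polynomial.aeval (R := ℤ) t).toRingHom =
      (Polynomial.aeval (R := ℚ) ((1 : ℚ) ⊗ₜ[ℤ] t)).toRingHom.comp
        (Polynomial.mapRingHom (Int.castRingHom ℚ)) := by
    apply Polynomial.ringHom_ext'
    · exact RingHom.ext_int _ _
    · simp
  exact DFunLike.congr_fun key H

theorem wit_intCast (z : ℤ) : Wit t (z : ℚ[X]) (z : A) := by
  have := wit_map_int t (C z)
  simpa using this

/-- evaluating: ring homs `A → ℚ` are evaluation of the corresponding polynomial -/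
theorem eval_of_wit (χ : A →+* ℚ) {P : ℚ[X]} {a : A} (h : Wit t P a) :
    χ a = P.eval (χ t) := by
  let χ' : ℚ ⊗[ℤ] A →ₐ[ℚ] ℚ := Algebra.TensorProduct.lift (Algebra.ofId ℚ ℚ) χ.toIntAlgHom
    (fun _ _ => Commute.all _ _)
  have h1 : χ' ((1 : ℚ) ⊗ₜ a) = χ a := by simp [χ']
  have h2 : χ'.comp (Polynomial.aeval ((1 : ℚ) ⊗ₜ[ℤ] t)) = Polynomial.aeval (χ t) := by
    apply Polynomial.algHom_ext
    simp [χ']
  unfold Wit at h
  rw [← h1, h, ← AlgHom.comp_apply, h2, Polynomial.coe_aeval_eq_eval]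

end

/-- denominators bounded by powers of `2N` -/
def Good (N : ℤ) (x : ℚ) : Prop := ∃ (m : ℕ) (z : ℤ), x * ((2 * N : ℤ) : ℚ) ^ m = z

theorem good_sub {N : ℤ} {x y : ℚ} (hx : Good N x) (hy : Good N y) : Good N (x - y) := by
  obtain ⟨m, z, hz⟩ := hx
  obtain ⟨m', z', hz'⟩ := hy
  refine ⟨m + m', z * (2 * N) ^ m' - z' * (2 * N) ^ m, ?_⟩
  push_cast at hz hz' ⊢
  rw [← hz, ← hz']
  ring

theorem good_of_mul {N : ℤ} {x : ℚ} (m : ℕ) (h : Good N ((2 : ℚ) ^ m * N * x)) : Good N x := by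
  obtain ⟨k, z, hz⟩ := h
  refine ⟨k + (m + 1), z * 2 * N ^ m, ?_⟩
  push_cast at hz ⊢
  rw [← hz]
  ring

theorem good_of_pow_two {N : ℤ} {x : ℚ} (m : ℕ) (z : ℤ) (h : x * 2 ^ m = z) : Good N x := by
  refine ⟨m, z * N ^ m, ?_⟩
  push_cast
  rw [← h]
  ring

theorem exists_den (h : ℚ[X]) : ∃ n : ℤ, n ≠ 0 ∧ ∃ H : ℤ[X],
    (n : ℚ[X]) * h = H.map (Int.castRingHom ℚ) := by
  obtain ⟨b, hb, hb'⟩ := IsLocalization.integerNormalization_spec (nonZeroDivisors ℤ) h
  refine ⟨b, nonZeroDivisors.ne_zero hb, IsLocalization.integerNormalization (nonZeroDivisors ℤ) h,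
    ?_⟩
  rw [algebraMap_int_eq] at hb'
  rw [hb', zsmul_eq_mul]

theorem main (A : Type u) [CommRing A] (t : A)
    (h1 : Function.Bijective (Polynomial.aeval (R := ℚ) ((1 : ℚ) ⊗ₜ[ℤ] t : ℚ ⊗[ℤ] A)))
    (h0 : ∀ p : ℕ, p.Prime → IsUnit ((p : ℕ) : A ⧸ Ideal.span ({t} : Set A)))
    (s : A →+* Localization.Away (2 : ℤ)) (hs : s t = 1) :
    ¬ IsNoetherianRing A := by
  classical
  intro hnoeth
  let φ : Localization.Away (2 : ℤ) →+* ℚ :=
    IsLocalization.Away.lift (2 : ℤ) (g := Int.castRingHom ℚ) (by norm_num)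
  let χ : A →+* ℚ := φ.comp s
  have hχt : χ t = 1 := by simp [χ, hs]
  have hinj := h1.1
  have hsurj := h1.2
  have hhalf : ∀ y : Localization.Away (2 : ℤ), ∃ (m : ℕ) (z : ℤ),
      y * 2 ^ m = (z : Localization.Away (2 : ℤ)) := by
    intro y
    obtain ⟨⟨z, ⟨d, hd⟩⟩, hzy⟩ := IsLocalization.surj (Submonoid.powers (2 : ℤ)) y
    obtain ⟨m, rfl⟩ := (Submonoid.mem_powers_iff _ _).mp hd
    exact ⟨m, z, by simpa using hzy⟩
  obtain ⟨gs, hgs⟩ := (isNoetherianRing_iff_ideal_fg A).mp hnoeth (RingHom.ker s)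
  choose Pa hPa' using fun a : A => hsurj ((1 : ℚ) ⊗ₜ[ℤ] a)
  have hPa : ∀ a, Wit t (Pa a) a := fun a => (hPa' a).symm
  have hroot : ∀ g ∈ RingHom.ker s, (Pa g).IsRoot 1 := by
    intro g hg
    rw [Polynomial.IsRoot, ← hχt, ← eval_of_wit t χ (hPa g)]
    simp [χ, RingHom.mem_ker.mp hg]
  choose dn hdn0 dH hdH using exists_den
  let N : ℤ := ∏ g ∈ gs, dn (Pa g /ₘ (X - C 1))
  have hN0 : N ≠ 0 := Finset.prod_ne_zero_iff.mpr (fun g _ => hdn0 _)
  have hNh : ∀ g ∈ gs, ∃ b : A, Wit t ((N : ℚ[X]) * (Pa g /ₘ (X - C 1))) b := by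
    intro g hg
    have e1 : (N : ℚ[X]) = ((∏ g' ∈ gs.erase g, dn (Pa g' /ₘ (X - C 1)) : ℤ) : ℚ[X]) *
        ((dn (Pa g /ₘ (X - C 1)) : ℤ) : ℚ[X]) := by
      rw [← Int.cast_mul, Finset.prod_erase_mul _ _ hg]
    rw [e1, mul_assoc, hdH]
    exact ⟨_, (wit_intCast t _).mul (wit_map_int t _)⟩
  -- key step
  have key : ∀ (P : ℚ[X]) (a : A), Wit t P a → ∃ m : ℕ,
      (∃ b : A, Wit t ((C ((2 : ℚ) ^ m * N)) * ((P - C (P.eval 1)) /ₘ (X - C 1))) b) ∧
        Good N (P.eval 1) := by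
    intro P a ha
    obtain ⟨m, z, hmz⟩ := hhalf (s a)
    have hc : P.eval 1 = φ (s a) := by
      have h3 := eval_of_wit t χ ha
      rw [hχt] at h3
      exact h3.symm
    have hmz' : P.eval 1 * 2 ^ m = z := by
      rw [hc]
      have h3 := congrArg φ hmz
      simp only [map_mul, map_pow, map_ofNat, map_intCast] at h3
      exact h3
    refine ⟨m, ?_, good_of_pow_two m z hmz'⟩
    have ha' : ((2 ^ m : ℤ) : A) * a - (z : A) ∈ Ideal.span (gs : Set A) := by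
      rw [hgs, RingHom.mem_ker, map_sub, map_mul, map_intCast, map_intCast, mul_comm]
      push_cast
      rw [hmz, sub_self]
    obtain ⟨cf, -, hcf⟩ := Submodule.mem_span_finset.mp ha'
    have W1 : Wit t (((2 ^ m : ℤ) : ℚ[X]) * P - (z : ℚ[X])) (((2 ^ m : ℤ) : A) * a - (z : A)) :=
      ((wit_intCast t _).mul ha).sub (wit_intCast t z)
    have W2 : Wit t (∑ g ∈ gs, Pa (cf g) * Pa g) (∑ g ∈ gs, cf g * g) :=
      Wit.sum gs _ _ (fun g _ => (hPa (cf g)).mul (hPa g))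
    have hcf' : ∑ g ∈ gs, cf g * g = ((2 ^ m : ℤ) : A) * a - (z : A) := by
      rw [← hcf]
      exact Finset.sum_congr rfl (fun g _ => (smul_eq_mul ..).symm)
    rw [hcf'] at W2
    have e2 : ((2 ^ m : ℤ) : ℚ[X]) * P - (z : ℚ[X]) = ∑ g ∈ gs, Pa (cf g) * Pa g :=
      hinj (W1.symm.trans W2)
    have e3 : ∀ g ∈ gs, Pa g = (X - C 1) * (Pa g /ₘ (X - C 1)) := by
      intro g hg
      have hgk : g ∈ RingHom.ker s := by
        rw [← hgs]
        exact Ideal.subset_span hg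
      exact (Polynomial.mul_divByMonic_eq_iff_isRoot.mpr (hroot g hgk)).symm
    have e4 : (P - C (P.eval 1)) = (X - C 1) * ((P - C (P.eval 1)) /ₘ (X - C 1)) := by
      refine (Polynomial.mul_divByMonic_eq_iff_isRoot.mpr ?_).symm
      simp [Polynomial.IsRoot]
    have e5 : ((2 ^ m : ℤ) : ℚ[X]) * P - (z : ℚ[X]) = C ((2 : ℚ) ^ m) * (P - C (P.eval 1)) := by
      have hC2 : ((2 ^ m : ℤ) : ℚ[X]) = C ((2 : ℚ) ^ m) := by
        rw [← map_intCast (C : ℚ →+* ℚ[X])]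
        push_cast
        rfl
      rw [mul_sub, ← C_mul, mul_comm _ (P.eval 1), hmz', hC2, map_intCast]
    have e6 : C ((2 : ℚ) ^ m) * ((P - C (P.eval 1)) /ₘ (X - C 1)) =
        ∑ g ∈ gs, Pa (cf g) * (Pa g /ₘ (X - C 1)) := by
      apply mul_left_cancel₀ (Polynomial.X_sub_C_ne_zero (1 : ℚ))
      rw [mul_left_comm, ← e4, ← e5, e2, Finset.mul_sum]
      refine Finset.sum_congr rfl fun g hg => ?_
      rw [mul_left_comm, ← e3 g hg]
    choose! bb hbb using hNh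
    refine ⟨∑ g ∈ gs, cf g * bb g, ?_⟩
    have e7 : C ((2 : ℚ) ^ m * N) * ((P - C (P.eval 1)) /ₘ (X - C 1)) =
        ∑ g ∈ gs, Pa (cf g) * ((N : ℚ[X]) * (Pa g /ₘ (X - C 1))) := by
      rw [mul_comm ((2 : ℚ) ^ m) (N : ℚ), C_mul, mul_assoc, e6, Finset.mul_sum]
      refine Finset.sum_congr rfl fun g _ => ?_
      rw [mul_left_comm]
      simp
    rw [e7]
    exact Wit.sum gs _ _ (fun g hg => (hPa (cf g)).mul (hbb g hg))
  -- induction on degree
  have star : ∀ (d : ℕ) (P : ℚ[X]) (a : A), Wit t P a → P.natDegree ≤ d → Good N (P.eval 0) := by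
    intro d
    induction d with
    | zero =>
      intro P a ha hd
      obtain ⟨m, -, hg⟩ := key P a ha
      rw [Polynomial.eq_C_of_natDegree_le_zero hd] at hg ⊢
      simpa using hg
    | succ d ih =>
      intro P a ha hd
      obtain ⟨m, ⟨b, hb⟩, hg⟩ := key P a ha
      have e4 : (P - C (P.eval 1)) = (X - C 1) * ((P - C (P.eval 1)) /ₘ (X - C 1)) := by
        refine (Polynomial.mul_divByMonic_eq_iff_isRoot.mpr ?_).symm
        simp [Polynomial.IsRoot]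
      have hdeg : (C ((2 : ℚ) ^ m * N) * ((P - C (P.eval 1)) /ₘ (X - C 1))).natDegree ≤ d := by
        refine (Polynomial.natDegree_C_mul_le _ _).trans ?_
        rw [Polynomial.natDegree_divByMonic _ (Polynomial.monic_X_sub_C 1),
          Polynomial.natDegree_X_sub_C]
        have h5 : (P - C (P.eval 1)).natDegree ≤ d + 1 :=
          (Polynomial.natDegree_sub_le _ _).trans (max_le hd (by simp))
        omega
      have hQ := ih _ b hb hdeg
      rw [Polynomial.eval_mul, Polynomial.eval_C] at hQ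
      have hQ' := good_of_mul m hQ
      have e8 : P.eval 0 = P.eval 1 - ((P - C (P.eval 1)) /ₘ (X - C 1)).eval 0 := by
        have h6 := congrArg (Polynomial.eval 0) e4
        simp only [Polynomial.eval_sub, Polynomial.eval_C, Polynomial.eval_mul,
          Polynomial.eval_X] at h6
        linarith
      rw [e8]
      exact good_sub hg hQ'
  -- a large prime
  obtain ⟨p, hp2N, hp⟩ := Nat.exists_infinite_primes (2 * N.natAbs + 1)
  obtain ⟨u, hu⟩ := (h0 p hp).exists_right_inv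
  obtain ⟨f, rfl⟩ := Ideal.Quotient.mk_surjective u
  have hmem : (p : A) * f - 1 ∈ Ideal.span ({t} : Set A) := by
    rw [← Ideal.Quotient.eq_zero_iff_mem, map_sub, map_mul, map_natCast, map_one, hu, sub_self]
  obtain ⟨g, hg⟩ := Ideal.mem_span_singleton'.mp hmem
  have W3 : Wit t (((p : ℤ) : ℚ[X]) * Pa f - ((1 : ℤ) : ℚ[X])) (((p : ℤ) : A) * f - ((1 : ℤ) : A)) :=
    ((wit_intCast t _).mul (hPa f)).sub (wit_intCast t 1)
  have W4 : Wit t (Pa g * X) (g * t) := by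
    refine (hPa g).mul ?_
    unfold Wit
    simp
  have e9 : ((p : ℤ) : ℚ[X]) * Pa f - ((1 : ℤ) : ℚ[X]) = Pa g * X := by
    apply hinj
    rw [← W3, ← W4, hg]
    simp
  have e10 : (p : ℚ) * (Pa f).eval 0 = 1 := by
    have h7 := congrArg (Polynomial.eval 0) e9
    simp at h7
    linarith
  obtain ⟨m, z, hz⟩ := star _ (Pa f) f (hPa f) le_rfl
  have hp0 : (p : ℚ) ≠ 0 := Nat.cast_ne_zero.mpr hp.ne_zero
  have e11 : ((2 * N) ^ m : ℤ) = (p : ℤ) * z := by
    have h8 : (((2 * N) ^ m : ℤ) : ℚ) = ((p : ℤ) : ℚ) * z := by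
      push_cast at hz ⊢
      rw [← hz, ← mul_assoc, e10, one_mul]
    exact_mod_cast h8
  have hdvd : (p : ℤ) ∣ 2 * N :=
    Int.Prime.dvd_pow' hp (Dvd.intro _ e11.symm)
  have hle : p ≤ 2 * N.natAbs := by
    have h9 : p ∣ (2 * N).natAbs := Int.natCast_dvd.mp hdvd
    rw [Int.natAbs_mul] at h9
    exact Nat.le_of_dvd (by have := Int.natAbs_pos.mpr hN0; simp; omega) h9
  omega

end Groth.Agent.Lib.Helper6.NonNoeth
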