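import Mathlib

/-!
Norms of elements of `B ⊗ R` (with `B` the integral closure of an integrally closed domain `A` in a
finite extension `L` of its fraction field `K`) for the finite free extension `L ⊗ R / K ⊗ R`.

The norm is the value of a universal norm form with coefficients in `A`: the determinant of the
universal matrix over a polynomial ring is integral over `A[T]` (its eigenvalues are), hence has
coefficients in `A`. Regularity is detected by the determinant (McCoy).
-/

set_option autoImplicit false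
universe u

namespace Groth.Agent.Lib.Helper6.NormBC

open scoped TensorProduct

section DetInt

variable {𝔸 F : Type*} [CommRing 𝔸] [Field F] [Algebra 𝔸 F] {n : Type*} [Fintype n]
  [DecidableEq n]

/-- The determinant of a matrix over a field which is integral over `𝔸` is integral over `𝔸`. -/
theorem isIntegral_det_of_isIntegral (M : Matrix n n F) (hM : IsIntegral 𝔸 M) :
    IsIntegral 𝔸 M.det := by
  rcases isEmpty_or_nonempty n with hn | hn
  · rw [Matrix.det_isEmpty]
    exact isIntegral_one
  obtain ⟨g, hg, hg0⟩ := hM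
  have hinj : Function.Injective (algebraMap F (AlgebraicClosure F)) :=
    (algebraMap F (AlgebraicClosure F)).injective
  rw [← isIntegral_algebraMap_iff hinj]
  obtain ⟨J, hJ⟩ : ∃ J : Matrix n n F →ₐ[𝔸] Matrix n n (AlgebraicClosure F),
      J = (IsScalarTower.toAlgHom 𝔸 F (AlgebraicClosure F)).mapMatrix := ⟨_, rfl⟩
  have hdet : algebraMap F (AlgebraicClosure F) M.det = (J M).det := by
    rw [hJ]
    exact AlgHom.map_det (IsScalarTower.toAlgHom 𝔸 F (AlgebraicClosure F)) M
  rw [hdet, Matrix.det_eq_prod_roots_charpoly]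
  apply IsIntegral.multiset_prod
  intro μ hμ
  refine ⟨g, hg, ?_⟩
  have hroot : (J M).charpoly.IsRoot μ :=
    (Polynomial.mem_roots (Matrix.charpoly_monic _).ne_zero).1 hμ
  have hspec : μ ∈ spectrum (AlgebraicClosure F) (J M) :=
    Matrix.mem_spectrum_iff_isRoot_charpoly.2 hroot
  have hJ0 : Polynomial.aeval (J M) g = 0 := by
    rw [Polynomial.aeval_algHom_apply]
    have h0 : Polynomial.aeval M g = 0 := hg0
    rw [h0, map_zero]
  have hp : Polynomial.aeval (J M) (g.map (algebraMap 𝔸 (AlgebraicClosure F))) = 0 := by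
    rw [Polynomial.aeval_map_algebraMap]
    exact hJ0
  have hmem : Polynomial.eval μ (g.map (algebraMap 𝔸 (AlgebraicClosure F))) ∈
      spectrum (AlgebraicClosure F)
        (Polynomial.aeval (J M) (g.map (algebraMap 𝔸 (AlgebraicClosure F)))) :=
    spectrum.subset_polynomial_aeval (J M) (g.map (algebraMap 𝔸 (AlgebraicClosure F)))
      ⟨μ, hspec, rfl⟩
  rw [hp, spectrum.zero_eq, Set.mem_singleton_iff, Polynomial.eval_map] at hmem
  exact hmem

end DetInt

section Basis

variable (k K L R : Type u) [Field k] [Field K] [Algebra k K] [Field L] [Algebra K L]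
  [Algebra k L] [IsScalarTower k K L] [CommRing R] [Algebra k R]

/-- The ring map `K ⊗ R → L ⊗ R`. -/
noncomputable abbrev PhiKL : (K ⊗[k] R) →+* (L ⊗[k] R) :=
  (Algebra.TensorProduct.map (IsScalarTower.toAlgHom k K L) (AlgHom.id k R)).toRingHom

variable [Algebra (K ⊗[k] R) (L ⊗[k] R)]

theorem smul_tmul_tmul (halg : algebraMap (K ⊗[k] R) (L ⊗[k] R) = PhiKL k K L R)
    (κ : K) (r : R) (l : L) (s : R) :
    ((κ ⊗ₜ[k] r : K ⊗[k] R) • (l ⊗ₜ[k] s : L ⊗[k] R)) = (κ • l) ⊗ₜ[k] (r * s) := by
  rw [Algebra.smul_def (κ ⊗ₜ[k] r : K ⊗[k] R) (l ⊗ₜ[k] s : L ⊗[k] R), halg]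
  show (Algebra.TensorProduct.map (IsScalarTower.toAlgHom k K L) (AlgHom.id k R)) (κ ⊗ₜ[k] r) *
    (l ⊗ₜ[k] s) = _
  rw [Algebra.TensorProduct.map_tmul, Algebra.TensorProduct.tmul_mul_tmul, Algebra.smul_def κ l]
  rfl

variable {ι : Type*} [Fintype ι] [DecidableEq ι] (e : Module.Basis ι K L)

/-- Coordinates with respect to `e ⊗ 1`. -/
noncomputable def Gk : (L ⊗[k] R) →ₗ[k] (ι → K ⊗[k] R) :=
  LinearMap.pi fun i => LinearMap.rTensor R ((e.coord i).restrictScalars k)

theorem Gk_tmul (l : L) (s : R) (i : ι) :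
    Gk k K L R e (l ⊗ₜ[k] s) i = (e.repr l i) ⊗ₜ[k] s := by
  unfold Gk
  rw [LinearMap.pi_apply, LinearMap.rTensor_tmul, LinearMap.restrictScalars_apply,
    Module.Basis.coord_apply]

theorem Gk_smul (halg : algebraMap (K ⊗[k] R) (L ⊗[k] R) = PhiKL k K L R)
    (c : K ⊗[k] R) (x : L ⊗[k] R) : Gk k K L R e (c • x) = c • Gk k K L R e x := by
  induction c using TensorProduct.induction_on with
  | zero => rw [zero_smul, zero_smul, map_zero]
  | add c d hc hd => rw [add_smul, add_smul, map_add, hc, hd]
  | tmul κ r =>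
    induction x using TensorProduct.induction_on with
    | zero => rw [smul_zero, map_zero, smul_zero]
    | add x y hx hy => rw [smul_add, map_add, map_add, smul_add, hx, hy]
    | tmul l s =>
      funext i
      rw [smul_tmul_tmul k K L R halg, Gk_tmul, Pi.smul_apply, Gk_tmul, smul_eq_mul,
        Algebra.TensorProduct.tmul_mul_tmul, map_smul, Finsupp.smul_apply, smul_eq_mul]

/-- The linear combination map of the family `e ⊗ 1`. -/
noncomputable def Fk : (ι → K ⊗[k] R) →ₗ[K ⊗[k] R] (L ⊗[k] R) :=
  Fintype.linearCombination (K ⊗[k] R) (fun i => ((e i) ⊗ₜ[k] (1 : R) : L ⊗[k] R))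

theorem Fk_apply (c : ι → K ⊗[k] R) :
    Fk k K L R e c = ∑ i, c i • ((e i) ⊗ₜ[k] (1 : R) : L ⊗[k] R) :=
  Fintype.linearCombination_apply _ _ _

theorem Fk_Gk (halg : algebraMap (K ⊗[k] R) (L ⊗[k] R) = PhiKL k K L R) (x : L ⊗[k] R) :
    Fk k K L R e (Gk k K L R e x) = x := by
  induction x using TensorProduct.induction_on with
  | zero => rw [map_zero, map_zero]
  | add x y hx hy => rw [map_add, map_add, hx, hy]
  | tmul l s =>
    rw [Fk_apply]
    have h1 : ∀ i, Gk k K L R e (l ⊗ₜ[k] s) i • ((e i) ⊗ₜ[k] (1 : R) : L ⊗[k] R) =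
        ((e.repr l i) • e i) ⊗ₜ[k] s := by
      intro i
      rw [Gk_tmul, smul_tmul_tmul k K L R halg, mul_one]
    rw [Finset.sum_congr rfl (fun i _ => h1 i), ← TensorProduct.sum_tmul, e.sum_repr]

theorem Gk_Fk (halg : algebraMap (K ⊗[k] R) (L ⊗[k] R) = PhiKL k K L R)
    (c : ι → K ⊗[k] R) : Gk k K L R e (Fk k K L R e c) = c := by
  rw [Fk_apply, map_sum]
  have h1 : ∀ i, Gk k K L R e ((e i) ⊗ₜ[k] (1 : R)) = Pi.single i 1 := by
    intro i
    funext j
    rw [Gk_tmul, e.repr_self]
    by_cases h : i = j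
    · subst h
      rw [Finsupp.single_eq_same, Pi.single_eq_same, Algebra.TensorProduct.one_def]
    · rw [Finsupp.single_apply, if_neg h, Pi.single_apply, if_neg (Ne.symm h),
        TensorProduct.zero_tmul]
  funext j
  rw [Finset.sum_apply]
  have h2 : ∀ i, Gk k K L R e (c i • ((e i) ⊗ₜ[k] (1 : R) : L ⊗[k] R)) j =
      if j = i then c i else 0 := by
    intro i
    rw [Gk_smul k K L R e halg, h1, Pi.smul_apply, Pi.single_apply, smul_eq_mul, mul_ite, mul_one,
      mul_zero]
  rw [Finset.sum_congr rfl (fun i _ => h2 i), Finset.sum_ite_eq, if_pos (Finset.mem_univ j)]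

/-- `L ⊗ R` is free over `K ⊗ R` with coordinates `Gk`. -/
noncomputable def equivKR (halg : algebraMap (K ⊗[k] R) (L ⊗[k] R) = PhiKL k K L R) :
    (L ⊗[k] R) ≃ₗ[K ⊗[k] R] (ι → K ⊗[k] R) where
  toFun := Gk k K L R e
  map_add' := (Gk k K L R e).map_add
  map_smul' := fun c x => by
    rw [RingHom.id_apply]
    exact Gk_smul k K L R e halg c x
  invFun := Fk k K L R e
  left_inv := Fk_Gk k K L R e halg
  right_inv := Gk_Fk k K L R e halg

/-- The basis `e ⊗ 1` of `L ⊗ R` over `K ⊗ R`. -/
noncomputable def EK (halg : algebraMap (K ⊗[k] R) (L ⊗[k] R) = PhiKL k K L R) :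
    Module.Basis ι (K ⊗[k] R) (L ⊗[k] R) :=
  Module.Basis.ofEquivFun (equivKR k K L R e halg)

theorem EK_repr (halg : algebraMap (K ⊗[k] R) (L ⊗[k] R) = PhiKL k K L R) (x : L ⊗[k] R)
    (i : ι) : (EK k K L R e halg).repr x i = Gk k K L R e x i :=
  Module.Basis.ofEquivFun_repr_apply _ _ _

theorem EK_apply (halg : algebraMap (K ⊗[k] R) (L ⊗[k] R) = PhiKL k K L R) (i : ι) :
    EK k K L R e halg i = (e i) ⊗ₜ[k] (1 : R) := by
  unfold EK
  rw [Module.Basis.coe_ofEquivFun]
  show Fk k K L R e (Pi.single i 1) = _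
  rw [Fk_apply, Finset.sum_eq_single i]
  · rw [Pi.single_eq_same, one_smul]
  · intro j _ hji
    rw [Pi.single_eq_of_ne hji, zero_smul]
  · intro h
    exact absurd (Finset.mem_univ i) h

theorem leftMulMatrix_EK_sum (halg : algebraMap (K ⊗[k] R) (L ⊗[k] R) = PhiKL k K L R)
    {τ : Type*} (S : Finset τ) (l : τ → L) (s : τ → R) :
    Algebra.leftMulMatrix (EK k K L R e halg) (∑ p ∈ S, ((l p) ⊗ₜ[k] (s p) : L ⊗[k] R)) =
      ∑ p ∈ S, (Algebra.leftMulMatrix e (l p)).map (fun κ => (κ ⊗ₜ[k] (s p) : K ⊗[k] R)) := by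
  ext i j
  rw [Algebra.leftMulMatrix_eq_repr_mul, EK_repr, EK_apply, Finset.sum_mul, map_sum,
    Finset.sum_apply, Matrix.sum_apply]
  apply Finset.sum_congr rfl
  intro p _
  rw [Algebra.TensorProduct.tmul_mul_tmul, mul_one, Gk_tmul, Matrix.map_apply,
    Algebra.leftMulMatrix_eq_repr_mul]

/-- The universal matrix `∑ T_p M(l_p)`. -/
noncomputable def univMat {τ : Type*} (S : Finset τ) (l : τ → L) :
    Matrix ι ι (MvPolynomial τ K) :=
  ∑ p ∈ S, (Algebra.leftMulMatrix e (l p)).map
    (fun κ => (MvPolynomial.C κ * MvPolynomial.X p : MvPolynomial τ K))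

/-- Evaluation `T_p ↦ 1 ⊗ s_p`. -/
noncomputable def evK {τ : Type*} (s : τ → R) : MvPolynomial τ K →+* K ⊗[k] R :=
  MvPolynomial.eval₂Hom (Algebra.TensorProduct.includeLeftRingHom : K →+* K ⊗[k] R)
    (fun p => ((1 : K) ⊗ₜ[k] s p : K ⊗[k] R))

theorem univMat_map_evK {τ : Type*} (S : Finset τ) (l : τ → L) (s : τ → R) :
    (univMat K L e S l).map (evK k K R s) =
      ∑ p ∈ S, (Algebra.leftMulMatrix e (l p)).map (fun κ => (κ ⊗ₜ[k] (s p) : K ⊗[k] R)) := by
  ext i j
  unfold univMat evK
  rw [Matrix.map_apply, Matrix.sum_apply, Matrix.sum_apply, map_sum]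
  apply Finset.sum_congr rfl
  intro p _
  rw [Matrix.map_apply, Matrix.map_apply, map_mul, MvPolynomial.eval₂Hom_C,
    MvPolynomial.eval₂Hom_X', Algebra.TensorProduct.includeLeftRingHom_apply,
    Algebra.TensorProduct.tmul_mul_tmul, mul_one, one_mul]

theorem norm_sum_eq (halg : algebraMap (K ⊗[k] R) (L ⊗[k] R) = PhiKL k K L R)
    {τ : Type*} (S : Finset τ) (l : τ → L) (s : τ → R) :
    Algebra.norm (K ⊗[k] R) (∑ p ∈ S, ((l p) ⊗ₜ[k] (s p) : L ⊗[k] R)) =
      evK k K R s (univMat K L e S l).det := by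
  rw [Algebra.norm_eq_matrix_det (EK k K L R e halg), leftMulMatrix_EK_sum, RingHom.map_det,
    RingHom.mapMatrix_apply, univMat_map_evK]

end Basis

section Integral

open scoped IsMulCommutative

/-- The determinant of the universal matrix has coefficients in `A`. -/
theorem exists_univMat_det_eq_map (K L : Type u) [Field K] [Field L] [Algebra K L]
    {ι : Type*} [Fintype ι] [DecidableEq ι] (e : Module.Basis ι K L)
    (A : Type u) [CommRing A] [IsDomain A] [IsIntegrallyClosed A] [Algebra A K]
    [IsFractionRing A K] [Algebra A L] [IsScalarTower A K L]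
    {τ : Type u} (S : Finset τ) (l : τ → L) (hl : ∀ p ∈ S, IsIntegral A (l p)) :
    ∃ D₀ : MvPolynomial τ A, MvPolynomial.map (algebraMap A K) D₀ = (univMat K L e S l).det := by
  classical
  letI : Algebra (MvPolynomial τ A) (MvPolynomial τ K) := MvPolynomial.algebraMvPolynomial
  obtain ⟨ρ, hρ⟩ : ∃ ρ : L →+* Matrix ι ι (FractionRing (MvPolynomial τ K)),
      ρ = ((algebraMap K (FractionRing (MvPolynomial τ K))).mapMatrix).comp
        ((Algebra.leftMulMatrix e : L →ₐ[K] Matrix ι ι K) : L →+* Matrix ι ι K) := ⟨_, rfl⟩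
  have hρapp : ∀ x i j, ρ x i j =
      algebraMap K (FractionRing (MvPolynomial τ K)) (Algebra.leftMulMatrix e x i j) := by
    intro x i j
    rw [hρ]
    rfl
  -- the universal matrix over the fraction field
  have hM : (univMat K L e S l).map
      (algebraMap (MvPolynomial τ K) (FractionRing (MvPolynomial τ K))) =
      ∑ p ∈ S, (MvPolynomial.X p : MvPolynomial τ A) • ρ (l p) := by
    ext i j
    unfold univMat
    rw [Matrix.map_apply, Matrix.sum_apply, Matrix.sum_apply, map_sum]
    apply Finset.sum_congr rfl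
    intro p _
    have hX : algebraMap (MvPolynomial τ K) (FractionRing (MvPolynomial τ K))
        (MvPolynomial.X p) =
        algebraMap (MvPolynomial τ A) (FractionRing (MvPolynomial τ K)) (MvPolynomial.X p) := by
      rw [IsScalarTower.algebraMap_apply (MvPolynomial τ A) (MvPolynomial τ K)
        (FractionRing (MvPolynomial τ K)), MvPolynomial.algebraMap_def, MvPolynomial.map_X]
    have hC : ∀ κ : K, algebraMap (MvPolynomial τ K) (FractionRing (MvPolynomial τ K))
        (MvPolynomial.C κ) = algebraMap K (FractionRing (MvPolynomial τ K)) κ := by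
      intro κ
      rw [IsScalarTower.algebraMap_apply K (MvPolynomial τ K)
        (FractionRing (MvPolynomial τ K)), MvPolynomial.algebraMap_eq]
    rw [Matrix.map_apply, Matrix.smul_apply, hρapp, map_mul, hX, hC, Algebra.smul_def, mul_comm]
  -- compatibility of scalars
  have hcompat : (algebraMap (MvPolynomial τ A)
      (Matrix ι ι (FractionRing (MvPolynomial τ K)))).comp
      (MvPolynomial.C : A →+* MvPolynomial τ A) = ρ.comp (algebraMap A L) := by
    ext a i j
    rw [RingHom.comp_apply, RingHom.comp_apply, Matrix.algebraMap_matrix_apply, hρapp,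
      IsScalarTower.algebraMap_apply A K L, AlgHom.commutes, Matrix.algebraMap_matrix_apply]
    by_cases hij : i = j
    · rw [if_pos hij, if_pos hij, IsScalarTower.algebraMap_apply (MvPolynomial τ A)
        (MvPolynomial τ K) (FractionRing (MvPolynomial τ K)), MvPolynomial.algebraMap_def,
        MvPolynomial.map_C, Algebra.algebraMap_self, RingHom.id_apply,
        IsScalarTower.algebraMap_apply K (MvPolynomial τ K)
          (FractionRing (MvPolynomial τ K)), MvPolynomial.algebraMap_eq]
    · rw [if_neg hij, if_neg hij, map_zero]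
  have hint0 : ∀ p ∈ S, IsIntegral (MvPolynomial τ A) (ρ (l p)) := by
    intro p hp
    obtain ⟨h, hmonic, hh⟩ := hl p hp
    refine ⟨h.map MvPolynomial.C, hmonic.map _, ?_⟩
    rw [Polynomial.eval₂_map, hcompat, ← Polynomial.hom_eval₂, hh, map_zero]
  have hρcomm : ∀ a ∈ Set.range ρ, ∀ b ∈ Set.range ρ, a * b = b * a := by
    rintro _ ⟨x, rfl⟩ _ ⟨y, rfl⟩
    rw [← map_mul, ← map_mul, mul_comm]
  haveI := Algebra.isMulCommutative_adjoin (MvPolynomial τ A) hρcomm
  have hmem : ∀ x, ρ x ∈ Algebra.adjoin (MvPolynomial τ A) (Set.range ρ) :=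
    fun x => Algebra.subset_adjoin ⟨x, rfl⟩
  have hint1 : ∀ p ∈ S, IsIntegral (MvPolynomial τ A)
      (⟨ρ (l p), hmem _⟩ : Algebra.adjoin (MvPolynomial τ A) (Set.range ρ)) := fun p hp =>
    (isIntegral_algHom_iff (Algebra.adjoin (MvPolynomial τ A) (Set.range ρ)).val
      Subtype.val_injective).1 (hint0 p hp)
  have hsum : IsIntegral (MvPolynomial τ A) (∑ p ∈ S, (MvPolynomial.X p : MvPolynomial τ A) •
      (⟨ρ (l p), hmem _⟩ : Algebra.adjoin (MvPolynomial τ A) (Set.range ρ))) := by
    apply IsIntegral.sum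
    intro p hp
    rw [Algebra.smul_def]
    exact isIntegral_algebraMap.mul (hint1 p hp)
  have hsum' : IsIntegral (MvPolynomial τ A)
      (∑ p ∈ S, (MvPolynomial.X p : MvPolynomial τ A) • ρ (l p)) := by
    have h := hsum.map (Algebra.adjoin (MvPolynomial τ A) (Set.range ρ)).val
    rw [map_sum] at h
    simp only [map_smul] at h
    exact h
  have hint : IsIntegral (MvPolynomial τ A) (univMat K L e S l).det := by
    rw [← isIntegral_algebraMap_iff (IsFractionRing.injective (MvPolynomial τ K)
      (FractionRing (MvPolynomial τ K))), RingHom.map_det, RingHom.mapMatrix_apply, hM]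
    exact isIntegral_det_of_isIntegral _ hsum'
  have hco := MvPolynomial.isIntegral_iff_isIntegral_coeff.1 hint
  have hrange : (univMat K L e S l).det ∈ Set.range (MvPolynomial.map (algebraMap A K)) := by
    rw [MvPolynomial.mem_range_map_iff_coeffs_subset]
    intro c hc
    obtain ⟨d, _, rfl⟩ := MvPolynomial.mem_coeffs_iff.1 (Finset.mem_coe.1 hc)
    exact IsIntegrallyClosed.isIntegral_iff.1 (hco d)
  exact hrange

end Integral

section Main

variable (k A K L R : Type u) [Field k]
    [CommRing A] [IsDomain A] [IsIntegrallyClosed A] [Algebra k A]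
    [Field K] [Algebra A K] [IsFractionRing A K] [Algebra k K] [IsScalarTower k A K]
    [Field L] [Algebra K L] [FiniteDimensional K L] [Algebra A L] [IsScalarTower A K L]
    [Algebra k L] [IsScalarTower k K L] [IsScalarTower k A L]
    [CommRing R] [Algebra k R]

/-- Evaluation `T_p ↦ 1 ⊗ s_p` over `A`. -/
noncomputable def evA {τ : Type*} (s : τ → R) : MvPolynomial τ A →+* A ⊗[k] R :=
  MvPolynomial.eval₂Hom (Algebra.TensorProduct.includeLeftRingHom : A →+* A ⊗[k] R)
    (fun p => ((1 : A) ⊗ₜ[k] s p : A ⊗[k] R))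

theorem evK_map {τ : Type*} (s : τ → R) (D : MvPolynomial τ A) :
    evK k K R s (MvPolynomial.map (algebraMap A K) D) =
      Algebra.TensorProduct.map (IsScalarTower.toAlgHom k A K) (AlgHom.id k R)
        (evA k A R s D) := by
  have h : (evK k K R s).comp (MvPolynomial.map (algebraMap A K)) =
      ((Algebra.TensorProduct.map (IsScalarTower.toAlgHom k A K)
        (AlgHom.id k R)).toRingHom).comp (evA k A R s) := by
    apply MvPolynomial.ringHom_ext
    · intro a
      rw [RingHom.comp_apply, RingHom.comp_apply, MvPolynomial.map_C]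
      unfold evK evA
      rw [MvPolynomial.eval₂Hom_C, MvPolynomial.eval₂Hom_C,
        Algebra.TensorProduct.includeLeftRingHom_apply,
        Algebra.TensorProduct.includeLeftRingHom_apply]
      exact (Algebra.TensorProduct.map_tmul (IsScalarTower.toAlgHom k A K) (AlgHom.id k R)
        a 1).symm
    · intro p
      rw [RingHom.comp_apply, RingHom.comp_apply, MvPolynomial.map_X]
      unfold evK evA
      rw [MvPolynomial.eval₂Hom_X', MvPolynomial.eval₂Hom_X']
      refine Eq.trans ?_ (Algebra.TensorProduct.map_tmul (IsScalarTower.toAlgHom k A K)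
        (AlgHom.id k R) 1 (s p)).symm
      rw [map_one]
      rfl
  exact RingHom.congr_fun h D

theorem Psi_injective : Function.Injective (Algebra.TensorProduct.map
    ((integralClosure A L).val.restrictScalars k) (AlgHom.id k R)) := by
  have hψ : Function.Injective
      (((integralClosure A L).val.restrictScalars k).toLinearMap) := Subtype.val_injective
  have h := Module.Flat.rTensor_preserves_injective_linearMap (M := R)
    (((integralClosure A L).val.restrictScalars k).toLinearMap) hψ
  have key : ∀ z, (LinearMap.rTensor R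
      ((integralClosure A L).val.restrictScalars k).toLinearMap) z =
      Algebra.TensorProduct.map ((integralClosure A L).val.restrictScalars k)
        (AlgHom.id k R) z := by
    intro z
    induction z using TensorProduct.induction_on with
    | zero => rw [map_zero, map_zero]
    | tmul a r =>
      exact (LinearMap.rTensor_tmul R
        ((integralClosure A L).val.restrictScalars k).toLinearMap r a).trans
        (Algebra.TensorProduct.map_tmul ((integralClosure A L).val.restrictScalars k)
          (AlgHom.id k R) a r).symm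
    | add a b ha hb => rw [map_add, map_add, ha, hb]
  intro x y hxy
  apply h
  rw [key, key, hxy]

theorem exists_denominator (z : L ⊗[k] R) (_hK : FiniteDimensional K L) :
    ∃ a : A, a ≠ 0 ∧ ∃ y : (integralClosure A L) ⊗[k] R,
      ((algebraMap A L a) ⊗ₜ[k] (1 : R) : L ⊗[k] R) * z =
        Algebra.TensorProduct.map ((integralClosure A L).val.restrictScalars k)
          (AlgHom.id k R) y := by
  induction z using TensorProduct.induction_on with
  | zero => exact ⟨1, one_ne_zero, 0, by rw [mul_zero, map_zero]⟩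
  | tmul l r =>
    have halg : IsAlgebraic A l :=
      (IsFractionRing.isAlgebraic_iff A K L).2 (Algebra.IsAlgebraic.isAlgebraic l)
    obtain ⟨a, ha, hint⟩ := halg.exists_integral_multiple
    refine ⟨a, ha, (⟨a • l, hint⟩ : integralClosure A L) ⊗ₜ[k] r, ?_⟩
    rw [Algebra.TensorProduct.tmul_mul_tmul, one_mul, Algebra.TensorProduct.map_tmul,
      ← Algebra.smul_def]
    rfl
  | add z w hz hw =>
    obtain ⟨a, ha, y, hy⟩ := hz
    obtain ⟨a', ha', y', hy'⟩ := hw
    refine ⟨a * a', mul_ne_zero ha ha',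
      ((algebraMap A (integralClosure A L) a') ⊗ₜ[k] (1 : R)) * y +
        ((algebraMap A (integralClosure A L) a) ⊗ₜ[k] (1 : R)) * y', ?_⟩
    have hc : ∀ c : A, Algebra.TensorProduct.map ((integralClosure A L).val.restrictScalars k)
        (AlgHom.id k R) ((algebraMap A (integralClosure A L) c) ⊗ₜ[k] (1 : R)) =
        ((algebraMap A L c) ⊗ₜ[k] (1 : R) : L ⊗[k] R) := by
      intro c
      rw [Algebra.TensorProduct.map_tmul]
      rfl
    have hmul : ((algebraMap A L (a * a')) ⊗ₜ[k] (1 : R) : L ⊗[k] R) =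
        ((algebraMap A L a) ⊗ₜ[k] (1 : R)) * ((algebraMap A L a') ⊗ₜ[k] (1 : R)) := by
      rw [Algebra.TensorProduct.tmul_mul_tmul, mul_one, map_mul]
    rw [hmul, map_add, map_mul, map_mul, hc, hc, ← hy, ← hy']
    ring

theorem Psi_regular (b : (integralClosure A L) ⊗[k] R)
    (hb : b ∈ nonZeroDivisors ((integralClosure A L) ⊗[k] R)) (z : L ⊗[k] R)
    (_hK : FiniteDimensional K L)
    (hz : Algebra.TensorProduct.map ((integralClosure A L).val.restrictScalars k)
      (AlgHom.id k R) b * z = 0) : z = 0 := by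
  obtain ⟨a, ha, y, hy⟩ := exists_denominator k A K L R z _hK
  have h1 : Algebra.TensorProduct.map ((integralClosure A L).val.restrictScalars k)
      (AlgHom.id k R) (y * b) = 0 := by
    rw [map_mul, ← hy, mul_assoc, mul_comm z, hz, mul_zero]
  have h2 : y * b = 0 := Psi_injective k A L R (by rw [h1, map_zero])
  have h3 : y = 0 := (mem_nonZeroDivisors_iff_right.1 hb) y h2
  rw [h3, map_zero] at hy
  have haL : algebraMap A L a ≠ 0 := by
    intro h
    apply ha
    apply IsFractionRing.injective A K
    apply (algebraMap K L).injective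
    rw [← IsScalarTower.algebraMap_apply, h, map_zero, map_zero]
  calc z = ((((algebraMap A L a)⁻¹) ⊗ₜ[k] (1 : R) : L ⊗[k] R) *
        ((algebraMap A L a) ⊗ₜ[k] (1 : R))) * z := by
        rw [Algebra.TensorProduct.tmul_mul_tmul, inv_mul_cancel₀ haL, mul_one,
          ← Algebra.TensorProduct.one_def, one_mul]
    _ = 0 := by rw [mul_assoc, hy, mul_zero]

variable [Algebra (K ⊗[k] R) (L ⊗[k] R)]

theorem norm_mem_range (halg : algebraMap (K ⊗[k] R) (L ⊗[k] R) = PhiKL k K L R)
    (b : (integralClosure A L) ⊗[k] R) :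
    Algebra.norm (K ⊗[k] R) (Algebra.TensorProduct.map
      ((integralClosure A L).val.restrictScalars k) (AlgHom.id k R) b) ∈
      Set.range (Algebra.TensorProduct.map (IsScalarTower.toAlgHom k A K) (AlgHom.id k R)) := by
  classical
  obtain ⟨S, hS⟩ := TensorProduct.exists_finset b
  have hΨ : Algebra.TensorProduct.map ((integralClosure A L).val.restrictScalars k)
      (AlgHom.id k R) b = ∑ p ∈ S, (((p.1 : L)) ⊗ₜ[k] p.2 : L ⊗[k] R) := by
    rw [hS, map_sum]
    apply Finset.sum_congr rfl
    intro p _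
    rw [Algebra.TensorProduct.map_tmul]
    rfl
  rw [hΨ, norm_sum_eq k K L R (Module.finBasis K L) halg S (fun p => (p.1 : L)) (fun p => p.2)]
  obtain ⟨D₀, hD₀⟩ := exists_univMat_det_eq_map K L (Module.finBasis K L) A S
    (fun p => (p.1 : L)) (fun p _ => p.1.2)
  rw [← hD₀, evK_map]
  exact ⟨_, rfl⟩

theorem regular_iff (halg : algebraMap (K ⊗[k] R) (L ⊗[k] R) = PhiKL k K L R)
    (b : (integralClosure A L) ⊗[k] R) :
    IsRegular b ↔ IsRegular (Algebra.norm (K ⊗[k] R) (Algebra.TensorProduct.map
      ((integralClosure A L).val.restrictScalars k) (AlgHom.id k R) b)) := by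
  classical
  rw [isRegular_iff_mem_nonZeroDivisors, isRegular_iff_mem_nonZeroDivisors]
  obtain ⟨E, _hE⟩ : ∃ E : Module.Basis (Fin (Module.finrank K L)) (K ⊗[k] R) (L ⊗[k] R),
      E = EK k K L R (Module.finBasis K L) halg := ⟨_, rfl⟩
  obtain ⟨x, hx⟩ : ∃ x : L ⊗[k] R, x = Algebra.TensorProduct.map
      ((integralClosure A L).val.restrictScalars k) (AlgHom.id k R) b := ⟨_, rfl⟩
  rw [← hx, Algebra.norm_eq_matrix_det E]
  constructor
  · intro hb
    have hinj : Function.Injective (LinearMap.mulLeft (K ⊗[k] R) x) := by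
      rw [injective_iff_map_eq_zero]
      intro z hz
      rw [LinearMap.mulLeft_apply, hx] at hz
      exact Psi_regular k A K L R b hb z inferInstance hz
    have hcol : (Algebra.leftMulMatrix E x).col =
        (E.equivFun.toLinearMap.comp (LinearMap.mulLeft (K ⊗[k] R) x)) ∘ E := by
      funext j i
      show Algebra.leftMulMatrix E x i j = E.equivFun (x * E j) i
      rw [Algebra.leftMulMatrix_eq_repr_mul, Module.Basis.equivFun_apply]
    have hind : LinearIndependent (K ⊗[k] R) (Algebra.leftMulMatrix E x).col := by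
      rw [hcol]
      apply E.linearIndependent.map'
      rw [LinearMap.ker_eq_bot]
      show Function.Injective (E.equivFun ∘ (LinearMap.mulLeft (K ⊗[k] R) x))
      exact E.equivFun.injective.comp hinj
    exact Matrix.nonsingular_iff_det_mem_nonZeroDivisors.1
      (Matrix.Nonsingular.of_linearIndependent_col hind)
  · intro hN
    rw [mem_nonZeroDivisors_iff_right]
    intro y hy
    have h1 : x * (Algebra.TensorProduct.map ((integralClosure A L).val.restrictScalars k)
        (AlgHom.id k R) y) = 0 := by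
      rw [hx, ← map_mul, mul_comm, hy, map_zero]
    have h2 := Algebra.leftMulMatrix_mulVec_repr E x
      (Algebra.TensorProduct.map ((integralClosure A L).val.restrictScalars k)
        (AlgHom.id k R) y)
    rw [h1, map_zero, Finsupp.coe_zero] at h2
    have h3 := Matrix.eq_zero_of_det_mem_nonZeroDivisors_of_mulVec_eq_zero hN h2
    have h4 : E.repr (Algebra.TensorProduct.map ((integralClosure A L).val.restrictScalars k)
        (AlgHom.id k R) y) = 0 := DFunLike.coe_injective h3
    have h5 : Algebra.TensorProduct.map ((integralClosure A L).val.restrictScalars k)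
        (AlgHom.id k R) y = 0 := (LinearEquiv.map_eq_zero_iff E.repr).1 h4
    exact Psi_injective k A L R (by rw [h5, map_zero])

end Main

theorem main376 (k A K L R : Type u) [Field k]
    [CommRing A] [IsDomain A] [IsIntegrallyClosed A] [Algebra k A]
    [Field K] [Algebra A K] [IsFractionRing A K] [Algebra k K] [IsScalarTower k A K]
    [Field L] [Algebra K L] [FiniteDimensional K L] [Algebra A L] [IsScalarTower A K L]
    [Algebra k L] [IsScalarTower k K L] [IsScalarTower k A L]
    [CommRing R] [Algebra k R] :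
    letI : Algebra (K ⊗[k] R) (L ⊗[k] R) :=
      (Algebra.TensorProduct.map (IsScalarTower.toAlgHom k K L) (AlgHom.id k R)).toRingHom.toAlgebra
    Module.Free (K ⊗[k] R) (L ⊗[k] R) ∧ Module.Finite (K ⊗[k] R) (L ⊗[k] R) ∧
      ∀ b : (integralClosure A L) ⊗[k] R,
        Algebra.norm (K ⊗[k] R)
            (Algebra.TensorProduct.map ((integralClosure A L).val.restrictScalars k) (AlgHom.id k R) b) ∈
          Set.range (Algebra.TensorProduct.map (IsScalarTower.toAlgHom k A K) (AlgHom.id k R)) ∧
        (IsRegular b ↔ IsRegular (Algebra.norm (K ⊗[k] R)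
            (Algebra.TensorProduct.map ((integralClosure A L).val.restrictScalars k) (AlgHom.id k R) b))) := by
  letI : Algebra (K ⊗[k] R) (L ⊗[k] R) :=
    (Algebra.TensorProduct.map (IsScalarTower.toAlgHom k K L) (AlgHom.id k R)).toRingHom.toAlgebra
  have halg : algebraMap (K ⊗[k] R) (L ⊗[k] R) = PhiKL k K L R := rfl
  exact ⟨Module.Free.of_basis (EK k K L R (Module.finBasis K L) halg),
    Module.Finite.of_basis (EK k K L R (Module.finBasis K L) halg),
    fun b => ⟨norm_mem_range k A K L R halg b, regular_iff k A K L R halg b⟩⟩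

end Groth.Agent.Lib.Helper6.NormBC
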