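import Groth.Agent.Lib.Helper6.NormCurve
import Groth.Agent.Lib.Helper12.JacDim
import Groth.Agent.Lib.Helper12.CurveNormSm
import Groth.Agent.Lib.Helper22.SmoothNormalSch
import Groth.Agent.S7645

/-!
# Normal completions of normal curves

For a normal scheme `X`, separated of finite type over a field `k` with `dim X ≤ 1`, the
normalization of a projective completion `Y₀` of `X` inside `X` is a normal proper curve
containing `X` as a dense open subscheme.
-/

set_option autoImplicit false
set_option linter.style.haveILetI false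
set_option linter.unusedSectionVars false
set_option linter.unusedVariables false
set_option maxHeartbeats 1600000

universe u

open CategoryTheory CategoryTheory.Limits AlgebraicGeometry TopologicalSpace
open Groth.Agent.Lib.Helper12 Groth.Agent.Lib.Helper12.SchemeDimFT

namespace Groth.Agent.Lib.Helper6.NormCompl

theorem isReduced_of_isNormalScheme (X : Scheme.{u}) (h : Pi1.IsNormalScheme X) :
    IsReduced X := by
  haveI : ∀ x : X, _root_.IsReduced (X.presheaf.stalk x) := fun x => by
    haveI := (h x).1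
    infer_instance
  exact isReduced_of_isReduced_stalk X

theorem main (k : Type u) [Field k] (X : Scheme.{u}) [X.Over (Spec (CommRingCat.of k))]
    [IsSeparated (X ↘ (Spec (CommRingCat.of k)))]
    [LocallyOfFiniteType (X ↘ (Spec (CommRingCat.of k)))]
    [QuasiCompact (X ↘ (Spec (CommRingCat.of k)))] (hdim : topologicalKrullDim X ≤ 1)
    (hnorm : Pi1.IsNormalScheme X) :
    ∃ (Xc : Scheme.{u}) (sc : Xc ⟶ Spec (CommRingCat.of k)) (j : X ⟶ Xc),
      IsOpenImmersion j ∧ Dense (Set.range j.base) ∧
      j ≫ sc = X ↘ (Spec (CommRingCat.of k)) ∧ IsProper sc ∧ Pi1.IsNormalScheme Xc ∧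
      topologicalKrullDim Xc ≤ 1 ∧ (IsIntegral X → IsIntegral Xc) ∧
      (∀ x : Xc, x ∉ Set.range j.base →
        (1 : WithBot ℕ∞) ≤ ringKrullDim (Xc.presheaf.stalk x)) := by
  classical
  haveI : IsReduced X := isReduced_of_isNormalScheme X hnorm
  haveI : IsLocallyNoetherian X :=
    LocallyOfFiniteType.isLocallyNoetherian (X ↘ Spec (CommRingCat.of k))
  haveI : CompactSpace X :=
    QuasiCompact.compactSpace_of_compactSpace (X ↘ Spec (CommRingCat.of k))
  haveI : IsNoetherian X := {}
  obtain ⟨d, Y₀, c, j₀, hc, hj₀, hcomp, hdense, hdom, hfin₀, hcl₀⟩ :=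
    Groth.Agent.Lib.Helper6.CurveCompl.main k X hdim
  haveI := hc
  haveI := hj₀
  haveI := hdom
  letI : Y₀.Over (Spec (CommRingCat.of k)) := ⟨c ≫ CohB1.ProjSpace.toSpec d k⟩
  have hovY₀ : (Y₀ ↘ Spec (CommRingCat.of k)) = c ≫ CohB1.ProjSpace.toSpec d k := rfl
  haveI : IsProper (Y₀ ↘ Spec (CommRingCat.of k)) := by
    rw [hovY₀]; infer_instance
  haveI : IsNoetherian Y₀ := Groth.Agent.Lib.Helper23.Curve.isNoetherian_of_isProper k Y₀
  have hdimY₀ : topologicalKrullDim Y₀ ≤ 1 :=
    Groth.Agent.Lib.Helper6.CurveCompl.dim_le_of_dense_open k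
      (Y₀ ↘ Spec (CommRingCat.of k)) j₀ hdense 1 hdim
  haveI : QuasiCompact j₀ := inferInstance
  have hS : ∀ U : Y₀.affineOpens, CAlg.IsNagata Γ(Y₀, U) := by
    intro U
    letI := secAlgebra k Y₀ U.1
    haveI := finiteType_sec k Y₀ U.1 U.2
    exact Groth.Agent.S0566.result k (Groth.Agent.Lib.Helper23.NodalGlue.isNagata_field k)
      Γ(Y₀, U.1)
  haveI hfinN : IsFinite j₀.fromNormalization := Groth.Agent.S9675.result j₀ hS
  have hcompfin : (irreducibleComponents ↥X).Finite :=
    finite_irreducibleComponents_of_isNoetherian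
  haveI := hcompfin.to_subtype
  obtain ⟨hnormal, -, -, hgen⟩ :=
    Groth.Agent.S9673.result j₀ hnorm (locallyFinite_of_finite _)
  haveI : IsOpenImmersion j₀.toNormalization := inferInstance
  have hdimY : topologicalKrullDim j₀.normalization ≤ 1 :=
    (Groth.Agent.Lib.Helper16.EtDim.topologicalKrullDim_le_of_locallyQuasiFinite
      j₀.fromNormalization).trans hdimY₀
  refine ⟨j₀.normalization, j₀.fromNormalization ≫ (Y₀ ↘ Spec (CommRingCat.of k)),
    j₀.toNormalization, inferInstance, j₀.toNormalization.denseRange, ?_, inferInstance,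
    hnormal, hdimY, fun h => by haveI := h; infer_instance, ?_⟩
  · rw [← Category.assoc, j₀.toNormalization_fromNormalization, hovY₀, hcomp]
  · intro x hx
    rw [ringKrullDim_stalk_eq_coheight]
    obtain ⟨η, hη⟩ := QuasiSober.sober (isIrreducible_irreducibleComponent (x := x))
      isClosed_irreducibleComponent
    have hη' : closure ({η} : Set j₀.normalization) = irreducibleComponent x := hη
    have hmem : closure ({η} : Set j₀.normalization) ∈
        irreducibleComponents j₀.normalization := by
      rw [hη']; exact irreducibleComponent_mem_irreducibleComponents x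
    obtain ⟨y, ⟨-, hy⟩, -⟩ := hgen η hmem
    have hspec : η ⤳ x := by
      rw [specializes_iff_mem_closure, hη']; exact mem_irreducibleComponent
    have hne : η ≠ x := by
      intro h
      rw [h] at hy
      exact hx ⟨y, hy⟩
    have h1 : x < η := by
      refine lt_of_le_not_ge (Scheme.le_iff_specializes.mpr hspec) (fun h => ?_)
      have h2 : x ⤳ η := Scheme.le_iff_specializes.mp h
      exact hne ((h2.antisymm hspec).eq).symm
    have h3 := Order.coheight_add_one_le h1
    have h4 : (1 : ℕ∞) ≤ Order.coheight x := le_trans le_add_self h3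
    exact_mod_cast h4

/-- the normal completion of a normal curve (closed points have one-dimensional local rings) -/
theorem completion (k : Type u) [Field k] (X : Scheme.{u})
    [X.Over (Spec (CommRingCat.of k))] [LocallyOfFiniteType (X ↘ (Spec (CommRingCat.of k)))]
    [QuasiCompact (X ↘ (Spec (CommRingCat.of k)))] [IsSeparated (X ↘ (Spec (CommRingCat.of k)))]
    [Nonempty X]
    (hcurve : ∀ x : X, IsClosed ({x} : Set X) → ringKrullDim (X.presheaf.stalk x) = 1)
    (hnorm : Pi1.IsNormalScheme X) :
    ∃ (Xc : Scheme.{u}) (sc : Xc ⟶ Spec (CommRingCat.of k)) (j : X ⟶ Xc),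
      IsOpenImmersion j ∧ Dense (Set.range j.base) ∧
      j ≫ sc = X ↘ (Spec (CommRingCat.of k)) ∧ IsProper sc ∧ Pi1.IsNormalScheme Xc ∧
      ∀ x : Xc, IsClosed ({x} : Set Xc) → ringKrullDim (Xc.presheaf.stalk x) = 1 := by
  haveI : JacobsonSpace X := LocallyOfFiniteType.jacobsonSpace (X ↘ (Spec (CommRingCat.of k)))
  have hdim : topologicalKrullDim X = 1 :=
    Groth.Agent.Lib.Helper12.JacDim.topologicalKrullDim_eq_of_closedPoints X 1 hcurve
  obtain ⟨Xc, sc, j, hj, hdense, hcomp, hprop, hnormal, hdimc, -, hbd⟩ :=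
    main k X hdim.le hnorm
  haveI := hj
  refine ⟨Xc, sc, j, hj, hdense, hcomp, hprop, hnormal, fun x hx => ?_⟩
  by_cases hxr : x ∈ Set.range j.base
  · obtain ⟨x', rfl⟩ := hxr
    have hpre : j.base ⁻¹' {j.base x'} = {x'} := by
      ext z
      simp only [Set.mem_preimage, Set.mem_singleton_iff]
      exact ⟨fun h => j.isOpenEmbedding.injective h, fun h => by rw [h]⟩
    have hx' : IsClosed ({x'} : Set X) := by
      rw [← hpre]; exact hx.preimage j.continuous
    rw [← hcurve x' hx']
    exact ringKrullDim_eq_of_ringEquiv (asIso (j.stalkMap x')).commRingCatIsoToRingEquiv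
  · apply le_antisymm
    · exact (Groth.Agent.Lib.Helper26.AmpleCurve.ringKrullDim_stalk_le_topologicalKrullDim
        x).trans hdimc
    · exact hbd x hxr

/-- a smooth curve over an algebraically closed field embeds in a smooth projective curve -/
theorem smooth_completion (k : Type u) [Field k] [IsAlgClosed k]
    (X : Scheme.{u}) [X.Over (Spec (CommRingCat.of k))] [IsIntegral X]
    [IsSeparated (X ↘ (Spec (CommRingCat.of k)))]
    [LocallyOfFiniteType (X ↘ (Spec (CommRingCat.of k)))]
    [QuasiCompact (X ↘ (Spec (CommRingCat.of k)))] [Smooth (X ↘ (Spec (CommRingCat.of k)))]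
    (hdimX : topologicalKrullDim X = 1) :
    ∃ (Y : Scheme.{u}) (_ : Y.Over (Spec (CommRingCat.of k))) (j : X ⟶ Y), IsOpenImmersion j ∧
      j ≫ (Y ↘ (Spec (CommRingCat.of k))) = X ↘ (Spec (CommRingCat.of k)) ∧ IsIntegral Y ∧
      Smooth (Y ↘ (Spec (CommRingCat.of k))) ∧ topologicalKrullDim Y = 1 ∧
      ∃ (n : ℕ) (i : Y ⟶ CohB1.ProjSpace n k), IsClosedImmersion i ∧
        i ≫ CohB1.ProjSpace.toSpec n k = Y ↘ (Spec (CommRingCat.of k)) := by
  have hnorm : Pi1.IsNormalScheme X := fun x =>
    ((Groth.Agent.Lib.Helper22.SmoothNormalSch.stalk_iff_of_smooth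
      (X ↘ Spec (CommRingCat.of k)) x).2).mpr
      (Groth.Agent.Lib.Helper6.NormCurve.isNormalScheme_Spec k _)
  obtain ⟨Y, sc, j, hj, hdense, hcomp, hprop, hnormal, hdimY, hint, -⟩ :=
    main k X hdimX.le hnorm
  haveI := hj
  haveI := hprop
  haveI : IsIntegral Y := hint inferInstance
  letI : Y.Over (Spec (CommRingCat.of k)) := ⟨sc⟩
  have hov : (Y ↘ Spec (CommRingCat.of k)) = sc := rfl
  haveI : IsProper (Y ↘ Spec (CommRingCat.of k)) := hprop
  have hdimY2 : (1 : WithBot ℕ∞) ≤ topologicalKrullDim Y := by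
    rw [← hdimX]
    exact j.isOpenEmbedding.isInducing.topologicalKrullDim_le
  refine ⟨Y, inferInstance, j, hj, hcomp, inferInstance, ?_, le_antisymm hdimY hdimY2,
    Groth.Agent.S7645.result k Y hdimY⟩
  exact Groth.Agent.Lib.Helper12.CurveNormSm.smooth_of_normal_curve k sc hdimY hnormal

end Groth.Agent.Lib.Helper6.NormCompl
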