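import Groth.Agent.Lib.Helper6.NormCompl
import Groth.Agent.Lib.Helper19.TotalFrac
import Groth.Agent.Lib.Helper8.Hzl.DVR
import Groth.Agent.Lib.Helper12.NormField
import Groth.Agent.Lib.Helper12.NormAff

/-!
# Discrete valuation rings at the boundary of a relative normalization

Let `f : Y ⟶ X` be of finite type with `Y` reduced and `X` Nagata, `N` the normalization of `X` in
`Y`.  If `x' ∈ N` is a point with one-dimensional local ring which is not in the image of `Y`, then
`𝒪_{N,x'}` is a discrete valuation ring.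
-/

set_option autoImplicit false
set_option linter.style.haveILetI false
set_option linter.unusedSectionVars false
set_option linter.unusedVariables false
set_option maxHeartbeats 1600000

universe u

open CategoryTheory CategoryTheory.Limits AlgebraicGeometry TopologicalSpace Polynomial

namespace Groth.Agent.Lib.Helper6.NormDVR

/-! ### algebra -/

section Alg

variable {B C : Type*} [CommRing B] [CommRing C] (ψ : B →+* C)

theorem isIntegralElem_scale (P : B[X]) (hP : P.Monic) (a t s σ : B) (c : C)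
    (hs : ψ t * c = ψ s) (hσ : σ * (P.scaleRoots t).eval a = 0) (hn : P.natDegree ≠ 0) :
    ψ.IsIntegralElem (ψ (σ * a) * c) := by
  refine ⟨P.scaleRoots (σ * s), (Polynomial.monic_scaleRoots_iff _).mpr hP, ?_⟩
  obtain ⟨m, hm⟩ := Nat.exists_eq_succ_of_ne_zero hn
  have key : ∀ i ∈ Finset.range (P.natDegree + 1),
      ψ ((P.scaleRoots (σ * s)).coeff i) * (ψ (σ * a) * c) ^ i =
        ψ σ ^ P.natDegree * c ^ P.natDegree * ψ ((P.scaleRoots t).coeff i * a ^ i) := by
    intro i hi
    obtain ⟨k, hk⟩ := Nat.exists_eq_add_of_le (Nat.lt_succ_iff.mp (Finset.mem_range.mp hi))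
    rw [Polynomial.coeff_scaleRoots, Polynomial.coeff_scaleRoots, hk, Nat.add_sub_cancel_left]
    simp only [map_mul, map_pow, ← hs]
    ring
  rw [Polynomial.eval₂_eq_sum_range, Polynomial.natDegree_scaleRoots, Finset.sum_congr rfl key,
    ← Finset.mul_sum, ← map_sum]
  have h2 : ∑ i ∈ Finset.range (P.natDegree + 1), (P.scaleRoots t).coeff i * a ^ i =
      (P.scaleRoots t).eval a := by
    rw [Polynomial.eval_eq_sum_range, Polynomial.natDegree_scaleRoots]
  rw [h2, hm]
  calc ψ σ ^ (m + 1) * c ^ (m + 1) * ψ ((P.scaleRoots t).eval a)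
      = ψ σ ^ m * c ^ (m + 1) * ψ (σ * (P.scaleRoots t).eval a) := by rw [map_mul]; ring
    _ = 0 := by rw [hσ, map_zero, mul_zero]

theorem isIntegrallyClosedIn_fractionRing
    (hinj : Function.Injective ψ) (hic : ∀ c, ψ.IsIntegralElem c → ∃ b, ψ b = c)
    (q : Ideal B) [q.IsPrime] (S : Type*) [CommRing S] [Algebra B S] [IsLocalization.AtPrime S q]
    (hU : ∀ t : B, algebraMap B S t ∈ nonZeroDivisors S →
      ∃ s, s ∉ q ∧ ∃ c : C, ψ t * c = ψ s) :
    IsIntegrallyClosedIn S (FractionRing S) := by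
  haveI : IsScalarTower B S (FractionRing S) := inferInstance
  have hιF : Function.Injective (algebraMap S (FractionRing S)) :=
    IsFractionRing.injective S (FractionRing S)
  refine ⟨hιF, fun {z} => ⟨fun hz => ?_, ?_⟩⟩
  swap
  · rintro ⟨y, rfl⟩
    exact isIntegral_algebraMap
  -- denominators
  obtain ⟨⟨x, ⟨y, hy⟩⟩, hxy⟩ := IsLocalization.surj (nonZeroDivisors S) z
  obtain ⟨⟨a, σ₁⟩, ha⟩ := IsLocalization.surj q.primeCompl x
  obtain ⟨⟨t, σ₂⟩, ht⟩ := IsLocalization.surj q.primeCompl y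
  simp only at hxy ha ht
  have hu1 : IsUnit (algebraMap B S σ₁) := IsLocalization.map_units S σ₁
  have hu2 : IsUnit (algebraMap B S σ₂) := IsLocalization.map_units S σ₂
  -- `t' = t σ₁`, `a' = a σ₂`
  have htnzd : algebraMap B S (t * σ₁) ∈ nonZeroDivisors S := by
    rw [map_mul, ← ht]
    exact mul_mem (mul_mem hy hu2.mem_nonZeroDivisors) hu1.mem_nonZeroDivisors
  have hz1 : z * algebraMap B (FractionRing S) (t * σ₁) =
      algebraMap B (FractionRing S) (a * σ₂) := by
    rw [IsScalarTower.algebraMap_apply B S (FractionRing S),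
      IsScalarTower.algebraMap_apply B S (FractionRing S)]
    have e1 : algebraMap B S (t * σ₁) = y * (algebraMap B S σ₂ * algebraMap B S σ₁) := by
      rw [map_mul, ← ht]; ring
    have e2 : algebraMap B S (a * σ₂) = x * (algebraMap B S σ₂ * algebraMap B S σ₁) := by
      rw [map_mul, ← ha]; ring
    rw [e1, e2, map_mul, map_mul, ← mul_assoc, hxy, map_mul, map_mul]
  -- integrality over `B`
  obtain ⟨m, hmz⟩ := IsIntegral.exists_multiple_integral_of_isLocalization q.primeCompl
    (Rₘ := S) z hz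
  obtain ⟨P, hPmonic, hPz⟩ := hmz
  rw [Submonoid.smul_def, Algebra.smul_def] at hPz
  by_cases hn : P.natDegree = 0
  · have hP1 : P = 1 := Polynomial.eq_one_of_monic_natDegree_zero hPmonic hn
    rw [hP1, Polynomial.eval₂_one] at hPz
    haveI : Subsingleton (FractionRing S) := subsingleton_of_zero_eq_one hPz.symm
    exact ⟨0, Subsingleton.elim _ _⟩
  obtain ⟨s, hsq, c, hc⟩ := hU (t * σ₁) htnzd
  -- the scaled polynomial kills `m a'`
  have hE : algebraMap B (FractionRing S)
      ((P.scaleRoots (t * σ₁)).eval ((m : B) * (a * σ₂))) = 0 := by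
    rw [← Polynomial.eval₂_at_apply, map_mul, ← hz1]
    have h1 : algebraMap B (FractionRing S) (m : B) *
        (z * algebraMap B (FractionRing S) (t * σ₁)) =
        algebraMap B (FractionRing S) (t * σ₁) *
          (algebraMap B (FractionRing S) (m : B) * z) := by ring
    rw [h1, Polynomial.scaleRoots_eval₂_mul, hPz, mul_zero]
  have hE' : algebraMap B S ((P.scaleRoots (t * σ₁)).eval ((m : B) * (a * σ₂))) = 0 := by
    apply hιF
    rw [map_zero, ← IsScalarTower.algebraMap_apply B S (FractionRing S)]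
    exact hE
  obtain ⟨σ, hσ⟩ := (IsLocalization.map_eq_zero_iff q.primeCompl S _).mp hE'
  have hint := isIntegralElem_scale ψ P hPmonic ((m : B) * (a * σ₂)) (t * σ₁) s (σ : B) c hc hσ hn
  obtain ⟨b, hb⟩ := hic _ hint
  have hbt : b * (t * σ₁) = (σ : B) * ((m : B) * (a * σ₂)) * s := by
    apply hinj
    rw [map_mul, hb, mul_assoc, mul_comm c, hc]
    exact (map_mul ψ _ s).symm
  -- the element of `S`
  have hden : (σ : B) * (m : B) * s ∈ q.primeCompl :=
    mul_mem (mul_mem σ.2 m.2) (Ideal.mem_primeCompl_iff.mpr hsq)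
  refine ⟨IsLocalization.mk' S b ⟨(σ : B) * (m : B) * s, hden⟩, ?_⟩
  have hu3 : IsUnit (algebraMap S (FractionRing S)
      (algebraMap B S ((σ : B) * (m : B) * s))) :=
    (IsLocalization.map_units S ⟨(σ : B) * (m : B) * s, hden⟩).map _
  have hu4 : IsUnit (algebraMap B (FractionRing S) (t * σ₁)) := by
    rw [IsScalarTower.algebraMap_apply B S (FractionRing S)]
    exact IsLocalization.map_units (FractionRing S) ⟨_, htnzd⟩
  apply hu3.mul_left_injective
  apply hu4.mul_left_injective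
  show algebraMap S (FractionRing S) (IsLocalization.mk' S b ⟨(σ : B) * (m : B) * s, hden⟩) *
      algebraMap S (FractionRing S) (algebraMap B S ((σ : B) * (m : B) * s)) *
      algebraMap B (FractionRing S) (t * σ₁) =
    z * algebraMap S (FractionRing S) (algebraMap B S ((σ : B) * (m : B) * s)) *
      algebraMap B (FractionRing S) (t * σ₁)
  rw [← map_mul, IsLocalization.mk'_spec, ← IsScalarTower.algebraMap_apply B S (FractionRing S),
    ← IsScalarTower.algebraMap_apply B S (FractionRing S), ← map_mul, hbt,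
    mul_right_comm z, hz1, ← map_mul]
  congr 1
  ring

theorem eq_of_le_of_mem_of_nzd (q : Ideal B) [q.IsPrime] (S : Type*) [CommRing S] [Algebra B S]
    [IsLocalization.AtPrime S q] [IsNoetherianRing S] [IsLocalRing S]
    (hdim : ringKrullDim S = 1)
    (t : B) (ht : algebraMap B S t ∈ nonZeroDivisors S) (p : Ideal B) (hp : p.IsPrime)
    (hpq : p ≤ q) (htp : t ∈ p) : p = q := by
  by_contra hne
  have hdisj : Disjoint (q.primeCompl : Set B) (p : Set B) := by
    rw [Set.disjoint_left]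
    intro x hx hxp
    exact hx (hpq hxp)
  haveI hp' : (Ideal.map (algebraMap B S) p).IsPrime :=
    IsLocalization.isPrime_of_isPrime_disjoint q.primeCompl S p hp hdisj
  have hcomap : (Ideal.map (algebraMap B S) p).under B = p :=
    IsLocalization.under_map_of_isPrime_disjoint q.primeCompl S hp hdisj
  have hlt' : Ideal.map (algebraMap B S) p < IsLocalRing.maximalIdeal S := by
    refine lt_of_le_of_ne (IsLocalRing.le_maximalIdeal hp'.ne_top) (fun h => ?_)
    have h1 : (IsLocalRing.maximalIdeal S).under B = q :=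
      IsLocalization.AtPrime.under_maximalIdeal S q
    exact hne (hcomap.symm.trans ((congrArg (fun I => Ideal.under B I) h).trans h1))
  have h1 : (Ideal.map (algebraMap B S) p).height < (IsLocalRing.maximalIdeal S).height :=
    Ideal.height_strict_mono_of_isPrime hlt'
  have h2 : ((IsLocalRing.maximalIdeal S).height : WithBot ℕ∞) = 1 := by
    rw [IsLocalRing.maximalIdeal_height_eq_ringKrullDim, hdim]
  have h3 : (IsLocalRing.maximalIdeal S).height = 1 := by exact_mod_cast h2
  rw [h3] at h1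
  have h5 : (Ideal.map (algebraMap B S) p).height = 0 := Order.lt_one_iff.mp h1
  have hmin : Ideal.map (algebraMap B S) p ∈ minimalPrimes S := Ideal.height_eq_zero_iff.mp h5
  have h6 := Ideal.disjoint_nonZeroDivisors_of_mem_minimalPrimes hmin
  exact Set.disjoint_left.mp h6 (Ideal.mem_map_of_mem _ htp) ht

theorem isDomain_and_dvr (S : Type*) [CommRing S] [IsLocalRing S] [IsNoetherianRing S]
    [IsReduced S] (hic : IsIntegrallyClosedIn S (FractionRing S)) (hdim : ringKrullDim S = 1) :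
    ∃ _ : IsDomain S, IsDiscreteValuationRing S := by
  obtain ⟨P, hPmin, -⟩ := Ideal.exists_minimalPrimes_le
    (show (⊥ : Ideal S) ≤ IsLocalRing.maximalIdeal S from bot_le)
  have hPmin' : P ∈ minimalPrimes S := hPmin
  obtain ⟨e, he0, he1, -⟩ := Groth.Agent.Lib.Helper19.TotalFrac.exists_idem
    (minimalPrimes.finite_of_isNoetherianRing S) hic P hPmin'
  have hPprime : P.IsPrime := hPmin'.1.1
  have heu : IsUnit e := by
    have h1 : (1 - e) ∈ IsLocalRing.maximalIdeal S :=
      IsLocalRing.le_maximalIdeal hPprime.ne_top he1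
    have h2 := IsLocalRing.isUnit_one_sub_self_of_mem_nonunits _
      ((IsLocalRing.mem_maximalIdeal _).mp h1)
    rwa [sub_sub_cancel] at h2
  have hP0 : ∀ x ∈ P, x = 0 := fun x hx => heu.mul_right_eq_zero.mp (he0 x hx)
  haveI : NoZeroDivisors S := ⟨fun {a b} hab => by
    have h1 : a * b ∈ P := by rw [hab]; exact P.zero_mem
    rcases hPprime.mem_or_mem h1 with h | h
    · exact Or.inl (hP0 a h)
    · exact Or.inr (hP0 b h)⟩
  haveI : IsDomain S := NoZeroDivisors.to_isDomain S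
  haveI : IsIntegrallyClosed S := hic
  exact ⟨inferInstance,
    (Groth.Agent.Lib.Helper8.Hzl.isDVR_iff_normal_dim_one S).mpr ⟨inferInstance, hdim⟩⟩

end Alg

/-! ### geometry -/

section Geo

variable {X Y : Scheme.{u}} (f : Y ⟶ X) [QuasiCompact f] [QuasiSeparated f]

theorem exists_mul_eq {V : X.Opens} (hV : IsAffineOpen V)
    (hW : IsAffineOpen (f.fromNormalization ⁻¹ᵁ V))
    (x' : f.normalization) (hxV : x' ∈ f.fromNormalization ⁻¹ᵁ V)
    (hx' : x' ∉ Set.range f.toNormalization.base)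
    (hle : f ⁻¹ᵁ V ≤ f.toNormalization ⁻¹ᵁ (f.fromNormalization ⁻¹ᵁ V))
    (t : Γ(f.normalization, f.fromNormalization ⁻¹ᵁ V))
    (ht : ∀ p : Ideal Γ(f.normalization, f.fromNormalization ⁻¹ᵁ V), p.IsPrime →
      p ≤ (hW.primeIdealOf ⟨x', hxV⟩).asIdeal → t ∈ p →
      p = (hW.primeIdealOf ⟨x', hxV⟩).asIdeal) :
    ∃ s, s ∉ (hW.primeIdealOf ⟨x', hxV⟩).asIdeal ∧
      ∃ c : Γ(Y, f ⁻¹ᵁ V), (f.toNormalization.appLE _ _ hle).hom t * c =
        (f.toNormalization.appLE _ _ hle).hom s := by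
  classical
  obtain ⟨q, hq⟩ : ∃ q : Ideal Γ(f.normalization, f.fromNormalization ⁻¹ᵁ V),
      q = (hW.primeIdealOf ⟨x', hxV⟩).asIdeal := ⟨_, rfl⟩
  rw [← hq] at ht ⊢
  haveI hqprime : q.IsPrime := by rw [hq]; exact (hW.primeIdealOf ⟨x', hxV⟩).isPrime
  obtain ⟨ψ, hψ⟩ : ∃ ψ : Γ(f.normalization, f.fromNormalization ⁻¹ᵁ V) →+* Γ(Y, f ⁻¹ᵁ V),
      ψ = (f.toNormalization.appLE _ _ hle).hom := ⟨_, rfl⟩
  rw [← hψ]
  have hcomp : IsCompact ((f ⁻¹ᵁ V : Y.Opens) : Set Y) := f.isCompact_preimage hV.isCompact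
  have hqs : IsQuasiSeparated ((f ⁻¹ᵁ V : Y.Opens) : Set Y) :=
    f.isQuasiSeparated_preimage hV.isQuasiSeparated
  obtain ⟨S, hSfin, hS⟩ :=
    isCompact_and_isOpen_iff_finite_and_eq_biUnion_affineOpens.mp ⟨hcomp, (f ⁻¹ᵁ V).2⟩
  have hleS : ∀ i ∈ S, (i : Y.Opens) ≤ f ⁻¹ᵁ V := by
    intro i hi y hy
    show y ∈ ((f ⁻¹ᵁ V : Y.Opens) : Set Y)
    rw [hS]; exact Set.mem_biUnion hi hy
  -- charts
  have hchart : ∀ i : Y.affineOpens, i ∈ S → ∃ s, s ∉ q ∧
      ∀ y : Y, y ∈ (i : Y.Opens) → y ∈ Y.basicOpen (ψ s) → y ∈ Y.basicOpen (ψ t) := by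
    intro i hi
    have hi' : (i : Y.Opens) ≤ f.toNormalization ⁻¹ᵁ (f.fromNormalization ⁻¹ᵁ V) :=
      (hleS i hi).trans hle
    obtain ⟨ψi, hψi⟩ : ∃ ψi : Γ(f.normalization, f.fromNormalization ⁻¹ᵁ V) →+*
        Γ(Y, (i : Y.Opens)), ψi = (f.toNormalization.appLE _ _ hi').hom := ⟨_, rfl⟩
    have hres : ∀ b, (Y.presheaf.map (homOfLE (hleS i hi)).op).hom (ψ b) = ψi b := by
      intro b
      rw [hψ, hψi, ← f.toNormalization.appLE_map hle (homOfLE (hleS i hi)).op]
      rfl
    have hpoint : ∀ s d, d * ψi t = ψi s → ∀ y : Y, y ∈ (i : Y.Opens) →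
        y ∈ Y.basicOpen (ψ s) → y ∈ Y.basicOpen (ψ t) := by
      intro s d hd y hyi hys
      have hyU : y ∈ f ⁻¹ᵁ V := hleS i hi hyi
      rw [Y.mem_basicOpen _ y hyU] at hys ⊢
      have h1 : ∀ b, Y.presheaf.germ (i : Y.Opens) y hyi (ψi b) =
          Y.presheaf.germ (f ⁻¹ᵁ V) y hyU (ψ b) := by
        intro b
        rw [← hres b]
        exact Y.presheaf.germ_res_apply (homOfLE (hleS i hi)) y hyi (ψ b)
      rw [← h1] at hys ⊢
      rw [← hd, map_mul] at hys
      exact isUnit_of_mul_isUnit_right hys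
    by_cases h : ∃ s, s ∉ q ∧ ψi s ∈ Ideal.span {ψi t}
    · obtain ⟨s, hs, hmem⟩ := h
      obtain ⟨d, hd⟩ := Ideal.mem_span_singleton'.mp hmem
      exact ⟨s, hs, hpoint s d hd⟩
    · exfalso
      push Not at h
      have hdisj : Disjoint
          ((Ideal.span {ψi t} : Ideal Γ(Y, (i : Y.Opens))) : Set Γ(Y, (i : Y.Opens)))
          ((q.primeCompl.map (ψi : _ →* _) : Submonoid Γ(Y, (i : Y.Opens))) :
            Set Γ(Y, (i : Y.Opens))) := by
        rw [Set.disjoint_left]
        rintro x hx ⟨s, hs, rfl⟩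
        exact h s hs hx
      obtain ⟨P, hPprime, hPle, hPdisj⟩ := Ideal.exists_le_prime_disjoint _ _ hdisj
      obtain ⟨y, hy⟩ : ∃ y : Y, y = i.2.fromSpec
          (show PrimeSpectrum Γ(Y, (i : Y.Opens)) from ⟨P, hPprime⟩) := ⟨_, rfl⟩
      have hyi : y ∈ (i : Y.Opens) := by
        have : y ∈ Set.range i.2.fromSpec := ⟨_, hy.symm⟩
        rw [i.2.range_fromSpec] at this
        exact this
      have hprime : i.2.primeIdealOf ⟨y, hyi⟩ = ⟨P, hPprime⟩ := by
        apply i.2.fromSpec.isOpenEmbedding.injective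
        rw [i.2.fromSpec_primeIdealOf]
        exact hy
      have hcomap := IsAffineOpen.comap_primeIdealOf_appLE (f := f.toNormalization) (x := y)
        _ hW _ i.2 hi' hyi
      have hPq : Ideal.comap ψi P = q := by
        haveI := hPprime
        apply ht (Ideal.comap ψi P) (Ideal.comap_isPrime ψi P)
        · intro b hb
          by_contra hbq
          exact Set.disjoint_left.mp hPdisj hb ⟨b, hbq, rfl⟩
        · exact hPle (Ideal.subset_span rfl)
      have hpt : f.toNormalization.base y = x' := by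
        have h1 : hW.primeIdealOf ⟨f.toNormalization.base y, hi' hyi⟩ =
            hW.primeIdealOf ⟨x', hxV⟩ := by
          rw [← hcomap, hprime]
          apply PrimeSpectrum.ext
          show Ideal.comap _ P = _
          rw [← hq, ← hPq, hψi]
        have h2 := congrArg (fun z => hW.fromSpec z) h1
        simp only [] at h2
        rw [hW.fromSpec_primeIdealOf, hW.fromSpec_primeIdealOf] at h2
        exact h2
      exact hx' ⟨y, hpt⟩
  choose! sfun hsfun using hchart
  obtain ⟨s, hs⟩ : ∃ s, s = ∏ i ∈ hSfin.toFinset, sfun i := ⟨_, rfl⟩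
  have hsq : s ∉ q := by
    have h1 : ∏ i ∈ hSfin.toFinset, sfun i ∈ q.primeCompl :=
      prod_mem (fun i hi => Ideal.mem_primeCompl_iff.mpr (hsfun i (hSfin.mem_toFinset.mp hi)).1)
    rw [hs]
    exact Ideal.mem_primeCompl_iff.mp h1
  have hlebasic : Y.basicOpen (ψ s) ≤ Y.basicOpen (ψ t) := by
    intro y hy
    have hyU : y ∈ f ⁻¹ᵁ V := Y.basicOpen_le _ hy
    have hyS : y ∈ ((f ⁻¹ᵁ V : Y.Opens) : Set Y) := hyU
    rw [hS] at hyS
    obtain ⟨i, hi, hyi⟩ := Set.mem_iUnion₂.mp hyS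
    refine (hsfun i hi).2 y hyi ?_
    have hy' : y ∈ Y.basicOpen (ψ s) := hy
    rw [Y.mem_basicOpen _ y hyU] at hy' ⊢
    have hdvd : sfun i ∣ s := by
      rw [hs]; exact Finset.dvd_prod_of_mem sfun (hSfin.mem_toFinset.mpr hi)
    obtain ⟨r, hr⟩ := hdvd
    rw [hr, map_mul, map_mul] at hy'
    exact isUnit_of_mul_isUnit_left hy'
  -- the qcqs lemma
  obtain ⟨g, hg⟩ : ∃ g, g = ψ s := ⟨_, rfl⟩
  obtain ⟨h, hh⟩ : ∃ h, h = ψ t := ⟨_, rfl⟩
  rw [← hg, ← hh] at hlebasic
  have hu : IsUnit ((Y.presheaf.map (homOfLE (Y.basicOpen_le g)).op).hom h) := by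
    apply RingedSpace.isUnit_of_isUnit_germ Y.toRingedSpace (Y.basicOpen g)
    intro y hy
    have h1 : Y.presheaf.germ (Y.basicOpen g) y hy
        ((Y.presheaf.map (homOfLE (Y.basicOpen_le g)).op).hom h) =
        Y.presheaf.germ (f ⁻¹ᵁ V) y (Y.basicOpen_le g hy) h :=
      Y.presheaf.germ_res_apply (homOfLE (Y.basicOpen_le g)) y hy h
    have h2 := (Y.mem_basicOpen h y (Y.basicOpen_le g hy)).mp (hlebasic hy)
    rw [← h1] at h2
    exact h2
  obtain ⟨v, hv⟩ := hu.exists_right_inv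
  obtain ⟨n, c, hc⟩ := exists_eq_pow_mul_of_isCompact_of_isQuasiSeparated Y (f ⁻¹ᵁ V) hcomp hqs g v
  have hc' : (Y.presheaf.map (homOfLE (Y.basicOpen_le g)).op).hom c =
      ((Y.presheaf.map (homOfLE (Y.basicOpen_le g)).op).hom g) ^ n * v := hc
  have hzero : (h * c - g ^ n) |_ (Y.basicOpen g) = 0 := by
    show (Y.presheaf.map (homOfLE (Y.basicOpen_le g)).op).hom (h * c - g ^ n) = 0
    rw [map_sub, map_mul, map_pow, hc', mul_left_comm, hv, mul_one, sub_self]
  obtain ⟨m, hm⟩ := exists_pow_mul_eq_zero_of_res_basicOpen_eq_zero_of_isCompact Y hcomp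
    (h * c - g ^ n) g hzero
  refine ⟨s ^ (m + n), fun hmem => hsq (hqprime.mem_of_pow_mem _ hmem), g ^ m * c, ?_⟩
  rw [map_pow, ← hg, ← hh]
  calc h * (g ^ m * c) = g ^ m * (h * c - g ^ n) + g ^ (m + n) := by ring
    _ = g ^ (m + n) := by rw [hm, zero_add]

end Geo

section Main

variable {X Y : Scheme.{u}} (f : Y ⟶ X) [LocallyOfFiniteType f] [QuasiCompact f]
  [QuasiSeparated f] [IsReduced Y]

theorem main (hX : ∀ U : X.affineOpens, CAlg.IsNagata Γ(X, U))
    (x' : ↥f.normalization) (hdim : ringKrullDim (f.normalization.presheaf.stalk x') = 1)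
    (hx' : x' ∉ Set.range f.toNormalization.base) :
    ∃ _ : IsDomain (f.normalization.presheaf.stalk x'),
      IsDiscreteValuationRing (f.normalization.presheaf.stalk x') := by
  haveI : IsFinite f.fromNormalization := Groth.Agent.S9675.result f hX
  haveI : IsLocallyNoetherian X := ⟨fun U => (hX U).1⟩
  haveI : IsLocallyNoetherian f.normalization :=
    LocallyOfFiniteType.isLocallyNoetherian f.fromNormalization
  obtain ⟨V, hV, hxV⟩ :=
    Groth.Agent.Lib.Helper12.NormAff.exists_affine_mem X (f.fromNormalization.base x')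
  have hW : IsAffineOpen (f.fromNormalization ⁻¹ᵁ V) := hV.preimage f.fromNormalization
  have hxW : x' ∈ f.fromNormalization ⁻¹ᵁ V := hxV
  have hWU' : f ⁻¹ᵁ V = f.toNormalization ⁻¹ᵁ (f.fromNormalization ⁻¹ᵁ V) := by
    rw [← Scheme.Hom.comp_preimage, f.toNormalization_fromNormalization]
  letI := (f.app V).hom.toAlgebra
  obtain ⟨E, hE1, hE2⟩ := Groth.Agent.Lib.Helper12.NormField.exists_ringEquiv' f hV hWU'.le
  obtain ⟨ψ, hψ⟩ : ∃ ψ : Γ(f.normalization, f.fromNormalization ⁻¹ᵁ V) →+* Γ(Y, f ⁻¹ᵁ V),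
      ψ = (f.toNormalization.appLE _ _ hWU'.le).hom := ⟨_, rfl⟩
  have hψinj : Function.Injective ψ := by
    intro a b hab
    apply E.injective
    apply Subtype.ext
    rw [hE2, hE2, ← hψ]; exact hab
  have hψrange : ∀ b : Γ(Y, f ⁻¹ᵁ V), IsIntegral Γ(X, V) b → ∃ a, ψ a = b := by
    intro b hb
    refine ⟨E.symm ⟨b, hb⟩, ?_⟩
    rw [hψ, ← hE2, E.apply_symm_apply]
  have hψβ : ∀ a : Γ(X, V), ψ ((f.fromNormalization.app V).hom a) = (f.app V).hom a := by
    intro a
    rw [hψ, ← hE2, hE1]; rfl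
  have hint : (f.fromNormalization.app V).hom.IsIntegral :=
    IsIntegralHom.isIntegral_app f.fromNormalization V hV
  have hψic : ∀ c, ψ.IsIntegralElem c → ∃ a, ψ a = c := by
    intro c hc
    apply hψrange
    letI := (f.fromNormalization.app V).hom.toAlgebra
    letI := ψ.toAlgebra
    haveI : IsScalarTower Γ(X, V) Γ(f.normalization, f.fromNormalization ⁻¹ᵁ V)
        Γ(Y, f ⁻¹ᵁ V) :=
      IsScalarTower.of_algebraMap_eq' (RingHom.ext fun a => (hψβ a).symm)
    haveI : Algebra.IsIntegral Γ(X, V) Γ(f.normalization, f.fromNormalization ⁻¹ᵁ V) :=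
      ⟨fun x => hint x⟩
    exact isIntegral_trans c hc
  -- the stalk
  letI := f.normalization.presheaf.algebra_section_stalk
    (U := f.fromNormalization ⁻¹ᵁ V) ⟨x', hxW⟩
  haveI := hW.isLocalization_stalk ⟨x', hxW⟩
  haveI : (hW.primeIdealOf ⟨x', hxW⟩).asIdeal.IsPrime := (hW.primeIdealOf ⟨x', hxW⟩).isPrime
  have hUU : ∀ t : Γ(f.normalization, f.fromNormalization ⁻¹ᵁ V),
      algebraMap _ (f.normalization.presheaf.stalk x') t ∈
        nonZeroDivisors (f.normalization.presheaf.stalk x') →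
      ∃ s, s ∉ (hW.primeIdealOf ⟨x', hxW⟩).asIdeal ∧ ∃ c : Γ(Y, f ⁻¹ᵁ V), ψ t * c = ψ s := by
    intro t htn
    by_cases htq : t ∈ (hW.primeIdealOf ⟨x', hxW⟩).asIdeal
    · rw [hψ]
      exact exists_mul_eq f hV hW x' hxW hx' hWU'.le t (fun p hp hpq htp =>
        eq_of_le_of_mem_of_nzd (hW.primeIdealOf ⟨x', hxW⟩).asIdeal
          (f.normalization.presheaf.stalk x') hdim t htn p hp hpq htp)
    · exact ⟨t, htq, 1, by rw [mul_one]⟩
  have hic := isIntegrallyClosedIn_fractionRing ψ hψinj hψic (hW.primeIdealOf ⟨x', hxW⟩).asIdeal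
    (f.normalization.presheaf.stalk x') hUU
  exact isDomain_and_dvr (f.normalization.presheaf.stalk x') hic hdim

end Main

end Groth.Agent.Lib.Helper6.NormDVR
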