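import Groth.Agent.Lib.Helper6.NormDVR

/-!
# Projective completion of a reduced curve with regular boundary points
-/

set_option autoImplicit false
set_option linter.style.haveILetI false
set_option linter.unusedSectionVars false
set_option linter.unusedVariables false
set_option maxHeartbeats 1600000

universe u

open CategoryTheory CategoryTheory.Limits AlgebraicGeometry TopologicalSpace
open Groth.Agent.Lib.Helper12 Groth.Agent.Lib.Helper12.SchemeDimFT

namespace Groth.Agent.Lib.Helper6.NormDVR2

theorem main (k : Type u) [Field k] (X : Scheme.{u}) [X.Over (Spec (CommRingCat.of k))]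
    [IsReduced X] [IsSeparated (X ↘ (Spec (CommRingCat.of k)))]
    [LocallyOfFiniteType (X ↘ (Spec (CommRingCat.of k)))]
    [QuasiCompact (X ↘ (Spec (CommRingCat.of k)))] (hdim : topologicalKrullDim X ≤ 1) :
    ∃ (d : ℕ) (Y : Scheme.{u}) (c : Y ⟶ CohB1.ProjSpace d k) (j : X ⟶ Y),
      IsClosedImmersion c ∧ IsOpenImmersion j ∧
      j ≫ c ≫ CohB1.ProjSpace.toSpec d k = X ↘ (Spec (CommRingCat.of k)) ∧
      Dense (Set.range j.base) ∧ IsSchemeTheoreticallyDominant j ∧
      (Set.range j.base)ᶜ.Finite ∧ ∀ y ∈ (Set.range j.base)ᶜ, IsClosed ({y} : Set Y) ∧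
        ∃ _ : IsDomain (Y.presheaf.stalk y), IsDiscreteValuationRing (Y.presheaf.stalk y) := by
  classical
  haveI : IsLocallyNoetherian X :=
    LocallyOfFiniteType.isLocallyNoetherian (X ↘ Spec (CommRingCat.of k))
  haveI : CompactSpace X :=
    QuasiCompact.compactSpace_of_compactSpace (X ↘ Spec (CommRingCat.of k))
  haveI : IsNoetherian X := {}
  obtain ⟨d, Y₀, c, j₀, hc, hj₀, hcomp, hdense, hdom, hfin₀, hcl₀⟩ :=
    Groth.Agent.Lib.Helper6.CurveCompl.main k X hdim
  haveI := hc
  haveI := hj₀
  haveI := hdom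
  letI : Y₀.Over (Spec (CommRingCat.of k)) := ⟨c ≫ CohB1.ProjSpace.toSpec d k⟩
  have hovY₀ : (Y₀ ↘ Spec (CommRingCat.of k)) = c ≫ CohB1.ProjSpace.toSpec d k := rfl
  haveI : IsProper (Y₀ ↘ Spec (CommRingCat.of k)) := by
    rw [hovY₀]; infer_instance
  haveI : IsNoetherian Y₀ := Groth.Agent.Lib.Helper23.Curve.isNoetherian_of_isProper k Y₀
  have hdimY₀ : topologicalKrullDim Y₀ ≤ 1 :=
    Groth.Agent.Lib.Helper6.CurveCompl.dim_le_of_dense_open k
      (Y₀ ↘ Spec (CommRingCat.of k)) j₀ hdense 1 hdim
  haveI : QuasiCompact j₀ := inferInstance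
  have hS : ∀ U : Y₀.affineOpens, CAlg.IsNagata Γ(Y₀, U) := by
    intro U
    letI := secAlgebra k Y₀ U.1
    haveI := finiteType_sec k Y₀ U.1 U.2
    exact Groth.Agent.S0566.result k (Groth.Agent.Lib.Helper23.NodalGlue.isNagata_field k)
      Γ(Y₀, U.1)
  haveI hfinN : IsFinite j₀.fromNormalization := Groth.Agent.S9675.result j₀ hS
  haveI : IsOpenImmersion j₀.toNormalization := inferInstance
  have hdimN : topologicalKrullDim j₀.normalization ≤ 1 :=
    (Groth.Agent.Lib.Helper16.EtDim.topologicalKrullDim_le_of_locallyQuasiFinite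
      j₀.fromNormalization).trans hdimY₀
  letI : j₀.normalization.Over (Spec (CommRingCat.of k)) :=
    ⟨j₀.fromNormalization ≫ (Y₀ ↘ Spec (CommRingCat.of k))⟩
  have hovN : (j₀.normalization ↘ Spec (CommRingCat.of k)) =
      j₀.fromNormalization ≫ (Y₀ ↘ Spec (CommRingCat.of k)) := rfl
  haveI : IsProper (j₀.normalization ↘ Spec (CommRingCat.of k)) := by
    rw [hovN]; infer_instance
  haveI : IsNoetherian j₀.normalization :=
    Groth.Agent.Lib.Helper23.Curve.isNoetherian_of_isProper k j₀.normalization
  obtain ⟨n, i, hi, hicomp⟩ := Groth.Agent.S7645.result k j₀.normalization hdimN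
  have hopen : IsOpen (Set.range j₀.toNormalization.base) :=
    j₀.toNormalization.isOpenEmbedding.isOpen_range
  have hdenseN : Dense (Set.range j₀.toNormalization.base) := j₀.toNormalization.denseRange
  have hclosedpt : ∀ y ∈ (Set.range j₀.toNormalization.base)ᶜ,
      IsClosed ({y} : Set j₀.normalization) :=
    fun y hy => Groth.Agent.Lib.Helper6.CurveCompl.isClosed_singleton_of_not_mem hdimN _ hopen
      hdenseN y hy
  refine ⟨n, j₀.normalization, i, j₀.toNormalization, hi, inferInstance, ?_, hdenseN,
    ⟨j₀.ker_toNormalization⟩,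
    Groth.Agent.Lib.Helper6.CurveCompl.finite_compl _ hopen hclosedpt,
    fun y hy => ⟨hclosedpt y hy, ?_⟩⟩
  · rw [hicomp, hovN, ← Category.assoc, j₀.toNormalization_fromNormalization, hovY₀, hcomp]
  · apply Groth.Agent.Lib.Helper6.NormDVR.main j₀ hS y ?_ hy
    apply le_antisymm
    · exact (Groth.Agent.Lib.Helper26.AmpleCurve.ringKrullDim_stalk_le_topologicalKrullDim
        y).trans hdimN
    · rw [ringKrullDim_stalk_eq_coheight]
      obtain ⟨η, hη⟩ := QuasiSober.sober (isIrreducible_irreducibleComponent (x := y))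
        isClosed_irreducibleComponent
      have hη' : closure ({η} : Set j₀.normalization) = irreducibleComponent y := hη
      obtain ⟨z, hzZ, hzU⟩ := Groth.Agent.Lib.Helper6.CurveCompl.exists_mem_inter_of_dense
        (Set.range j₀.toNormalization.base) hdenseN (irreducibleComponent y)
        (irreducibleComponent_mem_irreducibleComponents y)
      have hηz : η ⤳ z := by
        rw [specializes_iff_mem_closure, hη']; exact hzZ
      have hηU : η ∈ Set.range j₀.toNormalization.base := hηz.mem_open hopen hzU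
      have hspec : η ⤳ y := by
        rw [specializes_iff_mem_closure, hη']; exact mem_irreducibleComponent
      have hne : η ≠ y := fun h => hy (h ▸ hηU)
      have h1 : y < η := by
        refine lt_of_le_not_ge (Scheme.le_iff_specializes.mpr hspec) (fun h => ?_)
        have h2 : y ⤳ η := Scheme.le_iff_specializes.mp h
        exact hne ((h2.antisymm hspec).eq).symm
      have h3 := Order.coheight_add_one_le h1
      have h4 : (1 : ℕ∞) ≤ Order.coheight y := le_trans le_add_self h3
      exact_mod_cast h4

end Groth.Agent.Lib.Helper6.NormDVR2
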