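import Mathlib
import Groth.Prelude.Def_QFDual

/-!
Helper6: the relative dualizing module `B ⊗[B'] Hom_A(B', A)` of a product of two towers.
-/

set_option autoImplicit false

namespace Groth.Agent.Lib.Helper6.OmegaProd

open TensorProduct

universe u
variable {A B' C' : Type u} [CommRing A] [CommRing B'] [CommRing C'] [Algebra A B'] [Algebra A C']

/-- restriction of a form on `B' × C'` to the first factor -/
def resL : Disc.Omega A (B' × C') →+ Disc.Omega A B' where
  toFun φ := ⟨φ.toLinearMap ∘ₗ LinearMap.inl A B' C'⟩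
  map_zero' := by refine Disc.Omega.ext (LinearMap.ext fun x => ?_); rfl
  map_add' φ ψ := by refine Disc.Omega.ext (LinearMap.ext fun x => ?_); rfl

/-- restriction of a form on `B' × C'` to the second factor -/
def resR : Disc.Omega A (B' × C') →+ Disc.Omega A C' where
  toFun φ := ⟨φ.toLinearMap ∘ₗ LinearMap.inr A B' C'⟩
  map_zero' := by refine Disc.Omega.ext (LinearMap.ext fun x => ?_); rfl
  map_add' φ ψ := by refine Disc.Omega.ext (LinearMap.ext fun x => ?_); rfl

/-- extension by zero of a form on the first factor -/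
def extL : Disc.Omega A B' →+ Disc.Omega A (B' × C') where
  toFun ψ := ⟨ψ.toLinearMap ∘ₗ LinearMap.fst A B' C'⟩
  map_zero' := by refine Disc.Omega.ext (LinearMap.ext fun x => ?_); rfl
  map_add' φ ψ := by refine Disc.Omega.ext (LinearMap.ext fun x => ?_); rfl

/-- extension by zero of a form on the second factor -/
def extR : Disc.Omega A C' →+ Disc.Omega A (B' × C') where
  toFun ψ := ⟨ψ.toLinearMap ∘ₗ LinearMap.snd A B' C'⟩
  map_zero' := by refine Disc.Omega.ext (LinearMap.ext fun x => ?_); rfl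
  map_add' φ ψ := by refine Disc.Omega.ext (LinearMap.ext fun x => ?_); rfl

theorem resL_smul (r : B' × C') (φ : Disc.Omega A (B' × C')) :
    resL (r • φ) = r.1 • resL φ := by
  refine Disc.Omega.ext (LinearMap.ext fun x => ?_)
  show φ.toLinearMap (r * LinearMap.inl A B' C' x) =
    φ.toLinearMap (LinearMap.inl A B' C' (r.1 * x))
  exact congrArg φ.toLinearMap (Prod.ext (by simp) (by simp))

theorem resR_smul (r : B' × C') (φ : Disc.Omega A (B' × C')) :
    resR (r • φ) = r.2 • resR φ := by
  refine Disc.Omega.ext (LinearMap.ext fun x => ?_)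
  show φ.toLinearMap (r * LinearMap.inr A B' C' x) =
    φ.toLinearMap (LinearMap.inr A B' C' (r.2 * x))
  exact congrArg φ.toLinearMap (Prod.ext (by simp) (by simp))

theorem extL_smul (b' : B') (c' : C') (ψ : Disc.Omega A B') :
    (extL (b' • ψ) : Disc.Omega A (B' × C')) = ((b', c') : B' × C') • extL ψ := by
  refine Disc.Omega.ext (LinearMap.ext fun x => ?_)
  rfl

theorem extR_smul (b' : B') (c' : C') (ψ : Disc.Omega A C') :
    (extR (c' • ψ) : Disc.Omega A (B' × C')) = ((b', c') : B' × C') • extR ψ := by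
  refine Disc.Omega.ext (LinearMap.ext fun x => ?_)
  rfl

theorem resL_extL (ψ : Disc.Omega A B') : resL (extL (C' := C') ψ) = ψ := by
  refine Disc.Omega.ext (LinearMap.ext fun x => ?_)
  rfl

theorem resR_extR (ψ : Disc.Omega A C') : resR (extR (B' := B') ψ) = ψ := by
  refine Disc.Omega.ext (LinearMap.ext fun x => ?_)
  rfl

theorem resR_extL (ψ : Disc.Omega A B') : resR (extL (C' := C') ψ) = 0 := by
  refine Disc.Omega.ext (LinearMap.ext fun x => ?_)
  exact map_zero ψ.toLinearMap

theorem resL_extR (ψ : Disc.Omega A C') : resL (extR (B' := B') ψ) = 0 := by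
  refine Disc.Omega.ext (LinearMap.ext fun x => ?_)
  exact map_zero ψ.toLinearMap

theorem decomp (φ : Disc.Omega A (B' × C')) :
    ((1, 0) : B' × C') • extL (resL φ) + ((0, 1) : B' × C') • extR (resR φ) = φ := by
  refine Disc.Omega.ext (LinearMap.ext fun x => ?_)
  show φ.toLinearMap (LinearMap.inl A B' C' (LinearMap.fst A B' C' (((1, 0) : B' × C') * x))) +
    φ.toLinearMap (LinearMap.inr A B' C' (LinearMap.snd A B' C' (((0, 1) : B' × C') * x))) =
      φ.toLinearMap x
  rw [← map_add]
  exact congrArg φ.toLinearMap (Prod.ext (by simp) (by simp))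

variable {B C : Type u} [CommRing B] [CommRing C] [Algebra B' B] [Algebra C' C]
  [Algebra (B' × C') (B × C)]

theorem smul_eq (halg : algebraMap (B' × C') (B × C) = (algebraMap B' B).prodMap (algebraMap C' C))
    (r : B' × C') (s : B × C) : r • s = (r.1 • s.1, r.2 • s.2) := by
  rw [Algebra.smul_def, halg]
  refine Prod.ext ?_ ?_ <;> simp [Algebra.smul_def]

/-- the forward map `(B × C) ⊗ Ω(B' × C') → (B ⊗ Ω B') × (C ⊗ Ω C')` -/
noncomputable def fwd
    (halg : algebraMap (B' × C') (B × C) = (algebraMap B' B).prodMap (algebraMap C' C)) :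
    (B × C) ⊗[B' × C'] Disc.Omega A (B' × C') →+
      (B ⊗[B'] Disc.Omega A B') × (C ⊗[C'] Disc.Omega A C') :=
  TensorProduct.liftAddHom
    { toFun := fun s =>
        { toFun := fun φ => (s.1 ⊗ₜ[B'] resL φ, s.2 ⊗ₜ[C'] resR φ)
          map_zero' := by simp
          map_add' := fun φ ψ => by simp [tmul_add] }
      map_zero' := by
        refine AddMonoidHom.ext fun φ => ?_
        simp
      map_add' := fun s t => by
        refine AddMonoidHom.ext fun φ => ?_
        simp [add_tmul] }
    (fun r s φ => by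
      show ((r • s).1 ⊗ₜ[B'] resL φ, (r • s).2 ⊗ₜ[C'] resR φ) =
        (s.1 ⊗ₜ[B'] resL (r • φ), s.2 ⊗ₜ[C'] resR (r • φ))
      rw [smul_eq halg, resL_smul, resR_smul, TensorProduct.smul_tmul, TensorProduct.smul_tmul])

@[simp] theorem fwd_tmul
    (halg : algebraMap (B' × C') (B × C) = (algebraMap B' B).prodMap (algebraMap C' C))
    (s : B × C) (φ : Disc.Omega A (B' × C')) :
    fwd halg (s ⊗ₜ[B' × C'] φ) = (s.1 ⊗ₜ[B'] resL φ, s.2 ⊗ₜ[C'] resR φ) := rfl

/-- the backward map on the first factor -/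
noncomputable def bwdL
    (halg : algebraMap (B' × C') (B × C) = (algebraMap B' B).prodMap (algebraMap C' C)) :
    B ⊗[B'] Disc.Omega A B' →+ (B × C) ⊗[B' × C'] Disc.Omega A (B' × C') :=
  TensorProduct.liftAddHom
    { toFun := fun b =>
        { toFun := fun ψ => ((b, 0) : B × C) ⊗ₜ[B' × C'] extL ψ
          map_zero' := by simp
          map_add' := fun ψ χ => by simp [tmul_add] }
      map_zero' := by
        refine AddMonoidHom.ext fun ψ => ?_
        show ((0, 0) : B × C) ⊗ₜ[B' × C'] extL ψ = 0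
        rw [Prod.mk_zero_zero, zero_tmul]
      map_add' := fun b b₂ => by
        refine AddMonoidHom.ext fun ψ => ?_
        show ((b + b₂, 0) : B × C) ⊗ₜ[B' × C'] extL ψ =
          ((b, 0) : B × C) ⊗ₜ[B' × C'] extL ψ + ((b₂, 0) : B × C) ⊗ₜ[B' × C'] extL ψ
        rw [← add_tmul, Prod.mk_add_mk, add_zero] }
    (fun r b ψ => by
      show ((r • b, 0) : B × C) ⊗ₜ[B' × C'] extL ψ = ((b, 0) : B × C) ⊗ₜ[B' × C'] extL (r • ψ)
      rw [extL_smul r 0 ψ, ← TensorProduct.smul_tmul, smul_eq halg]
      simp)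

@[simp] theorem bwdL_tmul
    (halg : algebraMap (B' × C') (B × C) = (algebraMap B' B).prodMap (algebraMap C' C))
    (b : B) (ψ : Disc.Omega A B') :
    bwdL (C := C) halg (b ⊗ₜ[B'] ψ) = ((b, 0) : B × C) ⊗ₜ[B' × C'] extL ψ := rfl

/-- the backward map on the second factor -/
noncomputable def bwdR
    (halg : algebraMap (B' × C') (B × C) = (algebraMap B' B).prodMap (algebraMap C' C)) :
    C ⊗[C'] Disc.Omega A C' →+ (B × C) ⊗[B' × C'] Disc.Omega A (B' × C') :=
  TensorProduct.liftAddHom
    { toFun := fun c =>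
        { toFun := fun ψ => ((0, c) : B × C) ⊗ₜ[B' × C'] extR ψ
          map_zero' := by simp
          map_add' := fun ψ χ => by simp [tmul_add] }
      map_zero' := by
        refine AddMonoidHom.ext fun ψ => ?_
        show ((0, 0) : B × C) ⊗ₜ[B' × C'] extR ψ = 0
        rw [Prod.mk_zero_zero, zero_tmul]
      map_add' := fun c c₂ => by
        refine AddMonoidHom.ext fun ψ => ?_
        show ((0, c + c₂) : B × C) ⊗ₜ[B' × C'] extR ψ =
          ((0, c) : B × C) ⊗ₜ[B' × C'] extR ψ + ((0, c₂) : B × C) ⊗ₜ[B' × C'] extR ψ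
        rw [← add_tmul, Prod.mk_add_mk, add_zero] }
    (fun r c ψ => by
      show ((0, r • c) : B × C) ⊗ₜ[B' × C'] extR ψ = ((0, c) : B × C) ⊗ₜ[B' × C'] extR (r • ψ)
      rw [extR_smul 0 r ψ, ← TensorProduct.smul_tmul, smul_eq halg]
      simp)

@[simp] theorem bwdR_tmul
    (halg : algebraMap (B' × C') (B × C) = (algebraMap B' B).prodMap (algebraMap C' C))
    (c : C) (ψ : Disc.Omega A C') :
    bwdR (B := B) halg (c ⊗ₜ[C'] ψ) = ((0, c) : B × C) ⊗ₜ[B' × C'] extR ψ := rfl

theorem bwd_fwd
    (halg : algebraMap (B' × C') (B × C) = (algebraMap B' B).prodMap (algebraMap C' C))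
    (x : (B × C) ⊗[B' × C'] Disc.Omega A (B' × C')) :
    bwdL halg (fwd halg x).1 + bwdR halg (fwd halg x).2 = x := by
  induction x using TensorProduct.induction_on with
  | zero => simp
  | tmul s φ =>
    rw [fwd_tmul, bwdL_tmul, bwdR_tmul]
    have h1 : ((s.1, 0) : B × C) = ((1, 0) : B' × C') • s := by
      rw [smul_eq halg]; simp
    have h2 : ((0, s.2) : B × C) = ((0, 1) : B' × C') • s := by
      rw [smul_eq halg]; simp
    rw [h1, h2, TensorProduct.smul_tmul, TensorProduct.smul_tmul, ← tmul_add, decomp]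
  | add x y hx hy =>
    rw [map_add, Prod.fst_add, Prod.snd_add, map_add, map_add]
    conv_rhs => rw [← hx, ← hy]
    abel

theorem fwd_bwdL
    (halg : algebraMap (B' × C') (B × C) = (algebraMap B' B).prodMap (algebraMap C' C))
    (t : B ⊗[B'] Disc.Omega A B') :
    fwd halg (bwdL (C := C) halg t) = (t, 0) := by
  induction t using TensorProduct.induction_on with
  | zero => rw [map_zero, map_zero]; rfl
  | tmul b ψ =>
    rw [bwdL_tmul, fwd_tmul, resL_extL, resR_extL, tmul_zero]
  | add x y hx hy =>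
    rw [map_add, map_add, hx, hy, Prod.mk_add_mk, add_zero]

theorem fwd_bwdR
    (halg : algebraMap (B' × C') (B × C) = (algebraMap B' B).prodMap (algebraMap C' C))
    (t : C ⊗[C'] Disc.Omega A C') :
    fwd halg (bwdR (B := B) halg t) = (0, t) := by
  induction t using TensorProduct.induction_on with
  | zero => rw [map_zero, map_zero]; rfl
  | tmul b ψ =>
    rw [bwdR_tmul, fwd_tmul, resL_extR, resR_extR, tmul_zero]
  | add x y hx hy =>
    rw [map_add, map_add, hx, hy, Prod.mk_add_mk, add_zero]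

theorem fwd_bwd
    (halg : algebraMap (B' × C') (B × C) = (algebraMap B' B).prodMap (algebraMap C' C))
    (y : (B ⊗[B'] Disc.Omega A B') × (C ⊗[C'] Disc.Omega A C')) :
    fwd halg (bwdL halg y.1 + bwdR halg y.2) = y := by
  rw [map_add, fwd_bwdL, fwd_bwdR, Prod.mk_add_mk, add_zero, zero_add]

end Groth.Agent.Lib.Helper6.OmegaProd
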