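import Mathlib

/-!
# Bracket calculus on `K²` and sharp 3-transitivity on the projective line (helper6)
-/

set_option autoImplicit false

namespace Groth.Agent.Lib.Helper6.P1Trans

variable {K : Type*} [Field K]

/-- the bracket (2×2 determinant) of two vectors. -/
def br (u v : Fin 2 → K) : K := u 0 * v 1 - u 1 * v 0

lemma br_self (u : Fin 2 → K) : br u u = 0 := by unfold br; ring

lemma br_swap (u v : Fin 2 → K) : br u v = - br v u := by unfold br; ring

lemma br_add_left (u u' v : Fin 2 → K) : br (u + u') v = br u v + br u' v := by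
  simp only [br, Pi.add_apply]; ring

lemma br_sub_left (u u' v : Fin 2 → K) : br (u - u') v = br u v - br u' v := by
  simp only [br, Pi.sub_apply]; ring

lemma br_smul_left (c : K) (u v : Fin 2 → K) : br (c • u) v = c * br u v := by
  simp only [br, Pi.smul_apply, smul_eq_mul]; ring

lemma br_smul_right (c : K) (u v : Fin 2 → K) : br u (c • v) = c * br u v := by
  simp only [br, Pi.smul_apply, smul_eq_mul]; ring

lemma br_zero_left (v : Fin 2 → K) : br 0 v = 0 := by simp [br]

/-- the Plücker relation. -/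
lemma plucker (a b c : Fin 2 → K) : br b c • a + br c a • b + br a b • c = 0 := by
  ext i
  fin_cases i <;> simp [br] <;> ring

lemma eq_zero_of_ne (w : Fin 2 → K) (h0 : w 0 = 0) (h1 : w 1 = 0) : w = 0 := by
  ext i
  fin_cases i
  · exact h0
  · exact h1

/-- extraction of the proportionality factor. -/
lemma exists_smul_of_br_eq_zero {u w : Fin 2 → K} (h : br u w = 0) (hw : w ≠ 0) :
    ∃ α : K, u = α • w := by
  unfold br at h
  by_cases h0 : w 0 = 0
  · have h1 : w 1 ≠ 0 := fun h1 => hw (eq_zero_of_ne w h0 h1)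
    refine ⟨u 1 / w 1, ?_⟩
    ext i
    fin_cases i
    · simp only [Fin.zero_eta, Pi.smul_apply, smul_eq_mul, h0, mul_zero]
      rw [h0, mul_zero, sub_zero] at h
      exact (mul_eq_zero.mp h).resolve_right h1
    · simp only [Fin.mk_one, Pi.smul_apply, smul_eq_mul]
      field_simp
  · refine ⟨u 0 / w 0, ?_⟩
    ext i
    fin_cases i
    · simp only [Fin.zero_eta, Pi.smul_apply, smul_eq_mul]
      field_simp
    · simp only [Fin.mk_one, Pi.smul_apply, smul_eq_mul]
      field_simp
      linear_combination -h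

/-- a vector orthogonal (for the bracket) to two independent vectors vanishes. -/
lemma eq_zero_of_br_eq_zero {u w w' : Fin 2 → K} (h : br u w = 0) (h' : br u w' = 0)
    (hww : br w w' ≠ 0) : u = 0 := by
  have h1 := plucker u w w'
  rw [br_swap w' u, h', neg_zero, zero_smul, add_zero, h, zero_smul, add_zero] at h1
  exact (smul_eq_zero.mp h1).resolve_left hww

lemma ne_zero_of_br_ne_zero_left {u v : Fin 2 → K} (h : br u v ≠ 0) : u ≠ 0 := by
  rintro rfl
  exact h (br_zero_left v)

lemma ne_zero_of_br_ne_zero_right {u v : Fin 2 → K} (h : br u v ≠ 0) : v ≠ 0 := by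
  rintro rfl
  apply h
  simp [br]

/-- a linear map killing two independent vectors vanishes. -/
lemma linearMap_eq_zero {φ : (Fin 2 → K) →ₗ[K] (Fin 2 → K)} {v v' : Fin 2 → K}
    (hvv : br v v' ≠ 0) (h : φ v = 0) (h' : φ v' = 0) : φ = 0 := by
  apply LinearMap.ext
  intro z
  have h1 := congrArg φ (plucker z v v')
  rw [map_add, map_add, map_smul, map_smul, map_smul, h, h', smul_zero, smul_zero, add_zero,
    add_zero, map_zero] at h1
  exact (smul_eq_zero.mp h1).resolve_left hvv

/-- uniqueness up to a scalar of the linear map matching three lines with three lines. -/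
theorem uniq (φ φ' : (Fin 2 → K) →ₗ[K] (Fin 2 → K)) (v w : Fin 3 → Fin 2 → K)
    (hv : ∀ i j, i ≠ j → br (v i) (v j) ≠ 0) (hw : ∀ i j, i ≠ j → br (w i) (w j) ≠ 0)
    (hφ : ∀ i, br (φ (v i)) (w i) = 0) (hφ' : ∀ i, br (φ' (v i)) (w i) = 0)
    (hne : φ (v 0) ≠ 0) : ∃ c : K, φ' = c • φ := by
  have hw0 : w 0 ≠ 0 := ne_zero_of_br_ne_zero_left (hw 0 1 (by decide))
  obtain ⟨α, hα⟩ := exists_smul_of_br_eq_zero (hφ 0) hw0
  obtain ⟨α', hα'⟩ := exists_smul_of_br_eq_zero (hφ' 0) hw0
  have hα0 : α ≠ 0 := by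
    rintro rfl
    rw [zero_smul] at hα
    exact hne hα
  refine ⟨α' / α, ?_⟩
  set ψ : (Fin 2 → K) →ₗ[K] (Fin 2 → K) := φ' - (α' / α) • φ with hψ
  have hψ0 : ψ (v 0) = 0 := by
    rw [hψ, LinearMap.sub_apply, LinearMap.smul_apply, hα, hα', smul_smul,
      div_mul_cancel₀ _ hα0, sub_self]
  have hψi : ∀ i, br (ψ (v i)) (w i) = 0 := by
    intro i
    rw [hψ, LinearMap.sub_apply, LinearMap.smul_apply, br_sub_left, br_smul_left, hφ i, hφ' i,
      mul_zero, sub_zero]
  -- `ψ (v 1)` is proportional to `ψ (v 2)`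
  have h1 := congrArg ψ (plucker (v 1) (v 0) (v 2))
  rw [map_add, map_add, map_smul, map_smul, map_smul, hψ0, smul_zero, add_zero, map_zero] at h1
  -- h1 : br (v 0) (v 2) • ψ (v 1) + br (v 1) (v 0) • ψ (v 2) = 0
  have h2 : br (ψ (v 1)) (w 2) = 0 := by
    have h3 := congrArg (fun u => br u (w 2)) h1
    simp only [br_add_left, br_smul_left, hψi 2, mul_zero, add_zero, br_zero_left] at h3
    exact (mul_eq_zero.mp h3).resolve_left (hv 0 2 (by decide))
  have hψ1 : ψ (v 1) = 0 := eq_zero_of_br_eq_zero (hψi 1) h2 (hw 1 2 (by decide))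
  have hψz : ψ = 0 := linearMap_eq_zero (hv 0 1 (by decide)) hψ0 hψ1
  rw [hψ, sub_eq_zero] at hψz
  exact hψz

end Groth.Agent.Lib.Helper6.P1Trans
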