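import Mathlib
import Groth.Prelude.Def_W4c1stackycurvesGalP1
import Groth.Agent.Lib.Helper6.P1TransA

/-!
# Galois descent of the projectivity matching three points (helper6)
-/

set_option autoImplicit false

namespace Groth.Agent.Lib.Helper6.P1Trans

open Matrix W4c1stackycurves

variable {K : Type*} [Field K]

lemma br_mulVec (M : Matrix (Fin 2) (Fin 2) K) (z w : Fin 2 → K) :
    br (M *ᵥ z) w = (M 0 0 * z 0 + M 0 1 * z 1) * w 1 - (M 1 0 * z 0 + M 1 1 * z 1) * w 0 := by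
  simp [br, Matrix.mulVec, dotProduct, Fin.sum_univ_two]

/-- the explicit matrix matching `v₁, v₂, v₃` with `w₁, w₂, w₃`. -/
def gmat (v1 v2 v3 w1 w2 w3 : Fin 2 → K) : Matrix (Fin 2) (Fin 2) K :=
  !![br w3 w2 * br v1 v3 * v2 1 * w1 0 - br w1 w3 * br v3 v2 * v1 1 * w2 0,
     -(br w3 w2 * br v1 v3 * v2 0 * w1 0) + br w1 w3 * br v3 v2 * v1 0 * w2 0;
     br w3 w2 * br v1 v3 * v2 1 * w1 1 - br w1 w3 * br v3 v2 * v1 1 * w2 1,
     -(br w3 w2 * br v1 v3 * v2 0 * w1 1) + br w1 w3 * br v3 v2 * v1 0 * w2 1]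

lemma gmat_1 (v1 v2 v3 w1 w2 w3 : Fin 2 → K) : br (gmat v1 v2 v3 w1 w2 w3 *ᵥ v1) w1 = 0 := by
  rw [br_mulVec]
  simp [gmat, br]
  ring

lemma gmat_2 (v1 v2 v3 w1 w2 w3 : Fin 2 → K) : br (gmat v1 v2 v3 w1 w2 w3 *ᵥ v2) w2 = 0 := by
  rw [br_mulVec]
  simp [gmat, br]
  ring

lemma gmat_3 (v1 v2 v3 w1 w2 w3 : Fin 2 → K) : br (gmat v1 v2 v3 w1 w2 w3 *ᵥ v3) w3 = 0 := by
  rw [br_mulVec]
  simp [gmat, br]
  ring

lemma gmat_det (v1 v2 v3 w1 w2 w3 : Fin 2 → K) : (gmat v1 v2 v3 w1 w2 w3).det =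
    br w3 w2 * br v1 v3 * (br w1 w3 * br v3 v2) * (br v1 v2 * br w1 w2) := by
  rw [Matrix.det_fin_two]
  simp [gmat, br]
  ring

lemma mk_eq_of_br {u w : Fin 2 → K} (hu : u ≠ 0) (hw : w ≠ 0) (h : br u w = 0) :
    Projectivization.mk K u hu = Projectivization.mk K w hw := by
  obtain ⟨α, hα⟩ := exists_smul_of_br_eq_zero h hw
  rw [Projectivization.mk_eq_mk_iff']
  exact ⟨α, hα.symm⟩

lemma br_of_mk_eq {u w : Fin 2 → K} (hu : u ≠ 0) (hw : w ≠ 0)
    (h : Projectivization.mk K u hu = Projectivization.mk K w hw) : br u w = 0 := by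
  rw [Projectivization.mk_eq_mk_iff'] at h
  obtain ⟨a, rfl⟩ := h
  rw [br_smul_left, br_self, mul_zero]

variable {k : Type*} [Field k] [Algebra k K]

lemma br_galVec (σ : K ≃ₐ[k] K) (u w : Fin 2 → K) :
    br (galVec σ (Fin 2) u) (galVec σ (Fin 2) w) = σ (br u w) := by
  simp [br, galVec_apply]

lemma galVec_mulVec (σ : K ≃ₐ[k] K) (M : Matrix (Fin 2) (Fin 2) K) (z : Fin 2 → K) :
    galVec σ (Fin 2) (M *ᵥ z) = (M.map σ) *ᵥ (galVec σ (Fin 2) z) := by
  ext i
  rw [galVec_apply]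
  exact RingHom.map_mulVec (σ : K →+* K) M z i

lemma galP_mk (σ : K ≃ₐ[k] K) (u : Fin 2 → K) (hu : u ≠ 0) :
    galP σ (Projectivization.mk K u hu) = Projectivization.mk K (galVec σ (Fin 2) u)
      (fun h => hu (galVec_injective σ (Fin 2) (h.trans (map_zero _).symm))) := rfl

lemma toLin_smul (M : Matrix (Fin 2) (Fin 2) k) (hM : M.det ≠ 0) (z : Fin 2 → K) :
    (Matrix.GeneralLinearGroup.toLin ((Matrix.GeneralLinearGroup.map (algebraMap k K))
      (Matrix.GeneralLinearGroup.mkOfDetNeZero M hM))) • z = (M.map (algebraMap k K)) *ᵥ z := by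
  rfl

theorem three_points [FiniteDimensional k K] [IsGalois k K]
    (x y : Fin 3 → Projectivization K (Fin 2 → K))
    (hx : Function.Injective x) (hy : Function.Injective y)
    (H : ∀ σ : K ≃ₐ[k] K, ∀ j, ∃ i, galP σ (x i) = x j ∧ galP σ (y i) = y j) :
    ∃ g : Matrix.GeneralLinearGroup (Fin 2) k, ∀ i,
      (Matrix.GeneralLinearGroup.toLin ((Matrix.GeneralLinearGroup.map (algebraMap k K)) g)) • x i
        = y i := by
  classical
  set v : Fin 3 → Fin 2 → K := fun i => (x i).rep with hvdef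
  set w : Fin 3 → Fin 2 → K := fun i => (y i).rep with hwdef
  have hv0 : ∀ i, v i ≠ 0 := fun i => (x i).rep_nonzero
  have hw0 : ∀ i, w i ≠ 0 := fun i => (y i).rep_nonzero
  have hxv : ∀ i, Projectivization.mk K (v i) (hv0 i) = x i := fun i => Projectivization.mk_rep _
  have hyw : ∀ i, Projectivization.mk K (w i) (hw0 i) = y i := fun i => Projectivization.mk_rep _
  have hv : ∀ i j, i ≠ j → br (v i) (v j) ≠ 0 := by
    intro i j hij h
    apply hij
    apply hx
    rw [← hxv i, ← hxv j]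
    exact mk_eq_of_br _ _ h
  have hw : ∀ i j, i ≠ j → br (w i) (w j) ≠ 0 := by
    intro i j hij h
    apply hij
    apply hy
    rw [← hyw i, ← hyw j]
    exact mk_eq_of_br _ _ h
  -- existence
  set g0 := gmat (v 0) (v 1) (v 2) (w 0) (w 1) (w 2) with hg0
  have hg0T : ∀ i, br (g0 *ᵥ v i) (w i) = 0 := by
    intro i
    fin_cases i
    · exact gmat_1 _ _ _ _ _ _
    · exact gmat_2 _ _ _ _ _ _
    · exact gmat_3 _ _ _ _ _ _
  have hg0det : g0.det ≠ 0 := by
    rw [hg0, gmat_det]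
    exact mul_ne_zero (mul_ne_zero (mul_ne_zero (hw 2 1 (by decide)) (hv 0 2 (by decide)))
      (mul_ne_zero (hw 0 2 (by decide)) (hv 2 1 (by decide))))
      (mul_ne_zero (hv 0 1 (by decide)) (hw 0 1 (by decide)))
  -- normalisation
  obtain ⟨p, q, hpq⟩ : ∃ p q, g0 p q ≠ 0 := by
    by_contra hcon
    push Not at hcon
    apply hg0det
    have h0 : g0 = 0 := by
      ext p q
      exact hcon p q
    rw [h0]
    exact Matrix.det_zero
  set g1 : Matrix (Fin 2) (Fin 2) K := (g0 p q)⁻¹ • g0 with hg1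
  have hg1pq : g1 p q = 1 := by
    rw [hg1, Matrix.smul_apply, smul_eq_mul, inv_mul_cancel₀ hpq]
  have hg1T : ∀ i, br (g1 *ᵥ v i) (w i) = 0 := by
    intro i
    rw [hg1, Matrix.smul_mulVec, br_smul_left, hg0T i, mul_zero]
  have hg1det : g1.det ≠ 0 := by
    rw [hg1, Matrix.det_smul]
    exact mul_ne_zero (pow_ne_zero _ (inv_ne_zero hpq)) hg0det
  -- stability under the Galois group
  have hstab : ∀ σ : K ≃ₐ[k] K, ∀ j, br ((g1.map σ) *ᵥ v j) (w j) = 0 := by
    intro σ j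
    obtain ⟨i, hi1, hi2⟩ := H σ j
    rw [← hxv i, ← hxv j, galP_mk] at hi1
    rw [← hyw i, ← hyw j, galP_mk] at hi2
    have e1 : br (galVec σ (Fin 2) (v i)) (v j) = 0 := br_of_mk_eq _ _ hi1
    have e2 : br (galVec σ (Fin 2) (w i)) (w j) = 0 := br_of_mk_eq _ _ hi2
    obtain ⟨a, ha⟩ := exists_smul_of_br_eq_zero e1 (hv0 j)
    obtain ⟨b, hb⟩ := exists_smul_of_br_eq_zero e2 (hw0 j)
    have ha0 : a ≠ 0 := by
      rintro rfl
      rw [zero_smul] at ha
      exact hv0 i (galVec_injective σ (Fin 2) (ha.trans (map_zero _).symm))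
    have hb0 : b ≠ 0 := by
      rintro rfl
      rw [zero_smul] at hb
      exact hw0 i (galVec_injective σ (Fin 2) (hb.trans (map_zero _).symm))
    have e3 : br (galVec σ (Fin 2) (g1 *ᵥ v i)) (galVec σ (Fin 2) (w i)) = 0 := by
      rw [br_galVec, hg1T i, map_zero]
    rw [galVec_mulVec, ha, hb, Matrix.mulVec_smul, br_smul_left, br_smul_right] at e3
    exact (mul_eq_zero.mp ((mul_eq_zero.mp e3).resolve_left ha0)).resolve_left hb0
  -- invariance
  have hinv : ∀ σ : K ≃ₐ[k] K, g1.map σ = g1 := by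
    intro σ
    have hne : (Matrix.toLin' g1) (v 0) ≠ 0 := by
      intro h0
      rw [Matrix.toLin'_apply] at h0
      exact hv0 0 (Matrix.eq_zero_of_mulVec_eq_zero hg1det h0)
    obtain ⟨c, hc⟩ := uniq (Matrix.toLin' g1) (Matrix.toLin' (g1.map σ)) v w hv hw
      (fun i => by rw [Matrix.toLin'_apply]; exact hg1T i)
      (fun i => by rw [Matrix.toLin'_apply]; exact hstab σ i) hne
    have hc' : g1.map σ = c • g1 := by
      apply Matrix.toLin'.injective
      rw [hc]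
      exact (map_smul Matrix.toLin' c g1).symm
    have h1 := congrFun (congrFun hc' p) q
    rw [Matrix.map_apply, hg1pq, map_one, Matrix.smul_apply, hg1pq, smul_eq_mul, mul_one] at h1
    rw [hc', ← h1, one_smul]
  -- the entries lie in `k`
  have hent : ∀ p q, ∃ t : k, algebraMap k K t = g1 p q := by
    intro p q
    exact (IsGalois.mem_range_algebraMap_iff_fixed (F := k) (E := K) (g1 p q)).mpr (fun σ => by
      have h2 := congrFun (congrFun (hinv σ) p) q
      rwa [Matrix.map_apply] at h2)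
  choose gk hgk using hent
  let Gk : Matrix (Fin 2) (Fin 2) k := Matrix.of gk
  have hGk : Gk.map (algebraMap k K) = g1 := by
    ext p q
    exact hgk p q
  have hGkdet : Gk.det ≠ 0 := by
    intro h0
    apply hg1det
    rw [← hGk, ← RingHom.mapMatrix_apply, ← RingHom.map_det, h0, map_zero]
  refine ⟨Matrix.GeneralLinearGroup.mkOfDetNeZero Gk hGkdet, fun i => ?_⟩
  rw [← hxv i, ← hyw i, Projectivization.smul_mk]
  apply mk_eq_of_br
  rw [toLin_smul, hGk]
  exact hg1T i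

end Groth.Agent.Lib.Helper6.P1Trans
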