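import Mathlib
import Groth.Prelude.Def_W4c1stackycurvesGalP1
import Groth.Agent.Lib.Helper6.P1TransB

/-!
# Galois-equivariant bijections of at most three points of the projective line (helper6)
-/

set_option autoImplicit false

namespace Groth.Agent.Lib.Helper6.P1Trans

open Matrix W4c1stackycurves

universe u

variable {k K : Type u} [Field k] [Field K] [Algebra k K]

lemma mk_congr {u u' : Fin 2 → K} (h : u = u') (hu : u ≠ 0) (hu' : u' ≠ 0) :
    Projectivization.mk K u hu = Projectivization.mk K u' hu' := by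
  subst h
  rfl

lemma galP_galP_symm (σ : K ≃ₐ[k] K) (z : Projectivization K (Fin 2 → K)) :
    galP σ (galP σ.symm z) = z := by
  induction z using Projectivization.ind with
  | h v hv =>
    rw [galP_mk, galP_mk]
    apply mk_congr
    ext i
    simp [galVec_apply]

/-- three rational vectors. -/
def evec (K : Type u) [Field K] : Fin 3 → Fin 2 → K := ![![1, 0], ![0, 1], ![1, 1]]

lemma evec_ne (i : Fin 3) : evec K i ≠ 0 := by
  intro h
  fin_cases i
  · exact one_ne_zero (congrFun h 0)
  · exact one_ne_zero (congrFun h 1)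
  · exact one_ne_zero (congrFun h 0)

/-- three rational points. -/
noncomputable def rat (K : Type u) [Field K] (i : Fin 3) : Projectivization K (Fin 2 → K) :=
  Projectivization.mk K (evec K i) (evec_ne i)

lemma galP_rat (σ : K ≃ₐ[k] K) (i : Fin 3) : galP σ (rat K i) = rat K i := by
  unfold rat
  rw [galP_mk]
  apply mk_congr
  ext j
  fin_cases i <;> fin_cases j <;> simp [galVec_apply, evec]

lemma rat_injective : Function.Injective (rat K) := by
  intro i j h
  have h1 := br_of_mk_eq _ _ h
  fin_cases i <;> fin_cases j <;> simp_all [evec, br]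

/-- the set of three rational points. -/
noncomputable def R3 (K : Type u) [Field K] : Finset (Projectivization K (Fin 2 → K)) := by
  classical
  exact Finset.univ.image (rat K)

lemma card_R3 : (R3 K).card = 3 := by
  classical
  unfold R3
  rw [Finset.card_image_of_injective _ rat_injective]
  rfl

lemma R3_fixed (σ : K ≃ₐ[k] K) {p : Projectivization K (Fin 2 → K)} (hp : p ∈ R3 K) :
    galP σ p = p := by
  classical
  unfold R3 at hp
  obtain ⟨i, -, rfl⟩ := Finset.mem_image.mp hp
  exact galP_rat σ i

theorem general [FiniteDimensional k K] [IsGalois k K] :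
    ∀ (n : ℕ) (S : Finset (Projectivization K (Fin 2 → K)))
      (f : Projectivization K (Fin 2 → K) → Projectivization K (Fin 2 → K)),
      3 - S.card = n → S.card ≤ 3 → Set.InjOn f S →
      (∀ σ : K ≃ₐ[k] K, ∀ x ∈ S, galP σ x ∈ S ∧ f (galP σ x) = galP σ (f x)) →
      ∃ g : Matrix.GeneralLinearGroup (Fin 2) k, ∀ x ∈ S,
        (Matrix.GeneralLinearGroup.toLin ((Matrix.GeneralLinearGroup.map (algebraMap k K)) g)) • x
          = f x := by
  classical
  intro n
  induction n with
  | zero =>
    intro S f hn hcard hinj hS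
    have hc3 : S.card = 3 := by omega
    obtain ⟨a, b, c, hab, hac, hbc, hSabc⟩ := Finset.card_eq_three.mp hc3
    let x : Fin 3 → Projectivization K (Fin 2 → K) := ![a, b, c]
    have hxinj : Function.Injective x := by
      intro i j h
      fin_cases i <;> fin_cases j <;> simp_all [x]
    have hxmem : ∀ i, x i ∈ S := by
      intro i
      rw [hSabc]
      fin_cases i <;> simp [x]
    have hxsurj : ∀ z ∈ S, ∃ i, x i = z := by
      intro z hz
      rw [hSabc] at hz
      simp only [Finset.mem_insert, Finset.mem_singleton] at hz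
      rcases hz with h | h | h
      · exact ⟨0, h.symm⟩
      · exact ⟨1, h.symm⟩
      · exact ⟨2, h.symm⟩
    obtain ⟨g, hg⟩ := three_points (k := k) x (f ∘ x) hxinj
      (fun i j h => hxinj (hinj (hxmem i) (hxmem j) h))
      (fun σ j => by
        obtain ⟨i, hi⟩ := hxsurj _ (hS σ.symm (x j) (hxmem j)).1
        refine ⟨i, ?_, ?_⟩
        · rw [hi, galP_galP_symm]
        · change galP σ (f (x i)) = f (x j)
          rw [← (hS σ (x i) (hxmem i)).2, hi, galP_galP_symm])
    refine ⟨g, fun z hz => ?_⟩
    obtain ⟨i, rfl⟩ := hxsurj z hz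
    exact hg i
  | succ n ih =>
    intro S f hn hcard hinj hS
    have hlt : S.card < 3 := by omega
    obtain ⟨p, hpR, hpS⟩ := Finset.exists_mem_notMem_of_card_lt_card (s := S) (t := R3 K)
      (by rw [card_R3]; exact hlt)
    have himg : (S.image f).card < 3 := lt_of_le_of_lt Finset.card_image_le hlt
    obtain ⟨q, hqR, hqS⟩ := Finset.exists_mem_notMem_of_card_lt_card (s := S.image f)
      (t := R3 K) (by rw [card_R3]; exact himg)
    have hpfix : ∀ σ : K ≃ₐ[k] K, galP σ p = p := fun σ => R3_fixed σ hpR
    have hqfix : ∀ σ : K ≃ₐ[k] K, galP σ q = q := fun σ => R3_fixed σ hqR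
    have hf₁p : Function.update f p q p = q := Function.update_self _ _ _
    have hf₁ : ∀ z, z ≠ p → Function.update f p q z = f z :=
      fun z hz => Function.update_of_ne hz _ _
    have hcard₁ : (insert p S).card = S.card + 1 := Finset.card_insert_of_notMem hpS
    have hne_of_mem : ∀ z ∈ S, z ≠ p := fun z hz h => hpS (h ▸ hz)
    obtain ⟨g, hg⟩ := ih (insert p S) (Function.update f p q) (by omega) (by omega)
      (by
        intro a ha b hb hab
        rw [Finset.mem_coe, Finset.mem_insert] at ha hb
        rcases ha with ha | ha <;> rcases hb with hb | hb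
        · rw [ha, hb]
        · exfalso
          rw [ha, hf₁p, hf₁ b (hne_of_mem b hb)] at hab
          exact hqS (hab ▸ Finset.mem_image_of_mem f hb)
        · exfalso
          rw [hb, hf₁p, hf₁ a (hne_of_mem a ha)] at hab
          exact hqS (hab.symm ▸ Finset.mem_image_of_mem f ha)
        · rw [hf₁ a (hne_of_mem a ha), hf₁ b (hne_of_mem b hb)] at hab
          exact hinj ha hb hab)
      (by
        intro σ z hz
        rcases Finset.mem_insert.mp hz with h | h
        · rw [h, hpfix σ]
          exact ⟨Finset.mem_insert_self _ _, by rw [hf₁p, hqfix σ]⟩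
        · have hσz : galP σ z ∈ S := (hS σ z h).1
          refine ⟨Finset.mem_insert_of_mem hσz, ?_⟩
          rw [hf₁ _ (hne_of_mem _ hσz), hf₁ z (hne_of_mem z h)]
          exact (hS σ z h).2)
    refine ⟨g, fun z hz => ?_⟩
    rw [hg z (Finset.mem_insert_of_mem hz), hf₁ z (hne_of_mem z hz)]

theorem main (k K : Type u) [Field k] [Field K] [Algebra k K] [FiniteDimensional k K]
    [IsGalois k K] (S S' : Set (Projectivization K (Fin 2 → K))) (hfin : S.Finite)
    (h3 : S.ncard ≤ 3)
    (hS : ∀ (σ : K ≃ₐ[k] K) (x : Projectivization K (Fin 2 → K)), x ∈ S → galP σ x ∈ S)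
    (b : S ≃ S')
    (hb : ∀ (σ : K ≃ₐ[k] K) (x : S),
      (b ⟨galP σ x.1, hS σ x.1 x.2⟩ : Projectivization K (Fin 2 → K)) = galP σ (b x).1) :
    ∃ g : Matrix.GeneralLinearGroup (Fin 2) k,
      (fun x => (Matrix.GeneralLinearGroup.toLin
        ((Matrix.GeneralLinearGroup.map (algebraMap k K)) g)) • x) '' S = S' := by
  classical
  let f : Projectivization K (Fin 2 → K) → Projectivization K (Fin 2 → K) :=
    fun x => if h : x ∈ S then (b ⟨x, h⟩).1 else x
  have hf : ∀ x (h : x ∈ S), f x = (b ⟨x, h⟩).1 := fun x h => dif_pos h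
  obtain ⟨g, hg⟩ := general (k := k) (3 - hfin.toFinset.card) hfin.toFinset f rfl
    (by rw [← Set.ncard_eq_toFinset_card S hfin]; exact h3)
    (by
      intro a ha a' ha' h
      rw [Finset.mem_coe, Set.Finite.mem_toFinset] at ha ha'
      rw [hf a ha, hf a' ha'] at h
      exact congrArg Subtype.val (b.injective (Subtype.ext h)))
    (by
      intro σ x hx
      rw [Set.Finite.mem_toFinset] at hx ⊢
      refine ⟨hS σ x hx, ?_⟩
      rw [hf _ (hS σ x hx), hf x hx]
      exact hb σ ⟨x, hx⟩)
  refine ⟨g, ?_⟩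
  ext y
  constructor
  · rintro ⟨x, hx, rfl⟩
    change (Matrix.GeneralLinearGroup.toLin
        ((Matrix.GeneralLinearGroup.map (algebraMap k K)) g)) • x ∈ S'
    rw [hg x (hfin.mem_toFinset.mpr hx), hf x hx]
    exact (b ⟨x, hx⟩).2
  · intro hy
    refine ⟨(b.symm ⟨y, hy⟩).1, (b.symm ⟨y, hy⟩).2, ?_⟩
    change (Matrix.GeneralLinearGroup.toLin
        ((Matrix.GeneralLinearGroup.map (algebraMap k K)) g)) • (b.symm ⟨y, hy⟩).1 = y
    rw [hg _ (hfin.mem_toFinset.mpr (b.symm ⟨y, hy⟩).2), hf _ (b.symm ⟨y, hy⟩).2]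
    simp

end Groth.Agent.Lib.Helper6.P1Trans
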