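import Mathlib
import Groth.Prelude.Def_PCone
import Groth.Agent.Lib.Helper6.PConeGlue
import Groth.Agent.Lib.Helper6.ProjMap

/-!
# The retraction `G(φ) ⟶ Proj 𝒜`: preimages of basic opens, affineness (helper6)
-/

set_option autoImplicit false
universe u
open CategoryTheory CategoryTheory.Limits AlgebraicGeometry HomogeneousLocalization

namespace Groth.Agent.Lib.Helper6

variable {R A B : Type u} [CommRing R] [CommRing A] [Algebra R A] {𝒜 : ℕ → Submodule R A}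
  [GradedAlgebra 𝒜] [CommRing B] [Algebra R B] {ℬ : ℕ → Submodule R B} [GradedAlgebra ℬ]
  (φ : 𝒜 →+*ᵍ ℬ)

lemma map_isLocalizationElem {d e : ℕ} {f g : A} (hf : f ∈ 𝒜 d) (hg : g ∈ 𝒜 e) :
    Away.map φ f (Away.isLocalizationElem hf hg) =
      Away.isLocalizationElem (Graded.map_mem φ hf) (Graded.map_mem φ hg) := by
  rw [Away.isLocalizationElem, Away.map_mk]
  ext
  simp [Away.val_mk, map_pow]

omit [GradedAlgebra 𝒜] in
lemma pcone_chart_ι {d : ℕ} {f : A} (hf : f ∈ 𝒜 d) (hd : 0 < d) :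
    PCone.chart φ hf hd ≫ (PCone.dom φ).ι = Proj.awayι ℬ (φ f) (Graded.map_mem φ hf) hd :=
  IsOpenImmersion.lift_fac _ _ _

instance pcone_chart_isOpenImmersion {d : ℕ} {f : A} (hf : f ∈ 𝒜 d) (hd : 0 < d) :
    IsOpenImmersion (PCone.chart φ hf hd) := by
  have : IsOpenImmersion (PCone.chart φ hf hd ≫ (PCone.dom φ).ι) := by
    rw [pcone_chart_ι]; infer_instance
  exact IsOpenImmersion.of_comp _ (PCone.dom φ).ι

variable (p : (PCone.dom φ : Scheme.{u}) ⟶ Proj 𝒜)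
  (hp : ∀ (d : ℕ) (f : A) (hd : 0 < d) (hf : f ∈ 𝒜 d),
    PCone.chart φ hf hd ≫ p =
      Spec.map (CommRingCat.ofHom (Away.map φ f)) ≫ Proj.awayι 𝒜 f hf hd)

include hp in
lemma pcone_preimage_basicOpen {i : ℕ} (hi : 0 < i) {s : A} (hs : s ∈ 𝒜 i) :
    p ⁻¹ᵁ Proj.basicOpen 𝒜 s = (PCone.chart φ hs hi).opensRange := by
  apply le_antisymm
  · intro y hy
    have hy0 : p y ∈ Proj.basicOpen 𝒜 s := hy
    have hyd : (PCone.dom φ).ι y ∈ PCone.dom φ := by
      have : (PCone.dom φ).ι y ∈ Set.range (PCone.dom φ).ι := ⟨y, rfl⟩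
      rw [Scheme.Opens.range_ι] at this
      exact this
    obtain ⟨⟨g, e, he, hg⟩, hyg⟩ := TopologicalSpace.Opens.mem_iSup.1 hyd
    have h0 : (PCone.dom φ).ι y ∈ (Proj.awayι ℬ (φ g) (Graded.map_mem φ hg) he).opensRange := by
      rw [Proj.opensRange_awayι]; exact hyg
    obtain ⟨y', hy'⟩ := h0
    have hyy' : PCone.chart φ hg he y' = y := by
      apply (PCone.dom φ).ι.isOpenEmbedding.injective
      rw [← Scheme.Hom.comp_apply, pcone_chart_ι]
      exact hy'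
    rw [← hyy', ← Scheme.Hom.comp_apply, hp e g he hg, Scheme.Hom.comp_apply] at hy0
    have h1 : Spec.map (CommRingCat.ofHom (Away.map φ g)) y' ∈
        (Proj.awayι 𝒜 g hg he) ⁻¹ᵁ Proj.basicOpen 𝒜 s := hy0
    rw [Proj.awayι_preimage_basicOpen 𝒜 hg he hs hi] at h1
    have h2 : y' ∈ (Proj.awayι ℬ (φ g) (Graded.map_mem φ hg) he) ⁻¹ᵁ Proj.basicOpen ℬ (φ s) := by
      rw [Proj.awayι_preimage_basicOpen ℬ (Graded.map_mem φ hg) he (Graded.map_mem φ hs) hi]
      have h1' : Away.map φ g (Away.isLocalizationElem hg hs) ∉ y'.asIdeal := h1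
      rw [map_isLocalizationElem] at h1'
      exact h1'
    have h3 : Proj.awayι ℬ (φ g) (Graded.map_mem φ hg) he y' ∈
        (Proj.awayι ℬ (φ s) (Graded.map_mem φ hs) hi).opensRange := by
      rw [Proj.opensRange_awayι]; exact h2
    obtain ⟨z, hz⟩ := h3
    refine ⟨z, ?_⟩
    apply (PCone.dom φ).ι.isOpenEmbedding.injective
    rw [← Scheme.Hom.comp_apply, pcone_chart_ι, hz, ← hy']
  · rintro _ ⟨y', rfl⟩
    change p (PCone.chart φ hs hi y') ∈ Proj.basicOpen 𝒜 s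
    rw [← Scheme.Hom.comp_apply, hp i s hi hs, Scheme.Hom.comp_apply,
      ← Proj.opensRange_awayι 𝒜 s hs hi]
    exact ⟨_, rfl⟩

include hp in
theorem pcone_isAffineHom : IsAffineHom p := by
  refine isAffineHom_of_forall_exists_isAffineOpen (f := p) fun x => ?_
  obtain ⟨i, hi, s, hs, hxs⟩ := exists_homogeneous_mem_basicOpen 𝒜 x
  refine ⟨Proj.basicOpen 𝒜 s, hxs, Proj.isAffineOpen_basicOpen 𝒜 s hs hi, ?_⟩
  rw [pcone_preimage_basicOpen φ p hp hi hs]
  exact isAffineOpen_opensRange _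

end Groth.Agent.Lib.Helper6
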