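import Mathlib
import Groth.Prelude.Def_PCone
import Groth.Agent.Lib.Helper6.PConeAffine

/-!
# A retraction of a graded ring map gives a section of `G(φ) ⟶ Proj 𝒜` (helper6)
-/

set_option autoImplicit false
universe u
open CategoryTheory CategoryTheory.Limits AlgebraicGeometry HomogeneousLocalization

namespace Groth.Agent.Lib.Helper6

variable {R A B : Type u} [CommRing R] [CommRing A] [Algebra R A] {𝒜 : ℕ → Submodule R A}
  [GradedAlgebra 𝒜] [CommRing B] [Algebra R B] {ℬ : ℕ → Submodule R B} [GradedAlgebra ℬ]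
  (φ : 𝒜 →+*ᵍ ℬ)

lemma proj_map_eq_id (χ : 𝒜 →+*ᵍ 𝒜) (e : χ = GradedRingHom.id 𝒜)
    (h : HomogeneousIdeal.irrelevant 𝒜 ≤ (HomogeneousIdeal.irrelevant 𝒜).map χ) :
    Proj.map χ h = 𝟙 _ := by
  subst e
  exact Proj.map_id

variable (ψ : ℬ →+*ᵍ 𝒜) (hψφ : ∀ a : A, ψ (φ a) = a)
  (hψ : HomogeneousIdeal.irrelevant 𝒜 ≤ (HomogeneousIdeal.irrelevant ℬ).map ψ)

include hψφ in
lemma range_proj_map_subset_dom :
    Set.range (Proj.map ψ hψ).base ⊆ Set.range (PCone.dom φ).ι.base := by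
  rw [Scheme.Opens.range_ι]
  rintro _ ⟨x, rfl⟩
  obtain ⟨i, hi, s, hs, hxs⟩ := exists_homogeneous_mem_basicOpen 𝒜 x
  refine TopologicalSpace.Opens.mem_iSup.2 ⟨⟨s, i, hi, hs⟩, ?_⟩
  change x ∈ (Proj.map ψ hψ) ⁻¹ᵁ Proj.basicOpen ℬ (φ s)
  rw [Proj.map_preimage_basicOpen, hψφ]
  exact hxs

/-- The section of the retraction induced by a retraction of `φ`. -/
noncomputable def pconeSection : Proj 𝒜 ⟶ (PCone.dom φ : Scheme.{u}) :=
  IsOpenImmersion.lift (PCone.dom φ).ι (Proj.map ψ hψ) (range_proj_map_subset_dom φ ψ hψφ hψ)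

lemma pconeSection_ι : pconeSection φ ψ hψφ hψ ≫ (PCone.dom φ).ι = Proj.map ψ hψ :=
  IsOpenImmersion.lift_fac _ _ _

variable (p : (PCone.dom φ : Scheme.{u}) ⟶ Proj 𝒜)
  (hp : ∀ (d : ℕ) (f : A) (hd : 0 < d) (hf : f ∈ 𝒜 d),
    PCone.chart φ hf hd ≫ p =
      Spec.map (CommRingCat.ofHom (Away.map φ f)) ≫ Proj.awayι 𝒜 f hf hd)

include hp in
lemma awayι_pconeSection_comp {i : ℕ} (hi : 0 < i) (t : A) (ht : t ∈ 𝒜 i) (s : A) (hs : s ∈ 𝒜 i)
    (h : ψ (φ s) = t) :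
    Proj.awayι 𝒜 t ht hi ≫ pconeSection φ ψ hψφ hψ ≫ p = Proj.awayι 𝒜 t ht hi := by
  subst h
  have h1 : Proj.awayι 𝒜 (ψ (φ s)) ht hi ≫ pconeSection φ ψ hψφ hψ =
      Spec.map (CommRingCat.ofHom (Away.map ψ (φ s))) ≫ PCone.chart φ hs hi := by
    rw [← cancel_mono (PCone.dom φ).ι, Category.assoc, Category.assoc, pconeSection_ι,
      pcone_chart_ι]
    exact Proj.awayι_comp_map ψ hψ hi (φ s) (Graded.map_mem φ hs)
  have e : ψ.comp φ = GradedRingHom.id 𝒜 := GradedRingHom.ext hψφ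
  have h' : HomogeneousIdeal.irrelevant 𝒜 ≤ (HomogeneousIdeal.irrelevant 𝒜).map (ψ.comp φ) := by
    rw [e]
    intro x hx
    exact Ideal.mem_map_of_mem _ hx
  rw [← Category.assoc, h1, Category.assoc, hp i s hi hs, ← Spec.map_comp_assoc,
    ← CommRingCat.ofHom_comp, ← Away.map_comp]
  have h2 := Proj.awayι_comp_map (ψ.comp φ) h' hi s hs
  rw [proj_map_eq_id (ψ.comp φ) e h', Category.comp_id] at h2
  exact h2.symm

include hp in
theorem pconeSection_comp : pconeSection φ ψ hψφ hψ ≫ p = 𝟙 _ := by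
  refine (Proj.affineOpenCover 𝒜).openCover.hom_ext _ _ fun i => ?_
  let j : Σ i : PNat, 𝒜 i := i
  change Proj.awayι 𝒜 (j.2 : A) j.2.2 j.1.2 ≫ pconeSection φ ψ hψφ hψ ≫ p =
    Proj.awayι 𝒜 (j.2 : A) j.2.2 j.1.2 ≫ 𝟙 _
  rw [Category.comp_id]
  exact awayι_pconeSection_comp φ ψ hψφ hψ p hp j.1.2 _ j.2.2 _ j.2.2 (hψφ _)

include hψφ hψ hp in
theorem pcone_surjective_of_retraction : Surjective p := by
  have : Surjective (pconeSection φ ψ hψφ hψ ≫ p) := by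
    rw [pconeSection_comp φ ψ hψφ hψ p hp]; infer_instance
  exact Surjective.of_comp (pconeSection φ ψ hψφ hψ) p

end Groth.Agent.Lib.Helper6
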