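import Mathlib
import Groth.Prelude.Def_PP16

/-!
Helper6: base change of principal parts: for `B' = B ⊗_A A'`, the ring `P^n_{B'/A'}` is the base
change of `P^n_{B/A}` along `A → A'` (and hence along `B → B'`).
-/

set_option autoImplicit false

namespace Groth.Agent.Lib.Helper6.PPBaseChange

universe u

open TensorProduct PP16

variable (n : ℕ) (A B A' B' : Type u) [CommRing A] [CommRing B] [Algebra A B]
  [CommRing A'] [CommRing B'] [Algebra A' B'] [Algebra A A'] [Algebra B B'] [Algebra A B']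
  [IsScalarTower A A' B'] [IsScalarTower A B B']

theorem hι [Algebra.IsPushout A B A' B'] :
    IsBaseChange A' (IsScalarTower.toAlgHom A B B').toLinearMap :=
  (Algebra.IsPushout.symm (inferInstance : Algebra.IsPushout A B A' B')).out

theorem isBaseChange_tensorMap [Algebra.IsPushout A B A' B'] :
    IsBaseChange A' ((tensorMap A B A' B').toLinearMap) := by
  have hι := hι A B A' B'
  let e : A' ⊗[A] (B ⊗[A] B) ≃ₗ[A'] B' ⊗[A'] B' :=
    (AlgebraTensorModule.distribBaseChange A A' B B) ≪≫ₗ TensorProduct.congr hι.equiv hι.equiv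
  refine IsBaseChange.of_equiv e fun x => ?_
  induction x using TensorProduct.induction_on with
  | zero => simp
  | tmul b c =>
    simp only [e, LinearEquiv.trans_apply, AlgebraTensorModule.distribBaseChange_tmul,
      TensorProduct.congr_tmul, IsBaseChange.equiv_tmul, one_smul]
    exact (tensorMap_tmul A B A' B' b c).symm
  | add x y hx hy => simp only [tmul_add, map_add, hx, hy]

theorem ideal_le_map_tensorMap [Algebra.IsPushout A B A' B'] :
    KaehlerDifferential.ideal A' B' ≤ (KaehlerDifferential.ideal A B).map (tensorMap A B A' B') := by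
  rw [← KaehlerDifferential.span_range_eq_ideal, Ideal.span_le]
  rintro _ ⟨b', rfl⟩
  show (1 : B') ⊗ₜ[A'] b' - b' ⊗ₜ[A'] (1 : B') ∈
    (KaehlerDifferential.ideal A B).map (tensorMap A B A' B')
  refine (hι A B A' B').inductionOn b' (fun b' => (1 : B') ⊗ₜ[A'] b' - b' ⊗ₜ[A'] (1 : B') ∈
    (KaehlerDifferential.ideal A B).map (tensorMap A B A' B')) ?_ ?_ ?_ ?_
  · simp
  · intro b
    have : (1 : B') ⊗ₜ[A'] (IsScalarTower.toAlgHom A B B').toLinearMap b -
        (IsScalarTower.toAlgHom A B B').toLinearMap b ⊗ₜ[A'] (1 : B') =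
        tensorMap A B A' B' ((1 : B) ⊗ₜ[A] b - b ⊗ₜ[A] (1 : B)) := by
      rw [map_sub, tensorMap_tmul, tensorMap_tmul, map_one]
      rfl
    rw [this]
    exact Ideal.mem_map_of_mem _ (KaehlerDifferential.one_smul_sub_smul_one_mem_ideal A b)
  · intro a' b' h
    have : (1 : B') ⊗ₜ[A'] (a' • b') - (a' • b') ⊗ₜ[A'] (1 : B') =
        algebraMap A' (B' ⊗[A'] B') a' * ((1 : B') ⊗ₜ[A'] b' - b' ⊗ₜ[A'] (1 : B')) := by
      rw [← Algebra.smul_def, smul_sub, TensorProduct.tmul_smul,
        TensorProduct.smul_tmul' a' b' (1 : B')]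
    rw [this]
    exact Ideal.mul_mem_left _ _ h
  · intro x y hx hy
    have : (1 : B') ⊗ₜ[A'] (x + y) - (x + y) ⊗ₜ[A'] (1 : B') =
        ((1 : B') ⊗ₜ[A'] x - x ⊗ₜ[A'] (1 : B')) + ((1 : B') ⊗ₜ[A'] y - y ⊗ₜ[A'] (1 : B')) := by
      rw [tmul_add, add_tmul]; abel
    rw [this]
    exact Ideal.add_mem _ hx hy

theorem ideal_pow_eq [Algebra.IsPushout A B A' B'] :
    KaehlerDifferential.ideal A' B' ^ (n + 1) =
      (KaehlerDifferential.ideal A B ^ (n + 1)).map (tensorMap A B A' B') := by
  rw [Ideal.map_pow]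
  exact le_antisymm (Ideal.pow_right_mono (ideal_le_map_tensorMap A B A' B') _)
    (Ideal.pow_right_mono (ideal_map_tensorMap_le A B A' B') _)

/-- the comparison map from the base change of an ideal -/
noncomputable def fJ (J : Ideal (B ⊗[A] B)) :
    A' ⊗[A] ↥(J.restrictScalars A) →ₗ[A'] B' ⊗[A'] B' :=
  LinearMap.liftBaseChange A' ((tensorMap A B A' B').toLinearMap ∘ₗ (J.restrictScalars A).subtype)

lemma fJ_tmul (J : Ideal (B ⊗[A] B)) (a' : A') (x : ↥(J.restrictScalars A)) :
    fJ A B A' B' J (a' ⊗ₜ x) = a' • tensorMap A B A' B' (x : B ⊗[A] B) := by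
  simp [fJ]

theorem mem_map_iff_mem_range [Algebra.IsPushout A B A' B'] (J : Ideal (B ⊗[A] B))
    (y : B' ⊗[A'] B') :
    y ∈ J.map (tensorMap A B A' B') ↔ y ∈ LinearMap.range (fJ A B A' B' J) := by
  constructor
  · intro hy
    -- the range is stable under multiplication
    have hmul : ∀ (t' : B' ⊗[A'] B'), ∀ z ∈ LinearMap.range (fJ A B A' B' J),
        t' * z ∈ LinearMap.range (fJ A B A' B' J) := by
      intro t'
      refine (isBaseChange_tensorMap A B A' B').inductionOn t'
        (fun t' => ∀ z ∈ LinearMap.range (fJ A B A' B' J),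
          t' * z ∈ LinearMap.range (fJ A B A' B' J)) ?_ ?_ ?_ ?_
      · intro z _
        rw [zero_mul]; exact Submodule.zero_mem _
      · intro t z hz
        obtain ⟨w, rfl⟩ := hz
        induction w using TensorProduct.induction_on with
        | zero => rw [map_zero, mul_zero]; exact Submodule.zero_mem _
        | tmul a' x =>
          refine ⟨a' ⊗ₜ ⟨t * (x : B ⊗[A] B), J.mul_mem_left t x.2⟩, ?_⟩
          rw [fJ_tmul, fJ_tmul, mul_smul_comm]
          congr 1
          exact map_mul (tensorMap A B A' B') t (x : B ⊗[A] B)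
        | add w₁ w₂ h₁ h₂ =>
          rw [map_add, mul_add]; exact Submodule.add_mem _ h₁ h₂
      · intro a'' t'' h z hz
        rw [smul_mul_assoc]
        exact Submodule.smul_mem _ _ (h z hz)
      · intro t₁ t₂ h₁ h₂ z hz
        rw [add_mul]
        exact Submodule.add_mem _ (h₁ z hz) (h₂ z hz)
    rw [Ideal.map] at hy
    refine Submodule.span_induction (p := fun y _ => y ∈ LinearMap.range (fJ A B A' B' J))
      ?_ ?_ ?_ ?_ hy
    · rintro _ ⟨x, hx, rfl⟩
      exact ⟨1 ⊗ₜ ⟨x, hx⟩, by rw [fJ_tmul, one_smul]⟩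
    · exact Submodule.zero_mem _
    · intro x y _ _ hx hy
      exact Submodule.add_mem _ hx hy
    · intro t' x _ hx
      exact hmul t' x hx
  · rintro ⟨w, rfl⟩
    induction w using TensorProduct.induction_on with
    | zero => rw [map_zero]; exact Submodule.zero_mem _
    | tmul a' x =>
      rw [fJ_tmul, Algebra.smul_def]
      exact Ideal.mul_mem_left _ _ (Ideal.mem_map_of_mem _ x.2)
    | add w₁ w₂ h₁ h₂ => rw [map_add]; exact Submodule.add_mem _ h₁ h₂

theorem isBaseChange_map [Algebra.IsPushout A B A' B'] :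
    IsBaseChange A' ((PP16.map n A B A' B').toLinearMap) := by
  refine IsBaseChange.of_right_exact A'
    (TensorProduct.mk A A' ↥((KaehlerDifferential.ideal A B ^ (n + 1)).restrictScalars A) 1)
    ((tensorMap A B A' B').toLinearMap) ((PP16.map n A B A' B').toLinearMap)
    (f := ((KaehlerDifferential.ideal A B ^ (n + 1)).restrictScalars A).subtype)
    (g := (Ideal.Quotient.mkₐ A (KaehlerDifferential.ideal A B ^ (n + 1))).toLinearMap)
    (f' := fJ A B A' B' (KaehlerDifferential.ideal A B ^ (n + 1)))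
    (g' := (Ideal.Quotient.mkₐ A' (KaehlerDifferential.ideal A' B' ^ (n + 1))).toLinearMap)
    ?_ ?_ (TensorProduct.isBaseChange A _ A') (isBaseChange_tensorMap A B A' B') ?_ ?_ ?_ ?_
  · ext x
    simp [fJ]
  · ext x
    rfl
  · intro y
    constructor
    · intro hy
      have : y ∈ KaehlerDifferential.ideal A B ^ (n + 1) := Ideal.Quotient.eq_zero_iff_mem.mp hy
      exact ⟨⟨y, this⟩, rfl⟩
    · rintro ⟨x, rfl⟩
      exact Ideal.Quotient.eq_zero_iff_mem.mpr x.2
  · exact Ideal.Quotient.mk_surjective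
  · intro y
    rw [Set.mem_range]
    show Ideal.Quotient.mk _ y = 0 ↔ _
    rw [Ideal.Quotient.eq_zero_iff_mem, ideal_pow_eq n A B A' B', mem_map_iff_mem_range]
    rfl
  · exact Ideal.Quotient.mk_surjective

end Groth.Agent.Lib.Helper6.PPBaseChange
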