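import Mathlib
import Groth.Prelude.Def_PP16

/-!
# Basic facts on principal parts `PP16.P n A B` (helper6)
-/

set_option autoImplicit false
open scoped TensorProduct
open PP16

namespace Groth.Agent.Lib.Helper6.PPBasic

universe u

/-- `Ideal.map` only depends on the underlying function. -/
lemma ideal_map_congr {R S F G : Type*} [Semiring R] [Semiring S] [FunLike F R S] [FunLike G R S]
    (f : F) (g : G) (h : ∀ x, f x = g x) (I : Ideal R) :
    Ideal.map f I = Ideal.map g I := by
  unfold Ideal.map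
  congr 1
  ext y
  simp only [Set.mem_image, h]

lemma ideal_map_map_eq {R S T F G H : Type*} [CommSemiring R] [CommSemiring S] [CommSemiring T]
    [FunLike F R S] [RingHomClass F R S] [FunLike G S T] [RingHomClass G S T]
    [FunLike H R T] [RingHomClass H R T]
    (f : F) (g : G) (h : H) (hh : ∀ x, h x = g (f x)) (I : Ideal R) :
    Ideal.map g (Ideal.map f I) = Ideal.map h I := by
  apply le_antisymm
  · rw [Ideal.map_le_iff_le_comap, Ideal.map_le_iff_le_comap]
    intro x hx
    rw [Ideal.mem_comap, Ideal.mem_comap, ← hh]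
    exact Ideal.mem_map_of_mem h hx
  · rw [Ideal.map_le_iff_le_comap]
    intro x hx
    rw [Ideal.mem_comap, hh]
    exact Ideal.mem_map_of_mem g (Ideal.mem_map_of_mem f hx)

/-- A surjective ring map `φ : R → R'` induces a surjection `R/J → R'/φ(J)` whose kernel is the image
of `ker φ`. -/
lemma quotient_lift_surjective_ker {R R' F G : Type*} [CommRing R] [CommRing R']
    {J : Ideal R} {J' : Ideal R'}
    [FunLike F R R'] [RingHomClass F R R'] [FunLike G (R ⧸ J) (R' ⧸ J')]
    [RingHomClass G (R ⧸ J) (R' ⧸ J')] (φ : F)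
    (hφ : Function.Surjective φ) (hJ : J.map φ = J')
    (ψ : G) (hψ : ∀ x, ψ (Ideal.Quotient.mk J x) = Ideal.Quotient.mk J' (φ x)) :
    Function.Surjective ψ ∧ RingHom.ker ψ = (RingHom.ker φ).map (Ideal.Quotient.mk J) := by
  constructor
  · intro y
    obtain ⟨y', rfl⟩ := Ideal.Quotient.mk_surjective y
    obtain ⟨x, rfl⟩ := hφ y'
    exact ⟨_, hψ x⟩
  · apply le_antisymm
    · intro z hz
      obtain ⟨x, rfl⟩ := Ideal.Quotient.mk_surjective z
      rw [RingHom.mem_ker, hψ, Ideal.Quotient.eq_zero_iff_mem, ← hJ,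
        Ideal.mem_map_iff_of_surjective φ hφ] at hz
      obtain ⟨y, hy, hyx⟩ := hz
      have h1 : Ideal.Quotient.mk J x = Ideal.Quotient.mk J (x - y) := by
        rw [map_sub, Ideal.Quotient.eq_zero_iff_mem.2 hy, sub_zero]
      rw [h1]
      apply Ideal.mem_map_of_mem
      rw [RingHom.mem_ker, map_sub, hyx, sub_self]
    · rw [Ideal.map_le_iff_le_comap]
      intro x hx
      rw [Ideal.mem_comap, RingHom.mem_ker, hψ, (RingHom.mem_ker).1 hx, map_zero]

section

variable (n : ℕ) (A B A' B' : Type u) [CommRing A] [CommRing B] [Algebra A B]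
  [CommRing A'] [CommRing B'] [Algebra A' B'] [Algebra A A'] [Algebra B B'] [Algebra A B']
  [IsScalarTower A A' B'] [IsScalarTower A B B']

lemma tensorMap_surjective (h : Function.Surjective (algebraMap B B')) :
    Function.Surjective (tensorMap A B A' B') := by
  intro y
  induction y using TensorProduct.induction_on with
  | zero => exact ⟨0, map_zero _⟩
  | tmul b c =>
    obtain ⟨b₀, rfl⟩ := h b
    obtain ⟨c₀, rfl⟩ := h c
    exact ⟨b₀ ⊗ₜ c₀, tensorMap_tmul A B A' B' b₀ c₀⟩
  | add x y hx hy =>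
    obtain ⟨x₀, rfl⟩ := hx
    obtain ⟨y₀, rfl⟩ := hy
    exact ⟨x₀ + y₀, map_add _ _ _⟩

lemma ideal_map_tensorMap_eq (h : Function.Surjective (algebraMap B B')) :
    (KaehlerDifferential.ideal A B).map (tensorMap A B A' B') = KaehlerDifferential.ideal A' B' := by
  apply le_antisymm (ideal_map_tensorMap_le A B A' B')
  rw [← KaehlerDifferential.span_range_eq_ideal A' B', Ideal.span_le]
  rintro _ ⟨c, rfl⟩
  obtain ⟨c₀, rfl⟩ := h c
  have h1 : (1 : B') ⊗ₜ[A'] algebraMap B B' c₀ - algebraMap B B' c₀ ⊗ₜ[A'] (1 : B') =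
      tensorMap A B A' B' ((1 : B) ⊗ₜ[A] c₀ - c₀ ⊗ₜ[A] (1 : B)) := by
    rw [map_sub, tensorMap_tmul, tensorMap_tmul, map_one]
  change (1 : B') ⊗ₜ[A'] algebraMap B B' c₀ - algebraMap B B' c₀ ⊗ₜ[A'] (1 : B') ∈ _
  rw [h1]
  exact Ideal.mem_map_of_mem _ (KaehlerDifferential.one_smul_sub_smul_one_mem_ideal A c₀)

lemma map_surjective_ker (h : Function.Surjective (algebraMap B B')) :
    Function.Surjective (PP16.map n A B A' B') ∧
      RingHom.ker (PP16.map n A B A' B') =
        (RingHom.ker (tensorMap A B A' B')).map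
          (Ideal.Quotient.mk ((KaehlerDifferential.ideal A B) ^ (n + 1))) :=
  quotient_lift_surjective_ker (tensorMap A B A' B') (tensorMap_surjective A B A' B' h)
    (by rw [Ideal.map_pow, ideal_map_tensorMap_eq A B A' B' h])
    (PP16.map n A B A' B') (fun _ => rfl)

end

section quotient

variable (n : ℕ) (A B : Type u) [CommRing A] [CommRing B] [Algebra A B] (K : Ideal B)

lemma ker_tensorMap_quotient :
    RingHom.ker (tensorMap A B A (B ⧸ K)) =
      K.map (Algebra.TensorProduct.includeLeft : B →ₐ[A] B ⊗[A] B) ⊔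
        K.map (Algebra.TensorProduct.includeRight : B →ₐ[A] B ⊗[A] B) := by
  have h : tensorMap A B A (B ⧸ K) =
      Algebra.TensorProduct.map (Ideal.Quotient.mkₐ A K) (Ideal.Quotient.mkₐ A K) := by
    apply Algebra.TensorProduct.ext'
    intro b c
    rw [tensorMap_tmul]
    rfl
  rw [h, Algebra.TensorProduct.map_ker _ _ (Ideal.Quotient.mkₐ_surjective A K)
    (Ideal.Quotient.mkₐ_surjective A K)]
  congr 1 <;> · congr 1; exact Ideal.Quotient.mkₐ_ker A K

theorem map_quotient_surjective_ker :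
    Function.Surjective (PP16.map n A B A (B ⧸ K)) ∧
      RingHom.ker (PP16.map n A B A (B ⧸ K)) =
        K.map (algebraMap B (PP16.P n A B)) ⊔ K.map (PP16.dn n A B) := by
  obtain ⟨h1, h2⟩ := map_surjective_ker n A B A (B ⧸ K) Ideal.Quotient.mk_surjective
  refine ⟨h1, ?_⟩
  rw [h2, ker_tensorMap_quotient, Ideal.map_sup]
  congr 1
  · exact ideal_map_map_eq _ _ _ (fun _ => rfl) K
  · exact ideal_map_map_eq _ _ _ (fun _ => rfl) K

end quotient

end Groth.Agent.Lib.Helper6.PPBasic
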