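import Mathlib
import Groth.Prelude.Def_PP16

set_option autoImplicit false

open scoped TensorProduct

namespace Groth.Agent.Lib.Helper6.PPLoc

open PP16

universe u

section basic

variable (n : ℕ) (A B : Type u) [CommRing A] [CommRing B] [Algebra A B]

theorem dn_sub_eq (s : B) : dn n A B s - algebraMap B (P n A B) s =
    Ideal.Quotient.mk ((KaehlerDifferential.ideal A B) ^ (n + 1))
      ((1 : B) ⊗ₜ[A] s - s ⊗ₜ[A] (1 : B)) := by
  rw [map_sub]; rfl

theorem dn_sub_mem_augIdeal (s : B) :
    dn n A B s - algebraMap B (P n A B) s ∈ augIdeal n A B := by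
  rw [dn_sub_eq]
  exact Ideal.mem_map_of_mem _ (KaehlerDifferential.one_smul_sub_smul_one_mem_ideal A s)

theorem augIdeal_pow : (augIdeal n A B) ^ (n + 1) = ⊥ := by
  unfold augIdeal
  rw [← Ideal.map_pow, Ideal.map_quotient_self]

theorem eps_pow (s : B) : (dn n A B s - algebraMap B (P n A B) s) ^ (n + 1) = 0 := by
  have h : (dn n A B s - algebraMap B (P n A B) s) ^ (n + 1) ∈ (augIdeal n A B) ^ (n + 1) :=
    Ideal.pow_mem_pow (dn_sub_mem_augIdeal n A B s) _
  rw [augIdeal_pow] at h
  exact Ideal.mem_bot.mp h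

theorem dn_dvd (s : B) : dn n A B s ∣ (algebraMap B (P n A B) s) ^ (n + 1) := by
  have h := sub_dvd_pow_sub_pow (algebraMap B (P n A B) s)
    (-(dn n A B s - algebraMap B (P n A B) s)) (n + 1)
  have h2 : (-(dn n A B s - algebraMap B (P n A B) s)) ^ (n + 1) = 0 := by
    rw [neg_pow, eps_pow, mul_zero]
  rw [h2, sub_zero] at h
  have h3 : algebraMap B (P n A B) s - -(dn n A B s - algebraMap B (P n A B) s) =
      dn n A B s := by ring
  rw [h3] at h
  exact h

theorem mk_tmul_eq (b c : B) :
    algebraMap B (P n A B) b * dn n A B c =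
      Ideal.Quotient.mk ((KaehlerDifferential.ideal A B) ^ (n + 1)) (b ⊗ₜ[A] c) := by
  show Ideal.Quotient.mk ((KaehlerDifferential.ideal A B) ^ (n + 1)) (b ⊗ₜ[A] (1 : B)) *
    Ideal.Quotient.mk ((KaehlerDifferential.ideal A B) ^ (n + 1)) ((1 : B) ⊗ₜ[A] c) = _
  rw [← map_mul, Algebra.TensorProduct.tmul_mul_tmul, mul_one, one_mul]

end basic

section loc

variable (n : ℕ) (A B B' : Type u) [CommRing A] [CommRing B] [Algebra A B]
  [CommRing B'] [Algebra B B'] [Algebra A B'] [IsScalarTower A B B']
  (S : Submonoid B) [IsLocalization S B']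
  (Q : Type u) [CommRing Q] [Algebra (P n A B) Q]
  [IsLocalization (S.map (algebraMap B (P n A B))) Q]

theorem isUnit_left (s : S) :
    IsUnit (algebraMap (P n A B) Q (algebraMap B (P n A B) s)) :=
  IsLocalization.map_units Q
    (⟨algebraMap B (P n A B) s, Submonoid.mem_map_of_mem _ s.2⟩ :
      S.map (algebraMap B (P n A B)))

theorem isUnit_right (s : S) : IsUnit (algebraMap (P n A B) Q (dn n A B s)) := by
  obtain ⟨w, hw⟩ := dn_dvd n A B (s : B)
  have h : IsUnit (algebraMap (P n A B) Q (dn n A B s) * algebraMap (P n A B) Q w) := by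
    rw [← map_mul, ← hw, map_pow]
    exact (isUnit_left n A B S Q s).pow _
  exact isUnit_of_mul_isUnit_left h

noncomputable def alphaR : B' →+* Q :=
  IsLocalization.lift (M := S) (g := (algebraMap (P n A B) Q).comp (algebraMap B (P n A B)))
    (fun s => isUnit_left n A B S Q s)

theorem alphaR_apply (b : B) : alphaR n A B B' S Q (algebraMap B B' b) =
    algebraMap (P n A B) Q (algebraMap B (P n A B) b) := by
  unfold alphaR
  rw [IsLocalization.lift_eq]; rfl

noncomputable def betaR : B' →+* Q :=
  IsLocalization.lift (M := S) (g := (algebraMap (P n A B) Q).comp (dn n A B).toRingHom)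
    (fun s => isUnit_right n A B S Q s)

theorem betaR_apply (b : B) : betaR n A B B' S Q (algebraMap B B' b) =
    algebraMap (P n A B) Q (dn n A B b) := by
  unfold betaR
  rw [IsLocalization.lift_eq]; rfl

/-- the image of the augmentation ideal in `Q` -/
noncomputable def JQ : Ideal Q := (augIdeal n A B).map (algebraMap (P n A B) Q)

theorem JQ_pow : (JQ n A B Q) ^ (n + 1) = ⊥ := by
  unfold JQ
  rw [← Ideal.map_pow, augIdeal_pow, Ideal.map_bot]

theorem beta_sub_alpha_mem (b' : B') :
    betaR n A B B' S Q b' - alphaR n A B B' S Q b' ∈ JQ n A B Q := by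
  have h : (Ideal.Quotient.mk (JQ n A B Q)).comp (betaR n A B B' S Q) =
      (Ideal.Quotient.mk (JQ n A B Q)).comp (alphaR n A B B' S Q) := by
    apply IsLocalization.ringHom_ext S
    ext b
    simp only [RingHom.comp_apply]
    rw [betaR_apply, alphaR_apply, Ideal.Quotient.eq, ← map_sub]
    exact Ideal.mem_map_of_mem _ (dn_sub_mem_augIdeal n A B b)
  exact Ideal.Quotient.eq.mp (RingHom.congr_fun h b')

noncomputable def phiT : Q →+* P n A B' :=
  IsLocalization.lift (M := S.map (algebraMap B (P n A B)))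
    (g := (PP16.map n A B A B').toRingHom)
    (fun y => by
      obtain ⟨s, hs, hy⟩ := Submonoid.mem_map.mp y.2
      show IsUnit ((PP16.map n A B A B') (y : P n A B))
      rw [← hy, PP16.map_algebraMap]
      exact (IsLocalization.map_units B' (⟨s, hs⟩ : S)).map (algebraMap B' (P n A B')))

theorem phiT_apply (x : P n A B) :
    phiT n A B B' S Q (algebraMap (P n A B) Q x) = PP16.map n A B A B' x := by
  unfold phiT
  rw [IsLocalization.lift_eq]; rfl

theorem phiT_alphaR (b' : B') :
    phiT n A B B' S Q (alphaR n A B B' S Q b') = algebraMap B' (P n A B') b' := by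
  have h : (phiT n A B B' S Q).comp (alphaR n A B B' S Q) = algebraMap B' (P n A B') := by
    apply IsLocalization.ringHom_ext S
    ext b
    simp only [RingHom.comp_apply]
    rw [alphaR_apply, phiT_apply, PP16.map_algebraMap]
  exact RingHom.congr_fun h b'

theorem phiT_betaR (b' : B') :
    phiT n A B B' S Q (betaR n A B B' S Q b') = dn n A B' b' := by
  have h : (phiT n A B B' S Q).comp (betaR n A B B' S Q) = (dn n A B').toRingHom := by
    apply IsLocalization.ringHom_ext S
    ext b
    simp only [RingHom.comp_apply]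
    rw [betaR_apply, phiT_apply, PP16.map_dn]
    rfl
  exact RingHom.congr_fun h b'

variable [Algebra A Q] [IsScalarTower A (P n A B) Q]

noncomputable def alpha : B' →ₐ[A] Q :=
  { alphaR n A B B' S Q with
    commutes' := fun r => by
      have h := alphaR_apply n A B B' S Q (algebraMap A B r)
      rw [← IsScalarTower.algebraMap_apply A B B', ← IsScalarTower.algebraMap_apply A B (P n A B),
        ← IsScalarTower.algebraMap_apply A (P n A B) Q] at h
      exact h }

noncomputable def beta : B' →ₐ[A] Q :=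
  { betaR n A B B' S Q with
    commutes' := fun r => by
      have h := betaR_apply n A B B' S Q (algebraMap A B r)
      rw [← IsScalarTower.algebraMap_apply A B B', AlgHom.commutes,
        ← IsScalarTower.algebraMap_apply A (P n A B) Q] at h
      exact h }

noncomputable def psi0 : B' ⊗[A] B' →ₐ[A] Q :=
  Algebra.TensorProduct.lift (alpha n A B B' S Q) (beta n A B B' S Q)
    (fun _ _ => Commute.all _ _)

theorem psi0_tmul (x y : B') : psi0 n A B B' S Q (x ⊗ₜ[A] y) =
    alphaR n A B B' S Q x * betaR n A B B' S Q y := by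
  unfold psi0
  rw [Algebra.TensorProduct.lift_tmul]
  rfl

theorem psi0_ideal_le :
    (KaehlerDifferential.ideal A B').map (psi0 n A B B' S Q) ≤ JQ n A B Q := by
  rw [← KaehlerDifferential.span_range_eq_ideal, Ideal.map_span, Ideal.span_le]
  rintro _ ⟨_, ⟨b', rfl⟩, rfl⟩
  show psi0 n A B B' S Q ((1 : B') ⊗ₜ[A] b' - b' ⊗ₜ[A] (1 : B')) ∈ JQ n A B Q
  rw [map_sub, psi0_tmul, psi0_tmul, map_one, map_one, one_mul, mul_one]
  exact beta_sub_alpha_mem n A B B' S Q b'

theorem psi0_eq_zero (x : B' ⊗[A] B')
    (hx : x ∈ (KaehlerDifferential.ideal A B') ^ (n + 1)) : psi0 n A B B' S Q x = 0 := by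
  have h1 : psi0 n A B B' S Q x ∈
      ((KaehlerDifferential.ideal A B') ^ (n + 1)).map (psi0 n A B B' S Q) :=
    Ideal.mem_map_of_mem _ hx
  rw [Ideal.map_pow] at h1
  have h2 := Ideal.pow_right_mono (n := n + 1) (psi0_ideal_le n A B B' S Q) h1
  rw [JQ_pow] at h2
  exact Ideal.mem_bot.mp h2

noncomputable def psi : P n A B' →+* Q :=
  Ideal.Quotient.lift _ (psi0 n A B B' S Q).toRingHom
    (fun x hx => psi0_eq_zero n A B B' S Q x hx)

theorem psi_mk (x : B' ⊗[A] B') :
    psi n A B B' S Q (Ideal.Quotient.mk _ x) = psi0 n A B B' S Q x := rfl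

theorem psi_map (x : P n A B) :
    psi n A B B' S Q (PP16.map n A B A B' x) = algebraMap (P n A B) Q x := by
  obtain ⟨t, rfl⟩ := Ideal.Quotient.mk_surjective x
  induction t using TensorProduct.induction_on with
  | zero => simp
  | tmul b c =>
    rw [PP16.map_mk, tensorMap_tmul, psi_mk, psi0_tmul, alphaR_apply, betaR_apply, ← map_mul,
      mk_tmul_eq]
  | add t1 t2 h1 h2 => simp only [map_add, h1, h2]

theorem phiT_psi (z : P n A B') : phiT n A B B' S Q (psi n A B B' S Q z) = z := by
  obtain ⟨t, rfl⟩ := Ideal.Quotient.mk_surjective z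
  induction t using TensorProduct.induction_on with
  | zero => simp
  | tmul x y =>
    rw [psi_mk, psi0_tmul, map_mul, phiT_alphaR, phiT_betaR, mk_tmul_eq]
  | add t1 t2 h1 h2 => simp only [map_add, h1, h2]

theorem psi_phiT (q : Q) : psi n A B B' S Q (phiT n A B B' S Q q) = q := by
  have h : (psi n A B B' S Q).comp (phiT n A B B' S Q) = RingHom.id Q := by
    apply IsLocalization.ringHom_ext (S.map (algebraMap B (P n A B)))
    refine RingHom.ext (fun x => ?_)
    simp only [RingHom.comp_apply, RingHom.id_apply]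
    rw [phiT_apply, psi_map]
  exact RingHom.congr_fun h q

end loc

section final

variable (n : ℕ) (A B B' : Type u) [CommRing A] [CommRing B] [Algebra A B]
  [CommRing B'] [Algebra B B'] [Algebra A B'] [IsScalarTower A B B']
  (S : Submonoid B) [IsLocalization S B']

theorem main_aux (Q : Type u) [CommRing Q] [Algebra (P n A B) Q]
    [IsLocalization (S.map (algebraMap B (P n A B))) Q] :
    letI := mapAlgebra n A B A B'
    IsLocalization (S.map (algebraMap B (P n A B))) (P n A B') := by
  letI := mapAlgebra n A B A B'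
  letI : Algebra A Q := ((algebraMap (P n A B) Q).comp (algebraMap A (P n A B))).toAlgebra
  haveI : IsScalarTower A (P n A B) Q :=
    IsScalarTower.of_algebraMap_eq (R := A) (S := P n A B) (A := Q) (fun _ => rfl)
  let e : Q ≃+* P n A B' := RingEquiv.ofRingHom (phiT n A B B' S Q) (psi n A B B' S Q)
    (RingHom.ext (fun z => phiT_psi n A B B' S Q z)) (RingHom.ext (fun q => psi_phiT n A B B' S Q q))
  let e' : Q ≃ₐ[P n A B] P n A B' := AlgEquiv.ofRingEquiv (f := e) (fun x => by
    show phiT n A B B' S Q (algebraMap (P n A B) Q x) = algebraMap (P n A B) (P n A B') x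
    rw [phiT_apply]; rfl)
  exact IsLocalization.isLocalization_of_algEquiv (S.map (algebraMap B (P n A B))) e'

end final

end Groth.Agent.Lib.Helper6.PPLoc
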