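import Groth.Agent.Lib.Helper6.PPBasic

/-!
# Principal parts of a polynomial algebra (helper6)
-/

set_option autoImplicit false
open scoped TensorProduct
open PP16 MvPolynomial Groth.Agent.Lib.Helper6.PPBasic

namespace Groth.Agent.Lib.Helper6.PPPoly

universe u
variable (n : ℕ) (A : Type u) [CommRing A] (σ : Type u)

/-- `T_i ↦ T_i + U_i`. -/
noncomputable def ψ : MvPolynomial σ A →ₐ[A] MvPolynomial σ (MvPolynomial σ A) :=
  MvPolynomial.aeval (fun i => C (X i : MvPolynomial σ A) + X i)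

/-- `b ⊗ c ↦ b · c(T + U)`. -/
noncomputable def Φ : (MvPolynomial σ A) ⊗[A] (MvPolynomial σ A) →ₐ[MvPolynomial σ A]
    MvPolynomial σ (MvPolynomial σ A) :=
  Algebra.TensorProduct.lift (Algebra.ofId _ _) (ψ A σ) (fun _ _ => Commute.all _ _)

/-- `U_i ↦ 1 ⊗ T_i - T_i ⊗ 1`. -/
noncomputable def Ψ : MvPolynomial σ (MvPolynomial σ A) →ₐ[MvPolynomial σ A]
    (MvPolynomial σ A) ⊗[A] (MvPolynomial σ A) :=
  MvPolynomial.aeval (fun i => (1 : MvPolynomial σ A) ⊗ₜ[A] (X i : MvPolynomial σ A) -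
    (X i : MvPolynomial σ A) ⊗ₜ[A] (1 : MvPolynomial σ A))

lemma Φ_tmul (b c : MvPolynomial σ A) : Φ A σ (b ⊗ₜ[A] c) = C b * ψ A σ c := by
  simp [Φ, Algebra.TensorProduct.lift_tmul, Algebra.ofId_apply, MvPolynomial.algebraMap_eq]

lemma ψ_X (i : σ) : ψ A σ (X i) = C (X i : MvPolynomial σ A) + X i := by
  simp [ψ]

lemma Ψ_X (i : σ) : Ψ A σ (X i) = (1 : MvPolynomial σ A) ⊗ₜ[A] (X i : MvPolynomial σ A) -
    (X i : MvPolynomial σ A) ⊗ₜ[A] (1 : MvPolynomial σ A) := by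
  simp [Ψ]

lemma Ψ_C (b : MvPolynomial σ A) : Ψ A σ (C b) = b ⊗ₜ[A] (1 : MvPolynomial σ A) := by
  simp [Ψ, Algebra.TensorProduct.algebraMap_apply]

lemma Ψ_ψ (c : MvPolynomial σ A) : Ψ A σ (ψ A σ c) = (1 : MvPolynomial σ A) ⊗ₜ[A] c := by
  have h : ((Ψ A σ).restrictScalars A).comp (ψ A σ) = Algebra.TensorProduct.includeRight := by
    apply MvPolynomial.algHom_ext
    intro i
    rw [AlgHom.comp_apply, AlgHom.restrictScalars_apply, ψ_X, map_add, Ψ_C, Ψ_X,
      Algebra.TensorProduct.includeRight_apply]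
    abel
  exact DFunLike.congr_fun h c

lemma Ψ_Φ (x : (MvPolynomial σ A) ⊗[A] (MvPolynomial σ A)) : Ψ A σ (Φ A σ x) = x := by
  induction x using TensorProduct.induction_on with
  | zero => simp
  | tmul b c =>
    rw [Φ_tmul, map_mul, Ψ_C, Ψ_ψ, Algebra.TensorProduct.tmul_mul_tmul, mul_one, one_mul]
  | add x y hx hy => rw [map_add, map_add, hx, hy]

lemma Φ_comp_Ψ : (Φ A σ).comp (Ψ A σ) = AlgHom.id _ _ := by
  apply MvPolynomial.algHom_ext
  intro i
  rw [AlgHom.comp_apply, Ψ_X, map_sub, Φ_tmul, Φ_tmul, ψ_X, map_one, map_one, one_mul, mul_one,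
    AlgHom.id_apply]
  abel

/-- The isomorphism `B ⊗_A B ≃ B[U]`. -/
noncomputable def E : ((MvPolynomial σ A) ⊗[A] (MvPolynomial σ A)) ≃ₐ[MvPolynomial σ A]
    MvPolynomial σ (MvPolynomial σ A) :=
  AlgEquiv.ofAlgHom (Φ A σ) (Ψ A σ) (Φ_comp_Ψ A σ) (AlgHom.ext (Ψ_Φ A σ))

lemma ψ_sub_C_mem (b : MvPolynomial σ A) :
    ψ A σ b - C b ∈ Ideal.span (Set.range (X : σ → MvPolynomial σ (MvPolynomial σ A))) := by
  induction b using MvPolynomial.induction_on with
  | C a =>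
    have h : ψ A σ (C a) = C (C a) := by
      simp [ψ, MvPolynomial.algebraMap_apply]
    rw [h, sub_self]
    exact Ideal.zero_mem _
  | add p q hp hq =>
    have h : ψ A σ (p + q) - C (p + q) = (ψ A σ p - C p) + (ψ A σ q - C q) := by
      rw [map_add, map_add]; abel
    rw [h]
    exact Ideal.add_mem _ hp hq
  | mul_X p i hp =>
    have h : ψ A σ (p * X i) - C (p * X i) =
        (ψ A σ p - C p) * C (X i : MvPolynomial σ A) + ψ A σ p * X i := by
      rw [map_mul, map_mul, ψ_X]; ring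
    rw [h]
    exact Ideal.add_mem _ (Ideal.mul_mem_right _ _ hp)
      (Ideal.mul_mem_left _ _ (Ideal.subset_span ⟨i, rfl⟩))

lemma ideal_map_Φ :
    (KaehlerDifferential.ideal A (MvPolynomial σ A)).map (Φ A σ) =
      Ideal.span (Set.range (X : σ → MvPolynomial σ (MvPolynomial σ A))) := by
  apply le_antisymm
  · rw [Ideal.map_le_iff_le_comap]
    refine le_trans (KaehlerDifferential.span_range_eq_ideal A (MvPolynomial σ A)).ge ?_
    rw [Ideal.span_le]
    rintro _ ⟨b, rfl⟩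
    rw [SetLike.mem_coe, Ideal.mem_comap]
    change Φ A σ ((1 : MvPolynomial σ A) ⊗ₜ[A] b - b ⊗ₜ[A] (1 : MvPolynomial σ A)) ∈ _
    rw [map_sub, Φ_tmul, Φ_tmul, map_one, map_one, one_mul, mul_one]
    exact ψ_sub_C_mem A σ b
  · rw [Ideal.span_le]
    rintro _ ⟨i, rfl⟩
    have h : (X i : MvPolynomial σ (MvPolynomial σ A)) =
        Φ A σ ((1 : MvPolynomial σ A) ⊗ₜ[A] (X i : MvPolynomial σ A) -
          (X i : MvPolynomial σ A) ⊗ₜ[A] (1 : MvPolynomial σ A)) := by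
      rw [map_sub, Φ_tmul, Φ_tmul, ψ_X, map_one, map_one, one_mul, mul_one]
      abel
    rw [SetLike.mem_coe, h]
    exact Ideal.mem_map_of_mem _ (KaehlerDifferential.one_smul_sub_smul_one_mem_ideal A _)

theorem exists_algEquiv :
    ∃ e : PP16.P n A (MvPolynomial σ A) ≃ₐ[MvPolynomial σ A]
        (MvPolynomial σ (MvPolynomial σ A) ⧸
          Ideal.span (Set.range (MvPolynomial.X : σ → MvPolynomial σ (MvPolynomial σ A))) ^ (n + 1)),
      ∀ i : σ, e (PP16.dn n A (MvPolynomial σ A) (MvPolynomial.X i)) =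
        Ideal.Quotient.mk _ (MvPolynomial.C (MvPolynomial.X i : MvPolynomial σ A) +
          (MvPolynomial.X i : MvPolynomial σ (MvPolynomial σ A))) := by
  have hIJ : Ideal.span (Set.range (MvPolynomial.X : σ → MvPolynomial σ (MvPolynomial σ A))) ^ (n + 1) =
      ((KaehlerDifferential.ideal A (MvPolynomial σ A)) ^ (n + 1)).map
        ((E A σ : _ ≃ₐ[MvPolynomial σ A] _) : _ →+* _) := by
    rw [Ideal.map_pow, ← ideal_map_Φ]
    congr 1
  refine ⟨Ideal.quotientEquivAlg _ _ (E A σ) hIJ, ?_⟩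
  intro i
  change Ideal.Quotient.mk _ (Φ A σ ((1 : MvPolynomial σ A) ⊗ₜ[A] (X i : MvPolynomial σ A))) = _
  rw [Φ_tmul, map_one, one_mul, ψ_X]

end Groth.Agent.Lib.Helper6.PPPoly
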