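import Groth.Agent.Lib.Helper6.PPBasic

/-!
# Principal parts and a retraction `g : B → A` (helper6)
-/

set_option autoImplicit false
open scoped TensorProduct
open PP16 Groth.Agent.Lib.Helper6.PPBasic

namespace Groth.Agent.Lib.Helper6.PPRetract

universe u

variable (n : ℕ) (A B : Type u) [CommRing A] [CommRing B] [Algebra A B] (g : B →ₐ[A] A)

/-- `b ⊗ c ↦ g(b) c`. -/
noncomputable def θ : B ⊗[A] B →ₐ[A] B :=
  Algebra.TensorProduct.lift ((Algebra.ofId A B).comp g) (AlgHom.id A B) (fun _ _ => Commute.all _ _)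

lemma θ_tmul (b c : B) : θ A B g (b ⊗ₜ[A] c) = algebraMap A B (g b) * c := by
  simp [θ, Algebra.TensorProduct.lift_tmul, Algebra.ofId_apply]

/-- `K ⊗ B`. -/
def KL : Ideal (B ⊗[A] B) :=
  (RingHom.ker g).map (Algebra.TensorProduct.includeLeft : B →ₐ[A] B ⊗[A] B)

lemma sub_mem_ker (b : B) : b - algebraMap A B (g b) ∈ RingHom.ker g := by
  rw [RingHom.mem_ker, map_sub, AlgHom.commutes, Algebra.algebraMap_self, RingHom.id_apply, sub_self]

lemma sub_θ_mem (x : B ⊗[A] B) : x - (1 : B) ⊗ₜ[A] θ A B g x ∈ KL A B g := by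
  induction x using TensorProduct.induction_on with
  | zero => simp
  | tmul b c =>
    have h : b ⊗ₜ[A] c - (1 : B) ⊗ₜ[A] θ A B g (b ⊗ₜ[A] c) =
        ((b - algebraMap A B (g b)) ⊗ₜ[A] (1 : B)) * ((1 : B) ⊗ₜ[A] c) := by
      rw [θ_tmul, Algebra.TensorProduct.tmul_mul_tmul, mul_one, one_mul, TensorProduct.sub_tmul,
        Algebra.algebraMap_eq_smul_one, smul_mul_assoc, one_mul, TensorProduct.tmul_smul,
        TensorProduct.smul_tmul']
    rw [h]
    exact Ideal.mul_mem_right _ _ (Ideal.mem_map_of_mem _ (sub_mem_ker A B g b))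
  | add x y hx hy =>
    have h : x + y - (1 : B) ⊗ₜ[A] θ A B g (x + y) =
        (x - (1 : B) ⊗ₜ[A] θ A B g x) + (y - (1 : B) ⊗ₜ[A] θ A B g y) := by
      rw [map_add, TensorProduct.tmul_add]
      abel
    rw [h]
    exact Ideal.add_mem _ hx hy

lemma KL_le_ker : KL A B g ≤ RingHom.ker (θ A B g) := by
  unfold KL
  rw [Ideal.map_le_iff_le_comap]
  intro k hk
  rw [Ideal.mem_comap, RingHom.mem_ker]
  change θ A B g (k ⊗ₜ[A] (1 : B)) = 0
  rw [θ_tmul, (RingHom.mem_ker).1 hk, map_zero, zero_mul]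

lemma ker_θ : RingHom.ker (θ A B g) = KL A B g := by
  apply le_antisymm _ (KL_le_ker A B g)
  intro x hx
  have h := sub_θ_mem A B g x
  rwa [(RingHom.mem_ker).1 hx, TensorProduct.tmul_zero, sub_zero] at h

lemma θ_one_tmul (c : B) : θ A B g ((1 : B) ⊗ₜ[A] c) = c := by
  rw [θ_tmul, map_one, map_one, one_mul]

lemma θ_surjective : Function.Surjective (θ A B g) := fun c => ⟨_, θ_one_tmul A B g c⟩

lemma ideal_map_θ : (KaehlerDifferential.ideal A B).map (θ A B g) = RingHom.ker g := by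
  apply le_antisymm
  · rw [Ideal.map_le_iff_le_comap]
    refine le_trans (KaehlerDifferential.span_range_eq_ideal A B).ge ?_
    rw [Ideal.span_le]
    rintro _ ⟨c, rfl⟩
    rw [SetLike.mem_coe, Ideal.mem_comap]
    change θ A B g ((1 : B) ⊗ₜ[A] c - c ⊗ₜ[A] (1 : B)) ∈ _
    rw [map_sub, θ_one_tmul, θ_tmul, mul_one]
    exact sub_mem_ker A B g c
  · intro k hk
    have h : k = θ A B g ((1 : B) ⊗ₜ[A] k - k ⊗ₜ[A] (1 : B)) := by
      rw [map_sub, θ_one_tmul, θ_tmul, (RingHom.mem_ker).1 hk, map_zero, zero_mul, sub_zero]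
    rw [h]
    exact Ideal.mem_map_of_mem _ (KaehlerDifferential.one_smul_sub_smul_one_mem_ideal A k)

lemma KL_map_mk :
    (KL A B g).map (Ideal.Quotient.mk ((KaehlerDifferential.ideal A B) ^ (n + 1))) =
      (RingHom.ker g).map (algebraMap B (PP16.P n A B)) :=
  ideal_map_map_eq _ _ _ (fun _ => rfl) _

theorem retract_surjective_ker :
    Function.Surjective ((Ideal.Quotient.mk ((RingHom.ker g).map (algebraMap B (PP16.P n A B)))).comp
        (PP16.dn n A B).toRingHom) ∧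
      RingHom.ker ((Ideal.Quotient.mk ((RingHom.ker g).map (algebraMap B (PP16.P n A B)))).comp
        (PP16.dn n A B).toRingHom) = RingHom.ker g ^ (n + 1) := by
  constructor
  · intro y
    obtain ⟨y', rfl⟩ := Ideal.Quotient.mk_surjective y
    obtain ⟨x, rfl⟩ := Ideal.Quotient.mk_surjective y'
    refine ⟨θ A B g x, ?_⟩
    rw [RingHom.comp_apply]
    symm
    rw [Ideal.Quotient.eq, ← KL_map_mk]
    change Ideal.Quotient.mk _ x - Ideal.Quotient.mk _ ((1 : B) ⊗ₜ[A] θ A B g x) ∈ _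
    rw [← map_sub]
    exact Ideal.mem_map_of_mem _ (sub_θ_mem A B g x)
  · ext c
    rw [RingHom.mem_ker, RingHom.comp_apply, Ideal.Quotient.eq_zero_iff_mem, ← KL_map_mk]
    change Ideal.Quotient.mk _ ((1 : B) ⊗ₜ[A] c) ∈ _ ↔ _
    rw [Ideal.mem_map_iff_of_surjective _ Ideal.Quotient.mk_surjective]
    have hpow : ((KaehlerDifferential.ideal A B) ^ (n + 1)).map (θ A B g) = RingHom.ker g ^ (n + 1) := by
      rw [Ideal.map_pow, ideal_map_θ]
    constructor
    · rintro ⟨y, hy, hyc⟩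
      rw [Ideal.Quotient.eq] at hyc
      have h1 : c = θ A B g ((1 : B) ⊗ₜ[A] c - y) := by
        rw [map_sub, θ_one_tmul, (RingHom.mem_ker).1 (KL_le_ker A B g hy), sub_zero]
      rw [h1, ← hpow]
      apply Ideal.mem_map_of_mem
      rw [← neg_sub]
      exact Ideal.neg_mem_iff _ |>.2 hyc
    · intro hc
      rw [← hpow, Ideal.mem_map_iff_of_surjective _ (θ_surjective A B g)] at hc
      obtain ⟨z, hz, hzc⟩ := hc
      refine ⟨(1 : B) ⊗ₜ[A] c - z, ?_, ?_⟩
      · rw [← ker_θ, RingHom.mem_ker, map_sub, θ_one_tmul, hzc, sub_self]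
      · rw [map_sub, Ideal.Quotient.eq_zero_iff_mem.2 hz, sub_zero]

end Groth.Agent.Lib.Helper6.PPRetract
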