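import Groth.Agent.Lib.Helper6.PPBasic

/-!
# Principal parts of a symmetric algebra (helper6)
-/

set_option autoImplicit false
open scoped TensorProduct
open PP16 Groth.Agent.Lib.Helper6.PPBasic

namespace Groth.Agent.Lib.Helper6.PPSym

universe u
variable (n : ℕ) (A : Type u) [CommRing A] (E : Type u) [AddCommGroup E] [Module A E]

local notation "𝐒" => SymmetricAlgebra A E

/-- `t ↦ t ⊗ 1 + 1 ⊗ t`. -/
noncomputable def Δ : 𝐒 →ₐ[A] 𝐒 ⊗[A] 𝐒 :=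
  SymmetricAlgebra.lift
    ((Algebra.TensorProduct.includeLeft : 𝐒 →ₐ[A] 𝐒 ⊗[A] 𝐒).toLinearMap ∘ₗ SymmetricAlgebra.ι A E +
      (Algebra.TensorProduct.includeRight : 𝐒 →ₐ[A] 𝐒 ⊗[A] 𝐒).toLinearMap ∘ₗ SymmetricAlgebra.ι A E)

/-- `t ↦ 1 ⊗ t - t ⊗ 1`. -/
noncomputable def Δ' : 𝐒 →ₐ[A] 𝐒 ⊗[A] 𝐒 :=
  SymmetricAlgebra.lift
    ((Algebra.TensorProduct.includeRight : 𝐒 →ₐ[A] 𝐒 ⊗[A] 𝐒).toLinearMap ∘ₗ SymmetricAlgebra.ι A E -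
      (Algebra.TensorProduct.includeLeft : 𝐒 →ₐ[A] 𝐒 ⊗[A] 𝐒).toLinearMap ∘ₗ SymmetricAlgebra.ι A E)

lemma Δ_ι (t : E) : Δ A E (SymmetricAlgebra.ι A E t) =
    SymmetricAlgebra.ι A E t ⊗ₜ[A] (1 : 𝐒) + (1 : 𝐒) ⊗ₜ[A] SymmetricAlgebra.ι A E t := by
  simp [Δ]

lemma Δ'_ι (t : E) : Δ' A E (SymmetricAlgebra.ι A E t) =
    (1 : 𝐒) ⊗ₜ[A] SymmetricAlgebra.ι A E t - SymmetricAlgebra.ι A E t ⊗ₜ[A] (1 : 𝐒) := by
  simp [Δ']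

/-- `b ⊗ c ↦ (b ⊗ 1) Δ(c)`. -/
noncomputable def Φ : 𝐒 ⊗[A] 𝐒 →ₐ[𝐒] 𝐒 ⊗[A] 𝐒 :=
  Algebra.TensorProduct.lift (Algebra.TensorProduct.includeLeft : 𝐒 →ₐ[𝐒] 𝐒 ⊗[A] 𝐒) (Δ A E)
    (fun _ _ => Commute.all _ _)

/-- `b ⊗ c ↦ (b ⊗ 1) Δ'(c)`. -/
noncomputable def Ψ : 𝐒 ⊗[A] 𝐒 →ₐ[𝐒] 𝐒 ⊗[A] 𝐒 :=
  Algebra.TensorProduct.lift (Algebra.TensorProduct.includeLeft : 𝐒 →ₐ[𝐒] 𝐒 ⊗[A] 𝐒) (Δ' A E)
    (fun _ _ => Commute.all _ _)

lemma Φ_tmul (b c : 𝐒) : Φ A E (b ⊗ₜ[A] c) = (b ⊗ₜ[A] (1 : 𝐒)) * Δ A E c := by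
  simp [Φ, Algebra.TensorProduct.lift_tmul]

lemma Ψ_tmul (b c : 𝐒) : Ψ A E (b ⊗ₜ[A] c) = (b ⊗ₜ[A] (1 : 𝐒)) * Δ' A E c := by
  simp [Ψ, Algebra.TensorProduct.lift_tmul]

lemma Ψ_Δ (c : 𝐒) : Ψ A E (Δ A E c) = (1 : 𝐒) ⊗ₜ[A] c := by
  have h : ((Ψ A E).restrictScalars A).comp (Δ A E) = Algebra.TensorProduct.includeRight := by
    apply SymmetricAlgebra.algHom_ext
    ext t
    change Ψ A E (Δ A E (SymmetricAlgebra.ι A E t)) = (1 : 𝐒) ⊗ₜ[A] SymmetricAlgebra.ι A E t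
    rw [Δ_ι, map_add, Ψ_tmul, Ψ_tmul, map_one, mul_one, Δ'_ι, ← Algebra.TensorProduct.one_def, one_mul]
    abel
  exact DFunLike.congr_fun h c

lemma Φ_Δ' (c : 𝐒) : Φ A E (Δ' A E c) = (1 : 𝐒) ⊗ₜ[A] c := by
  have h : ((Φ A E).restrictScalars A).comp (Δ' A E) = Algebra.TensorProduct.includeRight := by
    apply SymmetricAlgebra.algHom_ext
    ext t
    change Φ A E (Δ' A E (SymmetricAlgebra.ι A E t)) = (1 : 𝐒) ⊗ₜ[A] SymmetricAlgebra.ι A E t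
    rw [Δ'_ι, map_sub, Φ_tmul, Φ_tmul, map_one, mul_one, Δ_ι, ← Algebra.TensorProduct.one_def, one_mul]
    abel
  exact DFunLike.congr_fun h c

lemma Ψ_Φ (x : 𝐒 ⊗[A] 𝐒) : Ψ A E (Φ A E x) = x := by
  induction x using TensorProduct.induction_on with
  | zero => simp
  | tmul b c =>
    rw [Φ_tmul, map_mul, Ψ_Δ, Ψ_tmul, map_one, mul_one, Algebra.TensorProduct.tmul_mul_tmul,
      mul_one, one_mul]
  | add x y hx hy => rw [map_add, map_add, hx, hy]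

lemma Φ_Ψ (x : 𝐒 ⊗[A] 𝐒) : Φ A E (Ψ A E x) = x := by
  induction x using TensorProduct.induction_on with
  | zero => simp
  | tmul b c =>
    rw [Ψ_tmul, map_mul, Φ_Δ', Φ_tmul, map_one, mul_one, Algebra.TensorProduct.tmul_mul_tmul,
      mul_one, one_mul]
  | add x y hx hy => rw [map_add, map_add, hx, hy]

/-- The automorphism of `S ⊗ S`. -/
noncomputable def Eq : (𝐒 ⊗[A] 𝐒) ≃ₐ[𝐒] 𝐒 ⊗[A] 𝐒 :=
  AlgEquiv.ofAlgHom (Φ A E) (Ψ A E) (AlgHom.ext (Φ_Ψ A E)) (AlgHom.ext (Ψ_Φ A E))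

/-- The augmentation ideal. -/
noncomputable def Kaug : Ideal 𝐒 := RingHom.ker (SymmetricAlgebra.lift (0 : E →ₗ[A] A))

lemma ι_mem_Kaug (t : E) : SymmetricAlgebra.ι A E t ∈ Kaug A E := by
  rw [Kaug, RingHom.mem_ker, SymmetricAlgebra.lift_ι_apply]
  rfl

lemma Δ_sub_mem (b : 𝐒) : Δ A E b - b ⊗ₜ[A] (1 : 𝐒) ∈
    (Kaug A E).map (Algebra.TensorProduct.includeRight : 𝐒 →ₐ[A] 𝐒 ⊗[A] 𝐒) := by
  induction b using SymmetricAlgebra.induction with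
  | algebraMap r =>
    rw [AlgHom.commutes, Algebra.TensorProduct.algebraMap_apply, sub_self]
    exact Ideal.zero_mem _
  | ι t =>
    rw [Δ_ι, add_sub_cancel_left]
    exact Ideal.mem_map_of_mem _ (ι_mem_Kaug A E t)
  | mul a b ha hb =>
    have h : Δ A E (a * b) - (a * b) ⊗ₜ[A] (1 : 𝐒) =
        (Δ A E a - a ⊗ₜ[A] (1 : 𝐒)) * Δ A E b +
          (a ⊗ₜ[A] (1 : 𝐒)) * (Δ A E b - b ⊗ₜ[A] (1 : 𝐒)) := by
      rw [map_mul, sub_mul, mul_sub, Algebra.TensorProduct.tmul_mul_tmul, mul_one]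
      abel
    rw [h]
    exact Ideal.add_mem _ (Ideal.mul_mem_right _ _ ha) (Ideal.mul_mem_left _ _ hb)
  | add a b ha hb =>
    have h : Δ A E (a + b) - (a + b) ⊗ₜ[A] (1 : 𝐒) =
        (Δ A E a - a ⊗ₜ[A] (1 : 𝐒)) + (Δ A E b - b ⊗ₜ[A] (1 : 𝐒)) := by
      rw [map_add, TensorProduct.add_tmul]; abel
    rw [h]
    exact Ideal.add_mem _ ha hb

lemma lmul_Δ' (c : 𝐒) : Algebra.TensorProduct.lmul' A (Δ' A E c) =
    algebraMap A 𝐒 (SymmetricAlgebra.lift (0 : E →ₗ[A] A) c) := by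
  have h : (Algebra.TensorProduct.lmul' A (S := 𝐒)).comp (Δ' A E) =
      (Algebra.ofId A 𝐒).comp (SymmetricAlgebra.lift (0 : E →ₗ[A] A)) := by
    apply SymmetricAlgebra.algHom_ext
    ext t
    change Algebra.TensorProduct.lmul' A (Δ' A E (SymmetricAlgebra.ι A E t)) =
      algebraMap A 𝐒 (SymmetricAlgebra.lift (0 : E →ₗ[A] A) (SymmetricAlgebra.ι A E t))
    rw [Δ'_ι, map_sub, Algebra.TensorProduct.lmul'_apply_tmul,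
      Algebra.TensorProduct.lmul'_apply_tmul, one_mul, mul_one, sub_self,
      SymmetricAlgebra.lift_ι_apply]
    simp
  exact DFunLike.congr_fun h c

lemma ideal_map_Φ : (KaehlerDifferential.ideal A 𝐒).map (Φ A E) =
    (Kaug A E).map (Algebra.TensorProduct.includeRight : 𝐒 →ₐ[A] 𝐒 ⊗[A] 𝐒) := by
  apply le_antisymm
  · rw [Ideal.map_le_iff_le_comap]
    refine le_trans (KaehlerDifferential.span_range_eq_ideal A 𝐒).ge ?_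
    rw [Ideal.span_le]
    rintro _ ⟨b, rfl⟩
    rw [SetLike.mem_coe, Ideal.mem_comap]
    change Φ A E ((1 : 𝐒) ⊗ₜ[A] b - b ⊗ₜ[A] (1 : 𝐒)) ∈ _
    rw [map_sub, Φ_tmul, Φ_tmul, map_one, Algebra.TensorProduct.one_def.symm, one_mul, mul_one]
    exact Δ_sub_mem A E b
  · rw [Ideal.map_le_iff_le_comap]
    intro k hk
    rw [Ideal.mem_comap]
    change (1 : 𝐒) ⊗ₜ[A] k ∈ _
    rw [← Φ_Δ']
    apply Ideal.mem_map_of_mem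
    change Δ' A E k ∈ RingHom.ker (Algebra.TensorProduct.lmul' A (S := 𝐒))
    rw [RingHom.mem_ker, lmul_Δ']
    have hk' : SymmetricAlgebra.lift (0 : E →ₗ[A] A) k = 0 := hk
    rw [hk', map_zero]

theorem exists_algEquiv :
    ∃ e : PP16.P n A (SymmetricAlgebra A E) ≃ₐ[SymmetricAlgebra A E]
        (SymmetricAlgebra A E ⊗[A] (SymmetricAlgebra A E ⧸
          RingHom.ker (SymmetricAlgebra.lift (0 : E →ₗ[A] A)) ^ (n + 1))),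
      ∀ t : E, e (PP16.dn n A (SymmetricAlgebra A E) (SymmetricAlgebra.ι A E t)) =
        SymmetricAlgebra.ι A E t ⊗ₜ 1 + 1 ⊗ₜ Ideal.Quotient.mk _ (SymmetricAlgebra.ι A E t) := by
  have hIJ : (Kaug A E ^ (n + 1)).map
        (Algebra.TensorProduct.includeRight : 𝐒 →ₐ[A] 𝐒 ⊗[A] 𝐒) =
      ((KaehlerDifferential.ideal A 𝐒) ^ (n + 1)).map
        ((Eq A E : _ ≃ₐ[𝐒] _) : _ →+* _) := by
    rw [Ideal.map_pow, Ideal.map_pow, ← ideal_map_Φ]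
    rfl
  refine ⟨(Ideal.quotientEquivAlg _ _ (Eq A E) hIJ).trans
    (Algebra.TensorProduct.tensorQuotientEquiv (R := A) 𝐒 𝐒 𝐒 (Kaug A E ^ (n + 1))).symm, ?_⟩
  intro t
  change (Algebra.TensorProduct.tensorQuotientEquiv (R := A) 𝐒 𝐒 𝐒 (Kaug A E ^ (n + 1))).symm
    (Ideal.Quotient.mk _ (Φ A E ((1 : 𝐒) ⊗ₜ[A] SymmetricAlgebra.ι A E t))) = _
  rw [Φ_tmul, Algebra.TensorProduct.one_def.symm, one_mul, Δ_ι, map_add, map_add]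
  rfl

end Groth.Agent.Lib.Helper6.PPSym
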