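import Groth.Agent.Lib.Helper6.PPBasic

/-!
# Principal parts for a tower `A → B → C` and for a retraction (helper6)
-/

set_option autoImplicit false
open scoped TensorProduct
open PP16 Groth.Agent.Lib.Helper6.PPBasic

namespace Groth.Agent.Lib.Helper6.PPTower

universe u

section tower

variable (n : ℕ) (A B C : Type u) [CommRing A] [CommRing B] [CommRing C]
    [Algebra A B] [Algebra B C] [Algebra A C] [IsScalarTower A B C]

/-- The generators `1 ⊗ b - b ⊗ 1` of the kernel of `C ⊗[A] C → C ⊗[B] C`. -/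
def gen (b : B) : C ⊗[A] C := (1 : C) ⊗ₜ[A] algebraMap B C b - algebraMap B C b ⊗ₜ[A] (1 : C)

/-- The ideal generated by the `gen b`. -/
def L : Ideal (C ⊗[A] C) := Ideal.span (Set.range (gen A B C))

lemma gen_mem_ker (b : B) : gen A B C b ∈ RingHom.ker (tensorMap A C B C) := by
  rw [RingHom.mem_ker, gen, map_sub, tensorMap_tmul, tensorMap_tmul, map_one]
  simp only [Algebra.algebraMap_self, RingHom.id_apply]
  rw [Algebra.algebraMap_eq_smul_one, TensorProduct.tmul_smul, ← TensorProduct.smul_tmul', sub_self]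

/-- Left inclusion into the quotient by `L`. -/
noncomputable def fL : C →ₐ[B] (C ⊗[A] C) ⧸ L A B C :=
  (Ideal.Quotient.mkₐ B (L A B C)).comp
    (Algebra.TensorProduct.includeLeft : C →ₐ[B] C ⊗[A] C)

/-- Right inclusion into the quotient by `L` (it is `B`-linear modulo `L`). -/
noncomputable def gR : C →ₐ[B] (C ⊗[A] C) ⧸ L A B C :=
  { toRingHom := (Ideal.Quotient.mk (L A B C)).comp
      (Algebra.TensorProduct.includeRight : C →ₐ[A] C ⊗[A] C).toRingHom
    commutes' := fun b => by
      change Ideal.Quotient.mk (L A B C) ((1 : C) ⊗ₜ[A] algebraMap B C b) =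
        Ideal.Quotient.mk (L A B C) (algebraMap B C b ⊗ₜ[A] (1 : C))
      rw [Ideal.Quotient.eq]
      exact Ideal.subset_span ⟨b, rfl⟩ }

/-- The map `C ⊗[B] C → (C ⊗[A] C) / L`. -/
noncomputable def ψ : C ⊗[B] C →ₐ[B] (C ⊗[A] C) ⧸ L A B C :=
  Algebra.TensorProduct.lift (fL A B C) (gR A B C) (fun _ _ => Commute.all _ _)

lemma ψ_tensorMap (x : C ⊗[A] C) :
    ψ A B C (tensorMap A C B C x) = Ideal.Quotient.mk (L A B C) x := by
  induction x using TensorProduct.induction_on with
  | zero => simp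
  | tmul c c' =>
    rw [tensorMap_tmul]
    simp only [Algebra.algebraMap_self, RingHom.id_apply]
    rw [ψ, Algebra.TensorProduct.lift_tmul]
    change Ideal.Quotient.mk (L A B C) (c ⊗ₜ[A] (1 : C)) *
      Ideal.Quotient.mk (L A B C) ((1 : C) ⊗ₜ[A] c') = _
    rw [← map_mul, Algebra.TensorProduct.tmul_mul_tmul, mul_one, one_mul]
  | add x y hx hy => rw [map_add, map_add, hx, hy, map_add]

lemma ker_tensorMap_tower : RingHom.ker (tensorMap A C B C) = L A B C := by
  apply le_antisymm
  · intro x hx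
    rw [← Ideal.Quotient.eq_zero_iff_mem, ← ψ_tensorMap, (RingHom.mem_ker).1 hx, map_zero]
  · unfold L
    rw [Ideal.span_le]
    rintro _ ⟨b, rfl⟩
    exact gen_mem_ker A B C b

theorem map_tower_surjective_ker :
    Function.Surjective (PP16.map n A C B C) ∧
      RingHom.ker (PP16.map n A C B C) = (PP16.augIdeal n A B).map (PP16.map n A B A C) := by
  have hs : Function.Surjective (algebraMap C C) := fun c => ⟨c, rfl⟩
  obtain ⟨h1, h2⟩ := map_surjective_ker n A C B C hs
  refine ⟨h1, ?_⟩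
  rw [h2, ker_tensorMap_tower]
  have key : ∀ b : B, Ideal.Quotient.mk (KaehlerDifferential.ideal A C ^ (n + 1)) (gen A B C b) =
      PP16.map n A B A C (Ideal.Quotient.mk (KaehlerDifferential.ideal A B ^ (n + 1))
        ((1 : B) ⊗ₜ[A] b - b ⊗ₜ[A] (1 : B))) := by
    intro b
    rw [map_mk, map_sub, tensorMap_tmul, tensorMap_tmul, map_one]
    rfl
  apply le_antisymm
  · rw [Ideal.map_le_iff_le_comap]
    unfold L
    rw [Ideal.span_le]
    rintro _ ⟨b, rfl⟩
    rw [SetLike.mem_coe, Ideal.mem_comap, key]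
    apply Ideal.mem_map_of_mem
    exact Ideal.mem_map_of_mem _ (KaehlerDifferential.one_smul_sub_smul_one_mem_ideal A b)
  · rw [Ideal.map_le_iff_le_comap]
    unfold augIdeal
    rw [Ideal.map_le_iff_le_comap]
    refine le_trans (KaehlerDifferential.span_range_eq_ideal A B).ge ?_
    rw [Ideal.span_le]
    rintro _ ⟨b, rfl⟩
    rw [SetLike.mem_coe, Ideal.mem_comap, Ideal.mem_comap]
    change PP16.map n A B A C (Ideal.Quotient.mk _ ((1 : B) ⊗ₜ[A] b - b ⊗ₜ[A] (1 : B))) ∈ _
    rw [← key]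
    exact Ideal.mem_map_of_mem _ (Ideal.subset_span ⟨b, rfl⟩)

end tower

end Groth.Agent.Lib.Helper6.PPTower
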