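import Mathlib
import Groth.Prelude.Def_EGA41
import Groth.Agent.Lib.Helper21.PBasisJ

namespace Groth.Agent.Lib.Helper6.PTower

universe u
open EGA41 Groth.Agent.Lib.Helper21.PBasis

section one

variable (p : ℕ) {A B : Type u} [CommRing A] [CommRing B] [Algebra A B]

theorem mem_pPower_iff (hpow : ∀ b : B, b ^ p ∈ Set.range (algebraMap A B)) (b : B) :
    b ∈ pPowerSubalgebra p A B ↔ b ∈ Set.range (algebraMap A B) := by
  constructor
  · intro hb
    have h : pPowerSubalgebra p A B ≤ (Algebra.ofId A B).range := by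
      refine Algebra.adjoin_le ?_
      rintro _ ⟨b, rfl⟩
      obtain ⟨a, ha⟩ := hpow b
      exact ⟨a, ha⟩
    obtain ⟨a, ha⟩ := h hb
    exact ⟨a, ha⟩
  · rintro ⟨a, rfl⟩
    exact Subalgebra.algebraMap_mem _ a

end one

section tower

variable (p : ℕ) {A C B : Type u} [CommRing A] [CommRing C] [CommRing B]
  [Algebra A C] [Algebra C B] [Algebra A B] [IsScalarTower A C B]
  (hinj : Function.Injective (algebraMap C B))
  (hpow : ∀ b : B, b ^ p ∈ Set.range (algebraMap A B))

include hpow in
theorem hpowCB (b : B) : b ^ p ∈ Set.range (algebraMap C B) := by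
  obtain ⟨a, ha⟩ := hpow b
  exact ⟨algebraMap A C a, by rw [← IsScalarTower.algebraMap_apply, ha]⟩

include hinj hpow in
theorem hpowAC (c : C) : c ^ p ∈ Set.range (algebraMap A C) := by
  obtain ⟨a, ha⟩ := hpow (algebraMap C B c)
  refine ⟨a, hinj ?_⟩
  rw [← IsScalarTower.algebraMap_apply, ha, map_pow]

theorem pMonomial_sumElim {ι κ : Type u} (a : ι → B) (b : κ → B) (e : ι →₀ ℕ) (f : κ →₀ ℕ) :
    pMonomial (Sum.elim a b) (Finsupp.sumElim e f) = pMonomial a e * pMonomial b f := by
  unfold pMonomial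
  rw [Finsupp.prod_sumElim]
  rfl

theorem map_pMonomial' {ι : Type u} (x : ι → C) (e : ι →₀ ℕ) :
    algebraMap C B (pMonomial x e) = pMonomial (fun i => algebraMap C B (x i)) e := by
  unfold pMonomial
  rw [map_finsuppProd]
  simp only [map_pow]

/-- `C ≃+ C[B^p]`. -/
noncomputable def tau : C ≃+ ↥(pPowerSubalgebra p C B) :=
  AddEquiv.ofBijective (algebraMap C ↥(pPowerSubalgebra p C B)).toAddMonoidHom
    ⟨fun a b h => hinj (congrArg Subtype.val h), fun ⟨b, hb⟩ => by
      obtain ⟨c, rfl⟩ := (mem_pPower_iff p (hpowCB p hpow) b).mp hb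
      exact ⟨c, rfl⟩⟩

theorem tau_coe (c : C) : ((tau p hinj hpow c : ↥(pPowerSubalgebra p C B)) : B) = algebraMap C B c :=
  rfl

/-- `A[C^p] ≃+ A[B^p]`. -/
noncomputable def sigma : ↥(pPowerSubalgebra p A C) ≃+ ↥(pPowerSubalgebra p A B) :=
  AddEquiv.ofBijective
    ({ toFun := fun r => ⟨algebraMap C B r.1, by
          obtain ⟨a, ha⟩ := (mem_pPower_iff p (hpowAC p hinj hpow) r.1).mp r.2
          rw [← ha, ← IsScalarTower.algebraMap_apply]
          exact Subalgebra.algebraMap_mem _ a⟩
       map_zero' := Subtype.ext (map_zero _)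
       map_add' := fun a b => Subtype.ext (map_add _ _ _) } :
      ↥(pPowerSubalgebra p A C) →+ ↥(pPowerSubalgebra p A B))
    ⟨fun a b h => Subtype.ext (hinj (congrArg Subtype.val h)), fun ⟨b, hb⟩ => by
      obtain ⟨a, rfl⟩ := (mem_pPower_iff p hpow b).mp hb
      exact ⟨⟨algebraMap A C a, Subalgebra.algebraMap_mem _ a⟩,
        Subtype.ext (IsScalarTower.algebraMap_apply A C B a).symm⟩⟩

theorem sigma_coe (r : ↥(pPowerSubalgebra p A C)) :
    ((sigma p hinj hpow r : ↥(pPowerSubalgebra p A B)) : B) = algebraMap C B r.1 := rfl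

theorem sigma_symm_coe (r : ↥(pPowerSubalgebra p A B)) :
    algebraMap C B ((sigma p hinj hpow).symm r).1 = r.1 := by
  rw [← sigma_coe p hinj hpow, AddEquiv.apply_symm_apply]

variable {ι κ : Type u} (x : ι → C) (y : κ → B)

/-- The comparison map between coefficient vectors. -/
noncomputable def theta :
    ({g : ι ⊕ κ →₀ ℕ // ∀ i, g i < p} →₀ ↥(pPowerSubalgebra p A B)) →+
      ({f : κ →₀ ℕ // ∀ i, f i < p} →₀ ↥(pPowerSubalgebra p C B)) :=
  (Finsupp.mapRange.addEquiv (tau p hinj hpow)).toAddMonoidHom.comp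
    ((Finsupp.mapRange.addMonoidHom
      (Finsupp.linearCombination ↥(pPowerSubalgebra p A C)
        (fun e : {e : ι →₀ ℕ // ∀ i, e i < p} => pMonomial x e.1)).toAddMonoidHom).comp
    ((Finsupp.mapRange.addEquiv (Finsupp.mapRange.addEquiv (sigma p hinj hpow).symm)).toAddMonoidHom.comp
    ((Finsupp.curryAddEquiv).toAddMonoidHom.comp
      (Finsupp.domCongr (redEquiv ι κ p)).toAddMonoidHom)))

theorem theta_single (g : {g : ι ⊕ κ →₀ ℕ // ∀ i, g i < p}) (r : ↥(pPowerSubalgebra p A B)) :
    theta p hinj hpow (κ := κ) x (Finsupp.single g r) =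
      Finsupp.single (redEquiv ι κ p g).1
        (tau p hinj hpow (((sigma p hinj hpow).symm r) • pMonomial x (redEquiv ι κ p g).2.1)) := by
  simp [theta, Finsupp.domCongr_apply, Finsupp.equivMapDomain_single, Finsupp.curry_single,
    Finsupp.mapRange_single, Finsupp.linearCombination_single]

theorem lc_theta (l : {g : ι ⊕ κ →₀ ℕ // ∀ i, g i < p} →₀ ↥(pPowerSubalgebra p A B)) :
    Finsupp.linearCombination ↥(pPowerSubalgebra p C B)
        (fun f : {f : κ →₀ ℕ // ∀ i, f i < p} => pMonomial y f.1) (theta p hinj hpow (κ := κ) x l) =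
      Finsupp.linearCombination ↥(pPowerSubalgebra p A B)
        (fun g : {g : ι ⊕ κ →₀ ℕ // ∀ i, g i < p} =>
          pMonomial (Sum.elim (fun i => algebraMap C B (x i)) y) g.1) l := by
  have h : ((Finsupp.linearCombination ↥(pPowerSubalgebra p C B)
        (fun f : {f : κ →₀ ℕ // ∀ i, f i < p} => pMonomial y f.1)).toAddMonoidHom.comp
        (theta p hinj hpow (κ := κ) x)) =
      (Finsupp.linearCombination ↥(pPowerSubalgebra p A B)
        (fun g : {g : ι ⊕ κ →₀ ℕ // ∀ i, g i < p} =>
          pMonomial (Sum.elim (fun i => algebraMap C B (x i)) y) g.1)).toAddMonoidHom := by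
    apply Finsupp.addHom_ext
    intro g r
    have hg : g.1 = Finsupp.sumElim ((redEquiv ι κ p) g).2.1 ((redEquiv ι κ p) g).1.1 :=
      (congrArg Subtype.val ((redEquiv ι κ p).symm_apply_apply g)).symm
    simp only [AddMonoidHom.comp_apply, LinearMap.toAddMonoidHom_coe, theta_single,
      Finsupp.linearCombination_single]
    rw [hg, pMonomial_sumElim, Subalgebra.smul_def, Subalgebra.smul_def, tau_coe,
      Subalgebra.smul_def, smul_eq_mul, smul_eq_mul, smul_eq_mul, map_mul, sigma_symm_coe,
      map_pMonomial', mul_assoc]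
  exact DFunLike.congr_fun h l

theorem theta_surjective
    (hx : Function.Surjective (Finsupp.linearCombination ↥(pPowerSubalgebra p A C)
        (fun e : {e : ι →₀ ℕ // ∀ i, e i < p} => pMonomial x e.1))) :
    Function.Surjective (theta p hinj hpow (κ := κ) x) := by
  unfold theta
  simp only [AddMonoidHom.coe_comp]
  refine (AddEquiv.surjective _).comp (Function.Surjective.comp ?_
    ((AddEquiv.surjective _).comp ((AddEquiv.surjective _).comp (AddEquiv.surjective _))))
  exact Finsupp.mapRange_surjective _ (map_zero _) hx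

theorem theta_injective
    (hx : Function.Injective (Finsupp.linearCombination ↥(pPowerSubalgebra p A C)
        (fun e : {e : ι →₀ ℕ // ∀ i, e i < p} => pMonomial x e.1))) :
    Function.Injective (theta p hinj hpow (κ := κ) x) := by
  unfold theta
  simp only [AddMonoidHom.coe_comp]
  refine (AddEquiv.injective _).comp (Function.Injective.comp ?_
    ((AddEquiv.injective _).comp ((AddEquiv.injective _).comp (AddEquiv.injective _))))
  exact Finsupp.mapRange_injective _ (map_zero _) hx

include hinj hpow in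
theorem main :
    (EGA41.IsPGenerating p A x → EGA41.IsPGenerating p C y →
      EGA41.IsPGenerating p A (Sum.elim (fun i => algebraMap C B (x i)) y)) ∧
    (EGA41.IsPBasis p A x →
      (EGA41.IsPIndependent p C y ↔
        EGA41.IsPIndependent p A (Sum.elim (fun i => algebraMap C B (x i)) y))) := by
  constructor
  · intro hx hy
    unfold EGA41.IsPGenerating at hx hy ⊢
    rw [← Finsupp.range_linearCombination, LinearMap.range_eq_top] at hx hy ⊢
    intro b
    obtain ⟨l, hl⟩ := hy b
    obtain ⟨l', rfl⟩ := theta_surjective p hinj hpow (κ := κ) x hx l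
    exact ⟨l', by rw [← lc_theta p hinj hpow x y, hl]⟩
  · rintro ⟨hxi, hxg⟩
    unfold EGA41.IsPGenerating at hxg
    unfold EGA41.IsPIndependent at hxi ⊢
    rw [← Finsupp.range_linearCombination, LinearMap.range_eq_top] at hxg
    rw [linearIndependent_iff_injective_finsuppLinearCombination] at hxi ⊢
    rw [linearIndependent_iff_injective_finsuppLinearCombination]
    have hΘi := theta_injective p hinj hpow (κ := κ) x hxi
    have hΘs := theta_surjective p hinj hpow (κ := κ) x hxg
    constructor
    · intro hy l₁ l₂ h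
      apply hΘi
      apply hy
      rw [lc_theta p hinj hpow x y, lc_theta p hinj hpow x y, h]
    · intro hz l₁ l₂ h
      obtain ⟨m₁, rfl⟩ := hΘs l₁
      obtain ⟨m₂, rfl⟩ := hΘs l₂
      rw [lc_theta p hinj hpow x y, lc_theta p hinj hpow x y] at h
      rw [hz h]

end tower

end Groth.Agent.Lib.Helper6.PTower
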