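import Mathlib

/-!
# The p-adic dilatation algebra

`D = (A[X_1..X_n] / (p X_i - a_i)^{sat})^` (p-saturation, then p-adic completion) and its universal
property.
-/

namespace Groth.Agent.Lib.Helper6.PadicDil

open MvPolynomial

universe u

noncomputable section

theorem evalₐ_compat {R : Type*} [CommRing R] (I : Ideal R) {m k : ℕ} (hle : m ≤ k)
    (x : AdicCompletion I R) :
    Ideal.Quotient.factor (Ideal.pow_le_pow_right hle) (AdicCompletion.evalₐ I k x) =
      AdicCompletion.evalₐ I m x := by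
  refine AdicCompletion.induction_on I R (p := fun x =>
    Ideal.Quotient.factor (Ideal.pow_le_pow_right hle) (AdicCompletion.evalₐ I k x) =
      AdicCompletion.evalₐ I m x) x (fun f => ?_)
  show Ideal.Quotient.factor (Ideal.pow_le_pow_right hle)
    (AdicCompletion.evalₐ I k (AdicCompletion.mk I R f)) =
      AdicCompletion.evalₐ I m (AdicCompletion.mk I R f)
  rw [AdicCompletion.evalₐ_mk, AdicCompletion.evalₐ_mk, Ideal.Quotient.factor_mk]
  exact AdicCompletion.Ideal.mk_eq_mk I hle f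

variable (p : ℕ) {A : Type u} [CommRing A] {n : ℕ} (a : Fin n → A)

/-- the ideal generated by the `p X_i - a_i` -/
def J0 : Ideal (MvPolynomial (Fin n) A) :=
  Ideal.span (Set.range fun i => C (p : A) * X i - C (a i))

/-- the `p`-saturation of `J0` -/
def J : Ideal (MvPolynomial (Fin n) A) where
  carrier := {f | ∃ m : ℕ, (p : MvPolynomial (Fin n) A) ^ m * f ∈ J0 p a}
  add_mem' := by
    rintro f g ⟨m, hm⟩ ⟨k, hk⟩
    refine ⟨m + k, ?_⟩
    have e : (p : MvPolynomial (Fin n) A) ^ (m + k) * (f + g) =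
        (p : MvPolynomial (Fin n) A) ^ k * ((p : MvPolynomial (Fin n) A) ^ m * f) +
          (p : MvPolynomial (Fin n) A) ^ m * ((p : MvPolynomial (Fin n) A) ^ k * g) := by ring
    rw [e]
    exact Ideal.add_mem _ (Ideal.mul_mem_left _ _ hm) (Ideal.mul_mem_left _ _ hk)
  zero_mem' := ⟨0, by simp⟩
  smul_mem' := by
    rintro c f ⟨m, hm⟩
    refine ⟨m, ?_⟩
    have e : (p : MvPolynomial (Fin n) A) ^ m * (c • f) =
        c * ((p : MvPolynomial (Fin n) A) ^ m * f) := by rw [smul_eq_mul]; ring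
    rw [e]
    exact Ideal.mul_mem_left _ _ hm

theorem mem_J {f : MvPolynomial (Fin n) A} :
    f ∈ J p a ↔ ∃ m : ℕ, (p : MvPolynomial (Fin n) A) ^ m * f ∈ J0 p a := Iff.rfl

/-- the uncompleted dilatation algebra -/
abbrev D1 : Type u := MvPolynomial (Fin n) A ⧸ J p a

/-- the ideal `(p)` of `D1` -/
abbrev I1 : Ideal (D1 p a) := Ideal.span {(p : D1 p a)}

/-- the dilatation algebra -/
abbrev D : Type u := AdicCompletion (I1 p a) (D1 p a)

theorem D1_tf (y : D1 p a) (h : (p : D1 p a) * y = 0) : y = 0 := by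
  obtain ⟨f, rfl⟩ := Ideal.Quotient.mk_surjective y
  have h' : Ideal.Quotient.mk (J p a) ((p : MvPolynomial (Fin n) A) * f) = 0 := by
    rw [map_mul, map_natCast]; exact h
  rw [Ideal.Quotient.eq_zero_iff_mem] at h' ⊢
  obtain ⟨m, hm⟩ := (mem_J p a).mp h'
  exact (mem_J p a).mpr ⟨m + 1, by rw [pow_succ, mul_assoc]; exact hm⟩

theorem I1_pow (k : ℕ) : (I1 p a) ^ k = Ideal.span {(p : D1 p a) ^ k} :=
  Ideal.span_singleton_pow _ _

theorem div_mem (k : ℕ) (y : D1 p a) (h : (p : D1 p a) * y ∈ (I1 p a) ^ (k + 1)) :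
    y ∈ (I1 p a) ^ k := by
  rw [I1_pow, Ideal.mem_span_singleton'] at h
  obtain ⟨z, hz⟩ := h
  have h0 : (p : D1 p a) * (y - z * (p : D1 p a) ^ k) = 0 := by
    rw [mul_sub, ← hz]; ring
  have h1 := D1_tf p a _ h0
  rw [I1_pow, Ideal.mem_span_singleton']
  exact ⟨z, (sub_eq_zero.mp h1).symm⟩

theorem mk_pX (i : Fin n) :
    (p : D1 p a) * Ideal.Quotient.mk (J p a) (X i) = algebraMap A (D1 p a) (a i) := by
  have h : Ideal.Quotient.mk (J p a) (C (p : A) * X i) = Ideal.Quotient.mk (J p a) (C (a i)) := by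
    rw [Ideal.Quotient.eq]
    exact (mem_J p a).mpr ⟨0, by rw [pow_zero, one_mul]; exact Ideal.subset_span ⟨i, rfl⟩⟩
  rw [map_mul, map_natCast C, map_natCast] at h
  exact h

theorem I1_fg : (I1 p a).FG := ⟨{(p : D1 p a)}, by simp⟩

theorem D_complete : IsAdicComplete (Ideal.span {(p : D p a)}) (D p a) := by
  have h1 : IsAdicComplete (I1 p a) (D p a) := AdicCompletion.isAdicComplete (I1_fg p a)
  have h2 : (I1 p a).map (algebraMap (D1 p a) (D p a)) = Ideal.span {(p : D p a)} := by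
    rw [Ideal.map_span, Set.image_singleton, map_natCast]
  rw [← h2]
  exact (IsAdicComplete.map_algebraMap_iff (I1 p a) (D p a)).mpr h1

theorem D_tf : IsSMulRegular (D p a) (p : D p a) := by
  rw [isSMulRegular_iff_right_eq_zero_of_smul]
  intro z hz
  rw [smul_eq_mul] at hz
  apply AdicCompletion.ext_evalₐ
  intro k
  rw [map_zero]
  obtain ⟨y, hy⟩ := Ideal.Quotient.mk_surjective (AdicCompletion.evalₐ (I1 p a) (k + 1) z)
  have h1 : Ideal.Quotient.mk ((I1 p a) ^ (k + 1)) ((p : D1 p a) * y) = 0 := by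
    rw [map_mul, hy, map_natCast, ← map_natCast (AdicCompletion.evalₐ (I1 p a) (k + 1)), ← map_mul,
      hz, map_zero]
  rw [Ideal.Quotient.eq_zero_iff_mem] at h1
  have h2 := div_mem p a k y h1
  rw [← evalₐ_compat (I1 p a) (Nat.le_succ k) z, ← hy, Ideal.Quotient.factor_mk,
    Ideal.Quotient.eq_zero_iff_mem]
  exact h2

theorem a_mem (i : Fin n) : algebraMap A (D p a) (a i) ∈ Ideal.span {(p : D p a)} := by
  rw [Ideal.mem_span_singleton']
  refine ⟨algebraMap (D1 p a) (D p a) (Ideal.Quotient.mk _ (X i)), ?_⟩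
  rw [IsScalarTower.algebraMap_apply A (D1 p a) (D p a), ← mk_pX p a i, map_mul, map_natCast,
    mul_comm]

section UP

variable {p a}
variable {B : Type u} [CommRing B] [Algebra A B] (b : Fin n → B)
  (hb : ∀ i, b i * (p : B) = algebraMap A B (a i)) (hB : IsSMulRegular B (p : B))

include hb hB in
theorem aeval_J (f : MvPolynomial (Fin n) A) (hf : f ∈ J p a) : aeval b f = 0 := by
  obtain ⟨m, hm⟩ := (mem_J p a).mp hf
  have h1 : J0 p a ≤ RingHom.ker (aeval b : MvPolynomial (Fin n) A →ₐ[A] B).toRingHom := by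
    rw [J0, Ideal.span_le]
    rintro _ ⟨i, rfl⟩
    rw [SetLike.mem_coe, RingHom.mem_ker]
    show aeval b (C (p : A) * X i - C (a i)) = 0
    rw [map_sub, map_mul, aeval_X, aeval_C, aeval_C, map_natCast, ← hb i, mul_comm, sub_self]
  have h2 := h1 hm
  rw [RingHom.mem_ker] at h2
  have h3 : (p : B) ^ m • aeval b f = 0 := by
    rw [smul_eq_mul, ← h2]
    show _ = aeval b ((p : MvPolynomial (Fin n) A) ^ m * f)
    rw [map_mul, map_pow, map_natCast]
  exact (hB.pow m).right_eq_zero_of_smul h3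

/-- the map on the uncompleted algebra -/
def phi1 : D1 p a →ₐ[A] B := Ideal.Quotient.liftₐ (J p a) (aeval b) (aeval_J b hb hB)

theorem phi1_mk (f : MvPolynomial (Fin n) A) :
    phi1 b hb hB (Ideal.Quotient.mk (J p a) f) = aeval b f := rfl

theorem phi1_le (k : ℕ) :
    (I1 p a) ^ k ≤ Ideal.comap (phi1 b hb hB) ((Ideal.span {(p : B)}) ^ k) := by
  rw [I1_pow, Ideal.span_le]
  rintro _ rfl
  rw [SetLike.mem_coe, Ideal.mem_comap, map_pow, map_natCast]
  exact Ideal.pow_mem_pow (Ideal.mem_span_singleton_self _) k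

/-- the maps on the truncations -/
def gk (k : ℕ) : (D1 p a ⧸ (I1 p a) ^ k) →ₐ[A] (B ⧸ (Ideal.span {(p : B)}) ^ k) :=
  Ideal.quotientMapₐ _ (phi1 b hb hB) (phi1_le b hb hB k)

theorem gk_mk (k : ℕ) (y : D1 p a) :
    gk b hb hB k (Ideal.Quotient.mk _ y) = Ideal.Quotient.mk _ (phi1 b hb hB y) := by
  unfold gk
  rw [Ideal.quotient_map_mkₐ]
  rfl

/-- the compatible family -/
def fk (k : ℕ) : D p a →ₐ[A] (B ⧸ (Ideal.span {(p : B)}) ^ k) :=
  (gk b hb hB k).comp ((AdicCompletion.evalₐ (I1 p a) k).restrictScalars A)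

theorem fk_apply (k : ℕ) (x : D p a) :
    fk b hb hB k x = gk b hb hB k (AdicCompletion.evalₐ (I1 p a) k x) := rfl

theorem fk_compat {m k : ℕ} (hle : m ≤ k) :
    (Ideal.Quotient.factorₐ A (Ideal.pow_le_pow_right hle)).comp (fk b hb hB k) =
      fk b hb hB m := by
  apply AlgHom.ext
  intro x
  rw [AlgHom.comp_apply, fk_apply, fk_apply, ← evalₐ_compat (I1 p a) hle x]
  obtain ⟨y, hy⟩ := Ideal.Quotient.mk_surjective (AdicCompletion.evalₐ (I1 p a) k x)
  rw [← hy, gk_mk, Ideal.Quotient.factor_mk, gk_mk, Ideal.Quotient.factorₐ_apply_mk]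

/-- existence -/
def lift [IsAdicComplete (Ideal.span {(p : B)}) B] : D p a →ₐ[A] B :=
  IsAdicComplete.liftAlgHom (Ideal.span {(p : B)}) (fk b hb hB) (fun hle => fk_compat b hb hB hle)

end UP

section Uniq

variable {p a}
variable {B : Type u} [CommRing B] [Algebra A B] (hB : IsSMulRegular B (p : B))

include hB in
theorem agree_of (F G : D p a →ₐ[A] B) (y : D1 p a) :
    F (algebraMap (D1 p a) (D p a) y) = G (algebraMap (D1 p a) (D p a) y) := by
  obtain ⟨f, rfl⟩ := Ideal.Quotient.mk_surjective y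
  have key : ∀ H : D p a →ₐ[A] B, ∀ i,
      (p : B) * H (algebraMap (D1 p a) (D p a) (Ideal.Quotient.mk (J p a) (X i))) =
        algebraMap A B (a i) := by
    intro H i
    rw [← map_natCast H, ← map_mul, ← map_natCast (algebraMap (D1 p a) (D p a)), ← map_mul,
      mk_pX, ← IsScalarTower.algebraMap_apply A (D1 p a) (D p a), AlgHom.commutes]
  have hC : ∀ H : D p a →ₐ[A] B, ∀ r : A,
      H (algebraMap (D1 p a) (D p a) (Ideal.Quotient.mk (J p a) (C r))) = algebraMap A B r := by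
    intro H r
    have e : Ideal.Quotient.mk (J p a) (C r) = algebraMap A (D1 p a) r := rfl
    rw [e, ← IsScalarTower.algebraMap_apply A (D1 p a) (D p a), AlgHom.commutes]
  have hh : (F : D p a →+* B).comp ((algebraMap (D1 p a) (D p a)).comp (Ideal.Quotient.mk (J p a))) =
      (G : D p a →+* B).comp ((algebraMap (D1 p a) (D p a)).comp (Ideal.Quotient.mk (J p a))) := by
    apply MvPolynomial.ringHom_ext
    · intro r
      show F (algebraMap (D1 p a) (D p a) (Ideal.Quotient.mk (J p a) (C r))) =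
        G (algebraMap (D1 p a) (D p a) (Ideal.Quotient.mk (J p a) (C r)))
      rw [hC F r, hC G r]
    · intro i
      show F (algebraMap (D1 p a) (D p a) (Ideal.Quotient.mk (J p a) (X i))) =
        G (algebraMap (D1 p a) (D p a) (Ideal.Quotient.mk (J p a) (X i)))
      apply hB
      show (p : B) • _ = (p : B) • _
      rw [smul_eq_mul, smul_eq_mul, key F i, key G i]
  exact congrArg (fun φ : MvPolynomial (Fin n) A →+* B => φ f) hh

theorem decomp (x : D p a) (k : ℕ) :
    ∃ (y : D1 p a) (w : D p a), x = algebraMap (D1 p a) (D p a) y + (p : D p a) ^ k * w := by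
  obtain ⟨y, hy⟩ := Ideal.Quotient.mk_surjective (AdicCompletion.evalₐ (I1 p a) k x)
  have h0 : AdicCompletion.evalₐ (I1 p a) k (x - AdicCompletion.of (I1 p a) (D1 p a) y) = 0 := by
    rw [map_sub, AdicCompletion.evalₐ_of, hy, sub_self]
  have hle : (I1 p a) ^ k ≤ (I1 p a) ^ k • (⊤ : Ideal (D1 p a)) := le_of_eq (by simp)
  have h1 : AdicCompletion.eval (I1 p a) (D1 p a) k
      (x - AdicCompletion.of (I1 p a) (D1 p a) y) = 0 := by
    rw [← AdicCompletion.factor_evalₐ_eq_eval (I1 p a) _ hle, h0, map_zero]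
  have h2 : x - AdicCompletion.of (I1 p a) (D1 p a) y ∈
      ((I1 p a) ^ k • ⊤ : Submodule (D1 p a) (D p a)) := by
    rw [AdicCompletion.pow_smul_top_eq_ker_eval (I1_fg p a), LinearMap.mem_ker]
    exact h1
  rw [I1_pow, Submodule.ideal_span_singleton_smul, Submodule.mem_smul_pointwise_iff_exists] at h2
  obtain ⟨w, -, hw⟩ := h2
  refine ⟨y, w, ?_⟩
  have e : algebraMap (D1 p a) (D p a) y = AdicCompletion.of (I1 p a) (D1 p a) y := rfl
  rw [e, ← map_natCast (algebraMap (D1 p a) (D p a)), ← map_pow, ← Algebra.smul_def, hw]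
  ring

include hB in
theorem uniq [IsAdicComplete (Ideal.span {(p : B)}) B] (F G : D p a →ₐ[A] B) : F = G := by
  apply DFunLike.coe_injective
  apply IsHausdorff.funext' (Ideal.span {(p : B)})
  intro k x
  obtain ⟨y, w, rfl⟩ := decomp x k
  rw [Ideal.Quotient.eq, map_add, map_add, agree_of hB F G y, map_mul, map_mul, map_pow, map_pow,
    map_natCast, map_natCast]
  have e : G (algebraMap (D1 p a) (D p a) y) + (p : B) ^ k * F w -
      (G (algebraMap (D1 p a) (D p a) y) + (p : B) ^ k * G w) = (p : B) ^ k * (F w - G w) := by ring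
  rw [e]
  exact Ideal.mul_mem_right _ _ (Ideal.pow_mem_pow (Ideal.mem_span_singleton_self _) k)

end Uniq

theorem main (p : ℕ) (A : Type u) [CommRing A] {n : ℕ} (a : Fin n → A) :
    ∃ (D : Type u) (_ : CommRing D) (_ : Algebra A D),
      IsAdicComplete (Ideal.span {(p : D)}) D ∧ IsSMulRegular D (p : D) ∧
      (∀ i, algebraMap A D (a i) ∈ Ideal.span {(p : D)}) ∧
      ∀ (B : Type u) [CommRing B] [Algebra A B] [IsAdicComplete (Ideal.span {(p : B)}) B],
        IsSMulRegular B (p : B) → (∀ i, algebraMap A B (a i) ∈ Ideal.span {(p : B)}) →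
          Nonempty (D →ₐ[A] B) ∧ Subsingleton (D →ₐ[A] B) ∧
            (Function.Surjective (algebraMap A B) → ∀ f : D →ₐ[A] B, Function.Surjective f) := by
  refine ⟨D p a, inferInstance, inferInstance, D_complete p a, D_tf p a, a_mem p a, ?_⟩
  intro B _ _ _ hB hb
  choose b hb' using fun i => Ideal.mem_span_singleton'.mp (hb i)
  refine ⟨⟨lift b hb' hB⟩, ⟨fun F G => uniq hB F G⟩, fun hs f x => ?_⟩
  obtain ⟨y, rfl⟩ := hs x
  exact ⟨algebraMap A _ y, f.commutes y⟩

end

end Groth.Agent.Lib.Helper6.PadicDil
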