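import Mathlib

set_option backward.isDefEq.respectTransparency false
set_option autoImplicit false

/-!
# Intersections of parabolic subsets of roots (helper6)

Simple reflections of a base of a root pairing over `ℤ`, and the fact that a closed set of roots
`Q` with `Q ∪ -Q` everything contains a system of positive roots.
-/

namespace Groth.Agent.Lib.Helper6.ParabInter

open Set

variable {ι M N : Type*} [AddCommGroup M] [AddCommGroup N] (P : RootPairing ι ℤ M N)

/-- positive roots for a base -/
def pos (b : P.Base) : Set ι :=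
  {a | P.root a ∈ AddSubmonoid.closure (P.root '' (b.support : Set ι))}

lemma root_neg (a : ι) : P.root (P.reflectionPerm a a) = - P.root a := by
  rw [P.root_reflectionPerm, P.reflection_apply_self]

lemma exists_nat_coeff (b : P.Base) {x : M}
    (hx : x ∈ AddSubmonoid.closure (P.root '' (b.support : Set ι))) :
    ∃ f : ι → ℕ, ∑ j ∈ b.support, f j • P.root j = x := by
  have hx' : x ∈ Submodule.span ℕ (P.root '' (b.support : Set ι)) := by
    rw [← Submodule.mem_toAddSubmonoid, Submodule.span_nat_eq_addSubmonoidClosure]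
    exact hx
  exact (Submodule.mem_span_image_finset_iff_exists_fun' ℕ).mp hx'

lemma pos_reflect [Finite ι] (b : P.Base) {i k : ι} (hi : i ∈ b.support) (hk : k ∈ pos P b)
    (hki : k ≠ i) : P.reflectionPerm i k ∈ pos P b := by
  classical
  have hM : Module.IsReflexive ℤ M := .of_isPerfPair P.toLinearMap
  have hN : Module.IsReflexive ℤ N := .of_isPerfPair P.flip.toLinearMap
  have hM' : IsAddTorsionFree M := .of_isTorsionFree ℤ M
  have hN' : IsAddTorsionFree N := .of_isTorsionFree ℤ N
  obtain ⟨f, hf⟩ := exists_nat_coeff P b hk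
  have hex : ∃ j ∈ b.support, j ≠ i ∧ f j ≠ 0 := by
    by_contra hcon
    push Not at hcon
    have h1 : P.root k = f i • P.root i := by
      rw [← hf]
      exact Finset.sum_eq_single_of_mem i hi
        (fun j hj hji => by rw [hcon j hj hji, zero_smul])
    have h2 : ((f i : ℕ) : ℤ) • P.root i ∈ Set.range P.root :=
      ⟨k, by rw [h1, natCast_zsmul]⟩
    rcases b.eq_one_or_neg_one_of_mem_support_of_smul_mem i hi _ h2 with h3 | h3
    · have h4 : f i = 1 := by exact_mod_cast h3
      rw [h4, one_smul] at h1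
      exact hki (P.root.injective h1)
    · have h4 : (0 : ℤ) ≤ (f i : ℤ) := Int.natCast_nonneg _
      omega
  obtain ⟨j0, hj0, hj0i, hfj0⟩ := hex
  obtain ⟨c, hc⟩ : ∃ c : ℤ, c = P.pairing k i := ⟨_, rfl⟩
  obtain ⟨g, hgdef⟩ : ∃ g : ι → ℤ, g = fun j =>
      if j ∈ b.support then ((f j : ℤ) - (if j = i then c else 0)) else 0 := ⟨_, rfl⟩
  have hg : ∑ j ∈ b.support, g j • P.root j = P.root (P.reflectionPerm i k) := by
    rw [P.root_reflectionPerm, P.reflection_apply_root, ← hc]
    have hterm : ∀ j ∈ b.support,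
        g j • P.root j = f j • P.root j - (if j = i then c • P.root i else 0) := by
      intro j hj
      simp only [hgdef, if_pos hj]
      by_cases hji : j = i
      · rw [if_pos hji, if_pos hji, sub_smul, natCast_zsmul, hji]
      · rw [if_neg hji, if_neg hji, sub_zero, sub_zero, natCast_zsmul]
    rw [Finset.sum_congr rfl hterm, Finset.sum_sub_distrib, hf]
    simp [hi]
  have hgsupp : Function.support g ⊆ b.support := by
    intro j hj
    by_contra hjs
    have hjs' : j ∉ b.support := fun h => hjs (Finset.mem_coe.mpr h)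
    exact hj (by simp only [hgdef, if_neg hjs'])
  have hpn := b.pos_or_neg_of_sum_smul_root_mem g ⟨P.reflectionPerm i k, hg.symm⟩ hgsupp
  have hgj0 : 0 < g j0 := by
    simp only [hgdef, if_pos hj0, if_neg hj0i, sub_zero]
    exact_mod_cast Nat.pos_of_ne_zero hfj0
  have hgpos : ∀ j, 0 ≤ g j := by
    rcases hpn with h | h
    · exact fun j => h.le j
    · exact absurd (h.le j0) (not_le.mpr hgj0)
  show P.root (P.reflectionPerm i k) ∈ AddSubmonoid.closure _
  rw [← hg]
  refine AddSubmonoid.sum_mem _ fun j hj => ?_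
  have hconv : g j • P.root j = (g j).toNat • P.root j := by
    rw [← natCast_zsmul, Int.toNat_of_nonneg (hgpos j)]
  rw [hconv]
  exact AddSubmonoid.nsmul_mem _
    (AddSubmonoid.subset_closure (Set.mem_image_of_mem _ (Finset.mem_coe.mpr hj))) _

lemma reflection_mem_closure (b : P.Base) (i : ι) {x : M}
    (hx : x ∈ AddSubmonoid.closure (P.root '' (b.support : Set ι))) :
    P.reflection i x ∈ AddSubmonoid.closure
      (P.root '' ((b.support.map (P.reflectionPerm i).toEmbedding : Finset ι) : Set ι)) := by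
  refine AddSubmonoid.closure_induction
    (motive := fun x _ => P.reflection i x ∈ AddSubmonoid.closure
      (P.root '' ((b.support.map (P.reflectionPerm i).toEmbedding : Finset ι) : Set ι)))
    ?_ ?_ ?_ hx
  · rintro - ⟨j, hj, rfl⟩
    refine AddSubmonoid.subset_closure ⟨P.reflectionPerm i j, ?_, P.root_reflectionPerm i j⟩
    rw [Finset.coe_map]
    exact Set.mem_image_of_mem _ hj
  · rw [map_zero]; exact zero_mem _
  · intro x y _ _ hx hy
    rw [map_add]; exact add_mem hx hy

lemma coreflection_mem_closure (b : P.Base) (i : ι) {x : N}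
    (hx : x ∈ AddSubmonoid.closure (P.coroot '' (b.support : Set ι))) :
    P.coreflection i x ∈ AddSubmonoid.closure
      (P.coroot '' ((b.support.map (P.reflectionPerm i).toEmbedding : Finset ι) : Set ι)) := by
  refine AddSubmonoid.closure_induction
    (motive := fun x _ => P.coreflection i x ∈ AddSubmonoid.closure
      (P.coroot '' ((b.support.map (P.reflectionPerm i).toEmbedding : Finset ι) : Set ι)))
    ?_ ?_ ?_ hx
  · rintro - ⟨j, hj, rfl⟩
    refine AddSubmonoid.subset_closure ⟨P.reflectionPerm i j, ?_, P.coroot_reflectionPerm i j⟩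
    rw [Finset.coe_map]
    exact Set.mem_image_of_mem _ hj
  · rw [map_zero]; exact zero_mem _
  · intro x y _ _ hx hy
    rw [map_add]; exact add_mem hx hy

/-- The base obtained by applying the reflection in the root `i`. -/
noncomputable def reflBase (b : P.Base) (i : ι) : P.Base where
  support := b.support.map (P.reflectionPerm i).toEmbedding
  linearIndepOn_root := by
    rw [Finset.coe_map]
    refine LinearIndepOn.image_of_comp _ _ ?_
    have h := b.linearIndepOn_root.map_injOn (P.reflection i).toLinearMap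
      ((P.reflection i).injective.injOn)
    have heq : (P.root ∘ ((P.reflectionPerm i).toEmbedding : ι → ι) : ι → M)
        = ((P.reflection i).toLinearMap : M → M) ∘ (P.root : ι → M) := by
      funext j
      simp
    rw [heq]; exact h
  linearIndepOn_coroot := by
    rw [Finset.coe_map]
    refine LinearIndepOn.image_of_comp _ _ ?_
    have h := b.linearIndepOn_coroot.map_injOn (P.coreflection i).toLinearMap
      ((P.coreflection i).injective.injOn)
    have heq : (P.coroot ∘ ((P.reflectionPerm i).toEmbedding : ι → ι) : ι → N)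
        = ((P.coreflection i).toLinearMap : N → N) ∘ (P.coroot : ι → N) := by
      funext j
      simp
    rw [heq]; exact h
  root_mem_or_neg_mem k := by
    have hk : P.root k = P.reflection i (P.root (P.reflectionPerm i k)) := by
      rw [← P.root_reflectionPerm, P.reflectionPerm_self]
    rcases b.root_mem_or_neg_mem (P.reflectionPerm i k) with h | h
    · left; rw [hk]; exact reflection_mem_closure P b i h
    · right; rw [hk, ← map_neg]; exact reflection_mem_closure P b i h
  coroot_mem_or_neg_mem k := by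
    have hk : P.coroot k = P.coreflection i (P.coroot (P.reflectionPerm i k)) := by
      rw [← P.coroot_reflectionPerm, P.reflectionPerm_self]
    rcases b.coroot_mem_or_neg_mem (P.reflectionPerm i k) with h | h
    · left; rw [hk]; exact coreflection_mem_closure P b i h
    · right; rw [hk, ← map_neg]; exact coreflection_mem_closure P b i h

lemma mem_pos_reflBase_self (b : P.Base) {i : ι} (hi : i ∈ b.support) :
    P.reflectionPerm i i ∈ pos P (reflBase P b i) := by
  refine AddSubmonoid.subset_closure (Set.mem_image_of_mem _ ?_)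
  show P.reflectionPerm i i ∈
    ((b.support.map (P.reflectionPerm i).toEmbedding : Finset ι) : Set ι)
  rw [Finset.coe_map]
  exact Set.mem_image_of_mem _ hi

lemma mem_pos_reflBase [Finite ι] (b : P.Base) {i k : ι} (hi : i ∈ b.support)
    (hk : k ∈ pos P b) (hki : k ≠ i) : k ∈ pos P (reflBase P b i) := by
  have h := reflection_mem_closure P b i (pos_reflect P b hi hk hki)
  rw [← P.root_reflectionPerm, P.reflectionPerm_self] at h
  exact h

lemma neg_not_pos (b : P.Base) {i : ι} (hi : i ∈ b.support) :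
    P.reflectionPerm i i ∉ pos P b := by
  classical
  intro h
  have h2 : P.root (P.reflectionPerm i i) ∈
      AddSubmonoid.closure (P.root '' (b.support : Set ι)) := h
  rw [root_neg] at h2
  obtain ⟨f, hf⟩ := exists_nat_coeff P b h2
  have hsum : ∑ j ∈ b.support, ((f j : ℤ) + (if j = i then 1 else 0)) • P.root j = 0 := by
    simp only [add_smul, Finset.sum_add_distrib, natCast_zsmul, hf]
    simp [hi]
  have h3 : ((f i : ℤ) + (if i = i then 1 else 0)) = 0 :=
    linearIndepOn_iff'.mp b.linearIndepOn_root b.support _ (subset_refl _) hsum i hi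
  rw [if_pos rfl] at h3
  omega

lemma isPos_of_mem_pos [Finite ι] (b : P.Base) {k : ι} (hk : k ∈ pos P b) : b.IsPos k := by
  obtain ⟨f, hf⟩ := exists_nat_coeff P b hk
  rw [RootPairing.Base.isPos_iff']
  have h : P.root k = ∑ j ∈ b.support, ((f j : ℤ)) • P.root j := by
    rw [← hf]; exact Finset.sum_congr rfl fun j _ => (natCast_zsmul _ _).symm
  rw [RootPairing.Base.height_eq_sum h]
  exact Finset.sum_nonneg fun j _ => Int.natCast_nonneg _

instance finite_base [Finite ι] : Finite P.Base := by
  classical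
  have := Fintype.ofFinite ι
  refine Finite.of_injective (fun b : P.Base => b.support) ?_
  intro b b' h
  cases b with
  | mk s a1 a2 a3 a4 =>
    cases b' with
    | mk s' c1 c2 c3 c4 =>
      obtain rfl : s = s' := h
      rfl

theorem main [Finite ι] (R₁ R₂ : Set ι)
    (h₁ : ∀ a b c : ι, a ∈ R₁ → b ∈ R₁ → P.root a + P.root b = P.root c → c ∈ R₁)
    (h₂ : ∀ a b c : ι, a ∈ R₂ → b ∈ R₂ → P.root a + P.root b = P.root c → c ∈ R₂)
    (hb₁ : ∃ b : P.Base, pos P b ⊆ R₁) (hb₂ : ∃ b : P.Base, pos P b ⊆ R₂)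
    (hunion : R₁ ∪ R₂ = Set.univ) :
    ∃ b : P.Base, pos P b ⊆ {a | a ∈ R₁ ∧ ∃ c ∈ R₂, P.root a = -P.root c} := by
  classical
  obtain ⟨Q, hQdef⟩ : ∃ Q : Set ι, Q = {a | a ∈ R₁ ∧ ∃ c ∈ R₂, P.root a = -P.root c} :=
    ⟨_, rfl⟩
  have hQmem : ∀ a, a ∈ Q ↔ (a ∈ R₁ ∧ ∃ c ∈ R₂, P.root a = -P.root c) := by
    intro a; rw [hQdef]; exact Iff.rfl
  have hQ1 : ∀ a, a ∈ R₁ → P.reflectionPerm a a ∈ R₂ → a ∈ Q :=
    fun a h1 h2 => (hQmem a).2 ⟨h1, _, h2, by rw [root_neg, neg_neg]⟩
  have hQ2 : ∀ a, P.reflectionPerm a a ∈ R₁ → a ∈ R₂ → P.reflectionPerm a a ∈ Q :=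
    fun a h1 h2 => (hQmem _).2 ⟨h1, a, h2, root_neg P a⟩
  have hu : ∀ a, a ∈ R₁ ∨ a ∈ R₂ := by
    intro a
    have h := Set.mem_univ a
    rw [← hunion] at h
    exact h
  have hpar : ∀ (R : Set ι), (∃ b : P.Base, pos P b ⊆ R) →
      ∀ a, a ∈ R ∨ P.reflectionPerm a a ∈ R := by
    rintro R ⟨b, hb⟩ a
    rcases b.root_mem_or_neg_mem a with h | h
    · exact Or.inl (hb (show a ∈ pos P b from h))
    · refine Or.inr (hb ?_)
      show P.root (P.reflectionPerm a a) ∈ AddSubmonoid.closure (P.root '' (b.support : Set ι))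
      rw [root_neg]; exact h
  have hQor : ∀ a, a ∈ Q ∨ P.reflectionPerm a a ∈ Q := by
    intro a
    have p1 := hu a
    have p2 := hu (P.reflectionPerm a a)
    have p3 := hpar R₁ hb₁ a
    have p4 := hpar R₂ hb₂ a
    by_cases c1 : a ∈ R₁
    · by_cases c2 : P.reflectionPerm a a ∈ R₂
      · exact Or.inl (hQ1 a c1 c2)
      · have c3 : a ∈ R₂ := p4.resolve_right c2
        have c4 : P.reflectionPerm a a ∈ R₁ := p2.resolve_right c2
        exact Or.inr (hQ2 a c4 c3)
    · have c3 : a ∈ R₂ := p1.resolve_left c1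
      have c4 : P.reflectionPerm a a ∈ R₁ := p3.resolve_left c1
      exact Or.inr (hQ2 a c4 c3)
  have hQc : ∀ a b c : ι, a ∈ Q → b ∈ Q → P.root a + P.root b = P.root c → c ∈ Q := by
    intro a b c ha hb habc
    obtain ⟨ha1, ca, hca, hca'⟩ := (hQmem a).1 ha
    obtain ⟨hb1, cb, hcb, hcb'⟩ := (hQmem b).1 hb
    refine hQ1 c (h₁ a b c ha1 hb1 habc) (h₂ ca cb _ hca hcb ?_)
    rw [root_neg, ← habc, hca', hcb']; abel
  have hne : Nonempty P.Base := hb₁.elim fun b _ => ⟨b⟩
  obtain ⟨b, hbmax⟩ := Finite.exists_max (fun b : P.Base => (Q ∩ pos P b).ncard)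
  have hsimple : ∀ i ∈ b.support, i ∈ Q := by
    intro i hi
    by_contra hiQ
    have hnegQ : P.reflectionPerm i i ∈ Q := (hQor i).resolve_left hiQ
    have hsub : Q ∩ pos P b ⊆ Q ∩ pos P (reflBase P b i) := by
      rintro x ⟨hxQ, hxp⟩
      have hxi : x ≠ i := fun h => hiQ (h ▸ hxQ)
      exact ⟨hxQ, mem_pos_reflBase P b hi hxp hxi⟩
    have hss : Q ∩ pos P b ⊂ Q ∩ pos P (reflBase P b i) :=
      (Set.ssubset_iff_of_subset hsub).mpr
        ⟨P.reflectionPerm i i, ⟨hnegQ, mem_pos_reflBase_self P b hi⟩,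
          fun h => neg_not_pos P b hi h.2⟩
    have hlt := Set.ncard_lt_ncard hss
    exact absurd (hbmax (reflBase P b i)) (not_le.mpr hlt)
  have hcr : P.IsCrystallographic := ⟨fun i j => ⟨P.pairing i j, by simp⟩⟩
  have hall : ∀ k ∈ pos P b, k ∈ Q := by
    intro k hk
    have hpos := isPos_of_mem_pos P b hk
    exact hpos.induction_on_add (p := fun k => k ∈ Q) hsimple
      (fun i j k hk hi hj => hQc i j k hi (hsimple j hj) hk.symm)
  exact ⟨b, fun k hk => (hQmem k).1 (hall k hk)⟩

end Groth.Agent.Lib.Helper6.ParabInter
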