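import Mathlib

/-!
# Determinants of skew-symmetric matrices are squares (of polynomials in the entries)

Existence of the Pfaffian via the classical argument: over a field of characteristic `≠ 2` the
determinant of a skew-symmetric matrix is a square (Schur complement induction); over an integrally
closed domain the square root stays in the ring; specialise a generic matrix.
-/

namespace Groth.Agent.Lib.Helper6.PfaffSq

open Matrix

universe u v

section Field

variable {K : Type v} [Field K]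

lemma skew_fin_two (h2 : (2 : K) ≠ 0) (M : Matrix (Fin 2) (Fin 2) K) (hM : Mᵀ = -M) :
    M.det = (M 0 1) ^ 2 ∧ (M ≠ 0 → M 0 1 ≠ 0) := by
  have hd : ∀ i, M i i = 0 := by
    intro i
    have := congrFun (congrFun hM i) i
    simp only [Matrix.transpose_apply, Matrix.neg_apply] at this
    have h' : (2 : K) * M i i = 0 := by linear_combination this
    exact (mul_eq_zero.mp h').resolve_left h2
  have h10 : M 1 0 = - M 0 1 := by
    have := congrFun (congrFun hM 0) 1
    simpa only [Matrix.transpose_apply, Matrix.neg_apply] using this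
  constructor
  · rw [Matrix.det_fin_two, hd 0, hd 1, h10]; ring
  · intro hne h01
    apply hne
    ext i j
    fin_cases i <;> fin_cases j
    · exact hd 0
    · exact h01
    · show M 1 0 = 0
      rw [h10, h01, neg_zero]
    · exact hd 1

lemma skew_card_two {n : Type u} [Fintype n] [DecidableEq n] (h2 : (2 : K) ≠ 0)
    (hn : Fintype.card n = 2) (M : Matrix n n K) (hM : Mᵀ = -M) :
    ∃ r : K, M.det = r ^ 2 ∧ (M ≠ 0 → r ≠ 0) := by
  let e : n ≃ Fin 2 := Fintype.equivFinOfCardEq hn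
  let M' : Matrix (Fin 2) (Fin 2) K := Matrix.reindex e e M
  have hM'app : ∀ a b, M' a b = M (e.symm a) (e.symm b) := fun a b => rfl
  have hM' : M'ᵀ = -M' := by
    ext i j
    have := congrFun (congrFun hM (e.symm i)) (e.symm j)
    simp only [Matrix.transpose_apply, Matrix.neg_apply] at this
    show M' j i = - M' i j
    rw [hM'app, hM'app]; exact this
  obtain ⟨h1, h2'⟩ := skew_fin_two h2 M' hM'
  refine ⟨M' 0 1, ?_, ?_⟩
  · rw [← h1]; exact (Matrix.det_reindex_self e M).symm
  · intro hne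
    apply h2'
    intro h0
    apply hne
    ext i j
    have := congrFun (congrFun h0 (e i)) (e j)
    rw [hM'app] at this
    simpa using this

lemma schur_skew {n : Type u} [Fintype n] [DecidableEq n] (h2 : (2 : K) ≠ 0)
    (p : n → Prop) [DecidablePred p] (hp2 : Fintype.card {l // p l} = 2)
    (M : Matrix n n K) (hM : Mᵀ = -M)
    (hne : ∃ a b : {l // p l}, M a.1 b.1 ≠ 0) :
    ∃ (r : K) (S : Matrix {l // ¬ p l} {l // ¬ p l} K), Sᵀ = -S ∧ M.det = r ^ 2 * S.det := by
  let e : n ≃ {l // p l} ⊕ {l // ¬ p l} := (Equiv.sumCompl p).symm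
  let M' : Matrix ({l // p l} ⊕ {l // ¬ p l}) ({l // p l} ⊕ {l // ¬ p l}) K :=
    Matrix.reindex e e M
  have hM'app : ∀ a b, M' a b = M (e.symm a) (e.symm b) := fun a b => rfl
  have hM' : ∀ a b, M' b a = - M' a b := by
    intro a b
    have := congrFun (congrFun hM (e.symm a)) (e.symm b)
    simp only [Matrix.transpose_apply, Matrix.neg_apply] at this
    rw [hM'app, hM'app]; exact this
  have hdet : M.det = M'.det := (Matrix.det_reindex_self e M).symm
  let A := M'.toBlocks₁₁
  let B := M'.toBlocks₁₂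
  let C := M'.toBlocks₂₁
  let D := M'.toBlocks₂₂
  have hblocks : M' = Matrix.fromBlocks A B C D := (Matrix.fromBlocks_toBlocks M').symm
  have hA : Aᵀ = -A := by
    ext a b
    show M' (Sum.inl b) (Sum.inl a) = - M' (Sum.inl a) (Sum.inl b)
    exact hM' _ _
  have hD : Dᵀ = -D := by
    ext a b
    show M' (Sum.inr b) (Sum.inr a) = - M' (Sum.inr a) (Sum.inr b)
    exact hM' _ _
  have hBC : Bᵀ = -C := by
    ext a b
    show M' (Sum.inl b) (Sum.inr a) = - M' (Sum.inr a) (Sum.inl b)
    exact hM' _ _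
  have hCB : Cᵀ = -B := by
    ext a b
    show M' (Sum.inr b) (Sum.inl a) = - M' (Sum.inl a) (Sum.inr b)
    exact hM' _ _
  have hA0 : A ≠ 0 := by
    obtain ⟨a, b, hab⟩ := hne
    intro hA0
    apply hab
    have h1 : A a b = M a.1 b.1 := rfl
    rw [← h1, hA0]; rfl
  obtain ⟨rA, hrA, hrA0⟩ := skew_card_two h2 hp2 A hA
  have hrA0' : rA ≠ 0 := hrA0 hA0
  have hAdet : IsUnit A.det := by
    rw [hrA]; exact (pow_ne_zero 2 hrA0').isUnit
  haveI : Invertible A := Matrix.invertibleOfIsUnitDet A hAdet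
  have hdet' : M'.det = A.det * (D - C * ⅟A * B).det := by
    rw [hblocks]; exact Matrix.det_fromBlocks₁₁ A B C D
  have hAinv : (⅟A)ᵀ = -⅟A := by
    have h1 : (⅟A)ᵀ * Aᵀ = 1 := by
      rw [← Matrix.transpose_mul, mul_invOf_self, Matrix.transpose_one]
    have h2' : (-(⅟A)ᵀ) * A = 1 := by
      rw [hA, Matrix.mul_neg] at h1
      rw [Matrix.neg_mul]; exact h1
    have h3 : -(⅟A)ᵀ = ⅟A := by
      calc -(⅟A)ᵀ = -(⅟A)ᵀ * (A * ⅟A) := by rw [mul_invOf_self, mul_one]
        _ = (-(⅟A)ᵀ * A) * ⅟A := by rw [Matrix.mul_assoc]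
        _ = ⅟A := by rw [h2', one_mul]
    exact neg_eq_iff_eq_neg.mp h3
  have hS : (D - C * ⅟A * B)ᵀ = -(D - C * ⅟A * B) := by
    rw [Matrix.transpose_sub, Matrix.transpose_mul, Matrix.transpose_mul, hD, hBC, hCB, hAinv]
    simp only [Matrix.neg_mul, Matrix.mul_neg, neg_neg, Matrix.mul_assoc]
    try abel
  exact ⟨rA, D - C * ⅟A * B, hS, by rw [hdet, hdet', hrA]⟩

theorem skew_det_sq (h2 : (2 : K) ≠ 0) :
    ∀ (N : ℕ) (n : Type u) [Fintype n] [DecidableEq n],
      Fintype.card n = N → ∀ M : Matrix n n K, Mᵀ = -M → ∃ r : K, M.det = r ^ 2 := by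
  intro N
  induction N using Nat.strong_induction_on with
  | _ N ih =>
    intro n _ _ hcard M hM
    by_cases h0 : M = 0
    · subst h0
      by_cases hne : Nonempty n
      · exact ⟨0, by rw [Matrix.det_zero]; ring⟩
      · haveI : IsEmpty n := not_nonempty_iff.mp hne
        exact ⟨1, by rw [Matrix.det_isEmpty]; ring⟩
    · have hex : ∃ i j, M i j ≠ 0 := by
        by_contra hcon
        push Not at hcon
        exact h0 (Matrix.ext hcon)
      obtain ⟨i, j, hij⟩ := hex
      have hdiag : ∀ l, M l l = 0 := by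
        intro l
        have := congrFun (congrFun hM l) l
        simp only [Matrix.transpose_apply, Matrix.neg_apply] at this
        have h' : (2 : K) * M l l = 0 := by linear_combination this
        exact (mul_eq_zero.mp h').resolve_left h2
      have hne : i ≠ j := by
        rintro rfl
        exact hij (hdiag i)
      have hcard1 : Fintype.card {l // l = i ∨ l = j} = 2 := by
        rw [Fintype.card_subtype]
        have : (Finset.univ.filter (fun l => l = i ∨ l = j)) = {i, j} := by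
          ext l; simp
        rw [this, Finset.card_pair hne]
      obtain ⟨r, S, hS, hdet⟩ := schur_skew h2 (fun l => l = i ∨ l = j) hcard1 M hM
        ⟨⟨i, Or.inl rfl⟩, ⟨j, Or.inr rfl⟩, hij⟩
      have hcard2 : Fintype.card {l // ¬ (l = i ∨ l = j)} < N := by
        rw [Fintype.card_subtype_compl, hcard1, hcard]
        have h2N : 2 ≤ N := by
          rw [← hcard, ← hcard1]; exact Fintype.card_subtype_le _
        omega
      obtain ⟨rS, hrS⟩ := ih _ hcard2 {l // ¬ (l = i ∨ l = j)} rfl S hS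
      refine ⟨r * rS, ?_⟩
      rw [hdet]
      calc r ^ 2 * S.det = r ^ 2 * rS ^ 2 := congrArg (fun t => r ^ 2 * t) hrS
        _ = (r * rS) ^ 2 := by ring

end Field

theorem skew_det_sq_of_isIntegrallyClosed {R : Type v} [CommRing R] [IsDomain R]
    [IsIntegrallyClosed R] (h2 : (2 : R) ≠ 0) {n : Type u} [Fintype n] [DecidableEq n]
    (M : Matrix n n R) (hM : Mᵀ = -M) :
    ∃ r : R, M.det = r ^ 2 := by
  have h2K : (2 : FractionRing R) ≠ 0 := by
    have h : algebraMap R (FractionRing R) 2 ≠ 0 := fun h =>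
      h2 ((map_eq_zero_iff _ (IsFractionRing.injective R (FractionRing R))).mp h)
    rwa [map_ofNat] at h
  let MK : Matrix n n (FractionRing R) := M.map (algebraMap R (FractionRing R))
  have hMK : MKᵀ = -MK := by
    ext i j
    have := congrFun (congrFun hM i) j
    simp only [Matrix.transpose_apply, Matrix.neg_apply] at this
    show algebraMap R (FractionRing R) (M j i) = - algebraMap R (FractionRing R) (M i j)
    rw [this, map_neg]
  obtain ⟨r, hr⟩ := skew_det_sq h2K (Fintype.card n) n rfl MK hMK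
  have hdet : MK.det = algebraMap R (FractionRing R) M.det := by
    rw [RingHom.map_det]; rfl
  rw [hdet] at hr
  have hint : IsIntegral R r := by
    refine ⟨Polynomial.X ^ 2 - Polynomial.C M.det,
      Polynomial.monic_X_pow_sub_C _ (by norm_num), ?_⟩
    simp [hr]
  obtain ⟨s, hs⟩ := IsIntegrallyClosed.isIntegral_iff.mp hint
  refine ⟨s, IsFractionRing.injective R (FractionRing R) ?_⟩
  rw [hr, map_pow, hs]

lemma two_ne_zero_mv {σ : Type u} {D : Type v} [CommRing D] (h : (2 : D) ≠ 0) :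
    (2 : MvPolynomial σ D) ≠ 0 := by
  intro h'
  apply h
  have := congrArg (MvPolynomial.constantCoeff (σ := σ) (R := D)) h'
  rw [map_ofNat, map_zero] at this
  exact this

theorem generic_sq {D : Type v} [CommRing D] [IsDomain D] [UniqueFactorizationMonoid D]
    (h2 : (2 : D) ≠ 0) (half : D) (hhalf : 2 * half = 1)
    {σ : Type u} {n : Type u} [Fintype n] [DecidableEq n]
    (T : Matrix n n (MvPolynomial σ D)) :
    ∃ p : MvPolynomial σ D, ∀ (φ : MvPolynomial σ D →+* D),
      (φ.mapMatrix T)ᵀ = -(φ.mapMatrix T) → (φ.mapMatrix T).det = (φ p) ^ 2 := by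
  haveI : IsIntegrallyClosed (MvPolynomial σ D) := inferInstance
  have hh : (2 : MvPolynomial σ D) * MvPolynomial.C half = 1 := by
    rw [← map_ofNat (MvPolynomial.C (σ := σ) (R := D)) 2, ← map_mul, hhalf, map_one]
  let N : Matrix n n (MvPolynomial σ D) := (MvPolynomial.C half : MvPolynomial σ D) • (T - Tᵀ)
  have hN : Nᵀ = -N := by
    show ((MvPolynomial.C half : MvPolynomial σ D) • (T - Tᵀ))ᵀ =
      -((MvPolynomial.C half : MvPolynomial σ D) • (T - Tᵀ))
    rw [Matrix.transpose_smul, Matrix.transpose_sub, Matrix.transpose_transpose, ← smul_neg,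
      neg_sub]
  obtain ⟨p, hp⟩ := skew_det_sq_of_isIntegrallyClosed (two_ne_zero_mv h2) N hN
  refine ⟨p, fun φ hφ => ?_⟩
  have h1 : φ.mapMatrix N = φ.mapMatrix T := by
    ext i j
    have hb : φ (T j i) = - φ (T i j) := by
      have := congrFun (congrFun hφ i) j
      exact this
    have hφh : 2 * φ (MvPolynomial.C half) = 1 := by
      have := congrArg φ hh
      rw [map_mul, map_ofNat, map_one] at this
      exact this
    show φ (N i j) = φ (T i j)
    have hNij : N i j = MvPolynomial.C half * (T i j - T j i) := rfl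
    rw [hNij, map_mul, map_sub, hb]
    linear_combination (φ (T i j)) * hφh
  rw [← h1, ← RingHom.map_det, hp, map_pow]

section App

open Polynomial in
theorem det_part {n : Type} [Fintype n] [DecidableEq n] (J : Matrix n n ℂ) (hJ : Jᵀ = -J)
    (hJd : J.det ≠ 0) :
    ∃ Q : MvPolynomial (n × n) ℂ, ∀ A : Matrix n n ℂ, Aᵀ * J = J * A →
      A.det = (MvPolynomial.eval (fun ij => A ij.1 ij.2) Q) ^ 2 := by
  let T : Matrix n n (MvPolynomial (n × n) ℂ) :=
    J.map MvPolynomial.C * Matrix.of (fun i j => MvPolynomial.X (i, j))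
  obtain ⟨p, hp⟩ := generic_sq (D := ℂ) two_ne_zero (1 / 2) (by norm_num) T
  obtain ⟨c, hc⟩ := IsAlgClosed.exists_pow_nat_eq J.det (n := 2) (by norm_num)
  have hc0 : c ≠ 0 := by
    rintro rfl
    apply hJd
    rw [← hc]; ring
  refine ⟨MvPolynomial.C c⁻¹ * p, fun A hA => ?_⟩
  set φ : MvPolynomial (n × n) ℂ →+* ℂ := MvPolynomial.eval (fun ij => A ij.1 ij.2) with hφ
  have hT : φ.mapMatrix T = J * A := by
    show φ.mapMatrix (J.map MvPolynomial.C * Matrix.of (fun i j => MvPolynomial.X (i, j))) = J * A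
    rw [map_mul]
    congr 1
    · ext i j
      show φ (MvPolynomial.C (J i j)) = J i j
      simp [φ]
    · ext i j
      show φ (MvPolynomial.X (i, j)) = A i j
      simp [φ]
  have hskew : (φ.mapMatrix T)ᵀ = -(φ.mapMatrix T) := by
    rw [hT, Matrix.transpose_mul, hJ, Matrix.mul_neg, hA]
  have key := hp φ hskew
  rw [hT, Matrix.det_mul, ← hc] at key
  have e1 : φ (MvPolynomial.C c⁻¹) = c⁻¹ := by simp [φ]
  rw [map_mul, e1]
  calc A.det = c⁻¹ ^ 2 * (c ^ 2 * A.det) := by field_simp
    _ = c⁻¹ ^ 2 * (φ p) ^ 2 := by rw [key]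
    _ = (c⁻¹ * φ p) ^ 2 := by ring

open Polynomial in
theorem charpoly_part {n : Type} [Fintype n] [DecidableEq n] (J : Matrix n n ℂ) (hJ : Jᵀ = -J)
    (hJd : J.det ≠ 0) :
    ∃ P : MvPolynomial (n × n) (Polynomial ℂ), ∀ A : Matrix n n ℂ, Aᵀ * J = J * A →
      A.charpoly = (MvPolynomial.eval (fun ij => Polynomial.C (A ij.1 ij.2)) P) ^ 2 := by
  let J₁ : Matrix n n (Polynomial ℂ) := (Polynomial.C : ℂ →+* Polynomial ℂ).mapMatrix J
  let T : Matrix n n (MvPolynomial (n × n) (Polynomial ℂ)) :=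
    J₁.map MvPolynomial.C *
      (Matrix.scalar n (MvPolynomial.C (Polynomial.X : Polynomial ℂ)) -
        Matrix.of (fun i j => MvPolynomial.X (i, j)))
  have h2 : (2 : Polynomial ℂ) ≠ 0 := by
    intro h
    have := congrArg (Polynomial.eval (0 : ℂ)) h
    simp at this
  have hhalf : (2 : Polynomial ℂ) * Polynomial.C (1 / 2) = 1 := by
    rw [← map_ofNat (Polynomial.C : ℂ →+* Polynomial ℂ) 2, ← map_mul]
    norm_num
  obtain ⟨p, hp⟩ := generic_sq (D := Polynomial ℂ) h2 (Polynomial.C (1 / 2)) hhalf T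
  obtain ⟨c, hc⟩ := IsAlgClosed.exists_pow_nat_eq J.det (n := 2) (by norm_num)
  have hc0 : c ≠ 0 := by
    rintro rfl
    apply hJd
    rw [← hc]; ring
  refine ⟨MvPolynomial.C (Polynomial.C c⁻¹) * p, fun A hA => ?_⟩
  set φ : MvPolynomial (n × n) (Polynomial ℂ) →+* Polynomial ℂ :=
    MvPolynomial.eval (fun ij => Polynomial.C (A ij.1 ij.2)) with hφ
  let A' : Matrix n n (Polynomial ℂ) := (Polynomial.C : ℂ →+* Polynomial ℂ).mapMatrix A
  let Z : Matrix n n (Polynomial ℂ) := Matrix.scalar n (Polynomial.X : Polynomial ℂ)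
  have hch : Matrix.charmatrix A = Z - A' := rfl
  have hT : φ.mapMatrix T = J₁ * Matrix.charmatrix A := by
    show φ.mapMatrix (J₁.map MvPolynomial.C *
      (Matrix.scalar n (MvPolynomial.C (Polynomial.X : Polynomial ℂ)) -
        Matrix.of (fun i j => MvPolynomial.X (i, j)))) = J₁ * Matrix.charmatrix A
    rw [map_mul, map_sub, hch]
    congr 1
    · refine Matrix.ext (fun i j => ?_)
      show φ (MvPolynomial.C (J₁ i j)) = J₁ i j
      simp [φ]
    · congr 1
      · refine Matrix.ext (fun i j => ?_)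
        show φ (Matrix.scalar n (MvPolynomial.C (Polynomial.X : Polynomial ℂ)) i j) = Z i j
        by_cases hij : i = j
        · subst hij
          simp [φ, Z]
        · simp [Z, Matrix.diagonal_apply_ne _ hij]
      · refine Matrix.ext (fun i j => ?_)
        show φ (MvPolynomial.X (i, j)) = Polynomial.C (A i j)
        simp [φ]
  have hJ₁ : J₁ᵀ = -J₁ := by
    refine Matrix.ext (fun i j => ?_)
    have := congrFun (congrFun hJ i) j
    simp only [Matrix.transpose_apply, Matrix.neg_apply] at this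
    show Polynomial.C (J j i) = - Polynomial.C (J i j)
    rw [this, map_neg]
  have hA' : A'ᵀ * J₁ = J₁ * A' := by
    have := congrArg ((Polynomial.C : ℂ →+* Polynomial ℂ).mapMatrix (m := n)) hA
    rw [map_mul, map_mul] at this
    exact this
  have hZt : Zᵀ = Z := by
    simp [Z]
  have hZJ : Z * J₁ = J₁ * Z := (Matrix.scalar_commute _ (fun _ => Commute.all _ _) J₁).eq
  have hskew : (φ.mapMatrix T)ᵀ = -(φ.mapMatrix T) := by
    rw [hT, hch, Matrix.transpose_mul, hJ₁, Matrix.transpose_sub, hZt, Matrix.mul_neg,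
      Matrix.sub_mul, hA', hZJ, ← Matrix.mul_sub]
  have key := hp φ hskew
  have hJ₁det : J₁.det = Polynomial.C J.det := (RingHom.map_det _ J).symm
  have hcp : (Matrix.charmatrix A).det = A.charpoly := rfl
  rw [hT, Matrix.det_mul, hJ₁det, hcp, ← hc] at key
  have e1 : φ (MvPolynomial.C (Polynomial.C c⁻¹)) = Polynomial.C c⁻¹ := by simp [φ]
  rw [map_mul, e1]
  have hcc : (Polynomial.C c⁻¹ : Polynomial ℂ) ^ 2 * Polynomial.C (c ^ 2) = 1 := by
    rw [← map_pow, ← map_mul]
    have : c⁻¹ ^ 2 * c ^ 2 = 1 := by field_simp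
    rw [this, map_one]
  calc A.charpoly = (Polynomial.C c⁻¹ ^ 2 * Polynomial.C (c ^ 2)) * A.charpoly := by
        rw [hcc, one_mul]
    _ = Polynomial.C c⁻¹ ^ 2 * (Polynomial.C (c ^ 2) * A.charpoly) := by ring
    _ = Polynomial.C c⁻¹ ^ 2 * (φ p) ^ 2 := by rw [key]
    _ = (Polynomial.C c⁻¹ * φ p) ^ 2 := by ring

theorem main (m : ℕ) :
    (∃ P : MvPolynomial ((Fin m ⊕ Fin m) × (Fin m ⊕ Fin m)) (Polynomial ℂ),
      ∀ A : Matrix (Fin m ⊕ Fin m) (Fin m ⊕ Fin m) ℂ,
        A.transpose * Matrix.fromBlocks 0 1 (-1) 0 = Matrix.fromBlocks 0 1 (-1) 0 * A →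
        A.charpoly = (MvPolynomial.eval (fun ij => Polynomial.C (A ij.1 ij.2)) P) ^ 2) ∧
    (∃ Q : MvPolynomial ((Fin m ⊕ Fin m) × (Fin m ⊕ Fin m)) ℂ,
      ∀ A : Matrix (Fin m ⊕ Fin m) (Fin m ⊕ Fin m) ℂ,
        A.transpose * Matrix.fromBlocks 0 1 (-1) 0 = Matrix.fromBlocks 0 1 (-1) 0 * A →
        A.det = (MvPolynomial.eval (fun ij => A ij.1 ij.2) Q) ^ 2) := by
  have hJ : (Matrix.fromBlocks 0 1 (-1) 0 : Matrix (Fin m ⊕ Fin m) (Fin m ⊕ Fin m) ℂ)ᵀ =
      -Matrix.fromBlocks 0 1 (-1) 0 := by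
    rw [Matrix.fromBlocks_transpose, Matrix.fromBlocks_neg]; simp
  have hJd : (Matrix.fromBlocks 0 1 (-1) 0 : Matrix (Fin m ⊕ Fin m) (Fin m ⊕ Fin m) ℂ).det ≠ 0 := by
    apply Matrix.det_ne_zero_of_right_inverse
      (B := -(Matrix.fromBlocks 0 1 (-1) 0 : Matrix (Fin m ⊕ Fin m) (Fin m ⊕ Fin m) ℂ))
    rw [Matrix.fromBlocks_neg, Matrix.fromBlocks_multiply]
    simp [Matrix.fromBlocks_one]
  exact ⟨charpoly_part _ hJ hJd, det_part _ hJ hJd⟩

end App

end Groth.Agent.Lib.Helper6.PfaffSq
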