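import Mathlib

set_option backward.isDefEq.respectTransparency false

/-!
# Picard group of a polynomial ring over a product of valuation rings

Bounded-degree generator argument: an invertible module over
`MvPolynomial (Fin n) (∀ i, R i)` is cut out by an idempotent matrix `E`; over each factor
`MvPolynomial (Fin n) (R i)` (a GCD domain, so with trivial Picard group) the matrix factors as
column times row with entries of degree bounded by the degree of `E`; these factorizations
glue to a factorization over the product.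
-/

namespace Groth.Agent.Lib.Helper6.PicPiVal

open TensorProduct

universe u

section GCD

theorem isGCDMonoid_of_ringEquiv {α β : Type*} [CommRing α] [CommRing β] [IsDomain β]
    (e : α ≃+* β) [h : IsGCDMonoid α] : IsGCDMonoid β := by
  rw [isGCDMonoid_iff_exists_gcd] at h ⊢
  refine ⟨inferInstance, fun a b => ?_⟩
  obtain ⟨c, hc⟩ := h.2 (e.symm a) (e.symm b)
  refine ⟨e c, fun d => ?_⟩
  have h1 : ∀ x y : β, e.symm x ∣ e.symm y ↔ x ∣ y := fun x y => map_dvd_iff e.symm
  rw [← h1 d a, ← h1 d b, ← h1 d (e c), e.symm_apply_apply]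
  exact hc (e.symm d)

theorem isGCDMonoid_mvPolynomial_fin (A : Type*) [CommRing A] [IsDomain A] [IsGCDMonoid A] :
    ∀ n : ℕ, IsGCDMonoid (MvPolynomial (Fin n) A) := by
  intro n
  induction n with
  | zero => exact isGCDMonoid_of_ringEquiv (MvPolynomial.isEmptyRingEquiv A (Fin 0)).symm
  | succ n ih =>
    exact isGCDMonoid_of_ringEquiv (MvPolynomial.finSuccEquiv A n).symm.toRingEquiv

theorem pic_subsingleton (A : Type u) [CommRing A] [IsDomain A] [ValuationRing A] (n : ℕ) :
    Subsingleton (CommRing.Pic (MvPolynomial (Fin n) A)) := by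
  have : IsGCDMonoid (MvPolynomial (Fin n) A) := isGCDMonoid_mvPolynomial_fin A n
  infer_instance

end GCD

section Basic

theorem eq_sum_single {B : Type*} [CommRing B] {N : ℕ} (y : Fin N → B) :
    y = ∑ k, y k • (Pi.single k (1 : B) : Fin N → B) := by
  ext j
  simp [Finset.sum_apply, Pi.single_apply]

theorem map_eq_sum {B M : Type*} [CommRing B] [AddCommGroup M] [Module B M] {N : ℕ}
    (f : (Fin N → B) →ₗ[B] M) (y : Fin N → B) :
    f y = ∑ k, y k • f (Pi.single k 1) := by
  conv_lhs => rw [eq_sum_single y]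
  simp only [map_sum, map_smul]

end Basic

section RankOne

variable {B M : Type*} [CommRing B] [AddCommGroup M] [Module B M] {N : ℕ}

/-- The candidate trivialization `x ↦ ∑ k, g x k * T k`. -/
noncomputable def phi (g : M →ₗ[B] (Fin N → B)) (T : Fin N → B) : M →ₗ[B] B :=
  ∑ k, T k • ((LinearMap.proj k : (Fin N → B) →ₗ[B] B) ∘ₗ g)

theorem phi_apply (g : M →ₗ[B] (Fin N → B)) (T : Fin N → B) (x : M) :
    phi g T x = ∑ k, g x k * T k := by
  simp [phi, LinearMap.sum_apply, mul_comm]

theorem linearEquiv_of_rankOne (f : (Fin N → B) →ₗ[B] M) (g : M →ₗ[B] (Fin N → B))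
    (hfg : f ∘ₗ g = LinearMap.id) (T A : Fin N → B)
    (hE : ∀ k j, g (f (Pi.single j 1)) k = T j * A k) (hsum : ∑ k, A k * T k = 1) :
    Nonempty (M ≃ₗ[B] B) := by
  have hfg' : ∀ x, f (g x) = x := fun x => by
    have := LinearMap.congr_fun hfg x
    simpa using this
  have hgf : ∀ (y : Fin N → B) (k' : Fin N), g (f y) k' = (∑ k, y k * T k) * A k' := by
    intro y k'
    rw [map_eq_sum f y, map_sum, Finset.sum_apply, Finset.sum_mul]
    refine Finset.sum_congr rfl fun k _ => ?_
    rw [map_smul, Pi.smul_apply, hE, smul_eq_mul, mul_assoc]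
  have hA : g (f A) = A := by
    funext k
    rw [hgf, hsum, one_mul]
  refine ⟨LinearEquiv.ofLinear (phi g T) (LinearMap.toSpanSingleton B M (f A)) ?_ ?_⟩
  · apply LinearMap.ext_ring
    rw [LinearMap.comp_apply, LinearMap.toSpanSingleton_apply, one_smul, LinearMap.id_apply,
      phi_apply, hA]
    exact hsum
  · refine LinearMap.ext fun x => ?_
    rw [LinearMap.comp_apply, LinearMap.toSpanSingleton_apply, LinearMap.id_apply]
    have hy : g x = phi g T x • A := by
      funext k'
      have h := hgf (g x) k'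
      rw [hfg'] at h
      rw [h, phi_apply, Pi.smul_apply, smul_eq_mul]
    calc phi g T x • f A = f (phi g T x • A) := (map_smul f _ _).symm
      _ = f (g x) := by rw [← hy]
      _ = x := hfg' x

end RankOne

section Local

variable {A A' M : Type u} [CommRing A] [CommRing A'] [Algebra A A'] [AddCommGroup M] [Module A M]
  {N : ℕ}

/-- The `k`-th coordinate functional after base change. -/
noncomputable def gam (g : M →ₗ[A] (Fin N → A)) (k : Fin N) : A' ⊗[A] M →ₗ[A'] A' :=
  LinearMap.liftBaseChange A'
    ((Algebra.linearMap A A') ∘ₗ ((LinearMap.proj k : (Fin N → A) →ₗ[A] A) ∘ₗ g))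

theorem gam_tmul (g : M →ₗ[A] (Fin N → A)) (k : Fin N) (x : A') (m : M) :
    gam (A' := A') g k (x ⊗ₜ[A] m) = x * algebraMap A A' (g m k) := by
  simp [gam]

theorem exists_local_factor [Module.Invertible A M] [Subsingleton (CommRing.Pic A')]
    (f : (Fin N → A) →ₗ[A] M) (g : M →ₗ[A] (Fin N → A)) (hfg : f ∘ₗ g = LinearMap.id) :
    ∃ t a : Fin N → A', (∀ k j, algebraMap A A' (g (f (Pi.single j 1)) k) = t j * a k) ∧
      ∑ k, a k * t k = 1 := by
  have hinv : Module.Invertible A' (A' ⊗[A] M) := inferInstance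
  have hfree : Module.Free A' (A' ⊗[A] M) :=
    CommRing.Pic.subsingleton_iff.mp inferInstance (A' ⊗[A] M) hinv
  obtain ⟨θ⟩ := Module.Invertible.free_iff_linearEquiv.mp hfree
  obtain ⟨w, hw⟩ : ∃ w, θ w = 1 := ⟨θ.symm 1, θ.apply_symm_apply 1⟩
  have hyw : ∀ y, y = θ y • w := fun y =>
    θ.injective (by rw [map_smul, hw, smul_eq_mul, mul_one])
  have hfg' : ∀ x, f (g x) = x := fun x => by
    have := LinearMap.congr_fun hfg x
    simpa using this
  have hrep : ∀ y : A' ⊗[A] M,
      y = ∑ k, gam g k y • ((1 : A') ⊗ₜ[A] f (Pi.single k 1)) := by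
    intro y
    induction y using TensorProduct.induction_on with
    | zero => simp
    | tmul x m =>
      have hm : m = ∑ k, g m k • f (Pi.single k 1) := by
        conv_lhs => rw [← hfg' m]
        exact map_eq_sum f (g m)
      conv_lhs => rw [hm]
      rw [TensorProduct.tmul_sum]
      refine Finset.sum_congr rfl fun k _ => ?_
      rw [gam_tmul, TensorProduct.smul_tmul', smul_eq_mul, mul_one]
      have e1 : x ⊗ₜ[A] (g m k • f (Pi.single k 1)) = (g m k • x) ⊗ₜ[A] f (Pi.single k 1) :=
        (TensorProduct.smul_tmul (g m k) x (f (Pi.single k 1))).symm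
      rw [e1, Algebra.smul_def, mul_comm]
    | add y1 y2 h1 h2 =>
      conv_lhs => rw [h1, h2]
      rw [← Finset.sum_add_distrib]
      refine Finset.sum_congr rfl fun k _ => ?_
      rw [map_add, add_smul]
  have c1 : ∀ k j, algebraMap A A' (g (f (Pi.single j 1)) k) =
      θ ((1 : A') ⊗ₜ[A] f (Pi.single j 1)) * gam g k w := by
    intro k j
    have h1 := gam_tmul (A' := A') g k 1 (f (Pi.single j 1))
    rw [one_mul] at h1
    rw [← h1]
    conv_lhs => rw [hyw ((1 : A') ⊗ₜ[A] f (Pi.single j 1))]
    rw [map_smul, smul_eq_mul]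
  have c2 : ∑ k, gam g k w * θ ((1 : A') ⊗ₜ[A] f (Pi.single k 1)) = 1 := by
    have h := congrArg θ (hrep w)
    simp only [map_sum, map_smul, smul_eq_mul] at h
    exact h.symm.trans hw
  exact ⟨fun j => θ ((1 : A') ⊗ₜ[A] f (Pi.single j 1)), fun k => gam g k w, c1, c2⟩

end Local

section Main

theorem totalDegree_map_le' {σ R S : Type*} [CommSemiring R] [CommSemiring S] (φ : R →+* S)
    (p : MvPolynomial σ R) : (MvPolynomial.map φ p).totalDegree ≤ p.totalDegree := by
  unfold MvPolynomial.totalDegree
  exact Finset.sup_mono (MvPolynomial.support_map_subset φ p)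

theorem joint_inj {ι : Type*} (R : ι → Type*) [∀ i, CommRing (R i)] (n : ℕ)
    {P Q : MvPolynomial (Fin n) (∀ i, R i)}
    (h : ∀ i, MvPolynomial.map (Pi.evalRingHom R i) P = MvPolynomial.map (Pi.evalRingHom R i) Q) :
    P = Q := by
  refine MvPolynomial.ext _ _ fun m => funext fun i => ?_
  have := congrArg (MvPolynomial.coeff m) (h i)
  simpa [MvPolynomial.coeff_map] using this

theorem exists_lift {ι : Type*} (R : ι → Type*) [∀ i, CommRing (R i)] (n d : ℕ)
    (p : ∀ i, MvPolynomial (Fin n) (R i)) (hp : ∀ i, (p i).totalDegree ≤ d) :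
    ∃ P : MvPolynomial (Fin n) (∀ i, R i),
      ∀ i, MvPolynomial.map (Pi.evalRingHom R i) P = p i := by
  classical
  let F : (Fin n → Fin (d + 1)) → (Fin n →₀ ℕ) :=
    fun c => Finsupp.equivFunOnFinite.symm (fun a => (c a : ℕ))
  refine ⟨∑ m ∈ Finset.univ.image F,
    MvPolynomial.monomial m (fun i => MvPolynomial.coeff m (p i)), fun i => ?_⟩
  rw [map_sum]
  simp only [MvPolynomial.map_monomial, Pi.evalRingHom_apply]
  ext m'
  rw [MvPolynomial.coeff_sum]
  simp only [MvPolynomial.coeff_monomial, Finset.sum_ite_eq', Finset.sum_ite_eq]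
  split_ifs with hmem
  · rfl
  · symm
    by_contra hne
    apply hmem
    have hsup : m' ∈ (p i).support := MvPolynomial.mem_support_iff.mpr hne
    have hle := le_trans (MvPolynomial.le_totalDegree hsup) (hp i)
    have hle' : ∀ a, m' a ≤ d := by
      intro a
      refine le_trans ?_ hle
      by_cases ha : a ∈ m'.support
      · exact Finset.single_le_sum (f := fun a => m' a) (fun _ _ => Nat.zero_le _) ha
      · have h0 : m' a = 0 := by simpa using ha
        rw [h0]; exact Nat.zero_le _
    rw [Finset.mem_image]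
    exact ⟨fun a => ⟨m' a, Nat.lt_succ_of_le (hle' a)⟩, Finset.mem_univ _,
      Finsupp.ext fun a => rfl⟩

theorem main {ι : Type u} (R : ι → Type u) [∀ i, CommRing (R i)] [∀ i, IsDomain (R i)]
    [∀ i, ValuationRing (R i)] (n : ℕ) :
    Subsingleton (CommRing.Pic (MvPolynomial (Fin n) (∀ i, R i))) := by
  rw [CommRing.Pic.subsingleton_iff]
  intro M _ _ hM
  obtain ⟨N, f, g, -, -, hfg⟩ :=
    Module.Finite.exists_comp_eq_id_of_projective (MvPolynomial (Fin n) (∀ i, R i)) M
  have key : ∀ i, ∃ t a : Fin N → MvPolynomial (Fin n) (R i),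
      (∀ k j, MvPolynomial.map (Pi.evalRingHom R i) (g (f (Pi.single j 1)) k) = t j * a k) ∧
        ∑ k, a k * t k = 1 := by
    intro i
    letI : Algebra (MvPolynomial (Fin n) (∀ i, R i)) (MvPolynomial (Fin n) (R i)) :=
      (MvPolynomial.map (Pi.evalRingHom R i)).toAlgebra
    have : Subsingleton (CommRing.Pic (MvPolynomial (Fin n) (R i))) := pic_subsingleton (R i) n
    exact exists_local_factor f g hfg
  choose t a hta hsum using key
  obtain ⟨d, hd⟩ : ∃ d, ∀ k j, (g (f (Pi.single j 1)) k).totalDegree ≤ d := by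
    refine ⟨Finset.univ.sup fun k => Finset.univ.sup fun j =>
      (g (f (Pi.single j 1)) k).totalDegree, fun k j => ?_⟩
    refine le_trans ?_ (Finset.le_sup (f := fun k => Finset.univ.sup fun j =>
      (g (f (Pi.single j 1)) k).totalDegree) (Finset.mem_univ k))
    exact Finset.le_sup (f := fun j => (g (f (Pi.single j 1)) k).totalDegree) (Finset.mem_univ j)
  have hdeg : ∀ i k j, (t i j * a i k).totalDegree ≤ d := by
    intro i k j
    rw [← hta i k j]
    exact le_trans (totalDegree_map_le' _ _) (hd k j)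
  have hne1 : ∀ i, (∑ k, a i k * t i k) ≠ 0 := fun i => by
    rw [hsum i]; exact one_ne_zero
  have ht : ∀ i j, (t i j).totalDegree ≤ d := by
    intro i j
    by_cases h0 : t i j = 0
    · rw [h0, MvPolynomial.totalDegree_zero]; exact Nat.zero_le _
    · obtain ⟨k, hk⟩ : ∃ k, a i k ≠ 0 := by
        by_contra hne
        push Not at hne
        exact hne1 i (Finset.sum_eq_zero fun k _ => by rw [hne k, zero_mul])
      have h := hdeg i k j
      rw [MvPolynomial.totalDegree_mul_of_isDomain h0 hk] at h
      omega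
  have ha : ∀ i k, (a i k).totalDegree ≤ d := by
    intro i k
    by_cases h0 : a i k = 0
    · rw [h0, MvPolynomial.totalDegree_zero]; exact Nat.zero_le _
    · obtain ⟨j, hj⟩ : ∃ j, t i j ≠ 0 := by
        by_contra hne
        push Not at hne
        exact hne1 i (Finset.sum_eq_zero fun k _ => by rw [hne k, mul_zero])
      have h := hdeg i k j
      rw [MvPolynomial.totalDegree_mul_of_isDomain hj h0] at h
      omega
  choose T hT using fun j => exists_lift R n d (fun i => t i j) (fun i => ht i j)
  choose A hA using fun k => exists_lift R n d (fun i => a i k) (fun i => ha i k)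
  have hT' : ∀ j i, MvPolynomial.map (Pi.evalRingHom R i) (T j) = t i j := hT
  have hA' : ∀ k i, MvPolynomial.map (Pi.evalRingHom R i) (A k) = a i k := hA
  have hE : ∀ k j, g (f (Pi.single j 1)) k = T j * A k := by
    intro k j
    apply joint_inj R n
    intro i
    rw [hta i k j, map_mul, hT' j i, hA' k i]
  have hsum' : ∑ k, A k * T k = 1 := by
    apply joint_inj R n
    intro i
    rw [map_sum, map_one]
    refine Eq.trans (Finset.sum_congr rfl fun k _ => ?_) (hsum i)
    rw [map_mul, hA' k i, hT' k i]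
  obtain ⟨e⟩ := linearEquiv_of_rankOne f g hfg T A hE hsum'
  exact Module.Free.of_equiv e.symm

end Main

end Groth.Agent.Lib.Helper6.PicPiVal
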