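import Mathlib

/-!
# Lifting generalizations in a product over a field, staying over a closed subset of the other factor
-/

set_option autoImplicit false
universe u
open CategoryTheory CategoryTheory.Limits AlgebraicGeometry

namespace Groth.Agent.Lib.Helper6.ProdComp

theorem lift_gen_fst {k : Type u} [Field k] {X Y : Scheme.{u}}
    (f : X ⟶ Spec (CommRingCat.of k)) (g : Y ⟶ Spec (CommRingCat.of k))
    (C : Set ↥Y) (hC : IsClosed C) (w₀ : ↥(pullback f g)) (hw₀ : pullback.snd f g w₀ ∈ C)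
    (x₁ : ↥X) (hx₁ : x₁ ⤳ pullback.fst f g w₀) :
    ∃ w₁ : ↥(pullback f g), w₁ ⤳ w₀ ∧ pullback.fst f g w₁ = x₁ ∧ pullback.snd f g w₁ ∈ C := by
  let I := Scheme.IdealSheafData.vanishingIdeal ⟨C, hC⟩
  have hj : Set.range I.subschemeι = C := by
    rw [Scheme.IdealSheafData.range_subschemeι, Scheme.IdealSheafData.coe_support_vanishingIdeal]
    rfl
  let m : pullback f (I.subschemeι ≫ g) ⟶ pullback f g :=
    pullback.map f (I.subschemeι ≫ g) f g (𝟙 X) I.subschemeι (𝟙 _) (by simp) (by simp)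
  have hm : Set.range m = pullback.fst f g ⁻¹' Set.range (𝟙 X) ∩
      pullback.snd f g ⁻¹' Set.range I.subschemeι :=
    Scheme.Pullback.range_map (f := f) (g := I.subschemeι ≫ g) f g (𝟙 X) I.subschemeι (𝟙 _)
      (by simp) (by simp)
  have hw₀m : w₀ ∈ Set.range m := by
    rw [hm]
    refine ⟨⟨pullback.fst f g w₀, by first | rfl | simp⟩, ?_⟩
    show pullback.snd f g w₀ ∈ Set.range I.subschemeι
    rw [hj]
    exact hw₀
  obtain ⟨w₀', rfl⟩ := hw₀m
  have hp : m ≫ pullback.fst f g = pullback.fst f (I.subschemeι ≫ g) := by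
    simp only [m]
    rw [pullback.lift_fst, Category.comp_id]
  have hgen : GeneralizingMap (pullback.fst f (I.subschemeι ≫ g)) := Flat.generalizingMap _
  have hx₁' : x₁ ⤳ pullback.fst f (I.subschemeι ≫ g) w₀' := by
    have h1 : pullback.fst f g (m w₀') = pullback.fst f (I.subschemeι ≫ g) w₀' := by
      rw [← Scheme.Hom.comp_apply, hp]
    rw [← h1]
    exact hx₁
  obtain ⟨w₁', hw₁', hpw₁'⟩ := hgen hx₁'
  refine ⟨m w₁', hw₁'.map m.continuous, ?_, ?_⟩
  · rw [← hpw₁', ← Scheme.Hom.comp_apply, hp]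
  · have h1 : m w₁' ∈ Set.range m := ⟨_, rfl⟩
    rw [hm] at h1
    rw [← hj]
    exact h1.2

theorem lift_gen_snd {k : Type u} [Field k] {X Y : Scheme.{u}}
    (f : X ⟶ Spec (CommRingCat.of k)) (g : Y ⟶ Spec (CommRingCat.of k))
    (C : Set ↥X) (hC : IsClosed C) (w₀ : ↥(pullback f g)) (hw₀ : pullback.fst f g w₀ ∈ C)
    (y₁ : ↥Y) (hy₁ : y₁ ⤳ pullback.snd f g w₀) :
    ∃ w₁ : ↥(pullback f g), w₁ ⤳ w₀ ∧ pullback.snd f g w₁ = y₁ ∧ pullback.fst f g w₁ ∈ C := by
  let I := Scheme.IdealSheafData.vanishingIdeal ⟨C, hC⟩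
  have hj : Set.range I.subschemeι = C := by
    rw [Scheme.IdealSheafData.range_subschemeι, Scheme.IdealSheafData.coe_support_vanishingIdeal]
    rfl
  let m : pullback (I.subschemeι ≫ f) g ⟶ pullback f g :=
    pullback.map (I.subschemeι ≫ f) g f g I.subschemeι (𝟙 Y) (𝟙 _) (by simp) (by simp)
  have hm : Set.range m = pullback.fst f g ⁻¹' Set.range I.subschemeι ∩
      pullback.snd f g ⁻¹' Set.range (𝟙 Y) :=
    Scheme.Pullback.range_map (f := I.subschemeι ≫ f) (g := g) f g I.subschemeι (𝟙 Y) (𝟙 _)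
      (by simp) (by simp)
  have hw₀m : w₀ ∈ Set.range m := by
    rw [hm]
    refine ⟨?_, ⟨pullback.snd f g w₀, by first | rfl | simp⟩⟩
    show pullback.fst f g w₀ ∈ Set.range I.subschemeι
    rw [hj]
    exact hw₀
  obtain ⟨w₀', rfl⟩ := hw₀m
  have hp : m ≫ pullback.snd f g = pullback.snd (I.subschemeι ≫ f) g := by
    simp only [m]
    rw [pullback.lift_snd, Category.comp_id]
  have hgen : GeneralizingMap (pullback.snd (I.subschemeι ≫ f) g) := Flat.generalizingMap _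
  have hy₁' : y₁ ⤳ pullback.snd (I.subschemeι ≫ f) g w₀' := by
    have h1 : pullback.snd f g (m w₀') = pullback.snd (I.subschemeι ≫ f) g w₀' := by
      rw [← Scheme.Hom.comp_apply, hp]
    rw [← h1]
    exact hy₁
  obtain ⟨w₁', hw₁', hpw₁'⟩ := hgen hy₁'
  refine ⟨m w₁', hw₁'.map m.continuous, ?_, ?_⟩
  · rw [← hpw₁', ← Scheme.Hom.comp_apply, hp]
  · have h1 : m w₁' ∈ Set.range m := ⟨_, rfl⟩
    rw [hm] at h1
    rw [← hj]
    exact h1.1

end Groth.Agent.Lib.Helper6.ProdComp
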