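import Mathlib

/-!
# Algebra of the projective cone `Ŝ = S[z]` (helper6)
-/

set_option autoImplicit false
universe u

namespace Groth.Agent.Lib.Helper6

variable {A B : Type u} [CommRing A] [CommRing B] [Algebra A B]

/-- If `B = A[z]` and `ψ : B → A` is a retraction of the structure map killing `z`, then
`b - ψ b` lies in the ideal generated by `z`. -/
lemma sub_algebraMap_mem_span {F : Type*} [FunLike F B A] [RingHomClass F B A] (ψ : F) (z : B)
    (hhat : Function.Surjective (Polynomial.aeval (R := A) z))
    (hψφ : ∀ a : A, ψ (algebraMap A B a) = a) (hψz : ψ z = 0) (b : B) :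
    b - algebraMap A B (ψ b) ∈ Ideal.span {z} := by
  obtain ⟨P, rfl⟩ := hhat b
  have h1 : Polynomial.aeval z P =
      Polynomial.aeval z P.divX * z + algebraMap A B (P.coeff 0) := by
    conv_lhs => rw [← Polynomial.divX_mul_X_add P]
    simp
  have h2 : ψ (Polynomial.aeval z P) = P.coeff 0 := by
    rw [h1, map_add, map_mul, hψz, mul_zero, zero_add, hψφ]
  rw [h2, h1, add_sub_cancel_right]
  exact Ideal.mul_mem_left _ _ (Ideal.mem_span_singleton_self z)

end Groth.Agent.Lib.Helper6
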