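import Mathlib
import Groth.Prelude.Def_CohB1

/-!
# Projective space over a ring: the standard section and surjectivity (helper6)
-/

set_option autoImplicit false
universe u
open CategoryTheory CategoryTheory.Limits AlgebraicGeometry Opposite

namespace Groth.Agent.Lib.Helper6

variable (n : ℕ) (R : Type u) [CommRing R]

/-- Evaluation at the point `(1 : 0 : ⋯ : 0)`, to global sections of `Spec R`. -/
noncomputable def projSpaceEval :
    MvPolynomial (Fin (n + 1)) R →+* Γ(Spec (CommRingCat.of R), ⊤) :=
  (Scheme.ΓSpecIso (CommRingCat.of R)).inv.hom.comp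
    (MvPolynomial.eval (fun i : Fin (n + 1) => if i = 0 then (1 : R) else 0))

lemma projSpaceEval_map_irrelevant :
    (HomogeneousIdeal.irrelevant (CohB1.polyGrading n R)).toIdeal.map (projSpaceEval n R) = ⊤ := by
  rw [Ideal.eq_top_iff_one]
  have hX : (MvPolynomial.X 0 : MvPolynomial (Fin (n + 1)) R) ∈
      (HomogeneousIdeal.irrelevant (CohB1.polyGrading n R)).toIdeal :=
    HomogeneousIdeal.mem_irrelevant_of_mem _ Nat.one_pos (MvPolynomial.isHomogeneous_X R 0)
  have h1 : projSpaceEval n R (MvPolynomial.X 0) = 1 := by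
    simp [projSpaceEval]
  rw [← h1]
  exact Ideal.mem_map_of_mem _ hX

/-- The section `Spec R ⟶ ℙⁿ_R` given by the point `(1 : 0 : ⋯ : 0)`. -/
noncomputable def projSpaceSection :
    Spec (CommRingCat.of R) ⟶ Proj (CohB1.polyGrading n R) :=
  Proj.fromOfGlobalSections (CohB1.polyGrading n R) (projSpaceEval n R)
    (projSpaceEval_map_irrelevant n R)

lemma projSpaceSection_toSpec :
    projSpaceSection n R ≫ (Proj.toSpecZero (CohB1.polyGrading n R) ≫
      Spec.map (CommRingCat.ofHom (algebraMap R (CohB1.polyGrading n R 0)))) = 𝟙 _ := by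
  rw [projSpaceSection, Proj.fromOfGlobalSections_toSpecZero_assoc,
    ← Spec.map_comp, ← CommRingCat.ofHom_comp]
  have hψ : ((projSpaceEval n R).comp (algebraMap (CohB1.polyGrading n R 0) _)).comp
      (algebraMap R (CohB1.polyGrading n R 0)) =
        (Scheme.ΓSpecIso (CommRingCat.of R)).inv.hom := by
    ext r
    change projSpaceEval n R (MvPolynomial.C r) = _
    simp [projSpaceEval]
  rw [hψ]
  exact toSpecΓ_SpecMap_ΓSpecIso_inv _

instance : Surjective (CohB1.ProjSpace.toSpec n R) := by
  change Surjective (Proj.toSpecZero (CohB1.polyGrading n R) ≫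
      Spec.map (CommRingCat.ofHom (algebraMap R (CohB1.polyGrading n R 0))))
  have : Surjective (projSpaceSection n R ≫ (Proj.toSpecZero (CohB1.polyGrading n R) ≫
      Spec.map (CommRingCat.ofHom (algebraMap R (CohB1.polyGrading n R 0))))) := by
    rw [projSpaceSection_toSpec]; infer_instance
  exact Surjective.of_comp (projSpaceSection n R) _

end Groth.Agent.Lib.Helper6
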