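import Groth.Agent.Lib.Helper6.ThickCart
import Groth.Agent.Lib.Helper16.SchImgDense
import Groth.Agent.Lib.Helper16.DiagDescent
import Groth.Agent.Lib.Helper16.QuasiCompactMor
import Groth.Agent.Lib.Helper16.UnivClosed
import Groth.Agent.Lib.Helper17.AlgSpProper
import Groth.Agent.Lib.Helper17.AlgSpComp

/-!
# Helper library (helper6): closed subspaces proper over a base

* properness of a closed subspace over the base depends only on its support (`main10760`);
* the image of a closed subspace proper over the base underlies a closed subspace proper over the base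
  (`main10762`, `main10763`).
-/

set_option autoImplicit false
universe u
open CategoryTheory CategoryTheory.Limits AlgebraicGeometry AlgSp

namespace Groth.Agent.Lib.Helper6.ProperSub

open Groth.Agent.Lib.Helper16 Groth.Agent.Lib.Helper17 Groth.Agent.Lib.Helper6.ThickAlgSp

variable {S : Scheme.{u}}

theorem locP_lft_of_closedImmersion {Z X : Sp S} (i : Z ⟶ X) (hi : RepWith @IsClosedImmersion i) :
    LocP @LocallyOfFiniteType i :=
  locP_of_repWith @LocallyOfFiniteType @IsClosedImmersion (fun A B C m j hm hj => by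
    have : IsClosedImmersion j := hj
    exact etLocalST_locallyOfFiniteType.precomp m j hm inferInstance) i hi

theorem injective_of_closedImmersion {Z X : Sp S} (hX : IsAlgSpace X) (i : Z ⟶ X)
    (hi : RepWith @IsClosedImmersion i) : Function.Injective (Points.map i) := by
  haveI : Mono i := SchImg.mono_of_repWith_isClosedImmersion i hi
  have h := UnramMono.isUnivInjectiveMor_of_mono i
  exact h hX (𝟙 X) (𝟙 Z) i (IsPullback.of_horiz_isIso ⟨by rw [Category.id_comp, Category.comp_id]⟩)

theorem isThickMor_of_closedImmersion_surjective {W Z : Sp S} (p : W ⟶ Z)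
    (hp : RepWith @IsClosedImmersion p) (hs : Function.Surjective (Points.map p)) : IsThickMor p := by
  have hs' : RepWith @Surjective p := (repWith_surjective_iff p hp.rep).2 hs
  exact ⟨hp.rep, fun T M t a b sq => ⟨hp.property _ _ _ sq, hs'.property _ _ _ sq⟩⟩

/-- If `f ≫ q` is universally closed and `f` is surjective then `q` is universally closed. -/
theorem isUnivClosedMor_of_surjective_comp {X Y B : Sp S} (f : X ⟶ Y) (q : Y ⟶ B)
    (hf : Function.Surjective (Points.map f)) (hp : IsUnivClosedMor (f ≫ q)) : IsUnivClosedMor q := by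
  intro W W' hW t fst snd sq
  have sq2 := IsPullback.of_hasPullback f fst
  have sq3 : IsPullback (pullback.fst f fst) (pullback.snd f fst ≫ snd) (f ≫ q) t :=
    sq2.paste_vert sq
  have hcl : IsClosedMap (Points.map (pullback.snd f fst ≫ snd)) := hp hW t _ _ sq3
  have hsurj : Function.Surjective (Points.map (pullback.snd f fst)) := by
    intro y'
    obtain ⟨x, hx⟩ := hf (Points.map fst y')
    obtain ⟨z, -, hz⟩ := exists_point_of_isPullback sq2 x y' hx
    exact ⟨z, hz⟩
  have hcomp : Points.map (pullback.snd f fst ≫ snd)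
      = Points.map snd ∘ Points.map (pullback.snd f fst) :=
    funext fun x => Points.map_comp _ _ x
  rw [hcomp] at hcl
  change IsClosedMap (Points.map snd)
  intro K hK
  have : Points.map snd '' K
      = (Points.map snd ∘ Points.map (pullback.snd f fst)) ''
        (Points.map (pullback.snd f fst) ⁻¹' K) := by
    rw [Set.image_comp, Set.image_preimage_eq K hsurj]
  rw [this]
  exact hcl _ (hK.preimage (Points.continuous_map _))

/-- If `f ≫ q` is separated and `f` is surjective and universally closed then `q` is separated. -/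
theorem isSeparatedMor_of_surjective_univClosed_comp {X Y B : Sp S} (hX : IsAlgSpace X)
    (hY : IsAlgSpace Y) (f : X ⟶ Y) (q : Y ⟶ B) (hs : IsSurjectiveMor f) (hc : IsUnivClosedMor f)
    (hp : IsSeparatedMor (f ≫ q)) : IsSeparatedMor q := by
  have hrepq : RepWith @LocallyOfFiniteType (pullback.diagonal q) :=
    repWith_diagonal_of_repWith_diag q (repWith_lft_diag hY)
  have hp' : RepWith @IsClosedImmersion (pullback.diagonal (f ≫ q)) := hp
  have hle : (@IsClosedImmersion : MorphismProperty Scheme.{u}) ≤ @UniversallyClosed := by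
    intro A A' g hg
    have : IsClosedImmersion g := hg
    exact (inferInstance : UniversallyClosed g)
  have h1 : IsUnivClosedMor (pullback.diagonal (f ≫ q)) :=
    (repWith_universallyClosed_iff _ hp'.rep).1 (repWith_mono hle _ hp')
  have h2 := isUnivClosedMor_diagonal_of_surjective_univClosed hX hY f q hs hc h1
  have h3 : RepWith @UniversallyClosed (pullback.diagonal q) :=
    (repWith_universallyClosed_iff _ hrepq.rep).2 h2
  obtain ⟨hlft, hmono, hsep, -, -⟩ :=
    repWith_props_of_isPullback_diag hY (isPullback_diagonal_diag q)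
  refine ⟨hrepq.rep, fun T E t ε e sq => ?_⟩
  have i1 : LocallyOfFiniteType e.left := hlft.property _ _ _ sq
  have i2 : Mono e.left := hmono.property _ _ _ sq
  have i3 : IsSeparated e.left := hsep.property _ _ _ sq
  have i4 : UniversallyClosed e.left := h3.property _ _ _ sq
  have i5 : IsProper e.left := ⟨⟩
  exact (IsClosedImmersion.iff_isProper_and_mono e.left).2 ⟨i5, i2⟩

/-- Properness over the base of a closed subspace depends only on its support. -/
theorem proper_of_same_support {X Y Z Z' : Sp S} (hX : IsAlgSpace X) (hY : IsAlgSpace Y)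
    (hZ : IsAlgSpace Z) (hZ' : IsAlgSpace Z') (f : X ⟶ Y) (hf : LocP @LocallyOfFiniteType f)
    (i : Z ⟶ X) (i' : Z' ⟶ X) (hi : RepWith @IsClosedImmersion i) (hi' : RepWith @IsClosedImmersion i')
    (heq : Set.range (Points.map i) = Set.range (Points.map i'))
    (hp : IsProperMor (i ≫ f)) : IsProperMor (i' ≫ f) := by
  have sq := IsPullback.of_hasPullback i i'
  have hW : IsAlgSpace (pullback i i') := isAlgSpace_of_isPullback hZ hX.diag hZ' sq
  have hc1 : RepWith @IsClosedImmersion (pullback.fst i i') :=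
    (RepWith (S := S) @IsClosedImmersion).of_isPullback sq.flip hi'
  have hc2 : RepWith @IsClosedImmersion (pullback.snd i i') :=
    (RepWith (S := S) @IsClosedImmersion).of_isPullback sq hi
  have hs1 : Function.Surjective (Points.map (pullback.fst i i')) := by
    intro z
    have hz : Points.map i z ∈ Set.range (Points.map i') := by rw [← heq]; exact ⟨z, rfl⟩
    obtain ⟨z', hz'⟩ := hz
    obtain ⟨w, hw1, -⟩ := exists_point_of_isPullback sq z z' hz'.symm
    exact ⟨w, hw1⟩
  have hs2 : Function.Surjective (Points.map (pullback.snd i i')) := by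
    intro z'
    have hz : Points.map i' z' ∈ Set.range (Points.map i) := by rw [heq]; exact ⟨z', rfl⟩
    obtain ⟨z, hz⟩ := hz
    obtain ⟨w, -, hw2⟩ := exists_point_of_isPullback sq z z' hz
    exact ⟨w, hw2⟩
  have ht1 := isThickMor_of_closedImmersion_surjective _ hc1 hs1
  have ht2 := isThickMor_of_closedImmersion_surjective _ hc2 hs2
  have hid : IsThickMor (𝟙 Y) := Thick.isThickMor_of_isIso (𝟙 Y)
  have w1 : pullback.fst i i' ≫ (i ≫ f) = (pullback.fst i i' ≫ i ≫ f) ≫ 𝟙 Y := by
    rw [Category.comp_id]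
  have w2 : pullback.snd i i' ≫ (i' ≫ f) = (pullback.fst i i' ≫ i ≫ f) ≫ 𝟙 Y := by
    rw [Category.comp_id, ← Category.assoc, ← Category.assoc, sq.w]
  obtain ⟨-, q1, u1, -, -⟩ := Thick.topological_iff_of_thick hW hZ hY hY _ (𝟙 Y)
    (pullback.fst i i' ≫ i ≫ f) (i ≫ f) ht1 hid w1
  obtain ⟨-, q2, u2, -, -⟩ := Thick.topological_iff_of_thick hW hZ' hY hY _ (𝟙 Y)
    (pullback.fst i i' ≫ i ≫ f) (i' ≫ f) ht2 hid w2
  have s1 := (Thick.separated_iff_of_thick hW hZ hY hY _ (𝟙 Y)
    (pullback.fst i i' ≫ i ≫ f) (i ≫ f) ht1 hid w1).1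
  have s2 := (Thick.separated_iff_of_thick hW hZ' hY hY _ (𝟙 Y)
    (pullback.fst i i' ≫ i ≫ f) (i' ≫ f) ht2 hid w2).1
  obtain ⟨a, ⟨-, c⟩, d⟩ := hp
  refine ⟨s2.1 (s1.2 a), ⟨?_, q2.1 (q1.2 c)⟩, u2.1 (u1.2 d)⟩
  exact locP_comp etLocalST_locallyOfFiniteType hZ' hX hY i' f (locP_lft_of_closedImmersion i' hi') hf

/-- Core of the two image statements. -/
theorem image_proper_core {X Y B Z : Sp S} (hY : IsAlgSpace Y) (hB : IsAlgSpace B)
    (hZ : IsAlgSpace Z) (a : X ⟶ B) (b : Y ⟶ B) (f : X ⟶ Y) (hcomm : f ≫ b = a)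
    (hb : LocP @LocallyOfFiniteType b) (i : Z ⟶ X)
    (hZp : IsProperMor (i ≫ a)) (huc : IsUnivClosedMor (i ≫ f)) :
    IsClosed (Points.map f '' Set.range (Points.map i)) ∧
      ∃ (Z' : Sp S) (_ : IsAlgSpace Z') (i' : Z' ⟶ Y), RepWith @IsClosedImmersion i' ∧
        Set.range (Points.map i') = Points.map f '' Set.range (Points.map i) ∧
        IsProperMor (i' ≫ b) := by
  have himg : Points.map f '' Set.range (Points.map i) = Set.range (Points.map (i ≫ f)) := by
    rw [← Set.range_comp]
    congr 1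
    funext z
    exact (Points.map_comp i f z).symm
  have hcl : IsClosedMap (Points.map (i ≫ f)) := isClosedMor_of_isUnivClosedMor hY huc
  have hclosed : IsClosed (Set.range (Points.map (i ≫ f))) := hcl.isClosed_range
  have hqc : IsQuasiCompactMor (i ≫ f) := isQuasiCompactMor_of_isUnivClosedMor hZ hY (i ≫ f) huc
  obtain ⟨Z', i', hZ', hSch⟩ := SchImg.exists_isSchImage hZ hY (i ≫ f)
  have hci' : RepWith @IsClosedImmersion i' := hSch.1
  obtain ⟨φ', hφ'⟩ := hSch.2.1
  have hsub : Set.range (Points.map i') ⊆ Set.range (Points.map (i ≫ f)) := by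
    have h := SchImg.range_subset_closure_of_isSchImage hZ hY hZ' (i ≫ f) hqc i' hSch
    rwa [hclosed.closure_eq] at h
  have hsup : Set.range (Points.map (i ≫ f)) ⊆ Set.range (Points.map i') := by
    rintro _ ⟨z, rfl⟩
    refine ⟨Points.map φ' z, ?_⟩
    rw [← Points.map_comp, hφ']
  have hrange : Set.range (Points.map i') = Set.range (Points.map (i ≫ f)) :=
    Set.Subset.antisymm hsub hsup
  have hinj := injective_of_closedImmersion hY i' hci'
  have hsurj : Function.Surjective (Points.map φ') := by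
    intro z'
    obtain ⟨z, hz⟩ := hsub ⟨z', rfl⟩
    refine ⟨z, hinj ?_⟩
    rw [← Points.map_comp, hφ']
    exact hz
  haveI : Mono i' := SchImg.mono_of_repWith_isClosedImmersion i' hci'
  have hsep_i' : IsSeparatedMor i' := ZmtSp.isSeparatedMor_of_mono i'
  have huc' : IsUnivClosedMor φ' :=
    isUnivClosedMor_of_comp_of_separated hZ hZ' hY.diag φ' i' hsep_i' (by rw [hφ']; exact huc)
  have htri : φ' ≫ (i' ≫ b) = i ≫ a := by
    rw [← Category.assoc, hφ', Category.assoc, hcomm]
  obtain ⟨psep, ⟨-, pqc⟩, puc⟩ := hZp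
  refine ⟨by rw [himg]; exact hclosed, Z', hZ', i', hci', by rw [himg]; exact hrange, ?_, ⟨?_, ?_⟩, ?_⟩
  · exact isSeparatedMor_of_surjective_univClosed_comp hZ hZ' φ' (i' ≫ b) hsurj huc'
      (by rw [htri]; exact psep)
  · exact locP_comp etLocalST_locallyOfFiniteType hZ' hY hB i' b (locP_lft_of_closedImmersion i' hci') hb
  · exact isQuasiCompactMor_of_surjective_comp hZ' hB.diag φ' (i' ≫ b) hsurj (by rw [htri]; exact pqc)
  · exact isUnivClosedMor_of_surjective_comp φ' (i' ≫ b) hsurj (by rw [htri]; exact puc)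

/-- **S10760**. -/
theorem main10760 {X Y Z Z' : AlgSp.Space S}
    (f : X ⟶ Y) (hf : AlgSp.LocP @LocallyOfFiniteType f.hom)
    (i : Z ⟶ X) (i' : Z' ⟶ X)
    (hi : AlgSp.RepWith @IsClosedImmersion i.hom) (hi' : AlgSp.RepWith @IsClosedImmersion i'.hom)
    (heq : Set.range (AlgSp.Points.map i.hom) = Set.range (AlgSp.Points.map i'.hom))
    (hZ : AlgSp.IsProperMor (i ≫ f).hom) :
    AlgSp.IsProperMor (i' ≫ f).hom :=
  proper_of_same_support X.property Y.property Z.property Z'.property f.hom hf i.hom i'.hom hi hi' heq hZ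

/-- **S10762**. -/
theorem main10762 {X Y B Z : AlgSp.Space S}
    (a : X ⟶ B) (b : Y ⟶ B) (f : X ⟶ Y) (hcomm : f ≫ b = a)
    (ha : AlgSp.LocP @LocallyOfFiniteType a.hom) (hb : AlgSp.LocP @LocallyOfFiniteType b.hom)
    (hbs : AlgSp.IsSeparatedMor b.hom)
    (i : Z ⟶ X) (hi : AlgSp.RepWith @IsClosedImmersion i.hom) (hZ : AlgSp.IsProperMor (i ≫ a).hom) :
    IsClosed (AlgSp.Points.map f.hom '' Set.range (AlgSp.Points.map i.hom)) ∧
      ∃ (Z' : AlgSp.Space S) (i' : Z' ⟶ Y), AlgSp.RepWith @IsClosedImmersion i'.hom ∧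
        Set.range (AlgSp.Points.map i'.hom) = AlgSp.Points.map f.hom '' Set.range (AlgSp.Points.map i.hom) ∧
        AlgSp.IsProperMor (i' ≫ b).hom := by
  have hc : f.hom ≫ b.hom = a.hom := congrArg (fun t => t.hom) hcomm
  have hZ' : IsProperMor (i.hom ≫ a.hom) := hZ
  have huc : IsUnivClosedMor (i.hom ≫ f.hom) := by
    apply isUnivClosedMor_of_comp_of_separated Z.property Y.property B.property.diag (i.hom ≫ f.hom) b.hom hbs
    rw [Category.assoc, hc]
    exact hZ'.2.2
  obtain ⟨h1, Z', hZ'a, i', h2, h3, h4⟩ := image_proper_core Y.property B.property Z.property a.hom b.hom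
    f.hom hc hb i.hom hZ' huc
  exact ⟨h1, ⟨Z', hZ'a⟩, ObjectProperty.homMk i', h2, h3, h4⟩

/-- **S10763**. -/
theorem main10763 {X Y B Z : AlgSp.Space S}
    (a : X ⟶ B) (b : Y ⟶ B) (f : X ⟶ Y) (hcomm : f ≫ b = a)
    (ha : AlgSp.LocP @LocallyOfFiniteType a.hom) (hb : AlgSp.LocP @LocallyOfFiniteType b.hom)
    (hfc : AlgSp.IsUnivClosedMor f.hom)
    (i : Z ⟶ X) (hi : AlgSp.RepWith @IsClosedImmersion i.hom) (hZ : AlgSp.IsProperMor (i ≫ a).hom) :
    IsClosed (AlgSp.Points.map f.hom '' Set.range (AlgSp.Points.map i.hom)) ∧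
      ∃ (Z' : AlgSp.Space S) (i' : Z' ⟶ Y), AlgSp.RepWith @IsClosedImmersion i'.hom ∧
        Set.range (AlgSp.Points.map i'.hom) = AlgSp.Points.map f.hom '' Set.range (AlgSp.Points.map i.hom) ∧
        AlgSp.IsProperMor (i' ≫ b).hom := by
  have hc : f.hom ≫ b.hom = a.hom := congrArg (fun t => t.hom) hcomm
  have hZ' : IsProperMor (i.hom ≫ a.hom) := hZ
  have huc : IsUnivClosedMor (i.hom ≫ f.hom) :=
    isUnivClosedMor_comp X.property Y.property.diag i.hom f.hom
      (isUnivClosedMor_of_repWith_isClosedImmersion i.hom hi) hfc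
  obtain ⟨h1, Z', hZ'a, i', h2, h3, h4⟩ := image_proper_core Y.property B.property Z.property a.hom b.hom
    f.hom hc hb i.hom hZ' huc
  exact ⟨h1, ⟨Z', hZ'a⟩, ObjectProperty.homMk i', h2, h3, h4⟩

end Groth.Agent.Lib.Helper6.ProperSub
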