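import Groth.Agent.Lib.Helper6.ProperSub
import Groth.Agent.S10192

/-!
# Helper library (helper6): a finite union of closed subspaces proper over the base is proper over the base
-/

set_option autoImplicit false
universe u
open CategoryTheory CategoryTheory.Limits AlgebraicGeometry AlgSp

namespace Groth.Agent.Lib.Helper6.ProperUnion

open Groth.Agent.Lib.Helper16 Groth.Agent.Lib.Helper17 Groth.Agent.Lib.Helper6.ThickAlgSp
  Groth.Agent.Lib.Helper6.ProperSub

variable {S : Scheme.{u}}

/-- Family version: if all `f k ≫ q` are universally closed and the `f k` are jointly surjective (finite family)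
then `q` is universally closed. -/
theorem isUnivClosedMor_of_jointly_surjective {ι : Type*} [Finite ι] {X : ι → Sp S} {Y B : Sp S}
    (f : ∀ k, X k ⟶ Y) (q : Y ⟶ B)
    (hf : ∀ y : Points Y, ∃ k, y ∈ Set.range (Points.map (f k)))
    (hp : ∀ k, IsUnivClosedMor (f k ≫ q)) : IsUnivClosedMor q := by
  intro W W' hW t fst snd sq
  have sq2 := fun k => IsPullback.of_hasPullback (f k) fst
  have hcl : ∀ k, IsClosedMap (Points.map (pullback.snd (f k) fst ≫ snd)) := fun k =>
    hp k hW t _ _ ((sq2 k).paste_vert sq)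
  change IsClosedMap (Points.map snd)
  intro K hK
  have hU : Points.map snd '' K = ⋃ k, Points.map (pullback.snd (f k) fst ≫ snd) ''
      (Points.map (pullback.snd (f k) fst) ⁻¹' K) := by
    ext b
    simp only [Set.mem_image, Set.mem_iUnion, Set.mem_preimage]
    constructor
    · rintro ⟨y', hy', rfl⟩
      obtain ⟨k, x, hx⟩ := hf (Points.map fst y')
      obtain ⟨z, -, hz⟩ := exists_point_of_isPullback (sq2 k) x y' hx
      exact ⟨k, z, by rw [hz]; exact hy', by rw [Points.map_comp, hz]⟩
    · rintro ⟨k, z, hz, rfl⟩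
      exact ⟨_, hz, (Points.map_comp _ _ z).symm⟩
  rw [hU]
  exact isClosed_iUnion_of_finite fun k => hcl k _ (hK.preimage (Points.continuous_map _))

/-- Family version for quasi-compactness. -/
theorem isQuasiCompactMor_of_jointly_surjective {ι : Type*} [Finite ι] {X : ι → Sp S} {Y Z₀ : Sp S}
    (hY : IsAlgSpace Y) (hZ₀ : Representable (Limits.diag Z₀)) (f : ∀ k, X k ⟶ Y) (q : Y ⟶ Z₀)
    (hf : ∀ y : Points Y, ∃ k, y ∈ Set.range (Points.map (f k)))
    (hp : ∀ k, IsQuasiCompactMor (f k ≫ q)) : IsQuasiCompactMor q := by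
  intro Z Y' hZ hZq g fstY sndY sqY
  have hY' : IsAlgSpace Y' := isAlgSpace_of_isPullback hY hZ₀ hZ sqY
  have key : ∀ k, ∃ K : Set (Points Y'), IsCompact K ∧
      ∀ y' : Points Y', Points.map fstY y' ∈ Set.range (Points.map (f k)) → y' ∈ K := by
    intro k
    have sqX := IsPullback.of_hasPullback (f k ≫ q) g
    have hX' : IsQuasiCompactSp (pullback (f k ≫ q) g) := hp k hZ hZq g _ _ sqX
    have hw : (pullback.fst (f k ≫ q) g ≫ f k) ≫ q = pullback.snd (f k ≫ q) g ≫ g := by
      rw [Category.assoc, pullback.condition]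
    have sqm : IsPullback (sqY.lift (pullback.fst (f k ≫ q) g ≫ f k) (pullback.snd (f k ≫ q) g) hw)
        (pullback.fst (f k ≫ q) g) fstY (f k) := by
      refine IsPullback.of_right ?_ (sqY.lift_fst _ _ _) sqY.flip
      rw [sqY.lift_snd]
      exact sqX.flip
    have := compactSpace_points_of_isQuasiCompactSp hX'
    refine ⟨Set.range (Points.map
      (sqY.lift (pullback.fst (f k ≫ q) g ≫ f k) (pullback.snd (f k ≫ q) g) hw)),
      isCompact_range (Points.continuous_map _), ?_⟩
    rintro y' ⟨x, hx⟩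
    obtain ⟨x', hx'1, -⟩ := exists_point_of_isPullback sqm y' x hx.symm
    exact ⟨x', hx'1⟩
  choose K hK1 hK2 using key
  have : CompactSpace (Points Y') := by
    constructor
    have h1 : IsCompact (⋃ k, K k) := isCompact_iUnion hK1
    have h2 : (⋃ k, K k) = Set.univ := by
      apply Set.eq_univ_of_forall
      intro y'
      obtain ⟨k, hk⟩ := hf (Points.map fstY y')
      exact Set.mem_iUnion.2 ⟨k, hK2 k y' hk⟩
    rwa [h2] at h1
  exact isQuasiCompactSp_of_compactSpace hY'

/-- Family version: universal closedness of the diagonal. -/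
theorem isUnivClosedMor_diagonal_of_jointly_surjective {ι : Type*} [Finite ι] {X : ι → Sp S}
    {Y B : Sp S} (hX : ∀ k, IsAlgSpace (X k)) (hY : IsAlgSpace Y) (f : ∀ k, X k ⟶ Y) (q : Y ⟶ B)
    (hs : ∀ y : Points Y, ∃ k, y ∈ Set.range (Points.map (f k)))
    (hc : ∀ k, IsUnivClosedMor (f k))
    (hp : ∀ k, IsUnivClosedMor (pullback.diagonal (f k ≫ q))) :
    IsUnivClosedMor (pullback.diagonal q) := by
  intro Z E hZ z ε e sqE
  show IsClosedMap (Points.map e)
  have key : ∀ k, ∀ C : Set (Points E), IsClosed C →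
      IsClosed (Points.map e '' (C ∩ {y' | Points.map ε y' ∈ Set.range (Points.map (f k))})) := by
    intro k C hC
    obtain ⟨Z', Z'', W, a', ζ', a'', ζ'', w₁, π, l, χ, sq', sq'', sqW, sqΔ, hl⟩ :=
      exists_diag_factor (f k) q z sqE
    have hZ' : IsAlgSpace Z' := isAlgSpace_of_isPullback (hX k) hY.diag hZ sq'
    have hZ'' : IsAlgSpace Z'' := isAlgSpace_of_isPullback (hX k) hY.diag hZ' sq''
    have hζ' : IsClosedMap (Points.map ζ') := hc k hZ _ _ _ sq'
    have hζ'' : IsClosedMap (Points.map ζ'') := hc k hZ' _ _ _ sq''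
    have hlc : IsClosedMap (Points.map l) := hp k hZ'' χ w₁ l sqΔ
    have hcomp : ∀ w : Points W, Points.map e (Points.map π w) =
        Points.map ζ' (Points.map ζ'' (Points.map l w)) := by
      intro w
      rw [← Points.map_comp, ← Points.map_comp, ← Points.map_comp, hl]
    have hpre : IsClosed (Points.map π ⁻¹' C) := hC.preimage (Points.continuous_map π)
    have himg : Points.map e '' (C ∩ {y' | Points.map ε y' ∈ Set.range (Points.map (f k))})
        = Points.map ζ' '' (Points.map ζ'' '' (Points.map l '' (Points.map π ⁻¹' C))) := by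
      ext y
      constructor
      · rintro ⟨c, ⟨hcC, x, hx⟩, rfl⟩
        obtain ⟨w, -, hw⟩ := exists_point_of_isPullback sqW x c hx
        subst hw
        exact ⟨_, ⟨_, ⟨w, hcC, rfl⟩, rfl⟩, (hcomp w).symm⟩
      · rintro ⟨_, ⟨_, ⟨w, hw, rfl⟩, rfl⟩, rfl⟩
        refine ⟨Points.map π w, ⟨hw, Points.map w₁ w, ?_⟩, hcomp w⟩
        rw [← Points.map_comp, ← Points.map_comp, sqW.w]
    rw [himg]
    exact hζ' _ (hζ'' _ (hlc _ hpre))
  intro C hC
  have hU : Points.map e '' C =
      ⋃ k, Points.map e '' (C ∩ {y' | Points.map ε y' ∈ Set.range (Points.map (f k))}) := by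
    ext y
    simp only [Set.mem_image, Set.mem_iUnion]
    constructor
    · rintro ⟨c, hcC, rfl⟩
      obtain ⟨k, hk⟩ := hs (Points.map ε c)
      exact ⟨k, c, ⟨hcC, hk⟩, rfl⟩
    · rintro ⟨k, c, ⟨hcC, -⟩, rfl⟩
      exact ⟨c, hcC, rfl⟩
  rw [hU]
  exact isClosed_iUnion_of_finite fun k => key k C hC

/-- Family version: separatedness. -/
theorem isSeparatedMor_of_jointly_surjective {ι : Type*} [Finite ι] {X : ι → Sp S} {Y B : Sp S}
    (hX : ∀ k, IsAlgSpace (X k)) (hY : IsAlgSpace Y) (f : ∀ k, X k ⟶ Y) (q : Y ⟶ B)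
    (hs : ∀ y : Points Y, ∃ k, y ∈ Set.range (Points.map (f k)))
    (hc : ∀ k, IsUnivClosedMor (f k)) (hp : ∀ k, IsSeparatedMor (f k ≫ q)) : IsSeparatedMor q := by
  have hrepq : RepWith @LocallyOfFiniteType (pullback.diagonal q) :=
    repWith_diagonal_of_repWith_diag q (repWith_lft_diag hY)
  have hle : (@IsClosedImmersion : MorphismProperty Scheme.{u}) ≤ @UniversallyClosed := by
    intro A A' g hg
    have : IsClosedImmersion g := hg
    exact (inferInstance : UniversallyClosed g)
  have h1 : ∀ k, IsUnivClosedMor (pullback.diagonal (f k ≫ q)) := fun k => by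
    have hp' : RepWith @IsClosedImmersion (pullback.diagonal (f k ≫ q)) := hp k
    exact (repWith_universallyClosed_iff _ hp'.rep).1 (repWith_mono hle _ hp')
  have h2 := isUnivClosedMor_diagonal_of_jointly_surjective hX hY f q hs hc h1
  have h3 : RepWith @UniversallyClosed (pullback.diagonal q) :=
    (repWith_universallyClosed_iff _ hrepq.rep).2 h2
  obtain ⟨hlft, hmono, hsep, -, -⟩ :=
    repWith_props_of_isPullback_diag hY (isPullback_diagonal_diag q)
  refine ⟨hrepq.rep, fun T E t ε e sq => ?_⟩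
  have i1 : LocallyOfFiniteType e.left := hlft.property _ _ _ sq
  have i2 : Mono e.left := hmono.property _ _ _ sq
  have i3 : IsSeparated e.left := hsep.property _ _ _ sq
  have i4 : UniversallyClosed e.left := h3.property _ _ _ sq
  have i5 : IsProper e.left := ⟨⟩
  exact (IsClosedImmersion.iff_isProper_and_mono e.left).2 ⟨i5, i2⟩

/-- **S10765**. -/
theorem main10765 {X Y : AlgSp.Space S}
    (f : X ⟶ Y) (hf : AlgSp.LocP @LocallyOfFiniteType f.hom)
    {n : ℕ} (Z : Fin n → AlgSp.Space S) (i : ∀ k, Z k ⟶ X)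
    (hi : ∀ k, AlgSp.RepWith @IsClosedImmersion (i k).hom) (hZ : ∀ k, AlgSp.IsProperMor (i k ≫ f).hom) :
    ∃ (W : AlgSp.Space S) (j : W ⟶ X), AlgSp.RepWith @IsClosedImmersion j.hom ∧
      Set.range (AlgSp.Points.map j.hom) = ⋃ k, Set.range (AlgSp.Points.map (i k).hom) ∧
      AlgSp.IsProperMor (j ≫ f).hom := by
  have hcl : ∀ k, IsClosed (Set.range (Points.map (i k).hom)) := fun k =>
    (isClosedMor_of_isUnivClosedMor X.property
      (isUnivClosedMor_of_repWith_isClosedImmersion (i k).hom (hi k))).isClosed_range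
  have hT : IsClosed (⋃ k, Set.range (Points.map (i k).hom)) := isClosed_iUnion_of_finite hcl
  obtain ⟨W, j, hjc, hjr, -⟩ := Groth.Agent.S10192.result X _ hT
  refine ⟨W, j, hjc, hjr, ?_⟩
  let P : Fin n → Sp S := fun k => pullback j.hom (i k).hom
  let p : ∀ k, P k ⟶ W.obj := fun k => pullback.fst j.hom (i k).hom
  have sq : ∀ k, IsPullback (p k) (pullback.snd j.hom (i k).hom) j.hom (i k).hom :=
    fun k => IsPullback.of_hasPullback _ _
  have hP : ∀ k, IsAlgSpace (P k) := fun k =>
    isAlgSpace_of_isPullback W.property X.property.diag (Z k).property (sq k)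
  have hpc : ∀ k, RepWith @IsClosedImmersion (p k) := fun k =>
    (RepWith (S := S) @IsClosedImmersion).of_isPullback (sq k).flip (hi k)
  have hjoint : ∀ w : Points W.obj, ∃ k, w ∈ Set.range (Points.map (p k)) := by
    intro w
    have hw : Points.map j.hom w ∈ ⋃ k, Set.range (Points.map (i k).hom) := by
      rw [← hjr]; exact ⟨w, rfl⟩
    obtain ⟨k, z, hz⟩ := Set.mem_iUnion.1 hw
    obtain ⟨x, hx1, -⟩ := exists_point_of_isPullback (sq k) w z hz.symm
    exact ⟨k, x, hx1⟩
  have hprop : ∀ k, IsProperMor (p k ≫ (j ≫ f).hom) := by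
    intro k
    have hcomp : RepWith @IsClosedImmersion (p k ≫ j.hom) :=
      (RepWith (S := S) @IsClosedImmersion).comp_mem _ _ (hpc k) hjc
    have hrange : Set.range (Points.map (i k).hom) = Set.range (Points.map (p k ≫ j.hom)) := by
      apply Set.Subset.antisymm
      · rintro _ ⟨z, rfl⟩
        have hw : Points.map (i k).hom z ∈ Set.range (Points.map j.hom) := by
          rw [hjr]; exact Set.mem_iUnion.2 ⟨k, z, rfl⟩
        obtain ⟨w, hw⟩ := hw
        obtain ⟨x, -, hx2⟩ := exists_point_of_isPullback (sq k) w z hw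
        refine ⟨x, ?_⟩
        rw [(sq k).w, Points.map_comp, hx2]
      · rintro _ ⟨x, rfl⟩
        refine ⟨Points.map (pullback.snd j.hom (i k).hom) x, ?_⟩
        rw [← Points.map_comp, ← (sq k).w]
    have h := proper_of_same_support X.property Y.property (Z k).property (hP k) f.hom hf (i k).hom
      (p k ≫ j.hom) (hi k) hcomp hrange (hZ k)
    have e : p k ≫ (j ≫ f).hom = (p k ≫ j.hom) ≫ f.hom := by
      rw [Category.assoc]; rfl
    rw [e]; exact h
  refine ⟨?_, ⟨?_, ?_⟩, ?_⟩
  · exact isSeparatedMor_of_jointly_surjective hP W.property p (j ≫ f).hom hjoint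
      (fun k => isUnivClosedMor_of_repWith_isClosedImmersion (p k) (hpc k)) (fun k => (hprop k).1)
  · exact locP_comp etLocalST_locallyOfFiniteType W.property X.property Y.property j.hom f.hom
      (locP_lft_of_closedImmersion j.hom hjc) hf
  · exact isQuasiCompactMor_of_jointly_surjective W.property Y.property.diag p (j ≫ f).hom hjoint
      (fun k => (hprop k).2.1.2)
  · exact isUnivClosedMor_of_jointly_surjective p (j ≫ f).hom hjoint (fun k => (hprop k).2.2)

end Groth.Agent.Lib.Helper6.ProperUnion
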