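import Mathlib
import Groth.Statements.S5104

/-! A pseudo-morphism is defined at a point iff its restriction to the local scheme is
everywhere defined. -/

set_option autoImplicit false
set_option linter.style.haveILetI false
universe u
open CategoryTheory CategoryTheory.Limits AlgebraicGeometry TopologicalSpace

namespace Groth.Agent.Lib.Helper6.PseudoExt

/-! ### Local equality of morphisms -/

theorem hom_ext_of_locally {T Y : Scheme.{u}} (f g : T ⟶ Y)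
    (H : ∀ z : T, ∃ O : T.Opens, z ∈ O ∧ O.ι ≫ f = O.ι ≫ g) : f = g := by
  choose O hzO hO using H
  have hcov : IsOpenCover O := by
    show (⨆ z, O z) = ⊤
    rw [eq_top_iff]
    intro z _
    exact Opens.mem_iSup.mpr ⟨z, hzO z⟩
  exact (T.openCoverOfIsOpenCover O hcov).hom_ext f g (fun z => hO z)

/-- the largest open on which two morphisms agree. -/
theorem exists_agree_open {T Y : Scheme.{u}} (f g : T ⟶ Y) :
    ∃ Ag : T.Opens, Ag.ι ≫ f = Ag.ι ≫ g ∧ ∀ O : T.Opens, O.ι ≫ f = O.ι ≫ g → O ≤ Ag := by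
  obtain ⟨Ag, hAgdef⟩ : ∃ Ag : T.Opens, Ag = sSup {O : T.Opens | O.ι ≫ f = O.ι ≫ g} := ⟨_, rfl⟩
  refine ⟨Ag, ?_, fun O hO => hAgdef ▸ le_sSup hO⟩
  apply hom_ext_of_locally
  intro z
  have hz : z.1 ∈ sSup {O : T.Opens | O.ι ≫ f = O.ι ≫ g} := hAgdef ▸ z.2
  obtain ⟨O, hO, hzO⟩ : ∃ O : T.Opens, O ∈ {O : T.Opens | O.ι ≫ f = O.ι ≫ g} ∧ z.1 ∈ O :=
    Opens.mem_sSup.mp hz
  refine ⟨Ag.ι ⁻¹ᵁ O, hzO, ?_⟩
  have e := morphismRestrict_ι Ag.ι O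
  have hO' : O.ι ≫ f = O.ι ≫ g := hO
  calc (Ag.ι ⁻¹ᵁ O).ι ≫ Ag.ι ≫ f = ((Ag.ι ⁻¹ᵁ O).ι ≫ Ag.ι) ≫ f := (Category.assoc _ _ _).symm
    _ = (Ag.ι ∣_ O ≫ O.ι) ≫ f := by rw [e]
    _ = Ag.ι ∣_ O ≫ (O.ι ≫ g) := by rw [Category.assoc, hO']
    _ = ((Ag.ι ⁻¹ᵁ O).ι ≫ Ag.ι) ≫ g := by rw [← Category.assoc, e]
    _ = _ := Category.assoc _ _ _

/-! ### The easy direction -/

theorem forward {X Y S : Scheme.{u}} (pX : X ⟶ S) (pY : Y ⟶ S) (U : X.Opens)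
    (h : (U : Scheme.{u}) ⟶ Y) (x : X)
    (V : X.Opens) (v : (V : Scheme.{u}) ⟶ Y) (hxV : x ∈ V) (hv : v ≫ pY = V.ι ≫ pX)
    (hvh : X.homOfLE (inf_le_right : U ⊓ V ≤ V) ≫ v =
      X.homOfLE (inf_le_left : U ⊓ V ≤ U) ≫ h) :
    ∃ w : Spec (X.presheaf.stalk x) ⟶ Y, w ≫ pY = X.fromSpecStalk x ≫ pX ∧
        pullback.fst (X.fromSpecStalk x) U.ι ≫ w =
          pullback.snd (X.fromSpecStalk x) U.ι ≫ h := by
  refine ⟨V.fromSpecStalkOfMem x hxV ≫ v, ?_, ?_⟩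
  · rw [Category.assoc, hv, Scheme.Opens.fromSpecStalkOfMem_ι_assoc]
  · have hrange : Set.range (pullback.snd (X.fromSpecStalk x) U.ι ≫ U.ι) ⊆
        Set.range (U ⊓ V).ι := by
      rintro _ ⟨z, rfl⟩
      rw [Scheme.Opens.range_ι]
      refine ⟨?_, ?_⟩
      · exact (pullback.snd (X.fromSpecStalk x) U.ι z).2
      · have h1 : (pullback.snd (X.fromSpecStalk x) U.ι ≫ U.ι) z =
            (X.fromSpecStalk x) (pullback.fst (X.fromSpecStalk x) U.ι z) := by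
          rw [← pullback.condition]; rfl
        have h2 : (X.fromSpecStalk x) (pullback.fst (X.fromSpecStalk x) U.ι z) ∈
            Set.range (X.fromSpecStalk x) := ⟨_, rfl⟩
        rw [Scheme.range_fromSpecStalk] at h2
        rw [h1]
        exact h2.mem_open V.2 hxV
    obtain ⟨c, hc⟩ : ∃ c : pullback (X.fromSpecStalk x) U.ι ⟶ (U ⊓ V).toScheme,
        c ≫ (U ⊓ V).ι = pullback.snd (X.fromSpecStalk x) U.ι ≫ U.ι :=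
      ⟨IsOpenImmersion.lift (U ⊓ V).ι _ hrange, IsOpenImmersion.lift_fac _ _ _⟩
    have hc1 : c ≫ X.homOfLE (inf_le_left : U ⊓ V ≤ U) =
        pullback.snd (X.fromSpecStalk x) U.ι := by
      rw [← cancel_mono U.ι, Category.assoc, X.homOfLE_ι, hc]
    have hc2 : c ≫ X.homOfLE (inf_le_right : U ⊓ V ≤ V) =
        pullback.fst (X.fromSpecStalk x) U.ι ≫ V.fromSpecStalkOfMem x hxV := by
      rw [← cancel_mono V.ι, Category.assoc, X.homOfLE_ι, hc, Category.assoc,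
        Scheme.Opens.fromSpecStalkOfMem_ι, pullback.condition]
    rw [← Category.assoc, ← hc2, Category.assoc, hvh, ← Category.assoc, hc1]

/-! ### Germ injectivity for reduced schemes with locally finitely many components -/

theorem exists_nhd_components_through (X : Scheme.{u}) (x : X) (W : X.Opens) (hxW : x ∈ W)
    (hfin : {Z : Set X | Z ∈ irreducibleComponents X ∧ (Z ∩ (W : Set X)).Nonempty}.Finite) :
    ∃ N : X.Opens, x ∈ N ∧ N ≤ W ∧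
      ∀ Z ∈ irreducibleComponents X, (Z ∩ (N : Set X)).Nonempty → x ∈ Z := by
  have hFcl : IsClosed (⋃₀ {Z : Set X |
      (Z ∈ irreducibleComponents X ∧ (Z ∩ (W : Set X)).Nonempty) ∧ x ∉ Z}) := by
    rw [Set.sUnion_eq_biUnion]
    exact Set.Finite.isClosed_biUnion (hfin.subset fun Z hZ => hZ.1)
      (fun Z hZ => isClosed_of_mem_irreducibleComponents Z hZ.1.1)
  refine ⟨W ⊓ ⟨_, hFcl.isOpen_compl⟩, ⟨hxW, ?_⟩, inf_le_left, ?_⟩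
  · rintro ⟨Z, hZ, hxZ⟩
    exact hZ.2 hxZ
  · rintro Z hZ ⟨z, hzZ, hzW, hzF⟩
    by_contra hxZ
    exact hzF ⟨Z, ⟨⟨hZ, ⟨z, hzZ, hzW⟩⟩, hxZ⟩, hzZ⟩

theorem isGermInjectiveAt_of_reduced (X : Scheme.{u}) [IsReduced X] (x : X) (N : X.Opens)
    (hxN : x ∈ N)
    (hN : ∀ Z ∈ irreducibleComponents X, (Z ∩ (N : Set X)).Nonempty → x ∈ Z) :
    X.IsGermInjectiveAt x := by
  obtain ⟨_, ⟨A, hA, rfl⟩, hxA, hAN⟩ :=
    X.isBasis_affineOpens.exists_subset_of_mem_open hxN N.2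
  refine ⟨⟨A, hxA, hA, ?_⟩⟩
  refine (injective_iff_map_eq_zero (X.presheaf.germ A x hxA).hom).mpr ?_
  intro s hs
  obtain ⟨O, hxO, iU, iV, e⟩ := X.presheaf.germ_eq x hxA hxA s 0 (hs.trans (map_zero _).symm)
  rw [map_zero] at e
  rw [← basicOpen_eq_bot_iff, eq_bot_iff]
  intro ξ hξ
  exfalso
  have hξA : ξ ∈ A := X.basicOpen_le s hξ
  obtain ⟨Z, hZ, hξZ⟩ :=
    exists_mem_irreducibleComponents_subset_of_isIrreducible {ξ} isIrreducible_singleton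
  have hξZ' : ξ ∈ Z := hξZ rfl
  have hxZ : x ∈ Z := hN Z hZ ⟨ξ, hξZ', hAN hξA⟩
  obtain ⟨ζ, hζZ, hζ1, hζ2⟩ := hZ.1.2 (X.basicOpen s) O (X.basicOpen s).2 O.2
    ⟨ξ, hξZ', hξ⟩ ⟨x, hxZ, hxO⟩
  have hmem : ζ ∈ X.basicOpen (X.presheaf.map iU.op s) := by
    rw [Scheme.basicOpen_res]; exact ⟨hζ2, hζ1⟩
  rw [e, Scheme.basicOpen_zero] at hmem
  exact Opens.mem_bot.mp hmem

/-! ### Agreement at generizations -/

theorem agree_at_generization {X Y : Scheme.{u}} (U V₀ : X.Opens)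
    (h : (U : Scheme.{u}) ⟶ Y) (v₀ : (V₀ : Scheme.{u}) ⟶ Y) (x : X) (hxV₀ : x ∈ V₀)
    (w : Spec (X.presheaf.stalk x) ⟶ Y)
    (hw : w = V₀.fromSpecStalkOfMem x hxV₀ ≫ v₀)
    (hwh : pullback.fst (X.fromSpecStalk x) U.ι ≫ w =
      pullback.snd (X.fromSpecStalk x) U.ι ≫ h)
    (z : ↑(U ⊓ V₀)) (hz : (U ⊓ V₀).ι z ⤳ x) :
    (U ⊓ V₀).toScheme.fromSpecStalk z ≫ (X.homOfLE (inf_le_right : U ⊓ V₀ ≤ V₀) ≫ v₀) =
      (U ⊓ V₀).toScheme.fromSpecStalk z ≫ (X.homOfLE (inf_le_left : U ⊓ V₀ ≤ U) ≫ h) := by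
  obtain ⟨a, ha⟩ : ∃ a : Spec ((U ⊓ V₀).toScheme.presheaf.stalk z) ⟶ Spec (X.presheaf.stalk x),
      a ≫ X.fromSpecStalk x = (U ⊓ V₀).toScheme.fromSpecStalk z ≫ (U ⊓ V₀).ι := by
    refine ⟨Spec.map ((U ⊓ V₀).ι.stalkMap z) ≫ Spec.map (X.presheaf.stalkSpecializes hz), ?_⟩
    rw [Category.assoc, Scheme.SpecMap_stalkSpecializes_fromSpecStalk,
      Scheme.SpecMap_stalkMap_fromSpecStalk]
  have hb : ((U ⊓ V₀).toScheme.fromSpecStalk z ≫ X.homOfLE (inf_le_left : U ⊓ V₀ ≤ U)) ≫ U.ι =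
      a ≫ X.fromSpecStalk x := by
    rw [Category.assoc, X.homOfLE_ι, ha]
  have h1 : a ≫ w =
      ((U ⊓ V₀).toScheme.fromSpecStalk z ≫ X.homOfLE (inf_le_left : U ⊓ V₀ ≤ U)) ≫ h := by
    have := congrArg (fun t => pullback.lift a _ hb.symm ≫ t) hwh
    simpa only [pullback.lift_fst_assoc, pullback.lift_snd_assoc] using this
  have h2 : a ≫ V₀.fromSpecStalkOfMem x hxV₀ =
      (U ⊓ V₀).toScheme.fromSpecStalk z ≫ X.homOfLE (inf_le_right : U ⊓ V₀ ≤ V₀) := by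
    rw [← cancel_mono V₀.ι, Category.assoc, Category.assoc, Scheme.Opens.fromSpecStalkOfMem_ι,
      X.homOfLE_ι, ha]
  calc (U ⊓ V₀).toScheme.fromSpecStalk z ≫ (X.homOfLE (inf_le_right : U ⊓ V₀ ≤ V₀) ≫ v₀)
      = (a ≫ V₀.fromSpecStalkOfMem x hxV₀) ≫ v₀ := by rw [h2, Category.assoc]
    _ = a ≫ w := by rw [hw, Category.assoc]
    _ = _ := by rw [h1, Category.assoc]

/-! ### The topological inputs -/

theorem exists_nhd_of_noetherian (X : Scheme.{u}) [IsLocallyNoetherian X] (Wo G : X.Opens)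
    (x : X) (hgen : ∀ ξ : X, ξ ∈ Wo → ξ ⤳ x → ξ ∈ G) :
    ∃ V : X.Opens, x ∈ V ∧ V ⊓ Wo ≤ G := by
  obtain ⟨A, hA, hxA⟩ : ∃ A : X.Opens, IsAffineOpen A ∧ x ∈ A := by
    obtain ⟨_, ⟨A, hA, rfl⟩, hxA, -⟩ :=
      X.isBasis_affineOpens.exists_subset_of_mem_open (Set.mem_univ x) isOpen_univ
    exact ⟨A, hA, hxA⟩
  haveI : IsNoetherianRing Γ(X, A) := IsLocallyNoetherian.component_noetherian ⟨A, hA⟩
  haveI : NoetherianSpace A.toScheme := noetherianSpace_of_isAffineOpen A hA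
  have hD : IsClosed {a : A.toScheme | A.ι a ∉ G} :=
    (G.2.preimage A.ι.continuous).isClosed_compl
  obtain ⟨Sfam, hSfin, hScl, hSirr, hDS⟩ :=
    NoetherianSpace.exists_finite_set_isClosed_irreducible hD
  have hFcl : IsClosed (⋃₀ {t : Set A.toScheme | t ∈ Sfam ∧ ∃ a ∈ t, A.ι a ∈ Wo}) := by
    rw [Set.sUnion_eq_biUnion]
    exact Set.Finite.isClosed_biUnion (hSfin.subset fun t ht => ht.1) (fun t ht => hScl t ht.1)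
  obtain ⟨x', hx'⟩ : ∃ x' : A.toScheme, A.ι x' = x := ⟨⟨x, hxA⟩, rfl⟩
  have hxF : x' ∉ ⋃₀ {t : Set A.toScheme | t ∈ Sfam ∧ ∃ a ∈ t, A.ι a ∈ Wo} := by
    rintro ⟨t, ⟨htS, a, hat, haW⟩, hxt⟩
    obtain ⟨ξ, hξ⟩ := QuasiSober.sober (hSirr t htS) (hScl t htS)
    have hξD : ξ ∈ {a : A.toScheme | A.ι a ∉ G} := by rw [hDS]; exact ⟨t, htS, hξ.mem⟩
    have h1 : A.ι ξ ⤳ A.ι a := (hξ.specializes hat).map A.ι.continuous
    have h2 : A.ι ξ ⤳ x := hx' ▸ (hξ.specializes hxt).map A.ι.continuous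
    exact hξD (hgen _ (h1.mem_open Wo.2 haW) h2)
  refine ⟨A.ι ''ᵁ ⟨(⋃₀ {t : Set A.toScheme | t ∈ Sfam ∧ ∃ a ∈ t, A.ι a ∈ Wo})ᶜ,
    hFcl.isOpen_compl⟩, ⟨x', hxF, hx'⟩, ?_⟩
  rintro y ⟨⟨a, haF, rfl⟩, hyW⟩
  by_contra hyG
  have hmem : a ∈ {a : A.toScheme | A.ι a ∉ G} := hyG
  rw [hDS] at hmem
  obtain ⟨t, htS, hat⟩ := hmem
  exact haF ⟨t, ⟨htS, a, hat, hyW⟩, hat⟩

theorem dense_of_components (X : Scheme.{u}) (Wo G N : X.Opens) (x : X)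
    (hN : ∀ Z ∈ irreducibleComponents X, (Z ∩ (N : Set X)).Nonempty → x ∈ Z)
    (hgen : ∀ ξ : X, ξ ∈ Wo → ξ ⤳ x → ξ ∈ G)
    (O : X.Opens) (hO : O ≤ N ⊓ Wo) (hne : (O : Set X).Nonempty) :
    ∃ η : X, η ∈ O ∧ η ∈ G := by
  obtain ⟨z, hz⟩ := hne
  obtain ⟨Z, hZ, hzZ⟩ :=
    exists_mem_irreducibleComponents_subset_of_isIrreducible {z} isIrreducible_singleton
  have hzZ' : z ∈ Z := hzZ rfl
  have hxZ : x ∈ Z := hN Z hZ ⟨z, hzZ', (hO hz).1⟩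
  obtain ⟨η, hη⟩ := QuasiSober.sober hZ.1 (isClosed_of_mem_irreducibleComponents Z hZ)
  have hηO : η ∈ O := (hη.specializes hzZ').mem_open O.2 hz
  exact ⟨η, hηO, hgen η (hO hηO).2 (hη.specializes hxZ)⟩

/-! ### The main direction -/

theorem backward {X Y S : Scheme.{u}} (pX : X ⟶ S) (pY : Y ⟶ S)
    [IsSeparated pY] [LocallyOfFinitePresentation pY]
    (hX : IsLocallyNoetherian X ∨ (IsReduced X ∧ ∀ x : ↥X, ∃ W : X.Opens, x ∈ W ∧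
      {Z : Set ↥X | Z ∈ irreducibleComponents ↥X ∧ (Z ∩ (W : Set ↥X)).Nonempty}.Finite))
    (U : X.Opens) (h : (U : Scheme.{u}) ⟶ Y) (hh : h ≫ pY = U.ι ≫ pX) (x : ↥X)
    (w : Spec (X.presheaf.stalk x) ⟶ Y) (hw1 : w ≫ pY = X.fromSpecStalk x ≫ pX)
    (hw2 : pullback.fst (X.fromSpecStalk x) U.ι ≫ w =
      pullback.snd (X.fromSpecStalk x) U.ι ≫ h) :
    ∃ (V : X.Opens) (v : (V : Scheme.{u}) ⟶ Y), x ∈ V ∧ v ≫ pY = V.ι ≫ pX ∧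
        X.homOfLE (inf_le_right : U ⊓ V ≤ V) ≫ v =
          X.homOfLE (inf_le_left : U ⊓ V ≤ U) ≫ h := by
  have hGI : X.IsGermInjective := by
    rcases hX with hX | ⟨hred, hfin⟩
    · intro y; infer_instance
    · intro y
      obtain ⟨W, hyW, hW⟩ := hfin y
      obtain ⟨N, hyN, -, hN⟩ := exists_nhd_components_through X y W hyW hW
      exact isGermInjectiveAt_of_reduced X y N hyN hN
  haveI := hGI x
  obtain ⟨V₀, hxV₀, v₀, hwv, hv₀⟩ := spread_out_of_isGermInjective' pX pY w hw1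
  obtain ⟨g₁, hg₁⟩ : ∃ g₁ : (U ⊓ V₀).toScheme ⟶ Y,
      g₁ = X.homOfLE (inf_le_right : U ⊓ V₀ ≤ V₀) ≫ v₀ := ⟨_, rfl⟩
  obtain ⟨g₂, hg₂⟩ : ∃ g₂ : (U ⊓ V₀).toScheme ⟶ Y,
      g₂ = X.homOfLE (inf_le_left : U ⊓ V₀ ≤ U) ≫ h := ⟨_, rfl⟩
  have hover : g₁ ≫ pY = g₂ ≫ pY := by
    rw [hg₁, hg₂]
    simp only [Category.assoc, hv₀, hh, Scheme.homOfLE_ι_assoc]
  obtain ⟨Ag, hAg, hAgmax⟩ := exists_agree_open g₁ g₂
  have hK : ∀ ξ : X, ξ ∈ U ⊓ V₀ → ξ ⤳ x → ξ ∈ (U ⊓ V₀).ι ''ᵁ Ag := by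
    intro ξ hξ hξx
    haveI : (U ⊓ V₀).toScheme.IsGermInjectiveAt ⟨ξ, hξ⟩ :=
      (isGermInjectiveAt_iff_of_isOpenImmersion (f := (U ⊓ V₀).ι) (x := ⟨ξ, hξ⟩)).mp (hGI _)
    have hagree : (U ⊓ V₀).toScheme.fromSpecStalk ⟨ξ, hξ⟩ ≫ g₁ =
        (U ⊓ V₀).toScheme.fromSpecStalk ⟨ξ, hξ⟩ ≫ g₂ := by
      rw [hg₁, hg₂]
      exact agree_at_generization U V₀ h v₀ x hxV₀ w hwv hw2 ⟨ξ, hξ⟩ hξx
    obtain ⟨O, hzO, hO⟩ := spread_out_unique_of_isGermInjective'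
      (X := (U ⊓ V₀).toScheme) (x := ⟨ξ, hξ⟩) g₁ g₂ hagree
    exact ⟨⟨ξ, hξ⟩, hAgmax O hO hzO, rfl⟩
  suffices hsuff : ∃ V : X.Opens, x ∈ V ∧ ∃ hV : V ≤ V₀,
      X.homOfLE (inf_le_inf_left U hV : U ⊓ V ≤ U ⊓ V₀) ≫ g₁ =
        X.homOfLE (inf_le_inf_left U hV : U ⊓ V ≤ U ⊓ V₀) ≫ g₂ by
    obtain ⟨V, hxV, hV, e⟩ := hsuff
    refine ⟨V, X.homOfLE hV ≫ v₀, hxV, ?_, ?_⟩
    · rw [Category.assoc, hv₀, X.homOfLE_ι_assoc]
    · rw [hg₁, hg₂] at e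
      simpa only [Scheme.homOfLE_homOfLE_assoc] using e
  rcases hX with hX | ⟨hred, hfin⟩
  · obtain ⟨V', hxV', hV'⟩ :=
      exists_nhd_of_noetherian X (U ⊓ V₀) ((U ⊓ V₀).ι ''ᵁ Ag) x hK
    refine ⟨V' ⊓ V₀, ⟨hxV', hxV₀⟩, inf_le_right, ?_⟩
    have hrange : Set.range (X.homOfLE (inf_le_inf_left U (inf_le_right : V' ⊓ V₀ ≤ V₀))) ⊆
        Set.range Ag.ι := by
      rintro _ ⟨t, rfl⟩
      rw [Scheme.Opens.range_ι]
      obtain ⟨a, ha, hat⟩ := hV' (show t.1 ∈ V' ⊓ (U ⊓ V₀) from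
        ⟨t.2.2.1, t.2.1, t.2.2.2⟩)
      have hta : X.homOfLE (inf_le_inf_left U (inf_le_right : V' ⊓ V₀ ≤ V₀)) t = a :=
        Subtype.ext ((X.homOfLE_apply _ t).trans hat.symm)
      rw [hta]; exact ha
    obtain ⟨l, hl⟩ : ∃ l, l ≫ Ag.ι =
        X.homOfLE (inf_le_inf_left U (inf_le_right : V' ⊓ V₀ ≤ V₀)) :=
      ⟨IsOpenImmersion.lift Ag.ι _ hrange, IsOpenImmersion.lift_fac _ _ _⟩
    rw [← hl, Category.assoc, Category.assoc, hAg]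
  · haveI := hred
    obtain ⟨W, hxW, hW⟩ := hfin x
    obtain ⟨N, hxN, -, hN⟩ := exists_nhd_components_through X x W hxW hW
    refine ⟨N ⊓ V₀, ⟨hxN, hxV₀⟩, inf_le_right, ?_⟩
    obtain ⟨j, hj⟩ : ∃ j : (U ⊓ (N ⊓ V₀)).toScheme ⟶ (U ⊓ V₀).toScheme,
        j = X.homOfLE (inf_le_inf_left U (inf_le_right : N ⊓ V₀ ≤ V₀)) := ⟨_, rfl⟩
    rw [← hj]
    have hdense : Dense ((j ⁻¹ᵁ Ag : (U ⊓ (N ⊓ V₀)).toScheme.Opens) :
        Set ↑(U ⊓ (N ⊓ V₀))) := by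
      rw [dense_iff_inter_open]
      intro O hOopen hOne
      obtain ⟨η, hηO, hηG⟩ := dense_of_components X (U ⊓ V₀) ((U ⊓ V₀).ι ''ᵁ Ag) N x hN hK
        ((U ⊓ (N ⊓ V₀)).ι ''ᵁ ⟨O, hOopen⟩)
        (by
          rintro _ ⟨t, -, rfl⟩
          exact ⟨t.2.2.1, t.2.1, t.2.2.2⟩)
        (by
          obtain ⟨t, ht⟩ := hOne
          exact ⟨_, t, ht, rfl⟩)
      obtain ⟨t, htO, rfl⟩ := hηO
      obtain ⟨a, ha, hat⟩ := hηG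
      refine ⟨t, htO, ?_⟩
      show j t ∈ Ag
      have hta : j t = a := by
        rw [hj]
        exact Subtype.ext ((X.homOfLE_apply _ t).trans hat.symm)
      rw [hta]; exact ha
    haveI : IsDominant (j ⁻¹ᵁ Ag).ι := AlgebraicGeometry.Opens.isDominant_ι hdense
    refine ext_of_isDominant_of_isSeparated pY ?_ (j ⁻¹ᵁ Ag).ι ?_
    · rw [Category.assoc, Category.assoc, hover]
    · have e := morphismRestrict_ι j Ag
      calc (j ⁻¹ᵁ Ag).ι ≫ j ≫ g₁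
          = ((j ⁻¹ᵁ Ag).ι ≫ j) ≫ g₁ := (Category.assoc _ _ _).symm
        _ = (j ∣_ Ag ≫ Ag.ι) ≫ g₁ := by rw [e]
        _ = j ∣_ Ag ≫ (Ag.ι ≫ g₂) := by rw [Category.assoc, hAg]
        _ = ((j ⁻¹ᵁ Ag).ι ≫ j) ≫ g₂ := by rw [← Category.assoc, e]
        _ = _ := Category.assoc _ _ _

theorem main {X Y S : Scheme.{u}} (pX : X ⟶ S) (pY : Y ⟶ S)
    [IsSeparated pY] [LocallyOfFinitePresentation pY]
    (hX : IsLocallyNoetherian X ∨ (IsReduced X ∧ ∀ x : ↥X, ∃ W : X.Opens, x ∈ W ∧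
      {Z : Set ↥X | Z ∈ irreducibleComponents ↥X ∧ (Z ∩ (W : Set ↥X)).Nonempty}.Finite))
    (U : X.Opens) (h : (U : Scheme.{u}) ⟶ Y) (hh : h ≫ pY = U.ι ≫ pX) (x : ↥X) :
    (∃ (V : X.Opens) (v : (V : Scheme.{u}) ⟶ Y), x ∈ V ∧ v ≫ pY = V.ι ≫ pX ∧
        X.homOfLE (inf_le_right : U ⊓ V ≤ V) ≫ v =
          X.homOfLE (inf_le_left : U ⊓ V ≤ U) ≫ h) ↔
      ∃ w : Spec (X.presheaf.stalk x) ⟶ Y, w ≫ pY = X.fromSpecStalk x ≫ pX ∧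
        pullback.fst (X.fromSpecStalk x) U.ι ≫ w =
          pullback.snd (X.fromSpecStalk x) U.ι ≫ h :=
  ⟨fun ⟨V, v, hxV, hv, hvh⟩ => forward pX pY U h x V v hxV hv hvh,
    fun ⟨w, hw1, hw2⟩ => backward pX pY hX U h hh x w hw1 hw2⟩

end Groth.Agent.Lib.Helper6.PseudoExt
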