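import Mathlib
import Groth.Prelude
import Groth.Agent.Lib.Helper13.PushEdge

/-!
# Composition of pullbacks on cohomology of abelian sheaves (helper6)
-/

set_option linter.style.haveILetI false
set_option autoImplicit false

universe u
open CategoryTheory CategoryTheory.Limits AlgebraicGeometry Opposite TopologicalSpace
open CategoryTheory.Abelian

noncomputable section

namespace Groth.Agent.Lib.Helper6.PullComp1

open Groth.Agent.Lib.Helper13.PushEdge

section Top

variable {X Y Z : TopCat.{u}}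

/-- two families of maps on cohomology compatible with connecting maps and equal in degree `0`
are equal. -/
theorem DU (G : CohTop.Ab Z ⥤ CohTop.Ab X) [G.Additive] [PreservesFiniteLimits G]
    [PreservesFiniteColimits G]
    (T₁ T₂ : ∀ (N : CohTop.Ab Z) (p : ℕ), Sheaf.H N p →+ Sheaf.H (G.obj N) p)
    (hδ₁ : ∀ (S : ShortComplex (CohTop.Ab Z)) (hS : S.ShortExact) (hS' : (S.map G).ShortExact)
      (p : ℕ) (x : Sheaf.H S.X₃ p),
      T₁ S.X₁ (p + 1) (x.comp hS.extClass rfl) = (T₁ S.X₃ p x).comp hS'.extClass rfl)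
    (hδ₂ : ∀ (S : ShortComplex (CohTop.Ab Z)) (hS : S.ShortExact) (hS' : (S.map G).ShortExact)
      (p : ℕ) (x : Sheaf.H S.X₃ p),
      T₂ S.X₁ (p + 1) (x.comp hS.extClass rfl) = (T₂ S.X₃ p x).comp hS'.extClass rfl)
    (h0 : ∀ (N : CohTop.Ab Z) (x : Sheaf.H N 0), T₁ N 0 x = T₂ N 0 x) :
    ∀ (p : ℕ) (N : CohTop.Ab Z) (x : Sheaf.H N p), T₁ N p x = T₂ N p x := by
  intro p
  induction p with
  | zero => exact h0
  | succ p ih =>
    intro N x
    let S : ShortComplex (CohTop.Ab Z) :=
      ShortComplex.mk (Injective.ι N) (cokernel.π (Injective.ι N)) (cokernel.condition _)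
    have hS : S.ShortExact :=
      { exact := ShortComplex.exact_cokernel (Injective.ι N)
        mono_f := inferInstanceAs (Mono (Injective.ι N))
        epi_g := inferInstanceAs (Epi (cokernel.π (Injective.ι N))) }
    have hS' : (S.map G).ShortExact := hS.map_of_exact G
    have hx0 : x.comp (Ext.mk₀ S.f) (add_zero (p + 1)) = 0 := by
      haveI : Injective S.X₂ := inferInstanceAs (Injective (Injective.under N))
      exact Ext.eq_zero_of_injective _
    obtain ⟨y, rfl⟩ := Ext.covariant_sequence_exact₁ _ hS x hx0 rfl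
    exact (hδ₁ S hS hS' p y).trans
      ((congrArg (fun z => z.comp hS'.extClass rfl) (ih S.X₃ y)).trans (hδ₂ S hS hS' p y).symm)

lemma EE_id (f : X ⟶ Y) (N : CohTop.Ab Y) (q : ℕ) (y : Sheaf.H N q) :
    EE f (𝟙 ((CohPull.inv f).obj N)) q y = CohPull.pullAb f N q y :=
  Sheaf.H.map_id_apply _

lemma pullAb_delta (f : X ⟶ Y) {T' : ShortComplex (CohTop.Ab Y)} (hT' : T'.ShortExact)
    (hT : (T'.map (CohPull.inv f)).ShortExact) (p : ℕ) (x : Sheaf.H T'.X₃ p) :
    CohPull.pullAb f T'.X₁ (p + 1) (x.comp hT'.extClass rfl) =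
      (CohPull.pullAb f T'.X₃ p x).comp hT.extClass rfl := by
  have h := EE_delta f hT' hT (𝟙 _) p x
  rw [← EE_id, ← EE_id]
  exact h

lemma pullAb_nat (f : X ⟶ Y) {N N' : CohTop.Ab Y} (φ : N ⟶ N') (p : ℕ) (x : Sheaf.H N p) :
    CohPull.pullAb f N' p (Sheaf.H.map φ p x) =
      Sheaf.H.map ((CohPull.inv f).map φ) p (CohPull.pullAb f N p x) := by
  have h := EE_nat f (𝟙 _) (𝟙 _) φ ((CohPull.inv f).map φ) (by simp) p x
  rw [EE_id, EE_id] at h
  exact h

variable (a : X ⟶ Y) (b : Y ⟶ Z)

/-- the comparison `a⁻¹ b⁻¹ N ⟶ (a ≫ b)⁻¹ N`. -/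
def thetaC (N : CohTop.Ab Z) :
    (CohPull.inv a).obj ((CohPull.inv b).obj N) ⟶ (CohPull.inv (a ≫ b)).obj N :=
  ((CohPull.invPushAdj a).homEquiv _ _).symm
    (((CohPull.invPushAdj b).homEquiv N
      ((CohTop.push a).obj ((CohPull.inv (a ≫ b)).obj N))).symm
      ((CohPull.invPushAdj (a ≫ b)).unit.app N))

lemma thetaC_transpose (N : CohTop.Ab Z) :
    (CohPull.invPushAdj b).homEquiv N ((CohTop.push a).obj ((CohPull.inv (a ≫ b)).obj N))
      ((CohPull.invPushAdj a).homEquiv _ _ (thetaC a b N)) =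
      (CohPull.invPushAdj (a ≫ b)).unit.app N := by
  unfold thetaC
  rw [Equiv.apply_symm_apply]
  exact Equiv.apply_symm_apply _ _

lemma thetaC_nat {N N' : CohTop.Ab Z} (φ : N ⟶ N') :
    (CohPull.inv a).map ((CohPull.inv b).map φ) ≫ thetaC a b N' =
      thetaC a b N ≫ (CohPull.inv (a ≫ b)).map φ := by
  apply ((CohPull.invPushAdj a).homEquiv _ _).injective
  apply ((CohPull.invPushAdj b).homEquiv N
    ((CohTop.push a).obj ((CohPull.inv (a ≫ b)).obj N'))).injective
  rw [Adjunction.homEquiv_naturality_left, Adjunction.homEquiv_naturality_left,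
    Adjunction.homEquiv_naturality_right, Adjunction.homEquiv_naturality_right,
    thetaC_transpose, thetaC_transpose]
  exact (CohPull.invPushAdj (a ≫ b)).unit.naturality φ

/-- composition of pullbacks on cohomology. -/
theorem pullAb_comp (p : ℕ) (N : CohTop.Ab Z) (x : Sheaf.H N p) :
    Sheaf.H.map (thetaC a b N) p
      (CohPull.pullAb a ((CohPull.inv b).obj N) p (CohPull.pullAb b N p x)) =
      CohPull.pullAb (a ≫ b) N p x := by
  refine DU (CohPull.inv (a ≫ b))
    (fun N p => (Sheaf.H.map (thetaC a b N) p).comp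
      ((CohPull.pullAb a ((CohPull.inv b).obj N) p).comp (CohPull.pullAb b N p)))
    (fun N p => CohPull.pullAb (a ≫ b) N p) ?_ ?_ ?_ p N x
  · intro S hS hS' p x
    have hSb : (S.map (CohPull.inv b)).ShortExact := hS.map_of_exact _
    let φ : (S.map (CohPull.inv b)).map (CohPull.inv a) ⟶ S.map (CohPull.inv (a ≫ b)) :=
      { τ₁ := thetaC a b S.X₁
        τ₂ := thetaC a b S.X₂
        τ₃ := thetaC a b S.X₃
        comm₁₂ := (thetaC_nat a b S.f).symm
        comm₂₃ := (thetaC_nat a b S.g).symm }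
    have h1 := pullAb_delta b hS hSb p x
    have h2 := EE_delta a hSb hS' φ p (CohPull.pullAb b S.X₃ p x)
    simp only [AddMonoidHom.coe_comp, Function.comp_apply]
    rw [h1]
    exact h2
  · intro S hS hS' p x
    exact pullAb_delta (a ≫ b) hS hS' p x
  · intro N x
    simp only [AddMonoidHom.coe_comp, Function.comp_apply]
    apply (Sheaf.H.equiv₀ ((CohPull.inv (a ≫ b)).obj N)
      (isTerminalTop : IsTerminal (⊤ : Opens X))).injective
    rw [← Sheaf.H.equiv₀_naturality, CohPull.equiv₀_pullAb, CohPull.equiv₀_pullAb,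
      CohPull.equiv₀_pullAb]
    have hu : (CohPull.invPushAdj b).unit.app N ≫ (CohTop.push b).map
        ((CohPull.invPushAdj a).unit.app ((CohPull.inv b).obj N) ≫
          (CohTop.push a).map (thetaC a b N)) = (CohPull.invPushAdj (a ≫ b)).unit.app N := by
      rw [← Adjunction.homEquiv_unit]
      exact (Adjunction.homEquiv_unit (CohPull.invPushAdj b) _ _ _).symm.trans
        (thetaC_transpose a b N)
    have h := congr_arg (fun t => (t.hom.app (op ⊤))
      (Sheaf.H.equiv₀ N (isTerminalTop : IsTerminal (⊤ : Opens Z)) x)) hu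
    exact h

end Top

end Groth.Agent.Lib.Helper6.PullComp1
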