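import Mathlib
import Groth.Prelude
import Groth.Agent.Lib.Helper6.PullComp1

/-!
# Pullback on cohomology in transposed form, and its composition (helper6)
-/

set_option linter.style.haveILetI false
set_option autoImplicit false

universe u
open CategoryTheory CategoryTheory.Limits AlgebraicGeometry Opposite TopologicalSpace
open CategoryTheory.Abelian

noncomputable section

namespace Groth.Agent.Lib.Helper6.PullComp2

open Groth.Agent.Lib.Helper13.PushEdge Groth.Agent.Lib.Helper6.PullComp1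

section Top

variable {X Y Z : TopCat.{u}}

/-- `EE` in terms of the transposed morphism `N ⟶ f_* N'`. -/
def EEb (f : X ⟶ Y) {N : CohTop.Ab Y} {N' : CohTop.Ab X} (ψ : N ⟶ (CohTop.push f).obj N')
    (p : ℕ) : Sheaf.H N p →+ Sheaf.H N' p :=
  EE f (((CohPull.invPushAdj f).homEquiv _ _).symm ψ) p

lemma EEb_apply (f : X ⟶ Y) {N : CohTop.Ab Y} {N' : CohTop.Ab X}
    (ψ : N ⟶ (CohTop.push f).obj N') (p : ℕ) (x : Sheaf.H N p) :
    EEb f ψ p x = Sheaf.H.map (((CohPull.invPushAdj f).homEquiv _ _).symm ψ) p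
      (CohPull.pullAb f N p x) := rfl

lemma EEb_map (f : X ⟶ Y) {N : CohTop.Ab Y} {N' N'' : CohTop.Ab X}
    (ψ : N ⟶ (CohTop.push f).obj N') (φ : N' ⟶ N'') (p : ℕ) (x : Sheaf.H N p) :
    Sheaf.H.map φ p (EEb f ψ p x) = EEb f (ψ ≫ (CohTop.push f).map φ) p x := by
  rw [EEb_apply, EEb_apply, ← Sheaf.H.map_comp_apply, Adjunction.homEquiv_naturality_right_symm]

lemma EEb_premap (f : X ⟶ Y) {N₀ N : CohTop.Ab Y} {N' : CohTop.Ab X} (φ : N₀ ⟶ N)
    (ψ : N ⟶ (CohTop.push f).obj N') (p : ℕ) (x : Sheaf.H N₀ p) :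
    EEb f ψ p (Sheaf.H.map φ p x) = EEb f (φ ≫ ψ) p x := by
  rw [EEb_apply, EEb_apply, pullAb_nat, ← Sheaf.H.map_comp_apply,
    Adjunction.homEquiv_naturality_left_symm]

variable (a : X ⟶ Y) (b : Y ⟶ Z)

lemma kappa_id {N : CohTop.Ab Z} {N' : CohTop.Ab Y} {N'' : CohTop.Ab X}
    (ψ₂ : N ⟶ (CohTop.push b).obj N') (ψ₁ : N' ⟶ (CohTop.push a).obj N'')
    (Ψ : N ⟶ (CohTop.push (a ≫ b)).obj N'') (hΨ : Ψ = ψ₂ ≫ (CohTop.push b).map ψ₁) :
    thetaC a b N ≫ ((CohPull.invPushAdj (a ≫ b)).homEquiv _ _).symm Ψ =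
      (CohPull.inv a).map (((CohPull.invPushAdj b).homEquiv _ _).symm ψ₂) ≫
        ((CohPull.invPushAdj a).homEquiv _ _).symm ψ₁ := by
  apply ((CohPull.invPushAdj a).homEquiv _ _).injective
  apply ((CohPull.invPushAdj b).homEquiv N ((CohTop.push a).obj N'')).injective
  have eL : (CohPull.invPushAdj b).homEquiv N ((CohTop.push a).obj N'')
      ((CohPull.invPushAdj a).homEquiv _ _
        (thetaC a b N ≫ ((CohPull.invPushAdj (a ≫ b)).homEquiv _ _).symm Ψ)) = Ψ := by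
    rw [Adjunction.homEquiv_naturality_right, Adjunction.homEquiv_naturality_right]
    refine (congrArg (fun z => z ≫ (CohTop.push b).map ((CohTop.push a).map
      (((CohPull.invPushAdj (a ≫ b)).homEquiv _ _).symm Ψ))) (thetaC_transpose a b N)).trans ?_
    exact (Adjunction.homEquiv_unit (CohPull.invPushAdj (a ≫ b)) _ _ _).symm.trans
      (Equiv.apply_symm_apply _ _)
  have eR : (CohPull.invPushAdj b).homEquiv N ((CohTop.push a).obj N'')
      ((CohPull.invPushAdj a).homEquiv _ _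
        ((CohPull.inv a).map (((CohPull.invPushAdj b).homEquiv _ _).symm ψ₂) ≫
          ((CohPull.invPushAdj a).homEquiv _ _).symm ψ₁)) = ψ₂ ≫ (CohTop.push b).map ψ₁ := by
    rw [Adjunction.homEquiv_naturality_left, Equiv.apply_symm_apply,
      Adjunction.homEquiv_naturality_right, Equiv.apply_symm_apply]
  exact eL.trans (hΨ.trans eR.symm)

theorem EEb_comp {N : CohTop.Ab Z} {N' : CohTop.Ab Y} {N'' : CohTop.Ab X}
    (ψ₂ : N ⟶ (CohTop.push b).obj N') (ψ₁ : N' ⟶ (CohTop.push a).obj N'')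
    (Ψ : N ⟶ (CohTop.push (a ≫ b)).obj N'') (hΨ : Ψ = ψ₂ ≫ (CohTop.push b).map ψ₁)
    (p : ℕ) (x : Sheaf.H N p) :
    EEb a ψ₁ p (EEb b ψ₂ p x) = EEb (a ≫ b) Ψ p x := by
  rw [EEb_apply, EEb_apply, EEb_apply, pullAb_nat, ← Sheaf.H.map_comp_apply,
    ← pullAb_comp a b p N x, ← Sheaf.H.map_comp_apply, kappa_id a b ψ₂ ψ₁ Ψ hΨ]

end Top

section Sch

open AlgebraicGeometry.Scheme.Modules

variable {X Y Z : Scheme.{u}}

/-- the map on cohomology induced by a morphism of modules `M ⟶ a_* N` over `a`. -/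
def HP (a : X ⟶ Y) {M : Y.Modules} {N : X.Modules} (ψ : M ⟶ (pushforward a).obj N) (p : ℕ) :
    Coh.HH Y M p →+ Coh.HH X N p :=
  EEb a.base (show Coh.toAb M ⟶ (CohTop.push a.base).obj (Coh.toAb N) from
    (SheafOfModules.toSheaf Y.ringCatSheaf).map ψ) p

lemma pullMod_eq_HP (a : X ⟶ Y) (M : Y.Modules) (p : ℕ) :
    CohPull.pullMod a M p = HP a ((pullbackPushforwardAdjunction a).unit.app M) p := rfl

lemma mapH_HP (a : X ⟶ Y) {M : Y.Modules} {N N' : X.Modules} (ψ : M ⟶ (pushforward a).obj N)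
    (φ : N ⟶ N') (p : ℕ) (x : Coh.HH Y M p) :
    CohPull.mapH φ p (HP a ψ p x) = HP a (ψ ≫ (pushforward a).map φ) p x := by
  unfold HP
  rw [EEb_map]
  rfl

theorem HP_comp (a : X ⟶ Y) (b : Y ⟶ Z) (ab : X ⟶ Z) (hab : a ≫ b = ab) {M : Z.Modules}
    {N' : Y.Modules} {N'' : X.Modules} (ψ₂ : M ⟶ (pushforward b).obj N')
    (ψ₁ : N' ⟶ (pushforward a).obj N'') (p : ℕ) (x : Coh.HH Z M p) :
    HP a ψ₁ p (HP b ψ₂ p x) =
      HP ab (ψ₂ ≫ (pushforward b).map ψ₁ ≫ (pushforwardComp a b).hom.app N'' ≫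
        (pushforwardCongr hab).hom.app N'') p x := by
  subst hab
  unfold HP
  refine EEb_comp a.base b.base _ _ _ ?_ p x
  apply Sheaf.hom_ext
  ext U : 2
  have h1 : ((pushforwardCongr (rfl : a ≫ b = a ≫ b)).hom.app N'').app U.unop = 𝟙 _ := by
    rw [pushforwardCongr_hom_app_app]
    refine (congrArg (fun m => N''.presheaf.map m.op) (eqToHom_refl _ rfl)).trans ?_
    exact N''.presheaf.map_id _
  show ψ₂.app U.unop ≫ ψ₁.app (b ⁻¹ᵁ U.unop) ≫ 𝟙 _ ≫
    ((pushforwardCongr (rfl : a ≫ b = a ≫ b)).hom.app N'').app U.unop =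
      ψ₂.app U.unop ≫ ψ₁.app (b ⁻¹ᵁ U.unop)
  rw [h1]
  erw [Category.comp_id]
  rfl

end Sch

end Groth.Agent.Lib.Helper6.PullComp2
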