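import Mathlib
import Groth.Prelude
import Groth.Agent.Lib.Helper6.PullComp2

/-!
# The pullback of classes over opens, in transposed form (helper6)
-/

set_option linter.style.haveILetI false
set_option autoImplicit false
set_option backward.isDefEq.respectTransparency.types false

universe u
open CategoryTheory AlgebraicGeometry Opposite TopologicalSpace
open AlgebraicGeometry.Scheme.Modules

noncomputable section

namespace Groth.Agent.Lib.Helper6.PullComp3

open Groth.Agent.Lib.Helper6.PullComp2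

section Aux

lemma thin_comp {T : TopCat.{u}} (F : TopCat.Presheaf Ab.{u} T) {U V W : Opens T}
    (h1 : V ≤ U) (h2 : W ≤ V) (h3 : W ≤ U) :
    F.map (homOfLE h1).op ≫ F.map (homOfLE h2).op = F.map (homOfLE h3).op := by
  rw [← F.map_comp]
  rfl

lemma thin_id {T : TopCat.{u}} (F : TopCat.Presheaf Ab.{u} T) {U : Opens T} (h : U ≤ U) :
    F.map (homOfLE h).op = 𝟙 (F.obj (op U)) :=
  F.map_id (op U)

lemma phi_aux {C : Type*} [Category C] {a b₁ b c d e' : C}
    (Φ : a ⟶ d) (X₁ : a ⟶ b₁) (ρ : b₁ ⟶ a) (X₂ : b₁ ⟶ b) (M : b ⟶ d)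
    (i3 : b ⟶ b) (N₀ : b ⟶ c) (K : c ⟶ d) (Y : a ⟶ e') (N'₀ : e' ⟶ c) (i3' : c ⟶ c)
    (K' : e' ⟶ d)
    (hρ : X₁ ≫ ρ = 𝟙 a) (nat : ρ ≫ Φ = X₂ ≫ M) (hM : M = N₀ ≫ K)
    (h : X₁ ≫ X₂ ≫ i3 ≫ N₀ = Y ≫ N'₀ ≫ i3') (hK : N'₀ ≫ K = K')
    (hi3 : i3 = 𝟙 b) (hi3' : i3' = 𝟙 c) :
    Φ = Y ≫ K' := by
  subst hi3 hi3'
  calc Φ = (X₁ ≫ ρ) ≫ Φ := by rw [hρ, Category.id_comp]
    _ = X₁ ≫ X₂ ≫ M := by rw [Category.assoc, nat]
    _ = (X₁ ≫ X₂ ≫ 𝟙 b ≫ N₀) ≫ K := by
        rw [hM]; simp only [Category.assoc, Category.id_comp]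
    _ = (Y ≫ N'₀ ≫ 𝟙 c) ≫ K := by rw [h]
    _ = Y ≫ K' := by
        rw [← hK]; simp only [Category.assoc, Category.id_comp]

lemma u_aux {C : Type*} [Category C] {a b c d : C} (σg : a ⟶ b) (σfV : b ⟶ c) (i1 : c ⟶ c)
    (σfg : a ⟶ d) (ci : d ⟶ c) (cV : c ⟶ d) (h0 : σg ≫ σfV ≫ i1 = σfg ≫ ci)
    (h1 : ci ≫ cV = 𝟙 d) (hi : i1 = 𝟙 c) : σg ≫ σfV ≫ cV = σfg := by
  subst hi
  calc σg ≫ σfV ≫ cV = (σg ≫ σfV ≫ 𝟙 c) ≫ cV := by
        simp only [Category.assoc, Category.id_comp]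
    _ = (σfg ≫ ci) ≫ cV := by rw [h0]
    _ = σfg := by rw [Category.assoc, h1, Category.comp_id]

lemma ml_aux {C : Type*} [Category C] {LV PgV PgA PfA PfA2 QA2 QA2' PfV QV : C}
    (Φfg : LV ⟶ QA2') (Φg : LV ⟶ PgA) (Φf : PgA ⟶ PfA2)
    (σg : LV ⟶ PgV) (m1 : PgV ⟶ PgA) (σf1 : PgA ⟶ PfA) (m2 : PfA ⟶ PfA2) (cA : PfA2 ⟶ QA2)
    (i3 : QA2 ⟶ QA2) (m3 : QA2 ⟶ QA2') (σfV : PgV ⟶ PfV) (m4 : PfV ⟶ PfA) (m42 : PfV ⟶ PfA2)
    (cV : PfV ⟶ QV) (m5 : QV ⟶ QA2) (σfg : LV ⟶ QV) (m6 : QV ⟶ QA2')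
    (efg : Φfg = σfg ≫ m6) (eg : Φg = σg ≫ m1) (ef : Φf = σf1 ≫ m2)
    (n1 : m1 ≫ σf1 = σfV ≫ m4) (t2 : m4 ≫ m2 = m42) (n2 : m42 ≫ cA = cV ≫ m5)
    (u : σg ≫ σfV ≫ cV = σfg) (t : m5 ≫ m3 = m6) (hi3 : i3 = 𝟙 QA2) :
    Φfg = Φg ≫ (Φf ≫ cA) ≫ i3 ≫ m3 := by
  subst efg eg ef hi3
  symm
  calc (σg ≫ m1) ≫ ((σf1 ≫ m2) ≫ cA) ≫ 𝟙 QA2 ≫ m3
      = σg ≫ (m1 ≫ σf1) ≫ m2 ≫ cA ≫ m3 := by simp only [Category.assoc, Category.id_comp]
    _ = σg ≫ σfV ≫ (m4 ≫ m2) ≫ cA ≫ m3 := by rw [n1]; simp only [Category.assoc]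
    _ = σg ≫ σfV ≫ (m42 ≫ cA) ≫ m3 := by rw [t2]; simp only [Category.assoc]
    _ = (σg ≫ σfV ≫ cV) ≫ m5 ≫ m3 := by rw [n2]; simp only [Category.assoc]
    _ = σfg ≫ m6 := by rw [u, t]

end Aux

section Gen

variable {A B Y Z : Scheme.{u}} (r : A ⟶ B) (i : B ⟶ Z) (j : A ⟶ Y) (g : Y ⟶ Z)
  [IsOpenImmersion i] [IsOpenImmersion j] (e : r ≫ i = j ≫ g) (L : Z.Modules)

/-- generic form of `CohPull.pullOnIso`. -/
def ThetaG : (pullback r).obj ((restrictFunctor i).obj L) ⟶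
    (restrictFunctor j).obj ((pullback g).obj L) :=
  (pullback r).map ((restrictFunctorIsoPullback i).hom.app L) ≫ (pullbackComp r i).hom.app L ≫
    (pullbackCongr e).hom.app L ≫ (pullbackComp j g).inv.app L ≫
    (restrictFunctorIsoPullback j).inv.app ((pullback g).obj L)

/-- the transposed form of `pullOn`. -/
def PhiGen : (restrictFunctor i).obj L ⟶
    (pushforward r).obj ((restrictFunctor j).obj ((pullback g).obj L)) :=
  (pullbackPushforwardAdjunction r).unit.app ((restrictFunctor i).obj L) ≫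
    (pushforward r).map (ThetaG r i j g e L)

lemma unit_congr {X' Y' : Scheme.{u}} {a a' : X' ⟶ Y'} (e : a = a') (L : Y'.Modules) :
    (pullbackPushforwardAdjunction a).unit.app L ≫
      (pushforward a).map ((pullbackCongr e).hom.app L) ≫
      (pushforwardCongr e).hom.app ((pullback a').obj L) =
    (pullbackPushforwardAdjunction a').unit.app L := by
  subst e
  have h1 : (pullbackCongr (rfl : a = a)).hom.app L = 𝟙 _ := by simp [pullbackCongr]
  have h2 : (pushforwardCongr (rfl : a = a)).hom.app ((pullback a).obj L) = 𝟙 _ := by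
    apply Scheme.Modules.hom_ext
    intro V
    rw [pushforwardCongr_hom_app_app]
    refine (congrArg (fun m => ((pullback a).obj L).presheaf.map m.op)
      (eqToHom_refl _ rfl)).trans ?_
    exact ((pullback a).obj L).presheaf.map_id _
  rw [h1, h2, CategoryTheory.Functor.map_id]
  erw [Category.comp_id]
  try erw [Category.comp_id]

lemma unit_comp {X' Y' Z' : Scheme.{u}} (a : X' ⟶ Y') (b : Y' ⟶ Z') (L : Z'.Modules) :
    (pullbackPushforwardAdjunction b).unit.app L ≫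
      (pushforward b).map ((pullbackPushforwardAdjunction a).unit.app ((pullback b).obj L)) ≫
      (pushforwardComp a b).hom.app ((pullback a).obj ((pullback b).obj L)) =
    (pullbackPushforwardAdjunction (a ≫ b)).unit.app L ≫
      (pushforward (a ≫ b)).map ((pullbackComp a b).inv.app L) := by
  have h := unit_conjugateEquiv
    ((pullbackPushforwardAdjunction b).comp (pullbackPushforwardAdjunction a))
    (pullbackPushforwardAdjunction (a ≫ b)) (pullbackComp a b).inv L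
  rw [conjugateEquiv_pullbackComp_inv, Adjunction.comp_unit_app, Category.assoc] at h
  exact h

theorem charSharp :
    (restrictAdjunction i).unit.app L ≫ (pushforward i).map (PhiGen r i j g e L) ≫
      (pushforwardComp r i).hom.app _ ≫ (pushforwardCongr e).hom.app _ =
    (pullbackPushforwardAdjunction g).unit.app L ≫
      (pushforward g).map ((restrictAdjunction j).unit.app ((pullback g).obj L)) ≫
      (pushforwardComp j g).hom.app _ := by
  have f1 : (restrictAdjunction i).unit.app L ≫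
      (pushforward i).map ((restrictFunctorIsoPullback i).hom.app L) =
      (pullbackPushforwardAdjunction i).unit.app L :=
    Adjunction.unit_leftAdjointUniq_hom_app _ _ L
  have f1j : (pullbackPushforwardAdjunction j).unit.app ((pullback g).obj L) ≫
      (pushforward j).map ((restrictFunctorIsoPullback j).inv.app ((pullback g).obj L)) =
      (restrictAdjunction j).unit.app ((pullback g).obj L) := by
    have h : (restrictAdjunction j).unit.app ((pullback g).obj L) ≫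
        (pushforward j).map ((restrictFunctorIsoPullback j).hom.app ((pullback g).obj L)) =
        (pullbackPushforwardAdjunction j).unit.app ((pullback g).obj L) :=
      Adjunction.unit_leftAdjointUniq_hom_app _ _ _
    rw [← h, Category.assoc, ← CategoryTheory.Functor.map_comp, Iso.hom_inv_id_app,
      CategoryTheory.Functor.map_id]
    erw [Category.comp_id]
  have f3 : (pushforward i).map
        ((pullbackPushforwardAdjunction r).unit.app ((restrictFunctor i).obj L)) ≫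
      (pushforward i).map ((pushforward r).map
        ((pullback r).map ((restrictFunctorIsoPullback i).hom.app L))) =
      (pushforward i).map ((restrictFunctorIsoPullback i).hom.app L) ≫
        (pushforward i).map
          ((pullbackPushforwardAdjunction r).unit.app ((pullback i).obj L)) := by
    rw [← CategoryTheory.Functor.map_comp, ← CategoryTheory.Functor.map_comp]
    exact congrArg (pushforward i).map
      ((pullbackPushforwardAdjunction r).unit.naturality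
        ((restrictFunctorIsoPullback i).hom.app L)).symm
  have f4ri := unit_comp r i L
  have f4jg := unit_comp j g L
  have cong := unit_congr e L
  -- naturalities of `pushforwardComp r i`
  have n1 : (pushforward i).map ((pushforward r).map
        ((restrictFunctorIsoPullback j).inv.app ((pullback g).obj L))) ≫
      (pushforwardComp r i).hom.app ((restrictFunctor j).obj ((pullback g).obj L)) =
      (pushforwardComp r i).hom.app ((pullback j).obj ((pullback g).obj L)) ≫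
        (pushforward (r ≫ i)).map
          ((restrictFunctorIsoPullback j).inv.app ((pullback g).obj L)) :=
    (pushforwardComp r i).hom.naturality _
  have n2 : (pushforward i).map ((pushforward r).map ((pullbackComp j g).inv.app L)) ≫
      (pushforwardComp r i).hom.app ((pullback j).obj ((pullback g).obj L)) =
      (pushforwardComp r i).hom.app ((pullback (j ≫ g)).obj L) ≫
        (pushforward (r ≫ i)).map ((pullbackComp j g).inv.app L) :=
    (pushforwardComp r i).hom.naturality _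
  have n3 : (pushforward i).map ((pushforward r).map ((pullbackCongr e).hom.app L)) ≫
      (pushforwardComp r i).hom.app ((pullback (j ≫ g)).obj L) =
      (pushforwardComp r i).hom.app ((pullback (r ≫ i)).obj L) ≫
        (pushforward (r ≫ i)).map ((pullbackCongr e).hom.app L) :=
    (pushforwardComp r i).hom.naturality _
  have n4 : (pushforward i).map ((pushforward r).map ((pullbackComp r i).hom.app L)) ≫
      (pushforwardComp r i).hom.app ((pullback (r ≫ i)).obj L) =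
      (pushforwardComp r i).hom.app ((pullback r).obj ((pullback i).obj L)) ≫
        (pushforward (r ≫ i)).map ((pullbackComp r i).hom.app L) :=
    (pushforwardComp r i).hom.naturality _
  -- naturalities of `pushforwardCongr e`
  have m1 : (pushforward (r ≫ i)).map
        ((restrictFunctorIsoPullback j).inv.app ((pullback g).obj L)) ≫
      (pushforwardCongr e).hom.app ((restrictFunctor j).obj ((pullback g).obj L)) =
      (pushforwardCongr e).hom.app ((pullback j).obj ((pullback g).obj L)) ≫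
        (pushforward (j ≫ g)).map
          ((restrictFunctorIsoPullback j).inv.app ((pullback g).obj L)) :=
    (pushforwardCongr e).hom.naturality _
  have m2 : (pushforward (r ≫ i)).map ((pullbackComp j g).inv.app L) ≫
      (pushforwardCongr e).hom.app ((pullback j).obj ((pullback g).obj L)) =
      (pushforwardCongr e).hom.app ((pullback (j ≫ g)).obj L) ≫
        (pushforward (j ≫ g)).map ((pullbackComp j g).inv.app L) :=
    (pushforwardCongr e).hom.naturality _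
  -- naturality of `pushforwardComp j g`
  have k1 : (pushforward g).map ((pushforward j).map
        ((restrictFunctorIsoPullback j).inv.app ((pullback g).obj L))) ≫
      (pushforwardComp j g).hom.app ((restrictFunctor j).obj ((pullback g).obj L)) =
      (pushforwardComp j g).hom.app ((pullback j).obj ((pullback g).obj L)) ≫
        (pushforward (j ≫ g)).map
          ((restrictFunctorIsoPullback j).inv.app ((pullback g).obj L)) :=
    (pushforwardComp j g).hom.naturality _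
  have f1j' : (pushforward g).map
        ((pullbackPushforwardAdjunction j).unit.app ((pullback g).obj L)) ≫
      (pushforward g).map ((pushforward j).map
        ((restrictFunctorIsoPullback j).inv.app ((pullback g).obj L))) =
      (pushforward g).map ((restrictAdjunction j).unit.app ((pullback g).obj L)) := by
    rw [← CategoryTheory.Functor.map_comp, f1j]
  unfold PhiGen ThetaG
  simp only [CategoryTheory.Functor.map_comp, Category.assoc]
  rw [reassoc_of% f3, reassoc_of% f1, reassoc_of% n1, reassoc_of% n2, reassoc_of% n3,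
    reassoc_of% n4, reassoc_of% f4ri, ← CategoryTheory.Functor.map_comp_assoc,
    Iso.inv_hom_id_app, CategoryTheory.Functor.map_id, Category.id_comp,
    m1, reassoc_of% m2, reassoc_of% cong, ← f1j', Category.assoc, k1, reassoc_of% f4jg]

include e in
lemma image_le (W : B.Opens) : j ''ᵁ (r ⁻¹ᵁ W) ≤ g ⁻¹ᵁ (i ''ᵁ W) := by
  have h1 : W ≤ i ⁻¹ᵁ (i ''ᵁ W) := (i.preimage_image_eq W).ge
  have h2 : r ⁻¹ᵁ W ≤ (r ≫ i) ⁻¹ᵁ (i ''ᵁ W) := r.preimage_mono h1
  rw [e] at h2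
  exact (j.image_mono h2).trans (j.image_preimage_le (g ⁻¹ᵁ (i ''ᵁ W)))

theorem PhiFormula (W : B.Opens) (hle : j ''ᵁ (r ⁻¹ᵁ W) ≤ g ⁻¹ᵁ (i ''ᵁ W)) :
    (PhiGen r i j g e L).app W =
      ((pullbackPushforwardAdjunction g).unit.app L).app (i ''ᵁ W) ≫
        ((pullback g).obj L).presheaf.map (homOfLE hle).op := by
  have hWV : W ≤ i ⁻¹ᵁ (i ''ᵁ W) := (i.preimage_image_eq W).ge
  have lX1 : i ''ᵁ (i ⁻¹ᵁ (i ''ᵁ W)) ≤ i ''ᵁ W := i.image_preimage_le (i ''ᵁ W)
  have lρ : i ''ᵁ W ≤ i ''ᵁ (i ⁻¹ᵁ (i ''ᵁ W)) := i.image_mono hWV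
  have lM : j ''ᵁ (r ⁻¹ᵁ W) ≤ j ''ᵁ ((r ≫ i) ⁻¹ᵁ (i ''ᵁ W)) :=
    j.image_mono (r.preimage_mono hWV)
  have lN : j ''ᵁ ((j ≫ g) ⁻¹ᵁ (i ''ᵁ W)) ≤ j ''ᵁ ((r ≫ i) ⁻¹ᵁ (i ''ᵁ W)) := by rw [e]
  have lK : j ''ᵁ (r ⁻¹ᵁ W) ≤ j ''ᵁ ((j ≫ g) ⁻¹ᵁ (i ''ᵁ W)) := by
    rw [← e]; exact lM
  have lN' : j ''ᵁ (j ⁻¹ᵁ (g ⁻¹ᵁ (i ''ᵁ W))) ≤ g ⁻¹ᵁ (i ''ᵁ W) := j.image_preimage_le _
  have h := congrArg (fun m => Scheme.Modules.Hom.app m (i ''ᵁ W)) (charSharp r i j g e L)
  exact phi_aux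
    ((PhiGen r i j g e L).app W)
    (L.presheaf.map (homOfLE lX1).op)
    (L.presheaf.map (homOfLE lρ).op)
    ((PhiGen r i j g e L).app (i ⁻¹ᵁ (i ''ᵁ W)))
    (((pullback g).obj L).presheaf.map (homOfLE lM).op)
    (((pushforwardComp r i).hom.app
      ((restrictFunctor j).obj ((pullback g).obj L))).app (i ''ᵁ W))
    (((pullback g).obj L).presheaf.map (homOfLE lN).op)
    (((pullback g).obj L).presheaf.map (homOfLE lK).op)
    (((pullbackPushforwardAdjunction g).unit.app L).app (i ''ᵁ W))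
    (((pullback g).obj L).presheaf.map (homOfLE lN').op)
    (((pushforwardComp j g).hom.app
      ((restrictFunctor j).obj ((pullback g).obj L))).app (i ''ᵁ W))
    (((pullback g).obj L).presheaf.map (homOfLE hle).op)
    ((thin_comp L.presheaf lX1 lρ le_rfl).trans (thin_id L.presheaf _))
    ((PhiGen r i j g e L).mapPresheaf.naturality (homOfLE hWV).op)
    (thin_comp ((pullback g).obj L).presheaf lN lK lM).symm
    h
    (thin_comp ((pullback g).obj L).presheaf lN' lK hle)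
    rfl rfl

end Gen

section Comp

variable {X Y Z : Scheme.{u}} (f : X ⟶ Y) (g : Y ⟶ Z) (U₀ : Z.Opens) (U₁ : Y.Opens)
  (U₂ : X.Opens) (h₀ : U₁ ≤ g ⁻¹ᵁ U₀) (h₁ : U₂ ≤ f ⁻¹ᵁ U₁) (h₂ : U₂ ≤ (f ≫ g) ⁻¹ᵁ U₀)
  (L : Z.Modules)

lemma resLE_comp : f.resLE U₁ U₂ h₁ ≫ g.resLE U₀ U₁ h₀ = (f ≫ g).resLE U₀ U₂ h₂ := by
  first
  | exact Scheme.Hom.resLE_comp_resLE _ _ _ _
  | simp [← cancel_mono U₀.ι]

set_option maxHeartbeats 1600000 in
theorem ML :
    PhiGen ((f ≫ g).resLE U₀ U₂ h₂) U₀.ι U₂.ι (f ≫ g) (Scheme.Hom.resLE_comp_ι (f ≫ g) h₂) L =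
      PhiGen (g.resLE U₀ U₁ h₀) U₀.ι U₁.ι g (Scheme.Hom.resLE_comp_ι g h₀) L ≫
        (pushforward (g.resLE U₀ U₁ h₀)).map
          (PhiGen (f.resLE U₁ U₂ h₁) U₁.ι U₂.ι f (Scheme.Hom.resLE_comp_ι f h₁)
              ((pullback g).obj L) ≫
            (pushforward (f.resLE U₁ U₂ h₁)).map
              ((restrictFunctor U₂.ι).map ((pullbackComp f g).hom.app L))) ≫
        (pushforwardComp (f.resLE U₁ U₂ h₁) (g.resLE U₀ U₁ h₀)).hom.app
          ((restrictFunctor U₂.ι).obj ((pullback (f ≫ g)).obj L)) ≫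
        (pushforwardCongr (resLE_comp f g U₀ U₁ U₂ h₀ h₁ h₂)).hom.app
          ((restrictFunctor U₂.ι).obj ((pullback (f ≫ g)).obj L)) := by
  apply Scheme.Modules.hom_ext
  intro W₀
  have le_g := image_le (g.resLE U₀ U₁ h₀) U₀.ι U₁.ι g (Scheme.Hom.resLE_comp_ι g h₀) W₀
  have le_f := image_le (f.resLE U₁ U₂ h₁) U₁.ι U₂.ι f (Scheme.Hom.resLE_comp_ι f h₁)
    ((g.resLE U₀ U₁ h₀) ⁻¹ᵁ W₀)
  have le_fg := image_le ((f ≫ g).resLE U₀ U₂ h₂) U₀.ι U₂.ι (f ≫ g)
    (Scheme.Hom.resLE_comp_ι (f ≫ g) h₂) W₀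
  have le4 : f ⁻¹ᵁ (U₁.ι ''ᵁ ((g.resLE U₀ U₁ h₀) ⁻¹ᵁ W₀)) ≤ f ⁻¹ᵁ (g ⁻¹ᵁ (U₀.ι ''ᵁ W₀)) :=
    f.preimage_mono le_g
  have le42 := le_f.trans le4
  have le3 : U₂.ι ''ᵁ (((f ≫ g).resLE U₀ U₂ h₂) ⁻¹ᵁ W₀) ≤
      U₂.ι ''ᵁ ((f.resLE U₁ U₂ h₁) ⁻¹ᵁ ((g.resLE U₀ U₁ h₀) ⁻¹ᵁ W₀)) := by
    rw [← resLE_comp f g U₀ U₁ U₂ h₀ h₁ h₂]
    exact le_rfl
  have efg := PhiFormula ((f ≫ g).resLE U₀ U₂ h₂) U₀.ι U₂.ι (f ≫ g)
    (Scheme.Hom.resLE_comp_ι (f ≫ g) h₂) L W₀ le_fg
  have eg := PhiFormula (g.resLE U₀ U₁ h₀) U₀.ι U₁.ι g (Scheme.Hom.resLE_comp_ι g h₀) L W₀ le_g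
  have ef := PhiFormula (f.resLE U₁ U₂ h₁) U₁.ι U₂.ι f (Scheme.Hom.resLE_comp_ι f h₁)
    ((pullback g).obj L) ((g.resLE U₀ U₁ h₀) ⁻¹ᵁ W₀) le_f
  have n1 := ((pullbackPushforwardAdjunction f).unit.app
    ((pullback g).obj L)).mapPresheaf.naturality (homOfLE le_g).op
  have t2 := thin_comp ((pullback f).obj ((pullback g).obj L)).presheaf le4 le_f le42
  have n2 := ((pullbackComp f g).hom.app L).mapPresheaf.naturality (homOfLE le42).op
  have u0 := congrArg (fun m => Scheme.Modules.Hom.app m (U₀.ι ''ᵁ W₀)) (unit_comp f g L)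
  have u1 := congrArg (fun m => Scheme.Modules.Hom.app m ((f ≫ g) ⁻¹ᵁ (U₀.ι ''ᵁ W₀)))
    ((pullbackComp f g).inv_hom_id_app L)
  simp only [Scheme.Modules.Hom.comp_app, Scheme.Modules.pushforward_map_app] at u0
  simp only [Scheme.Modules.Hom.comp_app, Scheme.Modules.Hom.id_app] at u1
  have u := u_aux _ _ _ _ _ _ u0 u1 rfl
  have t := thin_comp ((pullback (f ≫ g)).obj L).presheaf le42 le3 le_fg
  have key := ml_aux _ _ _ _ _ _ _ _ _ _ _ _ _ _ _ _ _ efg eg ef n1 t2 n2 u t rfl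
  simp only [Scheme.Modules.Hom.comp_app, Scheme.Modules.pushforward_map_app]
  exact key

theorem pullOn_eq_HP (p : ℕ) (x : Coh.HHon Z L U₀ p) :
    CohPull.pullOn g U₀ U₁ h₀ L p x =
      HP (g.resLE U₀ U₁ h₀)
        (PhiGen (g.resLE U₀ U₁ h₀) U₀.ι U₁.ι g (Scheme.Hom.resLE_comp_ι g h₀) L) p x := by
  have h1 : CohPull.pullOn g U₀ U₁ h₀ L p x =
      CohPull.mapH (CohPull.pullOnIso g U₀ U₁ h₀ L).hom p
        (CohPull.pullMod (g.resLE U₀ U₁ h₀) (L.restrict U₀.ι) p x) := rfl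
  rw [h1, pullMod_eq_HP, mapH_HP]
  rfl

theorem PCF (p : ℕ) (x : Coh.HHon Z L U₀ p) :
    CohPull.pullOn (f ≫ g) U₀ U₂ h₂ L p x =
      CohPull.mapH ((restrictFunctor U₂.ι).map ((pullbackComp f g).hom.app L)) p
        (CohPull.pullOn f U₁ U₂ h₁ ((pullback g).obj L) p
          (CohPull.pullOn g U₀ U₁ h₀ L p x)) := by
  have e1 := pullOn_eq_HP g U₀ U₁ h₀ L p x
  have e2 := pullOn_eq_HP f U₁ U₂ h₁ ((pullback g).obj L) p (CohPull.pullOn g U₀ U₁ h₀ L p x)
  have e3 := pullOn_eq_HP (f ≫ g) U₀ U₂ h₂ L p x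
  rw [e3, e2, e1, mapH_HP,
    HP_comp (f.resLE U₁ U₂ h₁) (g.resLE U₀ U₁ h₀) ((f ≫ g).resLE U₀ U₂ h₂)
      (resLE_comp f g U₀ U₁ U₂ h₀ h₁ h₂)]
  exact congrArg (fun ψ => HP ((f ≫ g).resLE U₀ U₂ h₂) ψ p x) (ML f g U₀ U₁ U₂ h₀ h₁ h₂ L)

end Comp

end Groth.Agent.Lib.Helper6.PullComp3
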