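import Mathlib
import Groth.Prelude
import Groth.Agent.S16954

/-!
# Morphisms out of `R^p f_* F` are determined on the classes `ε_V(x)`; transposition of composites
(helper6)
-/

set_option linter.style.haveILetI false
set_option autoImplicit false
set_option backward.isDefEq.respectTransparency.types false

universe u
open CategoryTheory AlgebraicGeometry Opposite TopologicalSpace
open AlgebraicGeometry.Scheme.Modules

noncomputable section

namespace Groth.Agent.Lib.Helper6.PullComp4

theorem eq_of_eps {X Y : Scheme.{u}} (f : X ⟶ Y) [HasInjectiveResolutions X.Modules]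
    {Δ : RDer.DerivedLES (pushforward f)} (E : CohCmp.SectCmp f Δ) (F : X.Modules) (p : ℕ)
    {N : Y.Modules} (α β : (Coh.Rpush f p).obj F ⟶ N)
    (h : ∀ (V : Y.Opens) (x : Coh.HHon X F (f ⁻¹ᵁ V) p),
      α.app V (E.ε V F p x) = β.app V (E.ε V F p x)) : α = β := by
  apply Scheme.Modules.hom_ext
  intro V
  refine ConcreteCategory.hom_ext _ _ (fun t => ?_)
  choose W hWV hyW x hx using fun y : V => Groth.Agent.S16954.result f E F p V t y.1 y.2
  refine TopCat.Sheaf.eq_of_locally_eq' (⟨N.presheaf, N.isSheaf⟩ : TopCat.Sheaf Ab Y) W V
    (fun y => homOfLE (hWV y)) ?_ _ _ ?_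
  · intro z hz
    exact Opens.mem_iSup.mpr ⟨⟨z, hz⟩, hyW ⟨z, hz⟩⟩
  · intro y
    have na := ConcreteCategory.congr_hom (α.mapPresheaf.naturality (homOfLE (hWV y)).op) t
    have nb := ConcreteCategory.congr_hom (β.mapPresheaf.naturality (homOfLE (hWV y)).op) t
    have hh := h (W y) (x y)
    rw [hx y] at hh
    exact na.symm.trans (hh.trans nb)

lemma unit_comp' {X' Y' Z' : Scheme.{u}} (a : X' ⟶ Y') (b : Y' ⟶ Z') (L : Z'.Modules) :
    (pullbackPushforwardAdjunction b).unit.app L ≫
      (pushforward b).map ((pullbackPushforwardAdjunction a).unit.app ((pullback b).obj L)) ≫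
      (pushforwardComp a b).hom.app ((pullback a).obj ((pullback b).obj L)) =
    (pullbackPushforwardAdjunction (a ≫ b)).unit.app L ≫
      (pushforward (a ≫ b)).map ((pullbackComp a b).inv.app L) := by
  have h := unit_conjugateEquiv
    ((pullbackPushforwardAdjunction b).comp (pullbackPushforwardAdjunction a))
    (pullbackPushforwardAdjunction (a ≫ b)) (pullbackComp a b).inv L
  rw [conjugateEquiv_pullbackComp_inv, Adjunction.comp_unit_app, Category.assoc] at h
  exact h

theorem transpose_comp {U V W : Scheme.{u}} (a : U ⟶ V) (b : V ⟶ W) {R : W.Modules}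
    {M : V.Modules} {N : U.Modules}
    (β₂ : R ⟶ (pushforward b).obj M) (β₁ : M ⟶ (pushforward a).obj N)
    (β : R ⟶ (pushforward (a ≫ b)).obj N)
    (hβ : β = β₂ ≫ (pushforward b).map β₁ ≫ (pushforwardComp a b).hom.app N) :
    (pullbackComp a b).hom.app R ≫
        ((pullbackPushforwardAdjunction (a ≫ b)).homEquiv _ _).symm β =
      (pullback a).map (((pullbackPushforwardAdjunction b).homEquiv _ _).symm β₂) ≫
        ((pullbackPushforwardAdjunction a).homEquiv _ _).symm β₁ := by
  have eR : (pullbackPushforwardAdjunction b).homEquiv _ _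
      ((pullbackPushforwardAdjunction a).homEquiv _ _
        ((pullback a).map (((pullbackPushforwardAdjunction b).homEquiv _ _).symm β₂) ≫
          ((pullbackPushforwardAdjunction a).homEquiv _ _).symm β₁)) =
      β₂ ≫ (pushforward b).map β₁ := by
    rw [Adjunction.homEquiv_naturality_left, Equiv.apply_symm_apply,
      Adjunction.homEquiv_naturality_right, Equiv.apply_symm_apply]
  have eL : (pullbackPushforwardAdjunction b).homEquiv _ _
      ((pullbackPushforwardAdjunction a).homEquiv _ _
        ((pullbackComp a b).hom.app R ≫
          ((pullbackPushforwardAdjunction (a ≫ b)).homEquiv _ _).symm β)) ≫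
      (pushforwardComp a b).hom.app N = β := by
    rw [Adjunction.homEquiv_unit, Adjunction.homEquiv_unit]
    simp only [CategoryTheory.Functor.map_comp, Category.assoc]
    have n1 : (pushforward b).map ((pushforward a).map
          (((pullbackPushforwardAdjunction (a ≫ b)).homEquiv _ _).symm β)) ≫
        (pushforwardComp a b).hom.app N =
        (pushforwardComp a b).hom.app ((pullback (a ≫ b)).obj R) ≫
          (pushforward (a ≫ b)).map
            (((pullbackPushforwardAdjunction (a ≫ b)).homEquiv _ _).symm β) :=
      (pushforwardComp a b).hom.naturality _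
    have n2 : (pushforward b).map ((pushforward a).map ((pullbackComp a b).hom.app R)) ≫
        (pushforwardComp a b).hom.app ((pullback (a ≫ b)).obj R) =
        (pushforwardComp a b).hom.app ((pullback a).obj ((pullback b).obj R)) ≫
          (pushforward (a ≫ b)).map ((pullbackComp a b).hom.app R) :=
      (pushforwardComp a b).hom.naturality _
    rw [n1, reassoc_of% n2, reassoc_of% (unit_comp' a b R),
      ← CategoryTheory.Functor.map_comp_assoc, Iso.inv_hom_id_app,
      CategoryTheory.Functor.map_id, Category.id_comp]
    exact (Adjunction.homEquiv_unit (pullbackPushforwardAdjunction (a ≫ b)) _ _ _).symm.trans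
      (Equiv.apply_symm_apply _ _)
  have eL' : (pullbackPushforwardAdjunction b).homEquiv _ _
      ((pullbackPushforwardAdjunction a).homEquiv _ _
        ((pullbackComp a b).hom.app R ≫
          ((pullbackPushforwardAdjunction (a ≫ b)).homEquiv _ _).symm β)) =
      β₂ ≫ (pushforward b).map β₁ := by
    refine (cancel_mono ((pushforwardComp a b).hom.app N)).mp ?_
    rw [Category.assoc]
    exact eL.trans hβ
  apply ((pullbackPushforwardAdjunction a).homEquiv _ _).injective
  apply ((pullbackPushforwardAdjunction b).homEquiv _ _).injective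
  exact eL'.trans eR.symm

end Groth.Agent.Lib.Helper6.PullComp4
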