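import Mathlib
import Groth.Prelude
import Groth.Agent.Lib.Helper6.PullComp3
import Groth.Agent.Lib.Helper6.PullComp4

/-!
# Horizontal composition of the base change maps of `GenBC` (helper6)
-/

set_option linter.style.haveILetI false
set_option autoImplicit false
set_option backward.isDefEq.respectTransparency.types false

universe u
open CategoryTheory AlgebraicGeometry Opposite TopologicalSpace
open AlgebraicGeometry.Scheme.Modules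

noncomputable section

namespace Groth.Agent.Lib.Helper6.PullComp5

open Groth.Agent.Lib.Helper6.PullComp2 Groth.Agent.Lib.Helper6.PullComp3
  Groth.Agent.Lib.Helper6.PullComp4

variable {X Y Z U V W : Scheme.{u}} (f : X ⟶ Y) (g : Y ⟶ Z) (ξ : X ⟶ U) (η : Y ⟶ V) (ζ : Z ⟶ W)
    (φ : U ⟶ V) (ψ : V ⟶ W) (h₁ : IsPullback f ξ η φ) (h₂ : IsPullback g η ζ ψ)
    (hw : (f ≫ g) ≫ ζ = ξ ≫ (φ ≫ ψ))
    [HasInjectiveResolutions X.Modules] [HasInjectiveResolutions Y.Modules]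
    [HasInjectiveResolutions Z.Modules]
    (L : Z.Modules) (p : ℕ)
    {Δζ : RDer.DerivedLES (pushforward ζ)} {Δη : RDer.DerivedLES (pushforward η)}
    {Δξ : RDer.DerivedLES (pushforward ξ)}
    (Eζ : CohCmp.SectCmp ζ Δζ) (Eη : CohCmp.SectCmp η Δη) (Eξ : CohCmp.SectCmp ξ Δξ)
    (B₂ : CohCmp.GenBC ζ ψ η g h₂.w Eζ Eη) (B₁ : CohCmp.GenBC η φ ξ f h₁.w Eη Eξ)
    (B : CohCmp.GenBC ζ (φ ≫ ψ) ξ (f ≫ g) hw Eζ Eξ)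

theorem hstar :
    B.φ p L = B₂.φ p L ≫
      (pushforward ψ).map (B₁.φ p ((pullback g).obj L) ≫
        (pushforward φ).map ((Coh.Rpush ξ p).map ((pullbackComp f g).hom.app L))) ≫
      (pushforwardComp φ ψ).hom.app ((Coh.Rpush ξ p).obj ((pullback (f ≫ g)).obj L)) := by
  apply eq_of_eps ζ Eζ L p
  intro V' x
  have c1 := B.compat V' L p x
  have c2 := B₂.compat V' L p x
  have c3 := B₁.compat (ψ ⁻¹ᵁ V') ((pullback g).obj L) p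
    (CohPull.pullOn g (ζ ⁻¹ᵁ V') (η ⁻¹ᵁ (ψ ⁻¹ᵁ V')) (CohCmp.sqLE ζ ψ η g h₂.w V') L p x)
  have c4 := Eξ.natural (φ ⁻¹ᵁ (ψ ⁻¹ᵁ V')) (F := (pullback f).obj ((pullback g).obj L))
    ((pullbackComp f g).hom.app L) p
    (CohPull.pullOn f (η ⁻¹ᵁ (ψ ⁻¹ᵁ V')) (ξ ⁻¹ᵁ (φ ⁻¹ᵁ (ψ ⁻¹ᵁ V')))
      (CohCmp.sqLE η φ ξ f h₁.w (ψ ⁻¹ᵁ V')) ((pullback g).obj L) p
      (CohPull.pullOn g (ζ ⁻¹ᵁ V') (η ⁻¹ᵁ (ψ ⁻¹ᵁ V')) (CohCmp.sqLE ζ ψ η g h₂.w V') L p x))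
  have c5 := PCF f g (ζ ⁻¹ᵁ V') (η ⁻¹ᵁ (ψ ⁻¹ᵁ V')) (ξ ⁻¹ᵁ (φ ⁻¹ᵁ (ψ ⁻¹ᵁ V')))
    (CohCmp.sqLE ζ ψ η g h₂.w V') (CohCmp.sqLE η φ ξ f h₁.w (ψ ⁻¹ᵁ V'))
    (CohCmp.sqLE ζ (φ ≫ ψ) ξ (f ≫ g) hw V') L p x
  have e2 : ((Coh.Rpush ξ p).map ((pullbackComp f g).hom.app L)).app (φ ⁻¹ᵁ (ψ ⁻¹ᵁ V'))
      ((B₁.φ p ((pullback g).obj L)).app (ψ ⁻¹ᵁ V') ((B₂.φ p L).app V' (Eζ.ε V' L p x))) =
      Eξ.ε (φ ⁻¹ᵁ (ψ ⁻¹ᵁ V')) ((pullback (f ≫ g)).obj L) p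
        (CohPull.pullOn (f ≫ g) (ζ ⁻¹ᵁ V') (ξ ⁻¹ᵁ (φ ⁻¹ᵁ (ψ ⁻¹ᵁ V')))
          (CohCmp.sqLE ζ (φ ≫ ψ) ξ (f ≫ g) hw V') L p x) :=
    (congrArg (fun z => ((Coh.Rpush ξ p).map ((pullbackComp f g).hom.app L)).app
        (φ ⁻¹ᵁ (ψ ⁻¹ᵁ V')) ((B₁.φ p ((pullback g).obj L)).app (ψ ⁻¹ᵁ V') z)) c2).trans
    ((congrArg (fun z => ((Coh.Rpush ξ p).map ((pullbackComp f g).hom.app L)).app
        (φ ⁻¹ᵁ (ψ ⁻¹ᵁ V')) z) c3).trans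
    (c4.symm.trans
      (congrArg (fun z => Eξ.ε (φ ⁻¹ᵁ (ψ ⁻¹ᵁ V')) ((pullback (f ≫ g)).obj L) p z) c5.symm)))
  refine c1.trans (e2.symm.trans ?_)
  rfl

theorem main16948 :
    (pullbackComp φ ψ).hom.app ((Coh.Rpush ζ p).obj L) ≫ B.bc p L =
      (pullback φ).map (B₂.bc p L) ≫ B₁.bc p ((pullback g).obj L) ≫
        (Coh.Rpush ξ p).map ((pullbackComp f g).hom.app L) := by
  have T := transpose_comp φ ψ (B₂.φ p L)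
    (B₁.φ p ((pullback g).obj L) ≫
      (pushforward φ).map ((Coh.Rpush ξ p).map ((pullbackComp f g).hom.app L)))
    (B.φ p L) (hstar f g ξ η ζ φ ψ h₁ h₂ hw L p Eζ Eη Eξ B₂ B₁ B)
  rw [Adjunction.homEquiv_naturality_right_symm] at T
  exact T

end Groth.Agent.Lib.Helper6.PullComp5
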