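import Mathlib

/-!
# Pullback squares of schemes can be checked locally on the bottom-left corner (helper6)
-/

set_option autoImplicit false
universe u
open CategoryTheory CategoryTheory.Limits AlgebraicGeometry

namespace Groth.Agent.Lib.Helper6

section cat
variable {C : Type*} [Category C] [HasPullbacks C]

/-- A categorical step: restricting the comparison map to a pulled-back piece of the pullback. -/
lemma isIso_pullback_snd_of_isPullback {X Y S S' U Xi : C} (f : X ⟶ Y) (p : X ⟶ S') (q : Y ⟶ S)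
    (g : S' ⟶ S) (u : U ⟶ Y)
    (θ : X ⟶ pullback q g) (hθ1 : θ ≫ pullback.fst q g = f) (hθ2 : θ ≫ pullback.snd q g = p)
    (j : pullback (u ≫ q) g ⟶ pullback q g)
    (hj1 : j ≫ pullback.fst q g = pullback.fst (u ≫ q) g ≫ u)
    (hj2 : j ≫ pullback.snd q g = pullback.snd (u ≫ q) g)
    (a : Xi ⟶ X) (b : Xi ⟶ U) (h1 : IsPullback a b f u)
    (h2 : IsPullback b (a ≫ p) (u ≫ q) g) :
    IsIso (pullback.snd θ j) := by
  have sqA : IsPullback (pullback.fst (u ≫ q) g) j u (pullback.fst q g) := by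
    refine IsPullback.of_bot ?_ hj1.symm (IsPullback.of_hasPullback q g)
    rw [hj2]
    exact IsPullback.of_hasPullback (u ≫ q) g
  have sqB : IsPullback (pullback.fst θ j) (pullback.snd θ j ≫ pullback.fst (u ≫ q) g) f u := by
    have := (IsPullback.of_hasPullback θ j).paste_vert sqA.flip
    rwa [hθ1] at this
  have h3 : pullback.snd θ j ≫ pullback.snd (u ≫ q) g = pullback.fst θ j ≫ p := by
    rw [← hj2, ← Category.assoc, ← pullback.condition, Category.assoc, hθ2]
  have key : pullback.snd θ j = (sqB.isoIsPullback _ _ h1).hom ≫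
      (h2.isoIsPullback _ _ (IsPullback.of_hasPullback (u ≫ q) g)).hom := by
    apply pullback.hom_ext
    · rw [Category.assoc, IsPullback.isoIsPullback_hom_fst, IsPullback.isoIsPullback_hom_snd]
    · rw [h3, Category.assoc, IsPullback.isoIsPullback_hom_snd,
        IsPullback.isoIsPullback_hom_fst_assoc]
  rw [key]
  infer_instance

end cat

/-- A commutative square of schemes is a pullback if it becomes one after restricting to each
member of an open cover of the bottom-left corner. -/
lemma isPullback_of_openCover {X Y S S' : Scheme.{u}} (f : X ⟶ Y) (p : X ⟶ S') (q : Y ⟶ S)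
    (g : S' ⟶ S) (comm : f ≫ q = p ≫ g) (𝒰 : Y.OpenCover)
    (Xi : 𝒰.I₀ → Scheme.{u}) (a : ∀ i, Xi i ⟶ X) (b : ∀ i, Xi i ⟶ 𝒰.X i)
    (h1 : ∀ i, IsPullback (a i) (b i) f (𝒰.f i))
    (h2 : ∀ i, IsPullback (b i) (a i ≫ p) (𝒰.f i ≫ q) g) :
    IsPullback f p q g := by
  obtain ⟨θ, hθ1, hθ2⟩ : ∃ θ : X ⟶ pullback q g,
      θ ≫ pullback.fst q g = f ∧ θ ≫ pullback.snd q g = p :=
    ⟨pullback.lift f p comm, pullback.lift_fst _ _ _, pullback.lift_snd _ _ _⟩
  have hθ : MorphismProperty.isomorphisms Scheme θ := by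
    rw [IsZariskiLocalAtTarget.iff_of_openCover (P := MorphismProperty.isomorphisms Scheme)
      (Scheme.Pullback.openCoverOfLeft 𝒰 q g)]
    intro i
    rw [MorphismProperty.isomorphisms.iff]
    have hj1 : (Scheme.Pullback.openCoverOfLeft 𝒰 q g).f i ≫ pullback.fst q g =
        pullback.fst (𝒰.f i ≫ q) g ≫ 𝒰.f i := by
      simp only [Scheme.Pullback.openCoverOfLeft_f, pullback.map]
      exact pullback.lift_fst _ _ _
    have hj2 : (Scheme.Pullback.openCoverOfLeft 𝒰 q g).f i ≫ pullback.snd q g =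
        pullback.snd (𝒰.f i ≫ q) g := by
      simp only [Scheme.Pullback.openCoverOfLeft_f, pullback.map]
      exact (pullback.lift_snd _ _ _).trans (Category.comp_id _)
    exact isIso_pullback_snd_of_isPullback f p q g (𝒰.f i) θ hθ1 hθ2
      ((Scheme.Pullback.openCoverOfLeft 𝒰 q g).f i) hj1 hj2 (a i) (b i) (h1 i) (h2 i)
  have : IsIso θ := hθ
  exact IsPullback.of_iso_pullback ⟨comm⟩ (asIso θ) hθ1 hθ2

end Groth.Agent.Lib.Helper6
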