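import Mathlib
import Groth.Prelude
import Groth.Agent.Lib.Helper3.FEtRank

/-!
# `g_* O_{X'}` is finite locally free for `g` finite, flat, locally of finite presentation
(helper6, sub-lemma M2 for helper3's S1555)
-/

set_option autoImplicit false
universe u
open CategoryTheory CategoryTheory.Limits AlgebraicGeometry Opposite TopologicalSpace
open Groth.Agent.Lib.Helper3 Groth.Agent.Lib.Helper3.QCSec Groth.Agent.Lib.Helper3.InvGen
  Groth.Agent.Lib.Helper3.FreeBasis

namespace Groth.Agent.Lib.Helper6.PushFinFlat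
open H16FNorm H3.FEtSplit H3.FEtFib H3.FEtRank

theorem isFinLocFree_push_of_finite_flat {X' X : Scheme.{u}} (g : X' ⟶ X) [IsFinite g] [Flat g]
    [LocallyOfFinitePresentation g] :
    FlatMod.IsFinLocFree ((Coh.push g).obj (Coh.structureModule X')) := by
  haveI : (Coh.structureModule X').IsQuasicoherent :=
    InvCoh.isQuasicoherent_of_isInvertible (InvGen.isInvertible_structureModule X')
  haveI : (pushO g).IsQuasicoherent :=
    QCSec.isQuasicoherent_pushforward g (Coh.structureModule X')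
  show FlatMod.IsFinLocFree (pushO g)
  intro y
  obtain ⟨V, hV, hyV, -⟩ := exists_good g (U := ⊤) (y := y) trivial
  letI := alg g V
  haveI : Nontrivial Γ(X, V) :=
    PrimeSpectrum.nontrivial (R := Γ(X, V)) (hV.affine.primeIdealOf ⟨y, hyV⟩)
  haveI := hV.free
  haveI := hV.finite
  let b : Module.Basis (Fin (Module.finrank Γ(X, V) Γ(X', g ⁻¹ᵁ V))) Γ(X, V) Γ(X', g ⁻¹ᵁ V) :=
    Module.finBasisOfFinrankEq _ _ rfl
  let b' : Module.Basis (Fin (Module.finrank Γ(X, V) Γ(X', g ⁻¹ᵁ V))) Γ(X, V) Γ(pushO g, V) :=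
    b.map (secEquiv g V).symm
  exact ⟨V, _, hyV, FreeBasis.nonempty_iso_of_isBasis
    (SecLoc.isBasis_of_isBasisAt (pushO g) hV.affine (SecLoc.isBasisAt_of_basis (pushO g) V b'))⟩

end Groth.Agent.Lib.Helper6.PushFinFlat
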