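import Groth.Agent.S2438
import Groth.Agent.S2442
import Groth.Agent.S0013
import Groth.Agent.Lib.Helper6.KosUnit
import Groth.Agent.Lib.Helper3.QCOpen

/-!
# A quasi-affine scheme with acyclic structure sheaf is affine

Choose global functions `f_1, …, f_r` with `X_{f_i}` affine covering `X`.  By the Čech / Koszul
comparison (`S2438`, `S2442`, `S0013`) the limit Koszul cohomology `H^p((f), Γ(X, O_X))` vanishes for
all `p`; by `KosUnit.span_eq_top_of_TT` the `f_i` generate the unit ideal, so `X` is affine.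
-/

set_option autoImplicit false
set_option linter.style.haveILetI false
set_option linter.unusedSectionVars false
set_option linter.unusedVariables false
set_option maxHeartbeats 800000

universe u

open CategoryTheory CategoryTheory.Limits AlgebraicGeometry TopologicalSpace Opposite

namespace Groth.Agent.Lib.Helper6.QAffAcyc

open Groth.Agent.Lib.Helper4.KosLim Groth.Agent.Lib.Lead.KosVanish

/-! ### generalities -/

lemma subsingleton_ker_of_injective {G H : Type*} [AddGroup G] [AddGroup H] (f : G →+ H)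
    (hf : Function.Injective f) : Subsingleton f.ker :=
  ⟨fun a b => Subtype.ext
    (hf ((AddMonoidHom.mem_ker.1 a.2).trans (AddMonoidHom.mem_ker.1 b.2).symm))⟩

lemma subsingleton_quot_range_of_surjective {G H : Type*} [AddCommGroup G] [AddCommGroup H]
    (f : G →+ H) (hf : Function.Surjective f) : Subsingleton (H ⧸ f.range) := by
  have hz : ∀ q : H ⧸ f.range, q = 0 := by
    intro q
    obtain ⟨b, rfl⟩ := QuotientAddGroup.mk_surjective q
    obtain ⟨a, rfl⟩ := hf b
    exact (QuotientAddGroup.eq_zero_iff _).2 (AddMonoidHom.mem_range.2 ⟨a, rfl⟩)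
  exact ⟨fun a b => by rw [hz a, hz b]⟩

lemma bijective_res {X : Scheme.{u}} (G : (X.Opens)ᵒᵖ ⥤ AddCommGrpCat.{u}) (U : X.Opens)
    (hU : U = ⊤) : Function.Bijective ((G.map (homOfLE (le_top : U ≤ ⊤)).op).hom) := by
  subst hU
  have h1 : (homOfLE (le_top : (⊤ : X.Opens) ≤ ⊤)) = 𝟙 _ := Subsingleton.elim _ _
  rw [h1, op_id, G.map_id, AddCommGrpCat.hom_id]
  exact Function.bijective_id

/-- the sections of the structure module over `⊤` are `Γ(X, ⊤)`. -/
noncomputable def unitEquiv (X : Scheme.{u}) :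
    Γ(X, ⊤) ≃ₗ[Γ(X, ⊤)] ((Coh.structureModule X).val.obj (op ⊤)) where
  toFun a := a
  invFun m := m
  map_add' _ _ := rfl
  map_smul' _ _ := rfl
  left_inv _ := rfl
  right_inv _ := rfl

/-! ### the covering by affine basic opens -/

lemma exists_list (X : Scheme.{u}) [X.IsQuasiAffine] :
    ∃ fs : List Γ(X, ⊤), (∀ a ∈ fs, IsAffineOpen (X.basicOpen a)) ∧
      ∀ x : X, ∃ i : Fin fs.length, x ∈ X.basicOpen (fs.get i) := by
  classical
  have hpt : ∀ x : X, ∃ r : Γ(X, ⊤), IsAffineOpen (X.basicOpen r) ∧ x ∈ X.basicOpen r := by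
    intro x
    obtain ⟨_, ⟨_, ⟨r, hr, rfl⟩, rfl⟩, hxr, -⟩ :=
      (Scheme.IsQuasiAffine.isBasis_basicOpen X).exists_subset_of_mem_open
        (Set.mem_univ x) isOpen_univ
    exact ⟨r, hr, hxr⟩
  choose r hr hxr using hpt
  obtain ⟨t, ht⟩ := isCompact_univ.elim_finite_subcover
    (fun x : X => ((X.basicOpen (r x) : X.Opens) : Set X))
    (fun x => (X.basicOpen (r x)).isOpen) (fun x _ => Set.mem_iUnion.2 ⟨x, hxr x⟩)
  refine ⟨t.toList.map r, ?_, ?_⟩
  · intro a ha
    obtain ⟨x, _, rfl⟩ := List.mem_map.1 ha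
    exact hr x
  · intro x
    obtain ⟨y, hyt, hxy⟩ := Set.mem_iUnion₂.1 (ht (Set.mem_univ x))
    have hmem : r y ∈ t.toList.map r := List.mem_map.2 ⟨y, Finset.mem_toList.2 hyt, rfl⟩
    obtain ⟨i, hi⟩ := List.mem_iff_get.1 hmem
    exact ⟨i, by rw [hi]; exact hxy⟩

lemma isAffineOpen_basicOpen_inf (X : Scheme.{u}) (a b : Γ(X, ⊤))
    (ha : IsAffineOpen (X.basicOpen a)) : IsAffineOpen (X.basicOpen a ⊓ X.basicOpen b) := by
  have h := ha.basicOpen (X.presheaf.map (homOfLE (le_top : X.basicOpen a ≤ ⊤)).op b)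
  rwa [Scheme.basicOpen_res] at h

lemma basicOpen_prod (X : Scheme.{u}) {κ : Type*} (s : Finset κ) (a : κ → Γ(X, ⊤)) :
    X.basicOpen (∏ k ∈ s, a k) = s.inf (fun k => X.basicOpen (a k)) := by
  classical
  induction s using Finset.induction_on with
  | empty => simp
  | insert b s hb ih => rw [Finset.prod_insert hb, Finset.inf_insert, Scheme.basicOpen_mul, ih]

section main

variable (X : Scheme.{u}) [X.IsQuasiAffine] (fs : List Γ(X, ⊤))
  (haff : ∀ a ∈ fs, IsAffineOpen (X.basicOpen a))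
  (hcov : ∀ x : X, ∃ i : Fin fs.length, x ∈ X.basicOpen (fs.get i))

include hcov in
lemma iSup_eq_top : (⨆ i : Fin fs.length, X.basicOpen (fs.get i)) = ⊤ :=
  top_le_iff.1 (fun x _ => Opens.mem_iSup.2 (hcov x))

include hcov in
lemma iSup_ulift_eq_top :
    (⨆ i : ULift.{u} (Fin fs.length), X.basicOpen (fs.get i.down)) = ⊤ :=
  top_le_iff.1 (fun x _ => by
    obtain ⟨i, hi⟩ := hcov x
    exact Opens.mem_iSup.2 ⟨⟨i⟩, hi⟩)

include haff in
lemma isAffineOpen_iInf (s : Finset (ULift.{u} (Fin fs.length))) (hs : s.Nonempty) :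
    IsAffineOpen (⨅ i ∈ s, X.basicOpen (fs.get i.down)) := by
  classical
  obtain ⟨i0, hi0⟩ := hs
  have e1 : (⨅ i ∈ s, X.basicOpen (fs.get i.down)) =
      s.inf (fun i => X.basicOpen (fs.get i.down)) := (Finset.inf_eq_iInf s _).symm
  rw [e1, ← basicOpen_prod X s (fun i => fs.get i.down),
    ← Finset.mul_prod_erase s (fun i => fs.get i.down) hi0, Scheme.basicOpen_mul]
  exact isAffineOpen_basicOpen_inf X _ _ (haff _ (List.get_mem _ _))

include haff hcov in
lemma subsingleton_koszulHLim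
    (h : ∀ p : ℕ, 0 < p → Subsingleton (Coh.HH X (Coh.structureModule X) p)) (p : ℕ) :
    Subsingleton (CohIII.koszulHLim fs
      (ModuleCat.of Γ(X, ⊤) ((Coh.structureModule X).val.obj (op ⊤))) p) := by
  haveI : Coh.IsQCoh (Coh.structureModule X) :=
    Groth.Agent.Lib.Helper3.QCOpen.isQuasicoherent_structureModule X
  have hbij := bijective_res ((Coh.toAb (Coh.structureModule X)).obj)
    (⨆ i : Fin fs.length, X.basicOpen (fs.get i)) (iSup_eq_top X fs hcov)
  rcases p with _ | _ | p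
  · obtain ⟨⟨e⟩, -⟩ := Groth.Agent.S2442.result X fs (Coh.structureModule X)
    haveI := subsingleton_ker_of_injective _ hbij.1
    exact e.symm.toEquiv.subsingleton
  · obtain ⟨-, ⟨e⟩⟩ := Groth.Agent.S2442.result X fs (Coh.structureModule X)
    haveI := subsingleton_quot_range_of_surjective _ hbij.2
    exact e.symm.toEquiv.subsingleton
  · obtain ⟨e1⟩ := Groth.Agent.S2438.result X fs (Coh.structureModule X) (p + 1) (by omega)
    obtain ⟨e2⟩ := Groth.Agent.S0013.result X
      (fun i : ULift.{u} (Fin fs.length) => X.basicOpen (fs.get i.down))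
      (iSup_ulift_eq_top X fs hcov) (isAffineOpen_iInf X fs haff) (Coh.structureModule X) (p + 1)
    haveI := h (p + 1) (by omega)
    haveI : Subsingleton ↑(CohB1.cechH
        (fun i : ULift.{u} (Fin fs.length) => X.basicOpen (fs.get i.down))
        (Coh.structureModule X) (p + 1)) := e2.toEquiv.subsingleton
    exact e1.symm.toEquiv.subsingleton

include haff hcov in
lemma subsingleton_TT_unit
    (h : ∀ p : ℕ, 0 < p → Subsingleton (Coh.HH X (Coh.structureModule X) p)) (p : ℕ) :
    Subsingleton (TT fs (ModuleCat.of Γ(X, ⊤) Γ(X, ⊤)) p) := by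
  haveI := subsingleton_koszulHLim X fs haff hcov h p
  haveI : Subsingleton (TT fs
      (ModuleCat.of Γ(X, ⊤) ((Coh.structureModule X).val.obj (op ⊤))) p) :=
    (toTT fs _ p).symm.toEquiv.subsingleton
  obtain ⟨E⟩ : Nonempty (ModuleCat.of Γ(X, ⊤) ((Coh.structureModule X).val.obj (op ⊤)) ≅
      ModuleCat.of Γ(X, ⊤) Γ(X, ⊤)) := ⟨(unitEquiv X).symm.toModuleIso⟩
  have hz : ∀ x : TT fs (ModuleCat.of Γ(X, ⊤) Γ(X, ⊤)) p, x = 0 := by
    intro x
    have h1 : TT.map fs p (E.inv ≫ E.hom) x = x := by rw [E.inv_hom_id, TT_map_id]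
    rw [TT_map_comp] at h1
    rw [← h1, Subsingleton.elim (TT.map fs p E.inv x) 0, map_zero]
  exact ⟨fun a b => by rw [hz a, hz b]⟩

end main

/-- A quasi-affine scheme whose structure sheaf has no higher cohomology is affine. -/
theorem main (X : Scheme.{u}) [X.IsQuasiAffine]
    (h : ∀ p : ℕ, 0 < p → Subsingleton (Coh.HH X (Coh.structureModule X) p)) : IsAffine X := by
  obtain ⟨fs, haff, hcov⟩ := exists_list X
  have hspan := Groth.Agent.Lib.Helper6.KosUnit.span_eq_top_of_TT fs
    (subsingleton_TT_unit X fs haff hcov h)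
  exact isAffine_of_isAffineOpen_basicOpen {a | a ∈ fs} hspan (fun a ha => haff a ha)

end Groth.Agent.Lib.Helper6.QAffAcyc
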