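import Mathlib

/-!
# Quasi-finite separated morphisms with finite fibre maps over a base of dimension `≤ 1` are affine

Let `S` be locally Noetherian of dimension `≤ 1`, `X`, `Y` schemes over `S` with `X` locally of
finite type, and `f : X ⟶ Y` an `S`-morphism which is quasi-compact, locally quasi-finite and
separated, such that the induced maps on the fibres over all points of `S` are finite.  Then `f`
is affine (SGA 3 XVI-type lemma).

Proof: Zariski's main theorem factors `f = j ≫ π` with `j` an open immersion (quasi-compact,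
dominant) and `π` integral.  The complement of `j` is then shown to be locally principal
(set-theoretically) by a ring-level argument (`core`).
-/

set_option autoImplicit false
set_option linter.style.haveILetI false

open CategoryTheory CategoryTheory.Limits AlgebraicGeometry TopologicalSpace

universe u

namespace Groth.Agent.Lib.Helper6.QFAffDimOne

section Ring

variable {R B : Type u} [CommRing R] [CommRing B]

lemma false_of_chain (hdim : ringKrullDim R ≤ 1) {a b c : PrimeSpectrum R} (h1 : a < b)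
    (h2 : b < c) : False := by
  have e1 : (1 : ℕ∞) ≤ Order.height b := le_trans le_add_self (Order.height_add_one_le h1)
  have e2 : (2 : ℕ∞) ≤ Order.height c := by
    calc (2 : ℕ∞) = 1 + 1 := by norm_num
      _ ≤ Order.height b + 1 := by gcongr
      _ ≤ Order.height c := Order.height_add_one_le h2
  have h2' : ((2 : ℕ∞) : WithBot ℕ∞) ≤ ringKrullDim R :=
    (WithBot.coe_le_coe.mpr e2).trans (Order.height_le_krullDim c)
  have h2'' := h2'.trans hdim
  have h3 : (2 : ℕ∞) ≤ 1 := (WithBot.coe_le_coe (a := (2 : ℕ∞)) (b := (1 : ℕ∞))).mp h2''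
  have : (2 : ℕ) ≤ 1 := by exact_mod_cast h3
  omega

lemma eq_of_le_of_not_minimal (hdim : ringKrullDim R ≤ 1) {n m : PrimeSpectrum R}
    (hn : n.asIdeal ∉ minimalPrimes R) (hnm : n ≤ m) : n = m := by
  by_contra hne
  obtain ⟨p, hp, hpn⟩ :=
    Ideal.exists_minimalPrimes_le (I := (⊥ : Ideal R)) (J := n.asIdeal) bot_le
  let p' : PrimeSpectrum R := ⟨p, hp.1.1⟩
  have hle : p' ≤ n := hpn
  have hpn' : p' < n := by
    refine lt_of_le_of_ne hle ?_
    intro h
    apply hn
    rw [← h]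
    exact hp
  exact false_of_chain hdim hpn' (lt_of_le_of_ne hnm hne)

lemma exists_not_mem_mul_pow_eq_zero {q : Ideal B} (hq : q ∈ minimalPrimes B) {a : B}
    (ha : a ∈ q) : ∃ b ∉ q, ∃ n : ℕ, b * a ^ n = 0 := by
  haveI := hq.1.1
  by_contra hcon
  push Not at hcon
  have hdisj : Disjoint (((⊥ : Ideal B) : Ideal B) : Set B)
      ((q.primeCompl ⊔ Submonoid.powers a : Submonoid B) : Set B) := by
    rw [Set.disjoint_left]
    intro x hx hxS
    have hx0 : x = 0 := by simpa using hx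
    obtain ⟨y, hy, z, ⟨n, rfl⟩, hyz⟩ := Submonoid.mem_sup.mp hxS
    exact hcon y hy n (by rw [hyz, hx0])
  obtain ⟨p, hp, -, hpS⟩ := Ideal.exists_le_prime_disjoint (I := (⊥ : Ideal B))
    (S := q.primeCompl ⊔ Submonoid.powers a) hdisj
  have hpq : p ≤ q := by
    intro x hx
    by_contra hxq
    exact Set.disjoint_left.mp hpS hx (Submonoid.mem_sup_left hxq)
  have hqp : q ≤ p := hq.2 ⟨hp, bot_le⟩ hpq
  exact Set.disjoint_left.mp hpS (hqp ha)
    (Submonoid.mem_sup_right (Submonoid.mem_powers a))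

lemma mem_of_dense_of_minimal {U : Set (PrimeSpectrum B)} (hUo : IsOpen U) (hUc : IsCompact U)
    (hUd : Dense U) (q : PrimeSpectrum B) (hq : q.asIdeal ∈ minimalPrimes B) : q ∈ U := by
  classical
  obtain ⟨t, ht⟩ := PrimeSpectrum.isCompact_isOpen_iff.mp ⟨hUc, hUo⟩
  by_contra hqU
  have htq : ∀ a ∈ t, a ∈ q.asIdeal := by
    intro a ha
    by_contra haq
    apply hqU
    rw [← ht]
    intro hmem
    exact haq ((PrimeSpectrum.mem_zeroLocus _ _).mp hmem (Finset.mem_coe.mpr ha))
  choose! b hb n hbn using fun a (ha : a ∈ q.asIdeal) => exists_not_mem_mul_pow_eq_zero hq ha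
  let O : Set (PrimeSpectrum B) :=
    ⋂ a ∈ t, (PrimeSpectrum.basicOpen (b a) : Set (PrimeSpectrum B))
  have hO : IsOpen O := isOpen_biInter_finset (fun a _ => (PrimeSpectrum.basicOpen (b a)).isOpen)
  have hqO : q ∈ O := by
    simp only [O, Set.mem_iInter]
    intro a ha
    exact hb a (htq a ha)
  obtain ⟨w, hwO, hwU⟩ := hUd.inter_open_nonempty O hO ⟨q, hqO⟩
  rw [← ht] at hwU
  have hex : ∃ a ∈ t, a ∉ w.asIdeal := by
    by_contra hcon
    push Not at hcon
    exact hwU ((PrimeSpectrum.mem_zeroLocus _ _).mpr (fun a ha => hcon a (Finset.mem_coe.mp ha)))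
  obtain ⟨a, hat, haw⟩ := hex
  have hbw : b a ∉ w.asIdeal := Set.mem_iInter₂.mp hwO a hat
  have h0 : b a * a ^ n a ∈ w.asIdeal := by
    rw [hbn a (htq a hat)]; exact w.asIdeal.zero_mem
  rcases w.2.mem_or_mem h0 with h | h
  · exact hbw h
  · exact haw (w.2.mem_of_pow_mem _ h)

/-- Ring-level core: `R` Noetherian of dimension `≤ 1`, `U` a dense quasi-compact open of
`Spec B` which is closed in every fibre of `Spec B → Spec R`.  Then the complement of `U` is
locally (set-theoretically) principal. -/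
theorem core [IsNoetherianRing R] (hdim : ringKrullDim R ≤ 1) (φ : R →+* B)
    (U : Set (PrimeSpectrum B)) (hUo : IsOpen U) (hUc : IsCompact U) (hUd : Dense U)
    (hfib : ∀ m : PrimeSpectrum R, ∃ C : Set (PrimeSpectrum B), IsClosed C ∧
      ∀ w : PrimeSpectrum B, PrimeSpectrum.comap φ w = m → (w ∈ C ↔ w ∈ U))
    (z : PrimeSpectrum B) (hz : z ∉ U) :
    ∃ b c : B, z ∈ (PrimeSpectrum.basicOpen b : Set (PrimeSpectrum B)) ∧
      U ∩ (PrimeSpectrum.basicOpen b : Set (PrimeSpectrum B)) =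
        (PrimeSpectrum.basicOpen c : Set (PrimeSpectrum B)) := by
  classical
  have step1 : ∀ w : PrimeSpectrum B, w ∉ U →
      (PrimeSpectrum.comap φ w).asIdeal ∉ minimalPrimes R := by
    intro w hw hmin
    obtain ⟨q, hq, hqw⟩ :=
      Ideal.exists_minimalPrimes_le (I := (⊥ : Ideal B)) (J := w.asIdeal) bot_le
    let q' : PrimeSpectrum B := ⟨q, hq.1.1⟩
    have hq'U : q' ∈ U := mem_of_dense_of_minimal hUo hUc hUd q' hq
    have hle : q' ≤ w := hqw
    have h1 : PrimeSpectrum.comap φ q' ≤ PrimeSpectrum.comap φ w := Ideal.comap_mono hqw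
    have hcq : PrimeSpectrum.comap φ q' = PrimeSpectrum.comap φ w :=
      le_antisymm h1 (hmin.2 ⟨(PrimeSpectrum.comap φ q').2, bot_le⟩ h1)
    obtain ⟨C, hC, hCU⟩ := hfib (PrimeSpectrum.comap φ w)
    have hq'C : q' ∈ C := (hCU q' hcq).mpr hq'U
    have hsp : q' ⤳ w := (PrimeSpectrum.le_iff_specializes q' w).mp hle
    exact hw ((hCU w rfl).mp (hsp.mem_closed hC hq'C))
  obtain ⟨m, hm⟩ : ∃ m : PrimeSpectrum R, m = PrimeSpectrum.comap φ z := ⟨_, rfl⟩
  have hmnm : m.asIdeal ∉ minimalPrimes R := by rw [hm]; exact step1 z hz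
  have hfinR : (minimalPrimes R).Finite := minimalPrimes.finite_of_isNoetherianRing (R := R)
  have hav : ∃ t ∈ m.asIdeal, ∀ p ∈ minimalPrimes R, t ∉ p := by
    by_contra hcon
    push Not at hcon
    have hsub : ((m.asIdeal : Set R) ⊆
        ⋃ p ∈ (hfinR.toFinset : Set (Ideal R)), ((id p : Ideal R) : Set R)) := by
      intro t ht
      obtain ⟨p, hp, htp⟩ := hcon t ht
      exact Set.mem_biUnion (show p ∈ (hfinR.toFinset : Set (Ideal R)) by simpa using hp) htp
    obtain ⟨p, hp, hmp⟩ := (Ideal.subset_union_prime (s := hfinR.toFinset) (f := id) ⊥ ⊥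
      (fun i hi _ _ => (hfinR.mem_toFinset.mp hi).1.1)).mp hsub
    have hp' : p ∈ minimalPrimes R := hfinR.mem_toFinset.mp hp
    have hpm : p ≤ m.asIdeal := hp'.2 ⟨m.2, bot_le⟩ hmp
    have hEq : m.asIdeal = p := le_antisymm hmp hpm
    exact hmnm (by rw [hEq]; exact hp')
  obtain ⟨t, htm, htmin⟩ := hav
  have hFfin : (Ideal.span ({t} : Set R)).minimalPrimes.Finite :=
    Ideal.finite_minimalPrimes_of_isNoetherianRing (R := R) (Ideal.span {t})
  have hVt : ∀ n : PrimeSpectrum R, t ∈ n.asIdeal →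
      n.asIdeal ∈ (Ideal.span ({t} : Set R)).minimalPrimes := by
    intro n htn
    have hle : Ideal.span ({t} : Set R) ≤ n.asIdeal := by
      rw [Ideal.span_singleton_le_iff_mem]; exact htn
    obtain ⟨n', hn', hn'n⟩ := Ideal.exists_minimalPrimes_le hle
    let n'' : PrimeSpectrum R := ⟨n', hn'.1.1⟩
    have htn' : t ∈ n' := hn'.1.2 (Ideal.subset_span (Set.mem_singleton t))
    have hnm' : n''.asIdeal ∉ minimalPrimes R := fun h => htmin _ h htn'
    have hEq : n'' = n := eq_of_le_of_not_minimal hdim hnm' hn'n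
    rw [← hEq]; exact hn'
  have hr : ∀ n : Ideal R, n ∈ (Ideal.span ({t} : Set R)).minimalPrimes → n ≠ m.asIdeal →
      ∃ r ∈ n, r ∉ m.asIdeal := by
    intro n hn hne
    by_contra hcon
    push Not at hcon
    have hle : n ≤ m.asIdeal := fun r hr => hcon r hr
    let n'' : PrimeSpectrum R := ⟨n, hn.1.1⟩
    have htn : t ∈ n := hn.1.2 (Ideal.subset_span (Set.mem_singleton t))
    have hnm' : n''.asIdeal ∉ minimalPrimes R := fun h => htmin _ h htn
    have hEq : n'' = m := eq_of_le_of_not_minimal hdim hnm' hle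
    exact hne (congrArg PrimeSpectrum.asIdeal hEq)
  choose! r hr1 hr2 using hr
  obtain ⟨C, hC, hCU⟩ := hfib m
  have hzm : PrimeSpectrum.comap φ z = m := hm.symm
  have hzC : z ∉ C := fun h => hz ((hCU z hzm).mp h)
  let Fs : Finset (Ideal R) := hFfin.toFinset.filter (fun n => n ≠ m.asIdeal)
  let O1 : Set (PrimeSpectrum B) :=
    ⋂ n ∈ Fs, (PrimeSpectrum.basicOpen (φ (r n)) : Set (PrimeSpectrum B))
  have hO1 : IsOpen O1 :=
    isOpen_biInter_finset (fun n _ => (PrimeSpectrum.basicOpen (φ (r n))).isOpen)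
  have hzO1 : z ∈ O1 := by
    simp only [O1, Set.mem_iInter]
    intro n hn
    have hn' := Finset.mem_filter.mp hn
    have hnF : n ∈ (Ideal.span ({t} : Set R)).minimalPrimes := hFfin.mem_toFinset.mp hn'.1
    show φ (r n) ∉ z.asIdeal
    intro hmem
    have h' : r n ∈ (PrimeSpectrum.comap φ z).asIdeal := hmem
    rw [hzm] at h'
    exact hr2 n hnF hn'.2 h'
  have hO1key : ∀ w ∈ O1, t ∈ (PrimeSpectrum.comap φ w).asIdeal →
      PrimeSpectrum.comap φ w = m := by
    intro w hw htw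
    by_contra hne
    have hnF := hVt _ htw
    have hne' : (PrimeSpectrum.comap φ w).asIdeal ≠ m.asIdeal :=
      fun h => hne (PrimeSpectrum.ext h)
    have hmemFs : (PrimeSpectrum.comap φ w).asIdeal ∈ Fs :=
      Finset.mem_filter.mpr ⟨hFfin.mem_toFinset.mpr hnF, hne'⟩
    have h1 : φ (r (PrimeSpectrum.comap φ w).asIdeal) ∉ w.asIdeal :=
      Set.mem_iInter₂.mp hw _ hmemFs
    have h2 : r (PrimeSpectrum.comap φ w).asIdeal ∈ (PrimeSpectrum.comap φ w).asIdeal :=
      hr1 _ hnF hne'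
    exact h1 h2
  obtain ⟨tB, htB⟩ : ∃ tB : B, tB = φ t := ⟨_, rfl⟩
  obtain ⟨E, hE⟩ : ∃ E : Set (PrimeSpectrum B),
      E = Uᶜ ∩ (PrimeSpectrum.basicOpen tB : Set (PrimeSpectrum B)) := ⟨_, rfl⟩
  have hzE : z ∉ closure E := by
    intro hzcl
    rw [← PrimeSpectrum.zeroLocus_vanishingIdeal_eq_closure] at hzcl
    have hKz : PrimeSpectrum.vanishingIdeal E ≤ z.asIdeal :=
      fun x hx => (PrimeSpectrum.mem_zeroLocus _ _).mp hzcl hx
    obtain ⟨q, hq, hqz⟩ := Ideal.exists_minimalPrimes_le hKz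
    let q' : PrimeSpectrum B := ⟨q, hq.1.1⟩
    have htq : tB ∉ q := by
      intro htq
      obtain ⟨y, hyK, hty⟩ := Ideal.exists_mul_mem_of_mem_minimalPrimes hq htq
      apply hyK
      rw [PrimeSpectrum.mem_vanishingIdeal]
      intro w hw
      have h1 : tB * y ∈ w.asIdeal := (PrimeSpectrum.mem_vanishingIdeal _ _).mp hty w hw
      rw [hE] at hw
      rcases w.2.mem_or_mem h1 with h | h
      · exact absurd h hw.2
      · exact h
    have hq'cl : q' ∈ closure E := by
      rw [← PrimeSpectrum.zeroLocus_vanishingIdeal_eq_closure]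
      exact (PrimeSpectrum.mem_zeroLocus _ _).mpr (fun x hx => hq.1.2 hx)
    have hq'U : q' ∉ U := by
      have hsub : closure E ⊆ Uᶜ := by
        rw [hE]; exact closure_minimal Set.inter_subset_left hUo.isClosed_compl
      exact hsub hq'cl
    have hnm := step1 q' hq'U
    have hle : PrimeSpectrum.comap φ q' ≤ m := by
      rw [hm]; exact Ideal.comap_mono hqz
    have hEq : PrimeSpectrum.comap φ q' = m := eq_of_le_of_not_minimal hdim hnm hle
    apply htq
    have h' : t ∈ (PrimeSpectrum.comap φ q').asIdeal := by rw [hEq]; exact htm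
    rw [htB]; exact h'
  have hOo : IsOpen ((Cᶜ ∩ O1) ∩ (closure E)ᶜ) :=
    (hC.isOpen_compl.inter hO1).inter isClosed_closure.isOpen_compl
  have hzO : z ∈ (Cᶜ ∩ O1) ∩ (closure E)ᶜ := ⟨⟨hzC, hzO1⟩, hzE⟩
  obtain ⟨v, ⟨b, rfl⟩, hzb, hbO⟩ :=
    PrimeSpectrum.isTopologicalBasis_basic_opens.exists_subset_of_mem_open hzO hOo
  refine ⟨b, b * tB, hzb, ?_⟩
  ext w
  constructor
  · rintro ⟨hwU, hwb⟩
    have hwO : w ∈ (Cᶜ ∩ O1) ∩ (closure E)ᶜ := hbO hwb
    show b * tB ∉ w.asIdeal
    intro hmul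
    rcases w.2.mem_or_mem hmul with h | h
    · exact hwb h
    · have h' : t ∈ (PrimeSpectrum.comap φ w).asIdeal := by
        show φ t ∈ w.asIdeal
        rw [← htB]; exact h
      have hcw : PrimeSpectrum.comap φ w = m := hO1key w hwO.1.2 h'
      exact hwO.1.1 ((hCU w hcw).mpr hwU)
  · intro hmul
    have hmul' : b * tB ∉ w.asIdeal := hmul
    have hwb : b ∉ w.asIdeal := fun h => hmul' (w.asIdeal.mul_mem_right _ h)
    have hwt : tB ∉ w.asIdeal := fun h => hmul' (w.asIdeal.mul_mem_left _ h)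
    have hwb' : w ∈ (PrimeSpectrum.basicOpen b : Set (PrimeSpectrum B)) := hwb
    refine ⟨?_, hwb'⟩
    by_contra hwU
    have hwO : w ∈ (Cᶜ ∩ O1) ∩ (closure E)ᶜ := hbO hwb'
    apply hwO.2
    apply subset_closure
    rw [hE]
    exact ⟨hwU, hwt⟩

end Ring

section Sch

variable {S X Y : Scheme.{u}}

lemma aff_preimage {X N : Scheme.{u}} (j : X ⟶ N) [IsOpenImmersion j] (W : N.Opens)
    (hW : IsAffineOpen W) (hWr : (W : Set N) ⊆ Set.range j) : IsAffineOpen (j ⁻¹ᵁ W) := by
  rw [← j.isAffineOpen_iff_of_isOpenImmersion, j.image_preimage_eq_opensRange_inf]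
  have : j.opensRange ⊓ W = W := by
    apply inf_eq_right.mpr
    intro n hn
    exact hWr hn
  rw [this]; exact hW

/-- Closedness of `range j` in the fibres, from properness of the fibre maps. -/
theorem fibre_closed {N T : Scheme.{u}} (p : X ⟶ S) (q : Y ⟶ S) (f : X ⟶ Y) (j : X ⟶ N)
    (π : N ⟶ Y) (hjπ : j ≫ π = f) (hfq : f ≫ q = p) [IsIntegralHom π]
    (σ : T ⟶ S) [IsPreimmersion σ] (fs : pullback p σ ⟶ pullback q σ)
    (hfs1 : fs ≫ pullback.fst q σ = pullback.fst p σ ≫ f)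
    (hfs2 : fs ≫ pullback.snd q σ = pullback.snd p σ)
    [IsFinite fs] :
    ∃ C : Set N, IsClosed C ∧
      ∀ w : N, (π ≫ q) w ∈ Set.range σ → (w ∈ C ↔ w ∈ Set.range j) := by
  have hjg : j ≫ (π ≫ q) = p := by rw [← Category.assoc, hjπ, hfq]
  let js : pullback p σ ⟶ pullback (π ≫ q) σ :=
    pullback.lift (pullback.fst p σ ≫ j) (pullback.snd p σ)
      (by rw [Category.assoc, hjg, pullback.condition])
  let πs : pullback (π ≫ q) σ ⟶ pullback q σ :=
    pullback.lift (pullback.fst (π ≫ q) σ ≫ π) (pullback.snd (π ≫ q) σ)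
      (by rw [Category.assoc, pullback.condition])
  have hjs1 : js ≫ pullback.fst (π ≫ q) σ = pullback.fst p σ ≫ j := pullback.lift_fst _ _ _
  have hjs2 : js ≫ pullback.snd (π ≫ q) σ = pullback.snd p σ := pullback.lift_snd _ _ _
  have hπs1 : πs ≫ pullback.fst q σ = pullback.fst (π ≫ q) σ ≫ π := pullback.lift_fst _ _ _
  have hπs2 : πs ≫ pullback.snd q σ = pullback.snd (π ≫ q) σ := pullback.lift_snd _ _ _
  have hfac : js ≫ πs = fs := by
    apply pullback.hom_ext
    · rw [Category.assoc, hπs1, ← Category.assoc, hjs1, Category.assoc, hjπ, hfs1]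
    · rw [Category.assoc, hπs2, hjs2, hfs2]
  have hsq : IsPullback (pullback.fst (π ≫ q) σ) πs π (pullback.fst q σ) := by
    refine IsPullback.of_bot ?_ hπs1.symm (IsPullback.of_hasPullback q σ)
    rw [hπs2]
    exact IsPullback.of_hasPullback (π ≫ q) σ
  haveI : IsIntegralHom πs :=
    MorphismProperty.of_isPullback (P := @IsIntegralHom) hsq inferInstance
  haveI : UniversallyClosed (js ≫ πs) := by rw [hfac]; infer_instance
  haveI : UniversallyClosed js := UniversallyClosed.of_comp_of_isSeparated js πs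
  have hcl : IsClosed (Set.range js) := js.isClosedMap.isClosed_range
  haveI : IsPreimmersion (pullback.fst (π ≫ q) σ) := inferInstance
  have hemb : Topology.IsEmbedding (pullback.fst (π ≫ q) σ) :=
    (pullback.fst (π ≫ q) σ).isEmbedding
  obtain ⟨C, hC, hCeq⟩ := hemb.isInducing.isClosed_iff.mp hcl
  refine ⟨C, hC, fun w hw => ?_⟩
  have hwr : w ∈ Set.range (pullback.fst (π ≫ q) σ) := by
    rw [Scheme.Pullback.range_fst]; exact hw
  obtain ⟨w', rfl⟩ := hwr
  have h1 : (pullback.fst (π ≫ q) σ) w' ∈ C ↔ w' ∈ Set.range js := by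
    rw [← hCeq]; rfl
  rw [h1]
  constructor
  · rintro ⟨x', rfl⟩
    refine ⟨(pullback.fst p σ) x', ?_⟩
    rw [← Scheme.Hom.comp_apply, ← Scheme.Hom.comp_apply, hjs1]
  · rintro ⟨x, hx⟩
    have hxr : x ∈ Set.range (pullback.fst p σ) := by
      rw [Scheme.Pullback.range_fst]
      show p x ∈ Set.range σ
      have hpx : p x = (π ≫ q) (j x) := by rw [← Scheme.Hom.comp_apply, hjg]
      rw [hpx, hx]; exact hw
    obtain ⟨x', rfl⟩ := hxr
    refine ⟨x', hemb.injective ?_⟩
    rw [← hx, ← Scheme.Hom.comp_apply, ← Scheme.Hom.comp_apply, hjs1]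

/-- **Main theorem.** -/
theorem main [IsLocallyNoetherian S] (hdim : topologicalKrullDim S ≤ 1)
    (p : X ⟶ S) (q : Y ⟶ S) (f : X ⟶ Y) (hfq : f ≫ q = p)
    [LocallyOfFiniteType p] [QuasiCompact f] [LocallyQuasiFinite f] [IsSeparated f]
    (fs : ∀ s : S, pullback p (S.fromSpecResidueField s) ⟶ pullback q (S.fromSpecResidueField s))
    (hfs1 : ∀ s, fs s ≫ pullback.fst q (S.fromSpecResidueField s) =
      pullback.fst p (S.fromSpecResidueField s) ≫ f)
    (hfs2 : ∀ s, fs s ≫ pullback.snd q (S.fromSpecResidueField s) =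
      pullback.snd p (S.fromSpecResidueField s))
    (hfin : ∀ s, IsFinite (fs s)) : IsAffineHom f := by
  haveI : LocallyOfFiniteType (f ≫ q) := by rw [hfq]; infer_instance
  haveI : LocallyOfFiniteType f := locallyOfFiniteType_of_comp f q
  obtain ⟨j, hj⟩ : ∃ j : X ⟶ f.normalization, j = f.toNormalization := ⟨_, rfl⟩
  obtain ⟨π, hπ⟩ : ∃ π : f.normalization ⟶ Y, π = f.fromNormalization := ⟨_, rfl⟩
  haveI : IsOpenImmersion j := by rw [hj]; infer_instance
  haveI : IsDominant j := by rw [hj]; infer_instance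
  haveI : QuasiCompact j := by rw [hj]; infer_instance
  haveI : IsIntegralHom π := by rw [hπ]; infer_instance
  have hjπ : j ≫ π = f := by rw [hj, hπ]; exact f.toNormalization_fromNormalization
  suffices h : IsAffineHom j by
    rw [← hjπ]; infer_instance
  have hfibre : ∀ s : S, ∃ C : Set f.normalization, IsClosed C ∧
      ∀ w : f.normalization, (π ≫ q) w = s → (w ∈ C ↔ w ∈ Set.range j) := by
    intro s
    haveI := hfin s
    obtain ⟨C, hC, hCw⟩ := fibre_closed p q f j π hjπ hfq (S.fromSpecResidueField s) (fs s)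
      (hfs1 s) (hfs2 s)
    refine ⟨C, hC, fun w hw => hCw w ?_⟩
    rw [Scheme.range_fromSpecResidueField]; exact hw
  apply isAffineHom_of_forall_exists_isAffineOpen
  intro z
  by_cases hzr : z ∈ Set.range j
  · obtain ⟨_, ⟨W, hW, rfl⟩, hzW, hWr⟩ :=
      f.normalization.isBasis_affineOpens.exists_subset_of_mem_open hzr
        j.isOpenEmbedding.isOpen_range
    exact ⟨W, hzW, hW, aff_preimage j W hW hWr⟩
  · obtain ⟨_, ⟨S₀, hS₀, rfl⟩, hsS₀, -⟩ := S.isBasis_affineOpens.exists_subset_of_mem_open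
      (Set.mem_univ ((π ≫ q) z)) isOpen_univ
    have hsS₀' : π z ∈ ((q ⁻¹ᵁ S₀ : Y.Opens) : Set Y) := by
      show q (π z) ∈ S₀
      rw [← Scheme.Hom.comp_apply]; exact hsS₀
    obtain ⟨_, ⟨V, hV, rfl⟩, hzV, hVS₀⟩ := Y.isBasis_affineOpens.exists_subset_of_mem_open
      hsS₀' (q ⁻¹ᵁ S₀).2
    have hW : IsAffineOpen (π ⁻¹ᵁ V) := hV.preimage π
    have e : π ⁻¹ᵁ V ≤ (π ≫ q) ⁻¹ᵁ S₀ := by
      intro w hw
      show (π ≫ q) w ∈ S₀
      rw [Scheme.Hom.comp_apply]
      exact hVS₀ hw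
    haveI := hW.isOpenImmersion_fromSpec
    haveI := hS₀.isOpenImmersion_fromSpec
    haveI : IsNoetherianRing Γ(S, S₀) := IsLocallyNoetherian.component_noetherian ⟨S₀, hS₀⟩
    have hdimR : ringKrullDim Γ(S, S₀) ≤ 1 := by
      rw [← PrimeSpectrum.topologicalKrullDim_eq_ringKrullDim]
      exact (hS₀.fromSpec.isOpenEmbedding.isInducing.topologicalKrullDim_le).trans hdim
    have hUo : IsOpen (hW.fromSpec ⁻¹' Set.range j) :=
      j.isOpenEmbedding.isOpen_range.preimage hW.fromSpec.continuous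
    have hUd : Dense (hW.fromSpec ⁻¹' Set.range j) :=
      Dense.preimage j.denseRange hW.fromSpec.isOpenEmbedding.isOpenMap
    have hUc : IsCompact (hW.fromSpec ⁻¹' Set.range j) := by
      have hcpt : IsCompact ((j ⁻¹ᵁ (π ⁻¹ᵁ V) : X.Opens) : Set X) :=
        j.isCompact_preimage hW.isCompact
      have himg : IsCompact (j '' ((j ⁻¹ᵁ (π ⁻¹ᵁ V) : X.Opens) : Set X)) :=
        hcpt.image j.continuous
      have hUeq : hW.fromSpec ⁻¹' Set.range j =
          hW.fromSpec ⁻¹' (j '' ((j ⁻¹ᵁ (π ⁻¹ᵁ V) : X.Opens) : Set X)) := by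
        ext w
        constructor
        · rintro ⟨x, hx⟩
          refine ⟨x, ?_, hx⟩
          show j x ∈ π ⁻¹ᵁ V
          rw [hx]
          have hmem : hW.fromSpec w ∈ Set.range hW.fromSpec := ⟨w, rfl⟩
          rw [hW.range_fromSpec] at hmem
          exact hmem
        · rintro ⟨x, -, hx⟩
          exact ⟨x, hx⟩
      rw [hUeq]
      refine (hW.fromSpec.isOpenEmbedding.isInducing.isCompact_preimage_iff ?_).mpr himg
      rw [hW.range_fromSpec]
      rintro _ ⟨x, hx, rfl⟩
      exact hx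
    have hnat : ∀ w : Spec Γ(f.normalization, π ⁻¹ᵁ V), (π ≫ q) (hW.fromSpec w) =
        hS₀.fromSpec (Spec.map ((π ≫ q).appLE S₀ (π ⁻¹ᵁ V) e) w) := by
      intro w
      rw [← Scheme.Hom.comp_apply, ← Scheme.Hom.comp_apply,
        IsAffineOpen.SpecMap_appLE_fromSpec (π ≫ q) hS₀ hW e]
    have hfib : ∀ m : PrimeSpectrum Γ(S, S₀),
        ∃ C : Set (PrimeSpectrum Γ(f.normalization, π ⁻¹ᵁ V)), IsClosed C ∧
        ∀ w : PrimeSpectrum Γ(f.normalization, π ⁻¹ᵁ V),
          PrimeSpectrum.comap ((π ≫ q).appLE S₀ (π ⁻¹ᵁ V) e).hom w = m →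
            (w ∈ C ↔ w ∈ hW.fromSpec ⁻¹' Set.range j) := by
      intro m
      obtain ⟨C, hC, hCw⟩ := hfibre (hS₀.fromSpec m)
      refine ⟨hW.fromSpec ⁻¹' C, hC.preimage hW.fromSpec.continuous, fun w hw => ?_⟩
      have hgw : (π ≫ q) (hW.fromSpec w) = hS₀.fromSpec m := by
        rw [hnat w]; exact congrArg (⇑hS₀.fromSpec) hw
      exact hCw (hW.fromSpec w) hgw
    obtain ⟨z', hz'⟩ : z ∈ Set.range hW.fromSpec := by
      rw [hW.range_fromSpec]; exact hzV
    have hz'U : z' ∉ hW.fromSpec ⁻¹' Set.range j := by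
      intro h
      apply hzr
      rw [← hz']; exact h
    obtain ⟨b, c, hzb, hbc⟩ := core hdimR ((π ≫ q).appLE S₀ (π ⁻¹ᵁ V) e).hom
      (hW.fromSpec ⁻¹' Set.range j) hUo hUc hUd hfib z' hz'U
    have hpre : ∀ a : Γ(f.normalization, π ⁻¹ᵁ V), ∀ w : Spec Γ(f.normalization, π ⁻¹ᵁ V),
        hW.fromSpec w ∈ f.normalization.basicOpen a ↔
          w ∈ (PrimeSpectrum.basicOpen a : Set (PrimeSpectrum Γ(f.normalization, π ⁻¹ᵁ V))) := by
      intro a w
      have hpb := hW.fromSpec_preimage_basicOpen a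
      constructor
      · intro h
        have h' : w ∈ hW.fromSpec ⁻¹ᵁ f.normalization.basicOpen a := h
        rw [hpb] at h'; exact h'
      · intro h
        have h' : w ∈ hW.fromSpec ⁻¹ᵁ f.normalization.basicOpen a := by rw [hpb]; exact h
        exact h'
    have hkey : ∀ n : f.normalization, n ∈ f.normalization.basicOpen b →
        (n ∈ Set.range j ↔ n ∈ f.normalization.basicOpen c) := by
      intro n hn
      have hnW : n ∈ π ⁻¹ᵁ V := f.normalization.basicOpen_le b hn
      obtain ⟨w, rfl⟩ : n ∈ Set.range hW.fromSpec := by rw [hW.range_fromSpec]; exact hnW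
      have hwb : w ∈ (PrimeSpectrum.basicOpen b :
          Set (PrimeSpectrum Γ(f.normalization, π ⁻¹ᵁ V))) := (hpre b w).mp hn
      rw [hpre c w, ← hbc]
      exact ⟨fun h => ⟨h, hwb⟩, fun h => h.1⟩
    have hcb : f.normalization.basicOpen c ≤ f.normalization.basicOpen b := by
      intro n hn
      have hnW : n ∈ π ⁻¹ᵁ V := f.normalization.basicOpen_le c hn
      obtain ⟨w, rfl⟩ : n ∈ Set.range hW.fromSpec := by rw [hW.range_fromSpec]; exact hnW
      have hwc : w ∈ (PrimeSpectrum.basicOpen c :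
          Set (PrimeSpectrum Γ(f.normalization, π ⁻¹ᵁ V))) := (hpre c w).mp hn
      rw [← hbc] at hwc
      exact (hpre b w).mpr hwc.2
    refine ⟨f.normalization.basicOpen b, ?_, hW.basicOpen b, ?_⟩
    · rw [← hz']; exact (hpre b z').mpr hzb
    · have hEq : j ⁻¹ᵁ f.normalization.basicOpen b = j ⁻¹ᵁ f.normalization.basicOpen c := by
        ext x
        show j x ∈ f.normalization.basicOpen b ↔ j x ∈ f.normalization.basicOpen c
        constructor
        · intro h; exact (hkey (j x) h).mp ⟨x, rfl⟩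
        · intro h; exact hcb h
      rw [hEq]
      refine aff_preimage j _ (hW.basicOpen c) ?_
      intro n hn
      exact (hkey n (hcb hn)).mpr hn

end Sch

end Groth.Agent.Lib.Helper6.QFAffDimOne
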