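import Mathlib

/-!
# Splitting polynomials in `n + m` variables

Index bookkeeping for `MvPolynomial (Fin (n + m)) A`: exponent vectors are split into their first
`n` and last `m` entries; `theta M P` is the coefficient of `Y^M` (a polynomial in the first `n`
variables), and `psi f` substitutes `f` for the first `n` variables.
-/

namespace Groth.Agent.Lib.Helper6.QRAppend

open MvPolynomial

section index

variable {n m : ℕ}

/-- Concatenate exponent vectors. -/
noncomputable def joinE (N : Fin n →₀ ℕ) (M : Fin m →₀ ℕ) : Fin (n + m) →₀ ℕ :=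
  Finsupp.equivFunOnFinite.symm (Fin.append N M)

/-- The first `n` exponents. -/
noncomputable def Nof (D : Fin (n + m) →₀ ℕ) : Fin n →₀ ℕ :=
  Finsupp.equivFunOnFinite.symm (fun i => D (Fin.castAdd m i))

/-- The last `m` exponents. -/
noncomputable def Mof (D : Fin (n + m) →₀ ℕ) : Fin m →₀ ℕ :=
  Finsupp.equivFunOnFinite.symm (fun j => D (Fin.natAdd n j))

@[simp] lemma joinE_castAdd (N : Fin n →₀ ℕ) (M : Fin m →₀ ℕ) (i : Fin n) :
    joinE N M (Fin.castAdd m i) = N i := by
  simp [joinE]

@[simp] lemma joinE_natAdd (N : Fin n →₀ ℕ) (M : Fin m →₀ ℕ) (j : Fin m) :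
    joinE N M (Fin.natAdd n j) = M j := by
  simp [joinE]

@[simp] lemma Nof_apply (D : Fin (n + m) →₀ ℕ) (i : Fin n) : Nof D i = D (Fin.castAdd m i) := rfl

@[simp] lemma Mof_apply (D : Fin (n + m) →₀ ℕ) (j : Fin m) : Mof D j = D (Fin.natAdd n j) := rfl

lemma Nof_joinE (N : Fin n →₀ ℕ) (M : Fin m →₀ ℕ) : Nof (joinE N M) = N := by
  ext i; simp

lemma Mof_joinE (N : Fin n →₀ ℕ) (M : Fin m →₀ ℕ) : Mof (joinE N M) = M := by
  ext j; simp

lemma joinE_Nof_Mof (D : Fin (n + m) →₀ ℕ) : joinE (Nof D) (Mof D) = D := by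
  ext k
  refine Fin.addCases (fun i => ?_) (fun j => ?_) k <;> simp

lemma eq_joinE_iff (D : Fin (n + m) →₀ ℕ) (N : Fin n →₀ ℕ) (M : Fin m →₀ ℕ) :
    D = joinE N M ↔ Nof D = N ∧ Mof D = M := by
  constructor
  · rintro rfl
    exact ⟨Nof_joinE _ _, Mof_joinE _ _⟩
  · rintro ⟨rfl, rfl⟩
    exact (joinE_Nof_Mof D).symm

lemma degree_eq (D : Fin (n + m) →₀ ℕ) : D.degree = (Nof D).degree + (Mof D).degree := by
  rw [Finsupp.degree_eq_sum, Finsupp.degree_eq_sum, Finsupp.degree_eq_sum, Fin.sum_univ_add]
  rfl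

lemma degree_joinE (N : Fin n →₀ ℕ) (M : Fin m →₀ ℕ) :
    (joinE N M).degree = N.degree + M.degree := by
  rw [degree_eq, Nof_joinE, Mof_joinE]

end index

section hom

variable {A : Type*} [CommRing A] {σ : Type*}

lemma isHomogeneous_of_forall {φ : MvPolynomial σ A} {k : ℕ}
    (h : ∀ d, coeff d φ ≠ 0 → d.degree = k) : φ.IsHomogeneous k := by
  intro d hd
  have := h d hd
  rwa [Finsupp.degree_eq_weight_one] at this

lemma degree_eq_of_isHomogeneous {φ : MvPolynomial σ A} {k : ℕ} (hφ : φ.IsHomogeneous k)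
    {d : σ →₀ ℕ} (hd : coeff d φ ≠ 0) : d.degree = k := by
  by_contra h
  exact hd (hφ.coeff_eq_zero h)

end hom

section theta

variable {A : Type*} [CommRing A] {n m : ℕ}

/-- The coefficient (a polynomial in the first `n` variables) of `Y^M` in `P`. -/
noncomputable def theta (M : Fin m →₀ ℕ) (P : MvPolynomial (Fin (n + m)) A) :
    MvPolynomial (Fin n) A :=
  ∑ D ∈ P.support, if Mof D = M then monomial (Nof D) (coeff D P) else 0

lemma coeff_theta (M : Fin m →₀ ℕ) (N : Fin n →₀ ℕ) (P : MvPolynomial (Fin (n + m)) A) :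
    coeff N (theta M P) = coeff (joinE N M) P := by
  classical
  unfold theta
  rw [coeff_sum]
  have key : ∀ D ∈ P.support,
      coeff N (if Mof D = M then monomial (Nof D) (coeff D P) else 0) =
        if D = joinE N M then coeff D P else 0 := by
    intro D _
    by_cases h : D = joinE N M
    · subst h
      simp [Nof_joinE, Mof_joinE]
    · rw [if_neg h]
      rw [eq_joinE_iff] at h
      by_cases hM : Mof D = M
      · rw [if_pos hM, coeff_monomial, if_neg]
        intro hN
        exact h ⟨hN, hM⟩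
      · rw [if_neg hM, coeff_zero]
  rw [Finset.sum_congr rfl key, Finset.sum_ite_eq']
  split_ifs with h
  · rfl
  · exact (notMem_support_iff.mp h).symm

lemma theta_isHomogeneous {P : MvPolynomial (Fin (n + m)) A} {d k : ℕ} (hP : P.IsHomogeneous d)
    (M : Fin m →₀ ℕ) (hk : k + M.degree = d) : (theta M P).IsHomogeneous k := by
  apply isHomogeneous_of_forall
  intro N hN
  rw [coeff_theta] at hN
  have := degree_eq_of_isHomogeneous hP hN
  rw [degree_joinE] at this
  omega

/-- Substitute `f` for the first `n` variables. -/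
noncomputable def psi (f : Fin n → A) :
    MvPolynomial (Fin (n + m)) A →ₐ[A] MvPolynomial (Fin m) A :=
  aeval (Fin.append (fun i => (C (f i) : MvPolynomial (Fin m) A)) (fun j => X j))

lemma eval_psi (f : Fin n → A) (g : Fin m → A) (P : MvPolynomial (Fin (n + m)) A) :
    eval g (psi f P) = eval (Fin.append f g) P := by
  have h : (eval g).comp
      (psi f : MvPolynomial (Fin (n + m)) A →ₐ[A] MvPolynomial (Fin m) A).toRingHom =
      eval (Fin.append f g) := by
    apply MvPolynomial.ringHom_ext
    · intro a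
      simp [psi]
    · intro k
      refine Fin.addCases (fun i => ?_) (fun j => ?_) k <;> simp [psi]
  exact RingHom.congr_fun h P

lemma psi_monomial (f : Fin n → A) (D : Fin (n + m) →₀ ℕ) (a : A) :
    psi (m := m) f (monomial D a) = monomial (Mof D) (a * ∏ i, f i ^ (Nof D i)) := by
  unfold psi
  rw [aeval_monomial, Finsupp.prod_fintype _ _ (fun _ => pow_zero _), Fin.prod_univ_add]
  simp only [Fin.append_left, Fin.append_right]
  rw [monomial_eq, Finsupp.prod_fintype _ _ (fun _ => pow_zero _)]
  simp only [Mof_apply, Nof_apply, map_mul, map_prod, map_pow, algebraMap_eq]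
  ring

lemma psi_eq_sum (f : Fin n → A) (P : MvPolynomial (Fin (n + m)) A) :
    psi (m := m) f P =
      ∑ D ∈ P.support, monomial (Mof D) (coeff D P * ∏ i, f i ^ (Nof D i)) := by
  have h := support_sum_monomial_coeff P
  calc psi (m := m) f P = psi (m := m) f (∑ D ∈ P.support, monomial D (coeff D P)) := by rw [h]
    _ = _ := by
      rw [map_sum]
      exact Finset.sum_congr rfl fun D _ => psi_monomial f D _

lemma coeff_psi (f : Fin n → A) (M : Fin m →₀ ℕ) (P : MvPolynomial (Fin (n + m)) A) :
    coeff M (psi f P) = eval f (theta M P) := by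
  classical
  rw [psi_eq_sum, coeff_sum, theta, map_sum]
  refine Finset.sum_congr rfl fun D _ => ?_
  rw [coeff_monomial]
  split_ifs with h
  · rw [eval_monomial, Finsupp.prod_fintype _ _ (fun _ => pow_zero _)]
  · rw [map_zero]

end theta

end Groth.Agent.Lib.Helper6.QRAppend
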