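import Mathlib
import Groth.Agent.Lib.Helper14.H1Reg
import Groth.Agent.Lib.Helper6.QRAppend1

/-!
# `H_1`-regularity modulo powers of a quasi-regular ideal

If `f` is quasi-regular generating `J` and `g` is `H_1`-regular modulo `J`, then `g` is
`H_1`-regular (hence quasi-regular) modulo every power `J ^ d`.
-/

namespace Groth.Agent.Lib.Helper6.QRAppend

open MvPolynomial
open Groth.Agent.Lib.Helper14.QuasiRegReg (QR)
open Groth.Agent.Lib.Helper14.H1Reg (H1 qr_of_h1)

universe u

section triv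

variable {A : Type u} [CommRing A] {m : ℕ}

/-- The module of trivial (Koszul) relations among the `g j`. -/
def Triv (g : Fin m → A) : Submodule A (Fin m → A) :=
  Submodule.span A {v | ∃ i j : Fin m, v = Pi.single i (g j) - Pi.single j (g i)}

lemma sum_mul_eq_zero_of_mem_Triv (g : Fin m → A) {v : Fin m → A} (hv : v ∈ Triv g) :
    ∑ j, v j * g j = 0 := by
  unfold Triv at hv
  induction hv using Submodule.span_induction with
  | mem x hx =>
    obtain ⟨i, j, rfl⟩ := hx
    simp only [Pi.sub_apply, sub_mul, Finset.sum_sub_distrib, Pi.single_apply, ite_mul, zero_mul,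
      Finset.sum_ite_eq', Finset.mem_univ, if_true]
    ring
  | zero => simp
  | add x y _ _ hx hy =>
    simp only [Pi.add_apply, add_mul, Finset.sum_add_distrib, hx, hy, add_zero]
  | smul a x _ hx =>
    simp only [Pi.smul_apply, smul_eq_mul, mul_assoc, ← Finset.mul_sum, hx, mul_zero]

/-- Componentwise reduction modulo an ideal. -/
def mkv (Q : Ideal A) (v : Fin m → A) : Fin m → A ⧸ Q := fun j => Ideal.Quotient.mk Q (v j)

lemma mkv_zero (Q : Ideal A) : mkv Q (0 : Fin m → A) = 0 := by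
  funext k; simp [mkv]

lemma mkv_add (Q : Ideal A) (x y : Fin m → A) : mkv Q (x + y) = mkv Q x + mkv Q y := by
  funext k; simp [mkv]

lemma mkv_smul (Q : Ideal A) (a : A) (x : Fin m → A) :
    mkv Q (a • x) = Ideal.Quotient.mk Q a • mkv Q x := by
  funext k; simp [mkv]

lemma mkv_single_sub (Q : Ideal A) (g : Fin m → A) (i j : Fin m) :
    mkv Q (Pi.single i (g j) - Pi.single j (g i)) =
      Pi.single i (Ideal.Quotient.mk Q (g j)) - Pi.single j (Ideal.Quotient.mk Q (g i)) := by
  funext k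
  simp only [mkv, Pi.sub_apply, Pi.single_apply, map_sub]
  congr 1 <;> split_ifs <;> simp

lemma mkv_mem_Triv (Q : Ideal A) (g : Fin m → A) {v : Fin m → A} (hv : v ∈ Triv g) :
    mkv Q v ∈ Triv (fun j => Ideal.Quotient.mk Q (g j)) := by
  unfold Triv at hv
  induction hv using Submodule.span_induction with
  | mem x hx =>
    obtain ⟨i, j, rfl⟩ := hx
    rw [mkv_single_sub]
    exact Submodule.subset_span ⟨i, j, rfl⟩
  | zero => rw [mkv_zero]; exact Submodule.zero_mem _
  | add x y _ _ hx hy => rw [mkv_add]; exact Submodule.add_mem _ hx hy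
  | smul a x _ hx => rw [mkv_smul]; exact Submodule.smul_mem _ _ hx

lemma exists_lift_Triv (Q : Ideal A) (g : Fin m → A) {w : Fin m → A ⧸ Q}
    (hw : w ∈ Triv (fun j => Ideal.Quotient.mk Q (g j))) : ∃ v ∈ Triv g, mkv Q v = w := by
  unfold Triv at hw
  induction hw using Submodule.span_induction with
  | mem x hx =>
    obtain ⟨i, j, rfl⟩ := hx
    exact ⟨Pi.single i (g j) - Pi.single j (g i), Submodule.subset_span ⟨i, j, rfl⟩,
      mkv_single_sub Q g i j⟩
  | zero => exact ⟨0, Submodule.zero_mem _, mkv_zero Q⟩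
  | add x y _ _ hx hy =>
    obtain ⟨v1, hv1, rfl⟩ := hx
    obtain ⟨v2, hv2, rfl⟩ := hy
    exact ⟨v1 + v2, Submodule.add_mem _ hv1 hv2, mkv_add Q v1 v2⟩
  | smul a x _ hx =>
    obtain ⟨v1, hv1, rfl⟩ := hx
    obtain ⟨c, rfl⟩ := Ideal.Quotient.mk_surjective a
    exact ⟨c • v1, Submodule.smul_mem _ _ hv1, mkv_smul Q c v1⟩

end triv

section steps

variable {A : Type u} [CommRing A] {n m : ℕ} (f : Fin n → A) (g : Fin m → A)

/-- `H_1`-regularity of `g` modulo `Q`, in lifted form. -/
def LiftH1 (Q : Ideal A) : Prop :=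
  ∀ a : Fin m → A, ∑ j, a j * g j ∈ Q → ∃ v ∈ Triv g, ∀ j, a j - v j ∈ Q

lemma liftH1_of_h1 (Q : Ideal A) (hg : H1 (fun j => Ideal.Quotient.mk Q (g j))) :
    LiftH1 g Q := by
  intro a ha
  have h0 : ∑ j, mkv Q a j * Ideal.Quotient.mk Q (g j) = 0 := by
    have : ∑ j, mkv Q a j * Ideal.Quotient.mk Q (g j) =
        Ideal.Quotient.mk Q (∑ j, a j * g j) := by
      rw [map_sum]
      exact Finset.sum_congr rfl fun j _ => by rw [map_mul]; rfl
    rw [this]
    exact Ideal.Quotient.eq_zero_iff_mem.mpr ha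
  obtain ⟨v, hv, hvw⟩ := exists_lift_Triv Q g (hg (mkv Q a) h0)
  refine ⟨v, hv, fun j => ?_⟩
  have := congrFun hvw j
  exact Ideal.Quotient.eq.mp this.symm

lemma h1_of_liftH1 (Q : Ideal A) (h : LiftH1 g Q) :
    H1 (fun j => Ideal.Quotient.mk Q (g j)) := by
  intro abar habar
  choose a ha using fun j => Ideal.Quotient.mk_surjective (abar j)
  have h0 : ∑ j, a j * g j ∈ Q := by
    rw [← Ideal.Quotient.eq_zero_iff_mem, map_sum, ← habar]
    exact Finset.sum_congr rfl fun j _ => by rw [map_mul, ha j]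
  obtain ⟨v, hv, hvJ⟩ := h a h0
  have h1 : abar = mkv Q v := by
    funext j
    rw [← ha j]
    exact Ideal.Quotient.eq.mpr (hvJ j)
  rw [h1]
  exact mkv_mem_Triv Q g hv

lemma prod_pow_mem (N : Fin n →₀ ℕ) :
    ∏ i, f i ^ N i ∈ Ideal.span (Set.range f) ^ N.degree := by
  rw [Ideal.mem_span_pow_iff_exists_isHomogeneous]
  refine ⟨monomial N 1, isHomogeneous_monomial _ rfl, ?_⟩
  rw [eval_monomial, one_mul, Finsupp.prod_fintype _ _ (fun _ => pow_zero _)]

/-- Step 1: `H_1`-regularity on the graded piece `J^d / J^{d+1}`. -/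
lemma step1 (hf : QR f) (h1 : LiftH1 g (Ideal.span (Set.range f))) (d : ℕ) (a : Fin m → A)
    (ha : ∀ j, a j ∈ Ideal.span (Set.range f) ^ d)
    (hsum : ∑ j, a j * g j ∈ Ideal.span (Set.range f) ^ (d + 1)) :
    ∃ v ∈ Triv g, ∀ j, a j - v j ∈ Ideal.span (Set.range f) ^ (d + 1) := by
  classical
  choose P hP hPe using fun j =>
    (Ideal.mem_span_pow_iff_exists_isHomogeneous f (a j)).mp (ha j)
  -- the combined polynomial
  have hR : (∑ j, C (g j) * P j).IsHomogeneous d :=
    MvPolynomial.IsHomogeneous.sum _ _ _ fun j _ => (hP j).C_mul (g j)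
  have hRe : eval f (∑ j, C (g j) * P j) ∈ Ideal.span (Set.range f) ^ (d + 1) := by
    have : eval f (∑ j, C (g j) * P j) = ∑ j, a j * g j := by
      rw [map_sum]
      exact Finset.sum_congr rfl fun j _ => by rw [map_mul, eval_C, hPe j, mul_comm]
    rw [this]
    exact hsum
  have hcoef := hf d _ hR hRe
  have hcoef' : ∀ N : Fin n →₀ ℕ, ∑ j, coeff N (P j) * g j ∈ Ideal.span (Set.range f) := by
    intro N
    have := hcoef N
    rw [coeff_sum] at this
    have h2 : ∑ j, coeff N (C (g j) * P j) = ∑ j, coeff N (P j) * g j :=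
      Finset.sum_congr rfl fun j _ => by rw [coeff_C_mul, mul_comm]
    rwa [h2] at this
  choose v hv hvJ using fun N => h1 (fun j => coeff N (P j)) (hcoef' N)
  let Sup : Finset (Fin n →₀ ℕ) := Finset.univ.biUnion (fun j => (P j).support)
  refine ⟨∑ N ∈ Sup, (∏ i, f i ^ N i) • v N, ?_, ?_⟩
  · exact Submodule.sum_mem _ fun N _ => Submodule.smul_mem _ _ (hv N)
  · intro j
    have e1 : a j = ∑ N ∈ Sup, coeff N (P j) * ∏ i, f i ^ N i := by
      rw [← hPe j, eval_eq']
      apply Finset.sum_subset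
      · intro N hN
        exact Finset.mem_biUnion.mpr ⟨j, Finset.mem_univ _, hN⟩
      · intro N _ hN
        rw [notMem_support_iff.mp hN, zero_mul]
    have e2 : (∑ N ∈ Sup, (∏ i, f i ^ N i) • v N) j = ∑ N ∈ Sup, v N j * ∏ i, f i ^ N i := by
      rw [Finset.sum_apply]
      exact Finset.sum_congr rfl fun N _ => by rw [Pi.smul_apply, smul_eq_mul, mul_comm]
    rw [e2, e1, ← Finset.sum_sub_distrib]
    refine Ideal.sum_mem _ fun N hN => ?_
    rw [← sub_mul, pow_succ']
    refine Ideal.mul_mem_mul (hvJ N j) ?_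
    obtain ⟨j', _, hj'⟩ := Finset.mem_biUnion.mp hN
    have hdeg : N.degree = d :=
      degree_eq_of_isHomogeneous (hP j') (mem_support_iff.mp hj')
    rw [← hdeg]
    exact prod_pow_mem f N

/-- Step 2: `g` is `H_1`-regular modulo every power of `J`. -/
lemma liftH1_pow (hf : QR f) (h1 : LiftH1 g (Ideal.span (Set.range f))) :
    ∀ d : ℕ, LiftH1 g (Ideal.span (Set.range f) ^ d) := by
  intro d
  induction d with
  | zero =>
    intro a _
    refine ⟨0, Submodule.zero_mem _, fun j => ?_⟩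
    rw [pow_zero, Ideal.one_eq_top]
    exact Submodule.mem_top
  | succ d ih =>
    intro a ha
    obtain ⟨v, hv, hvJ⟩ := ih a (Ideal.pow_le_pow_right (Nat.le_succ d) ha)
    have hsum : ∑ j, (a j - v j) * g j ∈ Ideal.span (Set.range f) ^ (d + 1) := by
      have : ∑ j, (a j - v j) * g j = ∑ j, a j * g j := by
        simp only [sub_mul, Finset.sum_sub_distrib, sum_mul_eq_zero_of_mem_Triv g hv, sub_zero]
      rw [this]
      exact ha
    obtain ⟨w, hw, hwJ⟩ := step1 f g hf h1 d (fun j => a j - v j) hvJ hsum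
    refine ⟨v + w, Submodule.add_mem _ hv hw, fun j => ?_⟩
    have : a j - (v + w) j = a j - v j - w j := by
      rw [Pi.add_apply]; ring
    rw [this]
    exact hwJ j

/-- `g` is quasi-regular modulo every power of `J`. -/
lemma qr_mod_pow (hf : QR f) (h1 : LiftH1 g (Ideal.span (Set.range f))) (d : ℕ) :
    QR (fun j => Ideal.Quotient.mk (Ideal.span (Set.range f) ^ d) (g j)) :=
  qr_of_h1 _ (h1_of_liftH1 g _ (liftH1_pow f g hf h1 d))

/-- Lifted form of quasi-regularity modulo `J ^ d`. -/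
lemma qr_lift (hf : QR f) (h1 : LiftH1 g (Ideal.span (Set.range f))) (d e : ℕ)
    (Q : MvPolynomial (Fin m) A) (hQ : Q.IsHomogeneous e)
    (hev : eval g Q ∈ Ideal.span (Set.range g) ^ (e + 1) ⊔ Ideal.span (Set.range f) ^ d)
    (M : Fin m →₀ ℕ) :
    coeff M Q ∈ Ideal.span (Set.range g) ⊔ Ideal.span (Set.range f) ^ d := by
  have hspan : Ideal.span (Set.range fun j =>
      Ideal.Quotient.mk (Ideal.span (Set.range f) ^ d) (g j)) =
      (Ideal.span (Set.range g)).map (Ideal.Quotient.mk (Ideal.span (Set.range f) ^ d)) := by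
    rw [Ideal.map_span, ← Set.range_comp]
    rfl
  have hcomm : eval (fun j => Ideal.Quotient.mk (Ideal.span (Set.range f) ^ d) (g j))
      (map (Ideal.Quotient.mk (Ideal.span (Set.range f) ^ d)) Q) =
      Ideal.Quotient.mk (Ideal.span (Set.range f) ^ d) (eval g Q) := by
    have h : (eval (fun j => Ideal.Quotient.mk (Ideal.span (Set.range f) ^ d) (g j))).comp
        (map (Ideal.Quotient.mk (Ideal.span (Set.range f) ^ d))) =
        (Ideal.Quotient.mk (Ideal.span (Set.range f) ^ d)).comp (eval g) := by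
      apply MvPolynomial.ringHom_ext
      · intro a; simp
      · intro k; simp
    exact RingHom.congr_fun h Q
  have key := qr_mod_pow f g hf h1 d e
    (map (Ideal.Quotient.mk (Ideal.span (Set.range f) ^ d)) Q) (hQ.map _) (by
      rw [hcomm, hspan, ← Ideal.map_pow]
      exact Ideal.mem_quotient_iff_mem_sup.mpr hev) M
  rw [coeff_map, hspan] at key
  exact Ideal.mem_quotient_iff_mem_sup.mp key

end steps

end Groth.Agent.Lib.Helper6.QRAppend
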