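import Mathlib
import Groth.Agent.Lib.Helper6.QRAppend2

/-!
# Appending an `H_1`-regular sequence to a quasi-regular sequence

If `f` is quasi-regular and the image of `g` modulo `(f)` is `H_1`-regular, then `f, g` is
quasi-regular.
-/

namespace Groth.Agent.Lib.Helper6.QRAppend

open MvPolynomial
open Groth.Agent.Lib.Helper14.QuasiRegReg (QR)
open Groth.Agent.Lib.Helper14.H1Reg (H1)

universe u

variable {A : Type u} [CommRing A] {n m : ℕ} (f : Fin n → A) (g : Fin m → A)

lemma span_range_append : Ideal.span (Set.range (Fin.append f g)) =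
    Ideal.span (Set.range f) ⊔ Ideal.span (Set.range g) := by
  rw [← Ideal.span_union]
  congr 1
  ext x
  constructor
  · rintro ⟨k, rfl⟩
    refine Fin.addCases (fun i => ?_) (fun j => ?_) k
    · left; exact ⟨i, by simp⟩
    · right; exact ⟨j, by simp⟩
  · rintro (⟨i, rfl⟩ | ⟨j, rfl⟩)
    · exact ⟨Fin.castAdd m i, by simp⟩
    · exact ⟨Fin.natAdd n j, by simp⟩

lemma sup_pow_le (I J : Ideal A) (a b : ℕ) :
    (I ⊔ J) ^ (a + b + 1) ≤ I ^ (a + 1) ⊔ J ^ (b + 1) := by
  rw [← Ideal.add_eq_sup, ← Ideal.add_eq_sup, add_pow, Ideal.sum_eq_sup]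
  apply Finset.sup_le
  intro i hi
  by_cases hn : a + 1 ≤ i
  · exact (Ideal.mul_le_left.trans (Ideal.mul_le_left.trans
      ((Ideal.pow_le_pow_right hn).trans le_sup_left)))
  · refine (Ideal.mul_le_left.trans (Ideal.mul_le_right.trans
      ((Ideal.pow_le_pow_right ?_).trans le_sup_right)))
    have := Finset.mem_range.mp hi
    omega

theorem qr_append (hf : QR f)
    (hg : H1 (fun j => Ideal.Quotient.mk (Ideal.span (Set.range f)) (g j))) :
    QR (Fin.append f g) := by
  classical
  have h1 : LiftH1 g (Ideal.span (Set.range f)) := liftH1_of_h1 g _ hg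
  intro d P hP hev D
  rw [span_range_append] at hev ⊢
  by_cases hD : coeff D P = 0
  · rw [hD]; exact Ideal.zero_mem _
  have hDd : D.degree = d := degree_eq_of_isHomogeneous hP hD
  have hsplit := degree_eq D
  obtain ⟨M, hM⟩ : ∃ M, Mof D = M := ⟨_, rfl⟩
  obtain ⟨N, hN⟩ : ∃ N, Nof D = N := ⟨_, rfl⟩
  obtain ⟨e, he⟩ : ∃ e, M.degree = e := ⟨_, rfl⟩
  rw [hM, hN, he] at hsplit
  obtain ⟨k, hk⟩ : ∃ k, k + e = d := ⟨N.degree, by omega⟩
  have hkM : k + M.degree = d := by rw [he]; exact hk
  -- coefficients of the partially evaluated polynomial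
  have hcoefQ : ∀ (M' : Fin m →₀ ℕ) (k' : ℕ), k' + M'.degree = d →
      coeff M' (psi (m := m) f P) ∈ Ideal.span (Set.range f) ^ k' := by
    intro M' k' hk'
    rw [coeff_psi]
    exact (Ideal.mem_span_pow_iff_exists_isHomogeneous f _).mpr
      ⟨theta M' P, theta_isHomogeneous hP M' hk', rfl⟩
  have hlow : ∀ e', e' < e → eval g (homogeneousComponent e' (psi (m := m) f P)) ∈
      Ideal.span (Set.range f) ^ (k + 1) := by
    intro e' he'
    rw [eval_eq']
    refine Ideal.sum_mem _ fun M' _ => ?_
    refine Ideal.mul_mem_right _ _ ?_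
    rw [coeff_homogeneousComponent]
    split_ifs with hdeg
    · have h2 : (d - e') + M'.degree = d := by omega
      exact Ideal.pow_le_pow_right (by omega) (hcoefQ M' (d - e') h2)
    · exact Ideal.zero_mem _
  have hhigh : ∀ e', e < e' → eval g (homogeneousComponent e' (psi (m := m) f P)) ∈
      Ideal.span (Set.range g) ^ (e + 1) := by
    intro e' he'
    exact Ideal.pow_le_pow_right he' ((Ideal.mem_span_pow_iff_exists_isHomogeneous g _).mpr
      ⟨_, homogeneousComponent_isHomogeneous e' _, rfl⟩)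
  have htot : eval g (psi (m := m) f P) ∈
      Ideal.span (Set.range g) ^ (e + 1) ⊔ Ideal.span (Set.range f) ^ (k + 1) := by
    rw [eval_psi, sup_comm]
    have h2 : d + 1 = k + e + 1 := by omega
    rw [h2] at hev
    exact sup_pow_le _ _ k e hev
  have hothers : ∀ i, i ≠ e → eval g (homogeneousComponent i (psi (m := m) f P)) ∈
      Ideal.span (Set.range g) ^ (e + 1) ⊔ Ideal.span (Set.range f) ^ (k + 1) := by
    intro i hi
    rcases lt_or_gt_of_ne hi with h | h
    · exact Ideal.mem_sup_right (hlow i h)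
    · exact Ideal.mem_sup_left (hhigh i h)
  have hmid : eval g (homogeneousComponent e (psi (m := m) f P)) ∈
      Ideal.span (Set.range g) ^ (e + 1) ⊔ Ideal.span (Set.range f) ^ (k + 1) := by
    by_cases hmem : e ∈ Finset.range ((psi (m := m) f P).totalDegree + 1)
    · have h2 := congrArg (eval g) (sum_homogeneousComponent (psi (m := m) f P))
      rw [map_sum, ← Finset.add_sum_erase _ _ hmem] at h2
      have h3 : eval g (homogeneousComponent e (psi (m := m) f P)) =
          eval g (psi (m := m) f P) -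
            ∑ i ∈ (Finset.range ((psi (m := m) f P).totalDegree + 1)).erase e,
              eval g (homogeneousComponent i (psi (m := m) f P)) := by
        rw [← h2]; ring
      rw [h3]
      exact Ideal.sub_mem _ htot
        (Ideal.sum_mem _ fun i hi => hothers i (Finset.ne_of_mem_erase hi))
    · have h2 : homogeneousComponent e (psi (m := m) f P) = 0 := by
        apply homogeneousComponent_eq_zero
        have := Finset.mem_range.not.mp hmem
        omega
      rw [h2, map_zero]
      exact Ideal.zero_mem _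
  have hc3 := qr_lift f g hf h1 (k + 1) e _ (homogeneousComponent_isHomogeneous e _) hmid M
  rw [coeff_homogeneousComponent, if_pos he] at hc3
  have hcM : coeff M (psi (m := m) f P) ∈ Ideal.span (Set.range f) ^ k := hcoefQ M k hkM
  obtain ⟨x, hx, y, hy, hxy⟩ := Submodule.mem_sup.mp hc3
  obtain ⟨u, hu⟩ := (Ideal.mem_span_range_iff_exists_fun).mp hx
  have hxJ : ∑ j, u j * g j ∈ Ideal.span (Set.range f) ^ k := by
    rw [hu]
    have h2 : x = coeff M (psi (m := m) f P) - y := by rw [← hxy]; ring
    rw [h2]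
    exact Ideal.sub_mem _ hcM (Ideal.pow_le_pow_right (Nat.le_succ k) hy)
  obtain ⟨v, hv, hvJ⟩ := liftH1_pow f g hf h1 k u hxJ
  have hbx : ∑ j, (u j - v j) * g j = x := by
    simp only [sub_mul, Finset.sum_sub_distrib, sum_mul_eq_zero_of_mem_Triv g hv, sub_zero]
    exact hu
  choose S hS hSe using fun j =>
    (Ideal.mem_span_pow_iff_exists_isHomogeneous f (u j - v j)).mp (hvJ j)
  have hR : (theta M P - ∑ j, C (g j) * S j).IsHomogeneous k :=
    (theta_isHomogeneous hP M hkM).sub
      (MvPolynomial.IsHomogeneous.sum _ _ _ fun j _ => (hS j).C_mul (g j))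
  have hRe : eval f (theta M P - ∑ j, C (g j) * S j) = y := by
    rw [map_sub, ← coeff_psi, map_sum]
    have h2 : ∑ j, eval f (C (g j) * S j) = x := by
      rw [← hbx]
      exact Finset.sum_congr rfl fun j _ => by rw [map_mul, eval_C, hSe j, mul_comm]
    rw [h2, ← hxy]; ring
  have hfin := hf k _ hR (by rw [hRe]; exact hy) N
  rw [coeff_sub, coeff_theta, coeff_sum] at hfin
  have hjoin : joinE N M = D := by rw [← hN, ← hM]; exact joinE_Nof_Mof D
  rw [hjoin] at hfin
  have hG' : ∑ j, coeff N (C (g j) * S j) ∈ Ideal.span (Set.range g) := by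
    refine Ideal.sum_mem _ fun j _ => ?_
    rw [coeff_C_mul]
    exact Ideal.mul_mem_right _ _ (Ideal.subset_span ⟨j, rfl⟩)
  have h4 : coeff D P = (coeff D P - ∑ j, coeff N (C (g j) * S j)) +
      ∑ j, coeff N (C (g j) * S j) := by ring
  rw [h4]
  exact Ideal.add_mem _ (Ideal.mem_sup_left hfin) (Ideal.mem_sup_right hG')

end Groth.Agent.Lib.Helper6.QRAppend
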