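import Mathlib
import Groth.Agent.Lib.Helper6.PfaffSq

/-!
# Isometries of a perfect alternating form have determinant `±1` (over any commutative ring)

The determinant of the generic alternating matrix is a square `p ^ 2` in `ℤ[x]`
(`PfaffSq.skew_det_sq_of_isIntegrallyClosed`); comparing `p` at `Aᵀ X A` and at `X` in the
domain `ℤ[x, a]` gives `p(Aᵀ X A) = ± det A · p(X)` and one specialises.
-/

set_option autoImplicit false

namespace Groth.Agent.Lib.Helper6.SympDet

open Matrix MvPolynomial

universe u v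

noncomputable section

/-- evaluation of integer polynomials -/
def evh {σ : Type*} {B : Type*} [CommRing B] (f : σ → B) : MvPolynomial σ ℤ →+* B :=
  eval₂Hom (Int.castRingHom B) f

theorem evh_X {σ : Type*} {B : Type*} [CommRing B] (f : σ → B) (s : σ) : evh f (X s) = f s :=
  eval₂Hom_X' _ _ _

theorem evh_ext {σ : Type*} {B : Type*} [CommRing B] (g h : MvPolynomial σ ℤ →+* B)
    (hX : ∀ s, g (X s) = h (X s)) : g = h :=
  ringHom_ext' (Subsingleton.elim _ _) hX

theorem map_det' {n : Type*} [Fintype n] [DecidableEq n] {A B : Type*} [CommRing A] [CommRing B]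
    (f : A →+* B) (M : Matrix n n A) : f M.det = (M.map f).det := by
  rw [RingHom.map_det, RingHom.mapMatrix_apply]

variable {n : Type u} [Fintype n] [LinearOrder n]

/-- the generic alternating matrix -/
def Xalt (n : Type u) [LinearOrder n] : Matrix n n (MvPolynomial (n × n) ℤ) :=
  Matrix.of fun i j => if i < j then X (i, j) else if j < i then -X (j, i) else 0

theorem Xalt_apply (i j : n) :
    Xalt n i j = if i < j then X (i, j) else if j < i then -X (j, i) else 0 := rfl

theorem Xalt_swap (i j : n) : Xalt n j i = -Xalt n i j := by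
  rw [Xalt_apply, Xalt_apply]
  rcases lt_trichotomy i j with h | h | h
  · simp only [if_pos h, if_neg (not_lt.mpr h.le)]
  · subst h; simp only [lt_irrefl, if_false, neg_zero]
  · simp only [if_pos h, if_neg (not_lt.mpr h.le), neg_neg]

theorem Xalt_transpose : (Xalt n)ᵀ = -(Xalt n) := by
  apply Matrix.ext
  intro i j
  rw [Matrix.transpose_apply, Matrix.neg_apply, Xalt_swap]

theorem eval_Xalt {R : Type v} [CommRing R] (N : Matrix n n R) (hN : Nᵀ = -N)
    (hN0 : ∀ i, N i i = 0) (e : MvPolynomial (n × n) ℤ →+* R)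
    (he : ∀ s : n × n, e (X s) = N s.1 s.2) :
    (Xalt n).map e = N := by
  apply Matrix.ext
  intro i j
  rw [Matrix.map_apply, Xalt_apply]
  have hji : N j i = -N i j := congrFun (congrFun hN i) j
  rcases lt_trichotomy i j with h | h | h
  · rw [if_pos h, he]
  · subst h
    rw [if_neg (lt_irrefl i), if_neg (lt_irrefl i), map_zero, hN0]
  · rw [if_neg (not_lt.mpr h.le), if_pos h, map_neg, he]
    show -N j i = N i j
    rw [hji, neg_neg]

/-- the ring with both families of variables -/
abbrev S2 (n : Type u) := MvPolynomial ((n × n) ⊕ (n × n)) ℤ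

/-- the generic matrix -/
def Abig (n : Type u) : Matrix n n (S2 n) := Matrix.of fun i j => X (Sum.inr (i, j))

/-- inclusion of the first family of variables -/
def iot (n : Type u) : MvPolynomial (n × n) ℤ →+* S2 n := evh (fun ij => X (Sum.inl ij))

/-- the generic alternating matrix in the big ring -/
def Xbig (n : Type u) [LinearOrder n] : Matrix n n (S2 n) := (Xalt n).map (iot n)

/-- the transformed alternating matrix -/
def Ybig (n : Type u) [Fintype n] [LinearOrder n] : Matrix n n (S2 n) :=
  (Abig n)ᵀ * Xbig n * Abig n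

/-- substitution of the transformed matrix -/
def tht (n : Type u) [Fintype n] [LinearOrder n] : MvPolynomial (n × n) ℤ →+* S2 n :=
  evh (fun ij => Ybig n ij.1 ij.2)

theorem Xbig_transpose : (Xbig n)ᵀ = -(Xbig n) := by
  apply Matrix.ext
  intro i j
  rw [Matrix.transpose_apply, Matrix.neg_apply]
  show iot n (Xalt n j i) = -iot n (Xalt n i j)
  rw [Xalt_swap, map_neg]

theorem Ybig_transpose : (Ybig n)ᵀ = -(Ybig n) := by
  unfold Ybig
  rw [Matrix.transpose_mul, Matrix.transpose_mul, Matrix.transpose_transpose, Xbig_transpose,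
    Matrix.neg_mul, Matrix.mul_neg, Matrix.mul_assoc]

theorem two_ne_zero_S2 : (2 : S2 n) ≠ 0 :=
  PfaffSq.two_ne_zero_mv (by norm_num : (2 : ℤ) ≠ 0)

theorem Ybig_diag (i : n) : Ybig n i i = 0 := by
  have h : Ybig n i i = -Ybig n i i := congrFun (congrFun (Ybig_transpose (n := n)) i) i
  have h2 : (2 : S2 n) * Ybig n i i = 0 := by linear_combination h
  exact (mul_eq_zero.mp h2).resolve_left two_ne_zero_S2

theorem tht_Xalt : (Xalt n).map (tht n) = Ybig n := by
  apply Matrix.ext
  intro i j
  have hsk : Ybig n j i = -Ybig n i j := congrFun (congrFun (Ybig_transpose (n := n)) i) j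
  rw [Matrix.map_apply, Xalt_apply]
  rcases lt_trichotomy i j with h | h | h
  · rw [if_pos h]; exact evh_X _ _
  · subst h
    rw [if_neg (lt_irrefl i), if_neg (lt_irrefl i), map_zero, Ybig_diag]
  · rw [if_neg (not_lt.mpr h.le), if_pos h, map_neg]
    have h1 : tht n (X (j, i)) = Ybig n j i := evh_X _ _
    rw [h1, hsk, neg_neg]

theorem key_sq (p : MvPolynomial (n × n) ℤ) (hp : (Xalt n).det = p ^ 2) :
    (tht n p) ^ 2 = ((Abig n).det * iot n p) ^ 2 := by
  have h1 : (tht n p) ^ 2 = (Ybig n).det := by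
    rw [← map_pow, ← hp, map_det', tht_Xalt]
  have h2 : (iot n p) ^ 2 = (Xbig n).det := by
    rw [← map_pow, ← hp, map_det']
    rfl
  rw [h1, mul_pow, h2]
  unfold Ybig
  rw [Matrix.det_mul, Matrix.det_mul, Matrix.det_transpose]
  ring

theorem det_eq_one_or_neg_one {R : Type v} [CommRing R] (N A : Matrix n n R) (hN : Nᵀ = -N)
    (hN0 : ∀ i, N i i = 0) (hu : IsUnit N.det) (hA : Aᵀ * N * A = N) :
    A.det = 1 ∨ A.det = -1 := by
  obtain ⟨p, hp⟩ := PfaffSq.skew_det_sq_of_isIntegrallyClosed
    (PfaffSq.two_ne_zero_mv (σ := n × n) (by norm_num : (2 : ℤ) ≠ 0)) (Xalt n) Xalt_transpose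
  have hsq := key_sq p hp
  -- the specialisation
  obtain ⟨ev, hevl, hevr⟩ : ∃ ev : S2 n →+* R, (∀ s : n × n, ev (X (Sum.inl s)) = N s.1 s.2) ∧
      (∀ s : n × n, ev (X (Sum.inr s)) = A s.1 s.2) :=
    ⟨evh (Sum.elim (fun ij => N ij.1 ij.2) (fun ij => A ij.1 ij.2)),
      fun s => evh_X _ _, fun s => evh_X _ _⟩
  obtain ⟨eN, heN⟩ : ∃ eN : MvPolynomial (n × n) ℤ →+* R, ∀ s : n × n, eN (X s) = N s.1 s.2 :=
    ⟨evh (fun ij : n × n => N ij.1 ij.2), fun s => evh_X _ _⟩
  have hevA : (Abig n).map ev = A := by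
    apply Matrix.ext
    intro i j
    show ev (X (Sum.inr (i, j))) = A i j
    exact hevr (i, j)
  have hiot : ev.comp (iot n) = eN := by
    apply evh_ext
    intro s
    rw [RingHom.comp_apply]
    have h1 : iot n (X s) = X (Sum.inl s) := evh_X _ _
    rw [h1, hevl, heN]
  have hevX : (Xbig n).map ev = N := by
    unfold Xbig
    rw [Matrix.map_map]
    have h1 : (⇑ev ∘ ⇑(iot n)) = ⇑eN := by
      funext x
      exact RingHom.congr_fun hiot x
    rw [h1]
    exact eval_Xalt N hN hN0 eN heN
  have hevY : (Ybig n).map ev = N := by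
    unfold Ybig
    rw [Matrix.map_mul, Matrix.map_mul, Matrix.transpose_map, hevA, hevX, hA]
  have htht : ev.comp (tht n) = eN := by
    apply evh_ext
    intro s
    rw [RingHom.comp_apply]
    have h1 : tht n (X s) = Ybig n s.1 s.2 := evh_X _ _
    rw [h1]
    have h2 : ev (Ybig n s.1 s.2) = ((Ybig n).map ev) s.1 s.2 := rfl
    rw [h2, hevY, heN]
  have hdA : ev (Abig n).det = A.det := by
    rw [map_det', hevA]
  have hpN : (eN p) ^ 2 = N.det := by
    rw [← map_pow, ← hp, map_det', eval_Xalt N hN hN0 eN heN]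
  have hup : IsUnit (eN p) := by
    rw [← isUnit_pow_iff (two_ne_zero), hpN]
    exact hu
  have e1 : ev (tht n p) = eN p := RingHom.congr_fun htht p
  have e2 : ev (iot n p) = eN p := RingHom.congr_fun hiot p
  rcases sq_eq_sq_iff_eq_or_eq_neg.mp hsq with h | h
  · left
    have h3 := congrArg ev h
    rw [map_mul, e1, e2, hdA] at h3
    have h4 : 1 * eN p = A.det * eN p := by rw [one_mul]; exact h3
    exact ((hup.mul_left_inj).mp h4).symm
  · right
    have h3 := congrArg ev h
    rw [map_neg, map_mul, e1, e2, hdA] at h3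
    have h4 : (-1) * eN p = A.det * eN p := by
      linear_combination (-1 : R) * h3
    exact ((hup.mul_left_inj).mp h4).symm

omit [LinearOrder n] in
/-- Version without a chosen order on the index type. -/
theorem det_eq_one_or_neg_one' [DecidableEq n] {R : Type v} [CommRing R] (N A : Matrix n n R)
    (hN : Nᵀ = -N) (hN0 : ∀ i, N i i = 0) (hu : IsUnit N.det) (hA : Aᵀ * N * A = N) :
    A.det = 1 ∨ A.det = -1 := by
  letI lo : LinearOrder n := LinearOrder.lift' (Fintype.equivFin n) (Fintype.equivFin n).injective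
  have h := det_eq_one_or_neg_one (n := n) N A hN hN0 (by convert hu) hA
  convert h

end

end Groth.Agent.Lib.Helper6.SympDet
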