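import Mathlib
import Groth.Prelude.Def_QuadGrp
import Groth.Agent.Lib.Helper6.SympDet

set_option autoImplicit false

namespace Groth.Agent.Lib.Helper6.QuadChar2

open Module Matrix

universe u v

theorem det_eq_one_of_isometry {R : Type u} [CommRing R] [CharP R 2] {M : Type v}
    [AddCommGroup M] [Module R M] [Module.Free R M] [Module.Finite R M]
    (Q : QuadraticForm R M) (hQ : QuadGrp.IsRegular Q)
    (g : M ≃ₗ[R] M) (hg : g ∈ QuadGrp.O Q) : LinearEquiv.det g = 1 := by
  classical
  have hg' : ∀ v, Q (g v) = Q v := (QuadGrp.mem_O Q g).mp hg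
  let b := Module.Free.chooseBasis R M
  let B : M →ₗ[R] M →ₗ[R] R := QuadraticMap.polarBilin Q
  let P : Matrix (Module.Free.ChooseBasisIndex R M) (Module.Free.ChooseBasisIndex R M) R :=
    LinearMap.toMatrix₂ b b B
  let G : Matrix (Module.Free.ChooseBasisIndex R M) (Module.Free.ChooseBasisIndex R M) R :=
    LinearMap.toMatrix b b g.toLinearMap
  have hP : ∀ i j, P i j = QuadraticMap.polar Q (b i) (b j) := fun i j => by
    show LinearMap.toMatrix₂ b b B i j = _
    rw [LinearMap.toMatrix₂_apply]
    exact QuadraticMap.polarBilin_apply_apply Q _ _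
  have hPt : Pᵀ = -P := by
    apply Matrix.ext
    intro i j
    rw [Matrix.transpose_apply, Matrix.neg_apply, hP, hP, QuadraticMap.polar_comm,
      CharTwo.neg_eq]
  have hP0 : ∀ i, P i i = 0 := by
    intro i
    rw [hP, QuadraticMap.polar_self]
    first
      | (rw [two_nsmul]; exact CharTwo.add_self_eq_zero _)
      | (rw [two_smul]; exact CharTwo.add_self_eq_zero _)
  have hPu : IsUnit P.det := by
    let e : M ≃ₗ[R] Module.Dual R M := LinearEquiv.ofBijective B hQ
    have h1 := LinearEquiv.isUnit_det e b b.dualBasis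
    have h2 : LinearMap.toMatrix b b.dualBasis (e : M →ₗ[R] Module.Dual R M) = Pᵀ := by
      apply Matrix.ext
      intro i j
      rw [LinearMap.toMatrix_apply, Module.Basis.dualBasis_repr, Matrix.transpose_apply, hP]
      exact QuadraticMap.polarBilin_apply_apply Q _ _
    rw [h2, Matrix.det_transpose] at h1
    exact h1
  have hcomp : B.compl₁₂ g.toLinearMap g.toLinearMap = B := by
    apply LinearMap.ext
    intro x
    apply LinearMap.ext
    intro y
    rw [LinearMap.compl₁₂_apply]
    show QuadraticMap.polarBilin Q (g x) (g y) = QuadraticMap.polarBilin Q x y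
    rw [QuadraticMap.polarBilin_apply_apply, QuadraticMap.polarBilin_apply_apply]
    unfold QuadraticMap.polar
    rw [← map_add, hg' (x + y), hg' x, hg' y]
  have hG : Gᵀ * P * G = P := by
    have h := LinearMap.toMatrix₂_compl₁₂ b b b b B g.toLinearMap g.toLinearMap
    rw [hcomp] at h
    exact h.symm
  have hdet := SympDet.det_eq_one_or_neg_one' P G hPt hP0 hPu hG
  have hG1 : G.det = 1 := by
    rcases hdet with h | h
    · exact h
    · rw [h, CharTwo.neg_eq]
  apply Units.ext
  rw [LinearEquiv.coe_det, Units.val_one, ← LinearMap.det_toMatrix b]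
  exact hG1

theorem main {R : Type u} [CommRing R] [CharP R 2] {M : Type v}
    [AddCommGroup M] [Module R M] [Module.Free R M] [Module.Finite R M]
    (Q : QuadraticForm R M) (hQ : QuadGrp.IsRegular Q) :
    QuadGrp.O Q = QuadGrp.SO' Q := by
  apply le_antisymm
  · intro g hg
    unfold QuadGrp.SO'
    exact Subgroup.mem_inf.mpr ⟨hg, MonoidHom.mem_ker.mpr (det_eq_one_of_isometry Q hQ g hg)⟩
  · unfold QuadGrp.SO'
    exact inf_le_left

end Groth.Agent.Lib.Helper6.QuadChar2
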