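import Mathlib
import Groth.Prelude.Def_W4c6intromoduliQuartic

/-!
# Split binary quartics with a double zero and no triple zero: two classes
-/

set_option autoImplicit false
universe u

namespace Groth.Agent.Lib.Helper6.QuarticFibre

open MvPolynomial W4c6intromoduli

variable {k : Type u} [Field k]

theorem subst_X (N : Matrix (Fin 2) (Fin 2) k) (i : Fin 2) :
    subst N (X i) = C (N i 0) * X 0 + C (N i 1) * X 1 := by
  rw [subst, aeval_X, Fin.sum_univ_two]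

theorem prop_scalar (l0 m0 l1 m1 : k) (hn0 : l0 ≠ 0 ∨ m0 ≠ 0) (hn1 : l1 ≠ 0 ∨ m1 ≠ 0)
    (h : l0 * m1 = l1 * m0) : ∃ t : k, t ≠ 0 ∧ l1 = t * l0 ∧ m1 = t * m0 := by
  by_cases h0 : l0 = 0
  · have hm0 : m0 ≠ 0 := by
      rcases hn0 with h' | h'
      · exact absurd h0 h'
      · exact h'
    have hl1 : l1 = 0 := by
      rw [h0, zero_mul] at h
      rcases mul_eq_zero.mp h.symm with h' | h'
      · exact h'
      · exact absurd h' hm0
    have hm1 : m1 ≠ 0 := by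
      rcases hn1 with h' | h'
      · exact absurd hl1 h'
      · exact h'
    refine ⟨m1 / m0, div_ne_zero hm1 hm0, ?_, ?_⟩
    · rw [hl1, h0, mul_zero]
    · rw [div_mul_cancel₀ _ hm0]
  · have hl1 : l1 ≠ 0 := by
      intro hl1
      rw [hl1, zero_mul] at h
      rcases mul_eq_zero.mp h with h' | h'
      · exact h0 h'
      · rcases hn1 with h'' | h''
        · exact h'' hl1
        · exact h'' h'
    refine ⟨l1 / l0, div_ne_zero hl1 h0, ?_, ?_⟩
    · rw [div_mul_cancel₀ _ h0]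
    · rw [div_mul_eq_mul_div, eq_div_iff h0]
      linear_combination h

theorem core (f : MvPolynomial (Fin 2) k) (l0 m0 l1 m1 l2 m2 l3 m3 : k)
    (hf : f = (C m0 * X 0 - C l0 * X 1) * (C m1 * X 0 - C l1 * X 1) *
      (C m2 * X 0 - C l2 * X 1) * (C m3 * X 0 - C l3 * X 1))
    (hn0 : l0 ≠ 0 ∨ m0 ≠ 0) (hn1 : l1 ≠ 0 ∨ m1 ≠ 0) (hn2 : l2 ≠ 0 ∨ m2 ≠ 0)
    (hn3 : l3 ≠ 0 ∨ m3 ≠ 0)
    (h01 : l0 * m1 = l1 * m0) (h02 : l0 * m2 ≠ l2 * m0) (h03 : l0 * m3 ≠ l3 * m0) :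
    (∃ (M : Matrix (Fin 2) (Fin 2) k) (c : k), IsUnit M.det ∧ c ≠ 0 ∧
      f = C c * subst M (X 0 ^ 2 * X 1 * (X 0 - X 1))) ∨
    (∃ (M : Matrix (Fin 2) (Fin 2) k) (c : k), IsUnit M.det ∧ c ≠ 0 ∧
      f = C c * subst M (X 0 ^ 2 * X 1 ^ 2)) := by
  obtain ⟨t, ht, rfl, rfl⟩ := prop_scalar l0 m0 l1 m1 hn0 hn1 h01
  have hD : l0 * m2 - l2 * m0 ≠ 0 := sub_ne_zero.mpr h02
  have e3 : (C (t * m0) * X 0 - C (t * l0) * X 1 : MvPolynomial (Fin 2) k)
      = C t * (C m0 * X 0 - C l0 * X 1) := by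
    rw [map_mul, map_mul]
    ring
  rw [e3] at hf
  by_cases h23 : l2 * m3 = l3 * m2
  · right
    obtain ⟨u, hu, rfl, rfl⟩ := prop_scalar l2 m2 l3 m3 hn2 hn3 h23
    have e4 : (C (u * m2) * X 0 - C (u * l2) * X 1 : MvPolynomial (Fin 2) k)
        = C u * (C m2 * X 0 - C l2 * X 1) := by
      rw [map_mul, map_mul]
      ring
    rw [e4] at hf
    obtain ⟨M, hM⟩ : ∃ M : Matrix (Fin 2) (Fin 2) k, M = !![m0, -l0; m2, -l2] := ⟨_, rfl⟩
    refine ⟨M, t * u, ?_, mul_ne_zero ht hu, ?_⟩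
    · rw [hM, Matrix.det_fin_two_of, isUnit_iff_ne_zero]
      intro h
      apply hD
      linear_combination h
    · have e0 : subst M (X 0) = C m0 * X 0 - C l0 * X 1 := by
        rw [subst_X, hM]
        show C m0 * X 0 + C (-l0) * X 1 = _
        rw [map_neg]
        ring
      have e1 : subst M (X 1) = C m2 * X 0 - C l2 * X 1 := by
        rw [subst_X, hM]
        show C m2 * X 0 + C (-l2) * X 1 = _
        rw [map_neg]
        ring
      have e5 : subst M (X 0 ^ 2 * X 1 ^ 2) = (subst M (X 0)) ^ 2 * (subst M (X 1)) ^ 2 := by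
        simp only [map_mul, map_pow]
      rw [e5, e0, e1, hf, map_mul]
      ring
  · left
    have ha : l3 * m2 - l2 * m3 ≠ 0 := sub_ne_zero.mpr (fun h => h23 h.symm)
    have hb : l0 * m3 - l3 * m0 ≠ 0 := sub_ne_zero.mpr h03
    obtain ⟨a, haD⟩ : ∃ a, a = l3 * m2 - l2 * m3 := ⟨_, rfl⟩
    obtain ⟨b, hbD⟩ : ∃ b, b = l0 * m3 - l3 * m0 := ⟨_, rfl⟩
    obtain ⟨D, hDD⟩ : ∃ D, D = l0 * m2 - l2 * m0 := ⟨_, rfl⟩
    rw [← haD] at ha
    rw [← hbD] at hb
    rw [← hDD] at hD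
    have hden : a ^ 2 * b * D ≠ 0 := mul_ne_zero (mul_ne_zero (pow_ne_zero 2 ha) hb) hD
    obtain ⟨c, hc⟩ : ∃ c, c = -t / (a ^ 2 * b * D) := ⟨_, rfl⟩
    have hc1 : c * (a ^ 2 * b * D) = -t := by
      rw [hc, div_mul_cancel₀ _ hden]
    have hct : t = c * a ^ 2 * (-b) * D := by
      linear_combination hc1
    have hc0 : c ≠ 0 := by
      rw [hc]
      exact div_ne_zero (neg_ne_zero.mpr ht) hden
    obtain ⟨M, hM⟩ : ∃ M : Matrix (Fin 2) (Fin 2) k,
        M = !![a * m0, -(a * l0); -(b * m2), b * l2] := ⟨_, rfl⟩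
    refine ⟨M, c, ?_, hc0, ?_⟩
    · rw [hM, Matrix.det_fin_two_of, isUnit_iff_ne_zero]
      have h1 : a * m0 * (b * l2) - -(a * l0) * -(b * m2) = -(a * b * D) := by
        rw [hDD]
        ring
      rw [h1]
      exact neg_ne_zero.mpr (mul_ne_zero (mul_ne_zero ha hb) hD)
    · have e0 : subst M (X 0) = C a * (C m0 * X 0 - C l0 * X 1) := by
        rw [subst_X, hM]
        show C (a * m0) * X 0 + C (-(a * l0)) * X 1 = _
        rw [map_neg, map_mul, map_mul]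
        ring
      have e1 : subst M (X 1) = -(C b * (C m2 * X 0 - C l2 * X 1)) := by
        rw [subst_X, hM]
        show C (-(b * m2)) * X 0 + C (b * l2) * X 1 = _
        rw [map_neg, map_mul, map_mul]
        ring
      have e2 : C a * (C m0 * X 0 - C l0 * X 1) + C b * (C m2 * X 0 - C l2 * X 1)
          = (C D * (C m3 * X 0 - C l3 * X 1) : MvPolynomial (Fin 2) k) := by
        have s1 : a * m0 + b * m2 = D * m3 := by
          rw [haD, hbD, hDD]
          ring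
        have s2 : a * l0 + b * l2 = D * l3 := by
          rw [haD, hbD, hDD]
          ring
        calc C a * (C m0 * X 0 - C l0 * X 1) + C b * (C m2 * X 0 - C l2 * X 1)
            = (C (a * m0 + b * m2) * X 0 - C (a * l0 + b * l2) * X 1 :
                MvPolynomial (Fin 2) k) := by
              simp only [map_add, map_mul]
              ring
          _ = C D * (C m3 * X 0 - C l3 * X 1) := by
              rw [s1, s2, map_mul, map_mul]
              ring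
      have e5 : subst M (X 0 ^ 2 * X 1 * (X 0 - X 1))
          = (subst M (X 0)) ^ 2 * subst M (X 1) * (subst M (X 0) - subst M (X 1)) := by
        simp only [map_mul, map_pow, map_sub]
      rw [e5, e0, e1, sub_neg_eq_add, e2, hf]
      conv_lhs => rw [hct]
      simp only [map_mul, map_pow, map_neg]
      ring

theorem excl_scalars (a b c d a' b' c' d' : k)
    (hdet : a * d - b * c ≠ 0) (hdet' : a' * d' - b' * c' ≠ 0)
    (h1 : a' * d + b' * -c = 0 ∨ c' * d + d' * -c = 0)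
    (h2 : a' * -b + b' * a = 0 ∨ c' * -b + d' * a = 0)
    (h3 : a' * (d - b) + b' * (a - c) = 0 ∨ c' * (d - b) + d' * (a - c) = 0) : False := by
  have hN : (a' * d' - b' * c') * (a * d - b * c) ≠ 0 := mul_ne_zero hdet' hdet
  apply hN
  rcases h1 with hA0 | hC0
  · rcases h2 with hA1 | hC1
    · linear_combination (c' * -b + d' * a) * hA0 - (c' * d + d' * -c) * hA1
    · rcases h3 with h3 | h3
      · linear_combination (c' * -b + d' * a) * hA0 - (c' * d + d' * -c) * (h3 - hA0)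
      · linear_combination (c' * -b + d' * a) * hA0 - (a' * -b + b' * a) * (h3 - hC1)
  · rcases h2 with hA1 | hC1
    · rcases h3 with h3 | h3
      · linear_combination (c' * -b + d' * a) * (h3 - hA1) - (a' * -b + b' * a) * hC0
      · linear_combination (a' * d + b' * -c) * (h3 - hC0) - (c' * d + d' * -c) * hA1
    · linear_combination (a' * d + b' * -c) * hC1 - (a' * -b + b' * a) * hC0

theorem excl (M M' : Matrix (Fin 2) (Fin 2) k) (c c' : k) (hM : IsUnit M.det)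
    (hM' : IsUnit M'.det) (hc' : c' ≠ 0)
    (h : C c * subst M (X 0 ^ 2 * X 1 * (X 0 - X 1)) = C c' * subst M' (X 0 ^ 2 * X 1 ^ 2)) :
    False := by
  have hev : ∀ v : Fin 2 → k,
      c * ((M 0 0 * v 0 + M 0 1 * v 1) ^ 2 * (M 1 0 * v 0 + M 1 1 * v 1) *
        ((M 0 0 * v 0 + M 0 1 * v 1) - (M 1 0 * v 0 + M 1 1 * v 1))) =
      c' * ((M' 0 0 * v 0 + M' 0 1 * v 1) ^ 2 * (M' 1 0 * v 0 + M' 1 1 * v 1) ^ 2) := by
    intro v
    have h' := congrArg (MvPolynomial.eval v) h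
    simp only [map_mul, map_pow, map_sub, map_add, subst_X, eval_C, eval_X] at h'
    linear_combination h'
  have hdet : M.det ≠ 0 := hM.ne_zero
  have hdet' : M'.det ≠ 0 := hM'.ne_zero
  rw [Matrix.det_fin_two] at hdet hdet'
  have key : ∀ x y : k, (c * ((M 0 0 * x + M 0 1 * y) ^ 2 * (M 1 0 * x + M 1 1 * y) *
        ((M 0 0 * x + M 0 1 * y) - (M 1 0 * x + M 1 1 * y))) = 0) →
      M' 0 0 * x + M' 0 1 * y = 0 ∨ M' 1 0 * x + M' 1 1 * y = 0 := by
    intro x y hz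
    have h1 := hev ![x, y]
    have e0 : (![x, y] : Fin 2 → k) 0 = x := rfl
    have e1 : (![x, y] : Fin 2 → k) 1 = y := rfl
    rw [e0, e1, hz] at h1
    rcases mul_eq_zero.mp h1.symm with h2 | h2
    · exact absurd h2 hc'
    · rcases mul_eq_zero.mp h2 with h3 | h3
      · exact Or.inl ((pow_eq_zero_iff two_ne_zero).mp h3)
      · exact Or.inr ((pow_eq_zero_iff two_ne_zero).mp h3)
  have h1 := key (M 1 1) (-M 1 0) (by ring)
  have h2 := key (-M 0 1) (M 0 0) (by ring)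
  have h3 := key (M 1 1 - M 0 1) (M 0 0 - M 1 0) (by ring)
  exact excl_scalars (M 0 0) (M 0 1) (M 1 0) (M 1 1) (M' 0 0) (M' 0 1) (M' 1 0) (M' 1 1)
    hdet hdet' h1 h2 h3

theorem perm_exists : ∀ i j : Fin 4, i ≠ j →
    ∃ σ : Equiv.Perm (Fin 4), σ 0 = i ∧ σ 1 = j := by
  intro i j hij
  refine ⟨Equiv.swap 0 i * Equiv.swap 1 (Equiv.swap 0 i j), ?_, ?_⟩
  · revert i j
    decide
  · revert i j
    decide

theorem main (la mu : Fin 4 → k)
    (hne : ∀ i, la i ≠ 0 ∨ mu i ≠ 0) (hd : disc la mu = 0)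
    (h3z : ∀ i j l : Fin 4, i ≠ j → j ≠ l → i ≠ l →
      ¬ (la i * mu j = la j * mu i ∧ la j * mu l = la l * mu j)) :
    Xor
      (∃ (M : Matrix (Fin 2) (Fin 2) k) (c : k), IsUnit M.det ∧ c ≠ 0 ∧
        binForm la mu = C c * subst M (X 0 ^ 2 * X 1 * (X 0 - X 1)))
      (∃ (M : Matrix (Fin 2) (Fin 2) k) (c : k), IsUnit M.det ∧ c ≠ 0 ∧
        binForm la mu = C c * subst M (X 0 ^ 2 * X 1 ^ 2)) := by
  have hnot : ¬ ((∃ (M : Matrix (Fin 2) (Fin 2) k) (c : k), IsUnit M.det ∧ c ≠ 0 ∧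
        binForm la mu = C c * subst M (X 0 ^ 2 * X 1 * (X 0 - X 1))) ∧
      (∃ (M : Matrix (Fin 2) (Fin 2) k) (c : k), IsUnit M.det ∧ c ≠ 0 ∧
        binForm la mu = C c * subst M (X 0 ^ 2 * X 1 ^ 2))) := by
    rintro ⟨⟨M, c, hM, -, h1⟩, ⟨M', c', hM', hc', h2⟩⟩
    exact excl M M' c c' hM hM' hc' (h1.symm.trans h2)
  have hex : (∃ (M : Matrix (Fin 2) (Fin 2) k) (c : k), IsUnit M.det ∧ c ≠ 0 ∧
        binForm la mu = C c * subst M (X 0 ^ 2 * X 1 * (X 0 - X 1))) ∨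
      (∃ (M : Matrix (Fin 2) (Fin 2) k) (c : k), IsUnit M.det ∧ c ≠ 0 ∧
        binForm la mu = C c * subst M (X 0 ^ 2 * X 1 ^ 2)) := by
    rw [disc] at hd
    obtain ⟨p, hp, hp0⟩ := Finset.prod_eq_zero_iff.mp hd
    rw [Finset.mem_filter] at hp
    have hlt : p.1 < p.2 := hp.2
    have hprop : la p.1 * mu p.2 = la p.2 * mu p.1 := by
      have h := (pow_eq_zero_iff two_ne_zero).mp hp0
      linear_combination -h
    obtain ⟨σ, hσ0, hσ1⟩ := perm_exists p.1 p.2 (ne_of_lt hlt)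
    have hbf : binForm la mu = (C (mu (σ 0)) * X 0 - C (la (σ 0)) * X 1) *
        (C (mu (σ 1)) * X 0 - C (la (σ 1)) * X 1) *
        (C (mu (σ 2)) * X 0 - C (la (σ 2)) * X 1) *
        (C (mu (σ 3)) * X 0 - C (la (σ 3)) * X 1) := by
      rw [binForm, ← Equiv.prod_comp σ, Fin.prod_univ_four]
    have n01 : σ 0 ≠ σ 1 := σ.injective.ne (by decide)
    have n02 : σ 0 ≠ σ 2 := σ.injective.ne (by decide)
    have n03 : σ 0 ≠ σ 3 := σ.injective.ne (by decide)
    have n12 : σ 1 ≠ σ 2 := σ.injective.ne (by decide)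
    have n13 : σ 1 ≠ σ 3 := σ.injective.ne (by decide)
    have h01 : la (σ 0) * mu (σ 1) = la (σ 1) * mu (σ 0) := by
      rw [hσ0, hσ1]
      exact hprop
    have h02 : la (σ 0) * mu (σ 2) ≠ la (σ 2) * mu (σ 0) :=
      fun h => h3z (σ 1) (σ 0) (σ 2) n01.symm n02 n12 ⟨h01.symm, h⟩
    have h03 : la (σ 0) * mu (σ 3) ≠ la (σ 3) * mu (σ 0) :=
      fun h => h3z (σ 1) (σ 0) (σ 3) n01.symm n03 n13 ⟨h01.symm, h⟩
    exact core (binForm la mu) (la (σ 0)) (mu (σ 0)) (la (σ 1)) (mu (σ 1)) (la (σ 2)) (mu (σ 2))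
      (la (σ 3)) (mu (σ 3)) hbf (hne _) (hne _) (hne _) (hne _) h01 h02 h03
  rcases hex with h | h
  · exact Or.inl ⟨h, fun h' => hnot ⟨h, h'⟩⟩
  · exact Or.inr ⟨h, fun h' => hnot ⟨h', h⟩⟩

end Groth.Agent.Lib.Helper6.QuarticFibre
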