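import Mathlib

set_option backward.isDefEq.respectTransparency false
set_option autoImplicit false

/-!
# Quasi-homeomorphisms and sheaf pullback (EGA IV 10)

`U ↦ f⁻¹ U` is bijective on opens iff `f^*` is an equivalence on sheaves of sets iff
`f^*` is an equivalence on sheaves of abelian groups.
-/

namespace Groth.Agent.Lib.Helper6.QuasiHomeoSheaf

open CategoryTheory TopologicalSpace Opposite TopCat
open scoped AlgebraicGeometry

universe u v

section Fn

variable {X : TopCat.{u}}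

/-- The presheaf `U ↦ (p⁻¹ U → A)` of arbitrary functions, for a map of sets `p : I → X`. -/
def fnPresheaf {I : Type u} (p : I → X) (A : Type u) : X.Presheaf (Type u) where
  obj U := {k : I // p k ∈ U.unop} → A
  map {U V} i := ↾fun g (k : {k : I // p k ∈ V.unop}) => g ⟨k.1, leOfHom i.unop k.2⟩

theorem fnPresheaf_isSheaf {I : Type u} (p : I → X) (A : Type u) :
    (fnPresheaf p A).IsSheaf :=
  TopCat.Presheaf.isSheaf_of_isSheafUniqueGluing_types _ fun ι U sf hsf => by
    choose index index_spec using fun k : {k : I // p k ∈ iSup U} => Opens.mem_iSup.mp k.2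
    let s : {k : I // p k ∈ iSup U} → A := fun k => sf (index k) ⟨k.1, index_spec k⟩
    refine ⟨s, ?_, ?_⟩
    · intro i
      funext k
      exact congr_fun (hsf (index ⟨k.1, _⟩) i) ⟨k.1, ⟨index_spec ⟨k.1, _⟩, k.2⟩⟩
    · intro t ht
      funext k
      exact congr_fun (ht (index k)) ⟨k.1, index_spec k⟩

/-- The sheaf of arbitrary functions on `I` pushed to `X` along `p`. -/
def fnSheaf {I : Type u} (p : I → X) (A : Type u) : X.Sheaf (Type u) :=
  ⟨fnPresheaf p A, fnPresheaf_isSheaf p A⟩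

end Fn

section Combine

variable {X₀ X : TopCat.{u}} (f : X₀ ⟶ X)

theorem bijective_of
    (h₁ : ∀ U W : Opens X, W ≤ U → (Opens.map f).obj U ≤ (Opens.map f).obj W → U ≤ W)
    (h₂ : ∀ (W : Opens X₀) (y : X₀), y ∈ W →
      ∃ V : Opens X, f y ∈ V ∧ (Opens.map f).obj V ≤ W) :
    Function.Bijective (fun U : Opens X => (Opens.map f).obj U) := by
  constructor
  · intro U₁ U₂ h
    have h' : (Opens.map f).obj U₁ = (Opens.map f).obj U₂ := h
    have hinf : ∀ A B : Opens X, (Opens.map f).obj A = (Opens.map f).obj B → A ≤ B := by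
      intro A B hAB
      have : A ≤ A ⊓ B := h₁ A (A ⊓ B) inf_le_left (by
        intro y hy
        have hB : y ∈ (Opens.map f).obj B := hAB ▸ hy
        exact And.intro hy hB)
      exact this.trans inf_le_right
    exact le_antisymm (hinf _ _ h') (hinf _ _ h'.symm)
  · intro W
    refine ⟨sSup {V | (Opens.map f).obj V ≤ W}, ?_⟩
    apply le_antisymm
    · intro y hy
      obtain ⟨V, hV, hyV⟩ :=
        Opens.mem_sSup.mp (show f y ∈ sSup {V | (Opens.map f).obj V ≤ W} from hy)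
      exact hV hyV
    · intro y hy
      obtain ⟨V, hyV, hVW⟩ := h₂ W y hy
      exact Opens.mem_sSup.mpr ⟨V, hVW, hyV⟩

end Combine

section Forward

variable {X₀ X : TopCat.{u}} (f : X₀ ⟶ X)
  (hb : Function.Bijective (fun U : Opens X => (Opens.map f).obj U))

include hb in
theorem map_le_map_iff {U V : Opens X} :
    (Opens.map f).obj U ≤ (Opens.map f).obj V ↔ U ≤ V := by
  refine ⟨fun h => ?_, fun h => ((Opens.map f).map (homOfLE h)).le⟩
  have h2 : (Opens.map f).obj (U ⊔ V) = (Opens.map f).obj V := by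
    apply le_antisymm
    · intro y hy
      rcases (show f y ∈ U ∨ f y ∈ V from hy) with hy | hy
      · exact h hy
      · exact hy
    · intro y hy
      exact Or.inr hy
  have h3 : U ⊔ V = V := hb.1 h2
  exact h3 ▸ le_sup_left

/-- inverse of `f⁻¹` on opens -/
noncomputable def inv (W : Opens X₀) : Opens X := Function.surjInv hb.2 W

theorem map_inv (W : Opens X₀) : (Opens.map f).obj (inv f hb W) = W :=
  Function.surjInv_eq hb.2 W

theorem inv_map (U : Opens X) : inv f hb ((Opens.map f).obj U) = U :=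
  hb.1 (map_inv f hb _)

theorem inv_mono : Monotone (inv f hb) := fun U' V' h =>
  (map_le_map_iff f hb).mp (by rw [map_inv, map_inv]; exact h)

/-- the equivalence of the categories of opens -/
noncomputable def opensEquiv : Opens X ≌ Opens X₀ :=
  CategoryTheory.Equivalence.mk (Opens.map f) (inv_mono f hb).functor
    (NatIso.ofComponents (fun U => eqToIso (inv_map f hb U).symm)
      (fun _ => Subsingleton.elim _ _))
    (NatIso.ofComponents (fun W => eqToIso (map_inv f hb W))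
      (fun _ => Subsingleton.elim _ _))

include hb in
theorem isDenseSubsite :
    (Opens.map f).IsDenseSubsite (Opens.grothendieckTopology X)
      (Opens.grothendieckTopology X₀) := by
  have : (Opens.map f).IsEquivalence := (opensEquiv f hb).isEquivalence_functor
  refine { functorPushforward_mem_iff := ?_ }
  intro U S
  constructor
  · intro hS
    have hU'le : sSup {V : Opens X | ∃ i : V ⟶ U, S.arrows i} ≤ U :=
      sSup_le (fun V hV => by obtain ⟨i, _⟩ := hV; exact i.le)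
    have hle : (Opens.map f).obj U ≤
        (Opens.map f).obj (sSup {V : Opens X | ∃ i : V ⟶ U, S.arrows i}) := by
      intro y hy
      obtain ⟨W', j, ⟨V, i, h', hSi, _⟩, hyW'⟩ := hS y hy
      exact Opens.mem_sSup.mpr ⟨V, ⟨i, hSi⟩, h'.le hyW'⟩
    have hUU' : U = sSup {V : Opens X | ∃ i : V ⟶ U, S.arrows i} :=
      hb.1 (le_antisymm hle ((map_le_map_iff f hb).mpr hU'le))
    intro x hx
    rw [hUU'] at hx
    obtain ⟨V, ⟨i, hSi⟩, hxV⟩ := Opens.mem_sSup.mp hx
    exact ⟨V, i, hSi, hxV⟩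
  · intro hS y hy
    obtain ⟨V, i, hSi, hxV⟩ := hS (f y) hy
    exact ⟨(Opens.map f).obj V, (Opens.map f).map i,
      ⟨V, i, 𝟙 _, hSi, (Category.id_comp _).symm⟩, hxV⟩

include hb in
theorem pushforward_isEquivalence (A : Type v) [Category.{u} A] :
    (TopCat.Sheaf.pushforward A f).IsEquivalence := by
  have inst := isDenseSubsite f hb
  have : (opensEquiv f hb).symm.inverse.IsDenseSubsite (Opens.grothendieckTopology X)
      (Opens.grothendieckTopology X₀) := inst
  exact Functor.isEquivalence_of_iso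
    (Iso.refl _ : ((opensEquiv f hb).symm.sheafCongr (Opens.grothendieckTopology X₀)
      (Opens.grothendieckTopology X) A).functor ≅ TopCat.Sheaf.pushforward A f)

end Forward


section ConverseType

variable {X₀ X : TopCat.{u}} (f : X₀ ⟶ X)

theorem le_of_essSurj_type [(TopCat.Sheaf.pushforward (Type u) f).EssSurj]
    (U W : Opens X) (hWU : W ≤ U)
    (h : (Opens.map f).obj U ≤ (Opens.map f).obj W) : U ≤ W := by
  classical
  intro x hxU
  by_contra hxW
  obtain ⟨G, hG⟩ : ∃ G : X.Sheaf (Type u),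
      G = fnSheaf (fun _ : PUnit.{u+1} => x) (ULift.{u} Bool) := ⟨_, rfl⟩
  obtain ⟨H, ⟨e⟩⟩ : ∃ H : X₀.Sheaf (Type u),
      Nonempty ((TopCat.Sheaf.pushforward (Type u) f).obj H ≅ G) :=
    ⟨_, ⟨(TopCat.Sheaf.pushforward (Type u) f).objObjPreimageIso G⟩⟩
  subst hG
  let i : W ⟶ U := homOfLE hWU
  let j : (Opens.map f).obj U ⟶ (Opens.map f).obj W := homOfLE h
  let t₁ : {k : PUnit.{u+1} // x ∈ U} → ULift.{u} Bool := fun _ => ⟨true⟩
  let t₀ : {k : PUnit.{u+1} // x ∈ U} → ULift.{u} Bool := fun _ => ⟨false⟩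
  have ht : (fnPresheaf (fun _ : PUnit.{u+1} => x) (ULift.{u} Bool)).map i.op t₁ =
      (fnPresheaf (fun _ : PUnit.{u+1} => x) (ULift.{u} Bool)).map i.op t₀ :=
    funext fun k => absurd k.2 hxW
  have nat := e.inv.hom.naturality i.op
  have n₁ := ConcreteCategory.congr_hom nat t₁
  have n₀ := ConcreteCategory.congr_hom nat t₀
  simp only [ConcreteCategory.comp_apply] at n₁ n₀
  have e₁ : (f _* H.1).map i.op (e.inv.hom.app (op U) t₁) =
      (f _* H.1).map i.op (e.inv.hom.app (op U) t₀) := by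
    refine n₁.symm.trans (Eq.trans ?_ n₀)
    exact congr_arg _ ht
  have hcomp : (f _* H.1).map i.op ≫ H.1.map j.op = 𝟙 _ := by
    show H.1.map ((Opens.map f).map i).op ≫ H.1.map j.op = 𝟙 _
    rw [← H.1.map_comp, ← op_comp, Subsingleton.elim (j ≫ (Opens.map f).map i) (𝟙 _), op_id,
      H.1.map_id]
  have e₂ : e.inv.hom.app (op U) t₁ = e.inv.hom.app (op U) t₀ := by
    have a₁ : H.1.map j.op ((f _* H.1).map i.op (e.inv.hom.app (op U) t₁)) =
        e.inv.hom.app (op U) t₁ :=
      ConcreteCategory.congr_hom hcomp (e.inv.hom.app (op U) t₁)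
    have a₀ : H.1.map j.op ((f _* H.1).map i.op (e.inv.hom.app (op U) t₀)) =
        e.inv.hom.app (op U) t₀ :=
      ConcreteCategory.congr_hom hcomp (e.inv.hom.app (op U) t₀)
    rw [← a₁, ← a₀, e₁]
  have hid : e.inv.hom.app (op U) ≫ e.hom.hom.app (op U) = 𝟙 _ :=
    congr_arg (fun α => α.hom.app (op U)) e.inv_hom_id
  have b₁ : e.hom.hom.app (op U) (e.inv.hom.app (op U) t₁) = t₁ :=
    ConcreteCategory.congr_hom hid t₁
  have b₀ : e.hom.hom.app (op U) (e.inv.hom.app (op U) t₀) = t₀ :=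
    ConcreteCategory.congr_hom hid t₀
  have h10 : t₁ = t₀ := by rw [← b₁, ← b₀, e₂]
  have h3 := congr_fun h10 ⟨PUnit.unit, hxU⟩
  exact Bool.noConfusion (congrArg ULift.down h3)

theorem exists_nhd_type [(TopCat.Sheaf.pushforward (Type u) f).Full]
    (W : Opens X₀) (y : X₀) (hy : y ∈ W) :
    ∃ V : Opens X, f y ∈ V ∧ (Opens.map f).obj V ≤ W := by
  classical
  obtain ⟨P, hP⟩ : ∃ P : X₀.Presheaf (Type u),
      P = fnPresheaf (fun c : {c : X₀ // c ∉ W} => c.1) (ULift.{u} Bool) := ⟨_, rfl⟩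
  have hPs : P.IsSheaf := hP ▸ fnPresheaf_isSheaf _ _
  obtain ⟨A, hA⟩ : ∃ A : Type u, A = (f _* P).stalk (f y) := ⟨_, rfl⟩
  subst hA
  -- the skyscraper at `y` with value the stalk
  let S : X₀.Presheaf (Type u) := fnPresheaf (fun _ : PUnit.{u+1} => y) ((f _* P).stalk (f y))
  let θ₀ : f _* P ⟶ f _* S :=
    { app := fun V => ↾fun (s : (f _* P).obj V)
          (k : {k : PUnit.{u+1} // y ∈ (Opens.map f).obj V.unop}) =>
          (f _* P).germ V.unop (f y) k.2 s
      naturality := by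
        intro V V' i
        ext s
        funext k
        show (f _* P).germ V'.unop (f y) k.2 ((f _* P).map i s) =
          (f _* P).germ V.unop (f y) (leOfHom i.unop k.2) s
        exact (f _* P).germ_res_apply' i (f y) k.2 s }
  let Psh : X₀.Sheaf (Type u) := ⟨P, hPs⟩
  let Ssh : X₀.Sheaf (Type u) := ⟨S, fnPresheaf_isSheaf _ _⟩
  let θ : (TopCat.Sheaf.pushforward (Type u) f).obj Psh ⟶
      (TopCat.Sheaf.pushforward (Type u) f).obj Ssh := ObjectProperty.homMk θ₀
  obtain ⟨φ, hφ⟩ := (TopCat.Sheaf.pushforward (Type u) f).map_surjective θ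
  have key : ∀ (V : Opens X) (s : (f _* P).obj (op V))
      (k : {k : PUnit.{u+1} // y ∈ (Opens.map f).obj V}),
      φ.hom.app (op ((Opens.map f).obj V)) s k = (f _* P).germ V (f y) k.2 s := by
    intro V s k
    have h1 : ((TopCat.Sheaf.pushforward (Type u) f).map φ).hom.app (op V) = θ₀.app (op V) :=
      congr_arg (fun α => α.hom.app (op V)) hφ
    exact congr_fun (ConcreteCategory.congr_hom h1 s) k
  subst hP
  let s₁ : {k : {c : X₀ // c ∉ W} // k.1 ∈ (Opens.map f).obj (⊤ : Opens X)} → ULift.{u} Bool :=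
    fun _ => ⟨true⟩
  let s₀ : {k : {c : X₀ // c ∉ W} // k.1 ∈ (Opens.map f).obj (⊤ : Opens X)} → ULift.{u} Bool :=
    fun _ => ⟨false⟩
  let i : W ⟶ (Opens.map f).obj (⊤ : Opens X) := homOfLE (fun _ _ => trivial)
  have nat := φ.hom.naturality i.op
  have n₁ := ConcreteCategory.congr_hom nat s₁
  have n₀ := ConcreteCategory.congr_hom nat s₀
  simp only [ConcreteCategory.comp_apply] at n₁ n₀
  have e₁ : (fnPresheaf (fun c : {c : X₀ // c ∉ W} => c.1) (ULift.{u} Bool)).map i.op s₁ =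
      (fnPresheaf (fun c : {c : X₀ // c ∉ W} => c.1) (ULift.{u} Bool)).map i.op s₀ :=
    funext fun k => absurd k.2 k.1.2
  have e₂ : S.map i.op (φ.hom.app (op ((Opens.map f).obj (⊤ : Opens X))) s₁) =
      S.map i.op (φ.hom.app (op ((Opens.map f).obj (⊤ : Opens X))) s₀) := by
    refine n₁.symm.trans (Eq.trans ?_ n₀)
    exact congr_arg _ e₁
  have e₃ : φ.hom.app (op ((Opens.map f).obj (⊤ : Opens X))) s₁ ⟨PUnit.unit, trivial⟩ =
      φ.hom.app (op ((Opens.map f).obj (⊤ : Opens X))) s₀ ⟨PUnit.unit, trivial⟩ :=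
    congr_fun e₂ ⟨PUnit.unit, hy⟩
  rw [key ⊤ s₁, key ⊤ s₀] at e₃
  obtain ⟨V, hxV, iU, iV, hVeq⟩ :=
    (f _* fnPresheaf (fun c : {c : X₀ // c ∉ W} => c.1) (ULift.{u} Bool)).germ_eq
      (U := ⊤) (V := ⊤) (f y) trivial trivial s₁ s₀ e₃
  refine ⟨V, hxV, fun c hc => ?_⟩
  by_contra hcW
  have h3 := congr_fun hVeq ⟨⟨c, hcW⟩, hc⟩
  exact Bool.noConfusion (congrArg ULift.down h3)

end ConverseType

section FnAb

variable {X : TopCat.{u}}

/-- The presheaf of abelian groups `U ↦ (p⁻¹ U → A)`. -/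
def fnPresheafAb {I : Type u} (p : I → X) (A : Type u) [AddCommGroup A] :
    X.Presheaf AddCommGrpCat.{u} where
  obj U := AddCommGrpCat.of ({k : I // p k ∈ U.unop} → A)
  map {U V} i := AddCommGrpCat.ofHom
    { toFun := fun g (k : {k : I // p k ∈ V.unop}) => g ⟨k.1, leOfHom i.unop k.2⟩
      map_zero' := rfl
      map_add' := fun _ _ => rfl }

theorem fnPresheafAb_isSheaf {I : Type u} (p : I → X) (A : Type u) [AddCommGroup A] :
    (fnPresheafAb p A).IsSheaf :=
  (TopCat.Presheaf.isSheaf_iff_isSheafUniqueGluing _).mpr fun ι U sf hsf => by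
    choose index index_spec using fun k : {k : I // p k ∈ iSup U} => Opens.mem_iSup.mp k.2
    let s : {k : I // p k ∈ iSup U} → A := fun k => sf (index k) ⟨k.1, index_spec k⟩
    refine ⟨s, ?_, ?_⟩
    · intro i
      funext k
      exact congr_fun (hsf (index ⟨k.1, _⟩) i) ⟨k.1, ⟨index_spec ⟨k.1, _⟩, k.2⟩⟩
    · intro t ht
      funext k
      exact congr_fun (ht (index k)) ⟨k.1, index_spec k⟩

end FnAb

section ConverseAb

variable {X₀ X : TopCat.{u}} (f : X₀ ⟶ X)

theorem le_of_essSurj_ab [(TopCat.Sheaf.pushforward AddCommGrpCat.{u} f).EssSurj]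
    (U W : Opens X) (hWU : W ≤ U)
    (h : (Opens.map f).obj U ≤ (Opens.map f).obj W) : U ≤ W := by
  classical
  intro x hxU
  by_contra hxW
  obtain ⟨G, hG⟩ : ∃ G : X.Sheaf AddCommGrpCat.{u},
      G = ⟨fnPresheafAb (fun _ : PUnit.{u+1} => x) (ULift.{u} ℤ), fnPresheafAb_isSheaf _ _⟩ :=
    ⟨_, rfl⟩
  obtain ⟨H, ⟨e⟩⟩ : ∃ H : X₀.Sheaf AddCommGrpCat.{u},
      Nonempty ((TopCat.Sheaf.pushforward AddCommGrpCat.{u} f).obj H ≅ G) :=
    ⟨_, ⟨(TopCat.Sheaf.pushforward AddCommGrpCat.{u} f).objObjPreimageIso G⟩⟩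
  subst hG
  let i : W ⟶ U := homOfLE hWU
  let j : (Opens.map f).obj U ⟶ (Opens.map f).obj W := homOfLE h
  let t₁ : {k : PUnit.{u+1} // x ∈ U} → ULift.{u} ℤ := fun _ => ⟨1⟩
  let t₀ : {k : PUnit.{u+1} // x ∈ U} → ULift.{u} ℤ := fun _ => ⟨0⟩
  have ht : (fnPresheafAb (fun _ : PUnit.{u+1} => x) (ULift.{u} ℤ)).map i.op t₁ =
      (fnPresheafAb (fun _ : PUnit.{u+1} => x) (ULift.{u} ℤ)).map i.op t₀ :=
    funext fun k => absurd k.2 hxW
  have nat := e.inv.hom.naturality i.op
  have n₁ := ConcreteCategory.congr_hom nat t₁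
  have n₀ := ConcreteCategory.congr_hom nat t₀
  simp only [ConcreteCategory.comp_apply] at n₁ n₀
  have e₁ : (f _* H.1).map i.op (e.inv.hom.app (op U) t₁) =
      (f _* H.1).map i.op (e.inv.hom.app (op U) t₀) := by
    refine n₁.symm.trans (Eq.trans ?_ n₀)
    exact congr_arg _ ht
  have hcomp : (f _* H.1).map i.op ≫ H.1.map j.op = 𝟙 _ := by
    show H.1.map ((Opens.map f).map i).op ≫ H.1.map j.op = 𝟙 _
    rw [← H.1.map_comp, ← op_comp, Subsingleton.elim (j ≫ (Opens.map f).map i) (𝟙 _), op_id,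
      H.1.map_id]
  have e₂ : e.inv.hom.app (op U) t₁ = e.inv.hom.app (op U) t₀ := by
    have a₁ : H.1.map j.op ((f _* H.1).map i.op (e.inv.hom.app (op U) t₁)) =
        e.inv.hom.app (op U) t₁ :=
      ConcreteCategory.congr_hom hcomp (e.inv.hom.app (op U) t₁)
    have a₀ : H.1.map j.op ((f _* H.1).map i.op (e.inv.hom.app (op U) t₀)) =
        e.inv.hom.app (op U) t₀ :=
      ConcreteCategory.congr_hom hcomp (e.inv.hom.app (op U) t₀)
    rw [← a₁, ← a₀, e₁]
  have hid : e.inv.hom.app (op U) ≫ e.hom.hom.app (op U) = 𝟙 _ :=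
    congr_arg (fun α => α.hom.app (op U)) e.inv_hom_id
  have b₁ : e.hom.hom.app (op U) (e.inv.hom.app (op U) t₁) = t₁ :=
    ConcreteCategory.congr_hom hid t₁
  have b₀ : e.hom.hom.app (op U) (e.inv.hom.app (op U) t₀) = t₀ :=
    ConcreteCategory.congr_hom hid t₀
  have h10 : t₁ = t₀ := by rw [← b₁, ← b₀, e₂]
  have h3 := congr_fun h10 ⟨PUnit.unit, hxU⟩
  exact (one_ne_zero : (1 : ℤ) ≠ 0) (congrArg ULift.down h3)

theorem exists_nhd_ab [(TopCat.Sheaf.pushforward AddCommGrpCat.{u} f).Full]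
    (W : Opens X₀) (y : X₀) (hy : y ∈ W) :
    ∃ V : Opens X, f y ∈ V ∧ (Opens.map f).obj V ≤ W := by
  classical
  obtain ⟨P, hP⟩ : ∃ P : X₀.Presheaf AddCommGrpCat.{u},
      P = fnPresheafAb (fun c : {c : X₀ // c ∉ W} => c.1) (ULift.{u} ℤ) := ⟨_, rfl⟩
  have hPs : P.IsSheaf := hP ▸ fnPresheafAb_isSheaf _ _
  -- the skyscraper at `y` with value the stalk
  let S : X₀.Presheaf AddCommGrpCat.{u} :=
    fnPresheafAb (fun _ : PUnit.{u+1} => y) ((f _* P).stalk (f y))
  let θ₀ : f _* P ⟶ f _* S :=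
    { app := fun V => AddCommGrpCat.ofHom
        { toFun := fun (s : (f _* P).obj V)
            (k : {k : PUnit.{u+1} // y ∈ (Opens.map f).obj V.unop}) =>
            (f _* P).germ V.unop (f y) k.2 s
          map_zero' := funext fun k =>
            map_zero (ConcreteCategory.hom ((f _* P).germ V.unop (f y) k.2))
          map_add' := fun a b => funext fun k =>
            map_add (ConcreteCategory.hom ((f _* P).germ V.unop (f y) k.2)) a b }
      naturality := by
        intro V V' i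
        ext s
        funext k
        show (f _* P).germ V'.unop (f y) k.2 ((f _* P).map i s) =
          (f _* P).germ V.unop (f y) (leOfHom i.unop k.2) s
        exact (f _* P).germ_res_apply' i (f y) k.2 s }
  let Psh : X₀.Sheaf AddCommGrpCat.{u} := ⟨P, hPs⟩
  let Ssh : X₀.Sheaf AddCommGrpCat.{u} := ⟨S, fnPresheafAb_isSheaf _ _⟩
  let θ : (TopCat.Sheaf.pushforward AddCommGrpCat.{u} f).obj Psh ⟶
      (TopCat.Sheaf.pushforward AddCommGrpCat.{u} f).obj Ssh := ObjectProperty.homMk θ₀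
  obtain ⟨φ, hφ⟩ := (TopCat.Sheaf.pushforward AddCommGrpCat.{u} f).map_surjective θ
  have key : ∀ (V : Opens X) (s : (f _* P).obj (op V))
      (k : {k : PUnit.{u+1} // y ∈ (Opens.map f).obj V}),
      φ.hom.app (op ((Opens.map f).obj V)) s k = (f _* P).germ V (f y) k.2 s := by
    intro V s k
    have h1 : ((TopCat.Sheaf.pushforward AddCommGrpCat.{u} f).map φ).hom.app (op V) =
        θ₀.app (op V) :=
      congr_arg (fun α => α.hom.app (op V)) hφ
    exact congr_fun (ConcreteCategory.congr_hom h1 s) k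
  subst hP
  let s₁ : {k : {c : X₀ // c ∉ W} // k.1 ∈ (Opens.map f).obj (⊤ : Opens X)} → ULift.{u} ℤ :=
    fun _ => ⟨1⟩
  let s₀ : {k : {c : X₀ // c ∉ W} // k.1 ∈ (Opens.map f).obj (⊤ : Opens X)} → ULift.{u} ℤ :=
    fun _ => ⟨0⟩
  let i : W ⟶ (Opens.map f).obj (⊤ : Opens X) := homOfLE (fun _ _ => trivial)
  have nat := φ.hom.naturality i.op
  have n₁ := ConcreteCategory.congr_hom nat s₁
  have n₀ := ConcreteCategory.congr_hom nat s₀
  simp only [ConcreteCategory.comp_apply] at n₁ n₀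
  have e₁ : (fnPresheafAb (fun c : {c : X₀ // c ∉ W} => c.1) (ULift.{u} ℤ)).map i.op s₁ =
      (fnPresheafAb (fun c : {c : X₀ // c ∉ W} => c.1) (ULift.{u} ℤ)).map i.op s₀ :=
    funext fun k => absurd k.2 k.1.2
  have e₂ : S.map i.op (φ.hom.app (op ((Opens.map f).obj (⊤ : Opens X))) s₁) =
      S.map i.op (φ.hom.app (op ((Opens.map f).obj (⊤ : Opens X))) s₀) := by
    refine n₁.symm.trans (Eq.trans ?_ n₀)
    exact congr_arg _ e₁
  have e₃ : φ.hom.app (op ((Opens.map f).obj (⊤ : Opens X))) s₁ ⟨PUnit.unit, trivial⟩ =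
      φ.hom.app (op ((Opens.map f).obj (⊤ : Opens X))) s₀ ⟨PUnit.unit, trivial⟩ :=
    congr_fun e₂ ⟨PUnit.unit, hy⟩
  rw [key ⊤ s₁, key ⊤ s₀] at e₃
  obtain ⟨V, hxV, iU, iV, hVeq⟩ :=
    (f _* fnPresheafAb (fun c : {c : X₀ // c ∉ W} => c.1) (ULift.{u} ℤ)).germ_eq
      (U := ⊤) (V := ⊤) (f y) trivial trivial s₁ s₀ e₃
  refine ⟨V, hxV, fun c hc => ?_⟩
  by_contra hcW
  have h3 := congr_fun hVeq ⟨⟨c, hcW⟩, hc⟩
  exact (one_ne_zero : (1 : ℤ) ≠ 0) (congrArg ULift.down h3)

end ConverseAb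

theorem main (X₀ X : TopCat.{u}) (f : X₀ ⟶ X) :
    [Function.Bijective (fun U : TopologicalSpace.Opens X => (TopologicalSpace.Opens.map f).obj U),
      (TopCat.Sheaf.pullback (Type u) f).IsEquivalence,
      (TopCat.Sheaf.pullback AddCommGrpCat.{u} f).IsEquivalence].TFAE := by
  tfae_have 1 → 2 := fun hb => by
    have := pushforward_isEquivalence f hb (Type u)
    exact (TopCat.Sheaf.pullbackPushforwardAdjunction (Type u)
      f).isEquivalence_left_of_isEquivalence_right
  tfae_have 1 → 3 := fun hb => by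
    have := pushforward_isEquivalence f hb AddCommGrpCat.{u}
    exact (TopCat.Sheaf.pullbackPushforwardAdjunction AddCommGrpCat.{u}
      f).isEquivalence_left_of_isEquivalence_right
  tfae_have 2 → 1 := fun h => by
    have := (TopCat.Sheaf.pullbackPushforwardAdjunction (Type u)
      f).isEquivalence_right_of_isEquivalence_left
    exact bijective_of f (le_of_essSurj_type f) (exists_nhd_type f)
  tfae_have 3 → 1 := fun h => by
    have := (TopCat.Sheaf.pullbackPushforwardAdjunction AddCommGrpCat.{u}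
      f).isEquivalence_right_of_isEquivalence_left
    exact bijective_of f (le_of_essSurj_ab f) (exists_nhd_ab f)
  tfae_finish

end Groth.Agent.Lib.Helper6.QuasiHomeoSheaf
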