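import Mathlib

set_option autoImplicit false

namespace Groth.Agent.Lib.Helper6.RadoHornA

open Submodule Set

variable {K V E : Type*} [Field K] [AddCommGroup V] [Module K V] [DecidableEq E]

/-- in an independent family, membership in the span of a subfamily can drop an index -/
lemma mem_span_diff_singleton (x : E → V) (I : Set E) (hI : LinearIndepOn K x I) (S : Set E)
    (hS : S ⊆ I) (d : E) (hd : d ∈ S) (v : V) (hv1 : v ∈ span K (x '' S))
    (hv2 : v ∈ span K (x '' (I \ {d}))) :
    v ∈ span K (x '' (S \ {d})) := by
  by_contra hcon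
  have hS' : x '' S = insert (x d) (x '' (S \ {d})) := by
    rw [← Set.image_insert_eq, Set.insert_sdiff_singleton, Set.insert_eq_of_mem hd]
  rw [hS'] at hv1
  have h1 := mem_span_insert_exchange hv1 hcon
  have h2 : x d ∈ span K (x '' (I \ {d})) := by
    have h3 : insert v (x '' (S \ {d})) ⊆ (span K (x '' (I \ {d})) : Set V) := by
      intro y hy
      rcases hy with rfl | hy
      · exact hv2
      · exact span_mono (Set.image_mono (Set.sdiff_subset_sdiff_left hS)) (subset_span hy)
    exact span_le.2 h3 h1
  exact hI.notMem_span (hS hd) h2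

lemma exists_pick (x : E → V) (I : Finset E) (hI : LinearIndepOn K x (I : Set E)) (A : Finset E)
    (v : V) (hv : v ∈ span K (x '' (I : Set E)))
    (hvA : v ∉ span K (x '' ((I ∩ A : Finset E) : Set E))) :
    ∃ e' ∈ I, e' ∉ A ∧ v ∉ span K (x '' ((I.erase e' : Finset E) : Set E)) := by
  by_contra hcon
  push Not at hcon
  have claim : ∀ D : Finset E, D ⊆ I \ A → v ∈ span K (x '' ((I \ D : Finset E) : Set E)) := by
    intro D
    induction D using Finset.induction_on with
    | empty => intro _; simpa using hv
    | insert d D hdD ih =>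
      intro hsub
      have hd : d ∈ I \ A := hsub (Finset.mem_insert_self d D)
      have hD : D ⊆ I \ A := fun y hy => hsub (Finset.mem_insert_of_mem hy)
      have h1 := ih hD
      rw [Finset.mem_sdiff] at hd
      have h2 := hcon d hd.1 hd.2
      have h3 := mem_span_diff_singleton x (I : Set E) hI ((I \ D : Finset E) : Set E)
        (by rw [Finset.coe_sdiff]; exact Set.sdiff_subset) d
        (by rw [Finset.mem_coe, Finset.mem_sdiff]; exact ⟨hd.1, hdD⟩) v h1
        (by rw [Finset.coe_erase] at h2; exact h2)
      have h4 : ((I \ insert d D : Finset E) : Set E) = ((I \ D : Finset E) : Set E) \ {d} := by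
        ext y
        simp only [Finset.coe_sdiff, Finset.coe_insert, Set.mem_sdiff, Finset.mem_coe,
          Set.mem_insert_iff, Set.mem_singleton_iff]
        tauto
      rw [h4]
      exact h3
  have h5 := claim (I \ A) subset_rfl
  have h6 : I \ (I \ A) = I ∩ A := by
    ext y
    simp only [Finset.mem_sdiff, Finset.mem_inter]
    tauto
  rw [h6] at h5
  exact hvA h5

lemma exch (x : E → V) (I : Finset E) (hI : LinearIndepOn K x (I : Set E)) (e e' : E)
    (hv : x e ∉ span K (x '' ((I.erase e' : Finset E) : Set E))) :
    LinearIndepOn K x ((insert e (I.erase e') : Finset E) : Set E) := by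
  rw [Finset.coe_insert]
  exact (hI.mono (by rw [Finset.coe_erase]; exact Set.sdiff_subset)).insert hv

lemma exch_span (x : E → V) (I : Finset E) (e e' : E) (he' : e' ∈ I)
    (hv : x e ∉ span K (x '' ((I.erase e' : Finset E) : Set E))) (B : Finset E) (heB : e ∈ B)
    (he'B : e' ∈ B) (hvB : x e ∈ span K (x '' ((I ∩ B : Finset E) : Set E))) :
    span K (x '' (((insert e (I.erase e')) ∩ B : Finset E) : Set E))
      = span K (x '' ((I ∩ B : Finset E) : Set E)) := by
  have h1 : (insert e (I.erase e')) ∩ B = insert e ((I ∩ B).erase e') := by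
    ext y
    simp only [Finset.mem_inter, Finset.mem_insert, Finset.mem_erase]
    constructor
    · rintro ⟨h | h, hB⟩
      · exact Or.inl h
      · exact Or.inr ⟨h.1, h.2, hB⟩
    · rintro (h | h)
      · exact ⟨Or.inl h, h ▸ heB⟩
      · exact ⟨Or.inr ⟨h.1, h.2.1⟩, h.2.2⟩
  have h2 : I ∩ B = insert e' ((I ∩ B).erase e') :=
    (Finset.insert_erase (Finset.mem_inter.2 ⟨he', he'B⟩)).symm
  have hsub : (((I ∩ B).erase e' : Finset E) : Set E) ⊆ ((I.erase e' : Finset E) : Set E) := by
    intro y hy
    simp only [Finset.coe_erase, Finset.coe_inter, Set.mem_sdiff, Set.mem_inter_iff,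
      Finset.mem_coe, Set.mem_singleton_iff] at hy ⊢
    exact ⟨hy.1.1, hy.2⟩
  apply le_antisymm
  · rw [h1, span_le]
    rintro _ ⟨y, hy, rfl⟩
    rw [Finset.coe_insert] at hy
    rcases hy with rfl | hy
    · exact hvB
    · apply subset_span
      refine ⟨y, ?_, rfl⟩
      rw [Finset.mem_coe] at hy ⊢
      exact Finset.mem_of_mem_erase hy
  · have hnot : x e ∉ span K (x '' (((I ∩ B).erase e' : Finset E) : Set E)) :=
      fun h => hv (span_mono (Set.image_mono hsub) h)
    have hin : x e ∈ span K (insert (x e') (x '' (((I ∩ B).erase e' : Finset E) : Set E))) := by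
      rw [← Set.image_insert_eq, ← Finset.coe_insert, ← h2]; exact hvB
    have hex := mem_span_insert_exchange hin hnot
    rw [span_le]
    rintro _ ⟨y, hy, rfl⟩
    by_cases hye : y = e'
    · subst hye
      rw [h1, Finset.coe_insert, Set.image_insert_eq]
      exact hex
    · apply subset_span
      refine ⟨y, ?_, rfl⟩
      rw [h1, Finset.mem_coe, Finset.mem_insert]
      right
      rw [Finset.mem_coe] at hy
      exact Finset.mem_erase.2 ⟨hye, hy⟩

lemma card_eq_finrank_span (x : E → V) (I : Finset E) (hI : LinearIndepOn K x (I : Set E)) :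
    I.card = Module.finrank K (span K (x '' (I : Set E))) := by
  have h1 := finrank_span_eq_card hI.linearIndependent
  have h2 : Set.range (fun j : ((I : Set E)) => x j) = x '' (I : Set E) := by
    ext y; simp
  rw [h2] at h1
  rw [h1]
  simp

end Groth.Agent.Lib.Helper6.RadoHornA
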