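import Mathlib
import Groth.Agent.Lib.Helper6.RadoHornA

set_option autoImplicit false

namespace Groth.Agent.Lib.Helper6.RadoHornB

open Submodule Set Groth.Agent.Lib.Helper6.RadoHornA

variable (K : Type*) {V E : Type*} [Field K] [AddCommGroup V] [Module K V] [Fintype E]
  [DecidableEq E]

section counting

variable {t : ℕ}

/-- number of blocks containing `j` -/
def cnt (Is : Fin t → Finset E) (j : E) : ℕ := (Finset.univ.filter (fun s => j ∈ Is s)).card

/-- total size -/
def total (Is : Fin t → Finset E) : ℕ := ∑ s, (Is s).card

omit [Fintype E] in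
lemma cnt_eq_sum (Is : Fin t → Finset E) (j : E) :
    cnt Is j = ∑ s, if j ∈ Is s then 1 else 0 := by
  unfold cnt; rw [Finset.card_filter]

omit [Fintype E] in
lemma sum_cnt_on (Is : Fin t → Finset E) (A : Finset E) :
    ∑ j ∈ A, cnt Is j = ∑ s, (Is s ∩ A).card := by
  simp only [cnt_eq_sum]
  rw [Finset.sum_comm]
  apply Finset.sum_congr rfl
  intro s _
  rw [← Finset.card_filter, Finset.filter_mem_eq_inter, Finset.inter_comm]

lemma sum_cnt (Is : Fin t → Finset E) : ∑ j, cnt Is j = total Is := by
  rw [sum_cnt_on]; unfold total; simp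

omit [Fintype E] in
lemma cnt_update (Is : Fin t → Finset E) (s : Fin t) (newI : Finset E) (j : E) :
    cnt (Function.update Is s newI) j + (if j ∈ Is s then 1 else 0)
      = cnt Is j + (if j ∈ newI then 1 else 0) := by
  simp only [cnt_eq_sum]
  rw [← Finset.add_sum_erase _ _ (Finset.mem_univ s),
    ← Finset.add_sum_erase _ (fun s' => if j ∈ Is s' then 1 else 0) (Finset.mem_univ s)]
  simp only [Function.update_self]
  have h1 : ∑ s' ∈ Finset.univ.erase s, (if j ∈ Function.update Is s newI s' then 1 else 0)
      = ∑ s' ∈ Finset.univ.erase s, (if j ∈ Is s' then 1 else 0) := by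
    apply Finset.sum_congr rfl
    intro s' hs'
    rw [Function.update_of_ne (Finset.ne_of_mem_erase hs')]
  rw [h1]; ring

omit [Fintype E] [DecidableEq E] in
lemma total_update (Is : Fin t → Finset E) (s : Fin t) (newI : Finset E) :
    total (Function.update Is s newI) + (Is s).card = total Is + newI.card := by
  unfold total
  rw [← Finset.add_sum_erase _ _ (Finset.mem_univ s),
    ← Finset.add_sum_erase _ (fun s' => (Is s').card) (Finset.mem_univ s)]
  simp only [Function.update_self]
  have h1 : ∑ s' ∈ Finset.univ.erase s, (Function.update Is s newI s').card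
      = ∑ s' ∈ Finset.univ.erase s, (Is s').card := by
    apply Finset.sum_congr rfl
    intro s' hs'
    rw [Function.update_of_ne (Finset.ne_of_mem_erase hs')]
  rw [h1]; ring

end counting

section main

variable (x : E → V) {t : ℕ}

/-- a valid partial assignment -/
def Valid (w : E → ℕ) (Is : Fin t → Finset E) : Prop :=
  (∀ s, LinearIndepOn K x (Is s : Set E)) ∧ ∀ j, cnt Is j ≤ w j

open Classical in
/-- Edmonds' level sets -/
noncomputable def lev (Is : Fin t → Finset E) : ℕ → Finset E
  | 0 => Finset.univ
  | l + 1 => (lev Is l).filter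
      (fun y => ∀ s, x y ∈ span K (x '' ((Is s ∩ lev Is l : Finset E) : Set E)))

lemma lev_zero (Is : Fin t → Finset E) : lev K x Is 0 = Finset.univ := rfl

lemma mem_lev_succ (Is : Fin t → Finset E) (l : ℕ) (y : E) :
    y ∈ lev K x Is (l + 1) ↔ y ∈ lev K x Is l ∧
      ∀ s, x y ∈ span K (x '' ((Is s ∩ lev K x Is l : Finset E) : Set E)) := by
  classical
  rw [lev, Finset.mem_filter]

lemma lev_succ_subset (Is : Fin t → Finset E) (l : ℕ) : lev K x Is (l + 1) ⊆ lev K x Is l := by
  intro y hy
  exact ((mem_lev_succ K x Is l y).1 hy).1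

lemma lev_anti (Is : Fin t → Finset E) {l l' : ℕ} (h : l ≤ l') : lev K x Is l' ⊆ lev K x Is l := by
  induction l', h using Nat.le_induction with
  | base => exact subset_rfl
  | succ n _ ih => exact (lev_succ_subset K x Is n).trans ih

lemma lev_congr (Is Is' : Fin t → Finset E) (L : ℕ)
    (h : ∀ i ≤ L, ∀ s, span K (x '' ((Is' s ∩ lev K x Is i : Finset E) : Set E))
      = span K (x '' ((Is s ∩ lev K x Is i : Finset E) : Set E))) :
    ∀ i ≤ L + 1, lev K x Is' i = lev K x Is i := by
  intro i
  induction i with
  | zero => intro _; rfl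
  | succ i ih =>
    intro hi
    have hi' : i ≤ L := by omega
    have e1 := ih (by omega)
    ext y
    rw [mem_lev_succ, mem_lev_succ, e1]
    constructor
    · rintro ⟨h1, h2⟩
      exact ⟨h1, fun s => by rw [← h i hi' s]; exact h2 s⟩
    · rintro ⟨h1, h2⟩
      exact ⟨h1, fun s => by rw [h i hi' s]; exact h2 s⟩

lemma exists_stable (Is : Fin t → Finset E) : ∃ L, lev K x Is (L + 1) = lev K x Is L := by
  by_contra hcon
  push Not at hcon
  have h1 : ∀ L, (lev K x Is L).card + L ≤ Fintype.card E := by
    intro L
    induction L with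
    | zero => simp [lev_zero]
    | succ L ih =>
      have hss : lev K x Is (L + 1) ⊂ lev K x Is L :=
        Finset.ssubset_iff_subset_ne.2 ⟨lev_succ_subset K x Is L, hcon L⟩
      have := Finset.card_lt_card hss
      omega
  have := h1 (Fintype.card E + 1)
  omega

lemma stable_count (w : E → ℕ) (Is : Fin t → Finset E) (hV : Valid K x w Is) (L : ℕ)
    (hL : lev K x Is (L + 1) = lev K x Is L) (e : E) (heL : e ∈ lev K x Is L)
    (hcnt : cnt Is e < w e) :
    t * Module.finrank K (span K (x '' ((lev K x Is L : Finset E) : Set E)))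
      < ∑ j ∈ lev K x Is L, w j := by
  have hA : ∀ y ∈ lev K x Is L, ∀ s,
      x y ∈ span K (x '' ((Is s ∩ lev K x Is L : Finset E) : Set E)) := by
    intro y hy s
    rw [← hL] at hy
    exact ((mem_lev_succ K x Is L y).1 hy).2 s
  have hspan : ∀ s, span K (x '' ((Is s ∩ lev K x Is L : Finset E) : Set E))
      = span K (x '' ((lev K x Is L : Finset E) : Set E)) := by
    intro s
    apply le_antisymm
    · apply span_mono
      apply Set.image_mono
      rw [Finset.coe_inter]
      exact Set.inter_subset_right
    · rw [span_le]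
      rintro _ ⟨y, hy, rfl⟩
      exact hA y hy s
  have hcard : ∀ s, (Is s ∩ lev K x Is L).card
      = Module.finrank K (span K (x '' ((lev K x Is L : Finset E) : Set E))) := by
    intro s
    rw [← hspan s]
    apply card_eq_finrank_span
    apply (hV.1 s).mono
    rw [Finset.coe_inter]
    exact Set.inter_subset_left
  have h1 : ∑ j ∈ lev K x Is L, cnt Is j
      = t * Module.finrank K (span K (x '' ((lev K x Is L : Finset E) : Set E))) := by
    rw [sum_cnt_on, Finset.sum_congr rfl (fun s _ => hcard s)]
    simp
  rw [← h1]
  exact Finset.sum_lt_sum (fun j _ => hV.2 j) ⟨e, heL, hcnt⟩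

theorem aug_level (w : E → ℕ) : ∀ l : ℕ, ∀ Is : Fin t → Finset E, Valid K x w Is →
    ∀ e, cnt Is e < w e → e ∈ lev K x Is l → e ∉ lev K x Is (l + 1) →
    ∃ Is' : Fin t → Finset E, Valid K x w Is' ∧ total Is' = total Is + 1 := by
  intro l
  induction l using Nat.strong_induction_on with
  | _ l ih =>
    intro Is hV e hcnt hel hel1
    have hs : ∃ s, x e ∉ span K (x '' ((Is s ∩ lev K x Is l : Finset E) : Set E)) := by
      by_contra hcon
      push Not at hcon
      exact hel1 ((mem_lev_succ K x Is l e).2 ⟨hel, hcon⟩)
    obtain ⟨s, hs⟩ := hs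
    have heIs : e ∉ Is s := by
      intro h
      apply hs
      apply subset_span
      refine ⟨e, ?_, rfl⟩
      rw [Finset.mem_coe, Finset.mem_inter]
      exact ⟨h, hel⟩
    by_cases hspan : x e ∈ span K (x '' (Is s : Set E))
    · -- exchange step
      obtain ⟨e', he'I, he'A, hv⟩ :=
        exists_pick x (Is s) (hV.1 s) (lev K x Is l) (x e) hspan hs
      have hee' : e ≠ e' := fun h => heIs (h ▸ he'I)
      obtain ⟨newI, hnewI⟩ : ∃ newI, newI = insert e ((Is s).erase e') := ⟨_, rfl⟩
      obtain ⟨Is', hIs'⟩ : ∃ Is', Is' = Function.update Is s newI := ⟨_, rfl⟩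
      have hcnt' : ∀ j, cnt Is' j + (if j ∈ Is s then 1 else 0)
          = cnt Is j + (if j ∈ newI then 1 else 0) := by
        intro j; rw [hIs']; exact cnt_update Is s newI j
      have hmem_new : ∀ j, j ∈ newI ↔ (j = e ∨ (j ∈ Is s ∧ j ≠ e')) := by
        intro j
        rw [hnewI, Finset.mem_insert, Finset.mem_erase]
        tauto
      have hV' : Valid K x w Is' := by
        constructor
        · intro s'
          by_cases hs' : s' = s
          · subst hs'
            rw [hIs', Function.update_self, hnewI]
            exact exch x (Is s') (hV.1 s') e e' hv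
          · rw [hIs', Function.update_of_ne hs']
            exact hV.1 s'
        · intro j
          have h1 := hcnt' j
          have h2 := hV.2 j
          by_cases hje : j = e
          · subst hje
            rw [if_neg heIs, if_pos ((hmem_new j).2 (Or.inl rfl))] at h1
            omega
          · by_cases hjI : j ∈ Is s
            · by_cases hje' : j = e'
              · have hn : j ∉ newI := by
                  rw [hmem_new]; push Not; exact ⟨hje, fun _ => hje'⟩
                rw [if_pos hjI, if_neg hn] at h1
                omega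
              · rw [if_pos hjI, if_pos ((hmem_new j).2 (Or.inr ⟨hjI, hje'⟩))] at h1
                omega
            · have hn : j ∉ newI := by
                rw [hmem_new]; push Not; exact ⟨hje, fun h => absurd h hjI⟩
              rw [if_neg hjI, if_neg hn] at h1
              omega
      have htot : total Is' = total Is := by
        have h1 := total_update Is s newI
        rw [← hIs'] at h1
        have h2 : newI.card = (Is s).card := by
          rw [hnewI, Finset.card_insert_of_notMem (fun h => heIs (Finset.mem_of_mem_erase h)),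
            Finset.card_erase_of_mem he'I]
          have := Finset.card_pos.2 ⟨e', he'I⟩
          omega
        omega
      have hcnte' : cnt Is' e' < w e' := by
        have h1 := hcnt' e'
        have hn : e' ∉ newI := by
          rw [hmem_new]; push Not; exact ⟨Ne.symm hee', fun _ => rfl⟩
        rw [if_pos he'I, if_neg hn] at h1
        have := hV.2 e'
        omega
      have hl0 : l ≠ 0 := by
        rintro rfl
        exact he'A (by rw [lev_zero]; exact Finset.mem_univ _)
      have hex : ∃ i, e' ∉ lev K x Is (i + 1) :=
        ⟨l - 1, by rw [Nat.sub_add_cancel (by omega)]; exact he'A⟩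
      classical
      obtain ⟨l', hl'def⟩ : ∃ l', l' = Nat.find hex := ⟨_, rfl⟩
      have hl'1 : e' ∉ lev K x Is (l' + 1) := by rw [hl'def]; exact Nat.find_spec hex
      have hl'l : l' < l := by
        have : l' ≤ l - 1 := by
          rw [hl'def]
          exact Nat.find_min' hex (by rw [Nat.sub_add_cancel (by omega)]; exact he'A)
        omega
      have hl'mem : e' ∈ lev K x Is l' := by
        by_cases h0 : l' = 0
        · rw [h0, lev_zero]; exact Finset.mem_univ _
        · have h3 : l' - 1 < Nat.find hex := by rw [← hl'def]; omega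
          have h4 := Nat.find_min hex h3
          push Not at h4
          rwa [Nat.sub_add_cancel (by omega)] at h4
      have hsp : ∀ i ≤ l', ∀ s', span K (x '' ((Is' s' ∩ lev K x Is i : Finset E) : Set E))
          = span K (x '' ((Is s' ∩ lev K x Is i : Finset E) : Set E)) := by
        intro i hi s'
        by_cases hs' : s' = s
        · subst hs'
          rw [hIs', Function.update_self, hnewI]
          apply exch_span x (Is s') e e' he'I hv (lev K x Is i)
          · exact lev_anti K x Is (by omega : i ≤ l) hel
          · exact lev_anti K x Is hi hl'mem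
          · have h5 : e ∈ lev K x Is (i + 1) := lev_anti K x Is (by omega : i + 1 ≤ l) hel
            exact ((mem_lev_succ K x Is i e).1 h5).2 s'
        · rw [hIs', Function.update_of_ne hs']
      have hlev := lev_congr K x Is Is' l' hsp
      have h1 : e' ∈ lev K x Is' l' := by rw [hlev l' (by omega)]; exact hl'mem
      have h2 : e' ∉ lev K x Is' (l' + 1) := by rw [hlev (l' + 1) le_rfl]; exact hl'1
      obtain ⟨Is'', hV'', htot''⟩ := ih l' hl'l Is' hV' e' hcnte' h1 h2
      exact ⟨Is'', hV'', by rw [htot'', htot]⟩
    · -- direct insertion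
      obtain ⟨newI, hnewI⟩ : ∃ newI, newI = insert e (Is s) := ⟨_, rfl⟩
      obtain ⟨Is', hIs'⟩ : ∃ Is', Is' = Function.update Is s newI := ⟨_, rfl⟩
      have hcnt' : ∀ j, cnt Is' j + (if j ∈ Is s then 1 else 0)
          = cnt Is j + (if j ∈ newI then 1 else 0) := by
        intro j; rw [hIs']; exact cnt_update Is s newI j
      refine ⟨Is', ⟨?_, ?_⟩, ?_⟩
      · intro s'
        by_cases hs' : s' = s
        · subst hs'
          rw [hIs', Function.update_self, hnewI, Finset.coe_insert]
          exact (hV.1 s').insert hspan
        · rw [hIs', Function.update_of_ne hs']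
          exact hV.1 s'
      · intro j
        have h1 := hcnt' j
        have h2 := hV.2 j
        by_cases hje : j = e
        · subst hje
          rw [if_neg heIs, if_pos (by rw [hnewI]; exact Finset.mem_insert_self _ _)] at h1
          omega
        · by_cases hjI : j ∈ Is s
          · rw [if_pos hjI, if_pos (by rw [hnewI]; exact Finset.mem_insert_of_mem hjI)] at h1
            omega
          · have hn : j ∉ newI := by
              rw [hnewI, Finset.mem_insert]; push Not; exact ⟨hje, hjI⟩
            rw [if_neg hjI, if_neg hn] at h1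
            omega
      · have h1 := total_update Is s newI
        rw [← hIs'] at h1
        have h2 : newI.card = (Is s).card + 1 := by
          rw [hnewI, Finset.card_insert_of_notMem heIs]
        omega

theorem aug (w : E → ℕ)
    (hRH : ∀ A : Finset E, ∑ j ∈ A, w j ≤ t * Module.finrank K (span K (x '' (A : Set E))))
    (Is : Fin t → Finset E) (hV : Valid K x w Is) (e : E) (hcnt : cnt Is e < w e) :
    ∃ Is' : Fin t → Finset E, Valid K x w Is' ∧ total Is' = total Is + 1 := by
  classical
  obtain ⟨L, hL⟩ := exists_stable K x Is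
  have heL : e ∉ lev K x Is L := by
    intro h
    have h1 := stable_count K x w Is hV L hL e h hcnt
    have h2 := hRH (lev K x Is L)
    omega
  have hex : ∃ i, e ∉ lev K x Is (i + 1) := ⟨L, by rw [hL]; exact heL⟩
  obtain ⟨l, hldef⟩ : ∃ l, l = Nat.find hex := ⟨_, rfl⟩
  have hl1 : e ∉ lev K x Is (l + 1) := by rw [hldef]; exact Nat.find_spec hex
  have hlmem : e ∈ lev K x Is l := by
    by_cases h0 : l = 0
    · rw [h0, lev_zero]; exact Finset.mem_univ _
    · have h3 : l - 1 < Nat.find hex := by rw [← hldef]; omega
      have h4 := Nat.find_min hex h3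
      push Not at h4
      rwa [Nat.sub_add_cancel (by omega)] at h4
  exact aug_level K x w l Is hV e hcnt hlmem hl1

/-- Rado–Horn / Edmonds covering theorem with multiplicities -/
theorem rado_horn (w : E → ℕ)
    (hRH : ∀ A : Finset E, ∑ j ∈ A, w j ≤ t * Module.finrank K (span K (x '' (A : Set E)))) :
    ∃ Is : Fin t → Finset E, (∀ s, LinearIndepOn K x (Is s : Set E)) ∧ ∀ j, cnt Is j = w j := by
  have key : ∀ D : ℕ, ∀ Is : Fin t → Finset E, Valid K x w Is → (∑ j, w j) - total Is = D →
      ∃ Is' : Fin t → Finset E, Valid K x w Is' ∧ ∀ j, cnt Is' j = w j := by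
    intro D
    induction D using Nat.strong_induction_on with
    | _ D ih =>
      intro Is hV hD
      by_cases hfull : ∀ j, cnt Is j = w j
      · exact ⟨Is, hV, hfull⟩
      · push Not at hfull
        obtain ⟨e, he⟩ := hfull
        have hlt : cnt Is e < w e := lt_of_le_of_ne (hV.2 e) he
        obtain ⟨Is', hV', htot⟩ := aug K x w hRH Is hV e hlt
        have hle' : total Is' ≤ ∑ j, w j := by
          rw [← sum_cnt]; exact Finset.sum_le_sum (fun j _ => hV'.2 j)
        exact ih ((∑ j, w j) - total Is') (by omega) Is' hV' rfl
  obtain ⟨Is, hV, h⟩ := key _ (fun _ => ∅)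
    ⟨fun s => by rw [Finset.coe_empty]; exact linearIndepOn_empty K x,
     fun j => by simp [cnt]⟩ rfl
  exact ⟨Is, hV.1, h⟩

end main

end Groth.Agent.Lib.Helper6.RadoHornB
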