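import Mathlib
import Groth.Agent.Lib.Helper6.RadoHornB

set_option autoImplicit false

namespace Groth.Agent.Lib.Helper6.RadoHornC

open Submodule Groth.Agent.Lib.Helper6.RadoHornA Groth.Agent.Lib.Helper6.RadoHornB

universe u

/-- double counting for multisets of finsets -/
lemma sum_inter_card {E : Type*} [DecidableEq E] (P : Multiset (Finset E)) (I : Finset E) :
    (P.map (fun S => (S ∩ I).card)).sum = ∑ j ∈ I, Multiset.card (P.filter (fun S => j ∈ S)) := by
  induction P using Multiset.induction_on with
  | empty => simp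
  | cons S P ih =>
    rw [Multiset.map_cons, Multiset.sum_cons, ih]
    have h1 : ∀ j ∈ I, Multiset.card ((S ::ₘ P).filter (fun S => j ∈ S))
        = (if j ∈ S then 1 else 0) + Multiset.card (P.filter (fun S => j ∈ S)) := by
      intro j _
      by_cases hj : j ∈ S
      · rw [Multiset.filter_cons, if_pos hj, if_pos hj, Multiset.card_add, Multiset.card_singleton]
      · rw [Multiset.filter_cons, if_neg hj, if_neg hj, Multiset.card_add, Multiset.card_zero]
    rw [Finset.sum_congr rfl h1, Finset.sum_add_distrib]
    congr 1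
    rw [← Finset.card_filter, Finset.filter_mem_eq_inter, Finset.inter_comm]

lemma card_inter_le {K V E : Type*} [Field K] [AddCommGroup V] [Module K V] [FiniteDimensional K V]
    [DecidableEq E] (x : E → V) (S : Finset E) (hS : LinearIndepOn K x (S : Set E))
    (I : Finset E) (L : Submodule K V) (hI : ∀ j ∈ I, x j ∈ L) :
    (S ∩ I).card ≤ Module.finrank K L := by
  have h1 : LinearIndepOn K x ((S ∩ I : Finset E) : Set E) := by
    apply hS.mono
    rw [Finset.coe_inter]
    exact Set.inter_subset_left
  rw [card_eq_finrank_span x (S ∩ I) h1]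
  apply Submodule.finrank_mono
  rw [span_le]
  rintro _ ⟨j, hj, rfl⟩
  rw [Finset.mem_coe, Finset.mem_inter] at hj
  exact hI j hj.2

theorem main552 (K : Type u) [Field K]
    (V : Type u) [AddCommGroup V] [Module K V] [FiniteDimensional K V]
    (m : ℕ) (x : Fin (m + 1) → V) (hx : ∀ i, x i ≠ 0) :
    (∀ L : Submodule K V, L ≠ ⊥ → L ≠ ⊤ →
        Set.ncard {i : Fin (m + 1) | x i ∈ L} * Module.finrank K V < Module.finrank K L * (m + 1)) ↔
      ∃ N N₀ : ℕ, 0 < N₀ ∧ N₀ ≤ N ∧
        ∀ i : Fin (m + 1), ∃ P : Multiset (Finset (Fin (m + 1))), P ≠ 0 ∧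
          (∀ S ∈ P, S.card = Module.finrank K V ∧ LinearIndependent K (fun j : S => x j)) ∧
          ∀ j : Fin (m + 1),
            Multiset.card (P.filter (fun S => j ∈ S)) = if j = i then N - N₀ else N := by
  classical
  obtain ⟨n, hn⟩ : ∃ n, n = Module.finrank K V := ⟨_, rfl⟩
  rw [← hn]
  have hnpos : 1 ≤ n := by
    rw [hn]
    exact Module.finrank_pos_iff_exists_ne_zero.2 ⟨x 0, hx 0⟩
  have hncard : ∀ L : Submodule K V, Set.ncard {i : Fin (m + 1) | x i ∈ L}
      = (Finset.univ.filter (fun i => x i ∈ L)).card := by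
    intro L
    have : {i : Fin (m + 1) | x i ∈ L} = ((Finset.univ.filter (fun i => x i ∈ L) : Finset _) : Set _) := by
      ext i; simp
    rw [this, Set.ncard_coe_finset]
  have hsumw : ∀ (N N₀ : ℕ) (i : Fin (m + 1)), N₀ ≤ N →
      (∑ j : Fin (m + 1), (if j = i then N - N₀ else N)) + N₀ = (m + 1) * N := by
    intro N N₀ i hle
    rw [← Finset.add_sum_erase _ _ (Finset.mem_univ i), if_pos rfl]
    have h1 : ∑ j ∈ Finset.univ.erase i, (if j = i then N - N₀ else N)
        = ∑ _j ∈ Finset.univ.erase i, N := by
      apply Finset.sum_congr rfl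
      intro j hj
      rw [if_neg (Finset.ne_of_mem_erase hj)]
    rw [h1, Finset.sum_const, Finset.card_erase_of_mem (Finset.mem_univ i), Finset.card_univ,
      Fintype.card_fin, smul_eq_mul]
    have : m + 1 - 1 = m := by omega
    rw [this]
    have h2 : (m + 1) * N = m * N + N := by ring
    omega
  constructor
  · -- stability implies balanced multisets
    intro hstab
    refine ⟨n * (n + 1), n, hnpos, by nlinarith, fun i => ?_⟩
    obtain ⟨N, hN⟩ : ∃ N, N = n * (n + 1) := ⟨_, rfl⟩
    rw [← hN]
    have hNn : n ≤ N := by rw [hN]; nlinarith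
    obtain ⟨w, hw⟩ : ∃ w : Fin (m + 1) → ℕ, w = fun j => if j = i then N - n else N := ⟨_, rfl⟩
    obtain ⟨t, ht⟩ : ∃ t, t = (m + 1) * (n + 1) - 1 := ⟨_, rfl⟩
    have ht1 : t + 1 = (m + 1) * (n + 1) := by
      have : 1 ≤ (m + 1) * (n + 1) := Nat.mul_pos (by omega) (by omega)
      omega
    have hsum_all : ∑ j, w j = t * n := by
      have h1 : ∑ j, w j + n = (m + 1) * N := by rw [hw]; exact hsumw N n i hNn
      have h2 : (m + 1) * N = (t + 1) * n := by rw [ht1, hN]; ring
      have h3 : (t + 1) * n = t * n + n := by ring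
      omega
    have hwle : ∀ j, w j ≤ N := by
      intro j; rw [hw]; dsimp only; split_ifs <;> omega
    have hRH : ∀ A : Finset (Fin (m + 1)),
        ∑ j ∈ A, w j ≤ t * Module.finrank K (span K (x '' (A : Set (Fin (m + 1))))) := by
      intro A
      obtain ⟨L, hL⟩ : ∃ L, L = span K (x '' (A : Set (Fin (m + 1)))) := ⟨_, rfl⟩
      rw [← hL]
      by_cases hbot : L = ⊥
      · have hA : A = ∅ := by
          by_contra hA
          obtain ⟨j, hj⟩ := Finset.nonempty_iff_ne_empty.2 hA
          have : x j ∈ L := by rw [hL]; exact subset_span ⟨j, hj, rfl⟩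
          rw [hbot, Submodule.mem_bot] at this
          exact hx j this
        rw [hA]; simp
      · by_cases htop : L = ⊤
        · rw [htop, finrank_top, ← hn, ← hsum_all]
          exact Finset.sum_le_sum_of_subset (Finset.subset_univ A)
        · have h1 := hstab L hbot htop
          rw [hncard] at h1
          obtain ⟨ρ, hρ⟩ : ∃ ρ, ρ = Module.finrank K L := ⟨_, rfl⟩
          rw [← hρ] at h1 ⊢
          have hρn : ρ < n := by rw [hρ, hn]; exact Submodule.finrank_lt htop
          obtain ⟨c, hc⟩ : ∃ c, c = (Finset.univ.filter (fun i => x i ∈ L)).card := ⟨_, rfl⟩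
          rw [← hc] at h1
          have hAc : A.card ≤ c := by
            rw [hc]
            apply Finset.card_le_card
            intro j hj
            rw [Finset.mem_filter]
            exact ⟨Finset.mem_univ _, by rw [hL]; exact subset_span ⟨j, hj, rfl⟩⟩
          have h2 : ∑ j ∈ A, w j ≤ A.card * N := by
            have := Finset.sum_le_sum (s := A) (fun j _ => hwle j)
            rw [Finset.sum_const, smul_eq_mul] at this
            exact this
          have h3 : A.card * N ≤ c * N := Nat.mul_le_mul_right _ hAc
          have h4 : c * N = (c * n) * (n + 1) := by rw [hN]; ring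
          have h5 : (c * n + 1) * (n + 1) ≤ (ρ * (m + 1)) * (n + 1) :=
            Nat.mul_le_mul_right _ h1
          have h6 : (ρ * (m + 1)) * (n + 1) = t * ρ + ρ := by
            have : (ρ * (m + 1)) * (n + 1) = ρ * ((m + 1) * (n + 1)) := by ring
            rw [this, ← ht1]; ring
          have h7 : (c * n + 1) * (n + 1) = (c * n) * (n + 1) + (n + 1) := by ring
          omega
    obtain ⟨Is, hind, hcnt⟩ := rado_horn K x (t := t) w hRH
    have htot : total Is = t * n := by rw [← sum_cnt, ← hsum_all]; exact Finset.sum_congr rfl (fun j _ => hcnt j)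
    have hcardle : ∀ s, (Is s).card ≤ n := by
      intro s
      rw [card_eq_finrank_span x (Is s) (hind s), hn]
      exact Submodule.finrank_le _
    have hcardeq : ∀ s, (Is s).card = n := by
      intro s
      by_contra hne
      have hlt : (Is s).card < n := lt_of_le_of_ne (hcardle s) hne
      have := Finset.sum_lt_sum (s := Finset.univ) (fun s' _ => hcardle s') ⟨s, Finset.mem_univ s, hlt⟩
      rw [Finset.sum_const, Finset.card_univ, Fintype.card_fin, smul_eq_mul] at this
      unfold total at htot
      omega
    have htpos : 0 < t := by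
      have : 2 ≤ (m + 1) * (n + 1) := by nlinarith
      omega
    refine ⟨(Finset.univ : Finset (Fin t)).val.map Is, ?_, ?_, ?_⟩
    · intro h0
      have := congrArg Multiset.card h0
      simp at this
      omega
    · intro S hS
      rw [Multiset.mem_map] at hS
      obtain ⟨s, -, rfl⟩ := hS
      exact ⟨hcardeq s, hind s⟩
    · intro j
      rw [Multiset.filter_map, Multiset.card_map]
      have h1 : cnt Is j = if j = i then N - n else N := by rw [hcnt j, hw]
      rw [← h1]
      unfold cnt
      rw [Finset.card_def, Finset.filter_val]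
      rfl
  · -- balanced multisets imply stability
    rintro ⟨N, N₀, hN₀, hle, hP⟩ L hbot htop
    rw [hncard]
    obtain ⟨ρ, hρ⟩ : ∃ ρ, ρ = Module.finrank K L := ⟨_, rfl⟩
    rw [← hρ]
    have hρn : ρ < n := by rw [hρ, hn]; exact Submodule.finrank_lt htop
    have hρ1 : 1 ≤ ρ := by
      rw [hρ]
      exact Submodule.one_le_finrank_iff.2 hbot
    obtain ⟨IL, hIL⟩ : ∃ IL, IL = Finset.univ.filter (fun i => x i ∈ L) := ⟨_, rfl⟩
    rw [← hIL]
    have hILmem : ∀ j ∈ IL, x j ∈ L := by
      intro j hj
      rw [hIL, Finset.mem_filter] at hj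
      exact hj.2
    by_cases hall : ∀ i, i ∈ IL
    · exfalso
      obtain ⟨P, hP0, hPS, -⟩ := hP 0
      obtain ⟨S, hS⟩ := Multiset.exists_mem_of_ne_zero hP0
      obtain ⟨hcard, hli⟩ := hPS S hS
      have h1 := card_inter_le x S hli IL L hILmem
      have h2 : S ∩ IL = S := by
        ext y; simp [hall y]
      rw [h2, hcard, ← hρ] at h1
      omega
    · push Not at hall
      obtain ⟨i, hi⟩ := hall
      obtain ⟨P, hP0, hPS, hPc⟩ := hP i
      have h1 := sum_inter_card P IL
      have h2 : ∑ j ∈ IL, Multiset.card (P.filter (fun S => j ∈ S)) = IL.card * N := by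
        rw [← smul_eq_mul, ← Finset.sum_const]
        apply Finset.sum_congr rfl
        intro j hj
        have hji : j ≠ i := by
          rintro rfl
          exact hi hj
        rw [hPc j, if_neg hji]
      have h3 : (P.map (fun S => (S ∩ IL).card)).sum ≤ Multiset.card P * ρ := by
        have := Multiset.sum_le_card_nsmul (P.map (fun S => (S ∩ IL).card)) ρ (by
          intro c hc
          rw [Multiset.mem_map] at hc
          obtain ⟨S, hS, rfl⟩ := hc
          rw [hρ]
          exact card_inter_le x S (hPS S hS).2 IL L hILmem)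
        rw [Multiset.card_map, smul_eq_mul] at this
        exact this
      have h4 := sum_inter_card P Finset.univ
      have h5 : (P.map (fun S => (S ∩ Finset.univ).card)).sum = Multiset.card P * n := by
        have : P.map (fun S => (S ∩ Finset.univ).card) = P.map (fun _ => n) := by
          apply Multiset.map_congr rfl
          intro S hS
          rw [Finset.inter_univ]
          exact (hPS S hS).1
        rw [this, Multiset.map_const', Multiset.sum_replicate, smul_eq_mul]
      have h6 : ∑ j ∈ Finset.univ, Multiset.card (P.filter (fun S => j ∈ S)) + N₀ = (m + 1) * N := by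
        rw [← hsumw N N₀ i hle]
        congr 1
        apply Finset.sum_congr rfl
        intro j _
        exact hPc j
      -- arithmetic
      obtain ⟨c, hc⟩ : ∃ c, c = IL.card := ⟨_, rfl⟩
      obtain ⟨q, hq⟩ : ∃ q, q = Multiset.card P := ⟨_, rfl⟩
      rw [← hc] at h2 ⊢
      rw [← hq] at h3 h5
      have e1 : c * N ≤ q * ρ := by rw [← h2, ← h1]; exact h3
      have e2 : q * n + N₀ = (m + 1) * N := by rw [← h5, h4]; exact h6
      have hNpos : 0 < N := lt_of_lt_of_le hN₀ hle
      have e3 : c * n * N ≤ q * n * ρ := by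
        have := Nat.mul_le_mul_right n e1
        calc c * n * N = c * N * n := by ring
          _ ≤ q * ρ * n := this
          _ = q * n * ρ := by ring
      have e4 : q * n * ρ + N₀ * ρ = ρ * (m + 1) * N := by
        have : (q * n + N₀) * ρ = (m + 1) * N * ρ := by rw [e2]
        calc q * n * ρ + N₀ * ρ = (q * n + N₀) * ρ := by ring
          _ = (m + 1) * N * ρ := this
          _ = ρ * (m + 1) * N := by ring
      have e5 : 0 < N₀ * ρ := Nat.mul_pos hN₀ (by omega)
      have e6 : c * n * N < ρ * (m + 1) * N := by omega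
      exact Nat.lt_of_mul_lt_mul_right e6

end Groth.Agent.Lib.Helper6.RadoHornC
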