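import Mathlib
import Groth.Prelude.Def_W4c1limliniiiiRamP1

set_option autoImplicit false

namespace Groth.Agent.Lib.Helper6.RamA

open Polynomial

universe u
variable {k : Type u} [Field k]

/-- `u i = (X - P i)^(e i)` -/
noncomputable def uu (P : Fin 3 → k) (e : Fin 3 → ℕ) (i : Fin 3) : k[X] := (X - C (P i)) ^ (e i)

lemma monic_uu (P : Fin 3 → k) (e : Fin 3 → ℕ) (i : Fin 3) : (uu P e i).Monic :=
  (monic_X_sub_C _).pow _

lemma natDegree_uu (P : Fin 3 → k) (e : Fin 3 → ℕ) (i : Fin 3) : (uu P e i).natDegree = e i := by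
  unfold uu
  rw [(monic_X_sub_C _).natDegree_pow, natDegree_X_sub_C, mul_one]

lemma coprime_pow (P : Fin 3 → k) (hP : Function.Injective P) (i j : Fin 3) (hij : i ≠ j)
    (m n : ℕ) : IsCoprime ((X - C (P i)) ^ m) ((X - C (P j)) ^ n) :=
  (isCoprime_X_sub_C_of_isUnit_sub (sub_ne_zero.2 (fun h => hij (hP h))).isUnit).pow

lemma sum_e {p d : ℕ} {e : Fin 3 → ℕ} (he : W4c1limliniiii.Admissible p d e) :
    e 0 + e 1 + e 2 = 2 * d + 1 := by
  have := he.2
  rw [Fin.sum_univ_three] at this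
  omega

lemma sum_two_ge {p d : ℕ} {e : Fin 3 → ℕ} (he : W4c1limliniiii.Admissible p d e)
    (i j : Fin 3) (hij : i ≠ j) : d + 1 ≤ e i + e j := by
  have h0 := (he.1 0).2.1
  have h1 := (he.1 1).2.1
  have h2 := (he.1 2).2.1
  have hs := sum_e he
  fin_cases i <;> fin_cases j <;> first | exact absurd rfl hij | (simp only [Fin.zero_eta, Fin.mk_one, Fin.reduceFinMk]; omega)

/-- key vanishing lemma: a polynomial of degree at most `d` divisible by two of the `u i` is zero -/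
lemma eq_zero_of_dvd_two {p d : ℕ} (P : Fin 3 → k) (hP : Function.Injective P) {e : Fin 3 → ℕ}
    (he : W4c1limliniiii.Admissible p d e) (i j : Fin 3) (hij : i ≠ j) (s : k[X])
    (hs : s ∈ degreeLE k d) (hi : uu P e i ∣ s) (hj : uu P e j ∣ s) : s = 0 := by
  have hdvd : uu P e i * uu P e j ∣ s := (coprime_pow P hP i j hij _ _).mul_dvd hi hj
  refine eq_zero_of_dvd_of_natDegree_lt hdvd ?_
  rw [(monic_uu P e i).natDegree_mul (monic_uu P e j), natDegree_uu, natDegree_uu]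
  have := natDegree_le_of_degree_le (mem_degreeLE.1 hs)
  have := sum_two_ge he i j hij
  omega

/-- the linear space of pairs `(F, G)` with `u 0 ∣ F`, `u 1 ∣ G`, `u 2 ∣ F + G`, of degree `≤ d` -/
noncomputable def LL (d : ℕ) (P : Fin 3 → k) (e : Fin 3 → ℕ) : Submodule k (k[X] × k[X]) where
  carrier := {v | v.1 ∈ degreeLE k d ∧ v.2 ∈ degreeLE k d ∧ uu P e 0 ∣ v.1 ∧ uu P e 1 ∣ v.2 ∧
    uu P e 2 ∣ v.1 + v.2}
  add_mem' := by
    rintro v w ⟨h1, h2, h3, h4, h5⟩ ⟨g1, g2, g3, g4, g5⟩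
    refine ⟨Submodule.add_mem _ h1 g1, Submodule.add_mem _ h2 g2, dvd_add h3 g3, dvd_add h4 g4, ?_⟩
    have : (v + w).1 + (v + w).2 = (v.1 + v.2) + (w.1 + w.2) := by
      simp only [Prod.fst_add, Prod.snd_add]; ring
    rw [this]
    exact dvd_add h5 g5
  zero_mem' := by
    refine ⟨Submodule.zero_mem _, Submodule.zero_mem _, dvd_zero _, dvd_zero _, ?_⟩
    simp
  smul_mem' := by
    rintro c v ⟨h1, h2, h3, h4, h5⟩
    refine ⟨Submodule.smul_mem _ _ h1, Submodule.smul_mem _ _ h2, ?_, ?_, ?_⟩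
    · simp only [Prod.smul_fst, smul_eq_C_mul]; exact dvd_mul_of_dvd_right h3 _
    · simp only [Prod.smul_snd, smul_eq_C_mul]; exact dvd_mul_of_dvd_right h4 _
    · have : (c • v).1 + (c • v).2 = C c * (v.1 + v.2) := by
        simp only [Prod.smul_fst, Prod.smul_snd, smul_eq_C_mul]; ring
      rw [this]; exact dvd_mul_of_dvd_right h5 _

lemma mem_LL {d : ℕ} {P : Fin 3 → k} {e : Fin 3 → ℕ} {v : k[X] × k[X]} :
    v ∈ LL d P e ↔ v.1 ∈ degreeLE k d ∧ v.2 ∈ degreeLE k d ∧ uu P e 0 ∣ v.1 ∧ uu P e 1 ∣ v.2 ∧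
      uu P e 2 ∣ v.1 + v.2 := Iff.rfl

lemma range_pair (F G : k[X]) : Set.range ![F, G] = {F, G} := by
  ext x
  simp only [Set.mem_range, Set.mem_insert_iff, Set.mem_singleton_iff, Fin.exists_fin_two,
    Matrix.cons_val_zero, Matrix.cons_val_one]
  constructor
  · rintro (h | h)
    · exact Or.inl h.symm
    · exact Or.inr h.symm
  · rintro (h | h)
    · exact Or.inl h.symm
    · exact Or.inr h.symm

section basic

variable {p d : ℕ} (P : Fin 3 → k) (hP : Function.Injective P) {e : Fin 3 → ℕ}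
  (he : W4c1limliniiii.Admissible p d e)

include hP he

lemma fst_ne_zero {v : k[X] × k[X]} (hv : v ∈ LL d P e) (hv0 : v ≠ 0) : v.1 ≠ 0 := by
  obtain ⟨h1, h2, h3, h4, h5⟩ := mem_LL.1 hv
  intro h0
  rw [h0, zero_add] at h5
  have := eq_zero_of_dvd_two P hP he 1 2 (by decide) v.2 h2 h4 h5
  exact hv0 (Prod.ext h0 this)

lemma snd_ne_zero {v : k[X] × k[X]} (hv : v ∈ LL d P e) (hv0 : v ≠ 0) : v.2 ≠ 0 := by
  obtain ⟨h1, h2, h3, h4, h5⟩ := mem_LL.1 hv
  intro h0
  rw [h0, add_zero] at h5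
  have := eq_zero_of_dvd_two P hP he 0 2 (by decide) v.1 h1 h3 h5
  exact hv0 (Prod.ext this h0)

lemma indep {v : k[X] × k[X]} (hv : v ∈ LL d P e) (hv0 : v ≠ 0) :
    LinearIndependent k ![v.1, v.2] := by
  obtain ⟨h1, h2, h3, h4, h5⟩ := mem_LL.1 hv
  rw [LinearIndependent.pair_iff]
  intro α β hαβ
  have hα : α = 0 := by
    by_contra hα
    have hF : v.1 = C (-(β / α)) * v.2 := by
      have : α • v.1 = -(β • v.2) := eq_neg_of_add_eq_zero_left hαβ
      have h2 : v.1 = α⁻¹ • (α • v.1) := by rw [smul_smul, inv_mul_cancel₀ hα, one_smul]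
      rw [h2, this, smul_neg, smul_smul, ← neg_smul, smul_eq_C_mul]
      congr 2
      field_simp
    have hdvd : uu P e 1 ∣ v.1 := by rw [hF]; exact dvd_mul_of_dvd_right h4 _
    exact fst_ne_zero P hP he hv hv0
      (eq_zero_of_dvd_two P hP he 0 1 (by decide) v.1 h1 h3 hdvd)
  refine ⟨hα, ?_⟩
  rw [hα, zero_smul, zero_add] at hαβ
  exact (smul_eq_zero.1 hαβ).resolve_right (snd_ne_zero P hP he hv hv0)

lemma add_ne_zero' {v : k[X] × k[X]} (hv : v ∈ LL d P e) (hv0 : v ≠ 0) : v.1 + v.2 ≠ 0 := by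
  intro h0
  have hli := indep P hP he hv hv0
  rw [LinearIndependent.pair_iff] at hli
  have := hli 1 1 (by rw [one_smul, one_smul]; exact h0)
  exact one_ne_zero this.1

lemma finrank_span {v : k[X] × k[X]} (hv : v ∈ LL d P e) (hv0 : v ≠ 0) :
    Module.finrank k (Submodule.span k ({v.1, v.2} : Set k[X])) = 2 := by
  have := finrank_span_eq_card (indep P hP he hv hv0)
  rw [range_pair] at this
  rw [this]
  simp

omit hP he in
lemma span_le {v : k[X] × k[X]} (hv : v ∈ LL d P e) :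
    Submodule.span k ({v.1, v.2} : Set k[X]) ≤ degreeLE k d := by
  obtain ⟨h1, h2, -⟩ := mem_LL.1 hv
  rw [Submodule.span_le]
  rintro x (rfl | rfl)
  · exact h1
  · exact h2

lemma schubert {v : k[X] × k[X]} (hv : v ∈ LL d P e) (hv0 : v ≠ 0) (i : Fin 3) :
    ∃ s ∈ Submodule.span k ({v.1, v.2} : Set k[X]), s ≠ 0 ∧
      e i ≤ rootMultiplicity (P i) s := by
  obtain ⟨h1, h2, h3, h4, h5⟩ := mem_LL.1 hv
  have m1 : v.1 ∈ Submodule.span k ({v.1, v.2} : Set k[X]) :=
    Submodule.subset_span (Set.mem_insert _ _)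
  have m2 : v.2 ∈ Submodule.span k ({v.1, v.2} : Set k[X]) :=
    Submodule.subset_span (Set.mem_insert_of_mem _ rfl)
  fin_cases i
  · exact ⟨v.1, m1, fst_ne_zero P hP he hv hv0,
      (le_rootMultiplicity_iff (fst_ne_zero P hP he hv hv0)).2 h3⟩
  · exact ⟨v.2, m2, snd_ne_zero P hP he hv hv0,
      (le_rootMultiplicity_iff (snd_ne_zero P hP he hv hv0)).2 h4⟩
  · exact ⟨v.1 + v.2, Submodule.add_mem _ m1 m2, add_ne_zero' P hP he hv hv0,
      (le_rootMultiplicity_iff (add_ne_zero' P hP he hv hv0)).2 h5⟩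

/-- every Schubert solution comes from `LL` -/
lemma exists_of_schubert (V : Submodule k k[X]) (hVd : V ≤ degreeLE k d)
    (hV2 : Module.finrank k V = 2)
    (hS : ∀ i, ∃ s ∈ V, s ≠ 0 ∧ e i ≤ rootMultiplicity (P i) s) :
    ∃ v ∈ LL d P e, v ≠ 0 ∧ Submodule.span k ({v.1, v.2} : Set k[X]) = V := by
  obtain ⟨s0, hs0V, hs00, hs0e⟩ := hS 0
  obtain ⟨s1, hs1V, hs10, hs1e⟩ := hS 1
  obtain ⟨s2, hs2V, hs20, hs2e⟩ := hS 2
  have d0 : uu P e 0 ∣ s0 := (le_rootMultiplicity_iff hs00).1 hs0e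
  have d1 : uu P e 1 ∣ s1 := (le_rootMultiplicity_iff hs10).1 hs1e
  have d2 : uu P e 2 ∣ s2 := (le_rootMultiplicity_iff hs20).1 hs2e
  haveI : FiniteDimensional k V := Module.finite_of_finrank_pos (by omega)
  -- s0, s1 independent
  have hli : LinearIndependent k ![s0, s1] := by
    rw [LinearIndependent.pair_iff]
    intro α β hαβ
    have hα : α = 0 := by
      by_contra hα
      have hF : s0 = C (-(β / α)) * s1 := by
        have : α • s0 = -(β • s1) := eq_neg_of_add_eq_zero_left hαβ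
        have h2 : s0 = α⁻¹ • (α • s0) := by rw [smul_smul, inv_mul_cancel₀ hα, one_smul]
        rw [h2, this, smul_neg, smul_smul, ← neg_smul, smul_eq_C_mul]
        congr 2
        field_simp
      have hdvd : uu P e 1 ∣ s0 := by rw [hF]; exact dvd_mul_of_dvd_right d1 _
      exact hs00 (eq_zero_of_dvd_two P hP he 0 1 (by decide) s0 (hVd hs0V) d0 hdvd)
    refine ⟨hα, ?_⟩
    rw [hα, zero_smul, zero_add] at hαβ
    exact (smul_eq_zero.1 hαβ).resolve_right hs10
  have hspan : Submodule.span k ({s0, s1} : Set k[X]) = V := by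
    have hle : Submodule.span k ({s0, s1} : Set k[X]) ≤ V := by
      rw [Submodule.span_le]
      rintro x (rfl | rfl)
      · exact hs0V
      · exact hs1V
    refine Submodule.eq_of_le_of_finrank_le hle ?_
    have := finrank_span_eq_card hli
    rw [range_pair] at this
    rw [this, hV2]
    simp
  have hs2 : s2 ∈ Submodule.span k ({s0, s1} : Set k[X]) := by rw [hspan]; exact hs2V
  obtain ⟨α, β, hαβ⟩ := Submodule.mem_span_pair.1 hs2
  have hvL : (α • s0, β • s1) ∈ LL d P e := by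
    refine mem_LL.2 ⟨Submodule.smul_mem _ _ (hVd hs0V), Submodule.smul_mem _ _ (hVd hs1V), ?_, ?_, ?_⟩
    · show uu P e 0 ∣ α • s0
      rw [smul_eq_C_mul]; exact dvd_mul_of_dvd_right d0 _
    · show uu P e 1 ∣ β • s1
      rw [smul_eq_C_mul]; exact dvd_mul_of_dvd_right d1 _
    · show uu P e 2 ∣ α • s0 + β • s1
      rw [hαβ]; exact d2
  have hv0 : ((α • s0, β • s1) : k[X] × k[X]) ≠ 0 := by
    intro h0
    have h1 := congrArg Prod.fst h0
    have h2 := congrArg Prod.snd h0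
    simp only [Prod.fst_zero, Prod.snd_zero] at h1 h2
    rw [h1, h2, add_zero] at hαβ
    exact hs20 hαβ.symm
  refine ⟨(α • s0, β • s1), hvL, hv0, ?_⟩
  have hle : Submodule.span k ({α • s0, β • s1} : Set k[X]) ≤ V := by
    rw [Submodule.span_le]
    rintro x (rfl | rfl)
    · exact Submodule.smul_mem _ _ hs0V
    · exact Submodule.smul_mem _ _ hs1V
  refine Submodule.eq_of_le_of_finrank_le hle ?_
  rw [finrank_span P hP he hvL hv0, hV2]

/-- proportionality of two elements of `LL` spanning the same space -/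
lemma prop_of_span_eq {v w : k[X] × k[X]} (hv : v ∈ LL d P e) (hw : w ∈ LL d P e) (hv0 : v ≠ 0)
    (hspan : Submodule.span k ({v.1, v.2} : Set k[X]) = Submodule.span k ({w.1, w.2} : Set k[X])) :
    ∃ c : k, w = c • v := by
  obtain ⟨h1, h2, h3, h4, h5⟩ := mem_LL.1 hv
  obtain ⟨g1, g2, g3, g4, g5⟩ := mem_LL.1 hw
  have hF0 := fst_ne_zero P hP he hv hv0
  have hG0 := snd_ne_zero P hP he hv hv0
  have m1 : w.1 ∈ Submodule.span k ({v.1, v.2} : Set k[X]) := by
    rw [hspan]; exact Submodule.subset_span (Set.mem_insert _ _)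
  have m2 : w.2 ∈ Submodule.span k ({v.1, v.2} : Set k[X]) := by
    rw [hspan]; exact Submodule.subset_span (Set.mem_insert_of_mem _ rfl)
  obtain ⟨α, β, hαβ⟩ := Submodule.mem_span_pair.1 m1
  obtain ⟨γ, δ, hγδ⟩ := Submodule.mem_span_pair.1 m2
  have hβ : β = 0 := by
    by_contra hβ
    have hd : uu P e 0 ∣ C β * v.2 := by
      have : C β * v.2 = w.1 - C α * v.1 := by
        rw [← hαβ, smul_eq_C_mul, smul_eq_C_mul]; ring
      rw [this]
      exact dvd_sub g3 (dvd_mul_of_dvd_right h3 _)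
    have hd' : uu P e 0 ∣ v.2 := by
      have : v.2 = C β⁻¹ * (C β * v.2) := by
        rw [← mul_assoc, ← C_mul, inv_mul_cancel₀ hβ, C_1, one_mul]
      rw [this]; exact dvd_mul_of_dvd_right hd _
    exact hG0 (eq_zero_of_dvd_two P hP he 0 1 (by decide) v.2 h2 hd' h4)
  have hγ : γ = 0 := by
    by_contra hγ
    have hd : uu P e 1 ∣ C γ * v.1 := by
      have : C γ * v.1 = w.2 - C δ * v.2 := by
        rw [← hγδ, smul_eq_C_mul, smul_eq_C_mul]; ring
      rw [this]
      exact dvd_sub g4 (dvd_mul_of_dvd_right h4 _)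
    have hd' : uu P e 1 ∣ v.1 := by
      have : v.1 = C γ⁻¹ * (C γ * v.1) := by
        rw [← mul_assoc, ← C_mul, inv_mul_cancel₀ hγ, C_1, one_mul]
      rw [this]; exact dvd_mul_of_dvd_right hd _
    exact hF0 (eq_zero_of_dvd_two P hP he 0 1 (by decide) v.1 h1 h3 hd')
  rw [hβ, zero_smul, add_zero] at hαβ
  rw [hγ, zero_smul, zero_add] at hγδ
  have hδα : δ = α := by
    by_contra hne
    have hd : uu P e 2 ∣ C (δ - α) * v.2 := by
      have : C (δ - α) * v.2 = (w.1 + w.2) - C α * (v.1 + v.2) := by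
        rw [← hαβ, ← hγδ, smul_eq_C_mul, smul_eq_C_mul, C_sub]; ring
      rw [this]
      exact dvd_sub g5 (dvd_mul_of_dvd_right h5 _)
    have hne' : δ - α ≠ 0 := sub_ne_zero.2 hne
    have hd' : uu P e 2 ∣ v.2 := by
      have : v.2 = C (δ - α)⁻¹ * (C (δ - α) * v.2) := by
        rw [← mul_assoc, ← C_mul, inv_mul_cancel₀ hne', C_1, one_mul]
      rw [this]; exact dvd_mul_of_dvd_right hd _
    exact hG0 (eq_zero_of_dvd_two P hP he 1 2 (by decide) v.2 h2 h4 hd')
  refine ⟨α, ?_⟩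
  rw [hδα] at hγδ
  exact Prod.ext hαβ.symm hγδ.symm

/-- `LL` is nonzero, by a dimension count -/
lemma LL_ne_bot : LL d P e ≠ ⊥ := by
  have hs := sum_e he
  have h0 := (he.1 0).2.1
  have h1 := (he.1 1).2.1
  have h2 := (he.1 2).2.1
  let Ψ : (degreeLT k (d + 1 - e 0) × degreeLT k (d + 1 - e 1) × degreeLT k (d + 1 - e 2))
      →ₗ[k] k[X] :=
    { toFun := fun x => uu P e 0 * (x.1 : k[X]) + uu P e 1 * (x.2.1 : k[X])
        + uu P e 2 * (x.2.2 : k[X])
      map_add' := by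
        intro x y
        simp only [Prod.fst_add, Prod.snd_add, Submodule.coe_add]
        ring
      map_smul' := by
        intro c x
        simp only [Prod.smul_fst, Prod.smul_snd, Submodule.coe_smul, RingHom.id_apply,
          mul_smul_comm, smul_add] }
  have hΨ : ∀ x, Ψ x = uu P e 0 * (x.1 : k[X]) + uu P e 1 * (x.2.1 : k[X])
        + uu P e 2 * (x.2.2 : k[X]) := fun x => rfl
  have hdeg : ∀ (i : Fin 3) (a : k[X]), a ∈ degreeLT k (d + 1 - e i) →
      uu P e i * a ∈ degreeLT k (d + 1) := by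
    intro i a ha
    by_cases ha0 : a = 0
    · rw [ha0, mul_zero]; exact Submodule.zero_mem _
    rw [mem_degreeLT] at ha ⊢
    have hlt : a.natDegree < d + 1 - e i := (natDegree_lt_iff_degree_lt ha0).2 ha
    have hne : uu P e i * a ≠ 0 := mul_ne_zero (monic_uu P e i).ne_zero ha0
    rw [← natDegree_lt_iff_degree_lt hne, natDegree_mul (monic_uu P e i).ne_zero ha0,
      natDegree_uu]
    omega
  have hrange : LinearMap.range Ψ ≤ degreeLT k (d + 1) := by
    rintro _ ⟨x, rfl⟩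
    rw [hΨ]
    exact Submodule.add_mem _ (Submodule.add_mem _ (hdeg 0 _ x.1.2) (hdeg 1 _ x.2.1.2))
      (hdeg 2 _ x.2.2.2)
  have hfin : ∀ n : ℕ, Module.finrank k (degreeLT k n) = n := fun n => by
    rw [(degreeLTEquiv k n).finrank_eq, Module.finrank_fin_fun]
  haveI : ∀ n : ℕ, Module.Finite k (degreeLT k n) := fun n =>
    Module.Finite.equiv (degreeLTEquiv k n).symm
  have hninj : ¬ Function.Injective Ψ := by
    intro hinj
    have h1' := LinearMap.finrank_range_of_inj hinj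
    have h2' := Submodule.finrank_mono hrange
    rw [Module.finrank_prod, Module.finrank_prod, hfin, hfin, hfin] at h1'
    rw [hfin] at h2'
    omega
  rw [injective_iff_map_eq_zero] at hninj
  push Not at hninj
  obtain ⟨x, hx, hx0⟩ := hninj
  rw [hΨ] at hx
  have hmemLE : ∀ (i : Fin 3) (a : k[X]), a ∈ degreeLT k (d + 1 - e i) →
      uu P e i * a ∈ degreeLE k d := by
    intro i a ha
    by_cases ha0 : a = 0
    · rw [ha0, mul_zero]; exact Submodule.zero_mem _
    rw [mem_degreeLT] at ha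
    have hlt : a.natDegree < d + 1 - e i := (natDegree_lt_iff_degree_lt ha0).2 ha
    rw [mem_degreeLE]
    apply degree_le_of_natDegree_le
    rw [natDegree_mul (monic_uu P e i).ne_zero ha0, natDegree_uu]
    omega
  have hvL : (uu P e 0 * (x.1 : k[X]), uu P e 1 * (x.2.1 : k[X])) ∈ LL d P e := by
    refine mem_LL.2 ⟨hmemLE 0 _ x.1.2, hmemLE 1 _ x.2.1.2, dvd_mul_right _ _, dvd_mul_right _ _, ?_⟩
    have : uu P e 0 * (x.1 : k[X]) + uu P e 1 * (x.2.1 : k[X]) = -(uu P e 2 * (x.2.2 : k[X])) := by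
      linear_combination hx
    show uu P e 2 ∣ uu P e 0 * (x.1 : k[X]) + uu P e 1 * (x.2.1 : k[X])
    rw [this, dvd_neg]
    exact dvd_mul_right _ _
  intro hbot
  have hmem : (uu P e 0 * (x.1 : k[X]), uu P e 1 * (x.2.1 : k[X])) ∈ (⊥ : Submodule k (k[X] × k[X])) := by
    rw [← hbot]; exact hvL
  rw [Submodule.mem_bot] at hmem
  have e1 := congrArg Prod.fst hmem
  have e2 := congrArg Prod.snd hmem
  simp only [Prod.fst_zero, Prod.snd_zero] at e1 e2
  have a0 : (x.1 : k[X]) = 0 := (mul_eq_zero.1 e1).resolve_left (monic_uu P e 0).ne_zero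
  have b0 : (x.2.1 : k[X]) = 0 := (mul_eq_zero.1 e2).resolve_left (monic_uu P e 1).ne_zero
  rw [a0, b0, mul_zero, mul_zero, zero_add, zero_add] at hx
  have c0 : (x.2.2 : k[X]) = 0 := (mul_eq_zero.1 hx).resolve_left (monic_uu P e 2).ne_zero
  exact hx0 (Prod.ext (Subtype.ext a0) (Prod.ext (Subtype.ext b0) (Subtype.ext c0)))

end basic

theorem main937 (k : Type u) [Field k] (p : ℕ) (d : ℕ) (P : Fin 3 → k)
    (hP : Function.Injective P)
    (e : Fin 3 → ℕ) (he : W4c1limliniiii.Admissible p d e) :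
    ∃ L : Submodule k (k[X] × k[X]), L ≠ ⊥ ∧
      (∀ v ∈ L, v ≠ 0 →
        Submodule.span k {v.1, v.2} ≤ Polynomial.degreeLE k d ∧
          Module.finrank k (Submodule.span k {v.1, v.2}) = 2 ∧
          ∀ i, ∃ s ∈ Submodule.span k {v.1, v.2}, s ≠ 0 ∧
            e i ≤ Polynomial.rootMultiplicity (P i) s) ∧
      (∀ V : Submodule k k[X], V ≤ Polynomial.degreeLE k d → Module.finrank k V = 2 →
        (∀ i, ∃ s ∈ V, s ≠ 0 ∧ e i ≤ Polynomial.rootMultiplicity (P i) s) →
          ∃ v ∈ L, v ≠ 0 ∧ Submodule.span k {v.1, v.2} = V) ∧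
      (∀ v ∈ L, ∀ w ∈ L, v ≠ 0 → w ≠ 0 →
        Submodule.span k {v.1, v.2} = Submodule.span k {w.1, w.2} → ∃ c : k, w = c • v) := by
  refine ⟨LL d P e, LL_ne_bot P hP he, ?_, ?_, ?_⟩
  · intro v hv hv0
    exact ⟨span_le P hv, finrank_span P hP he hv hv0, schubert P hP he hv hv0⟩
  · intro V hVd hV2 hS
    exact exists_of_schubert P hP he V hVd hV2 hS
  · intro v hv w hw hv0 _ hspan
    exact prop_of_span_eq P hP he hv hw hv0 hspan

end Groth.Agent.Lib.Helper6.RamA
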