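import Mathlib
import Groth.Agent.Lib.Helper6.RamA

set_option autoImplicit false

namespace Groth.Agent.Lib.Helper6.RamB

open Polynomial W4c1limliniiii Groth.Agent.Lib.Helper6.RamA

universe u
variable {k : Type u} [Field k]

lemma euler (q : k) (t : ℕ) :
    (X - C q) * derivative ((X - C q) ^ t) = C (t : k) * (X - C q) ^ t := by
  cases t with
  | zero => simp
  | succ n =>
    rw [derivative_X_sub_C_pow, Nat.add_sub_cancel]
    ring

lemma wronskian_C_mul_left (c : k) (a b : k[X]) :
    wronskian (C c * a) b = C c * wronskian a b := by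
  simp only [wronskian, derivative_C_mul]; ring

lemma wronskian_mul_mul (c a b : k[X]) : wronskian (c * a) (c * b) = c ^ 2 * wronskian a b := by
  simp only [wronskian, derivative_mul]; ring

/-- the order of vanishing of a Wronskian -/
lemma dvd_wronskian (q : k) (m n : ℕ) (s t : k[X]) (hs : (X - C q) ^ m ∣ s)
    (ht : (X - C q) ^ n ∣ t) : (X - C q) ^ (m + n - 1) ∣ wronskian s t := by
  obtain ⟨s₁, rfl⟩ := hs
  obtain ⟨t₁, rfl⟩ := ht
  rcases Nat.eq_zero_or_pos (m + n) with h0 | hpos
  · rw [h0]; simp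
  obtain ⟨N, hN⟩ : ∃ N, m + n = N + 1 := ⟨m + n - 1, by omega⟩
  rw [hN, Nat.add_sub_cancel]
  have e1 := euler q m
  have e2 := euler q n
  have key : (X - C q) * wronskian ((X - C q) ^ m * s₁) ((X - C q) ^ n * t₁)
      = (X - C q) * ((X - C q) ^ N * ((C (n : k) - C (m : k)) * s₁ * t₁
        + (X - C q) * (s₁ * derivative t₁ - derivative s₁ * t₁))) := by
    have hp : (X - C q) * (X - C q) ^ N = (X - C q) ^ m * (X - C q) ^ n := by
      rw [← pow_succ', ← hN, pow_add]
    simp only [wronskian, derivative_mul]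
    linear_combination ((X - C q) ^ m * s₁ * t₁) * e2 - (s₁ * (X - C q) ^ n * t₁) * e1
      + ((C (n : k) - C (m : k)) * s₁ * t₁
        + (X - C q) * (s₁ * derivative t₁ - derivative s₁ * t₁)) * (-hp)
  exact ⟨_, mul_left_cancel₀ (X_sub_C_ne_zero q) key⟩

/-- sharp degree bound for the Wronskian -/
lemma natDegree_wronskian_le (a b : k[X]) (d : ℕ) (hd : 1 ≤ d) (ha : a.natDegree ≤ d)
    (hb : b.natDegree ≤ d) : (wronskian a b).natDegree ≤ 2 * d - 2 := by
  obtain ⟨d', rfl⟩ : ∃ d', d = d' + 1 := ⟨d - 1, by omega⟩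
  have ha' : (derivative a).natDegree ≤ d' := (natDegree_derivative_le a).trans (by omega)
  have hb' : (derivative b).natDegree ≤ d' := (natDegree_derivative_le b).trans (by omega)
  rw [natDegree_le_iff_coeff_eq_zero]
  intro N hN
  rw [wronskian, coeff_sub]
  by_cases hN1 : N = 2 * d' + 1
  · have e1 : (a * derivative b).coeff (d' + 1 + d') = a.coeff (d' + 1) * (derivative b).coeff d' :=
      coeff_mul_add_eq_of_natDegree_le ha hb'
    have e2 : (derivative a * b).coeff (d' + (d' + 1))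
        = (derivative a).coeff d' * b.coeff (d' + 1) :=
      coeff_mul_add_eq_of_natDegree_le ha' hb
    have i1 : N = d' + 1 + d' := by omega
    have i2 : N = d' + (d' + 1) := by omega
    rw [i1, e1, ← i1, i2, e2, coeff_derivative, coeff_derivative]
    ring
  · have h1 : (a * derivative b).natDegree < N :=
      lt_of_le_of_lt natDegree_mul_le (by omega)
    have h2 : (derivative a * b).natDegree < N :=
      lt_of_le_of_lt natDegree_mul_le (by omega)
    rw [coeff_eq_zero_of_natDegree_lt h1, coeff_eq_zero_of_natDegree_lt h2, sub_zero]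

section three

variable (P : Fin 3 → k) (hP : Function.Injective P)

include hP

lemma three_dvd (n : Fin 3 → ℕ) (Wp : k[X]) (h : ∀ i, (X - C (P i)) ^ (n i) ∣ Wp) :
    (X - C (P 0)) ^ (n 0) * (X - C (P 1)) ^ (n 1) * (X - C (P 2)) ^ (n 2) ∣ Wp := by
  have c01 := coprime_pow P hP 0 1 (by decide) (n 0) (n 1)
  have c02 := coprime_pow P hP 0 2 (by decide) (n 0) (n 2)
  have c12 := coprime_pow P hP 1 2 (by decide) (n 1) (n 2)
  exact (IsCoprime.mul_left c02 c12).mul_dvd (c01.mul_dvd (h 0) (h 1)) (h 2)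

omit hP in
lemma natDegree_three (n : Fin 3 → ℕ) :
    ((X - C (P 0)) ^ (n 0) * (X - C (P 1)) ^ (n 1) * (X - C (P 2)) ^ (n 2)).natDegree
      = n 0 + n 1 + n 2 := by
  have m0 := (monic_X_sub_C (P 0)).pow (n 0)
  have m1 := (monic_X_sub_C (P 1)).pow (n 1)
  have m2 := (monic_X_sub_C (P 2)).pow (n 2)
  rw [(m0.mul m1).natDegree_mul m2, m0.natDegree_mul m1, (monic_X_sub_C _).natDegree_pow,
    (monic_X_sub_C _).natDegree_pow, (monic_X_sub_C _).natDegree_pow, natDegree_X_sub_C,
    natDegree_X_sub_C, natDegree_X_sub_C]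
  ring

lemma eq_zero_of_three (n : Fin 3 → ℕ) (Wp : k[X]) (h : ∀ i, (X - C (P i)) ^ (n i) ∣ Wp)
    (hdeg : Wp.natDegree < n 0 + n 1 + n 2) : Wp = 0 := by
  refine eq_zero_of_dvd_of_natDegree_lt (three_dvd P hP n Wp h) ?_
  rw [natDegree_three]; exact hdeg

end three

section main

variable {p d : ℕ} (P : Fin 3 → k) (hP : Function.Injective P) {e : Fin 3 → ℕ}
  (he : W4c1limliniiii.Admissible p d e)

include hP he

/-- uniqueness of the Schubert solution when one of them is a base point free pencil -/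
lemma prop_of_pencil [IsAlgClosed k] {v w : k[X] × k[X]} (hv : v ∈ LL d P e)
    (hw : w ∈ LL d P e) (hv0 : v ≠ 0)
    (hpen : IsPencil d (Submodule.span k ({v.1, v.2} : Set k[X]))) : ∃ c : k, w = c • v := by
  obtain ⟨h1, h2, h3, h4, h5⟩ := mem_LL.1 hv
  obtain ⟨g1, g2, g3, g4, g5⟩ := mem_LL.1 hw
  have hd2 : 2 ≤ d := (he.1 0).1.trans (he.1 0).2.1
  have hF0 := fst_ne_zero P hP he hv hv0
  set Δ := v.1 * w.2 - w.1 * v.2 with hΔ
  have hΔ0 : Δ = 0 := by
    have hdvd : ∀ i, (X - C (P i)) ^ (e i) ∣ Δ := by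
      intro i
      fin_cases i
      · exact dvd_sub (dvd_mul_of_dvd_left h3 _) (dvd_mul_of_dvd_left g3 _)
      · exact dvd_sub (dvd_mul_of_dvd_right g4 _) (dvd_mul_of_dvd_right h4 _)
      · have : Δ = v.1 * (w.1 + w.2) - w.1 * (v.1 + v.2) := by rw [hΔ]; ring
        rw [this]
        exact dvd_sub (dvd_mul_of_dvd_right g5 _) (dvd_mul_of_dvd_right h5 _)
    refine eq_zero_of_three P hP e Δ hdvd ?_
    have n1 := natDegree_le_of_degree_le (mem_degreeLE.1 h1)
    have n2 := natDegree_le_of_degree_le (mem_degreeLE.1 h2)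
    have n3 := natDegree_le_of_degree_le (mem_degreeLE.1 g1)
    have n4 := natDegree_le_of_degree_le (mem_degreeLE.1 g2)
    have : Δ.natDegree ≤ 2 * d := by
      refine (natDegree_sub_le _ _).trans (max_le ?_ ?_)
      · exact natDegree_mul_le.trans (by omega)
      · exact natDegree_mul_le.trans (by omega)
    have := sum_e he
    omega
  have hcop : IsCoprime v.1 v.2 := by
    rw [Polynomial.isCoprime_iff_aeval_ne_zero_of_isAlgClosed (k := k) k v.1 v.2]
    intro a
    by_contra hcon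
    push Not at hcon
    obtain ⟨s, hs, hsa⟩ := hpen.2.2.2 a
    obtain ⟨α, β, rfl⟩ := Submodule.mem_span_pair.1 hs
    apply hsa
    have e1 : v.1.eval a = 0 := by simpa using hcon.1
    have e2 : v.2.eval a = 0 := by simpa using hcon.2
    rw [eval_add, eval_smul, eval_smul, e1, e2, smul_zero, smul_zero, add_zero]
  have heq : v.1 * w.2 = w.1 * v.2 := sub_eq_zero.1 hΔ0
  have hdvd : v.1 ∣ w.1 := hcop.dvd_of_dvd_mul_right ⟨w.2, heq.symm⟩
  obtain ⟨h, hh⟩ := hdvd
  have hw2 : w.2 = h * v.2 := by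
    apply mul_left_cancel₀ hF0
    rw [heq, hh]; ring
  obtain ⟨s, hs, hsd⟩ := hpen.2.2.1
  obtain ⟨α, β, hαβ⟩ := Submodule.mem_span_pair.1 hs
  have hs0 : s ≠ 0 := by
    rintro rfl; rw [natDegree_zero] at hsd; omega
  by_cases hh0 : h = 0
  · refine ⟨0, ?_⟩
    rw [zero_smul]
    exact Prod.ext (by rw [hh, hh0, mul_zero]; rfl) (by rw [hw2, hh0, zero_mul]; rfl)
  have hmem : h * s ∈ degreeLE k d := by
    have : h * s = α • w.1 + β • w.2 := by
      rw [← hαβ, hh, hw2, smul_eq_C_mul, smul_eq_C_mul, smul_eq_C_mul, smul_eq_C_mul]; ring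
    rw [this]
    exact Submodule.add_mem _ (Submodule.smul_mem _ _ g1) (Submodule.smul_mem _ _ g2)
  have hnd := natDegree_le_of_degree_le (mem_degreeLE.1 hmem)
  rw [natDegree_mul hh0 hs0, hsd] at hnd
  obtain ⟨c, rfl⟩ : ∃ c, h = C c := ⟨h.coeff 0, eq_C_of_natDegree_eq_zero (by omega)⟩
  refine ⟨c, ?_⟩
  exact Prod.ext (by rw [hh, Prod.smul_fst, smul_eq_C_mul]; ring)
    (by rw [hw2, Prod.smul_snd, smul_eq_C_mul])

omit hP he in
lemma wronskian_comb (F G : k[X]) (α β γ δ : k) :
    wronskian (α • F + β • G) (γ • F + δ • G) = C (α * δ - β * γ) * wronskian F G := by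
  simp only [wronskian, derivative_add, smul_eq_C_mul, derivative_C_mul, C_sub, C_mul]
  ring

omit hP he in
/-- change of basis keeping a given nonzero member -/
lemma exists_basis_change (F G s : k[X]) (hs : s ∈ Submodule.span k ({F, G} : Set k[X]))
    (hs0 : s ≠ 0) : ∃ t ∈ Submodule.span k ({F, G} : Set k[X]), ∃ c : k, c ≠ 0 ∧
      wronskian s t = C c * wronskian F G := by
  obtain ⟨α, β, rfl⟩ := Submodule.mem_span_pair.1 hs
  have mF : F ∈ Submodule.span k ({F, G} : Set k[X]) :=
    Submodule.subset_span (Set.mem_insert _ _)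
  have mG : G ∈ Submodule.span k ({F, G} : Set k[X]) :=
    Submodule.subset_span (Set.mem_insert_of_mem _ rfl)
  by_cases hα : α = 0
  · have hβ : β ≠ 0 := by
      rintro rfl; apply hs0; rw [hα, zero_smul, zero_smul, add_zero]
    refine ⟨F, mF, -β, neg_ne_zero.2 hβ, ?_⟩
    have := wronskian_comb F G α β 1 0
    rw [one_smul, zero_smul, add_zero] at this
    rw [this, hα]; ring_nf
  · refine ⟨G, mG, α, hα, ?_⟩
    have := wronskian_comb F G α β 0 1
    rw [one_smul, zero_smul, zero_add] at this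
    rw [this]; ring_nf

/-- a Schubert solution with nonzero Wronskian lies in `ramMaps` -/
lemma mem_ramMaps {v : k[X] × k[X]} (hv : v ∈ LL d P e) (hv0 : v ≠ 0)
    (hW : wronskian v.1 v.2 ≠ 0) :
    Submodule.span k ({v.1, v.2} : Set k[X]) ∈ ramMaps d P e := by
  obtain ⟨h1, h2, h3, h4, h5⟩ := mem_LL.1 hv
  have hd2 : 2 ≤ d := (he.1 0).1.trans (he.1 0).2.1
  have hsum := sum_e he
  have he0 := (he.1 0).1
  have he1 := (he.1 1).1
  have he2 := (he.1 2).1
  set F := v.1 with hF
  set G := v.2 with hG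
  set W := wronskian F G with hWdef
  set V := Submodule.span k ({F, G} : Set k[X]) with hV
  have mF : F ∈ V := Submodule.subset_span (Set.mem_insert _ _)
  have mG : G ∈ V := Submodule.subset_span (Set.mem_insert_of_mem _ rfl)
  have nF := natDegree_le_of_degree_le (mem_degreeLE.1 h1)
  have nG := natDegree_le_of_degree_le (mem_degreeLE.1 h2)
  have hWd : W.natDegree ≤ 2 * d - 2 := natDegree_wronskian_le F G d (by omega) nF nG
  -- divisibility of W
  have hWdvd : ∀ i, (X - C (P i)) ^ (e i - 1) ∣ W := by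
    intro i
    fin_cases i
    · have := dvd_wronskian (P 0) (e 0) 0 F G h3 (by simp)
      simpa using this
    · have := dvd_wronskian (P 1) 0 (e 1) F G (by simp) h4
      simpa using this
    · have hWe : W = wronskian F (F + G) := by
        rw [wronskian_add_right, wronskian_self_eq_zero, zero_add]
      have := dvd_wronskian (P 2) 0 (e 2) F (F + G) (by simp) h5
      rw [hWe]
      simpa using this
  -- no extra vanishing at a marked point
  have X1 : ∀ i, ¬ (X - C (P i)) ^ (e i) ∣ W := by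
    intro i hcon
    apply hW
    refine eq_zero_of_three P hP (fun j => if j = i then e j else e j - 1) W ?_ ?_
    · intro j
      by_cases hji : j = i
      · simp only [hji, if_true]; exact hcon
      · simp only [hji, if_false]; exact hWdvd j
    · fin_cases i <;> simp <;> omega
  -- no vanishing at an unmarked point
  have X2 : ∀ a : k, (∀ i, a ≠ P i) → ¬ (X - C a) ∣ W := by
    intro a ha hcon
    apply hW
    have h3' := three_dvd P hP (fun j => e j - 1) W hWdvd
    have hcop : IsCoprime ((X - C (P 0)) ^ (e 0 - 1) * (X - C (P 1)) ^ (e 1 - 1) *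
        (X - C (P 2)) ^ (e 2 - 1)) (X - C a) := by
      have c : ∀ i, IsCoprime ((X - C (P i)) ^ (e i - 1)) (X - C a) := fun i =>
        (isCoprime_X_sub_C_of_isUnit_sub (sub_ne_zero.2 (Ne.symm (ha i))).isUnit).pow_left
      exact IsCoprime.mul_left (IsCoprime.mul_left (c 0) (c 1)) (c 2)
    have hdvd := hcop.mul_dvd h3' hcon
    refine eq_zero_of_dvd_of_natDegree_lt hdvd ?_
    have hn3 : ((X - C (P 0)) ^ (e 0 - 1) * (X - C (P 1)) ^ (e 1 - 1) *
        (X - C (P 2)) ^ (e 2 - 1)).natDegree = (e 0 - 1) + (e 1 - 1) + (e 2 - 1) :=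
      natDegree_three P (fun j => e j - 1)
    have hmon : ((X - C (P 0)) ^ (e 0 - 1) * (X - C (P 1)) ^ (e 1 - 1) *
        (X - C (P 2)) ^ (e 2 - 1)).Monic :=
      (((monic_X_sub_C _).pow _).mul ((monic_X_sub_C _).pow _)).mul ((monic_X_sub_C _).pow _)
    rw [hmon.natDegree_mul (monic_X_sub_C a), hn3, natDegree_X_sub_C]
    omega
  have hVle : V ≤ degreeLE k d := span_le P hv
  have hV2 : Module.finrank k V = 2 := finrank_span P hP he hv hv0
  refine ⟨⟨hVle, hV2, ?_, ?_⟩, ⟨F, mF, G, mG, hW⟩, fun i => ⟨schubert P hP he hv hv0 i, ?_⟩⟩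
  · -- a member of degree d
    by_contra hcon
    push Not at hcon
    have nF' : F.natDegree ≤ d - 1 := by
      have := hcon F mF; omega
    have nG' : G.natDegree ≤ d - 1 := by
      have := hcon G mG; omega
    have hWd' : W.natDegree ≤ 2 * (d - 1) - 2 :=
      natDegree_wronskian_le F G (d - 1) (by omega) nF' nG'
    apply hW
    refine eq_zero_of_three P hP (fun j => e j - 1) W hWdvd ?_
    show W.natDegree < (e 0 - 1) + (e 1 - 1) + (e 2 - 1)
    omega
  · -- no base point
    intro a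
    by_contra hcon
    push Not at hcon
    have dF : (X - C a) ^ 1 ∣ F := by rw [pow_one, dvd_iff_isRoot]; exact hcon F mF
    have dG : (X - C a) ^ 1 ∣ G := by rw [pow_one, dvd_iff_isRoot]; exact hcon G mG
    by_cases hex : ∃ i, a = P i
    · obtain ⟨i, rfl⟩ := hex
      obtain ⟨s, hsV, hs0, hse⟩ := schubert P hP he hv hv0 i
      have ds : (X - C (P i)) ^ (e i) ∣ s := (le_rootMultiplicity_iff hs0).1 hse
      obtain ⟨t, htV, c, hc, hst⟩ := exists_basis_change F G s hsV hs0
      have dt : (X - C (P i)) ^ 1 ∣ t := by rw [pow_one, dvd_iff_isRoot]; exact hcon t htV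
      have := dvd_wronskian (P i) (e i) 1 s t ds dt
      rw [hst, Nat.add_sub_cancel] at this
      have hWeq : W = C c⁻¹ * (C c * W) := by
        rw [← mul_assoc, ← C_mul, inv_mul_cancel₀ hc, C_1, one_mul]
      exact X1 i (by rw [hWeq]; exact dvd_mul_of_dvd_right this _)
    · push Not at hex
      have := dvd_wronskian a 1 1 F G dF dG
      exact X2 a hex (by simpa using this)
  · -- exact ramification
    intro s hsV hs0
    by_contra hcon
    push Not at hcon
    have ds : (X - C (P i)) ^ (e i + 1) ∣ s := (le_rootMultiplicity_iff hs0).1 hcon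
    obtain ⟨t, htV, c, hc, hst⟩ := exists_basis_change F G s hsV hs0
    have := dvd_wronskian (P i) (e i + 1) 0 s t ds (by simp)
    rw [hst, Nat.add_zero, Nat.add_sub_cancel] at this
    have hWeq : W = C c⁻¹ * (C c * W) := by
      rw [← mul_assoc, ← C_mul, inv_mul_cancel₀ hc, C_1, one_mul]
    exact X1 i (by rw [hWeq]; exact dvd_mul_of_dvd_right this _)

omit hP he in
/-- separability in terms of a basis -/
lemma wronskian_ne_zero_of_isSeparable (F G : k[X])
    (h : IsSeparable (Submodule.span k ({F, G} : Set k[X]))) : wronskian F G ≠ 0 := by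
  obtain ⟨F₀, hF₀, G₀, hG₀, hne⟩ := h
  obtain ⟨α, β, rfl⟩ := Submodule.mem_span_pair.1 hF₀
  obtain ⟨γ, δ, rfl⟩ := Submodule.mem_span_pair.1 hG₀
  intro h0
  apply hne
  rw [wronskian_comb, h0, mul_zero]

/-- members of `ramMaps` come from `LL` -/
lemma exists_of_mem_ramMaps (V : Submodule k k[X]) (hV : V ∈ ramMaps d P e) :
    ∃ v ∈ LL d P e, v ≠ 0 ∧ Submodule.span k ({v.1, v.2} : Set k[X]) = V :=
  exists_of_schubert P hP he V hV.1.1 hV.1.2.1 (fun i => (hV.2.2 i).1)

theorem main918 [IsAlgClosed k] :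
    (ramMaps d P e).Subsingleton ∧
      (ramMaps d P e = ∅ ↔
        ∃ V : Submodule k k[X], V ≤ Polynomial.degreeLE k d ∧ Module.finrank k V = 2 ∧
          ¬ IsSeparable V ∧
          ∀ i, ∃ s ∈ V, s ≠ 0 ∧ e i ≤ Polynomial.rootMultiplicity (P i) s) := by
  have huniq : ∀ V ∈ ramMaps d P e, ∀ V' : Submodule k k[X], V' ≤ degreeLE k d →
      Module.finrank k V' = 2 →
      (∀ i, ∃ s ∈ V', s ≠ 0 ∧ e i ≤ rootMultiplicity (P i) s) → V' = V := by
    intro V hV V' hV'd hV'2 hS
    obtain ⟨v, hvL, hv0, hvV⟩ := exists_of_mem_ramMaps P hP he V hV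
    obtain ⟨w, hwL, hw0, hwV⟩ := exists_of_schubert P hP he V' hV'd hV'2 hS
    obtain ⟨c, hc⟩ := prop_of_pencil P hP he hvL hwL hv0 (by rw [hvV]; exact hV.1)
    haveI : FiniteDimensional k V := Module.finite_of_finrank_pos (by rw [hV.1.2.1]; omega)
    have hle : V' ≤ V := by
      rw [← hwV, ← hvV, Submodule.span_le]
      rintro x (rfl | rfl)
      · rw [hc, Prod.smul_fst]
        exact Submodule.smul_mem _ _ (Submodule.subset_span (Set.mem_insert _ _))
      · rw [hc, Prod.smul_snd]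
        exact Submodule.smul_mem _ _ (Submodule.subset_span (Set.mem_insert_of_mem _ rfl))
    exact Submodule.eq_of_le_of_finrank_le hle (by rw [hV.1.2.1, hV'2])
  refine ⟨?_, ?_, ?_⟩
  · intro V hV V' hV'
    exact (huniq V' hV' V hV.1.1 hV.1.2.1 (fun i => (hV.2.2 i).1))
  · intro hempty
    obtain ⟨v, hvL, hv0⟩ := Submodule.exists_mem_ne_zero_of_ne_bot (LL_ne_bot P hP he)
    refine ⟨Submodule.span k ({v.1, v.2} : Set k[X]), span_le P hvL,
      finrank_span P hP he hvL hv0, ?_, schubert P hP he hvL hv0⟩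
    intro hsep
    have := mem_ramMaps P hP he hvL hv0 (wronskian_ne_zero_of_isSeparable _ _ hsep)
    rw [hempty] at this
    exact this
  · rintro ⟨V₁, hd1, h21, hns, hS⟩
    by_contra hne
    obtain ⟨V, hV⟩ := Set.nonempty_iff_ne_empty.2 hne
    have := huniq V hV V₁ hd1 h21 hS
    rw [this] at hns
    exact hns hV.2.1

end main

end Groth.Agent.Lib.Helper6.RamB
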