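import Mathlib
import Groth.Agent.Lib.Helper6.RamB

set_option autoImplicit false

namespace Groth.Agent.Lib.Helper6.RamC

open Polynomial W4c1limliniiii Groth.Agent.Lib.Helper6.RamA Groth.Agent.Lib.Helper6.RamB

universe u
variable {k : Type u} [Field k]

/-- a polynomial of small degree with zero derivative is constant -/
lemma natDegree_eq_zero_of_derivative_eq_zero' (p : ℕ) [CharP k p] (f : k[X])
    (hf : derivative f = 0) (hp : p = 0 ∨ f.natDegree < p) : f.natDegree = 0 := by
  by_contra hne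
  obtain ⟨n, hn⟩ : ∃ n, f.natDegree = n + 1 := ⟨f.natDegree - 1, by omega⟩
  have h1 := congrArg (fun g : k[X] => g.coeff n) hf
  simp only [coeff_derivative, coeff_zero] at h1
  have hlead : f.coeff (n + 1) ≠ 0 := by
    rw [← hn]
    have hf0 : f ≠ 0 := by rintro rfl; rw [natDegree_zero] at hn; omega
    exact leadingCoeff_ne_zero.2 hf0
  have h2 : ((n + 1 : ℕ) : k) = 0 := by
    rcases mul_eq_zero.1 h1 with h | h
    · exact absurd h hlead
    · exact_mod_cast h
  rw [CharP.cast_eq_zero_iff k p] at h2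
  rcases hp with hp | hp
  · rw [hp] at h2; have := Nat.eq_zero_of_zero_dvd h2; omega
  · have := Nat.le_of_dvd (Nat.succ_pos n) h2; omega

/-- linearly independent polynomials of small degree have nonzero Wronskian -/
lemma wronskian_ne_zero_of_indep (p : ℕ) [CharP k p] (d : ℕ) (hp : p = 0 ∨ d < p) (F G : k[X])
    (hF : F.natDegree ≤ d) (hG : G.natDegree ≤ d) (hli : LinearIndependent k ![F, G]) :
    wronskian F G ≠ 0 := by
  classical
  intro hW
  rw [LinearIndependent.pair_iff] at hli
  have hG0 : G ≠ 0 := by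
    rintro rfl
    have := hli 0 1 (by simp)
    exact one_ne_zero this.2
  have hF0 : F ≠ 0 := by
    rintro rfl
    have := hli 1 0 (by simp)
    exact one_ne_zero this.1
  set g := EuclideanDomain.gcd F G with hg
  have hg0 : g ≠ 0 := by
    intro h0
    exact hG0 (EuclideanDomain.gcd_eq_zero_iff.1 h0).2
  obtain ⟨F₁, hF₁⟩ := EuclideanDomain.gcd_dvd_left F G
  obtain ⟨G₁, hG₁⟩ := EuclideanDomain.gcd_dvd_right F G
  rw [← hg] at hF₁ hG₁
  obtain ⟨A, B, hbez⟩ : ∃ A B : k[X], g = F * A + G * B :=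
    ⟨_, _, EuclideanDomain.gcd_eq_gcd_ab F G⟩
  have hcop : IsCoprime F₁ G₁ := by
    refine ⟨A, B, ?_⟩
    apply mul_left_cancel₀ hg0
    linear_combination (-1 : k[X]) * hbez - A * hF₁ - B * hG₁
  have hW1 : wronskian F₁ G₁ = 0 := by
    rw [hF₁, hG₁, wronskian_mul_mul] at hW
    exact (mul_eq_zero.1 hW).resolve_left (pow_ne_zero 2 hg0)
  obtain ⟨dF, dG⟩ := hcop.wronskian_eq_zero_iff.1 hW1
  have hF₁0 : F₁ ≠ 0 := by rintro rfl; exact hF0 (by rw [hF₁, mul_zero])
  have hG₁0 : G₁ ≠ 0 := by rintro rfl; exact hG0 (by rw [hG₁, mul_zero])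
  have nF₁ : F₁.natDegree ≤ d := by
    have : F.natDegree = g.natDegree + F₁.natDegree := by rw [hF₁, natDegree_mul hg0 hF₁0]
    omega
  have nG₁ : G₁.natDegree ≤ d := by
    have : G.natDegree = g.natDegree + G₁.natDegree := by rw [hG₁, natDegree_mul hg0 hG₁0]
    omega
  have cF := natDegree_eq_zero_of_derivative_eq_zero' p F₁ dF (by
    rcases hp with hp | hp
    · exact Or.inl hp
    · exact Or.inr (by omega))
  have cG := natDegree_eq_zero_of_derivative_eq_zero' p G₁ dG (by
    rcases hp with hp | hp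
    · exact Or.inl hp
    · exact Or.inr (by omega))
  obtain ⟨a, ha⟩ : ∃ a, F₁ = C a := ⟨F₁.coeff 0, eq_C_of_natDegree_eq_zero cF⟩
  obtain ⟨b, hb⟩ : ∃ b, G₁ = C b := ⟨G₁.coeff 0, eq_C_of_natDegree_eq_zero cG⟩
  have hb0 : b ≠ 0 := by rintro rfl; exact hG₁0 (by rw [hb, C_0])
  have := hli b (-a) (by
    rw [hF₁, hG₁, ha, hb, smul_eq_C_mul, smul_eq_C_mul, C_neg]; ring)
  exact hb0 this.1

section main

variable {p d : ℕ} (P : Fin 3 → k) (hP : Function.Injective P) {e : Fin 3 → ℕ}
  (he : W4c1limliniiii.Admissible p d e)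

include hP he

theorem main919 [IsAlgClosed k] [CharP k p] :
    (p ≠ 0 → e 0 < p → e 1 < p → p ≤ d → ramMaps d P e = ∅) ∧
      (p = 0 ∨ d < p → ∃ V : Submodule k k[X], ramMaps d P e = {V}) := by
  obtain ⟨hsub, hiff⟩ := main918 (k := k) P hP he
  refine ⟨?_, ?_⟩
  · intro hp0 h0 h1 hpd
    have hprime : p.Prime := (CharP.char_is_prime_or_zero k p).resolve_right hp0
    haveI : Fact p.Prime := ⟨hprime⟩
    have hp1 : 1 ≤ p := hprime.one_lt.le
    have he2 := (he.1 2).2.1
    set t := e 2 - p with ht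
    set h : k[X] := (X - C (P 2)) ^ t with hh
    have hh0 : h ≠ 0 := pow_ne_zero _ (X_sub_C_ne_zero _)
    have hhd : h.natDegree = t := by
      rw [hh, (monic_X_sub_C _).natDegree_pow, natDegree_X_sub_C, mul_one]
    obtain ⟨F, hF⟩ : ∃ F : k[X], F = h := ⟨_, rfl⟩
    set G : k[X] := h * X ^ p with hG
    have hGd : G.natDegree = t + p := by
      rw [hG, natDegree_mul hh0 (pow_ne_zero _ X_ne_zero), hhd, natDegree_X_pow]
    have hpow : ∀ a : k, h * (X - C a) ^ p = G - (a ^ p) • F := by
      intro a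
      rw [sub_pow_char (X : k[X]) (C a), ← C_pow, hG, hF, smul_eq_C_mul]; ring
    have mF : F ∈ Submodule.span k ({F, G} : Set k[X]) :=
      Submodule.subset_span (Set.mem_insert _ _)
    have mG : G ∈ Submodule.span k ({F, G} : Set k[X]) :=
      Submodule.subset_span (Set.mem_insert_of_mem _ rfl)
    have mpow : ∀ a : k, h * (X - C a) ^ p ∈ Submodule.span k ({F, G} : Set k[X]) := by
      intro a
      rw [hpow]
      exact Submodule.sub_mem _ mG (Submodule.smul_mem _ _ mF)
    have hpow0 : ∀ a : k, h * (X - C a) ^ p ≠ 0 := fun a =>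
      mul_ne_zero hh0 (pow_ne_zero _ (X_sub_C_ne_zero _))
    have hli : LinearIndependent k ![F, G] := by
      rw [LinearIndependent.pair_iff]
      intro α β hαβ
      have h1' : h * (C α + C β * X ^ p) = 0 := by
        rw [← hαβ, hF, hG, smul_eq_C_mul, smul_eq_C_mul]; ring
      have h2' := (mul_eq_zero.1 h1').resolve_left hh0
      have c0 := congrArg (fun f : k[X] => f.coeff 0) h2'
      have cp := congrArg (fun f : k[X] => f.coeff p) h2'
      simp only [coeff_add, coeff_C_mul, coeff_X_pow, coeff_C, coeff_zero] at c0 cp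
      have hp0' : (0 : ℕ) ≠ p := by omega
      have hp0'' : p ≠ 0 := by omega
      simp only [if_true, if_neg hp0', if_neg hp0'', mul_zero, add_zero, mul_one, zero_add] at c0 cp
      exact ⟨c0, cp⟩
    apply hiff.2
    refine ⟨Submodule.span k ({F, G} : Set k[X]), ?_, ?_, ?_, ?_⟩
    · rw [Submodule.span_le]
      rintro x (rfl | rfl)
      · rw [SetLike.mem_coe, mem_degreeLE]
        exact degree_le_of_natDegree_le (by rw [hF, hhd]; omega)
      · rw [SetLike.mem_coe, mem_degreeLE]
        exact degree_le_of_natDegree_le (by rw [hGd]; omega)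
    · have := finrank_span_eq_card hli
      rw [range_pair] at this
      rw [this]; simp
    · intro hsep
      apply wronskian_ne_zero_of_isSeparable F G hsep
      have : wronskian F G = h ^ 2 * wronskian 1 (X ^ p) := by
        rw [← wronskian_mul_mul, mul_one, hF]
      rw [this, wronskian, derivative_X_pow, derivative_one, CharP.cast_eq_zero k p, C_0]
      ring
    · intro i
      fin_cases i
      · refine ⟨h * (X - C (P 0)) ^ p, mpow _, hpow0 _, ?_⟩
        have : p ≤ rootMultiplicity (P 0) (h * (X - C (P 0)) ^ p) :=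
          (le_rootMultiplicity_iff (hpow0 _)).2 (dvd_mul_left _ _)
        exact h0.le.trans this
      · refine ⟨h * (X - C (P 1)) ^ p, mpow _, hpow0 _, ?_⟩
        have : p ≤ rootMultiplicity (P 1) (h * (X - C (P 1)) ^ p) :=
          (le_rootMultiplicity_iff (hpow0 _)).2 (dvd_mul_left _ _)
        exact h1.le.trans this
      · refine ⟨h * (X - C (P 2)) ^ p, mpow _, hpow0 _, ?_⟩
        have : t + p ≤ rootMultiplicity (P 2) (h * (X - C (P 2)) ^ p) := by
          refine (le_rootMultiplicity_iff (hpow0 _)).2 ?_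
          rw [hh, ← pow_add]
        refine le_trans ?_ this
        show e 2 ≤ t + p
        omega
  · intro hp
    obtain ⟨v, hvL, hv0⟩ := Submodule.exists_mem_ne_zero_of_ne_bot (LL_ne_bot P hP he)
    obtain ⟨h1, h2, -⟩ := mem_LL.1 hvL
    have hW : wronskian v.1 v.2 ≠ 0 :=
      wronskian_ne_zero_of_indep p d hp v.1 v.2 (natDegree_le_of_degree_le (mem_degreeLE.1 h1))
        (natDegree_le_of_degree_le (mem_degreeLE.1 h2)) (indep P hP he hvL hv0)
    have hmem := mem_ramMaps P hP he hvL hv0 hW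
    exact ⟨_, hsub.eq_singleton_of_mem hmem⟩

end main

end Groth.Agent.Lib.Helper6.RamC
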