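import Mathlib
import Groth.Agent.Lib.Helper6.RamB

set_option autoImplicit false

namespace Groth.Agent.Lib.Helper6.RamD

open Polynomial W4c1limliniiii Groth.Agent.Lib.Helper6.RamA Groth.Agent.Lib.Helper6.RamB

universe u
variable {k : Type u} [Field k]

/-- explicit form of the Wronskian when the first argument is divisible by `(X-a)^(r+1)` -/
lemma wronskian_pow_mul (a : k) (r : ℕ) (s₁ t : k[X]) :
    wronskian ((X - C a) ^ (r + 1) * s₁) t
      = (X - C a) ^ r * ((X - C a) * (s₁ * derivative t - derivative s₁ * t)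
        - C ((r + 1 : ℕ) : k) * s₁ * t) := by
  simp only [wronskian, derivative_mul, derivative_X_sub_C_pow, Nat.add_sub_cancel]
  ring

/-- exact order of the Wronskian at a point where `t` does not vanish -/
lemma not_dvd_wronskian (a : k) (r : ℕ) (s t : k[X]) (hs0 : s ≠ 0)
    (hr : rootMultiplicity a s = r + 1) (hrk : ((r + 1 : ℕ) : k) ≠ 0) (ht : t.eval a ≠ 0) :
    ¬ (X - C a) ^ (r + 1) ∣ wronskian s t := by
  obtain ⟨s₁, hs₁, hnd⟩ := exists_eq_pow_rootMultiplicity_mul_and_not_dvd s hs0 a
  rw [hr] at hs₁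
  have hs₁a : s₁.eval a ≠ 0 := fun h => hnd (dvd_iff_isRoot.2 h)
  intro hdvd
  rw [hs₁, wronskian_pow_mul, pow_succ] at hdvd
  have h2 := (mul_dvd_mul_iff_left (pow_ne_zero r (X_sub_C_ne_zero a))).1 hdvd
  rw [dvd_iff_isRoot, IsRoot.def] at h2
  simp only [eval_sub, eval_mul, eval_X, eval_C, sub_self, zero_mul, zero_sub, neg_eq_zero] at h2
  exact (mul_ne_zero (mul_ne_zero hrk hs₁a) ht) h2

/-- basis change at a root -/
lemma exists_basis_change_root (F G s : k[X]) (a : k)
    (hs : s ∈ Submodule.span k ({F, G} : Set k[X])) (hs0 : s ≠ 0) (hsa : s.eval a = 0)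
    (hbp : F.eval a ≠ 0 ∨ G.eval a ≠ 0) :
    ∃ t ∈ Submodule.span k ({F, G} : Set k[X]), ∃ c : k, c ≠ 0 ∧
      wronskian s t = C c * wronskian F G ∧ t.eval a ≠ 0 := by
  obtain ⟨α, β, rfl⟩ := Submodule.mem_span_pair.1 hs
  have mF : F ∈ Submodule.span k ({F, G} : Set k[X]) :=
    Submodule.subset_span (Set.mem_insert _ _)
  have mG : G ∈ Submodule.span k ({F, G} : Set k[X]) :=
    Submodule.subset_span (Set.mem_insert_of_mem _ rfl)
  rw [eval_add, eval_smul, eval_smul, smul_eq_mul, smul_eq_mul] at hsa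
  by_cases hα : α = 0
  · have hβ : β ≠ 0 := by
      rintro rfl; apply hs0; rw [hα, zero_smul, zero_smul, add_zero]
    rw [hα, zero_mul, zero_add] at hsa
    have hGa : G.eval a = 0 := (mul_eq_zero.1 hsa).resolve_left hβ
    have hFa : F.eval a ≠ 0 := hbp.resolve_right (not_not.2 hGa)
    refine ⟨F, mF, -β, neg_ne_zero.2 hβ, ?_, hFa⟩
    have := wronskian_comb F G α β 1 0
    rw [one_smul, zero_smul, add_zero] at this
    rw [this, hα]; ring_nf
  · have hGa : G.eval a ≠ 0 := by
      intro hGa
      rw [hGa, mul_zero, add_zero] at hsa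
      have hFa : F.eval a = 0 := (mul_eq_zero.1 hsa).resolve_left hα
      rcases hbp with h | h
      · exact h hFa
      · exact h hGa
    refine ⟨G, mG, α, hα, ?_, hGa⟩
    have := wronskian_comb F G α β 0 1
    rw [one_smul, zero_smul, zero_add] at this
    rw [this]; ring_nf

/-- the order of the Wronskian of a pencil at a point without base point, from a member of exact
(tame) order `r + 1` -/
lemma order_wronskian (F G s : k[X]) (a : k) (r : ℕ)
    (hs : s ∈ Submodule.span k ({F, G} : Set k[X])) (hs0 : s ≠ 0)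
    (hr : rootMultiplicity a s = r + 1) (hrk : ((r + 1 : ℕ) : k) ≠ 0)
    (hbp : F.eval a ≠ 0 ∨ G.eval a ≠ 0) :
    (X - C a) ^ r ∣ wronskian F G ∧ ¬ (X - C a) ^ (r + 1) ∣ wronskian F G := by
  have hsa : s.eval a = 0 := (rootMultiplicity_pos hs0).1 (by omega)
  obtain ⟨t, -, c, hc, hW, hta⟩ := exists_basis_change_root F G s a hs hs0 hsa hbp
  have hdvd : (X - C a) ^ (r + 1) ∣ s := by rw [← hr]; exact pow_rootMultiplicity_dvd s a
  have hWeq : wronskian F G = C c⁻¹ * wronskian s t := by
    rw [hW, ← mul_assoc, ← C_mul, inv_mul_cancel₀ hc, C_1, one_mul]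
  refine ⟨?_, ?_⟩
  · have := dvd_wronskian a (r + 1) 0 s t hdvd (by simp)
    rw [Nat.add_zero, Nat.add_sub_cancel] at this
    rw [hWeq]; exact dvd_mul_of_dvd_right this _
  · intro hcon
    apply not_dvd_wronskian a r s t hs0 hr hrk hta
    rw [hW]; exact dvd_mul_of_dvd_right hcon _

lemma indep_of_natDegree_ne (F G : k[X]) (hF0 : F ≠ 0) (hG0 : G ≠ 0)
    (hne : F.natDegree ≠ G.natDegree) : LinearIndependent k ![F, G] := by
  rw [LinearIndependent.pair_iff]
  intro α β hαβ
  have hα : α = 0 := by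
    by_contra hα
    have hF : F = C (-(β / α)) * G := by
      have : α • F = -(β • G) := eq_neg_of_add_eq_zero_left hαβ
      have h2 : F = α⁻¹ • (α • F) := by rw [smul_smul, inv_mul_cancel₀ hα, one_smul]
      rw [h2, this, smul_neg, smul_smul, ← neg_smul, smul_eq_C_mul]
      congr 2
      field_simp
    by_cases hc : -(β / α) = 0
    · rw [hc, C_0, zero_mul] at hF; exact hF0 hF
    · apply hne
      rw [hF, natDegree_C_mul hc]
  refine ⟨hα, ?_⟩
  rw [hα, zero_smul, zero_add] at hαβ
  exact (smul_eq_zero.1 hαβ).resolve_right hG0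

lemma finrank_span_pair (F G : k[X]) (hli : LinearIndependent k ![F, G]) :
    Module.finrank k (Submodule.span k ({F, G} : Set k[X])) = 2 := by
  have := finrank_span_eq_card hli
  rw [range_pair] at this
  rw [this]; simp

/-- degree of a combination when the first polynomial has larger degree -/
lemma natDegree_comb (F G : k[X]) (α β : k) (hα : α ≠ 0) (hlt : G.natDegree < F.natDegree) :
    (α • F + β • G).natDegree = F.natDegree := by
  have h1 : (α • F).natDegree = F.natDegree := by rw [smul_eq_C_mul, natDegree_C_mul hα]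
  have h2 : (β • G).natDegree ≤ G.natDegree := natDegree_smul_le β G
  rw [natDegree_add_eq_left_of_natDegree_lt (by omega), h1]

theorem main920 (k : Type u) [Field k] [IsAlgClosed k] (p : ℕ) [Fact p.Prime] [CharP k p]
    (d n : ℕ) (P : Fin n → k) (e : Fin n → ℕ) (E : ℕ)
    (he : W4c1limliniiii.Admissible p d (Fin.cons E e : Fin (n + 1) → ℕ))
    (hlt : ∀ i, e i < p) (hE : p < E) :
    {V : Submodule k k[X] | V ∈ W4c1limliniiii.ramMaps d P e ∧
        W4c1limliniiii.HasRamIdxInf d V E} = ∅ ∨
      {V : Submodule k k[X] | V ∈ W4c1limliniiii.ramMaps d P e ∧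
        W4c1limliniiii.HasRamIdxInf d V E}.Infinite := by
  by_cases hempty : {V : Submodule k k[X] | V ∈ W4c1limliniiii.ramMaps d P e ∧
        W4c1limliniiii.HasRamIdxInf d V E} = ∅
  · exact Or.inl hempty
  right
  obtain ⟨V, hV⟩ := Set.nonempty_iff_ne_empty.2 hempty
  obtain ⟨⟨⟨hVd, hV2, ⟨F, hFV, hFd⟩, hbpf⟩, hsep, hram⟩, ⟨G, hGV, hG0, hGd⟩, hinf⟩ := hV
  have hp2 : 2 ≤ p := (Fact.out : p.Prime).two_le
  have hE' := he.1 0
  rw [Fin.cons_zero] at hE'
  have he' : ∀ i, 2 ≤ e i ∧ e i ≤ d := fun i => by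
    have := he.1 i.succ
    rw [Fin.cons_succ] at this
    exact ⟨this.1, this.2.1⟩
  have hGd' : G.natDegree + E = d := le_antisymm hGd (hinf G hGV hG0)
  have hF0 : F ≠ 0 := by rintro rfl; rw [natDegree_zero] at hFd; omega
  have hliFG : LinearIndependent k ![F, G] := indep_of_natDegree_ne F G hF0 hG0 (by omega)
  haveI : FiniteDimensional k V := Module.finite_of_finrank_pos (by omega)
  have hspan : Submodule.span k ({F, G} : Set k[X]) = V := by
    have hle : Submodule.span k ({F, G} : Set k[X]) ≤ V := by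
      rw [Submodule.span_le]
      rintro x (rfl | rfl)
      · exact hFV
      · exact hGV
    exact Submodule.eq_of_le_of_finrank_le hle (by rw [finrank_span_pair F G hliFG, hV2])
  have hW : wronskian F G ≠ 0 := wronskian_ne_zero_of_isSeparable F G (by rw [hspan]; exact hsep)
  have hbp : ∀ a : k, F.eval a ≠ 0 ∨ G.eval a ≠ 0 := by
    intro a
    obtain ⟨s, hs, hsa⟩ := hbpf a
    rw [← hspan] at hs
    obtain ⟨α, β, rfl⟩ := Submodule.mem_span_pair.1 hs
    by_contra hcon
    push Not at hcon
    apply hsa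
    rw [eval_add, eval_smul, eval_smul, hcon.1, hcon.2, smul_zero, smul_zero, add_zero]
  -- the family
  set Fc : k → k[X] := fun c => F + C c * (G * X ^ p) with hFc
  have hGXd : ∀ c : k, (C c * (G * X ^ p)).natDegree < d := by
    intro c
    calc (C c * (G * X ^ p)).natDegree ≤ (G * X ^ p).natDegree := natDegree_C_mul_le _ _
      _ ≤ G.natDegree + (X ^ p : k[X]).natDegree := natDegree_mul_le
      _ < d := by rw [natDegree_X_pow]; omega
  have hFcd : ∀ c, (Fc c).natDegree = d := by
    intro c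
    rw [hFc]
    show (F + C c * (G * X ^ p)).natDegree = d
    rw [natDegree_add_eq_left_of_natDegree_lt (by rw [hFd]; exact hGXd c), hFd]
  have hFc0 : ∀ c, Fc c ≠ 0 := by
    intro c h0; have := hFcd c; rw [h0, natDegree_zero] at this; omega
  have hWc : ∀ c, wronskian (Fc c) G = wronskian F G := by
    intro c
    have hpk : ((p : ℕ) : k) = 0 := CharP.cast_eq_zero k p
    show wronskian (F + C c * (G * X ^ p)) G = wronskian F G
    simp only [wronskian, derivative_add, derivative_mul, derivative_C, derivative_X_pow, hpk, C_0]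
    ring
  have hli : ∀ c, LinearIndependent k ![Fc c, G] := fun c =>
    indep_of_natDegree_ne (Fc c) G (hFc0 c) hG0 (by rw [hFcd]; omega)
  have hbpc : ∀ c (a : k), (Fc c).eval a ≠ 0 ∨ G.eval a ≠ 0 := by
    intro c a
    by_cases hGa : G.eval a = 0
    · left
      show (F + C c * (G * X ^ p)).eval a ≠ 0
      rw [eval_add, eval_mul, eval_mul, hGa, zero_mul, mul_zero, add_zero]
      exact (hbp a).resolve_right (not_not.2 hGa)
    · exact Or.inr hGa
  have mFc : ∀ c, Fc c ∈ Submodule.span k ({Fc c, G} : Set k[X]) := fun c =>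
    Submodule.subset_span (Set.mem_insert _ _)
  have mGc : ∀ c, G ∈ Submodule.span k ({Fc c, G} : Set k[X]) := fun c =>
    Submodule.subset_span (Set.mem_insert_of_mem _ rfl)
  have hmem : ∀ c : k, Submodule.span k ({Fc c, G} : Set k[X]) ∈
      {V : Submodule k k[X] | V ∈ W4c1limliniiii.ramMaps d P e ∧
        W4c1limliniiii.HasRamIdxInf d V E} := by
    intro c
    refine ⟨⟨⟨?_, finrank_span_pair _ _ (hli c), ⟨Fc c, mFc c, hFcd c⟩, ?_⟩,
      ⟨Fc c, mFc c, G, mGc c, by rw [hWc]; exact hW⟩, ?_⟩, ⟨G, mGc c, hG0, hGd⟩, ?_⟩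
    · rw [Submodule.span_le]
      rintro x (rfl | rfl)
      · rw [SetLike.mem_coe, mem_degreeLE]
        exact degree_le_of_natDegree_le (hFcd c).le
      · exact hVd hGV
    · intro a
      rcases hbpc c a with h | h
      · exact ⟨Fc c, mFc c, h⟩
      · exact ⟨G, mGc c, h⟩
    · -- ramification at P i
      intro i
      obtain ⟨⟨s₀, hs₀V, hs₀0, hs₀e⟩, hmax⟩ := hram i
      obtain ⟨r, hr⟩ : ∃ r, e i = r + 1 := ⟨e i - 1, by have := (he' i).1; omega⟩
      have hrk : ∀ r' : ℕ, r' + 1 < p → ((r' + 1 : ℕ) : k) ≠ 0 := by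
        intro r' hr' h0
        rw [CharP.cast_eq_zero_iff k p] at h0
        have := Nat.le_of_dvd (Nat.succ_pos r') h0
        omega
      have hrm₀ : rootMultiplicity (P i) s₀ = r + 1 := by
        have := hmax s₀ hs₀V hs₀0; omega
      have hord := order_wronskian F G s₀ (P i) r (by rw [hspan]; exact hs₀V) hs₀0 hrm₀
        (hrk r (by have := hlt i; omega)) (hbp (P i))
      refine ⟨?_, ?_⟩
      · -- existence
        obtain ⟨s, hsV, hs0, hsa⟩ : ∃ s ∈ Submodule.span k ({Fc c, G} : Set k[X]), s ≠ 0 ∧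
            s.eval (P i) = 0 := by
          by_cases hGa : G.eval (P i) = 0
          · exact ⟨G, mGc c, hG0, hGa⟩
          · refine ⟨(1 : k) • Fc c + (-((Fc c).eval (P i) / G.eval (P i))) • G,
              Submodule.mem_span_pair.2 ⟨_, _, rfl⟩, ?_, ?_⟩
            · intro h0
              have := (LinearIndependent.pair_iff.1 (hli c)) _ _ h0
              exact one_ne_zero this.1
            · rw [eval_add, eval_smul, eval_smul, smul_eq_mul, smul_eq_mul, one_mul, neg_mul,
                div_mul_cancel₀ _ hGa, add_neg_cancel]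
        have hpos : 0 < rootMultiplicity (P i) s := (rootMultiplicity_pos hs0).2 hsa
        refine ⟨s, hsV, hs0, ?_⟩
        by_contra hcon
        push Not at hcon
        obtain ⟨r', hr'⟩ : ∃ r', rootMultiplicity (P i) s = r' + 1 :=
          ⟨rootMultiplicity (P i) s - 1, by omega⟩
        have hord' := order_wronskian (Fc c) G s (P i) r' hsV hs0 hr'
          (hrk r' (by have := hlt i; omega)) (hbpc c (P i))
        rw [hWc] at hord'
        exact hord'.2 (dvd_trans (pow_dvd_pow _ (by omega)) hord.1)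
      · -- upper bound
        intro s hsV hs0
        by_contra hcon
        push Not at hcon
        have hdvd : (X - C (P i)) ^ (r + 2) ∣ s :=
          (le_rootMultiplicity_iff hs0).1 (by omega)
        have hsa : s.eval (P i) = 0 := (rootMultiplicity_pos hs0).1 (by omega)
        obtain ⟨t, -, c', hc', hWst, -⟩ :=
          exists_basis_change_root (Fc c) G s (P i) hsV hs0 hsa (hbpc c (P i))
        have := dvd_wronskian (P i) (r + 2) 0 s t hdvd (by simp)
        rw [hWst, hWc, Nat.add_zero, show r + 2 - 1 = r + 1 by omega] at this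
        apply hord.2
        have hWeq : wronskian F G = C c'⁻¹ * (C c' * wronskian F G) := by
          rw [← mul_assoc, ← C_mul, inv_mul_cancel₀ hc', C_1, one_mul]
        rw [hWeq]; exact dvd_mul_of_dvd_right this _
    · -- at infinity
      intro s hsV hs0
      obtain ⟨α, β, rfl⟩ := Submodule.mem_span_pair.1 hsV
      by_cases hα : α = 0
      · rw [hα, zero_smul, zero_add] at hs0 ⊢
        have hβ : β ≠ 0 := by rintro rfl; exact hs0 (zero_smul _ _)
        rw [smul_eq_C_mul, natDegree_C_mul hβ]; omega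
      · rw [natDegree_comb (Fc c) G α β hα (by rw [hFcd]; omega), hFcd]; omega
  refine Set.infinite_of_injective_forall_mem (f := fun c : k =>
    Submodule.span k ({Fc c, G} : Set k[X])) ?_ hmem
  intro c c' hcc
  have hcc' : Submodule.span k ({Fc c, G} : Set k[X]) = Submodule.span k ({Fc c', G} : Set k[X]) :=
    hcc
  have hm : Fc c' ∈ Submodule.span k ({Fc c, G} : Set k[X]) := by rw [hcc']; exact mFc c'
  obtain ⟨α, β, hαβ⟩ := Submodule.mem_span_pair.1 hm
  have hdiff : (α - 1) • Fc c + β • G = C (c' - c) * (G * X ^ p) := by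
    have : Fc c' - Fc c = C (c' - c) * (G * X ^ p) := by
      show (F + C c' * (G * X ^ p)) - (F + C c * (G * X ^ p)) = _
      rw [C_sub]; ring
    rw [← this, ← hαβ, sub_smul, one_smul]; ring
  have hα1 : α - 1 = 0 := by
    by_contra hne
    have h1 := natDegree_comb (Fc c) G (α - 1) β hne (by rw [hFcd]; omega)
    rw [hdiff, hFcd] at h1
    have := hGXd (c' - c)
    omega
  rw [hα1, zero_smul, zero_add] at hdiff
  have h3 : G * (C β - C (c' - c) * X ^ p) = 0 := by
    rw [smul_eq_C_mul] at hdiff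
    linear_combination hdiff
  have h4 := (mul_eq_zero.1 h3).resolve_left hG0
  have h5 := congrArg (fun f : k[X] => f.coeff p) h4
  simp only [coeff_sub, coeff_C_mul, coeff_X_pow, coeff_C, coeff_zero] at h5
  have hp0 : p ≠ 0 := by omega
  simp only [if_true, if_neg hp0, mul_one, zero_sub, neg_eq_zero] at h5
  exact (sub_eq_zero.1 h5).symm

end Groth.Agent.Lib.Helper6.RamD
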