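import Mathlib

set_option autoImplicit false

namespace Groth.Agent.Lib.Helper6.WHFinite

open MvPolynomial

universe u v
variable {k : Type u} [Field k] {σ : Type v} [Fintype σ] [DecidableEq σ]

/-- weighted homogeneous component of a product with a weighted homogeneous polynomial -/
lemma comp_mul (w : σ → ℕ) (g Ψ : MvPolynomial σ k) (δ n : ℕ)
    (hΨ : IsWeightedHomogeneous w Ψ δ) :
    weightedHomogeneousComponent w n (g * Ψ)
      = (if δ ≤ n then weightedHomogeneousComponent w (n - δ) g else 0) * Ψ := by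
  classical
  by_cases hδ : δ ≤ n
  · rw [if_pos hδ]
    ext d
    rw [coeff_weightedHomogeneousComponent, coeff_mul, coeff_mul]
    by_cases hd : Finsupp.weight w d = n
    · rw [if_pos hd]
      apply Finset.sum_congr rfl
      intro x hx
      rw [coeff_weightedHomogeneousComponent]
      by_cases hb : coeff x.2 Ψ = 0
      · rw [hb, mul_zero, mul_zero]
      · have hw2 := hΨ hb
        have hxd : x.1 + x.2 = d := Finset.HasAntidiagonal.mem_antidiagonal.1 hx
        have h3 : Finsupp.weight w x.1 + Finsupp.weight w x.2 = Finsupp.weight w d := by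
          rw [← map_add, hxd]
        rw [if_pos (by omega)]
    · rw [if_neg hd]
      symm
      apply Finset.sum_eq_zero
      intro x hx
      rw [coeff_weightedHomogeneousComponent]
      by_cases hb : coeff x.2 Ψ = 0
      · rw [hb, mul_zero]
      · have hw2 := hΨ hb
        have hxd : x.1 + x.2 = d := Finset.HasAntidiagonal.mem_antidiagonal.1 hx
        have h3 : Finsupp.weight w x.1 + Finsupp.weight w x.2 = Finsupp.weight w d := by
          rw [← map_add, hxd]
        rw [if_neg (by omega), zero_mul]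
  · rw [if_neg hδ, zero_mul]
    ext d
    rw [coeff_weightedHomogeneousComponent, coeff_zero]
    split_ifs with hd
    · rw [coeff_mul]
      apply Finset.sum_eq_zero
      intro x hx
      by_cases hb : coeff x.2 Ψ = 0
      · rw [hb, mul_zero]
      · exfalso
        have hw2 := hΨ hb
        have hxd : x.1 + x.2 = d := Finset.HasAntidiagonal.mem_antidiagonal.1 hx
        have h3 : Finsupp.weight w x.1 + Finsupp.weight w x.2 = Finsupp.weight w d := by
          rw [← map_add, hxd]
        omega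
    · rfl

lemma exists_homog_rep {τ : Type*} [Fintype τ] (w : σ → ℕ) (Ψ : τ → MvPolynomial σ k) (δ : τ → ℕ)
    (hΨ : ∀ l, IsWeightedHomogeneous w (Ψ l) (δ l)) (q : MvPolynomial σ k) (n : ℕ)
    (hq : IsWeightedHomogeneous w q n) (hqI : q ∈ Ideal.span (Set.range Ψ)) :
    ∃ h : τ → MvPolynomial σ k, (∀ l, δ l ≤ n → IsWeightedHomogeneous w (h l) (n - δ l)) ∧
      (∀ l, ¬ δ l ≤ n → h l = 0) ∧ q = ∑ l, h l * Ψ l := by
  classical
  obtain ⟨g, hg⟩ := (Ideal.mem_span_range_iff_exists_fun).1 hqI
  refine ⟨fun l => if δ l ≤ n then weightedHomogeneousComponent w (n - δ l) (g l) else 0,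
    ?_, ?_, ?_⟩
  · intro l hl
    simp only [if_pos hl]
    exact weightedHomogeneousComponent_isWeightedHomogeneous _ _
  · intro l hl
    simp only [if_neg hl]
  · have h1 : weightedHomogeneousComponent w n q = q := weightedHomogeneousComponent_eq_self hq
    rw [← h1, ← hg, map_sum]
    apply Finset.sum_congr rfl
    intro l _
    exact comp_mul w (g l) (Ψ l) (δ l) n (hΨ l)

lemma mem_of_monomials (w : σ → ℕ) (T : Submodule k (MvPolynomial σ k)) (q : MvPolynomial σ k)
    (n : ℕ) (hq : IsWeightedHomogeneous w q n)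
    (hT : ∀ β : σ →₀ ℕ, Finsupp.weight w β = n → monomial β (1 : k) ∈ T) : q ∈ T := by
  rw [q.as_sum]
  apply Submodule.sum_mem
  intro β hβ
  have hc : coeff β q ≠ 0 := by rwa [mem_support_iff] at hβ
  have h2 : monomial β (coeff β q) = coeff β q • monomial β (1 : k) := by
    rw [smul_monomial, smul_eq_mul, mul_one]
  rw [h2]
  exact T.smul_mem _ (hT β (hq hc))

lemma monomial_mem {τ : Type*} [Fintype τ] (w : σ → ℕ) (Ψ : τ → MvPolynomial σ k) (δ : τ → ℕ)
    (hδ : ∀ l, 0 < δ l) (hΨ : ∀ l, IsWeightedHomogeneous w (Ψ l) (δ l)) (c : τ → k) (M : ℕ)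
    (hM : ∀ i, (X i : MvPolynomial σ k) ^ M ∈ Ideal.span (Set.range Ψ))
    (T : Submodule k (MvPolynomial σ k))
    (hTbox : ∀ β : σ →₀ ℕ, (∀ i, β i < M) → monomial β (1 : k) ∈ T)
    (hTJ : ∀ (q : MvPolynomial σ k) (l : τ), q * (Ψ l - C (c l)) ∈ T) :
    ∀ n : ℕ, ∀ d : σ →₀ ℕ, Finsupp.weight w d = n → monomial d (1 : k) ∈ T := by
  intro n
  induction n using Nat.strong_induction_on with
  | _ n ih =>
    intro d hd
    by_cases hbox : ∀ i, d i < M
    · exact hTbox d hbox
    · push Not at hbox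
      obtain ⟨i, hi⟩ := hbox
      obtain ⟨d', hd'⟩ : ∃ d', d' = d - Finsupp.single i M := ⟨_, rfl⟩
      have hle : Finsupp.single i M ≤ d := by
        rw [Finsupp.single_le_iff]
        exact hi
      have hdd : d = d' + Finsupp.single i M := by
        rw [hd', tsub_add_cancel_of_le hle]
      have hmono : monomial d (1 : k) = monomial d' 1 * X i ^ M := by
        rw [X_pow_eq_monomial, monomial_mul, ← hdd, one_mul]
      have hwt : Finsupp.weight w d = Finsupp.weight w d' + M * w i := by
        rw [hdd, map_add]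
        congr 1
        simp [Finsupp.weight_apply]
      have hX : IsWeightedHomogeneous w ((X i : MvPolynomial σ k) ^ M) (M * w i) := by
        have := (isWeightedHomogeneous_X k w i).pow M
        simpa using this
      obtain ⟨h, hh1, hh2, hrep⟩ := exists_homog_rep w Ψ δ hΨ _ _ hX (hM i)
      rw [hmono, hrep, Finset.mul_sum]
      apply Submodule.sum_mem
      intro l _
      have h3 : monomial d' (1 : k) * (h l * Ψ l)
          = (monomial d' 1 * h l) * (Ψ l - C (c l)) + c l • (monomial d' 1 * h l) := by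
        rw [smul_eq_C_mul]; ring
      rw [h3]
      apply T.add_mem (hTJ _ l)
      apply T.smul_mem
      by_cases hl : δ l ≤ M * w i
      · apply mem_of_monomials w T _ (Finsupp.weight w d' + (M * w i - δ l))
          ((isWeightedHomogeneous_monomial w d' 1 rfl).mul (hh1 l hl))
        intro β hβ
        have := hδ l
        exact ih _ (by omega) β hβ
      · rw [hh2 l hl, mul_zero]
        exact T.zero_mem

theorem finite_fiber [IsAlgClosed k] {τ : Type*} [Fintype τ] (w : σ → ℕ)
    (Ψ : τ → MvPolynomial σ k) (δ : τ → ℕ) (hδ : ∀ l, 0 < δ l)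
    (hΨ : ∀ l, IsWeightedHomogeneous w (Ψ l) (δ l))
    (h0 : ∀ z : σ → k, (∀ l, eval z (Ψ l) = 0) → z = 0) (c : τ → k) :
    {z : σ → k | ∀ l, eval z (Ψ l) = c l}.Finite := by
  classical
  obtain ⟨I, hI⟩ : ∃ I, I = Ideal.span (Set.range Ψ) := ⟨_, rfl⟩
  have hrad : ∀ i, ∃ m, (X i : MvPolynomial σ k) ^ m ∈ I := by
    intro i
    have h1 : (X i : MvPolynomial σ k) ∈ vanishingIdeal k (zeroLocus k I) := by
      rw [mem_vanishingIdeal_iff]
      intro x hx
      rw [mem_zeroLocus_iff] at hx
      have hx0 : x = 0 := by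
        apply h0
        intro l
        have := hx (Ψ l) (by rw [hI]; exact Ideal.subset_span ⟨l, rfl⟩)
        simpa using this
      rw [hx0]
      simp
    rw [vanishingIdeal_zeroLocus_eq_radical] at h1
    exact Ideal.mem_radical_iff.1 h1
  choose Mi hMi using hrad
  obtain ⟨M, hMdef⟩ : ∃ M, M = Finset.univ.sup Mi := ⟨_, rfl⟩
  have hM : ∀ i, (X i : MvPolynomial σ k) ^ M ∈ Ideal.span (Set.range Ψ) := by
    intro i
    have hle : Mi i ≤ M := by rw [hMdef]; exact Finset.le_sup (Finset.mem_univ i)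
    have : (X i : MvPolynomial σ k) ^ M = X i ^ (M - Mi i) * X i ^ (Mi i) := by
      rw [← pow_add]; congr 1; omega
    rw [this, ← hI]
    exact I.mul_mem_left _ (hMi i)
  obtain ⟨J, hJ⟩ : ∃ J, J = Ideal.span (Set.range fun l => Ψ l - C (c l)) := ⟨_, rfl⟩
  obtain ⟨B, hB⟩ : ∃ B : Set (MvPolynomial σ k), B = Set.range (fun f : σ → Fin M =>
      monomial (Finsupp.equivFunOnFinite.symm (fun i => ((f i : Fin M) : ℕ))) (1 : k)) := ⟨_, rfl⟩
  have hBfin : B.Finite := by rw [hB]; exact Set.finite_range _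
  obtain ⟨T, hT⟩ : ∃ T, T = Submodule.span k B ⊔ J.restrictScalars k := ⟨_, rfl⟩
  have hTbox : ∀ β : σ →₀ ℕ, (∀ i, β i < M) → monomial β (1 : k) ∈ T := by
    intro β hβ
    rw [hT]
    apply Submodule.mem_sup_left
    apply Submodule.subset_span
    rw [hB]
    refine ⟨fun i => ⟨β i, hβ i⟩, ?_⟩
    congr 1
    ext i
    simp
  have hTJ : ∀ (q : MvPolynomial σ k) (l : τ), q * (Ψ l - C (c l)) ∈ T := by
    intro q l
    rw [hT]
    apply Submodule.mem_sup_right
    rw [Submodule.restrictScalars_mem, hJ]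
    exact Ideal.mul_mem_left _ q (Ideal.subset_span ⟨l, rfl⟩)
  have hmon := monomial_mem w Ψ δ hδ hΨ c M hM T hTbox hTJ
  have htop : ∀ q : MvPolynomial σ k, q ∈ T := by
    intro q
    rw [q.as_sum]
    apply Submodule.sum_mem
    intro β _
    have h2 : monomial β (coeff β q) = coeff β q • monomial β (1 : k) := by
      rw [smul_monomial, smul_eq_mul, mul_one]
    rw [h2]
    exact T.smul_mem _ (hmon _ β rfl)
  haveI : Module.Finite k (Submodule.span k B) := Module.Finite.span_of_finite k hBfin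
  haveI : Module.Finite k (MvPolynomial σ k ⧸ J) := by
    refine Module.Finite.of_surjective
      ((Ideal.Quotient.mkₐ k J).toLinearMap ∘ₗ (Submodule.span k B).subtype) ?_
    intro y
    obtain ⟨q, rfl⟩ := Ideal.Quotient.mk_surjective y
    have hq := htop q
    rw [hT, Submodule.mem_sup] at hq
    obtain ⟨e, he, j, hj, rfl⟩ := hq
    refine ⟨⟨e, he⟩, ?_⟩
    simp only [LinearMap.coe_comp, Function.comp_apply, Submodule.subtype_apply,
      AlgHom.toLinearMap_apply, Ideal.Quotient.mkₐ_eq_mk, map_add]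
    rw [Submodule.restrictScalars_mem] at hj
    rw [Ideal.Quotient.eq_zero_iff_mem.2 hj, add_zero]
  haveI : Finite ((MvPolynomial σ k ⧸ J) →ₐ[k] k) := Finite.algHom k _ k
  have hker : ∀ z : σ → k, (∀ l, eval z (Ψ l) = c l) →
      ∀ a : MvPolynomial σ k, a ∈ J → (aeval z : MvPolynomial σ k →ₐ[k] k) a = 0 := by
    intro z hz a ha
    have hle : J ≤ RingHom.ker (aeval z : MvPolynomial σ k →ₐ[k] k) := by
      rw [hJ, Ideal.span_le]
      rintro _ ⟨l, rfl⟩
      simp only [SetLike.mem_coe, RingHom.mem_ker, map_sub, aeval_C]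
      rw [sub_eq_zero]
      have h5 : (aeval z : MvPolynomial σ k →ₐ[k] k) (Ψ l) = eval z (Ψ l) := by
        rw [← coe_aeval_eq_eval]; rfl
      rw [h5, hz l]; rfl
    exact hle ha
  let φ : {z : σ → k | ∀ l, eval z (Ψ l) = c l} → ((MvPolynomial σ k ⧸ J) →ₐ[k] k) :=
    fun z => Ideal.Quotient.liftₐ J (aeval z.1) (hker z.1 z.2)
  have hinj : Function.Injective φ := by
    intro z z' hzz
    apply Subtype.ext
    funext i
    have h1 : φ z (Ideal.Quotient.mk J (X i)) = z.1 i := by
      simp [φ]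
    have h2 : φ z' (Ideal.Quotient.mk J (X i)) = z'.1 i := by
      simp [φ]
    rw [← h1, ← h2, hzz]
  exact Set.finite_coe_iff.1 (Finite.of_injective φ hinj)

end Groth.Agent.Lib.Helper6.WHFinite
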