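import Mathlib
import Groth.Agent.Lib.Helper6.RamD
import Groth.Agent.Lib.Helper6.WHFinite

set_option autoImplicit false

namespace Groth.Agent.Lib.Helper6.RamE

open Polynomial W4c1limliniiii Groth.Agent.Lib.Helper6.RamA Groth.Agent.Lib.Helper6.RamB
  Groth.Agent.Lib.Helper6.RamD

universe u
variable {k : Type u} [Field k]

/-- coefficients of a Wronskian -/
lemma coeff_wronskian (F G : k[X]) (l : ℕ) :
    (wronskian F G).coeff l
      = ∑ x ∈ Finset.HasAntidiagonal.antidiagonal (l + 1),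
          ((x.2 : k) - (x.1 : k)) * F.coeff x.1 * G.coeff x.2 := by
  have h1 : ∑ x ∈ Finset.HasAntidiagonal.antidiagonal (l + 1), (x.2 : k) * F.coeff x.1 * G.coeff x.2
      = (F * derivative G).coeff l := by
    rw [Finset.Nat.sum_antidiagonal_succ', coeff_mul]
    simp only [Nat.cast_zero, zero_mul, zero_add]
    apply Finset.sum_congr rfl
    intro x _
    rw [coeff_derivative]
    push_cast
    ring
  have h2 : ∑ x ∈ Finset.HasAntidiagonal.antidiagonal (l + 1), (x.1 : k) * F.coeff x.1 * G.coeff x.2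
      = (derivative F * G).coeff l := by
    rw [Finset.Nat.sum_antidiagonal_succ, coeff_mul]
    simp only [Nat.cast_zero, zero_mul, zero_add]
    apply Finset.sum_congr rfl
    intro x _
    rw [coeff_derivative]
    push_cast
    ring
  rw [wronskian, coeff_sub, ← h1, ← h2, ← Finset.sum_sub_distrib]
  apply Finset.sum_congr rfl
  intro x _
  ring

/-- top coefficient of the Wronskian -/
lemma coeff_top (d : ℕ) (hd : 1 ≤ d) (F G : k[X]) (hF : F.natDegree ≤ d)
    (hG : G.natDegree ≤ d - 1) :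
    (wronskian F G).coeff (2 * d - 2) = - (F.coeff d * G.coeff (d - 1)) := by
  rw [coeff_wronskian]
  rw [Finset.sum_eq_single (d, d - 1)]
  · have : ((d - 1 : ℕ) : k) = (d : k) - 1 := by
      rw [Nat.cast_sub hd, Nat.cast_one]
    simp only [this]
    ring
  · intro x hx hne
    have hsum : x.1 + x.2 = 2 * d - 2 + 1 := Finset.HasAntidiagonal.mem_antidiagonal.1 hx
    by_cases h1 : d < x.1
    · rw [coeff_eq_zero_of_natDegree_lt (lt_of_le_of_lt hF h1)]; ring
    · have h2 : d - 1 < x.2 := by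
        by_contra h2
        apply hne
        ext <;> simp <;> omega
      rw [coeff_eq_zero_of_natDegree_lt (lt_of_le_of_lt hG h2)]; ring
  · intro h
    exfalso; apply h
    rw [Finset.HasAntidiagonal.mem_antidiagonal]; omega

lemma exists_order (p : k[X]) (hp : p ≠ 0) :
    ∃ (m : ℕ) (A : k[X]), p = X ^ m * A ∧ A.eval 0 ≠ 0 := by
  obtain ⟨A, hA, hnd⟩ := exists_eq_pow_rootMultiplicity_mul_and_not_dvd p hp 0
  rw [C_0, sub_zero] at hA hnd
  refine ⟨_, A, hA, ?_⟩
  intro h0
  apply hnd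
  rw [X_dvd_iff, coeff_zero_eq_eval_zero, h0]

lemma euler0 (t : ℕ) : (X : k[X]) * derivative (X ^ t) = C (t : k) * X ^ t := by
  cases t with
  | zero => simp
  | succ n =>
    rw [derivative_X_pow]
    simp only [Nat.add_one_sub_one]
    rw [pow_succ]
    ring

lemma wronskian_pow_pow (m n N : ℕ) (h : m + n = N + 1) (A B : k[X]) :
    wronskian (X ^ m * A) (X ^ n * B)
      = X ^ N * ((C (n : k) - C (m : k)) * A * B
          + X * (A * derivative B - derivative A * B)) := by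
  have e1 := euler0 (k := k) m
  have e2 := euler0 (k := k) n
  have hp : (X : k[X]) * X ^ N = X ^ m * X ^ n := by rw [← pow_succ', ← h, pow_add]
  have key : (X : k[X]) * wronskian (X ^ m * A) (X ^ n * B)
      = X * (X ^ N * ((C (n : k) - C (m : k)) * A * B
          + X * (A * derivative B - derivative A * B))) := by
    simp only [wronskian, derivative_mul]
    linear_combination (X ^ m * A * B) * e2 - (A * X ^ n * B) * e1
      + ((C (n : k) - C (m : k)) * A * B
        + X * (A * derivative B - derivative A * B)) * (-hp)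
  exact mul_left_cancel₀ X_ne_zero key

lemma cast_sub_ne_zero (p : ℕ) [CharP k p] (d : ℕ) (hp : p = 0 ∨ d < p) (x y : ℕ) (hx : x ≤ d)
    (hy : y ≤ d) (hxy : x ≠ y) : (x : k) - (y : k) ≠ 0 := by
  intro h
  apply hxy
  have h1 : (x : k) = (y : k) := sub_eq_zero.1 h
  rw [CharP.natCast_eq_natCast k p] at h1
  rcases hp with hp | hp
  · subst hp
    exact Nat.modEq_zero_iff.1 h1
  · unfold Nat.ModEq at h1
    rwa [Nat.mod_eq_of_lt (by omega), Nat.mod_eq_of_lt (by omega)] at h1

lemma wronskian_sub_smul (F G : k[X]) (c : k) : wronskian (F - c • G) G = wronskian F G := by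
  simp only [wronskian, smul_eq_C_mul, derivative_sub, derivative_C_mul]
  ring

lemma wronskian_sub_smul_right (F G : k[X]) (c : k) :
    wronskian F (G - c • F) = wronskian F G := by
  simp only [wronskian, smul_eq_C_mul, derivative_sub, derivative_C_mul]
  ring

lemma comb_monic (d : ℕ) (hd : 1 ≤ d) (F G : k[X]) (hF : F.Monic) (hFd : F.natDegree = d)
    (hGd : G.natDegree ≤ d - 1) (c : k) :
    (F - c • G).Monic ∧ (F - c • G).natDegree = d := by
  have hlt : (c • G).natDegree < F.natDegree := by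
    have := natDegree_smul_le c G
    omega
  refine ⟨hF.sub_of_left (degree_lt_degree hlt), ?_⟩
  rw [natDegree_sub_eq_left_of_natDegree_lt hlt, hFd]

/-- the zero fibre of the Wronski map on normalized pairs is trivial -/
lemma eq_pow_of_wronskian (p : ℕ) [CharP k p] (d : ℕ) (hd : 1 ≤ d) (hp : p = 0 ∨ d < p)
    (F G : k[X]) (hF : F.Monic) (hFd : F.natDegree = d) (hG : G.Monic)
    (hGd : G.natDegree = d - 1) (hF1 : F.coeff (d - 1) = 0)
    (hW : wronskian F G = - X ^ (2 * d - 2)) :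
    F = X ^ d ∧ G = X ^ (d - 1) := by
  have hG0 : G ≠ 0 := hG.ne_zero
  obtain ⟨b, B, hGB, hB0⟩ := exists_order G hG0
  have hcomb := comb_monic d hd F G hF hFd hGd.le
  obtain ⟨a, A, hFA, hA0⟩ := exists_order F hF.ne_zero
  have key : ∃ (c : k) (a' : ℕ) (A' : k[X]), F - c • G = X ^ a' * A' ∧ A'.eval 0 ≠ 0 ∧ a' ≠ b := by
    by_cases hab : a = b
    · obtain ⟨c, hc⟩ : ∃ c : k, c = A.eval 0 / B.eval 0 := ⟨_, rfl⟩
      have h1 : (A - c • B).eval 0 = 0 := by
        rw [eval_sub, eval_smul, smul_eq_mul, hc, div_mul_cancel₀ _ hB0, sub_self]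
      obtain ⟨A1, hA1⟩ : X ∣ (A - c • B) := by
        rw [X_dvd_iff, coeff_zero_eq_eval_zero]; exact h1
      have h2 : F - c • G = X ^ (a + 1) * A1 := by
        rw [pow_succ, mul_assoc, ← hA1]
        conv_lhs => rw [hFA, hGB, ← hab]
        rw [smul_eq_C_mul, smul_eq_C_mul]; ring
      have h3 : A1 ≠ 0 := by
        intro h0; rw [h0, mul_zero] at h2
        exact (hcomb c).1.ne_zero h2
      obtain ⟨m, A2, hA2, hA20⟩ := exists_order A1 h3
      exact ⟨c, a + 1 + m, A2, by rw [h2, hA2]; ring, hA20, by omega⟩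
    · exact ⟨0, a, A, by rw [zero_smul, sub_zero]; exact hFA, hA0, hab⟩
  obtain ⟨c, a', A', hFc, hA'0, hne⟩ := key
  have hWc : wronskian (F - c • G) G = - X ^ (2 * d - 2) := by
    rw [wronskian_sub_smul, hW]
  have ha'd : a' ≤ d := by
    have h1 : (X : k[X]) ^ a' ∣ F - c • G := ⟨A', hFc⟩
    have := natDegree_le_of_dvd h1 (hcomb c).1.ne_zero
    rw [natDegree_X_pow, (hcomb c).2] at this
    exact this
  have hbd : b ≤ d - 1 := by
    have h1 : (X : k[X]) ^ b ∣ G := ⟨B, hGB⟩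
    have := natDegree_le_of_dvd h1 hG0
    rw [natDegree_X_pow, hGd] at this
    exact this
  obtain ⟨N, hN⟩ : ∃ N, a' + b = N + 1 := ⟨a' + b - 1, by omega⟩
  have hW2 := wronskian_pow_pow a' b N hN A' B
  rw [← hFc, ← hGB, hWc] at hW2
  obtain ⟨Q, hQ⟩ : ∃ Q : k[X], Q = (C (b : k) - C (a' : k)) * A' * B
          + X * (A' * derivative B - derivative A' * B) := ⟨_, rfl⟩
  rw [← hQ] at hW2
  have hQ0 : Q.eval 0 ≠ 0 := by
    rw [hQ]
    simp only [eval_add, eval_mul, eval_sub, eval_C, eval_X, zero_mul, add_zero]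
    exact mul_ne_zero (mul_ne_zero (cast_sub_ne_zero p d hp b a' (by omega) ha'd (Ne.symm hne))
      hA'0) hB0
  have hNeq : N = 2 * d - 2 := by
    rcases lt_trichotomy N (2 * d - 2) with hlt | heq | hgt
    · exfalso
      obtain ⟨t, ht⟩ : ∃ t, 2 * d - 2 = N + (t + 1) := ⟨2 * d - 2 - N - 1, by omega⟩
      rw [ht, pow_add] at hW2
      have h5 : (X : k[X]) ^ N * (- X ^ (t + 1)) = X ^ N * Q := by rw [← hW2]; ring
      have h6 := mul_left_cancel₀ (pow_ne_zero N X_ne_zero) h5
      apply hQ0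
      rw [← h6]
      simp
    · exact heq
    · exfalso
      obtain ⟨t, ht⟩ : ∃ t, N = 2 * d - 2 + (t + 1) := ⟨N - (2 * d - 2) - 1, by omega⟩
      rw [ht, pow_add] at hW2
      have h5 : (X : k[X]) ^ (2 * d - 2) * (-1) = X ^ (2 * d - 2) * (X ^ (t + 1) * Q) := by
        rw [← mul_assoc, ← hW2]; ring
      have h6 := mul_left_cancel₀ (pow_ne_zero _ X_ne_zero) h5
      have h7 := congrArg (eval 0) h6
      simp at h7
  have ha' : a' = d := by omega
  have hb : b = d - 1 := by omega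
  have hGeq : G = X ^ (d - 1) := by
    apply eq_of_monic_of_dvd_of_natDegree_le (monic_X_pow _) hG
    · rw [← hb]; exact ⟨B, hGB⟩
    · rw [hGd, natDegree_X_pow]
  have hFceq : F - c • G = X ^ d := by
    apply eq_of_monic_of_dvd_of_natDegree_le (monic_X_pow _) (hcomb c).1
    · rw [← ha']; exact ⟨A', hFc⟩
    · rw [(hcomb c).2, natDegree_X_pow]
  have hc0 : c = 0 := by
    have hG1 : G.coeff (d - 1) = 1 := by rw [hGeq, coeff_X_pow, if_pos rfl]
    have hX : (X ^ d : k[X]).coeff (d - 1) = 0 := by rw [coeff_X_pow, if_neg (by omega)]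
    have h1 : (F - c • G).coeff (d - 1) = 0 := by rw [hFceq, hX]
    rw [coeff_sub, coeff_smul, smul_eq_mul, hF1, hG1, mul_one, zero_sub, neg_eq_zero] at h1
    exact h1
  refine ⟨?_, hGeq⟩
  rw [← hFceq, hc0, zero_smul, sub_zero]

section encode

/-- index type of the unknown coefficients -/
abbrev Idx (d : ℕ) := Fin (d - 1) ⊕ Fin (d - 1)

variable (d : ℕ)

noncomputable def phi (z : Idx d → k) (m : ℕ) : k :=
  if h : m < d - 1 then z (Sum.inl ⟨m, h⟩) else if m = d then 1 else 0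

noncomputable def gam (z : Idx d → k) (m : ℕ) : k :=
  if h : m < d - 1 then z (Sum.inr ⟨m, h⟩) else if m = d - 1 then 1 else 0

noncomputable def Phi (m : ℕ) : MvPolynomial (Idx d) k :=
  if h : m < d - 1 then MvPolynomial.X (Sum.inl ⟨m, h⟩) else if m = d then 1 else 0

noncomputable def Gam (m : ℕ) : MvPolynomial (Idx d) k :=
  if h : m < d - 1 then MvPolynomial.X (Sum.inr ⟨m, h⟩) else if m = d - 1 then 1 else 0

noncomputable def Fz (z : Idx d → k) : k[X] := ∑ m ∈ Finset.range (d + 1), C (phi d z m) * X ^ m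

noncomputable def Gz (z : Idx d → k) : k[X] :=
  ∑ m ∈ Finset.range (d - 1 + 1), C (gam d z m) * X ^ m

noncomputable def Psi (l : Fin (2 * d - 2)) : MvPolynomial (Idx d) k :=
  ∑ x ∈ Finset.HasAntidiagonal.antidiagonal ((l : ℕ) + 1),
    MvPolynomial.C ((x.2 : k) - (x.1 : k)) * Phi d x.1 * Gam d x.2

def wt : Idx d → ℕ := Sum.elim (fun i => d - (i : ℕ)) (fun j => d - 1 - (j : ℕ))

lemma eval_Phi (z : Idx d → k) (m : ℕ) : MvPolynomial.eval z (Phi d m) = phi d z m := by
  unfold Phi phi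
  split_ifs <;> simp

lemma eval_Gam (z : Idx d → k) (m : ℕ) : MvPolynomial.eval z (Gam d m) = gam d z m := by
  unfold Gam gam
  split_ifs <;> simp

lemma coeff_Fz (z : Idx d → k) (m : ℕ) : (Fz d z).coeff m = phi d z m := by
  unfold Fz
  rw [finsetSum_coeff]
  simp only [coeff_C_mul, coeff_X_pow, mul_ite, mul_one, mul_zero]
  rw [Finset.sum_ite_eq]
  split_ifs with h
  · rfl
  · rw [Finset.mem_range] at h
    unfold phi
    rw [dif_neg (by omega), if_neg (by omega)]

lemma coeff_Gz (z : Idx d → k) (m : ℕ) : (Gz d z).coeff m = gam d z m := by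
  unfold Gz
  rw [finsetSum_coeff]
  simp only [coeff_C_mul, coeff_X_pow, mul_ite, mul_one, mul_zero]
  rw [Finset.sum_ite_eq]
  split_ifs with h
  · rfl
  · rw [Finset.mem_range] at h
    unfold gam
    rw [dif_neg (by omega), if_neg (by omega)]

lemma eval_Psi (z : Idx d → k) (l : Fin (2 * d - 2)) :
    MvPolynomial.eval z (Psi d l) = (wronskian (Fz d z) (Gz d z)).coeff l := by
  rw [coeff_wronskian]
  unfold Psi
  rw [map_sum]
  apply Finset.sum_congr rfl
  intro x _
  rw [map_mul, map_mul, MvPolynomial.eval_C, eval_Phi, eval_Gam, coeff_Fz, coeff_Gz]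

lemma isWH_Phi (m : ℕ) :
    MvPolynomial.IsWeightedHomogeneous (wt d) (Phi d m : MvPolynomial (Idx d) k) (d - m) := by
  unfold Phi
  split_ifs with h1 h2
  · have := MvPolynomial.isWeightedHomogeneous_X k (wt d) (Sum.inl ⟨m, h1⟩ : Idx d)
    simpa [wt] using this
  · rw [h2, Nat.sub_self]; exact MvPolynomial.isWeightedHomogeneous_one k (wt d)
  · exact MvPolynomial.isWeightedHomogeneous_zero k (wt d) _

lemma isWH_Gam (m : ℕ) :
    MvPolynomial.IsWeightedHomogeneous (wt d) (Gam d m : MvPolynomial (Idx d) k) (d - 1 - m) := by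
  unfold Gam
  split_ifs with h1 h2
  · have := MvPolynomial.isWeightedHomogeneous_X k (wt d) (Sum.inr ⟨m, h1⟩ : Idx d)
    simpa [wt] using this
  · rw [h2, Nat.sub_self]; exact MvPolynomial.isWeightedHomogeneous_one k (wt d)
  · exact MvPolynomial.isWeightedHomogeneous_zero k (wt d) _

lemma Phi_eq_zero (m : ℕ) (hm : d < m) : (Phi d m : MvPolynomial (Idx d) k) = 0 := by
  unfold Phi
  rw [dif_neg (by omega), if_neg (by omega)]

lemma Gam_eq_zero (m : ℕ) (hm : d - 1 < m) : (Gam d m : MvPolynomial (Idx d) k) = 0 := by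
  unfold Gam
  rw [dif_neg (by omega), if_neg (by omega)]

lemma isWH_Psi (l : Fin (2 * d - 2)) :
    MvPolynomial.IsWeightedHomogeneous (wt d) (Psi d l : MvPolynomial (Idx d) k)
      (2 * d - 2 - (l : ℕ)) := by
  unfold Psi
  apply MvPolynomial.IsWeightedHomogeneous.sum
  intro x hx
  have hsum : x.1 + x.2 = (l : ℕ) + 1 := Finset.HasAntidiagonal.mem_antidiagonal.1 hx
  have hl := l.2
  by_cases h1 : d < x.1
  · rw [Phi_eq_zero d _ h1, mul_zero, zero_mul]
    exact MvPolynomial.isWeightedHomogeneous_zero k (wt d) _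
  · by_cases h2 : d - 1 < x.2
    · rw [Gam_eq_zero d _ h2, mul_zero]
      exact MvPolynomial.isWeightedHomogeneous_zero k (wt d) _
    · have h3 := ((MvPolynomial.isWeightedHomogeneous_C (wt d)
          ((x.2 : k) - (x.1 : k))).mul (isWH_Phi (k := k) d x.1)).mul (isWH_Gam (k := k) d x.2)
      have h4 : 0 + (d - x.1) + (d - 1 - x.2) = 2 * d - 2 - (l : ℕ) := by omega
      rw [h4] at h3
      exact h3

lemma natDegree_Fz_le (z : Idx d → k) : (Fz d z).natDegree ≤ d := by
  rw [natDegree_le_iff_coeff_eq_zero]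
  intro N hN
  rw [coeff_Fz]
  unfold phi
  rw [dif_neg (by omega), if_neg (by omega)]

lemma natDegree_Gz_le (z : Idx d → k) : (Gz d z).natDegree ≤ d - 1 := by
  rw [natDegree_le_iff_coeff_eq_zero]
  intro N hN
  rw [coeff_Gz]
  unfold gam
  rw [dif_neg (by omega), if_neg (by omega)]

lemma coeff_Fz_top (z : Idx d → k) : (Fz d z).coeff d = 1 := by
  rw [coeff_Fz]
  unfold phi
  rw [dif_neg (by omega), if_pos rfl]

lemma coeff_Gz_top (z : Idx d → k) : (Gz d z).coeff (d - 1) = 1 := by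
  rw [coeff_Gz]
  unfold gam
  rw [dif_neg (by omega), if_pos rfl]

lemma coeff_Fz_sub (hd : 1 ≤ d) (z : Idx d → k) : (Fz d z).coeff (d - 1) = 0 := by
  rw [coeff_Fz]
  unfold phi
  rw [dif_neg (by omega), if_neg (by omega)]

/-- encoding a normalized pair -/
lemma exists_encode (hd : 1 ≤ d) (F G : k[X]) (hF : F.Monic) (hFd : F.natDegree = d) (hG : G.Monic)
    (hGd : G.natDegree = d - 1) (hF1 : F.coeff (d - 1) = 0) :
    ∃ z : Idx d → k, Fz d z = F ∧ Gz d z = G := by
  refine ⟨Sum.elim (fun i => F.coeff i) (fun j => G.coeff j), ?_, ?_⟩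
  · ext m
    rw [coeff_Fz]
    unfold phi
    split_ifs with h1 h2
    · rfl
    · rw [h2, ← hFd]; exact hF.coeff_natDegree.symm
    · by_cases h3 : m = d - 1
      · rw [h3, hF1]
      · rw [coeff_eq_zero_of_natDegree_lt (by omega)]
  · ext m
    rw [coeff_Gz]
    unfold gam
    split_ifs with h1 h2
    · rfl
    · rw [h2, ← hGd]; exact hG.coeff_natDegree.symm
    · rw [coeff_eq_zero_of_natDegree_lt (by omega)]

/-- the zero fibre is trivial -/
lemma zero_fiber (p : ℕ) [CharP k p] (hd : 1 ≤ d) (hp : p = 0 ∨ d < p) (z : Idx d → k)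
    (hz : ∀ l, MvPolynomial.eval z (Psi d l) = 0) : z = 0 := by
  have hFle := natDegree_Fz_le d z
  have hGle := natDegree_Gz_le d z
  have hFm : (Fz d z).Monic := monic_of_natDegree_le_of_coeff_eq_one d hFle (coeff_Fz_top d z)
  have hGm : (Gz d z).Monic := monic_of_natDegree_le_of_coeff_eq_one (d - 1) hGle (coeff_Gz_top d z)
  have hFd : (Fz d z).natDegree = d :=
    natDegree_eq_of_le_of_coeff_ne_zero hFle (by rw [coeff_Fz_top]; exact one_ne_zero)
  have hGd : (Gz d z).natDegree = d - 1 :=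
    natDegree_eq_of_le_of_coeff_ne_zero hGle (by rw [coeff_Gz_top]; exact one_ne_zero)
  have hW : wronskian (Fz d z) (Gz d z) = - X ^ (2 * d - 2) := by
    ext m
    rw [coeff_neg, coeff_X_pow]
    rcases lt_trichotomy m (2 * d - 2) with hlt | heq | hgt
    · rw [if_neg (by omega), neg_zero]
      have := hz ⟨m, hlt⟩
      rw [eval_Psi] at this
      exact this
    · rw [heq, if_pos rfl, coeff_top d hd _ _ hFle hGle, coeff_Fz_top, coeff_Gz_top, mul_one]
    · rw [if_neg (by omega), neg_zero]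
      apply coeff_eq_zero_of_natDegree_lt
      have := natDegree_wronskian_le (Fz d z) (Gz d z) d hd hFle (hGle.trans (by omega))
      omega
  obtain ⟨h1, h2⟩ := eq_pow_of_wronskian p d hd hp _ _ hFm hFd hGm hGd (coeff_Fz_sub d hd z) hW
  funext i
  rcases i with i | j
  · have := congrArg (fun q => q.coeff (i : ℕ)) h1
    simp only [coeff_Fz, coeff_X_pow] at this
    unfold phi at this
    rw [dif_pos i.2, if_neg (by have := i.2; omega)] at this
    exact this
  · have := congrArg (fun q => q.coeff (j : ℕ)) h2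
    simp only [coeff_Gz, coeff_X_pow] at this
    unfold gam at this
    rw [dif_pos j.2, if_neg (by have := j.2; omega)] at this
    exact this

end encode

/-- normalized basis of a pencil -/
lemma exists_normalized (d : ℕ) (hd : 1 ≤ d) (V : Submodule k k[X]) (hVd : V ≤ degreeLE k d)
    (F₀ G₀ : k[X]) (hspan : Submodule.span k ({F₀, G₀} : Set k[X]) = V)
    (hV2 : Module.finrank k V = 2) (s : k[X]) (hsV : s ∈ V) (hsd : s.natDegree = d)
    (Pi : k[X]) (hPi : Pi.Monic) (hPid : Pi.natDegree = 2 * d - 2) (c₀ : k) (hc₀ : c₀ ≠ 0)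
    (hW₀ : wronskian F₀ G₀ = C c₀ * Pi) :
    ∃ F G : k[X], F.Monic ∧ F.natDegree = d ∧ G.Monic ∧ G.natDegree = d - 1 ∧
      F.coeff (d - 1) = 0 ∧ wronskian F G = - Pi ∧ Submodule.span k ({F, G} : Set k[X]) = V := by
  have hs0 : s ≠ 0 := by
    intro h; rw [h, natDegree_zero] at hsd; omega
  have hnat : ∀ q ∈ V, q.natDegree ≤ d := fun q hq =>
    natDegree_le_of_degree_le (mem_degreeLE.1 (hVd hq))
  -- F₁
  obtain ⟨F₁, hF₁def⟩ : ∃ F₁, F₁ = s * C s.leadingCoeff⁻¹ := ⟨_, rfl⟩
  have hF₁m : F₁.Monic := by rw [hF₁def]; exact monic_mul_leadingCoeff_inv hs0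
  have hF₁d : F₁.natDegree = d := by rw [hF₁def, natDegree_mul_leadingCoeff_inv _ hs0, hsd]
  have hF₁V : F₁ ∈ V := by
    rw [hF₁def, mul_comm, ← smul_eq_C_mul]; exact V.smul_mem _ hsV
  have hF₁s : F₁ ∈ Submodule.span k ({F₀, G₀} : Set k[X]) := by rw [hspan]; exact hF₁V
  obtain ⟨t, htV, c, hc, hWt⟩ := exists_basis_change F₀ G₀ F₁ hF₁s hF₁m.ne_zero
  rw [hspan] at htV
  -- t'
  obtain ⟨t', ht'def⟩ : ∃ t', t' = t - t.coeff d • F₁ := ⟨_, rfl⟩
  have ht'V : t' ∈ V := by rw [ht'def]; exact V.sub_mem htV (V.smul_mem _ hF₁V)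
  have hWt' : wronskian F₁ t' = C (c * c₀) * Pi := by
    rw [ht'def, wronskian_sub_smul_right, hWt, hW₀, C_mul, mul_assoc]
  have hcc : c * c₀ ≠ 0 := mul_ne_zero hc hc₀
  have hWt'0 : wronskian F₁ t' ≠ 0 := by
    rw [hWt']; exact mul_ne_zero (C_ne_zero.2 hcc) hPi.ne_zero
  have hWt'd : (wronskian F₁ t').natDegree = 2 * d - 2 := by
    rw [hWt', natDegree_C_mul hcc, hPid]
  have ht'le : t'.natDegree ≤ d - 1 := by
    rw [natDegree_le_iff_coeff_eq_zero]
    intro N hN
    by_cases hNd : N = d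
    · rw [hNd, ht'def, coeff_sub, coeff_smul, smul_eq_mul, ← hF₁d, hF₁m.coeff_natDegree, mul_one,
        hF₁d, sub_self]
    · exact coeff_eq_zero_of_natDegree_lt (lt_of_le_of_lt (hnat t' ht'V) (by omega))
  have ht'd : t'.natDegree = d - 1 := by
    have := natDegree_wronskian_lt_add hWt'0
    rw [hWt'd, hF₁d] at this
    omega
  have ht'0 : t' ≠ 0 := by
    intro h; apply hWt'0; rw [h]; simp [wronskian]
  -- G
  obtain ⟨G, hGdef⟩ : ∃ G, G = t' * C t'.leadingCoeff⁻¹ := ⟨_, rfl⟩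
  have hGm : G.Monic := by rw [hGdef]; exact monic_mul_leadingCoeff_inv ht'0
  have hGd : G.natDegree = d - 1 := by rw [hGdef, natDegree_mul_leadingCoeff_inv _ ht'0, ht'd]
  have hGV : G ∈ V := by
    rw [hGdef, mul_comm, ← smul_eq_C_mul]; exact V.smul_mem _ ht'V
  have hlc : t'.leadingCoeff⁻¹ ≠ 0 := inv_ne_zero (leadingCoeff_ne_zero.2 ht'0)
  have hWG : wronskian F₁ G = C (t'.leadingCoeff⁻¹ * (c * c₀)) * Pi := by
    have : wronskian F₁ G = C t'.leadingCoeff⁻¹ * wronskian F₁ t' := by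
      rw [hGdef]
      simp only [wronskian, derivative_mul, derivative_C]
      ring
    rw [this, hWt']
    simp only [C_mul]
    ring
  -- F
  obtain ⟨F, hFdef⟩ : ∃ F, F = F₁ - F₁.coeff (d - 1) • G := ⟨_, rfl⟩
  have hFm := comb_monic d hd F₁ G hF₁m hF₁d hGd.le (F₁.coeff (d - 1))
  rw [← hFdef] at hFm
  have hFV : F ∈ V := by rw [hFdef]; exact V.sub_mem hF₁V (V.smul_mem _ hGV)
  have hF1 : F.coeff (d - 1) = 0 := by
    rw [hFdef, coeff_sub, coeff_smul, smul_eq_mul]
    have : G.coeff (d - 1) = 1 := by rw [← hGd]; exact hGm.coeff_natDegree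
    rw [this, mul_one, sub_self]
  have hWF : wronskian F G = C (t'.leadingCoeff⁻¹ * (c * c₀)) * Pi := by
    rw [hFdef, wronskian_sub_smul, hWG]
  have hconst : t'.leadingCoeff⁻¹ * (c * c₀) = -1 := by
    have h1 := coeff_top d hd F G hFm.2.le hGd.le
    rw [hWF, coeff_C_mul, ← hPid, hPi.coeff_natDegree, mul_one] at h1
    rw [h1]
    have h2 : F.coeff d = 1 := by
      have := hFm.1.coeff_natDegree; rwa [hFm.2] at this
    have h3 : G.coeff (d - 1) = 1 := by rw [← hGd]; exact hGm.coeff_natDegree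
    rw [h2, h3, mul_one]
  refine ⟨F, G, hFm.1, hFm.2, hGm, hGd, hF1, ?_, ?_⟩
  · rw [hWF, hconst]; simp
  · have hle : Submodule.span k ({F, G} : Set k[X]) ≤ V := by
      rw [Submodule.span_le]
      rintro x (rfl | rfl)
      · exact hFV
      · exact hGV
    haveI : FiniteDimensional k V := Module.finite_of_finrank_pos (by omega)
    refine Submodule.eq_of_le_of_finrank_le hle ?_
    rw [finrank_span_pair F G (indep_of_natDegree_ne F G hFm.1.ne_zero hGm.ne_zero
      (by rw [hFm.2, hGd]; omega)), hV2]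

theorem main929 (k : Type u) [Field k] [IsAlgClosed k]
    (p : ℕ) [CharP k p] (d n : ℕ) (P : Fin n → k) (hP : Function.Injective P)
    (e : Fin n → ℕ) (he : W4c1limliniiii.Admissible p d e) (hp : p = 0 ∨ d < p) :
    (W4c1limliniiii.ramMaps d P e).Finite := by
  classical
  have hsum2 : 2 * n ≤ ∑ i, e i := by
    have := Finset.sum_le_sum (s := Finset.univ) (fun i _ => (he.1 i).1)
    simpa [mul_comm] using this
  have hd : 1 ≤ d := by
    have := he.2
    omega
  obtain ⟨Pi, hPidef⟩ : ∃ Pi : k[X], Pi = ∏ i, (X - C (P i)) ^ (e i - 1) := ⟨_, rfl⟩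
  have hPim : Pi.Monic := by
    rw [hPidef]; exact monic_prod_of_monic _ _ (fun i _ => (monic_X_sub_C _).pow _)
  have hPid : Pi.natDegree = 2 * d - 2 := by
    rw [hPidef, natDegree_prod_of_monic _ _ (fun i _ => (monic_X_sub_C _).pow _)]
    have h1 : ∀ i ∈ (Finset.univ : Finset (Fin n)), ((X - C (P i)) ^ (e i - 1)).natDegree = e i - 1 := by
      intro i _
      rw [(monic_X_sub_C _).natDegree_pow, natDegree_X_sub_C, mul_one]
    rw [Finset.sum_congr rfl h1]
    have h2 : ∑ i : Fin n, (e i - 1) + n = ∑ i, e i := by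
      have hn : ∑ _i : Fin n, 1 = n := by simp
      calc ∑ i : Fin n, (e i - 1) + n = ∑ i : Fin n, (e i - 1) + ∑ _i : Fin n, 1 := by rw [hn]
        _ = ∑ i : Fin n, ((e i - 1) + 1) := by rw [Finset.sum_add_distrib]
        _ = ∑ i, e i := by
          apply Finset.sum_congr rfl
          intro i _
          have := (he.1 i).1
          omega
    have := he.2
    omega
  have hS := WHFinite.finite_fiber (k := k) (wt d) (Psi d) (fun l => 2 * d - 2 - (l : ℕ))
    (fun l => by have := l.2; omega) (isWH_Psi d) (zero_fiber d p hd hp)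
    (fun l => (- Pi).coeff (l : ℕ))
  apply (hS.image (fun z => Submodule.span k ({Fz d z, Gz d z} : Set k[X]))).subset
  intro V hV
  obtain ⟨⟨hVd, hV2, ⟨s, hsV, hsd⟩, hbpf⟩, hsep, hram⟩ := hV
  haveI : FiniteDimensional k V := Module.finite_of_finrank_pos (by omega)
  -- basis
  let b := Module.finBasisOfFinrankEq k V hV2
  obtain ⟨F₀, hF₀def⟩ : ∃ F₀ : k[X], F₀ = (b 0 : k[X]) := ⟨_, rfl⟩
  obtain ⟨G₀, hG₀def⟩ : ∃ G₀ : k[X], G₀ = (b 1 : k[X]) := ⟨_, rfl⟩
  have hF₀V : F₀ ∈ V := by rw [hF₀def]; exact (b 0).2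
  have hG₀V : G₀ ∈ V := by rw [hG₀def]; exact (b 1).2
  have hli : LinearIndependent k ![F₀, G₀] := by
    have h1 := b.linearIndependent.map' V.subtype (Submodule.ker_subtype V)
    have h2 : (V.subtype ∘ b) = ![F₀, G₀] := by
      funext i
      fin_cases i
      · simp [hF₀def]
      · simp [hG₀def]
    rwa [h2] at h1
  have hspan : Submodule.span k ({F₀, G₀} : Set k[X]) = V := by
    have hle : Submodule.span k ({F₀, G₀} : Set k[X]) ≤ V := by
      rw [Submodule.span_le]
      rintro x (rfl | rfl)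
      · exact hF₀V
      · exact hG₀V
    refine Submodule.eq_of_le_of_finrank_le hle ?_
    rw [finrank_span_pair F₀ G₀ hli, hV2]
  have hnat : ∀ q ∈ V, q.natDegree ≤ d := fun q hq =>
    natDegree_le_of_degree_le (mem_degreeLE.1 (hVd hq))
  have hW0 : wronskian F₀ G₀ ≠ 0 := by
    apply wronskian_ne_zero_of_isSeparable
    rw [hspan]; exact hsep
  have hdvd : Pi ∣ wronskian F₀ G₀ := by
    rw [hPidef]
    apply Finset.prod_dvd_of_coprime
    · intro i _ j _ hij
      have hne : P i - P j ≠ 0 := sub_ne_zero.2 (fun h => hij (hP h))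
      exact ((isCoprime_X_sub_C_of_isUnit_sub hne.isUnit).pow)
    · intro i _
      obtain ⟨⟨si, hsiV, hsi0, hsie⟩, -⟩ := hram i
      have h1 : (X - C (P i)) ^ (e i) ∣ si := (le_rootMultiplicity_iff hsi0).1 hsie
      have hsis : si ∈ Submodule.span k ({F₀, G₀} : Set k[X]) := by rw [hspan]; exact hsiV
      obtain ⟨t, -, c, hc, hWt⟩ := exists_basis_change F₀ G₀ si hsis hsi0
      have h2 := dvd_wronskian (P i) (e i) 0 si t h1 (by simp)
      rw [Nat.add_zero, hWt] at h2
      exact (IsUnit.dvd_mul_left (isUnit_C.2 hc.isUnit)).1 h2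
  have hWle : (wronskian F₀ G₀).natDegree ≤ 2 * d - 2 :=
    natDegree_wronskian_le F₀ G₀ d hd (hnat _ hF₀V) (hnat _ hG₀V)
  obtain ⟨c₀, hc₀, hW₀⟩ : ∃ c₀ : k, c₀ ≠ 0 ∧ wronskian F₀ G₀ = C c₀ * Pi := by
    obtain ⟨Q, hQ⟩ := hdvd
    have hQ0 : Q ≠ 0 := by
      intro h; apply hW0; rw [hQ, h, mul_zero]
    have h1 : (wronskian F₀ G₀).natDegree = Pi.natDegree + Q.natDegree := by
      rw [hQ, natDegree_mul hPim.ne_zero hQ0]
    have h2 : Q.natDegree = 0 := by omega
    have h3 := eq_C_of_natDegree_eq_zero h2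
    refine ⟨Q.coeff 0, ?_, ?_⟩
    · intro h; apply hQ0; rw [h3, h, C_0]
    · rw [hQ, mul_comm]; congr 1
  obtain ⟨F, G, hFm, hFd, hGm, hGd, hF1, hWFG, hspanFG⟩ :=
    exists_normalized d hd V hVd F₀ G₀ hspan hV2 s hsV hsd Pi hPim hPid c₀ hc₀ hW₀
  obtain ⟨z, hzF, hzG⟩ := exists_encode d hd F G hFm hFd hGm hGd hF1
  refine ⟨z, ?_, ?_⟩
  · intro l
    rw [eval_Psi, hzF, hzG, hWFG]
  · show Submodule.span k ({Fz d z, Gz d z} : Set k[X]) = V
    rw [hzF, hzG, hspanFG]

end Groth.Agent.Lib.Helper6.RamE
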