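import Mathlib

/-!
# Regular sequences and surjections: concatenating a regular sequence generating the kernel with
a lift of a regular sequence on the quotient
-/

set_option autoImplicit false

open RingTheory.Sequence

namespace Groth.Agent.Lib.Helper6.RegImmComp

/-- Let `π : R → S` be surjective with kernel generated by a weakly regular sequence `fs`, and let
`gs'` be a list in `R` whose image in `S` is weakly regular. Then `fs ++ gs'` is weakly regular in
`R`. -/
theorem isWeaklyRegular_append_of_surjective {R S : Type*} [CommRing R] [CommRing S] (π : R →+* S)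
    (hπ : Function.Surjective π) (fs : List R) (hker : RingHom.ker π = Ideal.ofList fs)
    (hfs : IsWeaklyRegular R fs) (gs' : List R) (hgs : IsWeaklyRegular S (gs'.map π)) :
    IsWeaklyRegular R (fs ++ gs') := by
  rw [isWeaklyRegular_append_iff]
  refine ⟨hfs, ?_⟩
  let _ : Algebra R S := π.toAlgebra
  have h1 : IsWeaklyRegular S gs' :=
    (isWeaklyRegular_map_algebraMap_iff S S gs').mp hgs
  have hsub : (Ideal.ofList fs • ⊤ : Submodule R R) = LinearMap.ker (Algebra.linearMap R S) := by
    rw [smul_eq_mul, Ideal.mul_top, ← hker]
    rfl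
  have hsurj : Function.Surjective (Algebra.linearMap R S) := hπ
  let e : (R ⧸ (Ideal.ofList fs • ⊤ : Submodule R R)) ≃ₗ[R] S :=
    (Submodule.quotEquivOfEq _ _ hsub).trans
      ((Algebra.linearMap R S).quotKerEquivOfSurjective hsurj)
  exact (e.isWeaklyRegular_congr gs').mpr h1

/-- The ideal generated by `fs ++ gs'` is the preimage of the ideal generated by the image of
`gs'`. -/
theorem ofList_append_eq_comap {R S : Type*} [CommRing R] [CommRing S] (π : R →+* S)
    (hπ : Function.Surjective π) (fs : List R) (hker : RingHom.ker π = Ideal.ofList fs)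
    (gs' : List R) :
    Ideal.ofList (fs ++ gs') = (Ideal.ofList (gs'.map π)).comap π := by
  rw [Ideal.ofList_append, ← Ideal.map_ofList, Ideal.comap_map_of_surjective π hπ, ← hker,
    sup_comm]
  rfl

/-- Lists can be lifted along surjections. -/
lemma exists_list_map_eq {R S : Type*} (π : R → S) (hπ : Function.Surjective π) (gs : List S) :
    ∃ gs' : List R, gs'.map π = gs := by
  induction gs with
  | nil => exact ⟨[], rfl⟩
  | cons g gs ih =>
    obtain ⟨gs', rfl⟩ := ih
    obtain ⟨g', rfl⟩ := hπ g
    exact ⟨g' :: gs', rfl⟩

end Groth.Agent.Lib.Helper6.RegImmComp
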