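import Mathlib
import Groth.Prelude.Def_Mor2
import Groth.Agent.Lib.Helper6.RegImmCompAlg

/-!
# Composition of regular closed immersions
-/

set_option autoImplicit false

open CategoryTheory AlgebraicGeometry RingTheory.Sequence

universe u

namespace Groth.Agent.Lib.Helper6.RegImmComp

/-- Restriction between affine opens is flat. -/
lemma flat_res {X : Scheme.{u}} {U W : X.Opens} (hU : IsAffineOpen U) (hW : IsAffineOpen W)
    (h : W ≤ U) : (X.presheaf.map (homOfLE h).op).hom.Flat := by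
  have h1 := HasRingHomProperty.appLE (P := @Flat) (f := 𝟙 X) inferInstance ⟨U, hU⟩ ⟨W, hW⟩
    (by simpa using h)
  have h2 : (𝟙 X : X ⟶ X).appLE U W (by simpa using h) = X.presheaf.map (homOfLE h).op := by
    simp only [Scheme.Hom.appLE, Scheme.Hom.id_app]
    exact Category.id_comp _
  rw [h2] at h1
  exact h1

/-- A weakly regular sequence restricts to a weakly regular sequence on a smaller affine open. -/
lemma isWeaklyRegular_res {X : Scheme.{u}} {U W : X.Opens} (hU : IsAffineOpen U)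
    (hW : IsAffineOpen W) (h : W ≤ U) (fs : List Γ(X, U)) (hfs : IsWeaklyRegular Γ(X, U) fs) :
    IsWeaklyRegular Γ(X, W) (fs.map (X.presheaf.map (homOfLE h).op).hom) := by
  let _ : Algebra Γ(X, U) Γ(X, W) := (X.presheaf.map (homOfLE h).op).hom.toAlgebra
  have : Module.Flat Γ(X, U) Γ(X, W) := flat_res hU hW h
  exact IsWeaklyRegular.of_flat hfs

/-- The kernel ideal on a smaller affine open is generated by the restrictions. -/
lemma ker_ideal_res {X : Scheme.{u}} (I : X.IdealSheafData) {U W : X.Opens} (hU : IsAffineOpen U)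
    (hW : IsAffineOpen W) (h : W ≤ U) (fs : List Γ(X, U))
    (hI : I.ideal ⟨U, hU⟩ = Ideal.ofList fs) :
    I.ideal ⟨W, hW⟩ = Ideal.ofList (fs.map (X.presheaf.map (homOfLE h).op).hom) := by
  have h1 := I.map_ideal (U := ⟨W, hW⟩) (V := ⟨U, hU⟩) h
  rw [← h1, hI, Ideal.map_ofList]
  rfl

/-- Kernel of a composite of closed immersions on an affine open. -/
lemma ker_comp_ideal {Z Y X : Scheme.{u}} (i : Z ⟶ Y) (j : Y ⟶ X) [IsClosedImmersion i]
    [IsClosedImmersion j] (W : X.Opens) (hW : IsAffineOpen W) :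
    (i ≫ j).ker.ideal ⟨W, hW⟩ =
      (i.ker.ideal ⟨j ⁻¹ᵁ W, hW.preimage j⟩).comap (j.app W).hom := by
  rw [Scheme.Hom.ker_apply, Scheme.Hom.ker_apply]
  ext a
  rw [RingHom.mem_ker, Ideal.mem_comap, RingHom.mem_ker]
  have h1 : ((i ≫ j).app W).hom a = (i.app (j ⁻¹ᵁ W)).hom ((j.app W).hom a) := by
    rw [Scheme.Hom.comp_app]; rfl
  rw [h1]
  exact Iff.rfl

/-- Sections over an open containing a point form a nontrivial ring. -/
lemma one_notMem_ker_app {Z X : Scheme.{u}} (f : Z ⟶ X) (W : X.Opens) (z : Z) (hz : f z ∈ W) :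
    RingHom.ker (f.app W).hom ≠ ⊤ := by
  intro h
  have h1 : (1 : Γ(X, W)) ∈ RingHom.ker (f.app W).hom := by rw [h]; trivial
  rw [RingHom.mem_ker, map_one] at h1
  have h2 := congrArg (Z.presheaf.germ (f ⁻¹ᵁ W) z hz).hom h1
  rw [map_one, map_zero] at h2
  exact one_ne_zero h2

/-- The composition of two regular closed immersions is a regular closed immersion. -/
theorem isRegularClosedImmersion_comp {Z Y X : Scheme.{u}} (i : Z ⟶ Y) (j : Y ⟶ X)
    (hi : Mor2.IsRegularClosedImmersion i) (hj : Mor2.IsRegularClosedImmersion j) :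
    Mor2.IsRegularClosedImmersion (i ≫ j) := by
  obtain ⟨hic, hi⟩ := hi
  obtain ⟨hjc, hj⟩ := hj
  refine ⟨inferInstance, fun z => ?_⟩
  obtain ⟨V, hV, hzV, gs, hgs, hgsI⟩ := hi z
  obtain ⟨U, hU, hyU, fs, hfs, hfsI⟩ := hj (i z)
  -- an open `V'` of `X` with `j⁻¹ V' = V`
  obtain ⟨V', hV'⟩ : ∃ V' : X.Opens, j ⁻¹ᵁ V' = V := by
    obtain ⟨s, hs, hsV⟩ := j.isEmbedding.isInducing.isOpen_iff.mp V.isOpen
    exact ⟨⟨s, hs⟩, TopologicalSpace.Opens.ext hsV⟩
  have hxV' : j (i z) ∈ V' := by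
    have : i z ∈ j ⁻¹ᵁ V' := by rw [hV']; exact hzV
    exact this
  obtain ⟨h₁, hW₁le, hxW₁⟩ := hU.exists_basicOpen_le (V := U ⊓ V') ⟨j (i z), ⟨hyU, hxV'⟩⟩ hyU
  have hW₁ : IsAffineOpen (X.basicOpen h₁) := hU.basicOpen h₁
  have hW₁U : X.basicOpen h₁ ≤ U := hW₁le.trans inf_le_left
  have hjW₁V : j ⁻¹ᵁ (X.basicOpen h₁) ≤ V := by
    rw [← hV']
    intro y hy
    exact (hW₁le hy).2
  have hjW₁ : IsAffineOpen (j ⁻¹ᵁ (X.basicOpen h₁)) := hW₁.preimage j
  obtain ⟨h₂, g', hfg, hyD⟩ := exists_basicOpen_le_affine_inter hjW₁ hV (i z) ⟨hxW₁, hzV⟩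
  obtain ⟨h₃, hh₃⟩ := j.app_surjective (X.basicOpen h₁) hW₁ h₂
  have hW : IsAffineOpen (X.basicOpen h₃) := hW₁.basicOpen h₃
  have hWW₁ : X.basicOpen h₃ ≤ X.basicOpen h₁ := X.basicOpen_le h₃
  have hjW : j ⁻¹ᵁ (X.basicOpen h₃) = Y.basicOpen g' := by
    rw [Scheme.preimage_basicOpen, hh₃, hfg]
  have hxW : j (i z) ∈ X.basicOpen h₃ := by
    have : i z ∈ j ⁻¹ᵁ (X.basicOpen h₃) := by rw [hjW, ← hfg]; exact hyD
    exact this
  refine ⟨X.basicOpen h₃, hW, hxW, ?_⟩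
  have hWU : X.basicOpen h₃ ≤ U := hWW₁.trans hW₁U
  have hfs' := isWeaklyRegular_res hU hW hWU fs hfs.toIsWeaklyRegular
  have hfsI' := ker_ideal_res j.ker hU hW hWU fs hfsI
  have hjWaff : IsAffineOpen (j ⁻¹ᵁ (X.basicOpen h₃)) := hW.preimage j
  have hjWV : j ⁻¹ᵁ (X.basicOpen h₃) ≤ V := by
    intro y hy
    exact hjW₁V (hWW₁ hy)
  have hgs₁ := isWeaklyRegular_res hV hjWaff hjWV gs hgs.toIsWeaklyRegular
  have hgsI₁ := ker_ideal_res i.ker hV hjWaff hjWV gs hgsI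
  have hsurj : Function.Surjective (j.app (X.basicOpen h₃)).hom :=
    j.app_surjective (X.basicOpen h₃) hW
  obtain ⟨gs', hgs'⟩ := exists_list_map_eq (j.app (X.basicOpen h₃)).hom hsurj
    (gs.map (Y.presheaf.map (homOfLE hjWV).op).hom)
  have hker : RingHom.ker (j.app (X.basicOpen h₃)).hom =
      Ideal.ofList (fs.map (X.presheaf.map (homOfLE hWU).op).hom) := by
    rw [← hfsI', Scheme.Hom.ker_apply]
  have hideal : (i ≫ j).ker.ideal ⟨X.basicOpen h₃, hW⟩ =
      Ideal.ofList (fs.map (X.presheaf.map (homOfLE hWU).op).hom ++ gs') := by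
    rw [ker_comp_ideal, hgsI₁, ← hgs',
      ofList_append_eq_comap (j.app (X.basicOpen h₃)).hom hsurj _ hker gs']
  refine ⟨fs.map (X.presheaf.map (homOfLE hWU).op).hom ++ gs', ⟨?_, ?_⟩, hideal⟩
  · exact isWeaklyRegular_append_of_surjective (j.app (X.basicOpen h₃)).hom hsurj _ hker hfs' gs'
      (hgs' ▸ hgs₁)
  · rw [smul_eq_mul, Ideal.mul_top, ← hideal, Scheme.Hom.ker_apply]
    exact (one_notMem_ker_app (i ≫ j) (X.basicOpen h₃) z hxW).symm

end Groth.Agent.Lib.Helper6.RegImmComp
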