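import Mathlib

/-!
# Lemma N for helper23 (S19496): Nakayama over all maximal ideals  (helper6)
-/

set_option autoImplicit false
universe u

namespace Groth.Agent.Lib.Helper6.RelNefN

/-- (N) Nakayama over all maximal ideals. -/
theorem N_subsingleton {A M : Type u} [CommRing A] [AddCommGroup M] [Module A M]
    [Module.Finite A M]
    (h : ∀ m : Ideal A, m.IsMaximal → (⊤ : Submodule A M) ≤ m • (⊤ : Submodule A M)) :
    Subsingleton M := by
  by_contra hns
  rw [not_subsingleton_iff_nontrivial] at hns
  have hann : (Module.annihilator A M) ≠ ⊤ := by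
    intro htop
    have h1 : (1 : A) ∈ Module.annihilator A M := htop ▸ Submodule.mem_top
    rw [Module.mem_annihilator] at h1
    obtain ⟨x, hx⟩ := exists_ne (0 : M)
    exact hx (by simpa using h1 x)
  obtain ⟨m, hm, hle⟩ := Ideal.exists_le_maximal _ hann
  obtain ⟨r, hr1, hr2⟩ := Submodule.exists_sub_one_mem_and_smul_eq_zero_of_fg_of_le_smul m
    (⊤ : Submodule A M) Module.Finite.fg_top (h m hm)
  have hr : r ∈ Module.annihilator A M := by
    rw [Module.mem_annihilator]
    intro x
    exact hr2 x Submodule.mem_top
  have h1 : (1 : A) ∈ m := by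
    have := m.sub_mem (hle hr) hr1
    simpa using this
  exact hm.ne_top ((Ideal.eq_top_iff_one m).2 h1)

end Groth.Agent.Lib.Helper6.RelNefN
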