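import Groth.Agent.S9919
import Groth.Agent.S9964
import Groth.Agent.Lib.Helper6.IrredFin
import Groth.Agent.Lib.Helper16.SchImgDense
import Groth.Agent.Lib.Helper16.ValCrit10
import Groth.Agent.Lib.Helper16.QsDecent
import Groth.Agent.Lib.Helper17.AlgSpAffSep
import Groth.Agent.Lib.Helper16.SchImg2
import Groth.Prelude.Def_AlgSpMor5

/-!
# Helper library (helper6): codimension-0 points of a relative normalization lift to the source
-/

set_option autoImplicit false
universe u
open CategoryTheory CategoryTheory.Limits AlgebraicGeometry Topology TopologicalSpace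
open AlgSp

namespace Groth.Agent.Lib.Helper6.RelNormCodim0

open Groth.Agent.Lib.Helper16 Groth.Agent.Lib.Helper17 Groth.Agent.Lib.Helper6.IrredFin

/-- Every point is a specialization of a point without proper generizations. -/
lemma exists_isMaxPt_specializes {T : Type*} [TopologicalSpace T] [T0Space T] [QuasiSober T] (v : T) :
    ∃ c : T, IsMaxPt c ∧ c ⤳ v := by
  have hC := irreducibleComponent_mem_irreducibleComponents v
  have hCcl : IsClosed (irreducibleComponent v) := isClosed_irreducibleComponent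
  obtain ⟨c, hc⟩ := QuasiSober.sober hC.1 hCcl
  refine ⟨c, ?_, ?_⟩
  · intro y hy
    have h1 : irreducibleComponent v ⊆ closure ({y} : Set T) := by
      rw [← hc.def]; exact specializes_iff_closure_subset.mp hy
    have h2 : closure ({y} : Set T) ⊆ irreducibleComponent v :=
      hC.2 isIrreducible_singleton.closure h1
    have h3 : c ⤳ y := by
      rw [specializes_iff_mem_closure, hc.def]
      exact h2 (subset_closure (Set.mem_singleton y))
    exact (hy.antisymm h3).eq
  · rw [specializes_iff_mem_closure, hc.def]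
    exact mem_irreducibleComponent

lemma dim_zero_of_isMaxPt {X : Scheme.{u}} (x : X) (hx : IsMaxPt x) :
    ringKrullDim (X.presheaf.stalk x) = 0 := by
  have hmax : IsMax x := by
    intro b hb
    have hb' : b ⤳ x := hb
    have : b = x := hx b hb'
    rw [this]
  rw [ringKrullDim_stalk_eq_coheight, Order.coheight_eq_zero.2 hmax]
  rfl

lemma isMaxPt_of_dim_zero {X : Scheme.{u}} (x : X) (hx : ringKrullDim (X.presheaf.stalk x) = 0) :
    IsMaxPt x := by
  intro y hy
  have h0 : Order.coheight x = 0 := by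
    have := ringKrullDim_stalk_eq_coheight x
    rw [hx] at this
    exact_mod_cast this.symm
  have hmax : IsMax x := Order.coheight_eq_zero.1 h0
  have hle : x ≤ y := hy
  have h2 : x ⤳ y := hmax hle
  exact (hy.antisymm h2).eq

variable {S : Scheme.{u}}

/-- Variant of `ValCrit.exists_specializes_chart` recording that the new chart is etale. -/
theorem exists_specializes_chart' {F Ush : Sp S} (h : Ush ⟶ F) (hq : IsQuasiCompactMor h)
    (hd : DenseRange (Points.map h)) {W : Over S} [IsAffine W.left] (a' : (yon S).obj W ⟶ F)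
    (ha' : RepWith @Etale a') (w : ↥W.left) :
    ∃ (V : Over S) (c' : (yon S).obj V ⟶ Ush) (g : V ⟶ W) (v : ↥V.left),
      RepWith @Etale c' ∧ c' ≫ h = (yon S).map g ≫ a' ∧ g.left v ⤳ w := by
  have hQ : IsQuasiCompactSp (pullback h a') :=
    hq (IsAlgSpace.yon_obj W) (isQuasiCompactSp_yon_of_compactSpace W) a' (pullback.fst h a')
      (pullback.snd h a') (IsPullback.of_hasPullback h a')
  obtain ⟨V, c, hce, hcs, hVc⟩ := hQ
  have : CompactSpace ↥V.left := hVc
  obtain ⟨g, hg⟩ := (yon S).map_surjective (c ≫ pullback.snd h a')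
  have : QuasiCompact g.left := (quasiCompact_iff_compactSpace g.left).2 inferInstance
  have hmem : w ∈ closure (Set.range g.left) := by
    rw [mem_closure_iff]
    intro N hN hwN
    have hopen : IsOpen (Points.ofPt a' '' N) := isOpenMap_ofPt_of_etale a' ha' N hN
    obtain ⟨_, ⟨n, hnN, rfl⟩, ⟨u, hu⟩⟩ := hd.inter_open_nonempty _ hopen ⟨_, ⟨w, hwN, rfl⟩⟩
    obtain ⟨q, hq1, hq2⟩ := exists_point_of_isPullback (IsPullback.of_hasPullback h a') u
      (Points.ofScheme W n) (by rw [hu, Points.ofPt_eq_map_ofScheme])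
    obtain ⟨v, rfl⟩ := ofPt_surjective_of_surjective c hcs q
    refine ⟨n, hnN, v, ?_⟩
    apply ofScheme_injective W
    rw [← hq2, Points.map_ofPt, ← hg, ofPt_yon_map_eq_id]
  obtain ⟨v, hv⟩ := exists_specializes_of_mem_closure_range g.left w hmem
  refine ⟨V, c ≫ pullback.fst h a', g, v, ?_, ?_, hv⟩
  · exact (RepWith @Etale).comp_mem _ _ hce
      (MorphismProperty.of_isPullback (IsPullback.of_hasPullback h a').flip ha')
  · rw [Category.assoc, pullback.condition, ← Category.assoc, ← hg]

/-- The scheme theoretic image of the map to a relative normalization is everything. -/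
theorem isIso_of_isSchImage {Y X X' R : AlgSp.Space S} (f : Y ⟶ X)
    (ν : X' ⟶ X) (f' : Y ⟶ X')
    (hn : AlgSp.IsRelNormalization f.hom ν.hom f'.hom) (ι : R ⟶ X')
    (hR : IsSchImage f'.hom ι.hom) : IsIso ι.hom := by
  obtain ⟨hcl, ⟨g, hg⟩, -⟩ := hR
  obtain ⟨hfac, hνint, huniv⟩ := hn
  have hιint : IsIntegralMor ι.hom := by
    rw [isIntegralMor_eq]
    exact affP_of_repWith_isClosedImmersion
      (fun _ _ f hf => by have : IsClosedImmersion f := hf; infer_instance) ι.hom hcl
  have hπ : IsIntegralMor (ι.hom ≫ ν.hom) := by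
    rw [isIntegralMor_eq] at hιint hνint ⊢
    exact affP_comp _ _ hιint hνint
  have hgπ : g ≫ ι.hom ≫ ν.hom = f.hom := by rw [← Category.assoc, hg, hfac]
  obtain ⟨h, ⟨hh1, hh2⟩, -⟩ := huniv R.property (ι.hom ≫ ν.hom) g hπ hgπ
  obtain ⟨k, -, hk⟩ := huniv X'.property ν.hom f'.hom hνint hfac
  have h1 : h ≫ ι.hom = 𝟙 X'.obj := by
    rw [hk (h ≫ ι.hom) ⟨by rw [← Category.assoc, hh1, hg], by rw [Category.assoc, hh2]⟩,
      ← hk (𝟙 _) ⟨Category.comp_id _, Category.id_comp _⟩]
  have hmono : Mono ι.hom := SchImg.mono_of_repWith_isClosedImmersion ι.hom hcl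
  have h2 : ι.hom ≫ h = 𝟙 R.obj := by
    rw [← cancel_mono ι.hom, Category.assoc, h1, Category.comp_id, Category.id_comp]
  exact ⟨h, h2, h1⟩

theorem main10317 {Y X X' : AlgSp.Space S} (f : Y ⟶ X)
    (hqc : AlgSp.IsQuasiCompactMor f.hom) (ν : X' ⟶ X) (f' : Y ⟶ X')
    (hn : AlgSp.IsRelNormalization f.hom ν.hom f'.hom) (x' : AlgSp.Points X'.obj)
    (hx' : AlgSp.HasAt (fun U u => ringKrullDim ↥(U.presheaf.stalk u) = 0) X'.obj x') :
    ∃ y : AlgSp.Points Y.obj,
      AlgSp.HasAt (fun U u => ringKrullDim ↥(U.presheaf.stalk u) = 0) Y.obj y ∧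
        AlgSp.Points.map f'.hom y = x' := by
  -- `f'` is quasi-compact
  have hνint : IsIntegralMor ν.hom := hn.2.1
  have hsep : IsSeparatedMor ν.hom :=
    isSeparatedMor_of_affP (Q := @IsIntegralHom) X'.property.diag hνint
  have hqs : IsQuasiSeparatedMor ν.hom :=
    (MorphismProperty.relative_monotone (F := yon S)
      (fun _ _ g hg => by
        have : IsClosedImmersion g.left := hg
        show QuasiCompact g.left
        infer_instance)) _ hsep
  have hcomp : (f' ≫ ν).hom = f.hom := hn.1
  have hqc' : IsQuasiCompactMor f'.hom :=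
    Groth.Agent.S9919.result f' ν (by rw [hcomp]; exact hqc) hqs
  -- `f'` has dense image
  obtain ⟨R, ι, hR⟩ := Groth.Agent.S9964.result f'
  have hiso : IsIso ι.hom := isIso_of_isSchImage f ν f' hn ι hR
  have hsub := SchImg.range_subset_closure_of_isSchImage Y.property X'.property R.property f'.hom
    hqc' ι.hom hR
  have hd : DenseRange (Points.map f'.hom) := by
    intro x
    apply hsub
    refine ⟨Points.map (inv ι.hom) x, ?_⟩
    rw [← Points.map_comp, IsIso.inv_hom_id, Points.map_id]
  -- an affine chart at `x'`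
  obtain ⟨U, a, u, hae, hu, hdim⟩ := hx'
  obtain ⟨_, ⟨(O : U.left.Opens), hO, rfl⟩, huO, -⟩ :=
    U.left.isBasis_affineOpens.exists_subset_of_mem_open (Set.mem_univ u) isOpen_univ
  have hOa : IsAffine (overOpen U O).left := hO
  have ha'e : RepWith @Etale ((yon S).map (overOpenι U O) ≫ a) := repWith_etale_restrict a hae O
  obtain ⟨w, hw⟩ : ∃ w : ↥(overOpen U O).left, O.ι w = u := ⟨⟨u, huO⟩, rfl⟩
  obtain ⟨V, c', g, v, hc'e, hcomm, hv⟩ :=
    exists_specializes_chart' f'.hom hqc' hd ((yon S).map (overOpenι U O) ≫ a) ha'e w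
  have humax : IsMaxPt u := isMaxPt_of_dim_zero u hdim
  obtain ⟨v', hv'max, hv'v⟩ := exists_isMaxPt_specializes v
  have h1 : O.ι (g.left v') ⤳ u := by
    have h2 : g.left v' ⤳ w := (hv'v.map g.left.continuous).trans hv
    have h3 := h2.map O.ι.continuous
    rwa [hw] at h3
  have h4 : O.ι (g.left v') = u := humax _ h1
  refine ⟨Points.ofPt c' v', ⟨V, c', v', hc'e, rfl, dim_zero_of_isMaxPt v' hv'max⟩, ?_⟩
  rw [Points.map_ofPt, hcomm, ofPt_yon_map_comp, ofPt_restrict, h4, hu]

end Groth.Agent.Lib.Helper6.RelNormCodim0
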