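import Groth.Agent.S9964
import Groth.Agent.S9966
import Groth.Agent.Lib.Helper17.AlgSpAff
import Groth.Agent.Lib.Helper16.SchImg2
import Groth.Prelude.Def_AlgSpMor5

/-!
# Helper library (helper6): the relative normalization in a reduced algebraic space is reduced
-/

set_option autoImplicit false
universe u
open CategoryTheory CategoryTheory.Limits AlgebraicGeometry
open AlgSp

namespace Groth.Agent.Lib.Helper6.RelNormRed

open Groth.Agent.Lib.Helper16 Groth.Agent.Lib.Helper17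

theorem main10333 {S : Scheme.{u}} {Y X X' : AlgSp.Space S} (f : Y ⟶ X)
    (ν : X' ⟶ X) (f' : Y ⟶ X')
    (hn : AlgSp.IsRelNormalization f.hom ν.hom f'.hom) (hY : AlgSp.IsReducedSp Y.obj) :
    AlgSp.IsReducedSp X'.obj := by
  obtain ⟨R, ι, hR⟩ := Groth.Agent.S9964.result f'
  have hRred : IsReducedSp R.obj := (Groth.Agent.S9966.result f' ι hY hR).2.2
  obtain ⟨hcl, ⟨g, hg⟩, -⟩ := hR
  obtain ⟨hfac, hνint, huniv⟩ := hn
  have hιint : IsIntegralMor ι.hom := by
    rw [isIntegralMor_eq]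
    exact affP_of_repWith_isClosedImmersion
      (fun _ _ f hf => by have : IsClosedImmersion f := hf; infer_instance) ι.hom hcl
  have hπ : IsIntegralMor (ι.hom ≫ ν.hom) := by
    rw [isIntegralMor_eq] at hιint hνint ⊢
    exact affP_comp _ _ hιint hνint
  have hgπ : g ≫ ι.hom ≫ ν.hom = f.hom := by rw [← Category.assoc, hg, hfac]
  obtain ⟨h, ⟨hh1, hh2⟩, -⟩ := huniv R.property (ι.hom ≫ ν.hom) g hπ hgπ
  obtain ⟨k, -, hk⟩ := huniv X'.property ν.hom f'.hom hνint hfac
  have h1 : h ≫ ι.hom = 𝟙 X'.obj := by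
    rw [hk (h ≫ ι.hom) ⟨by rw [← Category.assoc, hh1, hg], by rw [Category.assoc, hh2]⟩,
      ← hk (𝟙 _) ⟨Category.comp_id _, Category.id_comp _⟩]
  have hmono : Mono ι.hom := SchImg.mono_of_repWith_isClosedImmersion ι.hom hcl
  have h2 : ι.hom ≫ h = 𝟙 R.obj := by
    rw [← cancel_mono ι.hom, Category.assoc, h1, Category.comp_id, Category.id_comp]
  have hiso : IsIso ι.hom := ⟨h, h2, h1⟩
  obtain ⟨U, p, hpe, hps, hU⟩ := hRred
  exact ⟨U, p ≫ ι.hom,
    (MorphismProperty.cancel_right_of_respectsIso (RepWith @Etale) p ι.hom).mpr hpe,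
    (MorphismProperty.cancel_right_of_respectsIso (RepWith @Surjective) p ι.hom).mpr hps, hU⟩

end Groth.Agent.Lib.Helper6.RelNormRed
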