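import Groth.Agent.Lib.Helper16.AffRep
import Mathlib.AlgebraicGeometry.Normalization
import Groth.Prelude.Def_AlgSpMor5

/-!
# Helper library (helper6): the relative normalization of schemes is the relative normalization of algebraic spaces
-/

set_option autoImplicit false
universe u
open CategoryTheory CategoryTheory.Limits AlgebraicGeometry
open AlgSp

namespace Groth.Agent.Lib.Helper6.RelNormSch

open Groth.Agent.Lib.Helper16

variable {S : Scheme.{u}}

theorem main10298 {V U N : Over S} (g : V ⟶ U)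
    [QuasiCompact g.left] [QuasiSeparated g.left] (f' : V ⟶ N) (ν : N ⟶ U)
    (e : N.left ≅ g.left.normalization) (he1 : f'.left ≫ e.hom = g.left.toNormalization)
    (he2 : e.hom ≫ g.left.fromNormalization = ν.left) :
    AlgSp.IsRelNormalization ((AlgSp.yon S).map g) ((AlgSp.yon S).map ν) ((AlgSp.yon S).map f') := by
  have hfg : f' ≫ ν = g := by
    apply Over.OverMorphism.ext
    rw [Over.comp_left, ← he2, ← Category.assoc, he1]
    exact g.left.toNormalization_fromNormalization
  have hν : IsIntegralHom ν.left := by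
    rw [← he2]
    exact (MorphismProperty.cancel_left_of_respectsIso @IsIntegralHom e.hom _).mpr inferInstance
  have he1' : g.left.toNormalization ≫ e.inv = f'.left := by
    rw [← he1, Category.assoc, Iso.hom_inv_id, Category.comp_id]
  have he2' : e.inv ≫ ν.left = g.left.fromNormalization := by
    rw [← he2, Iso.inv_hom_id_assoc]
  refine ⟨by rw [← Functor.map_comp, hfg], ?_, ?_⟩
  · rw [isIntegralMor_eq_affWith]
    exact affWith_of_repWith
      (fun _ _ f hf => by have : IsIntegralHom f := hf; infer_instance) _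
      ((repWith_yon_map_iff @IsIntegralHom ν).2 hν)
  · intro Z hZ π h hπ hc
    rw [isIntegralMor_eq_affWith] at hπ
    have hrep : RepWith @IsIntegralHom π := repWith_of_affWith hZ (IsAlgSpace.yon_obj U) π hπ
    obtain ⟨T, i, fst, sq⟩ := hrep.rep (𝟙 ((yon S).obj U))
    have hi : IsIntegralHom i.left := hrep.property _ _ _ sq
    have hiso : IsIso fst := sq.isIso_fst_of_isIso
    have hfπ : fst ≫ π = (yon S).map i := by rw [sq.w, Category.comp_id]
    obtain ⟨h₁, hh₁⟩ : ∃ h₁ : V ⟶ T, (yon S).map h₁ = h ≫ inv fst := (yon S).map_surjective _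
    have hh₁' : (yon S).map h₁ ≫ fst = h := by
      rw [hh₁, Category.assoc, IsIso.inv_hom_id, Category.comp_id]
    have hh₁i : h₁ ≫ i = g := by
      apply (yon S).map_injective
      rw [Functor.map_comp, ← hfπ, ← Category.assoc, hh₁', hc]
    have H : g.left = h₁.left ≫ i.left := by rw [← Over.comp_left, hh₁i]
    obtain ⟨k₀, hk₀1, hk₀2⟩ : ∃ k₀ : g.left.normalization ⟶ T.left,
        g.left.toNormalization ≫ k₀ = h₁.left ∧ k₀ ≫ i.left = g.left.fromNormalization :=
      ⟨g.left.normalizationDesc h₁.left i.left H,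
        g.left.toNormalization_normalizationDesc h₁.left i.left H,
        g.left.normalizationDesc_comp h₁.left i.left H⟩
    have hw : (e.hom ≫ k₀) ≫ T.hom = N.hom := by
      calc (e.hom ≫ k₀) ≫ T.hom = (e.hom ≫ k₀) ≫ i.left ≫ U.hom := by rw [Over.w i]
        _ = e.hom ≫ (k₀ ≫ i.left) ≫ U.hom := by simp only [Category.assoc]
        _ = (e.hom ≫ g.left.fromNormalization) ≫ U.hom := by rw [hk₀2, Category.assoc]
        _ = N.hom := by rw [he2, Over.w ν]
    obtain ⟨k₁, hk₁⟩ : ∃ k₁ : N ⟶ T, k₁.left = e.hom ≫ k₀ := ⟨Over.homMk (e.hom ≫ k₀) hw, rfl⟩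
    have hk₁1 : f' ≫ k₁ = h₁ := by
      apply Over.OverMorphism.ext
      rw [Over.comp_left, hk₁, ← Category.assoc, he1, hk₀1]
    have hk₁2 : k₁ ≫ i = ν := by
      apply Over.OverMorphism.ext
      rw [Over.comp_left, hk₁, Category.assoc, hk₀2, he2]
    refine ⟨(yon S).map k₁ ≫ fst, ⟨?_, ?_⟩, ?_⟩
    · rw [← Category.assoc, ← Functor.map_comp, hk₁1, hh₁']
    · rw [Category.assoc, hfπ, ← Functor.map_comp, hk₁2]
    · rintro k' ⟨hk'1, hk'2⟩
      obtain ⟨k'₁, hk'₁⟩ : ∃ k'₁ : N ⟶ T, (yon S).map k'₁ = k' ≫ inv fst :=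
        (yon S).map_surjective _
      have hk'₁' : (yon S).map k'₁ ≫ fst = k' := by
        rw [hk'₁, Category.assoc, IsIso.inv_hom_id, Category.comp_id]
      have h1 : f' ≫ k'₁ = h₁ := by
        apply (yon S).map_injective
        rw [Functor.map_comp, hk'₁, ← Category.assoc, hk'1, hh₁]
      have h2 : k'₁ ≫ i = ν := by
        apply (yon S).map_injective
        rw [Functor.map_comp, ← hfπ, ← Category.assoc, hk'₁', hk'2]
      have h3 : e.inv ≫ k'₁.left = k₀ := by
        refine Scheme.Hom.normalization.hom_ext g.left (e.inv ≫ k'₁.left) k₀ i.left ?_ ?_ hk₀2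
        · rw [← Category.assoc, he1', ← Over.comp_left, h1, hk₀1]
        · rw [Category.assoc, ← Over.comp_left, h2, he2']
      have h4 : k'₁ = k₁ := by
        apply Over.OverMorphism.ext
        rw [hk₁, ← h3, Iso.hom_inv_id_assoc]
      rw [← hk'₁', h4]

end Groth.Agent.Lib.Helper6.RelNormSch
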