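import Mathlib
import Groth.Prelude.Def_AlgSpMor5
import Groth.Agent.Lib.Helper6.DomExtLift
import Groth.Agent.Lib.Helper16.ValCrit2

/-!
# Helper library (helper6): the valuative criterion for representable morphisms

For a representable morphism of algebraic spaces, the existence part of the valuative criterion with extensions allowed
is equivalent to the one without extensions.  The scheme-level input: if `W ⟶ Spec A` has a section over `Spec K` that
extends to `Spec A'` after a dominating extension `A ⊆ A'` of valuation rings, it extends to `Spec A`, because the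
local ring of `W` at the image of the closed point of `Spec A'` maps to `K ∩ A' = A`.
-/

set_option autoImplicit false
universe u
open CategoryTheory CategoryTheory.Limits AlgebraicGeometry IsLocalRing
open AlgSp Groth.Agent.Lib.Helper16

namespace Groth.Agent.Lib.Helper6.RepVC

variable {S : Scheme.{u}}

theorem exists_section_of_domExt {W : Scheme.{u}} {A K A' K' : Type u} [CommRing A] [IsDomain A] [ValuationRing A]
    [Field K] [Algebra A K] [IsFractionRing A K] [CommRing A'] [IsDomain A'] [ValuationRing A'] [Field K']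
    [Algebra A' K'] [IsFractionRing A' K'] (φ : A →+* A') (ψ : K →+* K')
    (hcomm : (algebraMap A' K').comp φ = ψ.comp (algebraMap A K)) (hloc : IsLocalHom φ)
    (π : W ⟶ Spec (CommRingCat.of A)) (σK : Spec (CommRingCat.of K) ⟶ W) (σA' : Spec (CommRingCat.of A') ⟶ W)
    (h1 : σK ≫ π = Spec.map (CommRingCat.ofHom (algebraMap A K)))
    (h2 : Spec.map (CommRingCat.ofHom (algebraMap A' K')) ≫ σA' = Spec.map (CommRingCat.ofHom ψ) ≫ σK) :
    ∃ σ : Spec (CommRingCat.of A) ⟶ W,
      Spec.map (CommRingCat.ofHom (algebraMap A K)) ≫ σ = σK ∧ σ ≫ π = 𝟙 _ := by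
  -- the specialization
  have hspec : σK (closedPoint K) ⤳ σA' (closedPoint A') := by
    have e0 : (Spec.map (CommRingCat.ofHom (algebraMap A' K')) ≫ σA') (closedPoint K') =
        (Spec.map (CommRingCat.ofHom ψ) ≫ σK) (closedPoint K') := by rw [h2]
    rw [Scheme.Hom.comp_apply, Scheme.Hom.comp_apply] at e0
    have e1 : (closedPoint K : ↥(Spec (CommRingCat.of K))) =
        Spec.map (CommRingCat.ofHom ψ) (closedPoint K') := Subsingleton.elim _ _
    rw [e1, ← e0]
    exact (IsLocalRing.specializes_closedPoint _).map σA'.continuous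
  -- the two local homomorphisms
  let α : W.presheaf.stalk (σA' (closedPoint A')) ⟶ CommRingCat.of A' := Scheme.stalkClosedPointTo σA'
  let β : W.presheaf.stalk (σA' (closedPoint A')) ⟶ CommRingCat.of K :=
    W.presheaf.stalkSpecializes hspec ≫ Scheme.stalkClosedPointTo σK
  have hα : Spec.map α ≫ W.fromSpecStalk _ = σA' := Scheme.Spec_stalkClosedPointTo_fromSpecStalk σA'
  have hβ : Spec.map β ≫ W.fromSpecStalk _ = σK := by
    show Spec.map (W.presheaf.stalkSpecializes hspec ≫ Scheme.stalkClosedPointTo σK) ≫ _ = _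
    rw [Spec.map_comp, Category.assoc, Scheme.SpecMap_stalkSpecializes_fromSpecStalk,
      Scheme.Spec_stalkClosedPointTo_fromSpecStalk]
  have hcompat : α ≫ CommRingCat.ofHom (algebraMap A' K') = β ≫ CommRingCat.ofHom ψ := by
    apply Spec.map_injective
    rw [← cancel_mono (W.fromSpecStalk (σA' (closedPoint A'))), Spec.map_comp, Spec.map_comp, Category.assoc,
      Category.assoc, hα, hβ, h2]
  have hαβ : ∀ x, algebraMap A' K' (α.hom x) = ψ (β.hom x) := fun x => by
    have := congrArg (fun g => (CommRingCat.Hom.hom g) x) hcompat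
    exact this
  -- `β` has values in `A`
  have hrange : ∀ x : W.presheaf.stalk (σA' (closedPoint A')), ∃ a : A, algebraMap A K a = β.hom x := by
    intro x
    by_cases hx0 : β.hom x = 0
    · exact ⟨0, by rw [map_zero, hx0]⟩
    rcases ValuationRing.isInteger_or_isInteger A (β.hom x) with ⟨a, ha⟩ | ⟨a, ha⟩
    · exact ⟨a, ha⟩
    · have h3 : algebraMap A' K' (φ a) = ψ (algebraMap A K a) := RingHom.congr_fun hcomm a
      have h4 : algebraMap A' K' (α.hom x * φ a) = 1 := by
        rw [map_mul, hαβ x, h3, ha, ← map_mul, mul_inv_cancel₀ hx0, map_one]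
      have h5 : α.hom x * φ a = 1 := IsFractionRing.injective A' K' (by rw [h4, map_one])
      have h6 : IsUnit (φ a) := IsUnit.of_mul_eq_one_right (α.hom x) h5
      have h7 : IsUnit a := hloc.map_nonunit a h6
      obtain ⟨v, rfl⟩ := h7
      refine ⟨↑v⁻¹, ?_⟩
      have h8 : algebraMap A K ↑v * algebraMap A K ↑v⁻¹ = 1 := by rw [← map_mul, Units.mul_inv, map_one]
      rw [ha] at h8
      calc algebraMap A K ↑v⁻¹ = β.hom x * ((β.hom x)⁻¹ * algebraMap A K ↑v⁻¹) := by
            rw [← mul_assoc, mul_inv_cancel₀ hx0, one_mul]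
        _ = β.hom x := by rw [h8, mul_one]
  choose c hc using hrange
  have hinj := IsFractionRing.injective A K
  let γ₀ : W.presheaf.stalk (σA' (closedPoint A')) →+* A :=
    { toFun := c
      map_one' := hinj (by rw [hc, map_one, map_one])
      map_mul' := fun x y => hinj (by rw [hc, map_mul, map_mul, hc, hc])
      map_zero' := hinj (by rw [hc, map_zero, map_zero])
      map_add' := fun x y => hinj (by rw [hc, map_add, map_add, hc, hc]) }
  let γ : W.presheaf.stalk (σA' (closedPoint A')) ⟶ CommRingCat.of A := CommRingCat.ofHom γ₀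
  have hγ : γ ≫ CommRingCat.ofHom (algebraMap A K) = β :=
    CommRingCat.hom_ext (RingHom.ext fun x => hc x)
  refine ⟨Spec.map γ ≫ W.fromSpecStalk _, ?_, ?_⟩
  · rw [← Category.assoc, ← Spec.map_comp, hγ, hβ]
  · have h9 : Spec.map (CommRingCat.ofHom (algebraMap A K)) ≫ (Spec.map γ ≫ W.fromSpecStalk _) ≫ π =
        Spec.map (CommRingCat.ofHom (algebraMap A K)) := by
      rw [← Category.assoc, ← Category.assoc, ← Spec.map_comp, hγ, hβ, h1]
    rw [← Spec.map_preimage ((Spec.map γ ≫ W.fromSpecStalk _) ≫ π), ← Spec.map_comp] at h9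
    have h10 := Spec.map_injective h9
    have h11 : Spec.preimage ((Spec.map γ ≫ W.fromSpecStalk _) ≫ π) = 𝟙 _ := by
      apply CommRingCat.hom_ext
      apply RingHom.ext
      intro a
      apply hinj
      have := congrArg (fun g => (CommRingCat.Hom.hom g) a) h10
      exact this
    rw [← Spec.map_preimage ((Spec.map γ ≫ W.fromSpecStalk _) ≫ π), h11, Spec.map_id]

theorem main10282 {S : Scheme.{u}} {X Y : AlgSp.Space S} (f : X ⟶ Y)
    (hf : AlgSp.Representable f.hom) : AlgSp.ExistVC f.hom ↔ AlgSp.ExistVCStrict f.hom := by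
  refine ⟨fun h sq => ?_, fun h => ValCrit.existVC_of_existVCStrict h⟩
  obtain ⟨e, l', hl1, hl2⟩ := h sq
  obtain ⟨W, w, fstW, sqW⟩ := hf sq.bot
  obtain ⟨s₀, hs₀⟩ := (yon S).map_surjective (sqW.lift sq.top ((yon S).map sq.j) sq.comm)
  obtain ⟨lA₀, hlA₀⟩ := (yon S).map_surjective (sqW.lift l' ((yon S).map (DomExtLift.φT e)) hl2)
  have hs1 : (yon S).map s₀ ≫ fstW = sq.top := by rw [hs₀]; exact sqW.lift_fst _ _ _
  have hs2 : s₀ ≫ w = sq.j := (yon S).map_injective (by
    rw [Functor.map_comp, hs₀]; exact sqW.lift_snd _ _ _)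
  have hlA1 : (yon S).map lA₀ ≫ fstW = l' := by rw [hlA₀]; exact sqW.lift_fst _ _ _
  have hlA2 : lA₀ ≫ w = DomExtLift.φT e := (yon S).map_injective (by
    rw [Functor.map_comp, hlA₀]; exact sqW.lift_snd _ _ _)
  have hcompat : DomExtLift.jA' e ≫ lA₀ = DomExtLift.ψT e ≫ s₀ := by
    apply (yon S).map_injective
    apply sqW.hom_ext
    · rw [Functor.map_comp, Functor.map_comp, Category.assoc, Category.assoc, hlA1, hs1]
      exact hl1
    · rw [← Functor.map_comp, ← Functor.map_comp, Category.assoc, Category.assoc, hlA2, hs2]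
      exact congrArg (yon S).map (ValCrit.domExt_comm' e)
  have h1 : s₀.left ≫ w.left = Spec.map (CommRingCat.ofHom (algebraMap sq.A sq.K)) :=
    congrArg CommaMorphism.left hs2
  have h2 : Spec.map (CommRingCat.ofHom (algebraMap e.A' e.K')) ≫ lA₀.left =
      Spec.map (CommRingCat.ofHom e.ψ) ≫ s₀.left := congrArg CommaMorphism.left hcompat
  obtain ⟨σ, hσ1, hσ2⟩ := exists_section_of_domExt (A := sq.A) (K := sq.K) (A' := e.A') (K' := e.K') e.φ e.ψ
    e.comm e.isLocalHom w.left s₀.left lA₀.left h1 h2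
  have hσw : σ ≫ W.hom = sq.ptA.hom := by
    rw [← Over.w w, ← Category.assoc, hσ2, Category.id_comp]
  have hl₀j : sq.j ≫ (Over.homMk σ hσw : sq.ptA ⟶ W) = s₀ := Over.OverMorphism.ext hσ1
  have hl₀w : (Over.homMk σ hσw : sq.ptA ⟶ W) ≫ w = 𝟙 _ := Over.OverMorphism.ext hσ2
  refine ⟨(yon S).map (Over.homMk σ hσw : sq.ptA ⟶ W) ≫ fstW, ?_, ?_⟩
  · rw [← Category.assoc, ← Functor.map_comp, hl₀j, hs1]
  · rw [Category.assoc, sqW.w, ← Category.assoc, ← Functor.map_comp, hl₀w, CategoryTheory.Functor.map_id,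
      Category.id_comp]

end Groth.Agent.Lib.Helper6.RepVC
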