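import Mathlib
import Groth.Prelude.Def_CxOX

set_option autoImplicit false
universe u
open CategoryTheory CategoryTheory.Limits AlgebraicGeometry

attribute [local instance] HasDerivedCategory.standard

namespace Groth.Agent.Lib.Helper6.RgammaZRange

open Scheme.Modules in
/-- if `j₁ ''ᵁ j₁ ⁻¹ᵁ U ≤ j₂ ''ᵁ j₂ ⁻¹ᵁ U` for all `U`, the kernel of the unit for `j₂` is killed by
the unit for `j₁`. -/
lemma ι_comp_unit {U₁ U₂ X : Scheme.{u}} (j₁ : U₁ ⟶ X) (j₂ : U₂ ⟶ X) [IsOpenImmersion j₁]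
    [IsOpenImmersion j₂] (hle : ∀ U : X.Opens, j₁ ''ᵁ j₁ ⁻¹ᵁ U ≤ j₂ ''ᵁ j₂ ⁻¹ᵁ U) (F : X.Modules) :
    kernel.ι ((Scheme.Modules.restrictAdjunction j₂).unit.app F) ≫
      (Scheme.Modules.restrictAdjunction j₁).unit.app F = 0 := by
  apply Scheme.Modules.hom_ext
  intro U
  let K := kernel ((Scheme.Modules.restrictAdjunction j₂).unit.app F)
  let a : K.presheaf.obj (Opposite.op U) ⟶ F.presheaf.obj (Opposite.op U) :=
    (kernel.ι ((Scheme.Modules.restrictAdjunction j₂).unit.app F)).app U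
  let b : F.presheaf.obj (Opposite.op U) ⟶ F.presheaf.obj (Opposite.op (j₂ ''ᵁ j₂ ⁻¹ᵁ U)) :=
    F.presheaf.map (homOfLE (j₂.image_preimage_le U)).op
  let c : F.presheaf.obj (Opposite.op (j₂ ''ᵁ j₂ ⁻¹ᵁ U)) ⟶
      F.presheaf.obj (Opposite.op (j₁ ''ᵁ j₁ ⁻¹ᵁ U)) := F.presheaf.map (homOfLE (hle U)).op
  have h0 : a ≫ b = 0 :=
    congrArg (fun φ => Scheme.Modules.Hom.app φ U)
      (kernel.condition ((Scheme.Modules.restrictAdjunction j₂).unit.app F))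
  have hfac : F.presheaf.map (homOfLE (j₁.image_preimage_le U)).op = b ≫ c := by
    rw [← Functor.map_comp]
    rfl
  change a ≫ F.presheaf.map (homOfLE (j₁.image_preimage_le U)).op = 0
  rw [hfac, ← Category.assoc, h0, zero_comp]

section
variable {U₁ U₂ X : Scheme.{u}} (j₁ : U₁ ⟶ X) (j₂ : U₂ ⟶ X) [IsOpenImmersion j₁]
  [IsOpenImmersion j₂] (h12 : ∀ U : X.Opens, j₁ ''ᵁ j₁ ⁻¹ᵁ U ≤ j₂ ''ᵁ j₂ ⁻¹ᵁ U)
  (h21 : ∀ U : X.Opens, j₂ ''ᵁ j₂ ⁻¹ᵁ U ≤ j₁ ''ᵁ j₁ ⁻¹ᵁ U)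

instance mono_gammaZι {U X : Scheme.{u}} (j : U ⟶ X) [IsOpenImmersion j] (F : X.Modules) :
    Mono ((CxOX.gammaZι j).app F) :=
  inferInstanceAs (Mono (kernel.ι ((Scheme.Modules.restrictAdjunction j).unit.app F)))

/-- comparison map `Γ_{Z₁} F ⟶ Γ_{Z₂} F` -/
noncomputable def cmp (h21 : ∀ U : X.Opens, j₂ ''ᵁ j₂ ⁻¹ᵁ U ≤ j₁ ''ᵁ j₁ ⁻¹ᵁ U) (F : X.Modules) :
    (DCoh.gammaZ j₁).obj F ⟶ (DCoh.gammaZ j₂).obj F :=
  kernel.lift _ (kernel.ι ((Scheme.Modules.restrictAdjunction j₁).unit.app F))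
    (ι_comp_unit j₂ j₁ h21 F)

lemma cmp_ι (F : X.Modules) :
    cmp j₁ j₂ h21 F ≫ (CxOX.gammaZι j₂).app F = (CxOX.gammaZι j₁).app F :=
  kernel.lift_ι _ _ _

/-- `Γ_Z` only depends on the opens `j ''ᵁ j ⁻¹ᵁ -`. -/
noncomputable def gammaZIso : DCoh.gammaZ j₁ ≅ DCoh.gammaZ j₂ :=
  NatIso.ofComponents (fun F =>
    { hom := cmp j₁ j₂ h21 F
      inv := cmp j₂ j₁ h12 F
      hom_inv_id := by
        rw [← cancel_mono ((CxOX.gammaZι j₁).app F), Category.assoc, cmp_ι, cmp_ι,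
          Category.id_comp]
      inv_hom_id := by
        rw [← cancel_mono ((CxOX.gammaZι j₂).app F), Category.assoc, cmp_ι, cmp_ι,
          Category.id_comp] })
    (by
      intro F G φ
      change (DCoh.gammaZ j₁).map φ ≫ cmp j₁ j₂ h21 G = cmp j₁ j₂ h21 F ≫ (DCoh.gammaZ j₂).map φ
      rw [← cancel_mono ((CxOX.gammaZι j₂).app G), Category.assoc, Category.assoc, cmp_ι,
        (CxOX.gammaZι j₂).naturality, ← Category.assoc, cmp_ι, (CxOX.gammaZι j₁).naturality])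

end

section Main

variable {U X : Scheme.{u}} (j : U ⟶ X) [IsOpenImmersion j]

lemma image_preimage_eq (V : X.Opens) :
    j ''ᵁ j ⁻¹ᵁ V = j.opensRange.ι ''ᵁ j.opensRange.ι ⁻¹ᵁ V := by
  rw [Scheme.Hom.image_preimage_eq_opensRange_inf, Scheme.Hom.image_preimage_eq_opensRange_inf,
    Scheme.Opens.opensRange_ι]

/-- `Γ_Z` for `j` and for the inclusion of its range agree. -/
noncomputable def gammaZRangeIso : DCoh.gammaZ j ≅ DCoh.gammaZ j.opensRange.ι :=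
  gammaZIso j j.opensRange.ι (fun V => (image_preimage_eq j V).le)
    (fun V => (image_preimage_eq j V).ge)

/-- the induced iso of functors `K(O_X) ⥤ D(O_X)` -/
noncomputable def gammaZKhIso : CxOX.gammaZKh j ≅ CxOX.gammaZKh j.opensRange.ι :=
  Functor.isoWhiskerRight
    { hom := NatTrans.mapHomotopyCategory (gammaZRangeIso j).hom (ComplexShape.up ℤ)
      inv := NatTrans.mapHomotopyCategory (gammaZRangeIso j).inv (ComplexShape.up ℤ)
      hom_inv_id := by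
        rw [← NatTrans.mapHomotopyCategory_comp, Iso.hom_inv_id, NatTrans.mapHomotopyCategory_id]
      inv_hom_id := by
        rw [← NatTrans.mapHomotopyCategory_comp, Iso.inv_hom_id, NatTrans.mapHomotopyCategory_id] }
    DerivedCategory.Qh

theorem hasRgammaZ_opensRange {U X : Scheme.{u}} (j : U ⟶ X) [IsOpenImmersion j]
    [CxOX.HasRgammaZ j] : CxOX.HasRgammaZ j.opensRange.ι :=
  (Functor.hasRightDerivedFunctor_iff_of_iso
    (W := HomotopyCategory.quasiIso X.Modules (ComplexShape.up ℤ)) (gammaZKhIso j)).mp inferInstance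

theorem nonempty_RgammaZ_iso {U X : Scheme.{u}} (j : U ⟶ X) [IsOpenImmersion j]
    [CxOX.HasRgammaZ j] [CxOX.HasRgammaZ j.opensRange.ι] :
    Nonempty (CxOX.RgammaZ j ≅ CxOX.RgammaZ j.opensRange.ι) :=
  ⟨Functor.rightDerivedNatIso (CxOX.RgammaZ j) (CxOX.RgammaZ j.opensRange.ι)
    ((CxOX.gammaZKh j).totalRightDerivedUnit DerivedCategory.Qh
      (HomotopyCategory.quasiIso X.Modules (ComplexShape.up ℤ)))
    ((CxOX.gammaZKh j.opensRange.ι).totalRightDerivedUnit DerivedCategory.Qh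
      (HomotopyCategory.quasiIso X.Modules (ComplexShape.up ℤ)))
    (HomotopyCategory.quasiIso X.Modules (ComplexShape.up ℤ)) (gammaZKhIso j)⟩

end Main

end Groth.Agent.Lib.Helper6.RgammaZRange
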