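import Mathlib

/-!
# Root combinatorics in a connected Dynkin diagram (helper6)
-/

set_option autoImplicit false
set_option backward.isDefEq.respectTransparency false

universe u v w

namespace Groth.Agent.Lib.Helper6.RootBlock

theorem main {ι : Type u} [Finite ι] [DecidableEq ι] {k : Type v} [Field k] [CharZero k]
    {M : Type w} [AddCommGroup M] [Module k M] {N : Type w} [AddCommGroup N] [Module k N]
    (P : RootPairing ι k M N) [P.IsCrystallographic] [P.IsReduced] [P.IsIrreducible] (b : P.Base)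
    (I A B : Finset ι) (hcover : I ∪ A ∪ B = b.support) (hIA : Disjoint I A) (hIB : Disjoint I B)
    (hAB : Disjoint A B) (hA : A.Nonempty) (hB : B.Nonempty) :
    ∃ l ∈ A, ∃ j : ι, P.root j ∈ AddSubmonoid.closure (P.root '' ↑(I ∪ B)) ∧
      P.root j ∉ Submodule.span k (P.root '' ↑I) ∧ P.pairingIn ℤ j l < 0 := by
  by_contra hG
  have hIBsub : I ∪ B ⊆ b.support := by
    rw [← hcover]
    intro u hu
    rcases Finset.mem_union.mp hu with h | h
    · exact Finset.mem_union_left _ (Finset.mem_union_left _ h)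
    · exact Finset.mem_union_right _ h
  have hAsub : A ⊆ b.support := by
    rw [← hcover]
    intro u hu
    exact Finset.mem_union_left _ (Finset.mem_union_right _ hu)
  have hmemIB : ∀ u : ι, u ∈ b.support → u ∉ A → u ∈ I ∪ B := by
    intro u hu huA
    rw [← hcover] at hu
    simp only [Finset.mem_union] at hu ⊢
    tauto
  have hlin : ∀ g : ι → k, ∑ u ∈ I ∪ B, g u • P.root u = 0 → ∀ u ∈ I ∪ B, g u = 0 := by
    intro g hg
    exact linearIndepOn_iff'.mp b.linearIndepOn_root (I ∪ B) g (Finset.coe_subset.mpr hIBsub) hg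
  have hclos : ∀ (j : ι) (c : ι → ℕ), P.root j = ∑ u ∈ I ∪ B, (c u : k) • P.root u →
      P.root j ∈ AddSubmonoid.closure (P.root '' ↑(I ∪ B)) := by
    intro j c hj
    rw [hj]
    refine AddSubmonoid.sum_mem _ fun u hu => ?_
    rw [Nat.cast_smul_eq_nsmul]
    exact AddSubmonoid.nsmul_mem _
      (AddSubmonoid.subset_closure (Set.mem_image_of_mem _ (Finset.mem_coe.mpr hu))) _
  have hnotspan : ∀ (j : ι) (c : ι → ℕ), P.root j = ∑ u ∈ I ∪ B, (c u : k) • P.root u →
      (∃ u ∈ B, 1 ≤ c u) → P.root j ∉ Submodule.span k (P.root '' ↑I) := by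
    intro j c hj ⟨u0, hu0B, hu0⟩ hmem
    obtain ⟨g, hg⟩ := (Submodule.mem_span_image_finset_iff_exists_fun' k).mp hmem
    have hu0I : u0 ∉ I := fun h => Finset.disjoint_left.mp hIB h hu0B
    have hsum : ∑ u ∈ I ∪ B, ((c u : k) - (if u ∈ I then g u else 0)) • P.root u = 0 := by
      simp only [sub_smul, Finset.sum_sub_distrib]
      rw [← hj, sub_eq_zero, ← hg]
      rw [← Finset.sum_subset (Finset.subset_union_left : I ⊆ I ∪ B)]
      · exact Finset.sum_congr rfl fun u hu => by rw [if_pos hu]
      · intro u _ hu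
        rw [if_neg hu, zero_smul]
    have h0 := hlin _ hsum u0 (Finset.mem_union_right _ hu0B)
    rw [if_neg hu0I, sub_zero] at h0
    have h1 : c u0 = 0 := by exact_mod_cast h0
    omega
  have hpair : ∀ (j : ι) (c : ι → ℕ), P.root j = ∑ u ∈ I ∪ B, (c u : k) • P.root u →
      ∀ l : ι, P.pairingIn ℤ j l = ∑ u ∈ I ∪ B, (c u : ℤ) * P.pairingIn ℤ u l := by
    intro j c hj l
    apply FaithfulSMul.algebraMap_injective ℤ k
    rw [P.algebraMap_pairingIn ℤ, ← P.root_coroot'_eq_pairing, hj, map_sum, map_sum]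
    refine Finset.sum_congr rfl fun u _ => ?_
    simp only [map_smul, RootPairing.root_coroot'_eq_pairing, smul_eq_mul, map_mul, map_natCast,
      RootPairing.algebraMap_pairingIn]
  let p : b.support → Prop := fun s => (s : ι) ∉ A ∧ ∃ (j : ι) (c : ι → ℕ),
    P.root j = ∑ u ∈ I ∪ B, (c u : k) • P.root u ∧ 1 ≤ c (s : ι) ∧ ∃ u ∈ B, 1 ≤ c u
  obtain ⟨b0, hb0⟩ := hB
  obtain ⟨a0, ha0⟩ := hA
  have hb0s : b0 ∈ b.support := hIBsub (Finset.mem_union_right _ hb0)
  have ha0s : a0 ∈ b.support := hAsub ha0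
  have hp0 : p ⟨b0, hb0s⟩ := by
    refine ⟨fun h => Finset.disjoint_left.mp hAB h hb0, b0, fun u => if u = b0 then 1 else 0,
      ?_, ?_, b0, hb0, ?_⟩
    · simp [Finset.sum_ite_eq', Finset.mem_union, hb0]
    · simp
    · simp
  have hprop : ∀ s t : b.support, p s → b.cartanMatrix t s ≠ 0 → p t := by
    intro s t ⟨hsA, j, c, hj, hcs, hcB⟩ hcart
    by_cases hst : s = t
    · subst hst
      exact ⟨hsA, j, c, hj, hcs, hcB⟩
    have hneg : P.pairingIn ℤ (s : ι) (t : ι) < 0 := by
      have h1 : b.cartanMatrix s t ≠ 0 := by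
        rwa [ne_eq, b.cartanMatrix_apply_eq_zero_iff_symm]
      have h2 : b.cartanMatrix s t ≤ 0 := b.cartanMatrix_le_zero_of_ne s t hst
      exact lt_of_le_of_ne h2 h1
    have hsmem : (s : ι) ∈ I ∪ B := hmemIB _ s.2 hsA
    have hjt : ((t : ι) ∈ A ∨ c (t : ι) = 0) → P.pairingIn ℤ j (t : ι) < 0 := by
      intro ht
      rw [hpair j c hj, ← Finset.add_sum_erase _ _ hsmem]
      have h1 : (c (s : ι) : ℤ) * P.pairingIn ℤ (s : ι) (t : ι) ≤ P.pairingIn ℤ (s : ι) (t : ι) := by
        have hc1 : (1 : ℤ) ≤ (c (s : ι) : ℤ) := by exact_mod_cast hcs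
        nlinarith
      have h2 : ∑ u ∈ (I ∪ B).erase (s : ι), (c u : ℤ) * P.pairingIn ℤ u (t : ι) ≤ 0 := by
        refine Finset.sum_nonpos fun u hu => ?_
        have hu' := Finset.mem_of_mem_erase hu
        by_cases hut : u = (t : ι)
        · rcases ht with htA | htc
          · exfalso
            rw [← hut] at htA
            rcases Finset.mem_union.mp hu' with h | h
            · exact Finset.disjoint_left.mp hIA h htA
            · exact Finset.disjoint_left.mp hAB htA h
          · rw [hut, htc]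
            simp
        · have h3 := b.pairingIn_le_zero_of_ne hut (hIBsub hu') t.2
          have hc : (0 : ℤ) ≤ (c u : ℤ) := Int.natCast_nonneg _
          exact mul_nonpos_of_nonneg_of_nonpos hc h3
      linarith
    by_cases htA : (t : ι) ∈ A
    · exfalso
      exact hG ⟨t, htA, j, hclos j c hj, hnotspan j c hj hcB, hjt (Or.inl htA)⟩
    · by_cases hct : 1 ≤ c (t : ι)
      · exact ⟨htA, j, c, hj, hct, hcB⟩
      · have hct0 : c (t : ι) = 0 := by omega
        have hlt := hjt (Or.inr hct0)
        have htmem : (t : ι) ∈ I ∪ B := hmemIB _ t.2 htA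
        have hne : P.root j ≠ -P.root (t : ι) := by
          intro h
          have hsum : ∑ u ∈ I ∪ B,
              ((c u : k) + (if u = (t : ι) then 1 else 0)) • P.root u = 0 := by
            simp only [add_smul, Finset.sum_add_distrib, ite_smul, one_smul, zero_smul,
              Finset.sum_ite_eq', htmem, if_true]
            rw [← hj, h, neg_add_cancel]
          have h0 := hlin _ hsum t htmem
          rw [if_pos rfl, hct0] at h0
          simp at h0
        obtain ⟨j', hj'⟩ := P.root_add_root_mem_of_pairingIn_neg hlt hne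
        refine ⟨htA, j', fun u => c u + (if u = (t : ι) then 1 else 0), ?_, ?_, ?_⟩
        · rw [hj', hj]
          simp only [Nat.cast_add, Nat.cast_ite, Nat.cast_one, Nat.cast_zero, add_smul,
            Finset.sum_add_distrib, ite_smul, one_smul, zero_smul, Finset.sum_ite_eq', htmem,
            if_true]
        · simp
        · obtain ⟨u, hu, hcu⟩ := hcB
          exact ⟨u, hu, le_trans hcu (Nat.le_add_right _ _)⟩
  have hall : p ⟨a0, ha0s⟩ := b.induction_on_cartanMatrix p hp0 hprop
  exact hall.1 ha0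

end Groth.Agent.Lib.Helper6.RootBlock
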