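import Groth.Prelude.Def_CInt
import Mathlib.AlgebraicGeometry.Morphisms.Flat
import Mathlib.AlgebraicGeometry.Morphisms.QuasiCompact
import Mathlib.AlgebraicGeometry.Noetherian
import Mathlib.RingTheory.Flat.Basic

/-!
# Schematically dense opens and flat base change (locally Noetherian base)
-/

universe u

open CategoryTheory CategoryTheory.Limits AlgebraicGeometry TensorProduct

namespace Groth.Agent.Lib.Helper6.SchemDense

theorem eq_zero_of_flat {A B : Type*} [CommRing A] [CommRing B] [Algebra A B] [Module.Flat A B]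
    {ι : Type*} [Fintype ι] (a : ι → A) (hA : ∀ x : A, (∀ i, a i * x = 0) → x = 0) (s : B)
    (hs : ∀ i, algebraMap A B (a i) * s = 0) : s = 0 := by
  classical
  let L : A →ₗ[A] (ι → A) := LinearMap.pi fun i => LinearMap.mulLeft A (a i)
  have hL : Function.Injective L := by
    rw [injective_iff_map_eq_zero]
    intro x hx
    apply hA
    intro i
    exact congrFun hx i
  have hinj := Module.Flat.lTensor_preserves_injective_linearMap (M := B) L hL
  have h1 : (L.lTensor B) (s ⊗ₜ[A] (1 : A)) = 0 := by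
    rw [LinearMap.lTensor_tmul]
    have e : L 1 = ∑ i, a i • (Pi.single i (1 : A) : ι → A) := by
      ext j
      simp [L, Finset.sum_apply, Pi.single_apply]
    rw [e, TensorProduct.tmul_sum]
    apply Finset.sum_eq_zero
    intro i _
    rw [TensorProduct.tmul_smul, TensorProduct.smul_tmul', Algebra.smul_def, hs i,
      TensorProduct.zero_tmul]
  have h2 : s ⊗ₜ[A] (1 : A) = 0 := hinj (by rw [h1, map_zero])
  have h3 := congrArg (TensorProduct.rid A B) h2
  simpa using h3

theorem exists_family (X : Scheme.{u}) (U : X.Opens) (hU : IsAffineOpen U)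
    [IsNoetherianRing Γ(X, U)] (V : X.Opens) (hV : CInt.IsSchematicallyDense V) :
    ∃ (ι : Type u) (_ : Fintype ι) (a : ι → Γ(X, U)), (∀ i, X.basicOpen (a i) ≤ V) ∧
      ∀ (N : ℕ) (x : Γ(X, U)), (∀ i, a i ^ N * x = 0) → x = 0 := by
  have : TopologicalSpace.NoetherianSpace U := noetherianSpace_of_isAffineOpen U hU
  have hcpt : IsCompact ((U ⊓ V : X.Opens) : Set X) := by
    have h1 : IsCompact (Subtype.val ⁻¹' (V : Set X) : Set U) :=
      TopologicalSpace.NoetherianSpace.isCompact _
    have hset : ((U ⊓ V : X.Opens) : Set X) =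
        Subtype.val '' (Subtype.val ⁻¹' (V : Set X) : Set U) := by
      apply Set.ext
      intro y
      constructor
      · intro hy
        exact ⟨⟨y, hy.1⟩, hy.2, rfl⟩
      · rintro ⟨⟨z, hz⟩, h2, rfl⟩
        exact ⟨hz, h2⟩
    rw [hset]
    exact h1.image continuous_subtype_val
  have hex : ∀ y (hy : y ∈ ((U ⊓ V : X.Opens) : Set X)),
      ∃ a : Γ(X, U), X.basicOpen a ≤ U ⊓ V ∧ y ∈ X.basicOpen a := by
    intro y hy
    exact hU.exists_basicOpen_le ⟨y, hy⟩ hy.1
  choose a ha1 ha2 using hex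
  obtain ⟨t, ht⟩ := hcpt.elim_nhds_subcover' (fun y hy => (X.basicOpen (a y hy) : Set X))
    (fun y hy => (X.basicOpen (a y hy)).isOpen.mem_nhds (ha2 y hy))
  refine ⟨↥t, inferInstance, fun i => a i.1.1 i.1.2, fun i => (ha1 _ _).trans inf_le_right, ?_⟩
  intro N x hx
  apply hV U
  rw [map_zero]
  apply TopCat.Presheaf.section_ext X.sheaf (U ⊓ V)
  intro y hy
  change X.presheaf.germ (U ⊓ V) y hy _ = X.presheaf.germ (U ⊓ V) y hy 0
  rw [map_zero, TopCat.Presheaf.germ_res_apply]
  have hyt := ht hy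
  simp only [Set.mem_iUnion] at hyt
  obtain ⟨i, hit, hyi⟩ := hyt
  have hunit : IsUnit (X.presheaf.germ U y hy.1 (a i.1 i.2)) :=
    (X.mem_basicOpen (a i.1 i.2) y hy.1).mp hyi
  have h0 := congrArg (X.presheaf.germ U y hy.1) (hx ⟨i, hit⟩)
  rw [map_mul, map_pow, map_zero] at h0
  exact (hunit.pow N).mul_right_eq_zero.mp h0

theorem isSchematicallyDense_preimage_of_flat {X X' : Scheme.{u}} (f : X' ⟶ X) [Flat f]
    [IsLocallyNoetherian X] (V : X.Opens) (hV : CInt.IsSchematicallyDense V) :
    CInt.IsSchematicallyDense (f ⁻¹ᵁ V) := by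
  intro W
  rw [injective_iff_map_eq_zero]
  intro t ht
  apply TopCat.Presheaf.section_ext X'.sheaf W
  intro x' hx'
  obtain ⟨U, hU, hfxU, -⟩ := TopologicalSpace.Opens.isBasis_iff_nbhd.mp X.isBasis_affineOpens
    (show f x' ∈ (⊤ : X.Opens) from trivial)
  obtain ⟨U', hU', hx'U', hU'le⟩ :=
    TopologicalSpace.Opens.isBasis_iff_nbhd.mp X'.isBasis_affineOpens
      (show x' ∈ W ⊓ f ⁻¹ᵁ U from ⟨hx', hfxU⟩)
  have hN : IsNoetherianRing Γ(X, U) := IsLocallyNoetherian.component_noetherian ⟨U, hU⟩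
  obtain ⟨ι, _, a, ha1, ha2⟩ := exists_family X U hU V hV
  have e : U' ≤ f ⁻¹ᵁ U := hU'le.trans inf_le_right
  have hflat : (f.appLE U U' e).hom.Flat := Flat.flat_appLE f hU hU' e
  have h3 : ∀ i, ∃ n : ℕ, (f.appLE U U' e).hom (a i) ^ n *
      X'.presheaf.map (homOfLE (hU'le.trans inf_le_left)).op t = 0 := by
    intro i
    apply exists_pow_mul_eq_zero_of_res_basicOpen_eq_zero_of_isCompact X' hU'.isCompact
    have hle : X'.basicOpen ((f.appLE U U' e).hom (a i)) ≤ W ⊓ f ⁻¹ᵁ V := by
      rw [Scheme.basicOpen_appLE]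
      refine le_inf (inf_le_left.trans (hU'le.trans inf_le_left)) (inf_le_right.trans ?_)
      exact (TopologicalSpace.Opens.map f.base).monotone (ha1 i)
    have e2 : X'.presheaf.map (homOfLE (X'.basicOpen_le ((f.appLE U U' e).hom (a i)))).op
        (X'.presheaf.map (homOfLE (hU'le.trans inf_le_left)).op t) =
        X'.presheaf.map (homOfLE hle).op
          (X'.presheaf.map (homOfLE (inf_le_left : W ⊓ f ⁻¹ᵁ V ≤ W)).op t) := by
      rw [← CommRingCat.comp_apply, ← CommRingCat.comp_apply, ← Functor.map_comp,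
        ← Functor.map_comp]
      rfl
    change X'.presheaf.map (homOfLE (X'.basicOpen_le ((f.appLE U U' e).hom (a i)))).op
        (X'.presheaf.map (homOfLE (hU'le.trans inf_le_left)).op t) = 0
    rw [e2, ht, map_zero]
  choose n hn using h3
  have h4 : ∀ i, (f.appLE U U' e).hom (a i ^ Finset.univ.sup n) *
      X'.presheaf.map (homOfLE (hU'le.trans inf_le_left)).op t = 0 := by
    intro i
    have hle : n i ≤ Finset.univ.sup n := Finset.le_sup (Finset.mem_univ i)
    rw [map_pow, ← Nat.sub_add_cancel hle, pow_add, mul_assoc, hn i, mul_zero]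
  have h5 : X'.presheaf.map (homOfLE (hU'le.trans inf_le_left)).op t = 0 := by
    let _ := (f.appLE U U' e).hom.toAlgebra
    have : Module.Flat Γ(X, U) Γ(X', U') := hflat
    exact eq_zero_of_flat (fun i => a i ^ Finset.univ.sup n)
      (fun x hx => ha2 (Finset.univ.sup n) x hx) _ h4
  change X'.presheaf.germ W x' hx' t = X'.presheaf.germ W x' hx' 0
  rw [map_zero, ← TopCat.Presheaf.germ_res_apply X'.presheaf
    (homOfLE (hU'le.trans inf_le_left)) x' hx'U' t, h5, map_zero]

end Groth.Agent.Lib.Helper6.SchemDense
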