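import Mathlib
import Groth.Prelude.Def_CInt
import Groth.Agent.Lib.Helper3.AffinePoints

/-!
# Schematically dense opens of an affine scheme

* `idealOf X U`: the ideal of global functions `f` with `D(f) ⊆ U`.
* `eq_zero_of_mul_eq_zero`: if `U` is schematically dense and `a` kills `idealOf X U` then `a = 0`.
* `exists_nonZeroDivisor`: for `X` affine Noetherian, or reduced with finitely many irreducible
  components, a schematically dense open contains `D(t)` for a nonzerodivisor `t`.
-/

set_option autoImplicit false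
universe u
open CategoryTheory AlgebraicGeometry TopologicalSpace Opposite

namespace Groth.Agent.Lib.Helper6.SchemDenseAff

variable (X : Scheme.{u})

/-- The ideal of global functions whose nonvanishing locus lies in `U`. -/
def idealOf (U : X.Opens) : Ideal Γ(X, ⊤) where
  carrier := {f | X.basicOpen f ≤ U}
  add_mem' := fun {f g} hf hg => by
    have hf' : X.basicOpen f ≤ U := hf
    have hg' : X.basicOpen g ≤ U := hg
    exact (X.basicOpen_add_le f g).trans (sup_le hf' hg')
  zero_mem' := by
    change X.basicOpen (0 : Γ(X, ⊤)) ≤ U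
    rw [Scheme.basicOpen_zero]
    exact bot_le
  smul_mem' := fun c f hf => by
    have hf' : X.basicOpen f ≤ U := hf
    change X.basicOpen (c * f) ≤ U
    rw [Scheme.basicOpen_mul]
    exact inf_le_right.trans hf'

theorem mem_idealOf (U : X.Opens) (f : Γ(X, ⊤)) : f ∈ idealOf X U ↔ X.basicOpen f ≤ U := Iff.rfl

/-- The prime ideal of global sections corresponding to a point of an affine scheme. -/
noncomputable def primeOf [IsAffine X] (x : X) : Ideal Γ(X, ⊤) :=
  ((isAffineOpen_top X).primeIdealOf ⟨x, trivial⟩).asIdeal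

instance [IsAffine X] (x : X) : (primeOf X x).IsPrime :=
  ((isAffineOpen_top X).primeIdealOf ⟨x, trivial⟩).isPrime

theorem mem_basicOpen_iff [IsAffine X] (x : X) (t : Γ(X, ⊤)) :
    x ∈ X.basicOpen t ↔ t ∉ primeOf X x :=
  Groth.Agent.Lib.Helper3.mem_basicOpen_iff_notMem_primeIdealOf (isAffineOpen_top X) x trivial t

theorem primeOf_le_iff [IsAffine X] (x y : X) : primeOf X x ≤ primeOf X y ↔ x ⤳ y :=
  Groth.Agent.Lib.Helper3.primeIdealOf_le_iff_specializes (isAffineOpen_top X) x y trivial trivial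

theorem eq_zero_of_mul_eq_zero [IsAffine X] {U : X.Opens} (hU : CInt.IsSchematicallyDense U)
    (a : Γ(X, ⊤)) (ha : ∀ f : Γ(X, ⊤), X.basicOpen f ≤ U → a * f = 0) : a = 0 := by
  apply hU ⊤
  rw [map_zero]
  apply TopCat.Presheaf.section_ext X.sheaf (⊤ ⊓ U)
  intro x hx
  have hxU : x ∈ U := hx.2
  obtain ⟨W, ⟨f, rfl⟩, hxf, hfU⟩ := Opens.isBasis_iff_nbhd.mp (isBasis_basicOpen X) hxU
  have h0 : a * f = 0 := ha f hfU
  have hunit : IsUnit (X.presheaf.germ ⊤ x trivial f) :=
    (Scheme.mem_basicOpen X f x trivial).mp hxf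
  have hg := congrArg (X.presheaf.germ ⊤ x trivial) h0
  rw [map_mul, map_zero] at hg
  have hga : X.presheaf.germ ⊤ x trivial a = 0 := (hunit.mul_left_eq_zero).mp hg
  change X.presheaf.germ (⊤ ⊓ U) x hx
    (X.presheaf.map (homOfLE (inf_le_left : ⊤ ⊓ U ≤ ⊤)).op a) = X.presheaf.germ (⊤ ⊓ U) x hx 0
  rw [map_zero, TopCat.Presheaf.germ_res_apply]
  exact hga

theorem exists_genericPoint_specializes (x : X) : ∃ η ∈ genericPoints X, η ⤳ x := by
  let Z : irreducibleComponents X :=
    ⟨irreducibleComponent x, irreducibleComponent_mem_irreducibleComponents x⟩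
  refine ⟨(genericPoints.ofComponent Z).1, (genericPoints.ofComponent Z).2, ?_⟩
  have hgen : IsGenericPoint (genericPoints.ofComponent Z).1 (irreducibleComponent x) :=
    genericPoints.isGenericPoint_ofComponent Z
  rw [specializes_iff_mem_closure, hgen.def]
  exact mem_irreducibleComponent

theorem eq_of_specializes_genericPoints {η η' : X} (hη : η ∈ genericPoints X)
    (hη' : η' ∈ genericPoints X) (h : η ⤳ η') : η = η' := by
  have h1 : closure {η'} ⊆ closure {η} := specializes_iff_closure_subset.mp h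
  have h2 : closure {η} ⊆ closure {η'} := hη'.2 hη.1 h1
  exact (h.antisymm (specializes_iff_closure_subset.mpr h2)).eq

theorem exists_genericPoint_notMem [IsAffine X] [IsReduced X] (s : Γ(X, ⊤)) (hs : s ≠ 0) :
    ∃ η ∈ genericPoints X, s ∉ primeOf X η := by
  have hne : X.basicOpen s ≠ ⊥ := fun h => hs ((basicOpen_eq_bot_iff s).mp h)
  obtain ⟨x, hx⟩ := (Opens.ne_bot_iff_nonempty _).mp hne
  obtain ⟨η, hη, hηx⟩ := exists_genericPoint_specializes X x
  refine ⟨η, hη, ?_⟩
  have hηs : η ∈ X.basicOpen s := hηx.mem_open (X.basicOpen s).isOpen hx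
  exact (mem_basicOpen_iff X η s).mp hηs

theorem exists_nonZeroDivisor [IsAffine X]
    (hX : IsNoetherian X ∨ (IsReduced X ∧ (irreducibleComponents ↥X).Finite)) {U : X.Opens}
    (hU : CInt.IsSchematicallyDense U) :
    ∃ t : Γ(X, ⊤), t ∈ nonZeroDivisors Γ(X, ⊤) ∧ X.basicOpen t ≤ U := by
  by_contra hcon
  push Not at hcon
  have hdisj : ∀ f ∈ idealOf X U, f ∉ nonZeroDivisors Γ(X, ⊤) :=
    fun f hf hnzd => hcon f hnzd hf
  obtain ⟨a, ha0, ha⟩ : ∃ a : Γ(X, ⊤), a ≠ 0 ∧ ∀ f ∈ idealOf X U, a * f = 0 := by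
    rcases hX with hN | ⟨hR, hfin⟩
    · haveI : IsNoetherianRing Γ(X, ⊤) :=
        IsLocallyNoetherian.component_noetherian ⟨⊤, isAffineOpen_top X⟩
      have hd : Disjoint (idealOf X U : Set Γ(X, ⊤)) (nonZeroDivisors Γ(X, ⊤)) :=
        Set.disjoint_left.mpr fun f hf hnzd => hdisj f hf hnzd
      have hlt := Ideal.bot_lt_annihilator_of_disjoint_nonZeroDivisors hd
      obtain ⟨-, a, haann, hane⟩ := SetLike.lt_iff_le_and_exists.mp hlt
      refine ⟨a, fun h => hane (by rw [h]; exact Submodule.zero_mem _), fun f hf => ?_⟩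
      have := (Module.mem_annihilator.mp haann) ⟨f, hf⟩
      simpa using congrArg Subtype.val this
    · haveI := hR
      have hGfin : (genericPoints X).Finite := genericPoints.finite hfin
      have hzd : ∀ t : Γ(X, ⊤), t ∉ nonZeroDivisors Γ(X, ⊤) →
          ∃ η ∈ genericPoints X, t ∈ primeOf X η := by
        intro t ht
        rw [mem_nonZeroDivisors_iff_right] at ht
        push Not at ht
        obtain ⟨s, hst, hs0⟩ := ht
        obtain ⟨η, hη, hsη⟩ := exists_genericPoint_notMem X s hs0
        have hmem : s * t ∈ primeOf X η := by rw [hst]; exact (primeOf X η).zero_mem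
        exact ⟨η, hη, ((inferInstance : (primeOf X η).IsPrime).mem_or_mem hmem).resolve_left hsη⟩
      obtain ⟨η₁, hη₁, -⟩ := hzd 0 (hdisj 0 (idealOf X U).zero_mem)
      have hsub : ((idealOf X U : Ideal Γ(X, ⊤)) : Set Γ(X, ⊤)) ⊆
          ⋃ η ∈ genericPoints X, (primeOf X η : Set Γ(X, ⊤)) := by
        intro f hf
        obtain ⟨η, hη, hfη⟩ := hzd f (hdisj f hf)
        exact Set.mem_biUnion hη hfη
      obtain ⟨η₀, hη₀, hIη₀⟩ := (Ideal.subset_union_prime_finite hGfin η₁ η₁
        (fun η _ _ _ => inferInstance)).mp hsub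
      classical
      have hex : ∃ a ∈ (hGfin.toFinset.erase η₀).inf (primeOf X), a ∉ primeOf X η₀ := by
        by_contra hno
        push Not at hno
        have hle : (hGfin.toFinset.erase η₀).inf (primeOf X) ≤ primeOf X η₀ :=
          fun a ha => hno a ha
        obtain ⟨η, hηmem, hηle⟩ := (Ideal.IsPrime.inf_le' inferInstance).mp hle
        rw [Finset.mem_erase, Set.Finite.mem_toFinset] at hηmem
        have hspec : η ⤳ η₀ := (primeOf_le_iff X η η₀).mp hηle
        exact hηmem.1 (eq_of_specializes_genericPoints X hηmem.2 hη₀ hspec)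
      obtain ⟨a, hainf, haη₀⟩ := hex
      refine ⟨a, fun h => haη₀ (by rw [h]; exact (primeOf X η₀).zero_mem), fun f hf => ?_⟩
      by_contra hne
      obtain ⟨η, hη, hnot⟩ := exists_genericPoint_notMem X (a * f) hne
      apply hnot
      by_cases h : η = η₀
      · rw [h]
        exact (primeOf X η₀).mul_mem_left a (hIη₀ hf)
      · have hηmem : η ∈ hGfin.toFinset.erase η₀ :=
          Finset.mem_erase.mpr ⟨h, hGfin.mem_toFinset.mpr hη⟩
        have hale : (hGfin.toFinset.erase η₀).inf (primeOf X) ≤ primeOf X η := Finset.inf_le hηmem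
        exact (primeOf X η).mul_mem_right f (hale hainf)
  exact ha0 (eq_zero_of_mul_eq_zero X hU a fun f hf => ha f hf)

end Groth.Agent.Lib.Helper6.SchemDenseAff
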