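import Mathlib
import Groth.Prelude.Def_CInt
import Groth.Agent.Lib.Helper6.SchemDenseAff

/-!
# Schematically dense opens contain the generic points (locally finite components)
-/

set_option autoImplicit false
universe u
open CategoryTheory AlgebraicGeometry TopologicalSpace Opposite

namespace Groth.Agent.Lib.Helper6.SchemDenseAff

theorem genericPoint_mem_of_isSchematicallyDense {X : Scheme.{u}}
    (hfin : ∀ x : ↥X, ∃ W : X.Opens, x ∈ W ∧
      {Z ∈ irreducibleComponents ↥X | (Z ∩ (W : Set ↥X)).Nonempty}.Finite)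
    {V : X.Opens} (hV : CInt.IsSchematicallyDense V) {η : X} (hη : η ∈ genericPoints X) :
    η ∈ V := by
  obtain ⟨W, hηW, hWfin⟩ := hfin η
  set Z₀ : Set X := closure {η} with hZ₀
  set S : Set (Set X) :=
    {Z ∈ irreducibleComponents ↥X | (Z ∩ (W : Set ↥X)).Nonempty} \ {Z₀} with hS
  have hSfin : S.Finite := hWfin.subset Set.diff_subset
  have hclosed : IsClosed (⋃ Z ∈ S, Z) :=
    hSfin.isClosed_biUnion fun Z hZ => isClosed_of_mem_irreducibleComponents Z hZ.1.1
  let W₀ : X.Opens := ⟨(W : Set X) ∩ (⋃ Z ∈ S, Z)ᶜ, W.isOpen.inter hclosed.isOpen_compl⟩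
  have hηW₀ : η ∈ W₀ := by
    refine ⟨hηW, ?_⟩
    intro hmem
    rw [Set.mem_iUnion₂] at hmem
    obtain ⟨Z, hZS, hηZ⟩ := hmem
    have hZcomp : Z ∈ irreducibleComponents X := hZS.1.1
    have hsub : Z₀ ⊆ Z :=
      (isClosed_of_mem_irreducibleComponents Z hZcomp).closure_subset_iff.mpr
        (Set.singleton_subset_iff.mpr hηZ)
    have hsub' : Z ⊆ Z₀ := hη.2 hZcomp.1 hsub
    exact hZS.2 (Set.Subset.antisymm hsub' hsub)
  have hW₀Z : ∀ x ∈ W₀, η ⤳ x := by
    intro x hx
    rw [specializes_iff_mem_closure]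
    have hZ := irreducibleComponent_mem_irreducibleComponents x
    have hxZ : x ∈ irreducibleComponent x := mem_irreducibleComponent
    by_contra hxZ₀
    apply hx.2
    rw [Set.mem_iUnion₂]
    refine ⟨irreducibleComponent x, ⟨⟨hZ, ⟨x, hxZ, hx.1⟩⟩, ?_⟩, hxZ⟩
    intro heq
    have heq' : irreducibleComponent x = Z₀ := heq
    apply hxZ₀
    rw [← hZ₀, ← heq']
    exact hxZ
  have hne : ∃ x, x ∈ W₀ ⊓ V := by
    by_contra hempty
    push Not at hempty
    have hinj := hV W₀
    have h10 : (1 : Γ(X, W₀)) = 0 := by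
      apply hinj
      apply TopCat.Presheaf.section_ext X.sheaf (W₀ ⊓ V)
      intro x hx
      exact absurd hx (hempty x)
    have hg := congrArg (X.presheaf.germ W₀ η hηW₀) h10
    rw [map_one, map_zero] at hg
    exact one_ne_zero hg
  obtain ⟨x, hxW₀, hxV⟩ := hne
  exact (hW₀Z x hxW₀).mem_open V.isOpen hxV

end Groth.Agent.Lib.Helper6.SchemDenseAff
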