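import Mathlib
import Groth.Prelude

/-!
# Restriction of cohomology classes in degree zero (helper6)

`CohPull.resLE F h 0` sends the class of a section `s` over `U` to the class of `s|_{U'}`.
-/

set_option linter.style.haveILetI false
set_option autoImplicit false
set_option backward.isDefEq.respectTransparency.types false

universe u
open CategoryTheory AlgebraicGeometry Opposite TopologicalSpace
open AlgebraicGeometry.Scheme.Modules

noncomputable section

namespace Groth.Agent.Lib.Helper6.SectCmpR3

section K1

variable {A B X : Scheme.{u}} (r : A ⟶ B) (i : B ⟶ X) [IsOpenImmersion r] [IsOpenImmersion i]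

lemma unit_rFC (F : X.Modules) :
    (restrictAdjunction i).unit.app F ≫
      (pushforward i).map ((restrictAdjunction r).unit.app ((restrictFunctor i).obj F)) ≫
      (pushforward i).map ((pushforward r).map ((restrictFunctorComp r i).inv.app F)) ≫
      (pushforwardComp r i).hom.app ((restrictFunctor (r ≫ i)).obj F) =
    (restrictAdjunction (r ≫ i)).unit.app F := by
  apply Scheme.Modules.hom_ext
  intro V
  simp only [Hom.comp_app, pushforward_map_app, restrictAdjunction_unit_app_app,
    restrictFunctorComp_inv_app_app, pushforwardComp_hom_app_app, restrict_map]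
  erw [Category.comp_id, ← F.presheaf.map_comp, ← F.presheaf.map_comp]
  rfl

lemma K1' (F : X.Modules) :
    (restrictFunctorIsoPullback r).hom.app ((restrictFunctor i).obj F) ≫
      (pullback r).map ((restrictFunctorIsoPullback i).hom.app F) ≫
      (pullbackComp r i).hom.app F =
    (restrictFunctorComp r i).inv.app F ≫ (restrictFunctorIsoPullback (r ≫ i)).hom.app F := by
  have f1 : (restrictAdjunction i).unit.app F ≫
      (pushforward i).map ((restrictFunctorIsoPullback i).hom.app F) =
      (pullbackPushforwardAdjunction i).unit.app F :=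
    Adjunction.unit_leftAdjointUniq_hom_app _ _ F
  have f2 : (restrictAdjunction r).unit.app ((restrictFunctor i).obj F) ≫
      (pushforward r).map ((restrictFunctorIsoPullback r).hom.app ((restrictFunctor i).obj F)) =
      (pullbackPushforwardAdjunction r).unit.app ((restrictFunctor i).obj F) :=
    Adjunction.unit_leftAdjointUniq_hom_app _ _ _
  have f6 : (restrictAdjunction (r ≫ i)).unit.app F ≫
      (pushforward (r ≫ i)).map ((restrictFunctorIsoPullback (r ≫ i)).hom.app F) =
      (pullbackPushforwardAdjunction (r ≫ i)).unit.app F :=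
    Adjunction.unit_leftAdjointUniq_hom_app _ _ F
  have f3 : (pullbackPushforwardAdjunction r).unit.app ((restrictFunctor i).obj F) ≫
      (pushforward r).map ((pullback r).map ((restrictFunctorIsoPullback i).hom.app F)) =
      (restrictFunctorIsoPullback i).hom.app F ≫
        (pullbackPushforwardAdjunction r).unit.app ((pullback i).obj F) :=
    ((pullbackPushforwardAdjunction r).unit.naturality
      ((restrictFunctorIsoPullback i).hom.app F)).symm
  have f2' : (pushforward i).map ((restrictAdjunction r).unit.app ((restrictFunctor i).obj F)) ≫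
      (pushforward i).map ((pushforward r).map
        ((restrictFunctorIsoPullback r).hom.app ((restrictFunctor i).obj F))) =
      (pushforward i).map
        ((pullbackPushforwardAdjunction r).unit.app ((restrictFunctor i).obj F)) := by
    rw [← Functor.map_comp, f2]
  have f3' : (pushforward i).map
        ((pullbackPushforwardAdjunction r).unit.app ((restrictFunctor i).obj F)) ≫
      (pushforward i).map ((pushforward r).map
        ((pullback r).map ((restrictFunctorIsoPullback i).hom.app F))) =
      (pushforward i).map ((restrictFunctorIsoPullback i).hom.app F) ≫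
        (pushforward i).map
          ((pullbackPushforwardAdjunction r).unit.app ((pullback i).obj F)) := by
    rw [← Functor.map_comp, f3, Functor.map_comp]
  have f4 : (pullbackPushforwardAdjunction i).unit.app F ≫
      (pushforward i).map ((pullbackPushforwardAdjunction r).unit.app ((pullback i).obj F)) ≫
      (pushforwardComp r i).hom.app ((pullback r).obj ((pullback i).obj F)) =
      (pullbackPushforwardAdjunction (r ≫ i)).unit.app F ≫
        (pushforward (r ≫ i)).map ((pullbackComp r i).inv.app F) := by
    have h := unit_conjugateEquiv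
      ((pullbackPushforwardAdjunction i).comp (pullbackPushforwardAdjunction r))
      (pullbackPushforwardAdjunction (r ≫ i)) (pullbackComp r i).inv F
    rw [conjugateEquiv_pullbackComp_inv, Adjunction.comp_unit_app, Category.assoc] at h
    exact h
  have f5c : (pushforward i).map ((pushforward r).map ((pullbackComp r i).hom.app F)) ≫
      (pushforwardComp r i).hom.app ((pullback (r ≫ i)).obj F) =
      (pushforwardComp r i).hom.app ((pullback r).obj ((pullback i).obj F)) ≫
        (pushforward (r ≫ i)).map ((pullbackComp r i).hom.app F) :=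
    (pushforwardComp r i).hom.naturality ((pullbackComp r i).hom.app F)
  have f5ρ : (pushforward i).map ((pushforward r).map
        ((restrictFunctorIsoPullback (r ≫ i)).hom.app F)) ≫
      (pushforwardComp r i).hom.app ((pullback (r ≫ i)).obj F) =
      (pushforwardComp r i).hom.app ((restrictFunctor (r ≫ i)).obj F) ≫
        (pushforward (r ≫ i)).map ((restrictFunctorIsoPullback (r ≫ i)).hom.app F) :=
    (pushforwardComp r i).hom.naturality ((restrictFunctorIsoPullback (r ≫ i)).hom.app F)
  have f7 := unit_rFC r i F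
  apply ((restrictAdjunction r).homEquiv _ _).injective
  apply ((restrictAdjunction i).homEquiv F _).injective
  refine (cancel_mono ((pushforwardComp r i).hom.app ((pullback (r ≫ i)).obj F))).1 ?_
  simp only [Adjunction.homEquiv_unit, Functor.map_comp, Category.assoc]
  rw [reassoc_of% f2', reassoc_of% f3', reassoc_of% f1, f5c, reassoc_of% f4,
    ← CategoryTheory.Functor.map_comp, Iso.inv_hom_id_app, CategoryTheory.Functor.map_id,
    Category.comp_id, f5ρ, reassoc_of% f7, f6]

lemma tail {A X : Scheme.{u}} (j : A ⟶ X) [IsOpenImmersion j] (F : X.Modules) :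
    (pullbackComp j (𝟙 X)).inv.app F ≫
      (restrictFunctorIsoPullback j).inv.app ((pullback (𝟙 X)).obj F) ≫
      (restrictFunctor j).map ((pullbackId X).hom.app F) =
    (pullbackCongr (Category.comp_id j)).hom.app F ≫
      (restrictFunctorIsoPullback j).inv.app F := by
  have h1 := (restrictFunctorIsoPullback j).inv.naturality ((pullbackId X).hom.app F)
  have h2 := NatTrans.congr_app (pseudofunctor_left_unitality j) F
  simp only [NatTrans.comp_app, Functor.whiskerRight_app, Functor.leftUnitor_hom_app,
    eqToHom_app] at h2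
  have h3 : (pullbackCongr (Category.comp_id j)).hom.app F =
      eqToHom (by rw [Category.comp_id]) := by
    simp [pullbackCongr, eqToHom_app]
  rw [← h1, reassoc_of% h2, h3]
  rfl

lemma K1 (j : A ⟶ X) [IsOpenImmersion j] (e : r ≫ i = j ≫ 𝟙 X) (e' : r ≫ i = j)
    (F : X.Modules) :
    (restrictFunctorIsoPullback r).hom.app ((restrictFunctor i).obj F) ≫
      ((pullback r).map ((restrictFunctorIsoPullback i).hom.app F) ≫
        (pullbackComp r i).hom.app F ≫ (pullbackCongr e).hom.app F ≫
        (pullbackComp j (𝟙 X)).inv.app F ≫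
        (restrictFunctorIsoPullback j).inv.app ((pullback (𝟙 X)).obj F)) ≫
      (restrictFunctor j).map ((pullbackId X).hom.app F) =
    (restrictFunctorComp r i).inv.app F ≫ (restrictFunctorCongr e').hom.app F := by
  subst e'
  have hEE : (pullbackCongr e).hom.app F ≫
      (pullbackCongr (Category.comp_id (r ≫ i))).hom.app F = 𝟙 _ := by
    simp [pullbackCongr, eqToHom_app]
  have hC : (restrictFunctorCongr (rfl : r ≫ i = r ≫ i)).hom.app F = 𝟙 _ := by
    apply Scheme.Modules.hom_ext
    intro V
    simp only [restrictFunctorCongr_hom_app_app, Hom.id_app]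
    simp
    rfl
  simp only [Category.assoc]
  rw [tail, reassoc_of% hEE, reassoc_of% (K1' r i F), Iso.hom_inv_id_app, hC]

end K1

section App

variable {X : Scheme.{u}}

/-- the open immersion `U' ⟶ U` used by `CohPull.resLE`. -/
abbrev rr {U U' : X.Opens} (h : U' ≤ U) : (U' : Scheme.{u}) ⟶ (U : Scheme.{u}) :=
  Scheme.Hom.resLE (𝟙 X) U U' (by rwa [Scheme.Hom.id_preimage])

instance rr_isOpenImmersion {U U' : X.Opens} (h : U' ≤ U) : IsOpenImmersion (rr h) := by
  have e : rr h ≫ U.ι = U'.ι ≫ 𝟙 X := Scheme.Hom.resLE_comp_ι _ _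
  haveI : IsOpenImmersion (rr h ≫ U.ι) := by rw [e]; infer_instance
  exact IsOpenImmersion.of_comp (rr h) U.ι

lemma rr_comp {U U' : X.Opens} (h : U' ≤ U) : rr h ≫ U.ι = U'.ι := by
  rw [Scheme.Hom.resLE_comp_ι, Category.comp_id]

variable (F : X.Modules) {U U' : X.Opens} (h : U' ≤ U)

/-- the morphism of modules inducing `CohPull.resLE`. -/
def Psi : (pullback (rr h)).obj (F.restrict U.ι) ⟶ F.restrict U'.ι :=
  (CohPull.pullOnIso (𝟙 X) U U' (by rwa [Scheme.Hom.id_preimage]) F).hom ≫
    (restrictFunctor U'.ι).map ((pullbackId X).hom.app F)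

lemma resLE_eq (p : ℕ) (x : Coh.HHon X F U p) :
    CohPull.resLE F h p x =
      CohPull.mapH (Psi F h) p (CohPull.pullMod (rr h) (F.restrict U.ι) p x) := by
  simp only [CohPull.resLE, CohPull.pullOn, AddMonoidHom.coe_comp, Function.comp_apply]
  rw [← Sheaf.H.map_comp_apply, ← CategoryTheory.Functor.map_comp]
  rfl

lemma rho_Psi :
    (restrictFunctorIsoPullback (rr h)).hom.app (F.restrict U.ι) ≫ Psi F h =
      (restrictFunctorComp (rr h) U.ι).inv.app F ≫ (restrictFunctorCongr (rr_comp h)).hom.app F :=
  K1 (rr h) U.ι U'.ι (Scheme.Hom.resLE_comp_ι (𝟙 X) _) (rr_comp h) F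

/-- the explicit form of the unit followed by `Psi`. -/
def Xi : F.restrict U.ι ⟶ (pushforward (rr h)).obj (F.restrict U'.ι) :=
  (restrictAdjunction (rr h)).unit.app (F.restrict U.ι) ≫
    (pushforward (rr h)).map ((restrictFunctorComp (rr h) U.ι).inv.app F ≫
      (restrictFunctorCongr (rr_comp h)).hom.app F)

lemma unit_Psi :
    (pullbackPushforwardAdjunction (rr h)).unit.app (F.restrict U.ι) ≫
      (pushforward (rr h)).map (Psi F h) = Xi F h := by
  have f2 : (restrictAdjunction (rr h)).unit.app (F.restrict U.ι) ≫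
      (pushforward (rr h)).map ((restrictFunctorIsoPullback (rr h)).hom.app (F.restrict U.ι)) =
      (pullbackPushforwardAdjunction (rr h)).unit.app (F.restrict U.ι) :=
    Adjunction.unit_leftAdjointUniq_hom_app _ _ _
  rw [← f2, Category.assoc, ← CategoryTheory.Functor.map_comp, rho_Psi]
  rfl

lemma Xi_app (V : (U : Scheme.{u}).Opens)
    (k : (op (U.ι ''ᵁ V) : (Opens X)ᵒᵖ) ⟶ op (U'.ι ''ᵁ ((rr h) ⁻¹ᵁ V))) :
    (Xi F h).app V = F.presheaf.map k := by
  simp only [Xi, Hom.comp_app, pushforward_map_app, restrictAdjunction_unit_app_app,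
    restrictFunctorComp_inv_app_app, restrictFunctorCongr_hom_app_app, restrict_map]
  erw [← F.presheaf.map_comp, ← F.presheaf.map_comp]
  rfl

lemma equiv₀_resLE (x : Coh.HHon X F U 0) :
    Sheaf.H.equiv₀ (Coh.toAb (F.restrict U'.ι))
        (Limits.isTerminalTop : Limits.IsTerminal (⊤ : (U' : Scheme.{u}).Opens))
        (CohPull.resLE F h 0 x) =
      (Xi F h).app ⊤ (Sheaf.H.equiv₀ (Coh.toAb (F.restrict U.ι))
        (Limits.isTerminalTop : Limits.IsTerminal (⊤ : (U : Scheme.{u}).Opens)) x) := by
  rw [resLE_eq, ← unit_Psi]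
  show Sheaf.H.equiv₀ _ _ (Sheaf.H.map _ 0 _) = _
  rw [← Sheaf.H.equiv₀_naturality, CohPull.equiv₀_pullMod]
  rfl

lemma equiv₀_sectH0 (U : X.Opens) (s : F.presheaf.obj (op U)) :
    Sheaf.H.equiv₀ (Coh.toAb (F.restrict U.ι))
        (Limits.isTerminalTop : Limits.IsTerminal (⊤ : (U : Scheme.{u}).Opens))
        (CohPull.sectH0 F U s) =
      F.presheaf.map (eqToHom U.ι_image_top).op s := by
  simp only [CohPull.sectH0, AddEquiv.trans_apply, AddEquiv.apply_symm_apply]
  rfl

lemma presheaf_map_map (P : (Opens X)ᵒᵖ ⥤ Ab.{u}) {a b c : (Opens X)ᵒᵖ} (f : a ⟶ b) (g : b ⟶ c)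
    (k : a ⟶ c) (x : P.obj a) : P.map g (P.map f x) = P.map k x := by
  rw [← ConcreteCategory.comp_apply, ← P.map_comp]
  rfl

/-- **R3**: restriction of the class of a section is the class of the restricted section. -/
theorem resLE_sectH0 (s : F.presheaf.obj (op U)) :
    CohPull.resLE F h 0 (CohPull.sectH0 F U s) =
      CohPull.sectH0 F U' (F.presheaf.map (homOfLE h).op s) := by
  apply (Sheaf.H.equiv₀ (Coh.toAb (F.restrict U'.ι))
    (Limits.isTerminalTop : Limits.IsTerminal (⊤ : (U' : Scheme.{u}).Opens))).injective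
  rw [equiv₀_resLE, equiv₀_sectH0, equiv₀_sectH0]
  have hk : U'.ι ''ᵁ ((rr h) ⁻¹ᵁ ⊤) ≤ U.ι ''ᵁ ⊤ :=
    (U'.ι_image_le _).trans (h.trans U.ι_image_top.ge)
  rw [Xi_app F h ⊤ (homOfLE hk).op]
  have hk' : U'.ι ''ᵁ ((rr h) ⁻¹ᵁ ⊤) ≤ U := (U'.ι_image_le _).trans h
  exact (presheaf_map_map F.presheaf _ _ (homOfLE hk').op s).trans
    (presheaf_map_map F.presheaf _ _ (homOfLE hk').op s).symm

/-- naturality of `sectH0` in the module. -/
theorem mapH_sectH0 {F G : X.Modules} (g : F ⟶ G) (U : X.Opens) (t : F.presheaf.obj (op U)) :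
    CohPull.mapH ((restrictFunctor U.ι).map g) 0 (CohPull.sectH0 F U t) =
      CohPull.sectH0 G U (g.app U t) := by
  apply (Sheaf.H.equiv₀ (Coh.toAb (G.restrict U.ι))
    (Limits.isTerminalTop : Limits.IsTerminal (⊤ : (U : Scheme.{u}).Opens))).injective
  show Sheaf.H.equiv₀ _ _ (Sheaf.H.map _ 0 _) = _
  rw [← Sheaf.H.equiv₀_naturality, equiv₀_sectH0, equiv₀_sectH0]
  have nat := g.mapPresheaf.naturality (eqToHom U.ι_image_top).op
  have h1 := ConcreteCategory.congr_hom nat t
  rw [ConcreteCategory.comp_apply, ConcreteCategory.comp_apply] at h1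
  exact h1

end App

end Groth.Agent.Lib.Helper6.SectCmpR3
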