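import Mathlib
import Groth.Prelude
import Groth.Agent.Lib.Helper6.SectCmpR3
import Groth.Agent.Lib.Helper13.PushEdge

/-!
# `CohPull.resLE` commutes with the connecting maps (helper6)
-/

set_option linter.style.haveILetI false
set_option autoImplicit false
set_option backward.isDefEq.respectTransparency.types false

universe u
open CategoryTheory AlgebraicGeometry Opposite TopologicalSpace
open AlgebraicGeometry.Scheme.Modules

noncomputable section

namespace Groth.Agent.Lib.Helper6.SectCmpR1

open Groth.Agent.Lib.Helper6.SectCmpR3 Groth.Agent.Lib.Helper13.PushEdge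

variable {X : Scheme.{u}} {U U' : X.Opens} (h : U' ≤ U)

lemma Psi_eq (F : X.Modules) :
    Psi F h = (restrictFunctorIsoPullback (rr h)).inv.app (F.restrict U.ι) ≫
      (restrictFunctorComp (rr h) U.ι).inv.app F ≫
      (restrictFunctorCongr (rr_comp h)).hom.app F := by
  rw [← rho_Psi, Iso.inv_hom_id_app_assoc]

lemma Psi_nat {F G : X.Modules} (a : F ⟶ G) :
    (pullback (rr h)).map ((restrictFunctor U.ι).map a) ≫ Psi G h =
      Psi F h ≫ (restrictFunctor U'.ι).map a := by
  rw [Psi_eq, Psi_eq]
  have n1 := (restrictFunctorIsoPullback (rr h)).inv.naturality ((restrictFunctor U.ι).map a)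
  have n2 := (restrictFunctorComp (rr h) U.ι).inv.naturality a
  have n3 := (restrictFunctorCongr (rr_comp h)).hom.naturality a
  simp only [Functor.comp_map] at n2
  rw [reassoc_of% n1, reassoc_of% n2, n3, Category.assoc, Category.assoc]

/-- the comparison map of abelian sheaves inducing `CohPull.resLE`. -/
def kappa (F : X.Modules) :
    (CohPull.inv (rr h).base).obj (Coh.toAb (F.restrict U.ι)) ⟶ Coh.toAb (F.restrict U'.ι) :=
  CohPull.theta (rr h) (F.restrict U.ι) ≫
    (SheafOfModules.toSheaf (U' : Scheme.{u}).ringCatSheaf).map (Psi F h)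

lemma resLE_eq_EE (F : X.Modules) (p : ℕ) (x : Coh.HHon X F U p) :
    CohPull.resLE F h p x = EE (rr h).base (kappa h F) p x := by
  rw [resLE_eq]
  exact (Sheaf.H.map_comp_apply (CohPull.theta (rr h) (F.restrict U.ι))
    ((SheafOfModules.toSheaf (U' : Scheme.{u}).ringCatSheaf).map (Psi F h))
    (CohPull.pullAb (rr h).base _ p x)).symm

lemma kappa_nat {F G : X.Modules} (a : F ⟶ G) :
    (CohPull.inv (rr h).base).map
        ((SheafOfModules.toSheaf (U : Scheme.{u}).ringCatSheaf).map
          ((restrictFunctor U.ι).map a)) ≫ kappa h G =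
      kappa h F ≫ (SheafOfModules.toSheaf (U' : Scheme.{u}).ringCatSheaf).map
        ((restrictFunctor U'.ι).map a) := by
  unfold kappa
  rw [← Category.assoc, theta_nat, Category.assoc, Category.assoc,
    ← CategoryTheory.Functor.map_comp, ← CategoryTheory.Functor.map_comp]
  exact congrArg (fun z => CohPull.theta (rr h) (F.restrict U.ι) ≫
    (SheafOfModules.toSheaf (U' : Scheme.{u}).ringCatSheaf).map z) (Psi_nat h a)

/-- **R1**: restriction commutes with the connecting homomorphisms. -/
theorem resLE_extδ (S : ShortComplex X.Modules)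
    (hA : (S.map (CohCmp.toAbOn X U)).ShortExact) (hA' : (S.map (CohCmp.toAbOn X U')).ShortExact)
    (p : ℕ) (x : Coh.HHon X S.X₃ U p) :
    CohPull.resLE S.X₁ h (p + 1) (CohCmp.extδ hA p x) =
      CohCmp.extδ hA' p (CohPull.resLE S.X₃ h p x) := by
  rw [resLE_eq_EE, resLE_eq_EE]
  let φ : (S.map (CohCmp.toAbOn X U)).map (CohPull.inv (rr h).base) ⟶
      S.map (CohCmp.toAbOn X U') :=
    { τ₁ := kappa h S.X₁
      τ₂ := kappa h S.X₂
      τ₃ := kappa h S.X₃
      comm₁₂ := (kappa_nat h S.f).symm
      comm₂₃ := (kappa_nat h S.g).symm }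
  exact EE_delta (rr h).base hA hA' φ p x

/-- the connecting map kills the image of `H^p(g)`. -/
lemma extδ_mapH_g {U : Scheme.{u}} {T : ShortComplex (CohTop.Ab U)} (hT : T.ShortExact) (p : ℕ)
    (z : Sheaf.H T.X₂ p) : CohCmp.extδ hT p (Sheaf.H.map T.g p z) = 0 := by
  show (z.comp (Abelian.Ext.mk₀ T.g) (add_zero p)).comp hT.extClass rfl = 0
  rw [Abelian.Ext.comp_assoc_of_second_deg_zero, hT.comp_extClass, Abelian.Ext.comp_zero]

end Groth.Agent.Lib.Helper6.SectCmpR1
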