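import Mathlib
import Groth.Prelude
import Groth.Agent.Lib.Helper6.SectCmpR1
import Groth.Agent.Lib.Helper13.SerreCrit1
import Groth.Agent.Lib.Helper13.RelMVMod
import Groth.Agent.Lib.Helper13.ModGrothendieck
import Groth.Agent.Lib.Helper13.QCohRpush
import Groth.Agent.Lib.Helper1.FlasqueAcyclic
import Groth.Agent.Lib.Helper3.QCProps

/-!
# The comparison maps `ε_V` are locally injective (helper6)
-/

set_option linter.style.haveILetI false
set_option autoImplicit false
set_option backward.isDefEq.respectTransparency.types false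

universe u
open CategoryTheory AlgebraicGeometry Opposite TopologicalSpace
open AlgebraicGeometry.Scheme.Modules

noncomputable section

namespace Groth.Agent.Lib.Helper6.SectCmpMain

open Groth.Agent.Lib.Helper6.SectCmpR3 Groth.Agent.Lib.Helper6.SectCmpR1

section Sections

variable {Y : Scheme.{u}}

/-- sections over `V`, as a functor. -/
abbrev secF (V : Y.Opens) : Y.Modules ⥤ Ab.{u} :=
  Scheme.Modules.toPresheaf Y ⋙ (evaluation (Opens Y)ᵒᵖ Ab.{u}).obj (op V)

instance (V : Y.Opens) : (secF V).PreservesZeroMorphisms := ⟨fun _ _ => rfl⟩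

lemma app_injective_of_mono {M N : Y.Modules} (φ : M ⟶ N) [Mono φ] (V : Y.Opens) :
    Function.Injective (φ.app V) := by
  haveI : Mono ((secF V).map φ) := inferInstance
  exact (AddCommGrpCat.mono_iff_injective ((secF V).map φ)).1 inferInstance

lemma epi_local_lift {M N : Y.Modules} (φ : M ⟶ N) [Epi φ] (V : Y.Opens)
    (t : N.presheaf.obj (op V)) (y : Y) (hy : y ∈ V) :
    ∃ (W : Y.Opens) (hWV : W ≤ V), y ∈ W ∧ ∃ t' : M.presheaf.obj (op W),
      φ.app W t' = N.presheaf.map (homOfLE hWV).op t := by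
  have hepi : Epi ((Groth.Agent.Lib.Helper13.SerreCrit1.TT Y).map φ) := inferInstance
  have hloc : Presheaf.IsLocallySurjective (Opens.grothendieckTopology Y)
      ((Groth.Agent.Lib.Helper13.SerreCrit1.TT Y).map φ).hom :=
    (Sheaf.isLocallySurjective_iff_epi' AddCommGrpCat.{u} _).2 hepi
  obtain ⟨W, g, ⟨t', ht'⟩, hyW⟩ := hloc.imageSieve_mem t y hy
  exact ⟨W, g.le, hyW, t', ht'⟩

lemma exact_local_lift {T : ShortComplex Y.Modules} (hT : T.Exact) (V : Y.Opens)
    (t : T.X₂.presheaf.obj (op V)) (ht : T.g.app V t = 0) (y : Y) (hy : y ∈ V) :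
    ∃ (W : Y.Opens) (hWV : W ≤ V), y ∈ W ∧ ∃ t' : T.X₁.presheaf.obj (op W),
      T.f.app W t' = T.X₂.presheaf.map (homOfLE hWV).op t := by
  haveI : Epi (Limits.kernel.lift T.g T.f T.zero) := T.exact_iff_epi_kernel_lift.1 hT
  have hex : ((ShortComplex.mk (Limits.kernel.ι T.g) T.g
      (Limits.kernel.condition T.g)).map (secF V)).Exact :=
    (ShortComplex.exact_kernel T.g).map_of_mono_of_preservesKernel (secF V)
      inferInstance inferInstance
  obtain ⟨k, rfl⟩ := (ShortComplex.ab_exact_iff _).1 hex t ht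
  obtain ⟨W, hWV, hyW, t', ht'⟩ :=
    epi_local_lift (Limits.kernel.lift T.g T.f T.zero) V k y hy
  refine ⟨W, hWV, hyW, t', ?_⟩
  have h1 : T.f.app W t' = (Limits.kernel.ι T.g).app W
      ((Limits.kernel.lift T.g T.f T.zero).app W t') := by
    rw [← ConcreteCategory.comp_apply, ← Hom.comp_app, Limits.kernel.lift_ι]
  rw [h1, ht']
  have nat := (Limits.kernel.ι T.g).mapPresheaf.naturality (homOfLE hWV).op
  have h2 := ConcreteCategory.congr_hom nat k
  exact h2

end Sections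

section Main

variable {X Y : Scheme.{u}} (f : X ⟶ Y) [HasInjectiveResolutions X.Modules]

lemma toRDZ_app_injective (F : X.Modules) (V : Y.Opens)
    (a b : F.presheaf.obj (op (f ⁻¹ᵁ V)))
    (hab : ((pushforward f).toRightDerivedZero.app F).app V a =
      ((pushforward f).toRightDerivedZero.app F).app V b) : a = b := by
  haveI : IsIso ((pushforward f).toRightDerivedZero.app F) := inferInstance
  have h1 : ∀ c, (inv ((pushforward f).toRightDerivedZero.app F)).app V
      (((pushforward f).toRightDerivedZero.app F).app V c) = c := by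
    intro c
    rw [← ConcreteCategory.comp_apply, ← Scheme.Modules.Hom.comp_app, IsIso.hom_inv_id]
    rfl
  exact (h1 a).symm.trans ((congrArg _ hab).trans (h1 b))

lemma toRDZ_app_surjective (F : X.Modules) (V : Y.Opens)
    (t : ((Coh.Rpush f 0).obj F).presheaf.obj (op V)) :
    ∃ c : F.presheaf.obj (op (f ⁻¹ᵁ V)),
      ((pushforward f).toRightDerivedZero.app F).app V c = t := by
  haveI : IsIso ((pushforward f).toRightDerivedZero.app F) := inferInstance
  refine ⟨(inv ((pushforward f).toRightDerivedZero.app F)).app V t, ?_⟩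
  rw [← ConcreteCategory.comp_apply, ← Scheme.Modules.Hom.comp_app, IsIso.inv_hom_id]
  rfl

lemma step_final (S : ShortComplex X.Modules) {U U' : X.Opens} (h : U' ≤ U)
    (hA : (S.map (CohCmp.toAbOn X U)).ShortExact) (hA' : (S.map (CohCmp.toAbOn X U')).ShortExact)
    (p : ℕ) (x' : Coh.HHon X S.X₃ U p) (z : Coh.HHon X S.X₂ U' p)
    (hz : CohPull.resLE S.X₃ h p x' = CohPull.mapH ((restrictFunctor U'.ι).map S.g) p z) :
    CohPull.resLE S.X₁ h (p + 1) (CohCmp.extδ hA p x') = 0 := by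
  rw [resLE_extδ h S hA hA' p x', hz]
  exact extδ_mapH_g hA' p z

lemma exists_extδ (S : ShortComplex X.Modules) (U : X.Opens)
    (hA : (S.map (CohCmp.toAbOn X U)).ShortExact) (p : ℕ)
    (hfl : ∀ z : Coh.HHon X S.X₂ U (p + 1), z = 0) (x : Coh.HHon X S.X₁ U (p + 1)) :
    ∃ x' : Coh.HHon X S.X₃ U p, CohCmp.extδ hA p x' = x := by
  obtain ⟨x', hx'⟩ := Abelian.Ext.covariant_sequence_exact₁ _ hA x (hfl _) rfl
  exact ⟨x', hx'⟩

lemma key_zero {Δ : RDer.DerivedLES (pushforward f)} (S : ShortComplex X.Modules)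
    (hS : S.ShortExact) (V : Y.Opens) (s' : S.X₃.presheaf.obj (op (f ⁻¹ᵁ V)))
    (hδ : (Δ.δ S hS 0 (0 + 1) rfl).app V
      (((pushforward f).toRightDerivedZero.app S.X₃).app V s') = 0) (y : Y) (hy : y ∈ V) :
    ∃ (W : Y.Opens) (hWV : W ≤ V), y ∈ W ∧ ∃ z : Coh.HHon X S.X₂ (f ⁻¹ᵁ W) 0,
      CohPull.resLE S.X₃ (f.preimage_mono hWV) 0 (CohPull.sectH0 S.X₃ (f ⁻¹ᵁ V) s') =
        CohPull.mapH ((restrictFunctor (f ⁻¹ᵁ W).ι).map S.g) 0 z := by
  obtain ⟨W, hWV, hyW, t₁, ht₁⟩ :=
    exact_local_lift (Δ.exact₃ S hS 0 (0 + 1) rfl) V _ hδ y hy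
  obtain ⟨t'', rfl⟩ := toRDZ_app_surjective f S.X₂ W t₁
  refine ⟨W, hWV, hyW, CohPull.sectH0 S.X₂ (f ⁻¹ᵁ W) t'', ?_⟩
  rw [resLE_sectH0]
  refine Eq.trans ?_ (mapH_sectH0 S.g (f ⁻¹ᵁ W) t'').symm
  refine congrArg (CohPull.sectH0 S.X₃ (f ⁻¹ᵁ W)) ?_
  refine toRDZ_app_injective f S.X₃ W _ _ ?_
  have n1 := ((pushforward f).toRightDerivedZero.app S.X₃).mapPresheaf.naturality
    (homOfLE hWV).op
  have e1 := ConcreteCategory.congr_hom n1 s'
  have n2 := (pushforward f).toRightDerivedZero.naturality S.g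
  have e2 := congrArg (fun φ => (Scheme.Modules.Hom.app φ W) t'') n2
  exact e1.trans (ht₁.symm.trans e2.symm)

lemma eps_eq_zero_of_delta {Δ : RDer.DerivedLES (pushforward f)} (S : ShortComplex X.Modules)
    (hS : S.ShortExact) (q : ℕ)
    (hz : Limits.IsZero (((pushforward f).rightDerived (q + 1)).obj S.X₂)) (V : Y.Opens)
    (t : (((pushforward f).rightDerived (q + 1)).obj S.X₃).presheaf.obj (op V))
    (hδ : (Δ.δ S hS (q + 1) (q + 1 + 1) rfl).app V t = 0) : t = 0 := by
  haveI hmono : Mono (Δ.δ S hS (q + 1) (q + 1 + 1) rfl) :=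
    (Δ.exact₃ S hS (q + 1) (q + 1 + 1) rfl).mono_g (hz.eq_of_src _ _)
  apply app_injective_of_mono (Δ.δ S hS (q + 1) (q + 1 + 1) rfl) V
  rw [hδ, map_zero]

lemma zero_case {Δ : RDer.DerivedLES (pushforward f)} (E : CohCmp.SectCmp f Δ) (F : X.Modules)
    (V : Y.Opens) (x : Coh.HHon X F (f ⁻¹ᵁ V) 0) (hx : E.ε V F 0 x = 0) : x = 0 := by
  obtain ⟨s, rfl⟩ := (CohPull.sectH0 F (f ⁻¹ᵁ V)).surjective x
  rw [E.zero] at hx
  have hs : s = 0 :=
    toRDZ_app_injective f F V s 0 (hx.trans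
      (map_zero (ConcreteCategory.hom (((pushforward f).toRightDerivedZero.app F).app V))).symm)
  rw [hs, map_zero]

lemma shortExact_toAbOn (S : ShortComplex X.Modules) (hS : S.ShortExact) (U : X.Opens) :
    (S.map (CohCmp.toAbOn X U)).ShortExact := by
  haveI : Limits.PreservesFiniteLimits
      (SheafOfModules.toSheaf.{u} (U : Scheme.{u}).ringCatSheaf) :=
    Groth.Agent.Lib.Helper13.SerreCrit1.toSheaf_pfl _
  haveI : Limits.PreservesFiniteColimits
      (SheafOfModules.toSheaf.{u} (U : Scheme.{u}).ringCatSheaf) :=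
    Groth.Agent.Lib.Helper13.SerreCrit1.toSheaf_pfc _
  haveI : Limits.PreservesFiniteLimits (CohCmp.toAbOn X U) :=
    Limits.comp_preservesFiniteLimits _ _
  haveI : Limits.PreservesFiniteColimits (CohCmp.toAbOn X U) :=
    Limits.comp_preservesFiniteColimits _ _
  exact hS.map_of_exact _

lemma flasque_vanish (I : X.Modules) [Injective I] (U : X.Opens) (p : ℕ)
    (z : Coh.HHon X I U (p + 1)) : z = 0 :=
  Groth.Agent.Lib.Helper1.FlasqueAcyclic.flasque_H_eq_zero p _
    (Groth.Agent.Lib.Helper13.QCohRpush.isFlasque_restrict_of_injective U I inferInstance) z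

/-- one step of dimension shifting, for an arbitrary short exact sequence `0 → F → I → Q → 0` with
`I` injective. -/
lemma step {Δ : RDer.DerivedLES (pushforward f)} (E : CohCmp.SectCmp f Δ) (y : Y) (p : ℕ)
    (ih : ∀ (F : X.Modules) (V : Y.Opens) (x : Coh.HHon X F (f ⁻¹ᵁ V) p),
      E.ε V F p x = 0 → y ∈ V →
      ∃ (W : Y.Opens) (hWV : W ≤ V), y ∈ W ∧
        CohPull.resLE F (f.preimage_mono hWV) p x = 0)
    (S : ShortComplex X.Modules) (hS : S.ShortExact) [Injective S.X₂]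
    (V : Y.Opens) (x : Coh.HHon X S.X₁ (f ⁻¹ᵁ V) (p + 1))
    (hx : E.ε V S.X₁ (p + 1) x = 0) (hy : y ∈ V) :
    ∃ (W : Y.Opens) (hWV : W ≤ V), y ∈ W ∧
      CohPull.resLE S.X₁ (f.preimage_mono hWV) (p + 1) x = 0 := by
  have hA : ∀ W : Y.Opens, (S.map (CohCmp.toAbOn X (f ⁻¹ᵁ W))).ShortExact :=
    fun W => shortExact_toAbOn S hS _
  obtain ⟨x', rfl⟩ := exists_extδ S (f ⁻¹ᵁ V) (hA V) p (flasque_vanish S.X₂ _ p) x
  have hδ : (Δ.δ S hS p (p + 1) rfl).app V (E.ε V S.X₃ p x') = 0 := by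
    rw [← E.delta V S hS (hA V) p x', hx]
  have key : ∃ (W : Y.Opens) (hWV : W ≤ V), y ∈ W ∧
      ∃ z : Coh.HHon X S.X₂ (f ⁻¹ᵁ W) p,
        CohPull.resLE S.X₃ (f.preimage_mono hWV) p x' =
          CohPull.mapH ((restrictFunctor (f ⁻¹ᵁ W).ι).map S.g) p z := by
    rcases p with _ | q
    · obtain ⟨s', rfl⟩ := (CohPull.sectH0 S.X₃ (f ⁻¹ᵁ V)).surjective x'
      rw [E.zero] at hδ
      exact key_zero f S hS V s' hδ y hy
    · have hz : Limits.IsZero (((pushforward f).rightDerived (q + 1)).obj S.X₂) :=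
        Functor.isZero_rightDerived_obj_injective_succ (pushforward f) q S.X₂
      have hε : E.ε V S.X₃ (q + 1) x' = 0 := eps_eq_zero_of_delta f S hS q hz V _ hδ
      obtain ⟨W, hWV, hyW, hW⟩ := ih S.X₃ V x' hε hy
      refine ⟨W, hWV, hyW, 0, ?_⟩
      rw [hW, map_zero]
  obtain ⟨W, hWV, hyW, z, hz⟩ := key
  exact ⟨W, hWV, hyW, step_final S (f.preimage_mono hWV) (hA V) (hA W) p x' z hz⟩

theorem main16955 {Δ : RDer.DerivedLES (pushforward f)} (E : CohCmp.SectCmp f Δ) (y : Y) :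
    ∀ (p : ℕ) (F : X.Modules) (V : Y.Opens) (x : Coh.HHon X F (f ⁻¹ᵁ V) p),
      E.ε V F p x = 0 → y ∈ V →
      ∃ (W : Y.Opens) (hWV : W ≤ V), y ∈ W ∧
        CohPull.resLE F (f.preimage_mono hWV) p x = 0 := by
  classical
  haveI : EnoughInjectives X.Modules :=
    Groth.Agent.Lib.Helper13.ModGrothendieck.enoughInjectives X.ringCatSheaf
  intro p
  induction p with
  | zero =>
    intro F V x hx hy
    refine ⟨V, le_rfl, hy, ?_⟩
    rw [zero_case f E F V x hx, map_zero]
  | succ p ih =>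
    intro F V x hx hy
    let S : ShortComplex X.Modules :=
      ShortComplex.mk (Injective.ι F) (Limits.cokernel.π (Injective.ι F))
        (Limits.cokernel.condition (Injective.ι F))
    have hS : S.ShortExact :=
      { exact := ShortComplex.exact_cokernel (Injective.ι F)
        mono_f := inferInstanceAs (Mono (Injective.ι F))
        epi_g := inferInstanceAs (Epi (Limits.cokernel.π (Injective.ι F))) }
    haveI : Injective S.X₂ := inferInstanceAs (Injective (Injective.under F))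
    exact step f E y p ih S hS V x hx hy

end Main

end Groth.Agent.Lib.Helper6.SectCmpMain
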