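import Mathlib
import Groth.Prelude
import Groth.Agent.Lib.Helper6.SectCmpMain
import Groth.Agent.Lib.Helper2.RpushCompare

/-!
# Acyclic modules and global sections of exact sequences (helper6)
-/

set_option linter.style.haveILetI false
set_option autoImplicit false
set_option backward.isDefEq.respectTransparency.types false

universe u
open CategoryTheory AlgebraicGeometry Opposite TopologicalSpace
open AlgebraicGeometry.Scheme.Modules

noncomputable section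

namespace Groth.Agent.Lib.Helper6.SectCmpAcyc

open Groth.Agent.Lib.Helper6.SectCmpMain

variable {Y : Scheme.{u}}

/-- the higher cohomology of `N` vanishes. -/
def Acyc (N : Y.Modules) : Prop := ∀ (p : ℕ) (x : Coh.HH Y N (p + 1)), x = 0

lemma shortExact_toAb {T : ShortComplex Y.Modules} (hT : T.ShortExact) :
    (T.map (SheafOfModules.toSheaf.{u} Y.ringCatSheaf)).ShortExact := by
  haveI : Limits.PreservesFiniteLimits (SheafOfModules.toSheaf.{u} Y.ringCatSheaf) :=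
    Groth.Agent.Lib.Helper13.SerreCrit1.toSheaf_pfl _
  haveI : Limits.PreservesFiniteColimits (SheafOfModules.toSheaf.{u} Y.ringCatSheaf) :=
    Groth.Agent.Lib.Helper13.SerreCrit1.toSheaf_pfc _
  exact hT.map_of_exact _

lemma les_exact₃ {T : ShortComplex Y.Modules} (hT : T.ShortExact) (n : ℕ)
    (x : Coh.HH Y T.X₃ n) (hz : ∀ z : Coh.HH Y T.X₁ (n + 1), z = 0) :
    ∃ x₂ : Coh.HH Y T.X₂ n, CohPull.mapH T.g n x₂ = x := by
  have hT' := shortExact_toAb hT
  obtain ⟨x₂, hx₂⟩ := Abelian.Ext.covariant_sequence_exact₃ _ hT' x rfl (hz _)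
  exact ⟨x₂, hx₂⟩

lemma les_exact₂ {T : ShortComplex Y.Modules} (hT : T.ShortExact) (n : ℕ)
    (x : Coh.HH Y T.X₂ n) (hx : CohPull.mapH T.g n x = 0) :
    ∃ x₁ : Coh.HH Y T.X₁ n, CohPull.mapH T.f n x₁ = x := by
  have hT' := shortExact_toAb hT
  obtain ⟨x₁, hx₁⟩ := Abelian.Ext.covariant_sequence_exact₂ _ hT' x hx
  exact ⟨x₁, hx₁⟩

lemma acyc_X₃ {T : ShortComplex Y.Modules} (hT : T.ShortExact) (h₁ : Acyc T.X₁)
    (h₂ : Acyc T.X₂) : Acyc T.X₃ := by
  intro p x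
  obtain ⟨x₂, rfl⟩ := les_exact₃ hT (p + 1) x (h₁ (p + 1))
  rw [h₂ p x₂, map_zero]

lemma acyc_X₂ {T : ShortComplex Y.Modules} (hT : T.ShortExact) (h₁ : Acyc T.X₁)
    (h₃ : Acyc T.X₃) : Acyc T.X₂ := by
  intro p x
  obtain ⟨x₁, rfl⟩ := les_exact₂ hT (p + 1) x (h₃ p _)
  rw [h₁ p x₁, map_zero]

lemma acyc_of_iso {N N' : Y.Modules} (e : N ≅ N') (h : Acyc N) : Acyc N' := by
  intro p x
  have h0 : (SheafOfModules.toSheaf Y.ringCatSheaf).map e.inv ≫
      (SheafOfModules.toSheaf Y.ringCatSheaf).map e.hom = 𝟙 _ :=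
    ((SheafOfModules.toSheaf Y.ringCatSheaf).mapIso e).inv_hom_id
  have h1 : CohPull.mapH e.hom (p + 1) (CohPull.mapH e.inv (p + 1) x) = x := by
    rw [← Sheaf.H.map_comp_apply, h0, Sheaf.H.map_id_apply]
  rw [← h1, h p (CohPull.mapH e.inv (p + 1) x), map_zero]

lemma acyc_of_isZero {N : Y.Modules} (h : Limits.IsZero N) : Acyc N := by
  intro p x
  have hz : Limits.IsZero (Coh.toAb N) :=
    Groth.Agent.Lib.Helper2.RpushCompare.isZero_toAb_of_isZero N h
  have h1 := Abelian.Ext.comp_mk₀_id x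
  rw [hz.eq_of_src (𝟙 _) 0, Abelian.Ext.mk₀_zero, Abelian.Ext.comp_zero] at h1
  exact h1.symm

lemma sections_surjective {T : ShortComplex Y.Modules} (hT : T.ShortExact)
    (h₁ : ∀ x : Coh.HH Y T.X₁ (0 + 1), x = 0) : Function.Surjective (T.g.app ⊤) := by
  intro c
  obtain ⟨x₂, hx₂⟩ := les_exact₃ hT 0
    ((Sheaf.H.equiv₀ (Coh.toAb T.X₃)
      (Limits.isTerminalTop : Limits.IsTerminal (⊤ : Y.Opens))).symm c) h₁
  refine ⟨Sheaf.H.equiv₀ (Coh.toAb T.X₂)
    (Limits.isTerminalTop : Limits.IsTerminal (⊤ : Y.Opens)) x₂, ?_⟩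
  have nat : ((SheafOfModules.toSheaf Y.ringCatSheaf).map T.g).hom.app (op ⊤)
      (Sheaf.H.equiv₀ (Coh.toAb T.X₂)
        (Limits.isTerminalTop : Limits.IsTerminal (⊤ : Y.Opens)) x₂) =
      Sheaf.H.equiv₀ (Coh.toAb T.X₃) (Limits.isTerminalTop : Limits.IsTerminal (⊤ : Y.Opens))
        (CohPull.mapH T.g 0 x₂) :=
    Sheaf.H.equiv₀_naturality _ _ _
  rw [hx₂, AddEquiv.apply_symm_apply] at nat
  exact nat

lemma sections_ker {T : ShortComplex Y.Modules} (hT : T.ShortExact)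
    (u : T.X₂.presheaf.obj (op ⊤)) (hu : T.g.app ⊤ u = 0) :
    ∃ a : T.X₁.presheaf.obj (op ⊤), T.f.app ⊤ a = u := by
  have hex : (T.map (secF ⊤)).Exact :=
    hT.exact.map_of_mono_of_preservesKernel (secF ⊤) hT.mono_f inferInstance
  exact (ShortComplex.ab_exact_iff _).1 hex u hu

lemma fourTerm {A B C D : Y.Modules} (α : A ⟶ B) (β : B ⟶ C) (γ : C ⟶ D) [Mono α] [Epi γ]
    (w₁ : α ≫ β = 0) (w₂ : β ≫ γ = 0) (e₁ : (ShortComplex.mk α β w₁).Exact)
    (e₂ : (ShortComplex.mk β γ w₂).Exact) (hA : Acyc A) (hB : Acyc B) (hD : Acyc D) :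
    Acyc C ∧ Function.Surjective (γ.app ⊤) ∧
      (∀ u : C.presheaf.obj (op ⊤), γ.app ⊤ u = 0 →
        ∃ w : B.presheaf.obj (op ⊤), β.app ⊤ w = u) := by
  have hβ' : Limits.kernel.lift γ β w₂ ≫ Limits.kernel.ι γ = β := Limits.kernel.lift_ι _ _ _
  have w₁' : α ≫ Limits.kernel.lift γ β w₂ = 0 := by
    rw [← cancel_mono (Limits.kernel.ι γ), Category.assoc, hβ', w₁, Limits.zero_comp]
  haveI : Epi (Limits.kernel.lift γ β w₂) :=
    (ShortComplex.mk β γ w₂).exact_iff_epi_kernel_lift.1 e₂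
  have hT₂ : (ShortComplex.mk (Limits.kernel.ι γ) γ (Limits.kernel.condition γ)).ShortExact :=
    { exact := ShortComplex.exact_kernel γ
      mono_f := inferInstanceAs (Mono (Limits.kernel.ι γ))
      epi_g := ‹Epi γ› }
  haveI : Mono (ShortComplex.mk α β w₁).f := ‹Mono α›
  have hT₁ : (ShortComplex.mk α (Limits.kernel.lift γ β w₂) w₁').ShortExact :=
    { exact := ShortComplex.exact_of_f_is_kernel _
        (Limits.isKernelOfComp (Limits.kernel.ι γ) β (ShortComplex.Exact.fIsKernel e₁) w₁' hβ')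
      mono_f := ‹Mono α›
      epi_g := ‹Epi (Limits.kernel.lift γ β w₂)› }
  have hK : Acyc (Limits.kernel γ) := acyc_X₃ hT₁ hA hB
  refine ⟨acyc_X₂ hT₂ hK hD, sections_surjective hT₂ (hK 0), ?_⟩
  intro u hu
  obtain ⟨k, hk⟩ := sections_ker hT₂ u hu
  obtain ⟨w, hw⟩ := sections_surjective hT₁ (hA 0) k
  refine ⟨w, ?_⟩
  have h3 : β.app ⊤ w = (Limits.kernel.ι γ).app ⊤ ((Limits.kernel.lift γ β w₂).app ⊤ w) := by
    rw [← ConcreteCategory.comp_apply, ← Hom.comp_app, hβ']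
  exact h3.trans ((congrArg _ hw).trans hk)

end Groth.Agent.Lib.Helper6.SectCmpAcyc
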