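import Mathlib
import Groth.Prelude
import Groth.Agent.Lib.Helper6.SectCmpAcyc
import Groth.Agent.Lib.Helper13.QCohRpush
import Groth.Agent.Lib.Helper13.AffineVanish
import Groth.Agent.Lib.Helper13.InjRestrSurj

/-!
# The comparison map over an affine base is bijective (helper6)
-/

set_option linter.style.haveILetI false
set_option autoImplicit false
set_option backward.isDefEq.respectTransparency.types false

universe u
open CategoryTheory AlgebraicGeometry Opposite TopologicalSpace
open AlgebraicGeometry.Scheme.Modules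

noncomputable section

namespace Groth.Agent.Lib.Helper6.SectCmpTop

open Groth.Agent.Lib.Helper6.SectCmpMain Groth.Agent.Lib.Helper6.SectCmpAcyc
open Groth.Agent.Lib.Helper6.SectCmpR1 Groth.Agent.Lib.Helper6.SectCmpR3

variable {X S : Scheme.{u}} (f : X ⟶ S) [HasInjectiveResolutions X.Modules]

/-- all higher direct images of `G` are acyclic on the base. -/
def CC (G : X.Modules) : Prop := ∀ q : ℕ, Acyc ((Coh.Rpush f q).obj G)

lemma CC_of_qcoh [QuasiCompact f] [QuasiSeparated f] [IsAffine S] (F : X.Modules)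
    [Coh.IsQCoh F] : CC f F := by
  intro q p x
  haveI : (((pushforward f).rightDerived q).obj F).IsQuasicoherent :=
    Groth.Agent.Lib.Helper13.QCohRpush.isQuasicoherent_Rpush f F q
  haveI := Groth.Agent.Lib.Helper13.AffineVanish.subsingleton_HH_of_isAffine S
    (((pushforward f).rightDerived q).obj F) p
  exact Subsingleton.elim _ _

lemma isFlasque_push_of_injective (I : X.Modules) (hI : Injective I) :
    TopCat.Sheaf.IsFlasque (Coh.toAb ((pushforward f).obj I)) where
  epi {A B} i := by
    rw [AddCommGrpCat.epi_iff_surjective]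
    haveI : Mono ((Opens.map f.base).map i.unop) := ⟨fun _ _ _ => Subsingleton.elim _ _⟩
    exact @Groth.Agent.Lib.Helper13.InjRestrSurj.restriction_surjective _ _ _ X.ringCatSheaf
      I hI _ _ ((Opens.map f.base).map i.unop) inferInstance

lemma acyc_push_injective (I : X.Modules) [Injective I] : Acyc ((pushforward f).obj I) := by
  intro p x
  exact Groth.Agent.Lib.Helper1.FlasqueAcyclic.flasque_H_eq_zero p _
    (isFlasque_push_of_injective f I inferInstance) x

lemma acyc_Rpush_injective (I : X.Modules) [Injective I] (q : ℕ) :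
    Acyc ((Coh.Rpush f q).obj I) := by
  rcases q with _ | q
  · haveI : IsIso ((pushforward f).toRightDerivedZero.app I) := inferInstance
    exact acyc_of_iso (asIso ((pushforward f).toRightDerivedZero.app I))
      (acyc_push_injective f I)
  · exact acyc_of_isZero
      (Functor.isZero_rightDerived_obj_injective_succ (pushforward f) q I)

lemma mono_R0_map {F G : X.Modules} (a : F ⟶ G) [Mono a] :
    Mono (((pushforward f).rightDerived 0).map a) := by
  haveI : IsIso ((pushforward f).toRightDerivedZero.app F) := inferInstance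
  haveI : IsIso ((pushforward f).toRightDerivedZero.app G) := inferInstance
  have nat := (pushforward f).toRightDerivedZero.naturality a
  have h : ((pushforward f).rightDerived 0).map a =
      inv ((pushforward f).toRightDerivedZero.app F) ≫ (pushforward f).map a ≫
        (pushforward f).toRightDerivedZero.app G := by
    rw [nat, IsIso.inv_hom_id_assoc]
  rw [h]
  haveI : Mono ((pushforward f).map a) := inferInstance
  infer_instance

variable (Δ : RDer.DerivedLES (pushforward f))

lemma isIso_delta (T : ShortComplex X.Modules) (hT : T.ShortExact) [Injective T.X₂] (q : ℕ) :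
    IsIso (Δ.δ T hT (q + 1) (q + 1 + 1) rfl) := by
  have hz1 : Limits.IsZero (((pushforward f).rightDerived (q + 1)).obj T.X₂) :=
    Functor.isZero_rightDerived_obj_injective_succ (pushforward f) q T.X₂
  have hz2 : Limits.IsZero (((pushforward f).rightDerived (q + 1 + 1)).obj T.X₂) :=
    Functor.isZero_rightDerived_obj_injective_succ (pushforward f) (q + 1) T.X₂
  haveI : Mono (Δ.δ T hT (q + 1) (q + 1 + 1) rfl) :=
    (Δ.exact₃ T hT (q + 1) (q + 1 + 1) rfl).mono_g (hz1.eq_of_src _ _)
  haveI : Epi (Δ.δ T hT (q + 1) (q + 1 + 1) rfl) :=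
    (Δ.exact₁ T hT (q + 1) (q + 1 + 1) rfl).epi_f (hz2.eq_of_tgt _ _)
  exact isIso_of_mono_of_epi _

lemma fourTerm_R0 (T : ShortComplex X.Modules) (hT : T.ShortExact) [Injective T.X₂]
    (h : CC f T.X₁) :
    Acyc ((Coh.Rpush f 0).obj T.X₃) ∧
      Function.Surjective ((Δ.δ T hT 0 (0 + 1) rfl).app ⊤) ∧
      (∀ u, (Δ.δ T hT 0 (0 + 1) rfl).app ⊤ u = 0 →
        ∃ w, (((pushforward f).rightDerived 0).map T.g).app ⊤ w = u) := by
  haveI := hT.mono_f
  haveI : Mono (((pushforward f).rightDerived 0).map T.f) := mono_R0_map f T.f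
  have hz : Limits.IsZero (((pushforward f).rightDerived (0 + 1)).obj T.X₂) :=
    Functor.isZero_rightDerived_obj_injective_succ (pushforward f) 0 T.X₂
  haveI : Epi (Δ.δ T hT 0 (0 + 1) rfl) :=
    (Δ.exact₁ T hT 0 (0 + 1) rfl).epi_f (hz.eq_of_tgt _ _)
  exact fourTerm (((pushforward f).rightDerived 0).map T.f)
    (((pushforward f).rightDerived 0).map T.g) (Δ.δ T hT 0 (0 + 1) rfl) _ _
    (Δ.exact₂ T hT 0) (Δ.exact₃ T hT 0 (0 + 1) rfl) (h 0) (acyc_Rpush_injective f T.X₂ 0)
    (h (0 + 1))

include Δ in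
lemma CC_cokernel (T : ShortComplex X.Modules) (hT : T.ShortExact) [Injective T.X₂]
    (h : CC f T.X₁) : CC f T.X₃ := by
  intro q
  rcases q with _ | q
  · exact (fourTerm_R0 f Δ T hT h).1
  · haveI := isIso_delta f Δ T hT q
    exact acyc_of_iso (asIso (Δ.δ T hT (q + 1) (q + 1 + 1) rfl)).symm (h (q + 1 + 1))

variable {Δ}
variable (E : CohCmp.SectCmp f Δ)

lemma bij_zero (G : X.Modules) : Function.Bijective (E.ε ⊤ G 0) := by
  constructor
  · rw [injective_iff_map_eq_zero]
    intro x hx
    exact zero_case f E G ⊤ x hx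
  · intro t
    obtain ⟨c, hc⟩ := toRDZ_app_surjective f G ⊤ t
    exact ⟨CohPull.sectH0 G (f ⁻¹ᵁ ⊤) c, (E.zero ⊤ G c).trans hc⟩

lemma step_bij (T : ShortComplex X.Modules) (hT : T.ShortExact) [Injective T.X₂] (q : ℕ)
    (hsurj : Function.Surjective ((Δ.δ T hT q (q + 1) rfl).app ⊤))
    (hker : ∀ u, (Δ.δ T hT q (q + 1) rfl).app ⊤ u = 0 →
      ∃ w' : Coh.HHon X T.X₂ (f ⁻¹ᵁ ⊤) q,
        (((pushforward f).rightDerived q).map T.g).app ⊤ (E.ε ⊤ T.X₂ q w') = u)
    (hQ : Function.Bijective (E.ε ⊤ T.X₃ q)) :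
    Function.Bijective (E.ε ⊤ T.X₁ (q + 1)) := by
  have hA := shortExact_toAbOn T hT (f ⁻¹ᵁ ⊤)
  constructor
  · rw [injective_iff_map_eq_zero]
    intro x hx
    obtain ⟨v, rfl⟩ := exists_extδ T (f ⁻¹ᵁ ⊤) hA q (flasque_vanish T.X₂ _ q) x
    have hδ : (Δ.δ T hT q (q + 1) rfl).app ⊤ (E.ε ⊤ T.X₃ q v) = 0 := by
      rw [← E.delta ⊤ T hT hA q v, hx]
    obtain ⟨w', hw'⟩ := hker _ hδ
    have hnat := E.natural ⊤ T.g q w'
    have hv : CohPull.mapH ((restrictFunctor (f ⁻¹ᵁ ⊤).ι).map T.g) q w' = v :=
      hQ.1 (hnat.trans hw')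
    subst hv
    exact extδ_mapH_g hA q w'
  · intro t
    obtain ⟨u, rfl⟩ := hsurj t
    obtain ⟨v, rfl⟩ := hQ.2 u
    exact ⟨CohCmp.extδ hA q v, E.delta ⊤ T hT hA q v⟩

theorem main16959 : ∀ (q : ℕ) (G : X.Modules), CC f G → Function.Bijective (E.ε ⊤ G q) := by
  haveI : EnoughInjectives X.Modules :=
    Groth.Agent.Lib.Helper13.ModGrothendieck.enoughInjectives X.ringCatSheaf
  intro q
  induction q with
  | zero =>
    intro G _
    exact bij_zero f E G
  | succ q ih =>
    intro G hG
    let T : ShortComplex X.Modules :=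
      ShortComplex.mk (Injective.ι G) (Limits.cokernel.π (Injective.ι G))
        (Limits.cokernel.condition (Injective.ι G))
    have hT : T.ShortExact :=
      { exact := ShortComplex.exact_cokernel (Injective.ι G)
        mono_f := inferInstanceAs (Mono (Injective.ι G))
        epi_g := inferInstanceAs (Epi (Limits.cokernel.π (Injective.ι G))) }
    haveI : Injective T.X₂ := inferInstanceAs (Injective (Injective.under G))
    have hCQ : CC f T.X₃ := CC_cokernel f Δ T hT hG
    have hQ := ih T.X₃ hCQ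
    rcases q with _ | q
    · obtain ⟨_, hsurj, hker⟩ := fourTerm_R0 f Δ T hT hG
      refine step_bij f E T hT 0 hsurj ?_ hQ
      intro u hu
      obtain ⟨w, hw⟩ := hker u hu
      obtain ⟨w', rfl⟩ := (bij_zero f E T.X₂).2 w
      exact ⟨w', hw⟩
    · haveI := isIso_delta f Δ T hT q
      refine step_bij f E T hT (q + 1) ?_ ?_ hQ
      · intro t
        refine ⟨(inv (Δ.δ T hT (q + 1) (q + 1 + 1) rfl)).app ⊤ t, ?_⟩
        rw [← ConcreteCategory.comp_apply, ← Scheme.Modules.Hom.comp_app, IsIso.inv_hom_id]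
        rfl
      · intro u hu
        have hu0 : u = 0 := by
          apply app_injective_of_mono (Δ.δ T hT (q + 1) (q + 1 + 1) rfl) ⊤
          rw [hu, map_zero]
        refine ⟨0, ?_⟩
        rw [hu0]
        simp only [map_zero]

end Groth.Agent.Lib.Helper6.SectCmpTop
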