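import Mathlib

/-!
# Local algebra of a section with effective Cartier ideal

* `isDomain_and_dvr_of_principal_regular`: a Noetherian local ring whose maximal ideal is generated
  by a regular element is a discrete valuation ring.
* `Section.*`: for `ρ : A → B`, `σ : B → A'` with `σ ∘ ρ` bijective, `ker σ = (t)`, `t` regular,
  the ring `B ⧸ 𝔪_A B` is local with maximal ideal generated by the regular element `t̄`.
-/

set_option autoImplicit false

namespace Groth.Agent.Lib.Helper6.SectionFibre

open IsLocalRing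

/-- A Noetherian local ring whose maximal ideal is generated by a regular element is a discrete
valuation ring. -/
theorem isDomain_and_dvr_of_principal_regular (R : Type*) [CommRing R] [IsNoetherianRing R]
    [IsLocalRing R] (τ : R) (hm : maximalIdeal R = Ideal.span {τ})
    (hreg : ∀ r, τ * r = 0 → r = 0) :
    ∃ _ : IsDomain R, IsDiscreteValuationRing R := by
  have hregpow : ∀ (n : ℕ) (r : R), τ ^ n * r = 0 → r = 0 := by
    intro n
    induction n with
    | zero => intro r hr; simpa using hr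
    | succ n ih =>
      intro r hr
      rw [pow_succ, mul_assoc] at hr
      exact hreg r (ih _ hr)
  have hpow : ∀ n : ℕ, maximalIdeal R ^ n = Ideal.span {τ ^ n} := by
    intro n; rw [hm, Ideal.span_singleton_pow]
  have hfact : ∀ x : R, x ≠ 0 → ∃ (n : ℕ) (u : R), IsUnit u ∧ x = u * τ ^ n := by
    intro x hx
    have hK : ⨅ i, maximalIdeal R ^ i = ⊥ :=
      Ideal.iInf_pow_eq_bot_of_isLocalRing (maximalIdeal R) (Ideal.IsMaximal.ne_top inferInstance)
    have hex : ∃ i, x ∉ maximalIdeal R ^ i := by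
      by_contra hcon
      push Not at hcon
      have : x ∈ ⨅ i, maximalIdeal R ^ i := (Submodule.mem_iInf _).mpr hcon
      rw [hK] at this
      exact hx ((Submodule.mem_bot R).mp this)
    classical
    let i := Nat.find hex
    have hi : x ∉ maximalIdeal R ^ i := Nat.find_spec hex
    have hi0 : i ≠ 0 := by
      intro h0
      rw [h0, pow_zero, Ideal.one_eq_top] at hi
      exact hi Submodule.mem_top
    obtain ⟨k, hk⟩ := Nat.exists_eq_succ_of_ne_zero hi0
    have hk' : x ∈ maximalIdeal R ^ k := by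
      by_contra hcon
      have := Nat.find_min' hex hcon
      change i ≤ k at this
      omega
    rw [hpow, Ideal.mem_span_singleton'] at hk'
    obtain ⟨u, hu⟩ := hk'
    refine ⟨k, u, ?_, hu.symm⟩
    by_contra hnu
    have hum : u ∈ maximalIdeal R := (IsLocalRing.mem_maximalIdeal u).mpr hnu
    rw [hm, Ideal.mem_span_singleton'] at hum
    obtain ⟨u', hu'⟩ := hum
    apply hi
    rw [hk, hpow, Ideal.mem_span_singleton']
    exact ⟨u', by rw [← hu, ← hu', pow_succ]; ring⟩
  have hnzd : NoZeroDivisors R := by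
    refine ⟨fun {x y} hxy => ?_⟩
    by_contra hcon
    push Not at hcon
    obtain ⟨a, u, hu, rfl⟩ := hfact x hcon.1
    obtain ⟨b, v, hv, rfl⟩ := hfact y hcon.2
    have h1 : τ ^ (a + b) * (u * v) = 0 := by
      rw [← hxy, pow_add]; ring
    have h2 := hregpow _ _ h1
    have h3 : IsUnit (u * v) := hu.mul hv
    rw [h2] at h3
    exact not_isUnit_zero h3
  have hdom : IsDomain R := NoZeroDivisors.to_isDomain R
  refine ⟨hdom, ?_⟩
  have hnf : ¬ IsField R := by
    rw [IsLocalRing.isField_iff_maximalIdeal_eq, hm]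
    intro h0
    have hτ : τ = 0 := by
      have : τ ∈ (⊥ : Ideal R) := h0 ▸ Ideal.mem_span_singleton_self τ
      exact (Submodule.mem_bot R).mp this
    have := hreg 1 (by rw [hτ, zero_mul])
    exact one_ne_zero this
  exact ((IsDiscreteValuationRing.TFAE R hnf).out 0 4).mpr
    (show (maximalIdeal R).IsPrincipal from ⟨⟨τ, hm⟩⟩)

section

variable {A B A' : Type*} [CommRing A] [CommRing B] [CommRing A'] [IsLocalRing A] [IsLocalRing B]
  [Nontrivial A'] (ρ : A →+* B) [IsLocalHom ρ] (σ : B →+* A')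
  (hbij : Function.Bijective (σ.comp ρ)) (t : B) (ht : ∀ b, t * b = 0 → b = 0)
  (hker : RingHom.ker σ = Ideal.span {t})

include hbij hker in
lemma exists_decomp (b : B) : ∃ a : A, ∃ b' : B, b = ρ a + t * b' := by
  obtain ⟨a, ha⟩ := hbij.2 (σ b)
  have h1 : b - ρ a ∈ RingHom.ker σ := by
    rw [RingHom.mem_ker, map_sub, ← ha]
    simp
  rw [hker, Ideal.mem_span_singleton'] at h1
  obtain ⟨b', hb'⟩ := h1
  exact ⟨a, b', by rw [mul_comm, hb']; ring⟩

include hbij hker in
lemma mem_decomp (w : B) (hw : w ∈ (maximalIdeal A).map ρ) :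
    ∃ c ∈ maximalIdeal A, ∃ w' ∈ (maximalIdeal A).map ρ, w = ρ c + t * w' := by
  induction hw using Submodule.span_induction with
  | mem w hw =>
    obtain ⟨c, hc, rfl⟩ := hw
    exact ⟨c, hc, 0, Ideal.zero_mem _, by simp⟩
  | zero => exact ⟨0, Ideal.zero_mem _, 0, Ideal.zero_mem _, by simp⟩
  | add w₁ w₂ _ _ h₁ h₂ =>
    obtain ⟨c₁, hc₁, w₁', hw₁', rfl⟩ := h₁
    obtain ⟨c₂, hc₂, w₂', hw₂', rfl⟩ := h₂
    exact ⟨c₁ + c₂, Ideal.add_mem _ hc₁ hc₂, w₁' + w₂', Ideal.add_mem _ hw₁' hw₂', by
      rw [map_add]; ring⟩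
  | smul b w _ h =>
    obtain ⟨c, hc, w', hw', rfl⟩ := h
    obtain ⟨a, b', rfl⟩ := exists_decomp ρ σ hbij t hker b
    refine ⟨a * c, Ideal.mul_mem_left _ _ hc, b' * ρ c + (ρ a + t * b') * w', ?_, ?_⟩
    · exact Ideal.add_mem _ (Ideal.mul_mem_left _ _ (Ideal.mem_map_of_mem ρ hc))
        (Ideal.mul_mem_left _ _ hw')
    · rw [smul_eq_mul, map_mul]; ring

include hbij ht hker in
lemma mem_of_mul_mem (b : B) (hb : t * b ∈ (maximalIdeal A).map ρ) :
    b ∈ (maximalIdeal A).map ρ := by
  obtain ⟨c, _, w', hw', h⟩ := mem_decomp ρ σ hbij t hker _ hb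
  have hσt : σ t = 0 := by
    have : t ∈ RingHom.ker σ := hker ▸ Ideal.mem_span_singleton_self t
    exact this
  have h1 := congrArg σ h
  rw [map_mul, map_add, map_mul, hσt, zero_mul, zero_mul, add_zero] at h1
  have hc0 : c = 0 := hbij.1 (by simpa using h1.symm)
  rw [hc0, map_zero, zero_add] at h
  have h2 : t * (b - w') = 0 := by rw [mul_sub, h, sub_self]
  have h3 := ht _ h2
  rw [sub_eq_zero] at h3
  rw [h3]; exact hw'

include hker in
lemma t_mem_maximalIdeal : t ∈ maximalIdeal B := by
  rw [IsLocalRing.mem_maximalIdeal, mem_nonunits_iff]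
  intro hu
  have h1 : (1 : B) ∈ RingHom.ker σ := by
    rw [hker, Ideal.mem_span_singleton']
    obtain ⟨u, hu⟩ := hu.exists_left_inv
    exact ⟨u, hu⟩
  rw [RingHom.mem_ker, map_one] at h1
  exact one_ne_zero h1

lemma map_le_maximalIdeal : (maximalIdeal A).map ρ ≤ maximalIdeal B :=
  ((IsLocalRing.local_hom_TFAE ρ).out 0 2).mp (inferInstance : IsLocalHom ρ)

lemma map_ne_top : (maximalIdeal A).map ρ ≠ ⊤ := by
  intro h
  have h1 := map_le_maximalIdeal ρ
  rw [h, top_le_iff] at h1
  exact (Ideal.IsMaximal.ne_top inferInstance) h1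

include hbij ht hker in
/-- The quotient `B ⧸ 𝔪_A B` is a discrete valuation ring (if it is Noetherian). -/
theorem quotient_isDomain_and_dvr [IsNoetherianRing (B ⧸ (maximalIdeal A).map ρ)] :
    ∃ (_ : IsDomain (B ⧸ (maximalIdeal A).map ρ)),
      IsDiscreteValuationRing (B ⧸ (maximalIdeal A).map ρ) := by
  have : Nontrivial (B ⧸ (maximalIdeal A).map ρ) :=
    Ideal.Quotient.nontrivial_iff.mpr (map_ne_top ρ)
  have : IsLocalRing (B ⧸ (maximalIdeal A).map ρ) :=
    IsLocalRing.of_surjective' (Ideal.Quotient.mk _) Ideal.Quotient.mk_surjective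
  have hloc : IsLocalHom (Ideal.Quotient.mk ((maximalIdeal A).map ρ)) :=
    IsLocalHom.of_surjective _ Ideal.Quotient.mk_surjective
  apply isDomain_and_dvr_of_principal_regular _ (Ideal.Quotient.mk ((maximalIdeal A).map ρ) t)
  · apply le_antisymm
    · intro x hx
      obtain ⟨b, rfl⟩ := Ideal.Quotient.mk_surjective x
      obtain ⟨a, b', rfl⟩ := exists_decomp ρ σ hbij t hker b
      have ha : a ∈ maximalIdeal A := by
        by_contra hcon
        have hua : IsUnit a := by
          rwa [IsLocalRing.mem_maximalIdeal, mem_nonunits_iff, not_not] at hcon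
        have hub : IsUnit (ρ a + t * b') := by
          by_contra hnu
          have h1 : ρ a + t * b' ∈ maximalIdeal B := (IsLocalRing.mem_maximalIdeal _).mpr hnu
          have h2 : t * b' ∈ maximalIdeal B :=
            Ideal.mul_mem_right _ _ (t_mem_maximalIdeal σ t hker)
          have h3 : ρ a ∈ maximalIdeal B := by
            have := Ideal.sub_mem _ h1 h2
            simpa using this
          exact (IsLocalRing.mem_maximalIdeal _).mp h3 (hua.map ρ)
        exact (IsLocalRing.mem_maximalIdeal _).mp hx (hub.map _)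
      rw [map_add, map_mul, Ideal.Quotient.eq_zero_iff_mem.mpr (Ideal.mem_map_of_mem ρ ha),
        zero_add]
      exact Ideal.mul_mem_right _ _ (Ideal.mem_span_singleton_self _)
    · rw [Ideal.span_singleton_le_iff_mem, IsLocalRing.mem_maximalIdeal, mem_nonunits_iff]
      intro hu
      exact (IsLocalRing.mem_maximalIdeal _).mp (t_mem_maximalIdeal σ t hker)
        (hloc.map_nonunit t hu)
  · intro x hx
    obtain ⟨b, rfl⟩ := Ideal.Quotient.mk_surjective x
    rw [← map_mul, Ideal.Quotient.eq_zero_iff_mem] at hx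
    exact Ideal.Quotient.eq_zero_iff_mem.mpr (mem_of_mul_mem ρ σ hbij t ht hker b hx)

end

end Groth.Agent.Lib.Helper6.SectionFibre
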