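import Mathlib
import Groth.Prelude.Def_BlowUp2
import Groth.Agent.Lib.Helper6.SectionFibreAlg
import Groth.Agent.Lib.Helper6.FiberStalkIso
import Groth.Agent.Lib.Helper5.StalkKer

/-!
# The fibre of a morphism at a point of a section with effective Cartier ideal is a DVR
-/

set_option autoImplicit false

open CategoryTheory CategoryTheory.Limits AlgebraicGeometry

universe u

namespace Groth.Agent.Lib.Helper6.SectionFibre

open Groth.Agent.Lib.Helper6

set_option backward.isDefEq.respectTransparency.types false in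
theorem fibre_stalk_dvr {X V : Scheme.{u}} (π : V ⟶ X) [LocallyOfFiniteType π]
    (j : X ⟶ V) [IsClosedImmersion j] (hj : j ≫ π = 𝟙 X) (hJ : BlowUp.IsEffCartierIdeal j.ker)
    (x : X) :
    ∃ _ : IsDomain ((π.fiber (π.base (j.base x))).presheaf.stalk (π.asFiber (j.base x))),
      IsDiscreteValuationRing
        ((π.fiber (π.base (j.base x))).presheaf.stalk (π.asFiber (j.base x))) := by
  obtain ⟨U, hvU, t₀, ht₀, hI⟩ := hJ (j.base x)
  have hU : IsAffineOpen U.1 := U.2
  let _ : Algebra Γ(V, U.1) (V.presheaf.stalk (j.base x)) :=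
    TopCat.Presheaf.algebra_section_stalk V.presheaf (U := U.1) ⟨j.base x, hvU⟩
  have hloc : IsLocalization.AtPrime (V.presheaf.stalk (j.base x))
      (hU.primeIdealOf ⟨j.base x, hvU⟩).asIdeal := hU.isLocalization_stalk ⟨j.base x, hvU⟩
  have htnzd : (V.presheaf.germ U.1 (j.base x) hvU).hom t₀ ∈
      nonZeroDivisors (V.presheaf.stalk (j.base x)) :=
    IsLocalization.map_nonZeroDivisors_le (hU.primeIdealOf ⟨j.base x, hvU⟩).asIdeal.primeCompl
      (V.presheaf.stalk (j.base x)) (Submonoid.mem_map_of_mem _ ht₀)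
  have hker : RingHom.ker (j.stalkMap x).hom =
      Ideal.span {(V.presheaf.germ U.1 (j.base x) hvU).hom t₀} := by
    rw [Groth.Agent.Lib.Helper5.StalkKer.ker_stalkMap_eq_map_ker j hU x hvU,
      ← Scheme.Hom.ker_apply j U, hI, Ideal.map_span, Set.image_singleton]
  have hiso : IsIso (j ≫ π) := hj ▸ inferInstance
  have hbij : Function.Bijective ((j.stalkMap x).hom.comp (π.stalkMap (j.base x)).hom) := by
    have h1 : (j ≫ π).stalkMap x = π.stalkMap (j.base x) ≫ j.stalkMap x :=
      Scheme.Hom.stalkMap_comp j π x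
    have h3 := ConcreteCategory.bijective_of_isIso ((j ≫ π).stalkMap x)
    rw [h1] at h3
    exact h3
  have hlft : LocallyOfFiniteType (π.fiberToSpecResidueField (π.base (j.base x))) :=
    MorphismProperty.pullback_snd _ _ inferInstance
  have hN : IsLocallyNoetherian (π.fiber (π.base (j.base x))) :=
    LocallyOfFiniteType.isLocallyNoetherian (π.fiberToSpecResidueField _)
  have e := fiberStalkEquiv π (j.base x)
  have hNq : IsNoetherianRing (V.presheaf.stalk (j.base x) ⧸
      (IsLocalRing.maximalIdeal (X.presheaf.stalk (π.base (j.base x)))).map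
        (π.stalkMap (j.base x)).hom) :=
    isNoetherianRing_of_ringEquiv _ e
  obtain ⟨hd, hdvr⟩ := quotient_isDomain_and_dvr (π.stalkMap (j.base x)).hom (j.stalkMap x).hom
    hbij _ (fun b hb => (mul_left_mem_nonZeroDivisors_eq_zero_iff htnzd).mp hb) hker
  have hd2 : IsDomain (V.presheaf.stalk (j.base x) ⧸ fiberIdeal π (j.base x)) := hd
  have hdvr2 : IsDiscreteValuationRing (V.presheaf.stalk (j.base x) ⧸ fiberIdeal π (j.base x)) :=
    hdvr
  have hd' : IsDomain ((π.fiber (π.base (j.base x))).presheaf.stalk (π.asFiber (j.base x))) :=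
    e.toMulEquiv.isDomain _
  exact ⟨hd', IsDiscreteValuationRing.RingEquivClass.isDiscreteValuationRing e.symm⟩

end Groth.Agent.Lib.Helper6.SectionFibre
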