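import Mathlib
import Groth.Prelude.Def_ModelsG
import Groth.Agent.Lib.Helper9.RegLocal
import Groth.Agent.Lib.Helper6.FibreConstDescent

/-!
# A section of an arithmetic surface meets the closed fibre at a smooth rational point
-/

set_option autoImplicit false
set_option linter.style.haveILetI false
universe u
open CategoryTheory CategoryTheory.Limits AlgebraicGeometry IsLocalRing

namespace Groth.Agent.Lib.Helper6.SectionSmoothPt

open Groth.Agent.Lib.Helper6.FibreConstDescent

section general

variable {R : Type u} [CommRing R] (X : Over (Spec (CommRingCat.of R)))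

/-- The morphism `Spec O_{X,x} ⟶ X ⟶ Spec R` is induced by `R → O_{X,x}`. -/
theorem fromSpecStalk_hom (x : X.left) :
    X.left.fromSpecStalk x ≫ X.hom =
      Spec.map (((Scheme.ΓSpecIso (CommRingCat.of R)).inv ≫ X.hom.appTop) ≫
        X.left.presheaf.germ ⊤ x trivial) := by
  apply ext_of_isAffine
  rw [← cancel_mono (Scheme.ΓSpecIso (X.left.presheaf.stalk x)).hom, Scheme.Hom.comp_appTop,
    Category.assoc, fromSpecStalk_appTop_hom, Scheme.ΓSpecIso_naturality]
  simp only [Category.assoc, Iso.hom_inv_id_assoc]

end general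

section localbase

variable {R : Type u} [CommRing R] [IsDomain R] [IsDiscreteValuationRing R]
  (X : Over (Spec (CommRingCat.of R)))

theorem mem_specialFibreSet_iff (x : X.left) (q : Spec (X.left.presheaf.stalk x)) :
    (X.left.fromSpecStalk x).base q ∈ Models.specialFibreSet R X ↔
      Ideal.comap (Models.stalkHom R X x) q.asIdeal = maximalIdeal R := by
  have h1 : X.hom.base ((X.left.fromSpecStalk x).base q) =
      (Spec.map (((Scheme.ΓSpecIso (CommRingCat.of R)).inv ≫ X.hom.appTop) ≫
        X.left.presheaf.germ ⊤ x trivial)).base q := by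
    rw [← fromSpecStalk_hom]; rfl
  constructor
  · intro h
    have h2 : X.hom.base ((X.left.fromSpecStalk x).base q) = closedPoint R := h
    rw [h1] at h2
    exact congrArg PrimeSpectrum.asIdeal h2
  · intro h
    show X.hom.base ((X.left.fromSpecStalk x).base q) = closedPoint R
    rw [h1]
    exact PrimeSpectrum.ext h

theorem stalkSpecializes_stalkHom {x y : X.left} (h : x ⤳ y) (r : R) :
    (X.left.presheaf.stalkSpecializes h).hom (Models.stalkHom R X y r) =
      Models.stalkHom R X x r := by
  have := X.left.presheaf.germ_stalkSpecializes (U := ⊤) (hy := trivial) h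
  exact congrArg (fun f => f.hom (Coh.toGlobal X.hom r)) this

variable {π : R} (hπ : Irreducible π)

include hπ in
theorem map_maximalIdeal_eq (x : X.left) :
    Ideal.map (Models.stalkHom R X x) (maximalIdeal R) =
      Ideal.span {Models.stalkHom R X x π} := by
  rw [hπ.maximalIdeal_eq, Ideal.map_span, Set.image_singleton]

variable (p : X.left)
  (hI : (Ideal.map (Models.stalkHom R X p) (maximalIdeal R)).IsPrime)

/-- the generic point of the fibre component through `p` -/
noncomputable def zeta : X.left :=
  (X.left.fromSpecStalk p).base (⟨_, hI⟩ : PrimeSpectrum (X.left.presheaf.stalk p))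

include hπ in
theorem zeta_mem : zeta X p hI ∈ Models.specialFibreSet R X := by
  refine (mem_specialFibreSet_iff X p
    (⟨_, hI⟩ : PrimeSpectrum (X.left.presheaf.stalk p))).mpr ?_
  refine ((maximalIdeal.isMaximal R).eq_of_le ?_ ?_).symm
  · haveI : (Ideal.comap (Models.stalkHom R X p)
        (Ideal.map (Models.stalkHom R X p) (maximalIdeal R))).IsPrime := Ideal.comap_isPrime _ _
    exact Ideal.IsPrime.ne_top inferInstance
  · exact Ideal.le_comap_map

theorem zeta_specializes : zeta X p hI ⤳ p := by
  have h1 : (⟨_, hI⟩ : PrimeSpectrum (X.left.presheaf.stalk p)) ⤳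
      closedPoint (X.left.presheaf.stalk p) := IsLocalRing.specializes_closedPoint _
  have h2 := h1.map (X.left.fromSpecStalk p).continuous
  have h3 : (X.left.fromSpecStalk p).base (closedPoint (X.left.presheaf.stalk p)) = p :=
    Scheme.fromSpecStalk_closedPoint
  exact h2.trans (specializes_of_eq h3)

theorem zeta_specializes_of_mem (η : X.left) (hη : η ∈ Models.specialFibreSet R X)
    (hηp : η ⤳ p) : zeta X p hI ⤳ η := by
  have hr : η ∈ Set.range (X.left.fromSpecStalk p) := by
    rw [Scheme.range_fromSpecStalk]; exact hηp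
  obtain ⟨q, rfl⟩ := hr
  have h1 := (mem_specialFibreSet_iff X p q).mp hη
  have h2 : (⟨_, hI⟩ : PrimeSpectrum (X.left.presheaf.stalk p)) ≤ q := by
    show Ideal.map (Models.stalkHom R X p) (maximalIdeal R) ≤ q.asIdeal
    rw [Ideal.map_le_iff_le_comap, h1]
  exact ((PrimeSpectrum.le_iff_specializes _ _).mp h2).map (X.left.fromSpecStalk p).continuous

include hπ in
theorem closure_zeta_mem_fibreComponents :
    closure {zeta X p hI} ∈ Models.fibreComponents R X := by
  refine ⟨⟨isIrreducible_singleton.closure, closure_minimal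
    (Set.singleton_subset_iff.mpr (zeta_mem X hπ p hI)) (Models.isClosed_specialFibreSet R X)⟩, ?_⟩
  rintro S ⟨hSirr, hSF⟩ hle
  have hgen := hSirr.isGenericPoint_genericPoint_closure
  have hηF : hSirr.genericPoint ∈ Models.specialFibreSet R X :=
    closure_minimal hSF (Models.isClosed_specialFibreSet R X) hgen.mem
  have hζS : zeta X p hI ∈ closure S := subset_closure (hle (subset_closure rfl))
  have hηζ : hSirr.genericPoint ⤳ zeta X p hI := hgen.specializes hζS
  have hζη : zeta X p hI ⤳ hSirr.genericPoint :=
    zeta_specializes_of_mem X p hI _ hηF (hηζ.trans (zeta_specializes X p hI))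
  have heq : hSirr.genericPoint = zeta X p hI := (hηζ.antisymm hζη).eq
  intro s hs
  have h1 : s ∈ closure S := subset_closure hs
  rw [← hgen.def, heq] at h1
  exact h1

variable {n : ℕ} (Γ : Fin n → ArSurf.VertComp R X) (hΓ : Models.IsComponentList R X Γ)

theorem isGenericPoint_genPtOf (C : ArSurf.VertComp R X) :
    IsGenericPoint (Models.genPtOf R X C) (Set.range (C.ι.base : C.curve.left → X.left)) := by
  have h1 := (genericPoint_spec (α := C.curve.left)).image C.ι.continuous
  rw [Set.image_univ] at h1
  have h2 : IsClosed (Set.range (C.ι.base : C.curve.left → X.left)) :=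
    C.ι.isClosedEmbedding.isClosed_range
  rw [h2.closure_eq] at h1
  exact h1

include hπ hΓ in
theorem range_eq_closure_zeta (j : Fin n)
    (hj : p ∈ Set.range ((Γ j).ι.base : (Γ j).curve.left → X.left)) :
    Set.range ((Γ j).ι.base : (Γ j).curve.left → X.left) = closure {zeta X p hI} := by
  have hgen := isGenericPoint_genPtOf X (Γ j)
  have hZ : Set.range ((Γ j).ι.base : (Γ j).curve.left → X.left) ∈ Models.fibreComponents R X := by
    rw [← hΓ.2]; exact ⟨j, rfl⟩
  have hZ' : Maximal (fun S : Set X.left => IsIrreducible S ∧ S ⊆ Models.specialFibreSet R X)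
      (Set.range ((Γ j).ι.base : (Γ j).curve.left → X.left)) := hZ
  have hξF : Models.genPtOf R X (Γ j) ∈ Models.specialFibreSet R X := hZ'.prop.2 hgen.mem
  have hξp : Models.genPtOf R X (Γ j) ⤳ p := hgen.specializes hj
  have hζξ := zeta_specializes_of_mem X p hI _ hξF hξp
  have hle : Set.range ((Γ j).ι.base : (Γ j).curve.left → X.left) ⊆ closure {zeta X p hI} := by
    rw [← hgen.def]
    exact specializes_iff_closure_subset.mp hζξ
  have hM := closure_zeta_mem_fibreComponents X hπ p hI
  exact Set.Subset.antisymm hle (hZ'.2 hM.1 hle)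

include hπ hΓ in
theorem genPtOf_eq_zeta (j : Fin n)
    (hj : p ∈ Set.range ((Γ j).ι.base : (Γ j).curve.left → X.left)) :
    Models.genPtOf R X (Γ j) = zeta X p hI := by
  have hgen := isGenericPoint_genPtOf X (Γ j)
  rw [range_eq_closure_zeta X hπ p hI Γ hΓ j hj] at hgen
  exact hgen.eq (isGenericPoint_closure)

include hπ hΓ hI in
theorem existsUnique_component :
    ∃! i : Fin n, p ∈ Set.range ((Γ i).ι.base : (Γ i).curve.left → X.left) := by
  have hM := closure_zeta_mem_fibreComponents X hπ p hI
  rw [← hΓ.2] at hM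
  obtain ⟨i, hi⟩ := hM
  have hi' : Set.range ((Γ i).ι.base : (Γ i).curve.left → X.left) = closure {zeta X p hI} := hi
  refine ⟨i, ?_, ?_⟩
  · show p ∈ Set.range ((Γ i).ι.base : (Γ i).curve.left → X.left)
    rw [hi']
    exact specializes_iff_mem_closure.mp (zeta_specializes X p hI)
  · intro j hj
    have hj' := range_eq_closure_zeta X hπ p hI Γ hΓ j hj
    exact hΓ.1 (hj'.trans hi'.symm)

include hπ in
theorem length_eq_one (ξ : X.left) (h : ξ ⤳ p) (hξ : zeta X p hI = ξ) :
    Module.length (X.left.presheaf.stalk ξ)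
      (X.left.presheaf.stalk ξ ⧸ Ideal.map (Models.stalkHom R X ξ) (maximalIdeal R)) = 1 := by
  have hcomap : Ideal.comap (X.left.presheaf.stalkSpecializes h).hom
      (maximalIdeal (X.left.presheaf.stalk ξ)) =
      Ideal.map (Models.stalkHom R X p) (maximalIdeal R) := by
    have h0 := Scheme.SpecMap_stalkSpecializes_fromSpecStalk h
    have h1 : (X.left.fromSpecStalk p).base
        ((Spec.map (X.left.presheaf.stalkSpecializes h)).base
          (closedPoint (X.left.presheaf.stalk ξ))) = ξ := by
      have h2 : (X.left.fromSpecStalk ξ).base (closedPoint (X.left.presheaf.stalk ξ)) = ξ :=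
        Scheme.fromSpecStalk_closedPoint
      rw [← h0] at h2
      exact h2
    have h3 : (Spec.map (X.left.presheaf.stalkSpecializes h)).base
        (closedPoint (X.left.presheaf.stalk ξ)) = ⟨_, hI⟩ :=
      (X.left.fromSpecStalk p).isEmbedding.injective (h1.trans hξ.symm)
    exact congrArg PrimeSpectrum.asIdeal h3
  have hmem : (X.left.presheaf.stalkSpecializes h).hom (Models.stalkHom R X p π) ∈
      maximalIdeal (X.left.presheaf.stalk ξ) := by
    have : Models.stalkHom R X p π ∈ Ideal.comap (X.left.presheaf.stalkSpecializes h).hom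
        (maximalIdeal (X.left.presheaf.stalk ξ)) := by
      rw [hcomap]
      exact Ideal.mem_map_of_mem _ (by rw [hπ.maximalIdeal_eq]; exact Ideal.subset_span rfl)
    exact this
  have hmD : maximalIdeal (X.left.presheaf.stalk ξ) =
      Ideal.span {(X.left.presheaf.stalkSpecializes h).hom (Models.stalkHom R X p π)} := by
    apply le_antisymm
    · intro d hd
      obtain ⟨_, ⟨V, hV, rfl⟩, hpV, -⟩ := X.left.isBasis_affineOpens.exists_subset_of_mem_open
        (Set.mem_univ p) isOpen_univ
      have hξV : ξ ∈ V := h.mem_open V.2 hpV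
      letI : Algebra Γ(X.left, V) (X.left.presheaf.stalk ξ) :=
        TopCat.Presheaf.algebra_section_stalk X.left.presheaf ⟨ξ, hξV⟩
      haveI : IsLocalization.AtPrime (X.left.presheaf.stalk ξ)
          (hV.primeIdealOf ⟨ξ, hξV⟩).asIdeal := hV.isLocalization_stalk ⟨ξ, hξV⟩
      obtain ⟨⟨s, t⟩, hst⟩ := IsLocalization.surj
        (hV.primeIdealOf ⟨ξ, hξV⟩).asIdeal.primeCompl d
      have hu : IsUnit (algebraMap Γ(X.left, V) (X.left.presheaf.stalk ξ) t) :=
        IsLocalization.map_units (X.left.presheaf.stalk ξ) t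
      have halg : ∀ s : Γ(X.left, V), algebraMap Γ(X.left, V) (X.left.presheaf.stalk ξ) s =
          (X.left.presheaf.stalkSpecializes h).hom ((X.left.presheaf.germ V p hpV).hom s) := by
        intro s
        have := X.left.presheaf.germ_stalkSpecializes (U := V) (hy := hpV) h
        exact (congrArg (fun f => f.hom s) this).symm
      have hst' : d * algebraMap Γ(X.left, V) (X.left.presheaf.stalk ξ) t =
          algebraMap Γ(X.left, V) (X.left.presheaf.stalk ξ) s := hst
      have h5 : (X.left.presheaf.stalkSpecializes h).hom ((X.left.presheaf.germ V p hpV).hom s) ∈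
          maximalIdeal (X.left.presheaf.stalk ξ) := by
        rw [← halg, ← hst']
        exact Ideal.mul_mem_right _ _ hd
      have h6 : (X.left.presheaf.germ V p hpV).hom s ∈
          Ideal.map (Models.stalkHom R X p) (maximalIdeal R) := by
        rw [← hcomap]; exact h5
      rw [map_maximalIdeal_eq X hπ p] at h6
      obtain ⟨c, hc⟩ := Ideal.mem_span_singleton'.mp h6
      obtain ⟨u, hu'⟩ := hu
      rw [Ideal.mem_span_singleton']
      refine ⟨(X.left.presheaf.stalkSpecializes h).hom c * ↑u⁻¹, ?_⟩
      have h7 : d * ↑u = (X.left.presheaf.stalkSpecializes h).hom c *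
          (X.left.presheaf.stalkSpecializes h).hom (Models.stalkHom R X p π) := by
        rw [hu', hst', halg, ← hc, map_mul]
      calc (X.left.presheaf.stalkSpecializes h).hom c * ↑u⁻¹ *
            (X.left.presheaf.stalkSpecializes h).hom (Models.stalkHom R X p π)
          = ((X.left.presheaf.stalkSpecializes h).hom c *
            (X.left.presheaf.stalkSpecializes h).hom (Models.stalkHom R X p π)) * ↑u⁻¹ := by ring
        _ = d * ↑u * ↑u⁻¹ := by rw [h7]
        _ = d := by rw [mul_assoc, Units.mul_inv, mul_one]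
    · exact (Ideal.span_singleton_le_iff_mem _).mpr hmem
  have hid : Ideal.map (Models.stalkHom R X ξ) (maximalIdeal R) =
      maximalIdeal (X.left.presheaf.stalk ξ) := by
    rw [map_maximalIdeal_eq X hπ ξ, ← stalkSpecializes_stalkHom X h, hmD]
  rw [hid]
  exact Module.length_eq_one_iff.mpr
    (isSimpleModule_iff_isCoatom.mpr (Ideal.isMaximal_def.mp inferInstance))

end localbase

section sect

variable {R : Type u} [CommRing R] [IsDomain R] [IsDiscreteValuationRing R]
  (X : Over (Spec (CommRingCat.of R)))
  (σ : Spec (CommRingCat.of R) ⟶ X.left) (hσ : σ ≫ X.hom = 𝟙 _)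

include hσ in
theorem retr (r : R) :
    (Scheme.stalkClosedPointTo σ).hom (Models.stalkHom R X (σ.base (closedPoint R)) r) = r := by
  have h1 := ΓSpecIso_appTop_SpecMap_fromSpecStalk (σ.base (closedPoint R))
    (Scheme.stalkClosedPointTo σ)
    (X.hom.appTop.hom ((Scheme.ΓSpecIso (CommRingCat.of R)).inv.hom r))
  rw [Scheme.Spec_stalkClosedPointTo_fromSpecStalk] at h1
  have h3 := Scheme.Hom.comp_appTop σ X.hom
  rw [hσ, Scheme.Hom.id_appTop] at h3
  have h2 : σ.appTop.hom (X.hom.appTop.hom ((Scheme.ΓSpecIso (CommRingCat.of R)).inv.hom r)) =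
      (Scheme.ΓSpecIso (CommRingCat.of R)).inv.hom r :=
    (congrArg (fun f => f.hom ((Scheme.ΓSpecIso (CommRingCat.of R)).inv.hom r)) h3).symm
  rw [h2] at h1
  have h4 : (Scheme.ΓSpecIso (CommRingCat.of R)).hom.hom
      ((Scheme.ΓSpecIso (CommRingCat.of R)).inv.hom r) = r :=
    congrArg (fun f => f.hom r) (Scheme.ΓSpecIso (CommRingCat.of R)).inv_hom_id
  rw [h4] at h1
  exact h1.symm

include hσ in
theorem surj_residue :
    Function.Surjective ((X.left.residue (σ.base (closedPoint R))).hom.comp
      (Models.stalkHom R X (σ.base (closedPoint R)))) := by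
  intro y
  obtain ⟨a, ha⟩ := IsLocalRing.residue_surjective
    (R := X.left.presheaf.stalk (σ.base (closedPoint R))) y
  refine ⟨(Scheme.stalkClosedPointTo σ).hom a, ?_⟩
  rw [← ha]
  show IsLocalRing.residue _ (Models.stalkHom R X (σ.base (closedPoint R))
    ((Scheme.stalkClosedPointTo σ).hom a)) = IsLocalRing.residue _ a
  rw [← sub_eq_zero, ← map_sub, IsLocalRing.residue_eq_zero_iff, IsLocalRing.mem_maximalIdeal,
    mem_nonunits_iff]
  intro hu
  have := hu.map (Scheme.stalkClosedPointTo σ).hom
  rw [map_sub, retr X σ hσ, sub_self] at this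
  exact not_isUnit_zero this

variable {π : R} (hπ : Irreducible π)

include hσ hπ in
theorem stalkHom_unif_mem :
    Models.stalkHom R X (σ.base (closedPoint R)) π ∈
      maximalIdeal (X.left.presheaf.stalk (σ.base (closedPoint R))) := by
  rw [IsLocalRing.mem_maximalIdeal, mem_nonunits_iff]
  intro hu
  have := hu.map (Scheme.stalkClosedPointTo σ).hom
  rw [retr X σ hσ] at this
  exact hπ.not_isUnit this

include hσ hπ in
theorem stalkHom_unif_notMem_sq :
    Models.stalkHom R X (σ.base (closedPoint R)) π ∉
      maximalIdeal (X.left.presheaf.stalk (σ.base (closedPoint R))) ^ 2 := by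
  intro hmem
  have h1 : (Scheme.stalkClosedPointTo σ).hom
      (Models.stalkHom R X (σ.base (closedPoint R)) π) ∈
      Ideal.map (Scheme.stalkClosedPointTo σ).hom
        (maximalIdeal (X.left.presheaf.stalk (σ.base (closedPoint R))) ^ 2) :=
    Ideal.mem_map_of_mem _ hmem
  rw [retr X σ hσ, Ideal.map_pow] at h1
  have hle : Ideal.map (Scheme.stalkClosedPointTo σ).hom
      (maximalIdeal (X.left.presheaf.stalk (σ.base (closedPoint R)))) ≤ maximalIdeal R :=
    Ideal.map_le_iff_le_comap.mpr
      (fun a ha => map_nonunit (Scheme.stalkClosedPointTo σ).hom a ha)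
  have h2 : π ∈ maximalIdeal R ^ 2 := Ideal.pow_right_mono hle 2 h1
  rw [hπ.maximalIdeal_eq, Ideal.span_singleton_pow, Ideal.mem_span_singleton] at h2
  obtain ⟨c, hc⟩ := h2
  have h3 : π * 1 = π * (π * c) := by rw [mul_one, ← mul_assoc, ← sq]; exact hc
  have h4 := mul_left_cancel₀ hπ.ne_zero h3
  exact hπ.not_isUnit (IsUnit.of_mul_eq_one c h4.symm)

include hσ hπ in
theorem regular_quotient
    [IsRegularLocalRing (X.left.presheaf.stalk (σ.base (closedPoint R)))] :
    IsRegularLocalRing (X.left.presheaf.stalk (σ.base (closedPoint R)) ⧸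
      Ideal.map (Models.stalkHom R X (σ.base (closedPoint R))) (maximalIdeal R)) := by
  have hli : LinearIndependent
      (ResidueField (X.left.presheaf.stalk (σ.base (closedPoint R))))
      (fun _ : Fin 1 => (maximalIdeal (X.left.presheaf.stalk (σ.base (closedPoint R)))).toCotangent
        ⟨Models.stalkHom R X (σ.base (closedPoint R)) π, stalkHom_unif_mem X σ hσ hπ⟩) := by
    rw [linearIndependent_unique_iff]
    intro h0
    rw [Ideal.toCotangent_eq_zero] at h0
    exact stalkHom_unif_notMem_sq X σ hσ hπ h0
  have h1 := (Groth.Agent.Lib.Helper9.RegLocal.quotient_regular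
    (X.left.presheaf.stalk (σ.base (closedPoint R))) 1
    (fun _ => ⟨Models.stalkHom R X (σ.base (closedPoint R)) π,
      stalkHom_unif_mem X σ hσ hπ⟩) hli).2
  have h2 : Ideal.span (Set.range fun _ : Fin 1 =>
      ((⟨Models.stalkHom R X (σ.base (closedPoint R)) π, stalkHom_unif_mem X σ hσ hπ⟩ :
        maximalIdeal (X.left.presheaf.stalk (σ.base (closedPoint R)))) :
        X.left.presheaf.stalk (σ.base (closedPoint R)))) =
      Ideal.map (Models.stalkHom R X (σ.base (closedPoint R))) (maximalIdeal R) := by
    rw [map_maximalIdeal_eq X hπ, Set.range_const]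
  rw [h2] at h1
  exact h1

end sect

theorem main (R : Type u) [CommRing R] [IsDomain R] [IsDiscreteValuationRing R]
    (X : Over (Spec (CommRingCat.of R)))
    (hreg : ∀ x : X.left, IsRegularLocalRing (X.left.presheaf.stalk x))
    {n : ℕ} (Γ : Fin n → ArSurf.VertComp R X) (hΓ : Models.IsComponentList R X Γ)
    (σ : Spec (CommRingCat.of R) ⟶ X.left) (hσ : σ ≫ X.hom = 𝟙 _) :
    Function.Surjective ((X.left.residue (σ.base (IsLocalRing.closedPoint R))).hom.comp
        (Models.stalkHom R X (σ.base (IsLocalRing.closedPoint R)))) ∧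
      IsRegularLocalRing (X.left.presheaf.stalk (σ.base (IsLocalRing.closedPoint R)) ⧸
        Ideal.map (Models.stalkHom R X (σ.base (IsLocalRing.closedPoint R)))
          (IsLocalRing.maximalIdeal R)) ∧
      (∃! i : Fin n, σ.base (IsLocalRing.closedPoint R) ∈
        Set.range ((Γ i).ι.base : (Γ i).curve.left → X.left)) ∧
      ∀ i : Fin n, σ.base (IsLocalRing.closedPoint R) ∈
          Set.range ((Γ i).ι.base : (Γ i).curve.left → X.left) →
        Models.mult R X (Γ i) = 1 := by
  obtain ⟨π, hπ⟩ := IsDiscreteValuationRing.exists_irreducible R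
  haveI := hreg (σ.base (closedPoint R))
  have hq := regular_quotient X σ hσ hπ
  have hI : (Ideal.map (Models.stalkHom R X (σ.base (closedPoint R)))
      (maximalIdeal R)).IsPrime := by
    haveI := hq
    haveI : IsDomain (X.left.presheaf.stalk (σ.base (closedPoint R)) ⧸
        Ideal.map (Models.stalkHom R X (σ.base (closedPoint R))) (maximalIdeal R)) :=
      Groth.Agent.Lib.Helper9.RegLocal.isDomain_of_isRegularLocalRing _
    exact (Ideal.Quotient.isDomain_iff_prime _).mp inferInstance
  refine ⟨surj_residue X σ hσ, hq, existsUnique_component X hπ _ hI Γ hΓ, ?_⟩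
  intro i hi
  have hgen := genPtOf_eq_zeta X hπ _ hI Γ hΓ i hi
  have hsp : Models.genPtOf R X (Γ i) ⤳ σ.base (closedPoint R) := by
    rw [hgen]; exact zeta_specializes X _ hI
  have hlen := length_eq_one X hπ _ hI (Models.genPtOf R X (Γ i)) hsp hgen.symm
  unfold Models.mult
  rw [hlen]
  rfl

end Groth.Agent.Lib.Helper6.SectionSmoothPt
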