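import Groth.Agent.Lib.Helper14.SepPointsSch
import Groth.Agent.Lib.Helper16.Charts

/-!
# Helper library (helper6): finite separable points are dense on smooth algebraic spaces over a field
-/

set_option autoImplicit false
universe u
open CategoryTheory CategoryTheory.Limits AlgebraicGeometry Topology TopologicalSpace Opposite
open AlgSp

namespace Groth.Agent.Lib.Helper6.SepPts

theorem specMap_residue_toGlobal {k : Type u} [Field k] {X : Scheme.{u}}
    (f : X ⟶ Spec (CommRingCat.of k)) (x : X) :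
    Spec.map (CommRingCat.ofHom ((X.residue x).hom.comp
      ((X.presheaf.germ ⊤ x trivial).hom.comp (Coh.toGlobal f)))) =
      X.fromSpecResidueField x ≫ f := by
  have h1 : CommRingCat.ofHom ((X.residue x).hom.comp
      ((X.presheaf.germ ⊤ x trivial).hom.comp (Coh.toGlobal f))) =
      (Scheme.ΓSpecIso (CommRingCat.of k)).inv ≫ f.appTop ≫ X.presheaf.germ ⊤ x trivial ≫
        X.residue x := by
    ext a
    rfl
  calc Spec.map (CommRingCat.ofHom ((X.residue x).hom.comp
        ((X.presheaf.germ ⊤ x trivial).hom.comp (Coh.toGlobal f))))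
      = Spec.map (X.residue x) ≫ Spec.map (X.presheaf.germ ⊤ x trivial) ≫ Spec.map f.appTop ≫
          Spec.map (Scheme.ΓSpecIso (CommRingCat.of k)).inv := by
        rw [h1, Spec.map_comp, Spec.map_comp, Spec.map_comp]
        simp only [Category.assoc]
    _ = Spec.map (X.residue x) ≫ (X.fromSpecStalk x ≫ X.toSpecΓ) ≫ Spec.map f.appTop ≫
          Spec.map (Scheme.ΓSpecIso (CommRingCat.of k)).inv := by
        rw [Scheme.fromSpecStalk_toSpecΓ]
    _ = Spec.map (X.residue x) ≫ X.fromSpecStalk x ≫ (X.toSpecΓ ≫ Spec.map f.appTop) ≫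
          Spec.map (Scheme.ΓSpecIso (CommRingCat.of k)).inv := by
        simp only [Category.assoc]
    _ = Spec.map (X.residue x) ≫ X.fromSpecStalk x ≫ (f ≫ (Spec (CommRingCat.of k)).toSpecΓ) ≫
          Spec.map (Scheme.ΓSpecIso (CommRingCat.of k)).inv := by
        rw [Scheme.toSpecΓ_naturality]
    _ = Spec.map (X.residue x) ≫ X.fromSpecStalk x ≫ f ≫ ((Spec (CommRingCat.of k)).toSpecΓ ≫
          Spec.map (Scheme.ΓSpecIso (CommRingCat.of k)).inv) := by
        simp only [Category.assoc]
    _ = X.fromSpecResidueField x ≫ f := by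
        rw [toSpecΓ_SpecMap_ΓSpecIso_inv, Category.comp_id, Scheme.fromSpecResidueField,
          Category.assoc]

theorem exists_mk_eq {S : Scheme.{u}} {F : Sp S} (K : Type u) [Field K]
    (s s' : Spec (CommRingCat.of K) ⟶ S) (h : s = s') (v' : F.obj.obj (op (Over.mk s'))) :
    ∃ v : F.obj.obj (op (Over.mk s)), Points.mk ⟨K, s, v⟩ = Points.mk ⟨K, s', v'⟩ := by
  subst h
  exact ⟨v', rfl⟩

theorem main10490 (k : Type u) [Field k] (X : AlgSp.Space (Spec (CommRingCat.of k))) (p : X.obj ⟶ (AlgSp.yon (Spec (CommRingCat.of k))).obj (Over.mk (𝟙 _))) (hp : AlgSp.LocP @Smooth p) :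
    Dense {x : AlgSp.Points X.obj | ∃ (k' : Type u) (_ : Field k') (_ : Algebra k k'),
      Module.Finite k k' ∧ Algebra.IsSeparable k k' ∧
        ∃ v : X.obj.obj.obj (Opposite.op (Over.mk (Spec.map (CommRingCat.ofHom (algebraMap k k'))))),
          AlgSp.Points.mk ⟨k', Spec.map (CommRingCat.ofHom (algebraMap k k')), v⟩ = x} := by
  obtain ⟨U, a, hae, has⟩ := X.property.atlas
  have hsm : Smooth (U.hom : U.left ⟶ Spec (CommRingCat.of k)) := by
    let h : U ⟶ Over.mk (𝟙 (Spec (CommRingCat.of k))) := Over.homMk U.hom (by simp)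
    have hcomm : a ≫ p = (yon _).map h ≫ 𝟙 _ := by
      obtain ⟨h', hh'⟩ := (yon _).map_surjective (a ≫ p)
      have hh : h' = h := Over.mkIdTerminal.hom_ext _ _
      rw [← hh', hh, Category.comp_id]
    exact hp a (𝟙 _) h hae (repWith_id _ _) hcomm
  have hd := Groth.Agent.Lib.Helper14.SepPointsSch.dense_sep_points k
    (U.hom : U.left ⟶ Spec (CommRingCat.of k))
  have hcont : Continuous (Points.ofPt a) := Points.continuous_ofPt a
  have hsurj : Function.Surjective (Points.ofPt a) :=
    Groth.Agent.Lib.Helper16.ofPt_surjective_of_surjective a has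
  have hd2 := hsurj.denseRange.dense_image hcont hd
  refine hd2.mono ?_
  rintro _ ⟨u, hu, rfl⟩
  refine ⟨U.left.residueField u, inferInstance,
    ((U.left.residue u).hom.comp ((U.left.presheaf.germ ⊤ u trivial).hom.comp
      (Coh.toGlobal (U.hom : U.left ⟶ Spec (CommRingCat.of k))))).toAlgebra, hu.2.1, hu.2.2, ?_⟩
  exact exists_mk_eq (F := X.obj) _ _ _
    (specMap_residue_toGlobal (U.hom : U.left ⟶ Spec (CommRingCat.of k)) u) _

end Groth.Agent.Lib.Helper6.SepPts
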