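import Mathlib
import Groth.Agent.Lib.Helper12.ProductDim
import Groth.Agent.Lib.Helper12.ClosedSub
import Groth.Agent.Lib.Helper12.JacLocalDim
import Groth.Agent.Lib.Helper22.RegImmDim
import Groth.Agent.Lib.Helper22.DiagReg
import Groth.Agent.Lib.Helper7.RedLib

set_option autoImplicit false

/-!
# Dimension of intersections on a smooth variety over a field (helper6)

Reduction to the diagonal, using helper22's `RegImmDim`/`DiagReg` and helper12's `ProductDim`.
-/

universe u
open AlgebraicGeometry CategoryTheory CategoryTheory.Limits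

namespace Groth.Agent.Lib.Helper6.SmoothInter

open Groth.Agent.Lib.Helper12 Groth.Agent.Lib.Helper12.ClosedSub
open Groth.Agent.Lib.Helper12.SchemeDimFT

theorem dim_eq_of_range {A B : Scheme.{u}} (i : A ⟶ B) [IsClosedImmersion i] (S : Set B)
    (h : Set.range i = S) : topologicalKrullDim A = topologicalKrullDim ↥S :=
  IsHomeomorph.topologicalKrullDim_eq _
    (i.isEmbedding.toHomeomorph.trans (Homeomorph.setCongr h)).isHomeomorph

theorem isIntegral_clSub {S : Scheme.{u}} (ξ : S) : IsIntegral (clSub S ξ) := by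
  haveI : IsReduced (clSub S ξ) := Groth.Agent.Lib.Helper7.isReduced_vanishingIdeal_subscheme _
  exact isIntegral_of_irreducibleSpace_of_isReduced _

theorem exists_maxPt_of_mem_irreducibleComponents {T : Type*} [TopologicalSpace T]
    [QuasiSober T] [T0Space T] (S : Set T) (hS : IsClosed S) (Z : Set ↥S)
    (hZ : Z ∈ irreducibleComponents ↥S) :
    ∃ ζ : T, ζ ∈ S ∧ (∀ y : T, y ∈ S → y ⤳ ζ → y = ζ) ∧
      topologicalKrullDim ↥Z = topologicalKrullDim ↥(closure ({ζ} : Set T)) := by
  haveI : QuasiSober ↥S := hS.isClosedEmbedding_subtypeVal.quasiSober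
  obtain ⟨z₀, hmax, rfl⟩ := (JacLocalDim.mem_irreducibleComponents_iff_top Z).mp hZ
  refine ⟨z₀.1, z₀.2, ?_, ?_⟩
  · intro y hy h
    have := hmax ⟨y, hy⟩ ((subtype_specializes_iff _ _).mpr h)
    exact congrArg Subtype.val this
  · have h1 : Subtype.val '' closure ({z₀} : Set ↥S) = closure ({z₀.1} : Set T) := by
      rw [← hS.isClosedEmbedding_subtypeVal.closure_image_eq, Set.image_singleton]
    rw [← h1]
    exact IsHomeomorph.topologicalKrullDim_eq _
      (Topology.IsEmbedding.subtypeVal.homeomorphImage (closure {z₀})).isHomeomorph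

theorem main (k : Type u) [Field k] (X : Scheme.{u})
    (f : X ⟶ Spec (CommRingCat.of k)) [Smooth f] [IsSeparated f] [QuasiCompact f] [IsIntegral X]
    (n r s : ℕ) (hn : topologicalKrullDim X = n) (V W : Set X) (hVc : IsClosed V)
    (hVi : IsIrreducible V) (hWc : IsClosed W) (hWi : IsIrreducible W)
    (hr : topologicalKrullDim ↥V = r) (hs : topologicalKrullDim ↥W = s) (Z : Set ↥(V ∩ W))
    (hZ : Z ∈ irreducibleComponents ↥(V ∩ W)) :
    ((r + s : ℕ) : WithBot ℕ∞) ≤ topologicalKrullDim ↥Z + n := by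
  obtain ⟨ζ, hζ, hζmax, hdimZ⟩ :=
    exists_maxPt_of_mem_irreducibleComponents (V ∩ W) (hVc.inter hWc) Z hZ
  rw [hdimZ]
  obtain ⟨v, hv⟩ := QuasiSober.sober hVi hVc
  obtain ⟨w, hw⟩ := QuasiSober.sober hWi hWc
  have hv' : closure ({v} : Set X) = V := hv.def
  have hw' : closure ({w} : Set X) = W := hw.def
  haveI : IsIntegral (clSub X v) := isIntegral_clSub v
  haveI : IsIntegral (clSub X w) := isIntegral_clSub w
  have hVr : Set.range (clSubι X v) = V := (range_clSubι X v).trans hv'
  have hWr : Set.range (clSubι X w) = W := (range_clSubι X w).trans hw'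
  have hdV : topologicalKrullDim (clSub X v) = r := (dim_eq_of_range (clSubι X v) V hVr).trans hr
  have hdW : topologicalKrullDim (clSub X w) = s := (dim_eq_of_range (clSubι X w) W hWr).trans hs
  -- the closed immersion `V ×ₖ W ⟶ X ×ₖ X`
  obtain ⟨μ, hμ⟩ : ∃ μ : pullback (clSubι X v ≫ f) (clSubι X w ≫ f) ⟶ pullback f f,
      μ = pullback.map (clSubι X v ≫ f) (clSubι X w ≫ f) f f (clSubι X v) (clSubι X w) (𝟙 _)
        ((Category.comp_id _).trans rfl) ((Category.comp_id _).trans rfl) := ⟨_, rfl⟩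
  haveI : IsClosedImmersion μ := by
    rw [hμ]
    exact MorphismProperty.pullbackMap (P := @IsClosedImmersion) inferInstance inferInstance
      rfl rfl
  have hrμ : Set.range μ = pullback.fst f f ⁻¹' V ∩ pullback.snd f f ⁻¹' W := by
    rw [hμ, Scheme.Pullback.range_map, hVr, hWr]
  have hΔ1 : ∀ x : X, pullback.fst f f (pullback.diagonal f x) = x := fun x => by
    rw [← Scheme.Hom.comp_apply, pullback.diagonal_fst]
    rfl
  have hΔ2 : ∀ x : X, pullback.snd f f (pullback.diagonal f x) = x := fun x => by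
    rw [← Scheme.Hom.comp_apply, pullback.diagonal_snd]
    rfl
  obtain ⟨p, hp⟩ : pullback.diagonal f ζ ∈ Set.range μ := by
    rw [hrμ]
    refine ⟨?_, ?_⟩
    · show pullback.fst f f (pullback.diagonal f ζ) ∈ V
      rw [hΔ1]
      exact hζ.1
    · show pullback.snd f f (pullback.diagonal f ζ) ∈ W
      rw [hΔ2]
      exact hζ.2
  -- an irreducible component through `p`
  obtain ⟨η, -, hη⟩ := (SchemeDimFT.mem_irreducibleComponents_iff (irreducibleComponent p)).mp
    (irreducibleComponent_mem_irreducibleComponents p)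
  have hpη : p ∈ closure ({η} : Set ↥(pullback (clSubι X v ≫ f) (clSubι X w ≫ f))) :=
    hη ▸ mem_irreducibleComponent
  have hcomp : closure ({η} : Set ↥(pullback (clSubι X v ≫ f) (clSubι X w ≫ f))) ∈
      irreducibleComponents ↥(pullback (clSubι X v ≫ f) (clSubι X w ≫ f)) :=
    hη ▸ irreducibleComponent_mem_irreducibleComponents p
  have hdη := ProductDim.dim_irreducibleComponent_pullback k (clSubι X v ≫ f) (clSubι X w ≫ f)
    _ hcomp
  haveI : IsIntegral (clSub (pullback (clSubι X v ≫ f) (clSubι X w ≫ f)) η) := isIntegral_clSub η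
  have hdZ' : topologicalKrullDim (clSub (pullback (clSubι X v ≫ f) (clSubι X w ≫ f)) η) =
      ((r + s : ℕ) : WithBot ℕ∞) := by
    rw [dim_eq_of_range (clSubι _ η) _ (range_clSubι _ η), hdη, hdV, hdW]
    push_cast
    rfl
  -- the point `ξ`
  obtain ⟨p', hp'⟩ : p ∈ Set.range (clSubι (pullback (clSubι X v ≫ f) (clSubι X w ≫ f)) η) := by
    rw [range_clSubι]
    exact hpη
  have hιp' : (clSubι (pullback (clSubι X v ≫ f) (clSubι X w ≫ f)) η ≫ μ) p' =
      pullback.diagonal f ζ := by
    rw [Scheme.Hom.comp_apply, hp', hp]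
  obtain ⟨ξ, hξ⟩ : ζ ∈ Set.range (pullback.fst (pullback.diagonal f)
      (clSubι (pullback (clSubι X v ≫ f) (clSubι X w ≫ f)) η ≫ μ)) := by
    rw [Scheme.Pullback.range_fst]
    exact ⟨p', hιp'⟩
  have hξmax : IsMaxPt ξ := by
    intro y hy
    have h1 : pullback.fst (pullback.diagonal f)
        (clSubι (pullback (clSubι X v ≫ f) (clSubι X w ≫ f)) η ≫ μ) y ⤳ ζ := by
      rw [← hξ]
      exact hy.map (Scheme.Hom.continuous _)
    have h2 : pullback.fst (pullback.diagonal f)
        (clSubι (pullback (clSubι X v ≫ f) (clSubι X w ≫ f)) η ≫ μ) y ∈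
        Set.range (pullback.fst (pullback.diagonal f)
          (clSubι (pullback (clSubι X v ≫ f) (clSubι X w ≫ f)) η ≫ μ)) := ⟨y, rfl⟩
    rw [Scheme.Pullback.range_fst] at h2
    obtain ⟨t, ht⟩ := h2
    have h3 : pullback.diagonal f (pullback.fst (pullback.diagonal f)
        (clSubι (pullback (clSubι X v ≫ f) (clSubι X w ≫ f)) η ≫ μ) y) ∈ Set.range μ :=
      ⟨clSubι (pullback (clSubι X v ≫ f) (clSubι X w ≫ f)) η t, by
        rw [← ht, Scheme.Hom.comp_apply]⟩
    rw [hrμ] at h3
    have h4 : pullback.fst (pullback.diagonal f)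
        (clSubι (pullback (clSubι X v ≫ f) (clSubι X w ≫ f)) η ≫ μ) y ∈ V ∩ W := by
      refine ⟨?_, ?_⟩
      · have := h3.1
        rwa [Set.mem_preimage, hΔ1] at this
      · have := h3.2
        rwa [Set.mem_preimage, hΔ2] at this
    have h5 := hζmax _ h4 h1
    exact (Scheme.Hom.isEmbedding _).injective (h5.trans hξ.symm)
  have hT : closure ({ξ} : Set ↥(pullback (pullback.diagonal f)
      (clSubι (pullback (clSubι X v ≫ f) (clSubι X w ≫ f)) η ≫ μ))) ∈ irreducibleComponents _ :=
    (SchemeDimFT.mem_irreducibleComponents_iff _).mpr ⟨ξ, hξmax, rfl⟩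
  have hmain := Groth.Agent.Lib.Helper22.RegImmDim.dim_component_ge k X (pullback f f)
    (clSub (pullback (clSubι X v ≫ f) (clSubι X w ≫ f)) η) (pullback.fst f f ≫ f)
    (pullback.diagonal f) n
    (Groth.Agent.Lib.Helper22.DiagReg.diagonal_isRegularImmersionOfCodim k X f n hn)
    (clSubι (pullback (clSubι X v ≫ f) (clSubι X w ≫ f)) η ≫ μ) (r + s) hdZ' _ hT
  have hdim : topologicalKrullDim ↥(closure ({ξ} : Set ↥(pullback (pullback.diagonal f)
      (clSubι (pullback (clSubι X v ≫ f) (clSubι X w ≫ f)) η ≫ μ)))) =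
      topologicalKrullDim ↥(closure ({ζ} : Set X)) := by
    have hq := (pullback.fst (pullback.diagonal f)
      (clSubι (pullback (clSubι X v ≫ f) (clSubι X w ≫ f)) η ≫ μ)).isClosedEmbedding
    have h1 : (pullback.fst (pullback.diagonal f)
        (clSubι (pullback (clSubι X v ≫ f) (clSubι X w ≫ f)) η ≫ μ)) '' closure {ξ} =
        closure {ζ} := by
      rw [← hq.closure_image_eq, Set.image_singleton, hξ]
    rw [← h1]
    exact IsHomeomorph.topologicalKrullDim_eq _
      (hq.isEmbedding.homeomorphImage (closure {ξ})).isHomeomorph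
  rw [← hdim]
  exact hmain

end Groth.Agent.Lib.Helper6.SmoothInter
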