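import Groth.Agent.Lib.Helper6.FOLocalize
import Groth.Agent.Lib.Helper16.Charts

/-!
# Helper library (helper6): smooth morphisms lift etale locally along arbitrary thickenings (S10615)

* `ring_lift_of_smooth`: a smooth ring map `R → C` lifts along a surjection `B → B₀` whose kernel is a nil ideal
  (finite presentation reduces to a finitely generated, hence nilpotent, ideal).
* `exists_local_lift`: the scheme version, Zariski locally on the thickening.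
* `main10615`: the statement for algebraic spaces, by reduction to charts and the topological invariance of the
  etale site (`exists_etale_lift_over`).
-/

set_option autoImplicit false
universe u
open CategoryTheory CategoryTheory.Limits AlgebraicGeometry Opposite

namespace Groth.Agent.Lib.Helper6.SmoothLift

open AlgSp Groth.Agent.Lib.Helper16 Groth.Agent.Lib.Helper6.FOLocalize

theorem ring_lift_of_smooth {R C B B₀ : Type u} [CommRing R] [CommRing C] [CommRing B]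
    [CommRing B₀] (φ : R →+* C) (hφ : φ.Smooth) (β : R →+* B) (α : C →+* B₀)
    (ρ : B →+* B₀) (hρ : Function.Surjective ρ) (hk : RingHom.ker ρ ≤ nilradical B)
    (hc : α.comp φ = ρ.comp β) : ∃ τ : C →+* B, τ.comp φ = β ∧ ρ.comp τ = α := by
  letI := φ.toAlgebra
  haveI : Algebra.FormallySmooth R C := hφ.formallySmooth
  haveI : Algebra.FinitePresentation R C := hφ.finitePresentation
  letI : Algebra R B := β.toAlgebra
  obtain ⟨n, π, hπ, hfg⟩ := Algebra.FinitePresentation.out (R := R) (A := C)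
  choose bb hbb using fun k : Fin n => hρ (α (π (MvPolynomial.X k)))
  obtain ⟨ev, hevdef⟩ : ∃ ev : MvPolynomial (Fin n) R →ₐ[R] B, ev = MvPolynomial.aeval bb := ⟨_, rfl⟩
  have hev : ρ.comp ev.toRingHom = α.comp π.toRingHom := by
    apply MvPolynomial.ringHom_ext
    · intro r
      have h1 : ev (MvPolynomial.C r) = β r := ev.commutes r
      have h2 : π (MvPolynomial.C r) = φ r := π.commutes r
      show ρ (ev (MvPolynomial.C r)) = α (π (MvPolynomial.C r))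
      rw [h1, h2]
      exact (congrArg (fun h => h r) hc).symm
    · intro k
      show ρ (ev (MvPolynomial.X k)) = α (π (MvPolynomial.X k))
      rw [hevdef, MvPolynomial.aeval_X]
      exact hbb k
  have hevp : ∀ p, ρ (ev p) = α (π p) := fun p => congrArg (fun h => h p) hev
  obtain ⟨I', hI'def⟩ : ∃ I' : Ideal B, I' = Ideal.map ev.toRingHom (RingHom.ker π.toRingHom) :=
    ⟨_, rfl⟩
  have hI'fg : I'.FG := by
    rw [hI'def]
    exact hfg.map _
  have hle : I' ≤ RingHom.ker ρ := by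
    rw [hI'def, Ideal.map_le_iff_le_comap]
    intro p hp
    have hp0 : π.toRingHom p = 0 := RingHom.mem_ker.1 hp
    have hp0' : π p = 0 := hp0
    rw [Ideal.mem_comap, RingHom.mem_ker]
    show ρ (ev p) = 0
    rw [hevp p, hp0', map_zero]
  have hnil : IsNilpotent I' := hI'fg.isNilpotent_iff_le_nilradical.2 (hle.trans hk)
  obtain ⟨g, hgdef⟩ : ∃ g : MvPolynomial (Fin n) R →ₐ[R] B ⧸ I',
      g = (Ideal.Quotient.mkₐ R I').comp ev := ⟨_, rfl⟩
  have H : RingHom.ker π.toRingHom ≤ RingHom.ker g.toRingHom := by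
    intro p hp
    rw [RingHom.mem_ker]
    show g p = 0
    rw [hgdef]
    show Ideal.Quotient.mk I' (ev p) = 0
    rw [Ideal.Quotient.eq_zero_iff_mem, hI'def]
    exact Ideal.mem_map_of_mem _ hp
  obtain ⟨τ, hτ⟩ := Algebra.FormallySmooth.exists_lift I' hnil (AlgHom.liftOfSurjective π hπ g H)
  have hτp : ∀ p, Ideal.Quotient.mk I' (τ (π p)) = Ideal.Quotient.mk I' (ev p) := by
    intro p
    have h1 := AlgHom.congr_fun hτ (π p)
    rw [AlgHom.liftOfSurjective_apply, hgdef] at h1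
    exact h1
  refine ⟨τ.toRingHom, ?_, ?_⟩
  · ext r
    exact τ.commutes r
  · ext c
    obtain ⟨p, rfl⟩ := hπ c
    have h2 : τ (π p) - ev p ∈ I' := Ideal.Quotient.eq.1 (hτp p)
    have h3 : ρ (τ (π p) - ev p) = 0 := RingHom.mem_ker.1 (hle h2)
    rw [map_sub, sub_eq_zero] at h3
    show ρ (τ (π p)) = α (π p)
    rw [h3]
    exact hevp p

theorem isHomeomorph_of_isThickening {T T' : Scheme.{u}} {j : T ⟶ T'} (hj : MoreMor.IsThickening j) :
    IsHomeomorph j.base := by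
  haveI := hj.1
  exact (isHomeomorph_iff_isEmbedding_surjective).mpr
    ⟨j.isClosedEmbedding.isEmbedding, hj.2.surj⟩

theorem exists_small_affine {X Y : Scheme.{u}} (f : X ⟶ Y) (x : X) (W : X.Opens) (hx : x ∈ W) :
    ∃ (U : X.Opens) (V : Y.Opens), IsAffineOpen U ∧ IsAffineOpen V ∧ x ∈ U ∧ U ≤ W ∧ U ≤ f ⁻¹ᵁ V := by
  obtain ⟨_, ⟨V : Y.Opens, hV, rfl⟩, hfxV, -⟩ :=
    Y.isBasis_affineOpens.exists_subset_of_mem_open (Set.mem_univ (f x)) isOpen_univ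
  have hx' : x ∈ W ⊓ f ⁻¹ᵁ V := ⟨hx, hfxV⟩
  obtain ⟨_, ⟨U : X.Opens, hU, rfl⟩, hxU, hUW⟩ :=
    X.isBasis_affineOpens.exists_subset_of_mem_open hx' (W ⊓ f ⁻¹ᵁ V).isOpen
  exact ⟨U, V, hU, hV, hxU, fun y hy => (hUW hy).1, fun y hy => (hUW hy).2⟩

theorem appLE_refl {X Y : Scheme.{u}} (i : X ⟶ Y) (U : Y.Opens) :
    i.appLE U (i ⁻¹ᵁ U) le_rfl = i.app U := by
  rw [Scheme.Hom.appLE]
  have : (homOfLE (le_refl (i ⁻¹ᵁ U))).op = 𝟙 _ := rfl
  rw [this, CategoryTheory.Functor.map_id, Category.comp_id]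

theorem appLE_congr' {X Y : Scheme.{u}} {g₁ g₂ : X ⟶ Y} (h : g₁ = g₂) (U : Y.Opens) (V : X.Opens)
    (e₁ : V ≤ g₁ ⁻¹ᵁ U) (e₂ : V ≤ g₂ ⁻¹ᵁ U) : g₁.appLE U V e₁ = g₂.appLE U V e₂ := by
  subst h; rfl

/-- Smooth morphisms lift Zariski locally along arbitrary thickenings of schemes. -/
theorem exists_local_lift {S X T T₀ : Scheme.{u}} (f : X ⟶ S) [Smooth f]
    (i : T₀ ⟶ T) (hi : MoreMor.IsThickening i)
    (a : T ⟶ S) (a₀ : T₀ ⟶ X) (hsqr : a₀ ≫ f = i ≫ a) (t : T) :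
    ∃ (U : T.Opens) (b : (U : Scheme.{u}) ⟶ X), t ∈ U ∧ b ≫ f = U.ι ≫ a ∧
      (i ∣_ U) ≫ b = (i ⁻¹ᵁ U).ι ≫ a₀ := by
  haveI : IsClosedImmersion i := hi.1
  have hhomeo : IsHomeomorph i.base := isHomeomorph_of_isThickening hi
  obtain ⟨t₀, rfl⟩ := hhomeo.surjective t
  obtain ⟨V, W, hV, hW, hxV, -, hVW⟩ := exists_small_affine f (a₀.base t₀) ⊤ trivial
  let O : T.Opens := ⟨i.base '' (a₀ ⁻¹ᵁ V : Set _), hhomeo.isOpenMap _ (a₀ ⁻¹ᵁ V).2⟩ ⊓ a ⁻¹ᵁ W
  have htO : i.base t₀ ∈ O := by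
    refine ⟨⟨t₀, hxV, rfl⟩, ?_⟩
    change a.base (i.base t₀) ∈ W
    have h1 := congrArg (fun g => g.base t₀) hsqr
    simp only [Scheme.Hom.comp_base, TopCat.hom_comp, ContinuousMap.comp_apply] at h1
    rw [← h1]
    exact hVW hxV
  obtain ⟨_, ⟨D : T.Opens, hD0, rfl⟩, htD, hDO⟩ :=
    T.isBasis_affineOpens.exists_subset_of_mem_open htO O.isOpen
  have hD : IsAffineOpen D := hD0
  have hD₀ : IsAffineOpen (i ⁻¹ᵁ D) := hD.preimage i
  have eDW : D ≤ a ⁻¹ᵁ W := fun y hy => (hDO hy).2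
  have eD₀V : i ⁻¹ᵁ D ≤ a₀ ⁻¹ᵁ V := by
    intro z hz
    obtain ⟨z', hz', hzz'⟩ := (hDO hz).1
    rw [← hhomeo.injective hzz']
    exact hz'
  -- the ring-level square
  have hφ : (f.appLE W V hVW).hom.Smooth := f.smooth_appLE hW hV hVW
  have hρs : Function.Surjective (i.appLE D (i ⁻¹ᵁ D) le_rfl).hom := by
    rw [appLE_refl]
    exact i.app_surjective D hD
  have hρk : RingHom.ker (i.appLE D (i ⁻¹ᵁ D) le_rfl).hom ≤ nilradical Γ(T, D) := by
    rw [appLE_refl]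
    intro x hx
    have hx0 : (i.app D).hom x = 0 := RingHom.mem_ker.1 hx
    rw [mem_nilradical, Scheme.isNilpotent_iff_basicOpen_eq_bot_of_isCompact hD.isCompact, eq_bot_iff]
    have h1 : i ⁻¹ᵁ T.basicOpen x = ⊥ := by
      rw [Scheme.preimage_basicOpen]
      have h0 : (i.app D) x = 0 := hx0
      rw [h0, Scheme.basicOpen_zero]
    intro z hz
    obtain ⟨z₀, rfl⟩ := hhomeo.surjective z
    have hz₀ : z₀ ∈ i ⁻¹ᵁ T.basicOpen x := hz
    rw [h1] at hz₀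
    exact (TopologicalSpace.Opens.mem_bot.1 hz₀).elim
  have eD₀W : i ⁻¹ᵁ D ≤ (a₀ ≫ f) ⁻¹ᵁ W := fun z hz => hVW (eD₀V hz)
  have eD₀W' : i ⁻¹ᵁ D ≤ (i ≫ a) ⁻¹ᵁ W := fun z hz => eDW hz
  have hc : (a₀.appLE V (i ⁻¹ᵁ D) eD₀V).hom.comp (f.appLE W V hVW).hom =
      (i.appLE D (i ⁻¹ᵁ D) le_rfl).hom.comp (a.appLE W D eDW).hom := by
    rw [← CommRingCat.hom_comp, ← CommRingCat.hom_comp,
      Scheme.Hom.appLE_comp_appLE, Scheme.Hom.appLE_comp_appLE]
    exact congrArg _ (appLE_congr' hsqr W (i ⁻¹ᵁ D) eD₀W eD₀W')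
  obtain ⟨τ, hτ₁, hτ₂⟩ := ring_lift_of_smooth _ hφ (a.appLE W D eDW).hom
    (a₀.appLE V (i ⁻¹ᵁ D) eD₀V).hom _ hρs hρk hc
  have hτ₁' : f.appLE W V hVW ≫ CommRingCat.ofHom τ = a.appLE W D eDW := by
    ext x
    exact congrArg (fun h => h x) hτ₁
  have hτ₂' : CommRingCat.ofHom τ ≫ i.appLE D (i ⁻¹ᵁ D) le_rfl = a₀.appLE V (i ⁻¹ᵁ D) eD₀V := by
    ext x
    exact congrArg (fun h => h x) hτ₂
  refine ⟨D, hD.isoSpec.hom ≫ Spec.map (CommRingCat.ofHom τ) ≫ hV.fromSpec, htD, ?_, ?_⟩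
  · rw [Category.assoc, Category.assoc, ← IsAffineOpen.SpecMap_appLE_fromSpec f hW hV hVW,
      ← Spec.map_comp_assoc, hτ₁', IsAffineOpen.SpecMap_appLE_fromSpec a hW hD eDW,
      IsAffineOpen.isoSpec_hom_fromSpec_assoc]
  · have h1 : (i ∣_ D) ≫ hD.isoSpec.hom =
        hD₀.isoSpec.hom ≫ Spec.map (i.appLE D (i ⁻¹ᵁ D) le_rfl) := by
      rw [← cancel_mono hD.fromSpec, Category.assoc, Category.assoc,
        IsAffineOpen.isoSpec_hom_fromSpec, morphismRestrict_ι,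
        IsAffineOpen.SpecMap_appLE_fromSpec i hD hD₀ le_rfl,
        IsAffineOpen.isoSpec_hom_fromSpec_assoc]
    rw [← Category.assoc, h1, Category.assoc, ← Spec.map_comp_assoc, hτ₂',
      IsAffineOpen.SpecMap_appLE_fromSpec a₀ hV hD₀ eD₀V, IsAffineOpen.isoSpec_hom_fromSpec_assoc]

set_option maxHeartbeats 1600000 in
/-- S10615. -/
theorem main10615 {S : Scheme.{u}} {X Y T T' : AlgSp.Space S} (f : X ⟶ Y)
    (hf : AlgSp.LocP @Smooth f.hom) (i : T ⟶ T')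
    (hi : AlgSp.IsThickMor i.hom)
    (a : T ⟶ X) (b : T' ⟶ Y) (w : a ≫ f = i ≫ b) (t' : AlgSp.Points T'.obj) :
    ∃ (V : Over S) (e : (AlgSp.yon S).obj V ⟶ T'.obj) (ℓ : (AlgSp.yon S).obj V ⟶ X.obj),
      AlgSp.RepWith @Etale e ∧ t' ∈ Set.range (AlgSp.Points.ofPt e) ∧ ℓ ≫ f.hom = e ≫ b.hom ∧
      ∀ (P : AlgSp.Sp S) (p₁ : P ⟶ T.obj) (p₂ : P ⟶ (AlgSp.yon S).obj V),
        IsPullback p₁ p₂ i.hom e → p₂ ≫ ℓ = p₁ ≫ a.hom := by
  have wh : a.hom ≫ f.hom = i.hom ≫ b.hom := congrArg (fun t => t.hom) w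
  -- atlases
  obtain ⟨T0, p, hpe, hps⟩ := T'.property.atlas
  obtain ⟨Y0, y, hye, hys⟩ := Y.property.atlas
  obtain ⟨X0, x, hxe, hxs⟩ := X.property.atlas
  -- `W' = T0 ×_Y Y0`
  obtain ⟨W', r', s0', sqW'⟩ := hye.rep (p ≫ b.hom)
  obtain ⟨s0, rfl⟩ := (yon S).map_surjective s0'
  have hr'e : Etale r'.left := hye.property (p ≫ b.hom) _ r' sqW'
  have hr's : Surjective r'.left := hys.property (p ≫ b.hom) _ r' sqW'
  obtain ⟨e', he'def⟩ : ∃ e' : (yon S).obj W' ⟶ T'.obj, e' = (yon S).map r' ≫ p := ⟨_, rfl⟩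
  -- `W = T ×_{T'} W'`
  obtain ⟨W, j, g, sqW⟩ := hi.rep e'
  have hjth0 : thick j.left := hi.property e' g j sqW
  have hjth : MoreMor.IsThickening j.left := (thick_iff _).1 hjth0
  have hjT : IsThickMor ((yon S).map j) := (isThickMor_yon_map_iff j).2 hjth
  -- `X1 = X0 ×_Y Y0`
  obtain ⟨X1, c, h', sqX1⟩ := hye.rep (x ≫ f.hom)
  obtain ⟨h, rfl⟩ := (yon S).map_surjective h'
  have hce : Etale c.left := hye.property (x ≫ f.hom) _ c sqX1
  have hcx : RepWith @Etale ((yon S).map c ≫ x) :=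
    (RepWith @Etale).comp_mem _ _ ((repWith_yon_map_iff _ _).2 hce) hxe
  have hsm : Smooth h.left := hf ((yon S).map c ≫ x) y h hcx hye
    ((Category.assoc _ _ _).trans sqX1.w.symm)
  -- `W1 = W ×_X X0`
  obtain ⟨W1, s, m', sqW1⟩ := hxe.rep (g ≫ a.hom)
  obtain ⟨m, rfl⟩ := (yon S).map_surjective m'
  have hse : Etale s.left := hxe.property (g ≫ a.hom) _ s sqW1
  have hss : Surjective s.left := hxs.property (g ≫ a.hom) _ s sqW1
  have hcompat : (yon S).map (s ≫ j ≫ s0) ≫ y = (yon S).map m ≫ x ≫ f.hom :=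
    calc (yon S).map (s ≫ j ≫ s0) ≫ y
        = ((yon S).map s ≫ (yon S).map j ≫ (yon S).map s0) ≫ y := by
          rw [(yon S).map_comp, (yon S).map_comp]
      _ = (yon S).map s ≫ (yon S).map j ≫ ((yon S).map s0 ≫ y) := by simp only [Category.assoc]
      _ = (yon S).map s ≫ (yon S).map j ≫ ((yon S).map r' ≫ p ≫ b.hom) := by rw [sqW'.w]
      _ = (yon S).map s ≫ ((yon S).map j ≫ e') ≫ b.hom := by
          rw [he'def]; simp only [Category.assoc]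
      _ = (yon S).map s ≫ (g ≫ i.hom) ≫ b.hom := by rw [sqW.w]
      _ = (yon S).map s ≫ g ≫ (a.hom ≫ f.hom) := by rw [wh]; simp only [Category.assoc]
      _ = ((yon S).map s ≫ g ≫ a.hom) ≫ f.hom := by simp only [Category.assoc]
      _ = ((yon S).map m ≫ x) ≫ f.hom := by rw [sqW1.w]
      _ = (yon S).map m ≫ x ≫ f.hom := Category.assoc _ _ _
  obtain ⟨a1, ha1⟩ := (yon S).map_surjective
    (sqX1.lift ((yon S).map (s ≫ j ≫ s0)) ((yon S).map m) hcompat)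
  have ha1h : a1 ≫ h = s ≫ j ≫ s0 := by
    apply (yon S).map_injective
    rw [(yon S).map_comp, ha1]
    exact sqX1.lift_fst _ _ _
  have ha1c : (yon S).map a1 ≫ (yon S).map c = (yon S).map m := by
    rw [ha1]
    exact sqX1.lift_snd _ _ _
  -- the etale lift `W1'` of `W1` over `W'`
  obtain ⟨W1', q, k, hq, -, sqL⟩ := exists_etale_lift_over j hjT s hse
  haveI : Etale q.left := hq
  have hkq : k ≫ q = s ≫ j := (yon S).map_injective
    (((yon S).map_comp k q).trans (sqL.w.trans ((yon S).map_comp s j).symm))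
  have hkT : IsThickMor ((yon S).map k) := (RepWith thick).of_isPullback sqL.flip hjT
  have hkth : MoreMor.IsThickening k.left := (isThickMor_yon_map_iff k).1 hkT
  -- points
  obtain ⟨t0, ht0⟩ := ofPt_surjective_of_surjective p hps t'
  obtain ⟨w', hw'⟩ := hr's.surj t0
  obtain ⟨w0, hw0⟩ := hjth.2.surj w'
  obtain ⟨w1, hw1⟩ := hss.surj w0
  -- the scheme-level lift
  haveI : Smooth h.left := hsm
  have hover : a1 ≫ h = k ≫ (q ≫ s0) :=
    calc a1 ≫ h = s ≫ j ≫ s0 := ha1h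
      _ = (s ≫ j) ≫ s0 := (Category.assoc _ _ _).symm
      _ = (k ≫ q) ≫ s0 := by rw [hkq]
      _ = k ≫ (q ≫ s0) := Category.assoc _ _ _
  have hsqr : a1.left ≫ h.left = k.left ≫ (q ≫ s0).left :=
    congrArg (fun φ : W1 ⟶ Y0 => φ.left) hover
  obtain ⟨U, ℓ0, hw1U, hℓ1, hℓ2⟩ :=
    exists_local_lift h.left k.left hkth (q ≫ s0).left a1.left hsqr (k.left w1)
  let V : Over S := Over.mk (U.ι ≫ W1'.hom)
  let ιV : V ⟶ W1' := Over.homMk U.ι rfl
  have hℓV : ℓ0 ≫ X1.hom = U.ι ≫ W1'.hom :=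
    calc ℓ0 ≫ X1.hom = ℓ0 ≫ (h.left ≫ Y0.hom) := by rw [Over.w h]
      _ = (ℓ0 ≫ h.left) ≫ Y0.hom := (Category.assoc _ _ _).symm
      _ = (U.ι ≫ (q ≫ s0).left) ≫ Y0.hom := by rw [hℓ1]
      _ = U.ι ≫ ((q ≫ s0).left ≫ Y0.hom) := Category.assoc _ _ _
      _ = U.ι ≫ W1'.hom := by rw [Over.w (q ≫ s0)]
  let ℓV : V ⟶ X1 := Over.homMk ℓ0 hℓV
  let V0 : Over S := Over.mk ((k.left ⁻¹ᵁ U).ι ≫ W1.hom)
  let ιV0 : V0 ⟶ W1 := Over.homMk (k.left ⁻¹ᵁ U).ι rfl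
  have hkV : (k.left ∣_ U) ≫ (U.ι ≫ W1'.hom) = (k.left ⁻¹ᵁ U).ι ≫ W1.hom :=
    calc (k.left ∣_ U) ≫ (U.ι ≫ W1'.hom) = ((k.left ∣_ U) ≫ U.ι) ≫ W1'.hom :=
          (Category.assoc _ _ _).symm
      _ = ((k.left ⁻¹ᵁ U).ι ≫ k.left) ≫ W1'.hom := by rw [morphismRestrict_ι]
      _ = (k.left ⁻¹ᵁ U).ι ≫ (k.left ≫ W1'.hom) := Category.assoc _ _ _
      _ = (k.left ⁻¹ᵁ U).ι ≫ W1.hom := by rw [Over.w k]
  let kV : V0 ⟶ V := Over.homMk (k.left ∣_ U) hkV
  have hℓVh : ℓV ≫ h = ιV ≫ q ≫ s0 := by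
    apply Over.OverMorphism.ext
    exact hℓ1
  have hkVℓ : kV ≫ ℓV = ιV0 ≫ a1 := by
    apply Over.OverMorphism.ext
    exact hℓ2
  have hkVι : kV ≫ ιV = ιV0 ≫ k := by
    apply Over.OverMorphism.ext
    exact morphismRestrict_ι k.left U
  obtain ⟨e, hedef⟩ : ∃ e : (yon S).obj V ⟶ T'.obj,
      e = (yon S).map ιV ≫ (yon S).map q ≫ e' := ⟨_, rfl⟩
  obtain ⟨ℓ, hℓdef⟩ : ∃ ℓ : (yon S).obj V ⟶ X.obj,
      ℓ = (yon S).map ℓV ≫ (yon S).map c ≫ x := ⟨_, rfl⟩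
  refine ⟨V, e, ℓ, ?_, ?_, ?_, ?_⟩
  · rw [hedef, he'def]
    have hιe : Etale ιV.left := (inferInstance : Etale U.ι)
    exact (RepWith @Etale).comp_mem _ _ ((repWith_yon_map_iff _ _).2 hιe)
      ((RepWith @Etale).comp_mem _ _ ((repWith_yon_map_iff _ _).2 hq)
        ((RepWith @Etale).comp_mem _ _ ((repWith_yon_map_iff _ _).2 hr'e) hpe))
  · refine ⟨(⟨k.left w1, hw1U⟩ : U), ?_⟩
    have h2 : q.left (k.left w1) = j.left (s.left w1) :=
      (Scheme.Hom.comp_apply k.left q.left w1).symm.trans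
        ((congrArg (fun φ : W1.left ⟶ W'.left => φ w1)
          (congrArg (fun φ : W1 ⟶ W' => φ.left) hkq)).trans
          (Scheme.Hom.comp_apply s.left j.left w1))
    have hq1 : q.left (k.left w1) = w' := by
      rw [h2, hw1, hw0]
    rw [hedef, he'def, ofPt_yon_map_comp, ofPt_yon_map_comp, ofPt_yon_map_comp]
    show Points.ofPt p (r'.left (q.left (k.left w1))) = t'
    rw [hq1, hw', ht0]
  · rw [hℓdef, hedef]
    calc ((yon S).map ℓV ≫ (yon S).map c ≫ x) ≫ f.hom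
        = (yon S).map ℓV ≫ ((yon S).map c ≫ x ≫ f.hom) := by simp only [Category.assoc]
      _ = (yon S).map ℓV ≫ ((yon S).map h ≫ y) := by rw [sqX1.w]
      _ = ((yon S).map ℓV ≫ (yon S).map h) ≫ y := (Category.assoc _ _ _).symm
      _ = (yon S).map (ℓV ≫ h) ≫ y := by rw [(yon S).map_comp]
      _ = (yon S).map (ιV ≫ q ≫ s0) ≫ y := by rw [hℓVh]
      _ = ((yon S).map ιV ≫ (yon S).map q ≫ (yon S).map s0) ≫ y := by
          rw [(yon S).map_comp, (yon S).map_comp]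
      _ = (yon S).map ιV ≫ (yon S).map q ≫ ((yon S).map s0 ≫ y) := by
          simp only [Category.assoc]
      _ = (yon S).map ιV ≫ (yon S).map q ≫ ((yon S).map r' ≫ p ≫ b.hom) := by rw [sqW'.w]
      _ = ((yon S).map ιV ≫ (yon S).map q ≫ e') ≫ b.hom := by
          rw [he'def]; simp only [Category.assoc]
  · intro P p₁ p₂ hP
    have sqSch : IsPullback (k.left ∣_ U) (k.left ⁻¹ᵁ U).ι U.ι k.left :=
      isPullback_morphismRestrict k.left U
    have sqV : IsPullback kV ιV0 ιV k := IsPullback.of_map (Over.forget S) hkVι sqSch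
    have sqV' : IsPullback ((yon S).map ιV0) ((yon S).map kV) ((yon S).map k) ((yon S).map ιV) :=
      (sqV.map (yon S)).flip
    have ref : IsPullback ((yon S).map ιV0 ≫ (yon S).map s ≫ g) ((yon S).map kV) i.hom
        ((yon S).map ιV ≫ (yon S).map q ≫ e') := sqV'.paste_horiz (sqL.flip.paste_horiz sqW)
    rw [hedef] at hP
    obtain ⟨θ, hθ⟩ : ∃ θ : P ⟶ (yon S).obj V0, θ = ref.lift p₁ p₂ hP.w := ⟨_, rfl⟩
    have hθ1 : θ ≫ ((yon S).map ιV0 ≫ (yon S).map s ≫ g) = p₁ := by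
      rw [hθ]
      exact ref.lift_fst _ _ _
    have hθ2 : θ ≫ (yon S).map kV = p₂ := by
      rw [hθ]
      exact ref.lift_snd _ _ _
    have key : (yon S).map kV ≫ ℓ = ((yon S).map ιV0 ≫ (yon S).map s ≫ g) ≫ a.hom := by
      rw [hℓdef]
      calc (yon S).map kV ≫ (yon S).map ℓV ≫ (yon S).map c ≫ x
          = ((yon S).map kV ≫ (yon S).map ℓV) ≫ (yon S).map c ≫ x :=
            (Category.assoc _ _ _).symm
        _ = (yon S).map (kV ≫ ℓV) ≫ (yon S).map c ≫ x := by rw [(yon S).map_comp]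
        _ = (yon S).map (ιV0 ≫ a1) ≫ (yon S).map c ≫ x := by rw [hkVℓ]
        _ = ((yon S).map ιV0 ≫ (yon S).map a1) ≫ (yon S).map c ≫ x := by
            rw [(yon S).map_comp]
        _ = (yon S).map ιV0 ≫ ((yon S).map a1 ≫ (yon S).map c) ≫ x := by
            simp only [Category.assoc]
        _ = (yon S).map ιV0 ≫ (yon S).map m ≫ x := by rw [ha1c]
        _ = (yon S).map ιV0 ≫ ((yon S).map s ≫ g ≫ a.hom) := by rw [sqW1.w]
        _ = ((yon S).map ιV0 ≫ (yon S).map s ≫ g) ≫ a.hom := by simp only [Category.assoc]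
    calc p₂ ≫ ℓ = (θ ≫ (yon S).map kV) ≫ ℓ := by rw [hθ2]
      _ = θ ≫ ((yon S).map kV ≫ ℓ) := Category.assoc _ _ _
      _ = θ ≫ (((yon S).map ιV0 ≫ (yon S).map s ≫ g) ≫ a.hom) := by rw [key]
      _ = (θ ≫ ((yon S).map ιV0 ≫ (yon S).map s ≫ g)) ≫ a.hom := (Category.assoc _ _ _).symm
      _ = p₁ ≫ a.hom := by rw [hθ1]

end Groth.Agent.Lib.Helper6.SmoothLift
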