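import Groth.Agent.Lib.Helper6.SmoothLift

/-!
# Helper library (helper6): etale local lifts for `b` when `a ≫ b` is formally smooth and `a` is an etale cover (S12195)
-/

set_option autoImplicit false
universe u
open CategoryTheory CategoryTheory.Limits AlgebraicGeometry Opposite

namespace Groth.Agent.Lib.Helper6.SmoothLiftB

open AlgSp Groth.Agent.Lib.Helper16 Groth.Agent.Lib.Helper16.Formal Groth.Agent.Lib.Helper6.FOLocalize
  Groth.Agent.Lib.Helper6.FOBase

variable {S : Scheme.{u}}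

/-- The closed immersion of an infinitesimal lifting square is a first order thickening. -/
theorem isFOThickMor_j {F G : Sp S} {f : F ⟶ G} (sq : InfSq f) : IsFOThickMor ((yon S).map sq.j) := by
  have hT' : IsAffine sq.ptT'.left := by
    show IsAffine (Spec (CommRingCat.of sq.A))
    infer_instance
  haveI := hT'
  have hjcl : IsClosedImmersion sq.j.left := by
    show IsClosedImmersion (Spec.map (CommRingCat.ofHom (Ideal.Quotient.mk sq.I)))
    exact IsClosedImmersion.spec_of_surjective _ Ideal.Quotient.mk_surjective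
  haveI := hjcl
  have hN2 : RingHom.ker sq.j.left.appTop.hom * RingHom.ker sq.j.left.appTop.hom = ⊥ := by
    show RingHom.ker (Spec.map (CommRingCat.ofHom (Ideal.Quotient.mk sq.I))).appTop.hom *
      RingHom.ker (Spec.map (CommRingCat.ofHom (Ideal.Quotient.mk sq.I))).appTop.hom = ⊥
    apply ker_appTop_SpecMap_mul
    have hk : RingHom.ker (CommRingCat.ofHom (Ideal.Quotient.mk sq.I)).hom = sq.I := Ideal.mk_ker
    rw [hk, sq.sq_zero]
  exact isFOThickMor_yon_map_of_sqZero sq.j hT' hjcl ((sqZero_iff_of_isAffine sq.j.left).2 hN2)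

set_option maxHeartbeats 1600000 in
/-- S12195. -/
theorem main12195 {S : Scheme.{u}} {F G H : AlgSp.Sp S} (a : F ⟶ G)
    (b : G ⟶ H) (ha : AlgSp.RepWith @Etale a) (ha' : AlgSp.RepWith @Surjective a)
    (hab : AlgSp.IsFormallySmoothMor (a ≫ b)) (sq : AlgSp.InfSq b) (t : ↥sq.ptT'.left) :
    ∃ (U' : Over S) (g : U' ⟶ sq.ptT') (l : (AlgSp.yon S).obj U' ⟶ G),
      IsAffine U'.left ∧ Etale g.left ∧ (∃ u : ↥U'.left, g.left u = t) ∧
        l ≫ b = (AlgSp.yon S).map g ≫ sq.bot ∧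
          ∀ (V : Over S) (p : V ⟶ sq.ptT) (q : V ⟶ U'), p ≫ sq.j = q ≫ g →
            (AlgSp.yon S).map q ≫ l = (AlgSp.yon S).map p ≫ sq.top := by
  have hjFO : IsFOThickMor ((yon S).map sq.j) := isFOThickMor_j sq
  have hjth : MoreMor.IsThickening sq.j.left := (isThickMor_yon_map_iff sq.j).1 hjFO.1
  have hsqc : sq.top ≫ b = (yon S).map sq.j ≫ sq.bot := sq.comm
  -- the chart `W₀ = T ×_G F`
  obtain ⟨W₀, r, c, sqW₀⟩ := ha.rep sq.top
  have hre : Etale r.left := ha.property sq.top c r sqW₀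
  have hrs : Surjective r.left := ha'.property sq.top c r sqW₀
  -- points
  obtain ⟨t₀, ht₀⟩ := hjth.2.surj t
  obtain ⟨w₀, hw₀⟩ := hrs.surj t₀
  -- the etale lift
  obtain ⟨U₁, q, k, hq, -, sqL⟩ := exists_etale_lift_over sq.j hjFO.1 r hre
  haveI : Etale q.left := hq
  have hkq : k ≫ q = r ≫ sq.j := (yon S).map_injective
    (((yon S).map_comp k q).trans (sqL.w.trans ((yon S).map_comp r sq.j).symm))
  -- an affine open neighbourhood
  obtain ⟨_, ⟨D : U₁.left.Opens, hD, rfl⟩, hkD, -⟩ :=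
    U₁.left.isBasis_affineOpens.exists_subset_of_mem_open (Set.mem_univ (k.left w₀)) isOpen_univ
  have hDaff : IsAffineOpen D := hD
  let U' : Over S := Over.mk (D.ι ≫ U₁.hom)
  let ιD : U' ⟶ U₁ := Over.homMk D.ι rfl
  let W2 : Over S := Over.mk ((k.left ⁻¹ᵁ D).ι ≫ W₀.hom)
  let ιW : W2 ⟶ W₀ := Over.homMk (k.left ⁻¹ᵁ D).ι rfl
  have hkV : (k.left ∣_ D) ≫ (D.ι ≫ U₁.hom) = (k.left ⁻¹ᵁ D).ι ≫ W₀.hom :=
    calc (k.left ∣_ D) ≫ (D.ι ≫ U₁.hom) = ((k.left ∣_ D) ≫ D.ι) ≫ U₁.hom :=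
          (Category.assoc _ _ _).symm
      _ = ((k.left ⁻¹ᵁ D).ι ≫ k.left) ≫ U₁.hom := by rw [morphismRestrict_ι]
      _ = (k.left ⁻¹ᵁ D).ι ≫ (k.left ≫ U₁.hom) := Category.assoc _ _ _
      _ = (k.left ⁻¹ᵁ D).ι ≫ W₀.hom := by rw [Over.w k]
  let kD : W2 ⟶ U' := Over.homMk (k.left ∣_ D) hkV
  have hkDι : kD ≫ ιD = ιW ≫ k := by
    apply Over.OverMorphism.ext
    exact morphismRestrict_ι k.left D
  have sqSch : IsPullback (k.left ∣_ D) (k.left ⁻¹ᵁ D).ι D.ι k.left :=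
    isPullback_morphismRestrict k.left D
  have sqV : IsPullback kD ιW ιD k := IsPullback.of_map (Over.forget S) hkDι sqSch
  have sqV' : IsPullback ((yon S).map ιW) ((yon S).map kD) ((yon S).map k) ((yon S).map ιD) :=
    (sqV.map (yon S)).flip
  have ref : IsPullback ((yon S).map ιW ≫ (yon S).map r) ((yon S).map kD) ((yon S).map sq.j)
      ((yon S).map ιD ≫ (yon S).map q) := sqV'.paste_horiz sqL.flip
  have hU'aff : IsAffine U'.left := hDaff
  have hιDe : Etale ιD.left := (inferInstance : Etale D.ι)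
  have hbe : RepWith @Etale ((yon S).map ιD ≫ (yon S).map q) :=
    (RepWith @Etale).comp_mem _ _ ((repWith_yon_map_iff _ _).2 hιDe)
      ((repWith_yon_map_iff _ _).2 hq)
  have hsz : sqZero kD.left := hjFO.2 ((yon S).map ιD ≫ (yon S).map q)
    ((yon S).map ιW ≫ (yon S).map r) kD hU'aff hbe ref
  have hkDth : thick kD.left := hjFO.1.property ((yon S).map ιD ≫ (yon S).map q)
    ((yon S).map ιW ≫ (yon S).map r) kD ref
  haveI : IsClosedImmersion kD.left := hkDth.1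
  haveI : IsAffine U'.left := hU'aff
  have hcomm : ((yon S).map ιW ≫ c) ≫ (a ≫ b) =
      (yon S).map kD ≫ (((yon S).map ιD ≫ (yon S).map q) ≫ sq.bot) :=
    calc ((yon S).map ιW ≫ c) ≫ (a ≫ b) = (yon S).map ιW ≫ (c ≫ a) ≫ b := by
          simp only [Category.assoc]
      _ = (yon S).map ιW ≫ ((yon S).map r ≫ sq.top) ≫ b := by rw [sqW₀.w]
      _ = ((yon S).map ιW ≫ (yon S).map r) ≫ (sq.top ≫ b) := by simp only [Category.assoc]
      _ = ((yon S).map ιW ≫ (yon S).map r) ≫ ((yon S).map sq.j ≫ sq.bot) := by rw [hsqc]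
      _ = (((yon S).map ιW ≫ (yon S).map r) ≫ (yon S).map sq.j) ≫ sq.bot :=
          (Category.assoc _ _ _).symm
      _ = ((yon S).map kD ≫ ((yon S).map ιD ≫ (yon S).map q)) ≫ sq.bot := by rw [ref.w]
      _ = (yon S).map kD ≫ (((yon S).map ιD ≫ (yon S).map q) ≫ sq.bot) := Category.assoc _ _ _
  obtain ⟨L, hL1, hL2⟩ := exists_lift_of_affine_thickening (a ≫ b) hab kD hsz
    ((yon S).map ιW ≫ c) (((yon S).map ιD ≫ (yon S).map q) ≫ sq.bot) hcomm
  have h2 : q.left (k.left w₀) = sq.j.left (r.left w₀) :=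
    (Scheme.Hom.comp_apply k.left q.left w₀).symm.trans
      ((congrArg (fun φ : W₀.left ⟶ sq.ptT'.left => φ w₀)
        (congrArg (fun φ : W₀ ⟶ sq.ptT' => φ.left) hkq)).trans
        (Scheme.Hom.comp_apply r.left sq.j.left w₀))
  refine ⟨U', ιD ≫ q, L ≫ a, hU'aff, ?_, ⟨(⟨k.left w₀, hkD⟩ : D), ?_⟩, ?_, ?_⟩
  · show Etale (D.ι ≫ q.left)
    infer_instance
  · have h1 : (ιD ≫ q).left (⟨k.left w₀, hkD⟩ : D) = q.left (k.left w₀) :=
      Scheme.Hom.comp_apply D.ι q.left _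
    exact h1.trans (h2.trans ((congrArg (fun z => sq.j.left z) hw₀).trans ht₀))
  · rw [Category.assoc, hL2, (yon S).map_comp]
  · intro V p q' hpq
    have hw : (yon S).map p ≫ (yon S).map sq.j =
        (yon S).map q' ≫ ((yon S).map ιD ≫ (yon S).map q) :=
      calc (yon S).map p ≫ (yon S).map sq.j = (yon S).map (p ≫ sq.j) :=
            ((yon S).map_comp _ _).symm
        _ = (yon S).map (q' ≫ (ιD ≫ q)) := by rw [hpq]
        _ = (yon S).map q' ≫ (yon S).map (ιD ≫ q) := (yon S).map_comp _ _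
        _ = (yon S).map q' ≫ ((yon S).map ιD ≫ (yon S).map q) := by
            rw [(yon S).map_comp ιD q]
    obtain ⟨θ, hθ⟩ : ∃ θ : (yon S).obj V ⟶ (yon S).obj W2,
        θ = ref.lift ((yon S).map p) ((yon S).map q') hw := ⟨_, rfl⟩
    have hθ1 : θ ≫ ((yon S).map ιW ≫ (yon S).map r) = (yon S).map p := by
      rw [hθ]
      exact ref.lift_fst _ _ _
    have hθ2 : θ ≫ (yon S).map kD = (yon S).map q' := by
      rw [hθ]
      exact ref.lift_snd _ _ _
    calc (yon S).map q' ≫ L ≫ a = (θ ≫ (yon S).map kD) ≫ L ≫ a := by rw [hθ2]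
      _ = θ ≫ ((yon S).map kD ≫ L) ≫ a := by simp only [Category.assoc]
      _ = θ ≫ ((yon S).map ιW ≫ c) ≫ a := by rw [hL1]
      _ = θ ≫ (yon S).map ιW ≫ (c ≫ a) := by simp only [Category.assoc]
      _ = θ ≫ (yon S).map ιW ≫ ((yon S).map r ≫ sq.top) := by rw [sqW₀.w]
      _ = (θ ≫ ((yon S).map ιW ≫ (yon S).map r)) ≫ sq.top := by simp only [Category.assoc]
      _ = (yon S).map p ≫ sq.top := by rw [hθ1]

end Groth.Agent.Lib.Helper6.SmoothLiftB
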