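import Mathlib
import Groth.Agent.Lib.Helper6.LeftInvLocal

/-!
Helper6: openness of the formally smooth locus of an algebra `C` over `A` presented by an extension
`E` whose ring is formally smooth over `A` and whose conormal module is finite.
-/

set_option autoImplicit false

namespace Groth.Agent.Lib.Helper6.SmoothLocusExt

universe u

open TensorProduct

section modules

variable {C : Type u} [CommRing C] {M N Q : Type u} [AddCommGroup M] [Module C M]
  [AddCommGroup N] [Module C N] [AddCommGroup Q] [Module C Q]

/-- if `W ∘ u = f • id` then the cokernel projection `π` has a section up to `f`. -/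
theorem exists_section_smul (u : M →ₗ[C] N) (π : N →ₗ[C] Q) (hex : Function.Exact u π)
    (hπ : Function.Surjective π) (W : N →ₗ[C] M) (f : C) (hW : W ∘ₗ u = f • LinearMap.id) :
    ∃ σ : Q →ₗ[C] N, π ∘ₗ σ = f • LinearMap.id := by
  let P : N →ₗ[C] N := f • LinearMap.id - u ∘ₗ W
  have hP : LinearMap.ker π ≤ LinearMap.ker P := by
    intro n hn
    obtain ⟨m, rfl⟩ := (hex n).mp (LinearMap.mem_ker.mp hn)
    have h1 := LinearMap.congr_fun hW m
    simp only [LinearMap.coe_comp, Function.comp_apply, LinearMap.smul_apply, LinearMap.id_coe,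
      id_eq] at h1
    simp only [LinearMap.mem_ker, P, LinearMap.sub_apply, LinearMap.smul_apply, LinearMap.id_coe,
      id_eq, LinearMap.coe_comp, Function.comp_apply, h1, map_smul, sub_self]
  refine ⟨(LinearMap.ker π).liftQ P hP ∘ₗ (π.quotKerEquivOfSurjective hπ).symm.toLinearMap, ?_⟩
  ext q
  obtain ⟨n, rfl⟩ := hπ q
  have h1 : (π.quotKerEquivOfSurjective hπ).symm (π n) = Submodule.Quotient.mk n := by
    rw [LinearEquiv.symm_apply_eq]; rfl
  simp only [LinearMap.coe_comp, LinearEquiv.coe_coe, Function.comp_apply, h1,
    Submodule.liftQ_apply, LinearMap.smul_apply, LinearMap.id_coe, id_eq]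
  simp only [P, LinearMap.sub_apply, LinearMap.smul_apply, LinearMap.id_coe, id_eq,
    LinearMap.coe_comp, Function.comp_apply, map_sub, map_smul]
  rw [hex.apply_apply_eq_zero, sub_zero]

/-- a module with a section up to a unit of a surjection from a projective module has projective
localization. -/
theorem projective_of_section_smul (S : Submonoid C) (C' : Type u) [CommRing C'] [Algebra C C']
    [IsLocalization S C'] {Q' : Type u} [AddCommGroup Q'] [Module C Q'] [Module C' Q']
    [IsScalarTower C C' Q'] (ι : Q →ₗ[C] Q') [IsLocalizedModule S ι] [Module.Projective C N]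
    (π : N →ₗ[C] Q) (σ : Q →ₗ[C] N) (f : C) (hf : f ∈ S) (hσ : π ∘ₗ σ = f • LinearMap.id) :
    Module.Projective C' Q' := by
  have hb : IsBaseChange C' ι := IsLocalizedModule.isBaseChange S C' ι
  obtain ⟨v, hv⟩ := (IsLocalization.map_units C' (⟨f, hf⟩ : S)).exists_left_inv
  let p : C' ⊗[C] N →ₗ[C'] Q' := LinearMap.liftBaseChange C' (ι ∘ₗ π)
  let i₁ : Q' →ₗ[C'] C' ⊗[C] N := hb.lift ((TensorProduct.mk C C' N 1) ∘ₗ σ)
  refine Module.Projective.of_split (v • i₁) p ?_
  refine hb.algHom_ext _ _ fun q => ?_
  have h1 : i₁ (ι q) = (1 : C') ⊗ₜ[C] σ q := hb.lift_eq _ q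
  have h2 := LinearMap.congr_fun hσ q
  simp only [LinearMap.coe_comp, Function.comp_apply, LinearMap.smul_apply, LinearMap.id_coe,
    id_eq] at h2
  simp only [LinearMap.coe_comp, Function.comp_apply, LinearMap.smul_apply, LinearMap.id_coe,
    id_eq, h1, map_smul, p, LinearMap.liftBaseChange_tmul, one_smul, h2]
  rw [← algebraMap_smul C' f (ι q), smul_smul]
  have hv' : v * algebraMap C C' f = 1 := hv
  rw [hv', one_smul]

/-- a localized module killed by an element of the submonoid vanishes. -/
theorem subsingleton_of_smul_eq_zero (S : Submonoid C) {K K' : Type*} [AddCommGroup K]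
    [Module C K] [AddCommGroup K'] [Module C K'] (ι : K →ₗ[C] K') [IsLocalizedModule S ι]
    (f : C) (hf : f ∈ S) (h : ∀ k : K, f • k = 0) : Subsingleton K' := by
  refine subsingleton_of_forall_eq 0 fun y => ?_
  obtain ⟨⟨x, s⟩, hxs⟩ := IsLocalizedModule.surj S ι y
  have h0 : ι x = 0 := (IsLocalizedModule.eq_zero_iff S ι).mpr ⟨⟨f, hf⟩, h x⟩
  simp only [h0] at hxs
  apply IsLocalizedModule.smul_injective ι s
  simp only [smul_zero]
  exact hxs

/-- injectivity up to torsion and projective localized cokernel give a left inverse of the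
localized map. -/
theorem exists_leftInverse_localized_of_projective (q : Ideal C) [q.IsPrime] (u : M →ₗ[C] N)
    (π : N →ₗ[C] Q) (hex : Function.Exact u π) (hπ : Function.Surjective π)
    (hK : ∀ k : M, u k = 0 → ∃ c : q.primeCompl, (c : C) • k = 0)
    {Q' : Type u} [AddCommGroup Q'] [Module C Q'] [Module (Localization.AtPrime q) Q']
    [IsScalarTower C (Localization.AtPrime q) Q'] (ι : Q →ₗ[C] Q')
    [IsLocalizedModule q.primeCompl ι] [Module.Projective (Localization.AtPrime q) Q'] :
    ∃ w : LocalizedModule q.primeCompl N →ₗ[C] LocalizedModule q.primeCompl M,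
      w ∘ₗ (LocalizedModule.map q.primeCompl u).restrictScalars C = LinearMap.id := by
  have hinj : Function.Injective (LocalizedModule.map q.primeCompl u) := by
    rw [injective_iff_map_eq_zero]
    intro x hx
    induction x using LocalizedModule.induction_on with
    | h m t =>
      rw [LocalizedModule.map_mk, ← LocalizedModule.zero_mk (1 : q.primeCompl),
        LocalizedModule.mk_eq] at hx
      obtain ⟨c, hc⟩ := hx
      simp only [one_smul, smul_zero] at hc
      obtain ⟨c', hc'⟩ := hK ((c : C) • m) (by rw [map_smul]; exact hc)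
      rw [← LocalizedModule.zero_mk (1 : q.primeCompl), LocalizedModule.mk_eq]
      refine ⟨c' * c, ?_⟩
      simp only [one_smul, smul_zero]
      rw [Submonoid.smul_def, Submonoid.coe_mul, mul_smul]
      exact hc'
  have hexL : Function.Exact (LocalizedModule.map q.primeCompl u)
      (LocalizedModule.map q.primeCompl π) := LocalizedModule.map_exact q.primeCompl u π hex
  have hsurj : Function.Surjective (LocalizedModule.map q.primeCompl π) :=
    LocalizedModule.map_surjective q.primeCompl π hπ
  haveI : Module.Projective (Localization.AtPrime q) (LocalizedModule q.primeCompl Q) :=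
    Module.Projective.of_equiv
      ((IsLocalizedModule.iso q.primeCompl ι).extendScalarsOfIsLocalization q.primeCompl
        (Localization.AtPrime q)).symm
  obtain ⟨s, hs⟩ := Module.projective_lifting_property (LocalizedModule.map q.primeCompl π)
    LinearMap.id hsurj
  have h01 : (Function.Injective (LocalizedModule.map q.primeCompl u) ∧
      ∃ l, (LocalizedModule.map q.primeCompl π) ∘ₗ l = LinearMap.id) ↔
      (Function.Surjective (LocalizedModule.map q.primeCompl π) ∧
      ∃ l, l ∘ₗ (LocalizedModule.map q.primeCompl u) = LinearMap.id) :=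
    hexL.split_tfae'.out 0 1
  obtain ⟨-, l, hl⟩ := h01.mp ⟨hinj, s, hs⟩
  exact ⟨l.restrictScalars C, LinearMap.ext fun x => LinearMap.congr_fun hl x⟩

end modules

section ext

variable {A C : Type u} [CommRing A] [CommRing C] [Algebra A C]
  (E : Algebra.Extension.{u} A C) [Algebra.FormallySmooth A E.Ring]

theorem formallySmooth_localization_of_factor (W : E.CotangentSpace →ₗ[C] E.Cotangent) (f : C)
    (hW : W ∘ₗ E.cotangentComplex = f • LinearMap.id) (q : Ideal C) [q.IsPrime] (hf : f ∉ q) :
    Algebra.FormallySmooth A (Localization.AtPrime q) := by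
  rw [Algebra.formallySmooth_iff]
  constructor
  · obtain ⟨σ, hσ⟩ := exists_section_smul E.cotangentComplex E.toKaehler
      E.exact_cotangentComplex_toKaehler E.toKaehler_surjective W f hW
    exact projective_of_section_smul q.primeCompl (Localization.AtPrime q)
      (KaehlerDifferential.map A A C (Localization.AtPrime q)) E.toKaehler σ f hf hσ
  · refine subsingleton_of_smul_eq_zero q.primeCompl
      (Algebra.H1Cotangent.map A A C (Localization.AtPrime q)) f hf ?_
    intro k
    obtain ⟨k₀, rfl⟩ := E.equivH1CotangentOfFormallySmooth.surjective k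
    rw [← map_smul]
    have h0 : f • k₀ = 0 := by
      apply Algebra.Extension.h1Cotangentι_ext
      show f • k₀.1 = 0
      have h1 := LinearMap.congr_fun hW k₀.1
      have h2 : E.cotangentComplex k₀.1 = 0 := k₀.2
      simp only [LinearMap.coe_comp, Function.comp_apply, h2, map_zero, LinearMap.smul_apply,
        LinearMap.id_coe, id_eq] at h1
      exact h1.symm
    rw [h0, map_zero]

theorem exists_factor_of_formallySmooth [Module.Finite C E.Cotangent] (q : Ideal C) [q.IsPrime]
    [Algebra.FormallySmooth A (Localization.AtPrime q)] :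
    ∃ f : C, f ∉ q ∧ ∃ W : E.CotangentSpace →ₗ[C] E.Cotangent,
      W ∘ₗ E.cotangentComplex = f • LinearMap.id := by
  have hK : ∀ k : E.Cotangent, E.cotangentComplex k = 0 →
      ∃ c : q.primeCompl, (c : C) • k = 0 := by
    intro k hk
    let k₀ : E.H1Cotangent :=
      (⟨k, LinearMap.mem_ker.mpr hk⟩ : LinearMap.ker E.cotangentComplex)
    have h0 : Algebra.H1Cotangent.map A A C (Localization.AtPrime q)
        (E.equivH1CotangentOfFormallySmooth k₀) = 0 := Subsingleton.elim _ _
    obtain ⟨c, hc⟩ := (IsLocalizedModule.eq_zero_iff q.primeCompl _).mp h0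
    refine ⟨c, ?_⟩
    have h1 : (c : C) • k₀ = 0 := by
      apply E.equivH1CotangentOfFormallySmooth.injective
      rw [map_smul, map_zero]
      exact hc
    exact congrArg Subtype.val h1
  obtain ⟨w, hw⟩ := exists_leftInverse_localized_of_projective q E.cotangentComplex E.toKaehler
    E.exact_cotangentComplex_toKaehler E.toKaehler_surjective hK
    (KaehlerDifferential.map A A C (Localization.AtPrime q))
  have hinj := LeftInvLocal.lTensor_injective_of_leftInverse E.cotangentComplex q q.primeCompl
    le_rfl w hw
  exact LeftInvLocal.exists_of_lTensor_injective E.cotangentComplex q hinj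

theorem isOpen_smoothLocus_of_extension [Module.Finite C E.Cotangent] :
    IsOpen (Algebra.smoothLocus A C) := by
  rw [isOpen_iff_forall_mem_open]
  intro p hp
  have : Algebra.FormallySmooth A (Localization.AtPrime p.asIdeal) := hp
  obtain ⟨f, hf, W, hW⟩ := exists_factor_of_formallySmooth E p.asIdeal
  refine ⟨PrimeSpectrum.basicOpen f, ?_, (PrimeSpectrum.basicOpen f).isOpen, hf⟩
  intro q hq
  exact formallySmooth_localization_of_factor E W f hW q.asIdeal hq

end ext

end Groth.Agent.Lib.Helper6.SmoothLocusExt
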