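import Groth.Agent.Lib.Helper6.SysPullback
import Mathlib.RingTheory.AdicCompletion.RingHom
import Mathlib.AlgebraicGeometry.GammaSpecAdjunction

/-!
# Morphisms of formal spectra correspond to continuous ring maps
-/

universe u

open CategoryTheory CategoryTheory.Limits AlgebraicGeometry

namespace Groth.Agent.Lib.Helper6.SpfBij

open Groth.Agent.Lib.Helper6.SysPullback

variable (A B : Type u) [CommRing A] [CommRing B] (I : Ideal A) (K : Ideal B)

theorem spfMap_injective [IsHausdorff I A] :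
    Function.Injective (fun φ : {φ : B →+* A // K ≤ I.comap φ} ↦ FSch.spfMap I K φ.1 φ.2) := by
  rintro ⟨φ, hφ⟩ ⟨φ', hφ'⟩ heq
  apply Subtype.ext
  dsimp only at heq ⊢
  have hq : ∀ n, FSch.quotPowMap I K φ hφ n = FSch.quotPowMap I K φ' hφ' n := by
    intro n
    have h1 := hom_app_congr heq n
    rw [FSch.spfMap_app, FSch.spfMap_app] at h1
    exact congrArg CommRingCat.Hom.hom (Spec.map_injective h1)
  ext b
  rw [← sub_eq_zero]
  apply IsHausdorff.haus (inferInstance : IsHausdorff I A)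
  intro n
  have h3 : FSch.quotPowMap I K φ hφ n (Ideal.Quotient.mk _ b) =
      FSch.quotPowMap I K φ' hφ' n (Ideal.Quotient.mk _ b) := by rw [hq n]
  have h4 : φ b - φ' b ∈ I ^ (n + 1) := by
    rw [← Ideal.Quotient.eq]
    exact h3
  rw [SModEq.zero, smul_eq_mul, Ideal.mul_top]
  exact Ideal.pow_le_pow_right (Nat.le_succ n) h4

theorem spfMap_surjective [IsAdicComplete I A] :
    Function.Surjective (fun φ : {φ : B →+* A // K ≤ I.comap φ} ↦ FSch.spfMap I K φ.1 φ.2) := by
  intro F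
  let G : ∀ n, Spec (CommRingCat.of (A ⧸ I ^ (n + 1))) ⟶ Spec (CommRingCat.of (B ⧸ K ^ (n + 1))) :=
    fun n => (F : FSch.Hom _ _).app n
  let ψ : ∀ n, B ⧸ K ^ (n + 1) →+* A ⧸ I ^ (n + 1) := fun n => (Spec.preimage (G n)).hom
  have hψ : ∀ n, Spec.map (CommRingCat.ofHom (ψ n)) = G n := fun n => Spec.map_preimage (G n)
  have hcomm : ∀ n, (ψ n).comp (Ideal.Quotient.factor
      (Ideal.pow_le_pow_right (Nat.le_succ (n + 1)))) =
      (Ideal.Quotient.factor (Ideal.pow_le_pow_right (Nat.le_succ (n + 1)))).comp (ψ (n + 1)) := by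
    intro n
    have h1 : G n ≫ CohB1.specQuotTrans K n = CohB1.specQuotTrans I n ≫ G (n + 1) :=
      (F : FSch.Hom _ _).comm n
    rw [← hψ n, ← hψ (n + 1)] at h1
    unfold CohB1.specQuotTrans at h1
    rw [← Spec.map_comp, ← Spec.map_comp, ← CommRingCat.ofHom_comp, ← CommRingCat.ofHom_comp]
      at h1
    exact congrArg CommRingCat.Hom.hom (Spec.map_injective h1)
  have ha : StrictMono (fun n : ℕ => n + 1) := fun _ _ h => Nat.succ_lt_succ h
  let f : ∀ n, B →+* A ⧸ I ^ ((fun n : ℕ => n + 1) n) :=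
    fun n => (ψ n).comp (Ideal.Quotient.mk (K ^ (n + 1)))
  have hf : ∀ {m : ℕ}, (Ideal.Quotient.factorPow I (ha.monotone m.le_succ)).comp (f (m + 1)) =
      f m := by
    intro m
    change (Ideal.Quotient.factor (Ideal.pow_le_pow_right (Nat.le_succ (m + 1)))).comp
      ((ψ (m + 1)).comp (Ideal.Quotient.mk (K ^ (m + 1 + 1)))) =
      (ψ m).comp (Ideal.Quotient.mk (K ^ (m + 1)))
    rw [← RingHom.comp_assoc, ← hcomm m, RingHom.comp_assoc, Ideal.Quotient.factor_comp_mk]
  let φ : B →+* A := IsAdicComplete.StrictMono.liftRingHom I ha f hf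
  have hφ : ∀ n (b : B), Ideal.Quotient.mk (I ^ (n + 1)) (φ b) =
      ψ n (Ideal.Quotient.mk (K ^ (n + 1)) b) := fun n b =>
    IsAdicComplete.StrictMono.mk_liftRingHom I ha f hf (n := n) b
  have hK : K ≤ I.comap φ := by
    intro b hb
    rw [Ideal.mem_comap]
    have h0 := hφ 0 b
    have hb' : b ∈ K ^ (0 + 1) := by simpa using hb
    rw [Ideal.Quotient.eq_zero_iff_mem.mpr hb', map_zero, Ideal.Quotient.eq_zero_iff_mem] at h0
    simpa using h0
  refine ⟨⟨φ, hK⟩, ?_⟩
  apply FSch.Hom.ext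
  funext n
  change Spec.map (CommRingCat.ofHom (FSch.quotPowMap I K φ hK n)) = G n
  rw [← hψ n]
  congr 2
  apply Ideal.Quotient.ringHom_ext
  ext b
  exact hφ n b

end Groth.Agent.Lib.Helper6.SpfBij
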