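import Groth.Agent.Lib.Helper6.SysAdic
import Groth.Agent.Lib.Helper6.AdicHom
import Mathlib.RingTheory.Ideal.Quotient.PowTransition
import Mathlib.RingTheory.Nakayama
import Mathlib.RingTheory.AdicCompletion.Basic

/-!
# Morphisms of formal spectra
-/

universe u

open CategoryTheory CategoryTheory.Limits AlgebraicGeometry

namespace Groth.Agent.Lib.Helper6.SpfMap

open AlgebraicGeometry.Scheme AlgebraicGeometry.Scheme.IdealSheafData
open Groth.Agent.Lib.Helper6.IdealComap Groth.Agent.Lib.Helper6.IdealSpec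
open Groth.Agent.Lib.Helper6.AdicHom

theorem ker_specMap_ideal {R S : Type u} [CommRing R] [CommRing S] (ψ : R →+* S) :
    (Spec.map (CommRingCat.ofHom ψ)).ker.ideal ⟨⊤, isAffineOpen_top _⟩ =
      (RingHom.ker ψ).comap (Scheme.ΓSpecIso (CommRingCat.of R)).hom.hom := by
  rw [Scheme.Hom.ker_apply]
  ext x
  rw [RingHom.mem_ker, Ideal.mem_comap, RingHom.mem_ker]
  have nat := Scheme.ΓSpecIso_naturality (CommRingCat.ofHom ψ)
  have h1 : (Scheme.ΓSpecIso (CommRingCat.of S)).hom.hom
      (((Spec.map (CommRingCat.ofHom ψ)).appTop).hom x) =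
      ψ ((Scheme.ΓSpecIso (CommRingCat.of R)).hom.hom x) :=
    congrArg (fun φ => φ.hom x) nat
  have inj : Function.Injective (Scheme.ΓSpecIso (CommRingCat.of S)).hom.hom :=
    (ConcreteCategory.bijective_of_isIso (Scheme.ΓSpecIso (CommRingCat.of S)).hom).1
  rw [← h1, map_eq_zero_iff _ inj]
  rfl

theorem ker_specMap {R S : Type u} [CommRing R] [CommRing S] (ψ : R →+* S) :
    (Spec.map (CommRingCat.ofHom ψ)).ker = FSch.idealSpec R (RingHom.ker ψ) := by
  apply IdealSheafData.ext_of_isAffine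
  rw [ker_specMap_ideal, idealSpec_ideal]

theorem idealSpec_injective (R : Type u) [CommRing R] (𝔞 𝔟 : Ideal R)
    (h : FSch.idealSpec R 𝔞 = FSch.idealSpec R 𝔟) : 𝔞 = 𝔟 := by
  have h2 := congrArg (fun K => K.ideal ⟨⊤, isAffineOpen_top _⟩) h
  simp only [idealSpec_ideal] at h2
  exact Ideal.comap_injective_of_surjective _
    (ConcreteCategory.bijective_of_isIso (Scheme.ΓSpecIso (CommRingCat.of R)).hom).2 h2

variable {A B : Type u} [CommRing A] [CommRing B] (I : Ideal A) (K : Ideal B) (φ : B →+* A)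

theorem map_ker_factor (h : K ≤ I.comap φ) (n : ℕ) :
    (RingHom.ker (Ideal.Quotient.factor (Ideal.pow_le_pow_right (Nat.le_succ (n + 1))) :
      B ⧸ K ^ (n + 2) →+* B ⧸ K ^ (n + 1))).map (FSch.quotPowMap I K φ h (n + 1)) =
      ((K.map φ) ^ (n + 1)).map (Ideal.Quotient.mk (I ^ (n + 2))) := by
  rw [Ideal.Quotient.factor_ker, Ideal.map_map]
  have e : (FSch.quotPowMap I K φ h (n + 1)).comp (Ideal.Quotient.mk (K ^ (n + 2))) =
      (Ideal.Quotient.mk (I ^ (n + 2))).comp φ := by
    ext b
    rfl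
  rw [e, ← Ideal.map_map, Ideal.map_pow]

theorem isClosedImmersion_specQuotTrans (n : ℕ) : IsClosedImmersion (CohB1.specQuotTrans I n) :=
  IsClosedImmersion.spec_of_surjective _
    (Ideal.Quotient.factor_surjective (Ideal.pow_le_pow_right (Nat.le_succ (n + 1))))

theorem ker_specQuotTrans (n : ℕ) :
    (CohB1.specQuotTrans I n).ker = FSch.idealSpec (A ⧸ I ^ (n + 2))
      ((I ^ (n + 1)).map (Ideal.Quotient.mk (I ^ (n + 2)))) := by
  unfold CohB1.specQuotTrans
  rw [ker_specMap, Ideal.Quotient.factor_ker]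

theorem comap_ker_specQuotTrans (h : K ≤ I.comap φ) (n : ℕ) :
    (CohB1.specQuotTrans K n).ker.comap
      (Spec.map (CommRingCat.ofHom (FSch.quotPowMap I K φ h (n + 1)))) =
      FSch.idealSpec (A ⧸ I ^ (n + 2))
        (((K.map φ) ^ (n + 1)).map (Ideal.Quotient.mk (I ^ (n + 2)))) := by
  unfold CohB1.specQuotTrans
  rw [ker_specMap, comap_idealSpec, map_ker_factor]

theorem isAdicHom_spfMap_iff [IsNoetherianRing A] [IsAdicComplete I A] (h : K ≤ I.comap φ) :
    FSch.IsAdicHom (FSch.spfMap I K φ h) ↔ K.map φ = I := by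
  constructor
  · intro hadic
    have hcB := isClosedImmersion_specQuotTrans K 0
    have sq : IsPullback (CohB1.specQuotTrans I 0)
        (Spec.map (CommRingCat.ofHom (FSch.quotPowMap I K φ h 0)))
        (Spec.map (CommRingCat.ofHom (FSch.quotPowMap I K φ h (0 + 1))))
        (CohB1.specQuotTrans K 0) := hadic 0
    have h1 := ker_eq_comap_of_isPullback sq
    rw [ker_specQuotTrans, comap_ker_specQuotTrans] at h1
    have h2 := idealSpec_injective _ _ _ h1
    have h3 := congrArg (Ideal.comap (Ideal.Quotient.mk (I ^ (0 + 2)))) h2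
    rw [Ideal.comap_map_of_surjective _ Ideal.Quotient.mk_surjective,
      Ideal.comap_map_of_surjective _ Ideal.Quotient.mk_surjective, ← RingHom.ker_eq_comap_bot,
      Ideal.mk_ker, zero_add, pow_one, pow_one,
      sup_eq_left.mpr (Ideal.pow_le_self two_ne_zero)] at h3
    apply le_antisymm (Ideal.map_le_iff_le_comap.mpr h)
    apply Submodule.le_of_le_smul_of_le_jacobson_bot (I := I) (IsNoetherian.noetherian I)
      (IsAdicComplete.le_jacobson_bot I)
    rw [smul_eq_mul, ← pow_two]
    exact h3.le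
  · intro hKI n
    have hcA := isClosedImmersion_specQuotTrans I n
    have hcB := isClosedImmersion_specQuotTrans K n
    change IsPullback (CohB1.specQuotTrans I n)
      (Spec.map (CommRingCat.ofHom (FSch.quotPowMap I K φ h n)))
      (Spec.map (CommRingCat.ofHom (FSch.quotPowMap I K φ h (n + 1))))
      (CohB1.specQuotTrans K n)
    apply isPullback_of_isClosedImmersion
    · exact ((FSch.spfMap I K φ h : FSch.Hom _ _).comm n).symm
    · rw [comap_ker_specQuotTrans, ker_specQuotTrans, hKI]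

end Groth.Agent.Lib.Helper6.SpfMap
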