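import Mathlib
import Groth.Prelude.Def_FSch3

/-!
# The stalk ring `A_{S}` of a formal spectrum is local (helper6)
-/

set_option autoImplicit false
universe u

namespace Groth.Agent.Lib.Helper6.StalkSubring

section Unit
variable {R : Type u} [CommRing R] (I : Ideal R)

/-- An element of the adic completion is a unit as soon as its class modulo `I` is. -/
theorem isUnit_of_isUnit_evalₐ_one (x : AdicCompletion I R)
    (hx : IsUnit (AdicCompletion.evalₐ I 1 x)) : IsUnit x := by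
  obtain ⟨a, rfl⟩ := AdicCompletion.mk_surjective I R x
  rw [AdicCompletion.evalₐ_mk] at hx
  obtain ⟨b', hb'⟩ := hx.exists_right_inv
  obtain ⟨b, rfl⟩ := Ideal.Quotient.mk_surjective b'
  have h1 : 1 - a.val 1 * b ∈ I := by
    have h0 : (Ideal.Quotient.mk (I ^ 1)) (1 - a.val 1 * b) = 0 := by
      rw [map_sub, map_mul, map_one, hb', sub_self]
    rw [Ideal.Quotient.eq_zero_iff_mem, pow_one] at h0
    exact h0
  have hcau : ∀ {m n : ℕ}, m ≤ n → a.val m - a.val n ∈ I ^ m := by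
    intro m n hmn
    have h0 := a.2 hmn
    rw [SModEq.sub_mem] at h0
    simpa only [smul_eq_mul, Ideal.mul_top] using h0
  have hz : ∀ n : ℕ, 1 ≤ n → 1 - a.val n * b ∈ I := by
    intro n hn
    have e : 1 - a.val n * b = (1 - a.val 1 * b) + (a.val 1 - a.val n) * b := by ring
    rw [e]
    have h2 : a.val 1 - a.val n ∈ I := by simpa only [pow_one] using hcau hn
    exact I.add_mem h1 (I.mul_mem_right _ h2)
  have hzpow : ∀ n : ℕ, (1 - a.val n * b) ^ n ∈ I ^ n := by
    intro n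
    rcases Nat.eq_zero_or_pos n with rfl | hn
    · simp
    · exact Ideal.pow_mem_pow (hz n hn) n
  let y : ℕ → R := fun n => b * ∑ k ∈ Finset.range n, (1 - a.val n * b) ^ k
  have hay : ∀ n : ℕ, a.val n * y n - 1 ∈ I ^ n := by
    intro n
    have h := mul_neg_geom_sum (1 - a.val n * b) n
    have h' : a.val n * y n = 1 - (1 - a.val n * b) ^ n := by
      rw [← h]
      simp only [y]
      ring
    rw [h']
    have e : 1 - (1 - a.val n * b) ^ n - 1 = -((1 - a.val n * b) ^ n) := by ring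
    rw [e]
    exact (I ^ n).neg_mem (hzpow n)
  have hycau : ∀ {m n : ℕ}, m ≤ n → y m - y n ∈ I ^ m := by
    intro m n hmn
    rw [← Ideal.Quotient.eq]
    have e1 : Ideal.Quotient.mk (I ^ m) (a.val m) * Ideal.Quotient.mk (I ^ m) (y m) = 1 := by
      rw [← map_mul, ← map_one (Ideal.Quotient.mk (I ^ m)), Ideal.Quotient.eq]
      exact hay m
    have e2 : Ideal.Quotient.mk (I ^ m) (a.val m) * Ideal.Quotient.mk (I ^ m) (y n) = 1 := by
      have e3 : Ideal.Quotient.mk (I ^ m) (a.val m) = Ideal.Quotient.mk (I ^ m) (a.val n) :=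
        Ideal.Quotient.eq.2 (hcau hmn)
      rw [e3, ← map_mul, ← map_one (Ideal.Quotient.mk (I ^ m)), Ideal.Quotient.eq]
      exact Ideal.pow_le_pow_right hmn (hay n)
    calc Ideal.Quotient.mk (I ^ m) (y m)
        = Ideal.Quotient.mk (I ^ m) (y m) *
            (Ideal.Quotient.mk (I ^ m) (a.val m) * Ideal.Quotient.mk (I ^ m) (y n)) := by
          rw [e2, mul_one]
      _ = (Ideal.Quotient.mk (I ^ m) (a.val m) * Ideal.Quotient.mk (I ^ m) (y m)) *
            Ideal.Quotient.mk (I ^ m) (y n) := by ring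
      _ = Ideal.Quotient.mk (I ^ m) (y n) := by rw [e1, one_mul]
  let Y : AdicCompletion.AdicCauchySequence I R := ⟨y, fun {m n} hmn => by
    rw [SModEq.sub_mem]
    simpa only [smul_eq_mul, Ideal.mul_top] using hycau hmn⟩
  refine isUnit_iff_exists_inv.2 ⟨AdicCompletion.mk I R Y, ?_⟩
  apply AdicCompletion.ext_evalₐ
  intro n
  rw [map_mul, map_one, AdicCompletion.evalₐ_mk, AdicCompletion.evalₐ_mk, ← map_mul,
    ← map_one (Ideal.Quotient.mk (I ^ n)), Ideal.Quotient.eq]
  exact hay n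

theorem isUnit_iff_isUnit_evalₐ_one (x : AdicCompletion I R) :
    IsUnit x ↔ IsUnit (AdicCompletion.evalₐ I 1 x) :=
  ⟨fun h => h.map _, isUnit_of_isUnit_evalₐ_one I x⟩

end Unit

section Local
variable {L : Type u} [CommRing L] [IsLocalRing L] (I : Ideal L)

lemma isUnit_of_isUnit_mk (hI : I ≤ IsLocalRing.maximalIdeal L) (y : L)
    (hy : IsUnit (Ideal.Quotient.mk (I ^ 1) y)) : IsUnit y := by
  obtain ⟨z', hz'⟩ := hy.exists_right_inv
  obtain ⟨z, rfl⟩ := Ideal.Quotient.mk_surjective z'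
  have hmem : y * z - 1 ∈ I := by
    rw [← map_mul, ← map_one (Ideal.Quotient.mk (I ^ 1)), Ideal.Quotient.eq, pow_one] at hz'
    exact hz'
  by_contra hyn
  have hym : y ∈ IsLocalRing.maximalIdeal L := (IsLocalRing.mem_maximalIdeal y).2 hyn
  have h1 : (1 : L) ∈ IsLocalRing.maximalIdeal L := by
    have e : (1 : L) = y * z - (y * z - 1) := by ring
    rw [e]
    exact Ideal.sub_mem _ (Ideal.mul_mem_right _ _ hym) (hI hmem)
  exact (Ideal.ne_top_iff_one _).1 (IsLocalRing.maximalIdeal.isMaximal L).ne_top h1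

theorem isLocalRing_adicCompletion (hI : I ≤ IsLocalRing.maximalIdeal L) :
    IsLocalRing (AdicCompletion I L) := by
  have hnt : Nontrivial (L ⧸ I ^ 1) := by
    rw [Ideal.Quotient.nontrivial_iff, pow_one]
    intro h
    exact (IsLocalRing.maximalIdeal.isMaximal L).ne_top (top_le_iff.mp (h ▸ hI))
  have : Nontrivial (AdicCompletion I L) :=
    (AdicCompletion.evalₐ I 1).toRingHom.domain_nontrivial
  have : IsLocalRing (L ⧸ I ^ 1) :=
    IsLocalRing.of_surjective' (Ideal.Quotient.mk (I ^ 1)) Ideal.Quotient.mk_surjective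
  refine IsLocalRing.of_isUnit_or_isUnit_one_sub_self fun x => ?_
  rcases IsLocalRing.isUnit_or_isUnit_one_sub_self (AdicCompletion.evalₐ I 1 x) with h | h
  · exact Or.inl (isUnit_of_isUnit_evalₐ_one I x h)
  · refine Or.inr (isUnit_of_isUnit_evalₐ_one I (1 - x) ?_)
    rwa [map_sub, map_one]

end Local

section ComplMap
variable {S T U : Type u} [CommRing S] [CommRing T] [CommRing U]

lemma evalₐ_complMap (I : Ideal S) (K : Ideal T) (g : S →+* T) (h : I.map g ≤ K) (n : ℕ)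
    (x : AdicCompletion I S) :
    AdicCompletion.evalₐ K n (FSch.complMap I K g h x) =
      Ideal.quotientMap (K ^ n) g (FSch.pow_le_comap_pow_of_map_le I K g h n)
        (AdicCompletion.evalₐ I n x) := by
  unfold FSch.complMap
  generalize_proofs
  rw [AdicCompletion.evalₐ_liftRingHom _ _ (by assumption)]
  rfl

lemma complMap_comp_of_eq (I : Ideal S) (K : Ideal T) (M : Ideal U) (g : S →+* T) (g' : T →+* U)
    (g'' : S →+* U) (e : g'.comp g = g'') (h : I.map g ≤ K) (h' : K.map g' ≤ M)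
    (h'' : I.map g'' ≤ M) (x : AdicCompletion I S) :
    FSch.complMap K M g' h' (FSch.complMap I K g h x) = FSch.complMap I M g'' h'' x := by
  subst e
  apply AdicCompletion.ext_evalₐ
  intro n
  rw [evalₐ_complMap, evalₐ_complMap, evalₐ_complMap]
  obtain ⟨r, hr⟩ := Ideal.Quotient.mk_surjective (AdicCompletion.evalₐ I n x)
  rw [← hr, Ideal.quotientMap_mk, Ideal.quotientMap_mk, Ideal.quotientMap_mk]
  rfl

end ComplMap

section Stalk
variable (A : Type u) [CommRing A] (J : Ideal A) (𝔭 : Ideal A) [𝔭.IsPrime]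

/-- The localization map `A_f → A_{fa}`. -/
noncomputable def awayTrans (f a : A) : Localization.Away f →+* Localization.Away (f * a) :=
  IsLocalization.Away.lift f (g := algebraMap A (Localization.Away (f * a)))
    (isUnit_of_dvd_unit (map_dvd _ (Dvd.intro a rfl))
      (IsLocalization.Away.algebraMap_isUnit (f * a)))

lemma awayTrans_algebraMap (f a x : A) :
    awayTrans A f a (algebraMap A (Localization.Away f) x) =
      algebraMap A (Localization.Away (f * a)) x := by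
  simp [awayTrans]

lemma map_awayTrans_le (f a : A) :
    (J.map (algebraMap A (Localization.Away f))).map (awayTrans A f a) ≤
      J.map (algebraMap A (Localization.Away (f * a))) := by
  rw [Ideal.map_map]
  apply le_of_eq
  congr 1
  ext x
  simp [awayTrans]

lemma awayToAtPrime_comp_awayTrans (f a : A) (hf : f ∉ 𝔭) (hfa : f * a ∉ 𝔭) :
    (FSch.awayToAtPrime A 𝔭 (f * a) hfa).comp (awayTrans A f a) =
      FSch.awayToAtPrime A 𝔭 f hf := by
  refine IsLocalization.ringHom_ext (Submonoid.powers f) ?_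
  ext x
  simp [awayTrans, FSch.awayToAtPrime]

/-- The transition map `A_{f} → A_{fa}` on completed localizations. -/
noncomputable def cTrans (f a : A) : FSch.cAway A J f →+* FSch.cAway A J (f * a) :=
  FSch.complMap _ _ (awayTrans A f a) (map_awayTrans_le A J f a)

lemma cAwayToAtPrime_cTrans (f a : A) (hf : f ∉ 𝔭) (hfa : f * a ∉ 𝔭) (ξ : FSch.cAway A J f) :
    FSch.cAwayToAtPrime A J 𝔭 (f * a) hfa (cTrans A J f a ξ) =
      FSch.cAwayToAtPrime A J 𝔭 f hf ξ := by
  unfold FSch.cAwayToAtPrime cTrans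
  exact complMap_comp_of_eq _ _ _ _ _ _ (awayToAtPrime_comp_awayTrans A 𝔭 f a hf hfa) _ _ _ ξ

lemma range_le_of_dvd {f g : A} (hf : f ∉ 𝔭) (hg : g ∉ 𝔭) (hdvd : f ∣ g) :
    (FSch.cAwayToAtPrime A J 𝔭 f hf).range ≤ (FSch.cAwayToAtPrime A J 𝔭 g hg).range := by
  obtain ⟨a, rfl⟩ := hdvd
  rintro _ ⟨ξ, rfl⟩
  exact ⟨cTrans A J f a ξ, cAwayToAtPrime_cTrans A J 𝔭 f a hf hg ξ⟩

lemma mem_stalkSubring_iff (x : FSch.cAtPrime A J 𝔭) :
    x ∈ FSch.stalkSubring A J 𝔭 ↔
      ∃ (f : A) (hf : f ∉ 𝔭), x ∈ (FSch.cAwayToAtPrime A J 𝔭 f hf).range := by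
  have : Nonempty {f : A // f ∉ 𝔭} :=
    ⟨⟨1, (Ideal.ne_top_iff_one 𝔭).1 (Ideal.IsPrime.ne_top ‹_›)⟩⟩
  have hdir : Directed (· ≤ ·)
      (fun f : {f : A // f ∉ 𝔭} => (FSch.cAwayToAtPrime A J 𝔭 f.1 f.2).range) := by
    intro f g
    refine ⟨⟨f.1 * g.1, fun h => (Ideal.IsPrime.mem_or_mem ‹_› h).elim f.2 g.2⟩, ?_, ?_⟩
    · exact range_le_of_dvd A J 𝔭 _ _ (Dvd.intro _ rfl)
    · exact range_le_of_dvd A J 𝔭 _ _ (Dvd.intro_left _ rfl)
  unfold FSch.stalkSubring
  rw [Subring.mem_iSup_of_directed hdir]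
  constructor
  · rintro ⟨f, hf⟩
    exact ⟨f.1, f.2, hf⟩
  · rintro ⟨f, hf, hx⟩
    exact ⟨⟨f, hf⟩, hx⟩

theorem isLocalRing_cAtPrime (hJ : J ≤ 𝔭) : IsLocalRing (FSch.cAtPrime A J 𝔭) := by
  refine isLocalRing_adicCompletion _ ?_
  rw [← Localization.AtPrime.map_eq_maximalIdeal]
  exact Ideal.map_mono hJ

theorem isLocalHom_subtype (hJ : J ≤ 𝔭) : IsLocalHom (FSch.stalkSubring A J 𝔭).subtype := by
  have hIle : J.map (algebraMap A (Localization.AtPrime 𝔭)) ≤
      IsLocalRing.maximalIdeal (Localization.AtPrime 𝔭) := by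
    rw [← Localization.AtPrime.map_eq_maximalIdeal]
    exact Ideal.map_mono hJ
  refine ⟨fun x hx => ?_⟩
  obtain ⟨x, hxmem⟩ := x
  change IsUnit x at hx
  obtain ⟨f, hf, ξ, rfl⟩ := (mem_stalkSubring_iff A J 𝔭 x).1 hxmem
  -- the class of `ξ` modulo `J`
  obtain ⟨r, hr⟩ := Ideal.Quotient.mk_surjective
    (AdicCompletion.evalₐ (J.map (algebraMap A (Localization.Away f))) 1 ξ)
  have hu1 : IsUnit (Ideal.Quotient.mk ((J.map (algebraMap A (Localization.AtPrime 𝔭))) ^ 1)
      (FSch.awayToAtPrime A 𝔭 f hf r)) := by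
    have h0 := hx.map (AdicCompletion.evalₐ (J.map (algebraMap A (Localization.AtPrime 𝔭))) 1)
    unfold FSch.cAwayToAtPrime at h0
    rw [evalₐ_complMap, ← hr, Ideal.quotientMap_mk] at h0
    exact h0
  have hu2 : IsUnit (FSch.awayToAtPrime A 𝔭 f hf r) := isUnit_of_isUnit_mk _ hIle _ hu1
  obtain ⟨a', s, rfl⟩ := IsLocalization.exists_mk'_eq (Submonoid.powers f) r
  have hspec : IsLocalization.mk' (Localization.Away f) a' s *
      algebraMap A (Localization.Away f) (s : A) = algebraMap A (Localization.Away f) a' :=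
    IsLocalization.mk'_spec _ _ _
  have hsp : (s : A) ∉ 𝔭 := by
    obtain ⟨k, hk⟩ := s.2
    rw [← hk]
    exact fun h => hf (Ideal.IsPrime.mem_of_pow_mem ‹_› k h)
  have ha' : a' ∉ 𝔭 := by
    have h3 : IsUnit (algebraMap A (Localization.AtPrime 𝔭) a') := by
      have h4 := congrArg (FSch.awayToAtPrime A 𝔭 f hf) hspec
      rw [map_mul] at h4
      have h5 : FSch.awayToAtPrime A 𝔭 f hf (algebraMap A (Localization.Away f) a') =
          algebraMap A (Localization.AtPrime 𝔭) a' := by simp [FSch.awayToAtPrime]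
      have h6 : FSch.awayToAtPrime A 𝔭 f hf (algebraMap A (Localization.Away f) (s : A)) =
          algebraMap A (Localization.AtPrime 𝔭) (s : A) := by simp [FSch.awayToAtPrime]
      rw [h5, h6] at h4
      rw [← h4]
      exact hu2.mul ((IsLocalization.AtPrime.isUnit_to_map_iff (Localization.AtPrime 𝔭) 𝔭
        (s : A)).2 hsp)
    exact (IsLocalization.AtPrime.isUnit_to_map_iff (Localization.AtPrime 𝔭) 𝔭 a').1 h3
  have hfa : f * a' ∉ 𝔭 := fun h => (Ideal.IsPrime.mem_or_mem ‹_› h).elim hf ha'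
  -- `r` becomes a unit in `A_{fa'}`
  have hu3 : IsUnit (awayTrans A f a' (IsLocalization.mk' (Localization.Away f) a' s)) := by
    have h4 := congrArg (awayTrans A f a') hspec
    rw [map_mul, awayTrans_algebraMap, awayTrans_algebraMap] at h4
    have h5 : IsUnit (algebraMap A (Localization.Away (f * a')) a') :=
      isUnit_of_dvd_unit (map_dvd _ (Dvd.intro_left f rfl))
        (IsLocalization.Away.algebraMap_isUnit (f * a'))
    rw [← h4] at h5
    exact isUnit_of_mul_isUnit_left h5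
  have hu4 : IsUnit (cTrans A J f a' ξ) := by
    refine isUnit_of_isUnit_evalₐ_one _ _ ?_
    unfold cTrans
    rw [evalₐ_complMap, ← hr, Ideal.quotientMap_mk]
    exact hu3.map _
  obtain ⟨η, hη⟩ := isUnit_iff_exists_inv.1 hu4
  have hmemy : FSch.cAwayToAtPrime A J 𝔭 (f * a') hfa η ∈ FSch.stalkSubring A J 𝔭 :=
    (mem_stalkSubring_iff A J 𝔭 _).2 ⟨f * a', hfa, η, rfl⟩
  refine isUnit_iff_exists_inv.2 ⟨⟨_, hmemy⟩, Subtype.ext ?_⟩
  change FSch.cAwayToAtPrime A J 𝔭 f hf ξ * FSch.cAwayToAtPrime A J 𝔭 (f * a') hfa η = 1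
  rw [← cAwayToAtPrime_cTrans A J 𝔭 f a' hf hfa ξ, ← map_mul, hη, map_one]

theorem main (hJ : J ≤ 𝔭) :
    IsLocalRing (FSch.stalkSubring A J 𝔭) ∧ IsLocalHom (FSch.stalkSubring A J 𝔭).subtype := by
  have := isLocalRing_cAtPrime A J 𝔭 hJ
  have := isLocalHom_subtype A J 𝔭 hJ
  exact ⟨(FSch.stalkSubring A J 𝔭).subtype.domain_isLocalRing, inferInstance⟩

end Stalk

end Groth.Agent.Lib.Helper6.StalkSubring
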