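import Mathlib
import Groth.Prelude.Def_FSch3
import Groth.Agent.Lib.Helper6.StalkSubring
import Groth.Agent.Lib.Helper8.FlatCompl2
import Groth.Agent.S0543

/-!
# The completed local ring `A{S⁻¹}` is faithfully flat over the stalk ring `A_{S}` (helper6)
-/

set_option autoImplicit false
universe u

namespace Groth.Agent.Lib.Helper6.StalkFlat

open Groth.Agent.Lib.Helper6.StalkSubring

section Ker
variable {R : Type u} [CommRing R] (I : Ideal R)

lemma evalₐ_eq_zero_of_mem_map (n : ℕ) (x : AdicCompletion I R)
    (hx : x ∈ (I ^ n).map (algebraMap R (AdicCompletion I R))) :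
    AdicCompletion.evalₐ I n x = 0 := by
  have hle : (I ^ n).map (algebraMap R (AdicCompletion I R)) ≤
      RingHom.ker (AdicCompletion.evalₐ I n).toRingHom := by
    rw [Ideal.map_le_iff_le_comap]
    intro a ha
    rw [Ideal.mem_comap, RingHom.mem_ker]
    change AdicCompletion.evalₐ I n (algebraMap R (AdicCompletion I R) a) = 0
    rw [AlgHom.commutes, Ideal.Quotient.algebraMap_eq, Ideal.Quotient.eq_zero_iff_mem]
    exact ha
  exact hle hx

lemma mem_map_of_evalₐ_eq_zero (hI : I.FG) (n : ℕ) (x : AdicCompletion I R)
    (hx : AdicCompletion.evalₐ I n x = 0) :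
    x ∈ (I ^ n).map (algebraMap R (AdicCompletion I R)) := by
  have h1 : x ∈ LinearMap.ker (AdicCompletion.eval I R n) := by
    rw [LinearMap.mem_ker, ← AdicCompletion.factor_evalₐ_eq_eval I x
      (le_of_eq (by simp only [smul_eq_mul, Ideal.mul_top])), hx, map_zero]
  rw [← AdicCompletion.pow_smul_top_eq_ker_eval hI] at h1
  have h2 := Ideal.smul_top_eq_map (R := R) (S := AdicCompletion I R) (I ^ n)
  rw [h2] at h1
  exact h1

end Ker

section FL
variable {C L : Type u} [CommRing C] [CommRing L] [IsNoetherianRing C] [IsNoetherianRing L]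
  [Algebra C L] (M : Submonoid C) [IsLocalization M L] (I : Ideal C) (K : Ideal L)

include M in
/-- If `L` is a localization of the Noetherian ring `C` and `K = I L`, then the completion of `L`
is flat over the completion of `C`. -/
theorem flat_of_isLocalization (hK : I.map (algebraMap C L) = K)
    [Algebra (AdicCompletion I C) (AdicCompletion K L)]
    (halg : ∀ x, algebraMap (AdicCompletion I C) (AdicCompletion K L) x =
      FSch.complMap I K (algebraMap C L) (le_of_eq hK) x) :
    Module.Flat (AdicCompletion I C) (AdicCompletion K L) := by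
  classical
  subst hK
  have hC : IsNoetherianRing (AdicCompletion I C) := Groth.Agent.S0543.result C I
  have hT : IsNoetherianRing (AdicCompletion (I.map (algebraMap C L)) L) :=
    Groth.Agent.S0543.result L _
  have hof : ∀ c : C, algebraMap (AdicCompletion I C) (AdicCompletion (I.map (algebraMap C L)) L)
      (algebraMap C (AdicCompletion I C) c) =
      algebraMap L (AdicCompletion (I.map (algebraMap C L)) L) (algebraMap C L c) := by
    intro c
    rw [halg]
    apply AdicCompletion.ext_evalₐ
    intro n
    rw [evalₐ_complMap, AlgHom.commutes, AlgHom.commutes, Ideal.Quotient.algebraMap_eq,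
      Ideal.Quotient.algebraMap_eq, Ideal.quotientMap_mk]
  have hcomp : (algebraMap (AdicCompletion I C) (AdicCompletion (I.map (algebraMap C L)) L)).comp
      (algebraMap C (AdicCompletion I C)) =
      (algebraMap L (AdicCompletion (I.map (algebraMap C L)) L)).comp (algebraMap C L) :=
    RingHom.ext hof
  have hmap : ∀ n : ℕ, ((I.map (algebraMap C (AdicCompletion I C))) ^ n).map
      (algebraMap (AdicCompletion I C) (AdicCompletion (I.map (algebraMap C L)) L)) =
      ((I.map (algebraMap C L)) ^ n).map
        (algebraMap L (AdicCompletion (I.map (algebraMap C L)) L)) := by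
    intro n
    rw [← Ideal.map_pow, ← Ideal.map_pow, Ideal.map_map, Ideal.map_map, hcomp]
  have hKfg : (I.map (algebraMap C L)).FG := IsNoetherian.noetherian _
  have hIfg : I.FG := IsNoetherian.noetherian _
  -- units
  have hunits : ∀ y : Algebra.algebraMapSubmonoid (AdicCompletion I C) M,
      IsUnit (algebraMap (AdicCompletion I C) (AdicCompletion (I.map (algebraMap C L)) L) y) := by
    rintro ⟨_, m, hm, rfl⟩
    rw [hof]
    exact (IsLocalization.map_units L (⟨m, hm⟩ : M)).map _
  letI : Algebra (Localization (Algebra.algebraMapSubmonoid (AdicCompletion I C) M))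
      (AdicCompletion (I.map (algebraMap C L)) L) :=
    (IsLocalization.lift (M := Algebra.algebraMapSubmonoid (AdicCompletion I C) M)
      (S := Localization (Algebra.algebraMapSubmonoid (AdicCompletion I C) M)) hunits).toAlgebra
  haveI : IsScalarTower (AdicCompletion I C)
      (Localization (Algebra.algebraMapSubmonoid (AdicCompletion I C) M))
      (AdicCompletion (I.map (algebraMap C L)) L) :=
    IsScalarTower.of_algebraMap_eq (fun x => (IsLocalization.lift_eq hunits x).symm)
  haveI : Module.Flat (AdicCompletion I C)
      (Localization (Algebra.algebraMapSubmonoid (AdicCompletion I C) M)) :=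
    IsLocalization.flat _ (Algebra.algebraMapSubmonoid (AdicCompletion I C) M)
  -- h1
  have h1 : (I.map (algebraMap C (AdicCompletion I C))).map
      (algebraMap (AdicCompletion I C) (AdicCompletion (I.map (algebraMap C L)) L)) ≤
      Ideal.jacobson ⊥ := by
    intro t ht
    have ht' : AdicCompletion.evalₐ (I.map (algebraMap C L)) 1 t = 0 := by
      have h0 := hmap 1
      rw [pow_one] at h0
      rw [h0] at ht
      exact evalₐ_eq_zero_of_mem_map _ 1 t ht
    rw [Ideal.mem_jacobson_bot]
    intro y
    refine isUnit_of_isUnit_evalₐ_one _ _ ?_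
    rw [map_add, map_mul, ht', zero_mul, zero_add, map_one]
    exact isUnit_one
  -- h2
  have h2 : ∀ (n : ℕ) (t : AdicCompletion (I.map (algebraMap C L)) L),
      ∃ s : Localization (Algebra.algebraMapSubmonoid (AdicCompletion I C) M),
        t - algebraMap _ _ s ∈ ((I.map (algebraMap C (AdicCompletion I C))) ^ n).map
          (algebraMap (AdicCompletion I C) (AdicCompletion (I.map (algebraMap C L)) L)) := by
    intro n t
    obtain ⟨ℓ, hℓ⟩ := Ideal.Quotient.mk_surjective
      (AdicCompletion.evalₐ (I.map (algebraMap C L)) n t)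
    obtain ⟨⟨c, m⟩, hcm⟩ := IsLocalization.surj M ℓ
    have hcm' : ℓ * algebraMap C L (m : C) = algebraMap C L c := hcm
    let m' : Algebra.algebraMapSubmonoid (AdicCompletion I C) M :=
      ⟨algebraMap C (AdicCompletion I C) m, Algebra.mem_algebraMapSubmonoid_of_mem m⟩
    refine ⟨IsLocalization.mk' _ (algebraMap C (AdicCompletion I C) c) m', ?_⟩
    rw [hmap]
    apply mem_map_of_evalₐ_eq_zero _ hKfg
    have hβ : algebraMap (Localization (Algebra.algebraMapSubmonoid (AdicCompletion I C) M))
        (AdicCompletion (I.map (algebraMap C L)) L)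
        (IsLocalization.mk' _ (algebraMap C (AdicCompletion I C) c) m') =
        algebraMap L (AdicCompletion (I.map (algebraMap C L)) L) ℓ := by
      have hu : IsUnit (algebraMap L (AdicCompletion (I.map (algebraMap C L)) L)
          (algebraMap C L (m : C))) := (IsLocalization.map_units L m).map _
      apply hu.mul_right_cancel
      have e1 : algebraMap L (AdicCompletion (I.map (algebraMap C L)) L) ℓ *
          algebraMap L (AdicCompletion (I.map (algebraMap C L)) L) (algebraMap C L (m : C)) =
          algebraMap L (AdicCompletion (I.map (algebraMap C L)) L) (algebraMap C L c) := by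
        rw [← map_mul, hcm']
      rw [e1, ← hof, ← hof,
        IsScalarTower.algebraMap_apply (AdicCompletion I C)
          (Localization (Algebra.algebraMapSubmonoid (AdicCompletion I C) M))
          (AdicCompletion (I.map (algebraMap C L)) L) (algebraMap C (AdicCompletion I C) (m : C)),
        IsScalarTower.algebraMap_apply (AdicCompletion I C)
          (Localization (Algebra.algebraMapSubmonoid (AdicCompletion I C) M))
          (AdicCompletion (I.map (algebraMap C L)) L) (algebraMap C (AdicCompletion I C) c),
        ← map_mul]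
      congr 1
      exact IsLocalization.mk'_spec _ _ m'
    rw [map_sub, hβ, ← hℓ, AlgHom.commutes, Ideal.Quotient.algebraMap_eq, sub_self]
  -- h3
  have h3 : ∀ (n : ℕ) (s : Localization (Algebra.algebraMapSubmonoid (AdicCompletion I C) M)),
      algebraMap _ (AdicCompletion (I.map (algebraMap C L)) L) s ∈
        ((I.map (algebraMap C (AdicCompletion I C))) ^ n).map
          (algebraMap (AdicCompletion I C) (AdicCompletion (I.map (algebraMap C L)) L)) →
      s ∈ ((I.map (algebraMap C (AdicCompletion I C))) ^ n).map
        (algebraMap (AdicCompletion I C)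
          (Localization (Algebra.algebraMapSubmonoid (AdicCompletion I C) M))) := by
    intro n s hs
    obtain ⟨x, y, rfl⟩ := IsLocalization.exists_mk'_eq
      (Algebra.algebraMapSubmonoid (AdicCompletion I C) M) s
    have hs' : algebraMap (AdicCompletion I C) (AdicCompletion (I.map (algebraMap C L)) L) x ∈
        ((I.map (algebraMap C (AdicCompletion I C))) ^ n).map
          (algebraMap (AdicCompletion I C) (AdicCompletion (I.map (algebraMap C L)) L)) := by
      have e : algebraMap (AdicCompletion I C) (AdicCompletion (I.map (algebraMap C L)) L) x =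
          algebraMap (Localization (Algebra.algebraMapSubmonoid (AdicCompletion I C) M))
            (AdicCompletion (I.map (algebraMap C L)) L) (IsLocalization.mk' _ x y) *
          algebraMap (AdicCompletion I C) (AdicCompletion (I.map (algebraMap C L)) L) y := by
        rw [IsScalarTower.algebraMap_apply (AdicCompletion I C)
          (Localization (Algebra.algebraMapSubmonoid (AdicCompletion I C) M))
          (AdicCompletion (I.map (algebraMap C L)) L) x,
          IsScalarTower.algebraMap_apply (AdicCompletion I C)
          (Localization (Algebra.algebraMapSubmonoid (AdicCompletion I C) M))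
          (AdicCompletion (I.map (algebraMap C L)) L) (y : AdicCompletion I C), ← map_mul,
          IsLocalization.mk'_spec]
      rw [e]
      exact Ideal.mul_mem_right _ _ hs
    rw [hmap] at hs'
    have hs'' := evalₐ_eq_zero_of_mem_map _ n _ hs'
    rw [halg, evalₐ_complMap] at hs''
    obtain ⟨c, hc⟩ := Ideal.Quotient.mk_surjective (AdicCompletion.evalₐ I n x)
    rw [← hc, Ideal.quotientMap_mk, Ideal.Quotient.eq_zero_iff_mem, ← Ideal.map_pow] at hs''
    obtain ⟨⟨a, μ⟩, haμ⟩ := (IsLocalization.mem_map_algebraMap_iff M L).1 hs''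
    have haμ' : algebraMap C L (c * (μ : C)) = algebraMap C L (a : C) := by
      rw [map_mul]; exact haμ
    obtain ⟨μ', hμ'⟩ := (IsLocalization.eq_iff_exists M L).1 haμ'
    have hν : ((μ' * μ : M) : C) * c ∈ I ^ n := by
      have e : ((μ' * μ : M) : C) * c = (μ' : C) * (a : C) := by
        rw [← hμ', Submonoid.coe_mul]; ring
      rw [e]
      exact Ideal.mul_mem_left _ _ a.2
    have hνx : algebraMap C (AdicCompletion I C) ((μ' * μ : M) : C) * x ∈
        (I.map (algebraMap C (AdicCompletion I C))) ^ n := by
      rw [← Ideal.map_pow]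
      apply mem_map_of_evalₐ_eq_zero _ hIfg
      rw [map_mul, AlgHom.commutes, Ideal.Quotient.algebraMap_eq, ← hc, ← map_mul,
        Ideal.Quotient.eq_zero_iff_mem]
      exact hν
    rw [IsLocalization.mem_map_algebraMap_iff
      (Algebra.algebraMapSubmonoid (AdicCompletion I C) M)]
    refine ⟨⟨⟨_, hνx⟩, y * ⟨algebraMap C (AdicCompletion I C) ((μ' * μ : M) : C),
      Algebra.mem_algebraMapSubmonoid_of_mem (μ' * μ)⟩⟩, ?_⟩
    simp only [Submonoid.coe_mul, map_mul]
    rw [← mul_assoc, IsLocalization.mk'_spec]
    ring
  exact Groth.Agent.Lib.Helper8.flat_of_approx'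
    (S := Localization (Algebra.algebraMapSubmonoid (AdicCompletion I C) M))
    (I.map (algebraMap C (AdicCompletion I C))) h1 h2 h3

end FL

section Stalk
variable (A : Type u) [CommRing A] [IsNoetherianRing A] (J : Ideal A) (𝔭 : Ideal A) [𝔭.IsPrime]

theorem flat_cAway (f : A) (hf : f ∉ 𝔭) :
    letI : Algebra (FSch.cAway A J f) (FSch.cAtPrime A J 𝔭) :=
      (FSch.cAwayToAtPrime A J 𝔭 f hf).toAlgebra
    Module.Flat (FSch.cAway A J f) (FSch.cAtPrime A J 𝔭) := by
  letI : Algebra (Localization.Away f) (Localization.AtPrime 𝔭) :=
    (FSch.awayToAtPrime A 𝔭 f hf).toAlgebra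
  haveI : IsScalarTower A (Localization.Away f) (Localization.AtPrime 𝔭) :=
    IsScalarTower.of_algebraMap_eq (fun a => by
      change _ = FSch.awayToAtPrime A 𝔭 f hf _
      simp [FSch.awayToAtPrime])
  have hle : Submonoid.powers f ≤ 𝔭.primeCompl := by
    rintro _ ⟨k, rfl⟩
    exact fun h => hf (Ideal.IsPrime.mem_of_pow_mem ‹_› k h)
  haveI : IsLocalization (𝔭.primeCompl.map (algebraMap A (Localization.Away f)))
      (Localization.AtPrime 𝔭) :=
    IsLocalization.isLocalization_of_submonoid_le (Localization.Away f) (Localization.AtPrime 𝔭)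
      (Submonoid.powers f) 𝔭.primeCompl hle
  haveI : IsNoetherianRing (Localization.Away f) :=
    IsLocalization.isNoetherianRing (Submonoid.powers f) _ inferInstance
  haveI : IsNoetherianRing (Localization.AtPrime 𝔭) :=
    IsLocalization.isNoetherianRing 𝔭.primeCompl _ inferInstance
  letI : Algebra (FSch.cAway A J f) (FSch.cAtPrime A J 𝔭) :=
    (FSch.cAwayToAtPrime A J 𝔭 f hf).toAlgebra
  have hK : (J.map (algebraMap A (Localization.Away f))).map
      (algebraMap (Localization.Away f) (Localization.AtPrime 𝔭)) =
      J.map (algebraMap A (Localization.AtPrime 𝔭)) := by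
    rw [Ideal.map_map, ← IsScalarTower.algebraMap_eq]
  exact flat_of_isLocalization (𝔭.primeCompl.map (algebraMap A (Localization.Away f))) _ _ hK
    (fun x => rfl)

end Stalk

end Groth.Agent.Lib.Helper6.StalkFlat
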