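import Mathlib
import Groth.Prelude.Def_FSch3
import Groth.Agent.Lib.Helper6.StalkSubring
import Groth.Agent.Lib.Helper6.StalkFlat

/-!
# The completed local ring `A{S⁻¹}` is faithfully flat over the stalk ring `A_{S}`, part 2 (helper6)
-/

set_option autoImplicit false
universe u

namespace Groth.Agent.Lib.Helper6.StalkFlat

open Groth.Agent.Lib.Helper6.StalkSubring

section Stalk
variable (A : Type u) [CommRing A] [IsNoetherianRing A] (J : Ideal A) (𝔭 : Ideal A) [𝔭.IsPrime]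

theorem flat_stalkSubring :
    Module.Flat (FSch.stalkSubring A J 𝔭) (FSch.cAtPrime A J 𝔭) := by
  classical
  rw [Module.Flat.iff_forall_isTrivialRelation]
  intro l b x hbx
  have hmem : ∀ i, ∃ (g : A) (hg : g ∉ 𝔭),
      (b i : FSch.cAtPrime A J 𝔭) ∈ (FSch.cAwayToAtPrime A J 𝔭 g hg).range :=
    fun i => (mem_stalkSubring_iff A J 𝔭 _).1 (b i).2
  choose g hg hgb using hmem
  have hG : (∏ i, g i) ∉ 𝔭 := by
    intro h
    obtain ⟨i, _, hi⟩ := Ideal.IsPrime.prod_mem_iff.1 h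
    exact hg i hi
  have hb' : ∀ i, (b i : FSch.cAtPrime A J 𝔭) ∈
      (FSch.cAwayToAtPrime A J 𝔭 (∏ i, g i) hG).range := fun i =>
    range_le_of_dvd A J 𝔭 (hg i) hG (Finset.dvd_prod_of_mem g (Finset.mem_univ i)) (hgb i)
  choose ξ hξ using hb'
  letI : Algebra (FSch.cAway A J (∏ i, g i)) (FSch.cAtPrime A J 𝔭) :=
    (FSch.cAwayToAtPrime A J 𝔭 (∏ i, g i) hG).toAlgebra
  haveI : Module.Flat (FSch.cAway A J (∏ i, g i)) (FSch.cAtPrime A J 𝔭) :=
    flat_cAway A J 𝔭 (∏ i, g i) hG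
  have hrel : ∑ i, ξ i • x i = 0 := by
    rw [← hbx]
    refine Finset.sum_congr rfl fun i _ => ?_
    rw [Algebra.smul_def]
    change FSch.cAwayToAtPrime A J 𝔭 (∏ i, g i) hG (ξ i) * x i =
      (b i : FSch.cAtPrime A J 𝔭) * x i
    rw [hξ]
  have htr : Module.IsTrivialRelation ξ x :=
    (Module.Flat.iff_forall_isTrivialRelation (R := FSch.cAway A J (∏ i, g i))
      (M := FSch.cAtPrime A J 𝔭)).1 inferInstance hrel
  obtain ⟨k, a, y, hxy, haj⟩ := htr
  refine ⟨k, fun i j => ⟨FSch.cAwayToAtPrime A J 𝔭 (∏ i, g i) hG (a i j),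
    (mem_stalkSubring_iff A J 𝔭 _).2 ⟨∏ i, g i, hG, a i j, rfl⟩⟩, y, fun i => ?_, fun j => ?_⟩
  · rw [hxy i]
    refine Finset.sum_congr rfl fun j _ => ?_
    rw [Algebra.smul_def]
    rfl
  · apply Subtype.ext
    have h0 := congrArg (FSch.cAwayToAtPrime A J 𝔭 (∏ i, g i) hG) (haj j)
    rw [map_sum, map_zero] at h0
    push_cast
    rw [← h0]
    refine Finset.sum_congr rfl fun i _ => ?_
    rw [map_mul, hξ]

theorem faithfullyFlat_stalkSubring (hJ : J ≤ 𝔭) :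
    Module.FaithfullyFlat (FSch.stalkSubring A J 𝔭) (FSch.cAtPrime A J 𝔭) := by
  obtain ⟨h1, h2⟩ := StalkSubring.main A J 𝔭 hJ
  haveI := h1
  haveI : IsLocalRing (FSch.cAtPrime A J 𝔭) := isLocalRing_cAtPrime A J 𝔭 hJ
  haveI : Module.Flat (FSch.stalkSubring A J 𝔭) (FSch.cAtPrime A J 𝔭) :=
    flat_stalkSubring A J 𝔭
  haveI : IsLocalHom (algebraMap (FSch.stalkSubring A J 𝔭) (FSch.cAtPrime A J 𝔭)) := h2
  exact Module.FaithfullyFlat.of_flat_of_isLocalHom

theorem isNoetherianRing_stalkSubring (hJ : J ≤ 𝔭) :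
    IsNoetherianRing (FSch.stalkSubring A J 𝔭) := by
  haveI := faithfullyFlat_stalkSubring A J 𝔭 hJ
  haveI : IsNoetherianRing (Localization.AtPrime 𝔭) :=
    IsLocalization.isNoetherianRing 𝔭.primeCompl _ inferInstance
  haveI : IsNoetherianRing (FSch.cAtPrime A J 𝔭) := Groth.Agent.S0543.result _ _
  exact Groth.Agent.Lib.Helper8.isNoetherianRing_of_faithfullyFlat
    (FSch.stalkSubring A J 𝔭) (FSch.cAtPrime A J 𝔭)

end Stalk

end Groth.Agent.Lib.Helper6.StalkFlat
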