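import Mathlib
import Groth.Prelude.Def_W4stkdualitygroupp2Univ

/-!
Helper6: a complete intersection `R[x_1..x_n]/(v_1..v_n)` is étale over `R` on the locus where the
Jacobian determinant is invertible; applied to the universal family `Synt.UnivAlg`.
-/

set_option autoImplicit false

namespace Groth.Agent.Lib.Helper6.SyntEtale

open MvPolynomial

section general

variable {R : Type*} [CommRing R] {n : ℕ} (v : Fin n → MvPolynomial (Fin n) R)

/-- the naive presubmersive presentation of `R[x]/(v)` -/
noncomputable def P0 : Algebra.PreSubmersivePresentation R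
    (MvPolynomial (Fin n) R ⧸ Ideal.span (Set.range v)) (Fin n) (Fin n) :=
  Algebra.PreSubmersivePresentation.naive (v := v) id Function.injective_id

theorem etale_away : Algebra.Etale R (Localization.Away (P0 v).jacobian) := by
  let Q := Algebra.PreSubmersivePresentation.localizationAway
    (Localization.Away (P0 v).jacobian) (P0 v).jacobian
  let PQ : Algebra.SubmersivePresentation R (Localization.Away (P0 v).jacobian)
      (Unit ⊕ Fin n) (Unit ⊕ Fin n) :=
    { toPreSubmersivePresentation := Q.comp (P0 v)
      jacobian_isUnit := by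
        rw [Algebra.PreSubmersivePresentation.comp_jacobian_eq_jacobian_smul_jacobian,
          Algebra.PreSubmersivePresentation.localizationAway_jacobian, Algebra.smul_def]
        exact (IsLocalization.Away.algebraMap_isUnit _).mul
          (IsLocalization.Away.algebraMap_isUnit _) }
  haveI : Algebra.IsStandardSmoothOfRelativeDimension 0 R
      (Localization.Away (P0 v).jacobian) :=
    PQ.isStandardSmoothOfRelativeDimension (by simp [Algebra.Presentation.dimension])
  infer_instance

theorem isEtaleAt_of_notMem (q : Ideal (MvPolynomial (Fin n) R ⧸ Ideal.span (Set.range v)))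
    [q.IsPrime] (hq : (P0 v).jacobian ∉ q) : Algebra.IsEtaleAt R q := by
  haveI := etale_away v
  have hsub := (Algebra.basicOpen_subset_etaleLocus_iff (R := R)
    (f := (P0 v).jacobian)).mpr inferInstance
  exact hsub (show (⟨q, inferInstance⟩ : PrimeSpectrum _) ∈ PrimeSpectrum.basicOpen _ from hq)

theorem quasiFiniteAt_of_notMem (q : Ideal (MvPolynomial (Fin n) R ⧸ Ideal.span (Set.range v)))
    [q.IsPrime] (hq : (P0 v).jacobian ∉ q) : Algebra.QuasiFiniteAt R q := by
  haveI : Algebra.IsEtaleAt R q := isEtaleAt_of_notMem v q hq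
  haveI : Algebra.FiniteType R (MvPolynomial (Fin n) R ⧸ Ideal.span (Set.range v)) :=
    (P0 v).toGenerators.finiteType
  haveI : Algebra.EssFiniteType R (Localization.AtPrime q) :=
    Algebra.EssFiniteType.comp R (MvPolynomial (Fin n) R ⧸ Ideal.span (Set.range v)) _
  show Algebra.QuasiFinite R (Localization.AtPrime q)
  infer_instance

/-- a point of the quotient: a ring hom from the polynomial ring killing the `v i`, at which the
Jacobian matrix is the identity, gives a prime at which the quotient is étale and quasi-finite. -/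
theorem exists_prime (ψ : MvPolynomial (Fin n) R →+* ℤ) (hv : ∀ i, ψ (v i) = 0)
    (hJ : ∀ i j, ψ (pderiv i (v j)) = if i = j then 1 else 0) :
    ∃ q : PrimeSpectrum (MvPolynomial (Fin n) R ⧸ Ideal.span (Set.range v)),
      Algebra.QuasiFiniteAt R q.asIdeal ∧ Algebra.IsEtaleAt R q.asIdeal := by
  have hle : ∀ a ∈ Ideal.span (Set.range v), ψ a = 0 := by
    intro a ha
    have : Ideal.span (Set.range v) ≤ RingHom.ker ψ :=
      Ideal.span_le.mpr (by rintro _ ⟨i, rfl⟩; exact hv i)
    exact this ha
  let φ : (MvPolynomial (Fin n) R ⧸ Ideal.span (Set.range v)) →+* ℤ :=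
    Ideal.Quotient.lift _ ψ hle
  haveI hprime : (RingHom.ker φ).IsPrime := RingHom.ker_isPrime φ
  have hjac : φ (P0 v).jacobian = 1 := by
    rw [Algebra.PreSubmersivePresentation.jacobian_eq_jacobiMatrix_det]
    have h1 : ∀ x : MvPolynomial (Fin n) R,
        φ (algebraMap (P0 v).Ring _ x) = ψ x := fun x => Ideal.Quotient.lift_mk _ ψ hle
    rw [h1, RingHom.map_det]
    have h2 : ψ.mapMatrix (P0 v).jacobiMatrix = 1 := by
      ext i j
      rw [RingHom.mapMatrix_apply, Matrix.map_apply, Matrix.one_apply]
      have h3 : (P0 v).jacobiMatrix i j = pderiv i (v j) := by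
        unfold P0
        exact Algebra.PreSubmersivePresentation.jacobiMatrix_naive _ _ _ _ i j
      rw [h3]
      exact hJ i j
    rw [h2, Matrix.det_one]
  have hnot : (P0 v).jacobian ∉ RingHom.ker φ := by
    rw [RingHom.mem_ker, hjac]
    exact one_ne_zero
  exact ⟨⟨RingHom.ker φ, hprime⟩, quasiFiniteAt_of_notMem v _ hnot, isEtaleAt_of_notMem v _ hnot⟩

end general

section univ

variable (n d : ℕ)

/-- the exponent index with 1 in place j -/
def Ej (hd : 1 ≤ d) (j : Fin n) : Synt.UnivIdx n d :=
  ⟨fun k => if k = j then ⟨1, by omega⟩ else ⟨0, by omega⟩, by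
    have : ∀ k : Fin n, ((if k = j then (⟨1, by omega⟩ : Fin (d + 1)) else ⟨0, by omega⟩ :
        Fin (d + 1)) : ℕ) = if k = j then 1 else 0 := by
      intro k; split_ifs <;> rfl
    simp only [this, Finset.sum_ite_eq', Finset.mem_univ, if_true]
    exact hd⟩

lemma exponent_Ej (hd : 1 ≤ d) (j : Fin n) :
    (Ej n d hd j).exponent = Finsupp.single j 1 := by
  ext k
  rw [Finsupp.single_apply]
  show ((if k = j then (⟨1, by omega⟩ : Fin (d + 1)) else ⟨0, by omega⟩ : Fin (d + 1)) : ℕ) = _
  split_ifs with h1 h2 h2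
  · rfl
  · exact absurd h1.symm h2
  · exact absurd h2.symm h1
  · rfl

noncomputable def cpt (hd : 1 ≤ d) : Fin n × Synt.UnivIdx n d → ℤ :=
  fun p => if p.2 = Ej n d hd p.1 then 1 else 0

noncomputable def psi (hd : 1 ≤ d) : MvPolynomial (Fin n) (Synt.UnivBase n d) →+* ℤ :=
  (MvPolynomial.eval (cpt n d hd)).comp MvPolynomial.constantCoeff

lemma psi_monomial (hd : 1 ≤ d) (s : Fin n →₀ ℕ) (a : Synt.UnivBase n d) :
    psi n d hd (monomial s a) = if s = 0 then MvPolynomial.eval (cpt n d hd) a else 0 := by
  by_cases h : s = 0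
  · subst h; simp [psi]
  · simp [psi, constantCoeff_monomial, h]

lemma psi_univPoly (hd : 1 ≤ d) (j : Fin n) : psi n d hd (Synt.univPoly n d j) = 0 := by
  unfold Synt.univPoly
  rw [map_sum]
  refine Finset.sum_eq_zero fun E _ => ?_
  rw [psi_monomial]
  split_ifs with h
  · rw [MvPolynomial.eval_X]
    show (if E = Ej n d hd j then (1 : ℤ) else 0) = 0
    rw [if_neg]
    rintro rfl
    rw [exponent_Ej] at h
    have := DFunLike.congr_fun h j
    simp at this
  · rfl

lemma psi_pderiv (hd : 1 ≤ d) (i j : Fin n) :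
    psi n d hd (pderiv i (Synt.univPoly n d j)) = if i = j then 1 else 0 := by
  unfold Synt.univPoly
  rw [map_sum, map_sum]
  rw [Finset.sum_eq_single (Ej n d hd j)]
  · rw [pderiv_monomial, psi_monomial, exponent_Ej]
    by_cases hij : i = j
    · subst hij
      simp [cpt]
    · rw [if_neg hij]
      have h0 : (Finsupp.single j 1 : Fin n →₀ ℕ) i = 0 := by
        rw [Finsupp.single_apply, if_neg (Ne.symm hij)]
      simp [h0]
  · intro E _ hE
    rw [pderiv_monomial, psi_monomial]
    split_ifs
    · rw [map_mul, eval_X]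
      simp [cpt, hE]
    · rfl
  · intro h; exact absurd (Finset.mem_univ _) h

theorem main (hd : 1 ≤ d) : ∃ q : PrimeSpectrum (Synt.UnivAlg n d),
    Algebra.QuasiFiniteAt (Synt.UnivBase n d) q.asIdeal ∧
      Algebra.IsEtaleAt (Synt.UnivBase n d) q.asIdeal :=
  exists_prime (Synt.univPoly n d) (psi n d hd) (psi_univPoly n d hd) (psi_pderiv n d hd)

end univ

end Groth.Agent.Lib.Helper6.SyntEtale
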