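import Groth.Prelude.Def_FSch3

/-!
# Levelwise pullback squares of systems are pullback squares
-/

universe u

open CategoryTheory CategoryTheory.Limits AlgebraicGeometry

namespace Groth.Agent.Lib.Helper6.SysPullback

open FSch

theorem hom_app_congr {𝔛 𝔜 : Sys.{u}} {f g : 𝔛 ⟶ 𝔜} (h : f = g) (n : ℕ) :
    (f : Hom 𝔛 𝔜).app n = (g : Hom 𝔛 𝔜).app n := by rw [h]

theorem isPullback_of_levelwise {P 𝔛 𝔜 𝔖 : Sys.{u}} (a : P ⟶ 𝔛) (b : P ⟶ 𝔜) (f : 𝔛 ⟶ 𝔖)
    (g : 𝔜 ⟶ 𝔖)
    (h : ∀ n, IsPullback ((a : Hom _ _).app n) ((b : Hom _ _).app n) ((f : Hom _ _).app n)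
      ((g : Hom _ _).app n)) :
    IsPullback a b f g := by
  have w : a ≫ f = b ≫ g := Hom.ext (funext fun n => (h n).w)
  let lift : ∀ s : PullbackCone f g, s.pt ⟶ P := fun s =>
    (⟨fun n => (h n).lift ((s.fst : Hom _ _).app n) ((s.snd : Hom _ _).app n)
        (hom_app_congr s.condition n),
      fun n => by
        apply (h (n + 1)).hom_ext
        · rw [Category.assoc, Category.assoc, IsPullback.lift_fst, ← (a : Hom _ _).comm n,
            ← Category.assoc, IsPullback.lift_fst]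
          exact (s.fst : Hom _ _).comm n
        · rw [Category.assoc, Category.assoc, IsPullback.lift_snd, ← (b : Hom _ _).comm n,
            ← Category.assoc, IsPullback.lift_snd]
          exact (s.snd : Hom _ _).comm n⟩ : Hom s.pt P)
  refine ⟨⟨w⟩, ⟨PullbackCone.IsLimit.mk w lift ?_ ?_ ?_⟩⟩
  · intro s
    exact Hom.ext (funext fun n => (h n).lift_fst _ _ _)
  · intro s
    exact Hom.ext (funext fun n => (h n).lift_snd _ _ _)
  · intro s m hm1 hm2
    refine Hom.ext (funext fun n => (h n).hom_ext ?_ ?_)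
    · rw [IsPullback.lift_fst]
      exact hom_app_congr hm1 n
    · rw [IsPullback.lift_snd]
      exact hom_app_congr hm2 n

end Groth.Agent.Lib.Helper6.SysPullback
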