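import Mathlib
import Groth.Prelude.Def_LefPen

/-!
# Codimension of the space of forms tangent to two linear spaces at two points
-/

namespace Groth.Agent.Lib.Helper6.TangForms

open MvPolynomial

universe u

variable (k : Type u) [Field k] {r : ℕ} {d : ℕ}

theorem finite_form : Module.Finite k (LefPen.Form r k d) :=
  Module.Finite.iff_fg.2 (MvPolynomial.homogeneousSubmodule_fg (Fin (r + 1)) k d)

/-- evaluation functional on forms -/
noncomputable def ev (v : Fin (r + 1) → k) : LefPen.Form r k d →ₗ[k] k :=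
  (MvPolynomial.aeval v).toLinearMap ∘ₗ (CohB1.polyGrading r k d).subtype

/-- partial derivative evaluated -/
noncomputable def dd (v : Fin (r + 1) → k) (i : Fin (r + 1)) : LefPen.Form r k d →ₗ[k] k :=
  (MvPolynomial.aeval v).toLinearMap ∘ₗ (MvPolynomial.pderiv i).toLinearMap ∘ₗ
    (CohB1.polyGrading r k d).subtype

lemma ev_apply (v : Fin (r + 1) → k) (G : LefPen.Form r k d) :
    ev k v G = MvPolynomial.aeval v G.1 := rfl

lemma dd_apply (v : Fin (r + 1) → k) (i : Fin (r + 1)) (G : LefPen.Form r k d) :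
    dd k v i G = MvPolynomial.aeval v (MvPolynomial.pderiv i G.1) := rfl

/-- directional derivative functional, linear in the direction -/
noncomputable def Dlin (v : Fin (r + 1) → k) :
    (Fin (r + 1) → k) →ₗ[k] Module.Dual k (LefPen.Form r k d) where
  toFun w := ∑ i, w i • dd k v i
  map_add' a b := by simp only [Pi.add_apply, add_smul, Finset.sum_add_distrib]
  map_smul' c a := by
    simp only [Pi.smul_apply, smul_eq_mul, mul_smul, Finset.smul_sum, RingHom.id_apply]

lemma Dlin_apply (v w : Fin (r + 1) → k) (G : LefPen.Form r k d) :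
    Dlin k v w G = ∑ i, w i * MvPolynomial.aeval v (MvPolynomial.pderiv i G.1) := by
  show (∑ i, w i • dd k v i) G = _
  rw [LinearMap.sum_apply]
  rfl

lemma mem_ker_tangLin (W : Submodule k (Fin (r + 1) → k)) (v : Fin (r + 1) → k)
    (G : LefPen.Form r k d) :
    G ∈ LinearMap.ker (LefPen.tangLin k W v (d := d)) ↔
      ev k v G = 0 ∧ ∀ w : ↥W, Dlin k v w.1 G = 0 := by
  rw [LinearMap.mem_ker]
  unfold LefPen.tangLin
  rw [LinearMap.prod_apply, Prod.mk_eq_zero]
  refine and_congr Iff.rfl ?_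
  rw [funext_iff]
  exact forall_congr' fun w => Iff.rfl

/-- Euler's identity -/
lemma euler (v : Fin (r + 1) → k) : Dlin k v v = (d : k) • ev k v (d := d) := by
  apply LinearMap.ext
  intro G
  rw [Dlin_apply, LinearMap.smul_apply, ev_apply, smul_eq_mul]
  have hG : G.1.IsHomogeneous d := (MvPolynomial.mem_homogeneousSubmodule _ _).mp G.2
  have := congrArg (MvPolynomial.aeval v) hG.sum_X_mul_pderiv
  rw [map_sum] at this
  simp only [map_mul, aeval_X, nsmul_eq_mul, map_natCast] at this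
  exact this

lemma pderiv_comm (i j : Fin (r + 1)) (p : MvPolynomial (Fin (r + 1)) k) :
    pderiv i (pderiv j p) = pderiv j (pderiv i p) := by
  have key : ∀ (a b l : Fin (r + 1)),
      pderiv a (pderiv b (X l : MvPolynomial (Fin (r + 1)) k)) = 0 := by
    intro a b l
    by_cases hbl : l = b
    · subst hbl
      have h1 : pderiv l (X l : MvPolynomial (Fin (r + 1)) k) = 1 := pderiv_X_self l
      rw [h1]
      exact pderiv_one
    · have h1 : pderiv b (X l : MvPolynomial (Fin (r + 1)) k) = 0 :=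
        pderiv_X_of_ne (fun h => hbl h)
      rw [h1]
      exact map_zero _
  have h : ⁅(pderiv i : Derivation k (MvPolynomial (Fin (r + 1)) k) (MvPolynomial (Fin (r + 1)) k)),
      (pderiv j : Derivation k (MvPolynomial (Fin (r + 1)) k) (MvPolynomial (Fin (r + 1)) k))⁆ = 0 := by
    apply MvPolynomial.derivation_ext
    intro l
    rw [Derivation.commutator_apply, key, key, sub_zero]
    rfl
  have := DFunLike.congr_fun h p
  rw [Derivation.commutator_apply] at this
  exact sub_eq_zero.mp this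

lemma symm2 (v w : Fin (r + 1) → k) (G : LefPen.Form r k 2) :
    Dlin k v w G = Dlin k w v G := by
  have hG : G.1.IsHomogeneous 2 := (MvPolynomial.mem_homogeneousSubmodule _ _).mp G.2
  have h1 : ∀ (u : Fin (r + 1) → k) (i : Fin (r + 1)),
      aeval u (pderiv i G.1) = ∑ j, u j * coeff 0 (pderiv j (pderiv i G.1)) := by
    intro u i
    have hi : (pderiv i G.1).IsHomogeneous 1 := hG.pderiv
    have := congrArg (aeval u) hi.sum_X_mul_pderiv
    rw [map_sum] at this
    simp only [map_mul, aeval_X, one_smul] at this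
    rw [← this]
    refine Finset.sum_congr rfl fun j _ => ?_
    have h0 : (pderiv j (pderiv i G.1)).IsHomogeneous 0 := hi.pderiv
    have hc : pderiv j (pderiv i G.1) = C (coeff 0 (pderiv j (pderiv i G.1))) := by
      rw [← totalDegree_zero_iff_isHomogeneous, totalDegree_eq_zero_iff_eq_C] at h0
      exact h0
    conv_lhs => rw [hc]
    simp
  rw [Dlin_apply, Dlin_apply]
  simp only [h1, Finset.mul_sum]
  rw [Finset.sum_comm]
  refine Finset.sum_congr rfl fun i _ => Finset.sum_congr rfl fun j _ => ?_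
  rw [pderiv_comm k i j G.1]
  ring

/-- linear form with coefficient vector `a` -/
noncomputable def lin (a : Fin (r + 1) → k) : MvPolynomial (Fin (r + 1)) k :=
  ∑ l, C (a l) * X l

lemma lin_hom (a : Fin (r + 1) → k) : (lin k a).IsHomogeneous 1 := by
  unfold lin
  exact IsHomogeneous.sum _ _ _ (fun l _ => isHomogeneous_C_mul_X (a l) l)

lemma aeval_lin (a v : Fin (r + 1) → k) : aeval v (lin k a) = a ⬝ᵥ v := by
  simp [lin, dotProduct]

lemma pderiv_lin (a : Fin (r + 1) → k) (i : Fin (r + 1)) : pderiv i (lin k a) = C (a i) := by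
  unfold lin
  rw [map_sum]
  simp only [pderiv_C_mul, pderiv_X]
  rw [Finset.sum_eq_single i]
  · rw [Pi.single_eq_same, mul_one]
  · intro b _ hb
    rw [Pi.single_eq_of_ne hb, mul_zero]
  · intro hh
    exact absurd (Finset.mem_univ _) hh

/-- test forms `ℓ^(d-1) * X_j` -/
noncomputable def tf (hd : 1 ≤ d) (a : Fin (r + 1) → k) (j : Fin (r + 1)) : LefPen.Form r k d :=
  ⟨lin k a ^ (d - 1) * X j, by
    rw [MvPolynomial.mem_homogeneousSubmodule]
    have h := ((lin_hom k a).pow (d - 1)).mul (isHomogeneous_X k j)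
    simpa [Nat.sub_add_cancel hd] using h⟩

lemma ev_tf (hd : 1 ≤ d) (a v : Fin (r + 1) → k) (j : Fin (r + 1)) :
    ev k v (tf k hd a j) = (a ⬝ᵥ v) ^ (d - 1) * v j := by
  show aeval v (lin k a ^ (d - 1) * X j) = _
  rw [map_mul, map_pow, aeval_lin, aeval_X]

lemma Dlin_tf (hd : 1 ≤ d) (a v w : Fin (r + 1) → k) (j : Fin (r + 1)) :
    Dlin k v w (tf k hd a j) =
      ((d - 1 : ℕ) : k) * (a ⬝ᵥ v) ^ (d - 1 - 1) * (a ⬝ᵥ w) * v j + (a ⬝ᵥ v) ^ (d - 1) * w j := by
  rw [Dlin_apply]
  have hterm : ∀ i, w i * aeval v (pderiv i (tf k hd a j).1) =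
      ((d - 1 : ℕ) : k) * (a ⬝ᵥ v) ^ (d - 1 - 1) * v j * (a i * w i)
        + (a ⬝ᵥ v) ^ (d - 1) * (if i = j then w i else 0) := by
    intro i
    show w i * aeval v (pderiv i (lin k a ^ (d - 1) * X j)) = _
    rw [pderiv_mul, pderiv_pow, pderiv_lin, pderiv_X]
    simp only [map_add, map_mul, map_pow, map_natCast, aeval_lin, aeval_X, aeval_C,
      Algebra.algebraMap_self, RingHom.id_apply, Pi.single_apply]
    by_cases hij : i = j
    · subst hij
      simp only [if_true, map_one]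
      ring
    · rw [if_neg (fun h => hij h.symm), if_neg hij, map_zero]
      ring
  rw [Finset.sum_congr rfl (fun i _ => hterm i), Finset.sum_add_distrib, ← Finset.mul_sum,
    ← Finset.mul_sum, Finset.sum_ite_eq' Finset.univ j w]
  simp only [Finset.mem_univ, if_true]
  have : ∑ i, a i * w i = a ⬝ᵥ w := rfl
  rw [this]
  ring

section Main

variable {k}
variable (W₁ W₂ : Submodule k (Fin (r + 1) → k)) (v₁ v₂ : Fin (r + 1) → k)

/-- the map whose range is the span of the tangency conditions -/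
noncomputable def Psi : ((k × ↥W₁) × (k × ↥W₂)) →ₗ[k] Module.Dual k (LefPen.Form r k d) :=
  LinearMap.coprod
    (LinearMap.coprod (LinearMap.toSpanSingleton k _ (ev k v₁)) ((Dlin k v₁).comp W₁.subtype))
    (LinearMap.coprod (LinearMap.toSpanSingleton k _ (ev k v₂)) ((Dlin k v₂).comp W₂.subtype))

lemma Psi_apply (u : (k × ↥W₁) × (k × ↥W₂)) :
    Psi W₁ W₂ v₁ v₂ (d := d) u =
      (u.1.1 • ev k v₁ + Dlin k v₁ u.1.2.1) + (u.2.1 • ev k v₂ + Dlin k v₂ u.2.2.1) := by
  simp only [Psi, LinearMap.coprod_apply, LinearMap.toSpanSingleton_apply, LinearMap.comp_apply,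
    Submodule.subtype_apply]

lemma tangentForms_eq :
    LefPen.tangentForms k d W₁ v₁ W₂ v₂ =
      (LinearMap.range (Psi W₁ W₂ v₁ v₂ (d := d))).dualCoannihilator := by
  ext G
  rw [LefPen.tangentForms, Submodule.mem_inf, mem_ker_tangLin, mem_ker_tangLin,
    Submodule.mem_dualCoannihilator]
  constructor
  · rintro ⟨⟨h1, h2⟩, h3, h4⟩ φ ⟨u, rfl⟩
    rw [Psi_apply]
    simp only [LinearMap.add_apply, LinearMap.smul_apply, h1, h3, h2 u.1.2, h4 u.2.2, smul_zero,
      add_zero]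
  · intro h
    refine ⟨⟨?_, fun w => ?_⟩, ?_, fun w => ?_⟩
    · have := h _ ⟨((1, 0), (0, 0)), rfl⟩
      rw [Psi_apply] at this
      simpa using this
    · have := h _ ⟨((0, w), (0, 0)), rfl⟩
      rw [Psi_apply] at this
      simpa using this
    · have := h _ ⟨((0, 0), (1, 0)), rfl⟩
      rw [Psi_apply] at this
      simpa using this
    · have := h _ ⟨((0, 0), (0, w)), rfl⟩
      rw [Psi_apply] at this
      simpa using this

lemma exists_dual_one (x y : Fin (r + 1) → k) (hx : x ∉ Submodule.span k {y}) :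
    ∃ a : Fin (r + 1) → k, a ⬝ᵥ x = 1 ∧ a ⬝ᵥ y = 0 := by
  obtain ⟨f, hfx, hf⟩ := Submodule.exists_dual_map_eq_bot_of_notMem hx inferInstance
  have hfy : f y = 0 := by
    have : f y ∈ (Submodule.span k {y}).map f :=
      Submodule.mem_map_of_mem (Submodule.mem_span_singleton_self y)
    rw [hf] at this
    exact this
  refine ⟨(f x)⁻¹ • (dotProductEquiv k (Fin (r + 1))).symm f, ?_, ?_⟩
  · rw [smul_dotProduct, ← dotProductEquiv_apply_apply, LinearEquiv.apply_symm_apply, smul_eq_mul,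
      inv_mul_cancel₀ hfx]
  · rw [smul_dotProduct, ← dotProductEquiv_apply_apply, LinearEquiv.apply_symm_apply, hfy,
      smul_zero]

lemma exists_dual (hv : LinearIndependent k ![v₁, v₂]) :
    ∃ a₁ a₂ : Fin (r + 1) → k, a₁ ⬝ᵥ v₁ = 1 ∧ a₁ ⬝ᵥ v₂ = 0 ∧ a₂ ⬝ᵥ v₁ = 0 ∧ a₂ ⬝ᵥ v₂ = 1 := by
  rw [LinearIndependent.pair_iff] at hv
  have hx1 : v₁ ∉ Submodule.span k {v₂} := by
    intro h
    obtain ⟨c, hc⟩ := Submodule.mem_span_singleton.mp h
    have := hv 1 (-c) (by rw [one_smul, neg_smul, hc, add_neg_cancel])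
    exact one_ne_zero this.1
  have hx2 : v₂ ∉ Submodule.span k {v₁} := by
    intro h
    obtain ⟨c, hc⟩ := Submodule.mem_span_singleton.mp h
    have := hv (-c) 1 (by rw [one_smul, neg_smul, hc, neg_add_cancel])
    exact one_ne_zero this.2
  obtain ⟨a₁, h11, h12⟩ := exists_dual_one v₁ v₂ hx1
  obtain ⟨a₂, h22, h21⟩ := exists_dual_one v₂ v₁ hx2
  exact ⟨a₁, a₂, h11, h12, h21, h22⟩

lemma ker_sub (hd : 2 ≤ d) (hv : LinearIndependent k ![v₁, v₂])
    (u : (k × ↥W₁) × (k × ↥W₂)) (hu : Psi W₁ W₂ v₁ v₂ (d := d) u = 0) :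
    ∃ A B C : k, u.1.1 = -((d : k) * A) ∧ (u.1.2 : Fin (r + 1) → k) = A • v₁ + B • v₂ ∧
      u.2.1 = -((d : k) * C) ∧ (u.2.2 : Fin (r + 1) → k) = C • v₂ - B • v₁ ∧
      (3 ≤ d → B = 0) := by
  obtain ⟨a₁, a₂, h11, h12, h21, h22⟩ := exists_dual v₁ v₂ hv
  obtain ⟨⟨c₁, w₁⟩, ⟨c₂, w₂⟩⟩ := u
  have hd1 : 1 ≤ d := by omega
  have hne : d - 1 ≠ 0 := by omega
  have hrel : ∀ (a : Fin (r + 1) → k) (j : Fin (r + 1)),
      c₁ * ((a ⬝ᵥ v₁) ^ (d - 1) * v₁ j)
        + (((d - 1 : ℕ) : k) * (a ⬝ᵥ v₁) ^ (d - 1 - 1) * (a ⬝ᵥ w₁.1) * v₁ j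
          + (a ⬝ᵥ v₁) ^ (d - 1) * w₁.1 j)
        + (c₂ * ((a ⬝ᵥ v₂) ^ (d - 1) * v₂ j)
          + (((d - 1 : ℕ) : k) * (a ⬝ᵥ v₂) ^ (d - 1 - 1) * (a ⬝ᵥ w₂.1) * v₂ j
            + (a ⬝ᵥ v₂) ^ (d - 1) * w₂.1 j)) = 0 := by
    intro a j
    have := LinearMap.congr_fun hu (tf k hd1 a j)
    rw [Psi_apply] at this
    simpa only [LinearMap.add_apply, LinearMap.smul_apply, smul_eq_mul, ev_tf, Dlin_tf,
      LinearMap.zero_apply] using this
  obtain ⟨e, he⟩ : ∃ e : k, e = ((d - 1 : ℕ) : k) * (0 : k) ^ (d - 1 - 1) := ⟨_, rfl⟩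
  obtain ⟨A, hA⟩ : ∃ A : k, A = a₁ ⬝ᵥ w₁.1 := ⟨_, rfl⟩
  obtain ⟨B', hB'⟩ : ∃ B' : k, B' = a₁ ⬝ᵥ w₂.1 := ⟨_, rfl⟩
  obtain ⟨B, hB⟩ : ∃ B : k, B = a₂ ⬝ᵥ w₁.1 := ⟨_, rfl⟩
  obtain ⟨C, hC⟩ : ∃ C : k, C = a₂ ⬝ᵥ w₂.1 := ⟨_, rfl⟩
  obtain ⟨D, hD⟩ : ∃ D : k, D = ((d - 1 : ℕ) : k) := ⟨_, rfl⟩
  have e1 : ∀ j, c₁ * v₁ j + (D * A) * v₁ j + w₁.1 j + (e * B') * v₂ j = 0 := by
    intro j
    have := hrel a₁ j
    simp only [h11, h12, one_pow, zero_pow hne, one_mul, mul_one, zero_mul, mul_zero,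
      add_zero] at this
    rw [hA, hB', he, hD]
    linear_combination this
  have e2 : ∀ j, (e * B) * v₁ j + c₂ * v₂ j + (D * C) * v₂ j + w₂.1 j = 0 := by
    intro j
    have := hrel a₂ j
    simp only [h21, h22, one_pow, zero_pow hne, one_mul, mul_one, zero_mul, mul_zero,
      add_zero, zero_add] at this
    rw [hB, hC, he, hD]
    linear_combination this
  have E1 : c₁ • v₁ + (D * A) • v₁ + w₁.1 + (e * B') • v₂ = 0 := by
    funext j
    simpa using e1 j
  have E2 : (e * B) • v₁ + c₂ • v₂ + (D * C) • v₂ + w₂.1 = 0 := by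
    funext j
    simpa using e2 j
  have F1 : c₁ + D * A + A = 0 := by
    have := congrArg (fun z => a₁ ⬝ᵥ z) E1
    simp only [dotProduct_add, dotProduct_smul, smul_eq_mul, dotProduct_zero, h11, h12,
      ← hA] at this
    linear_combination this
  have F2 : B + e * B' = 0 := by
    have := congrArg (fun z => a₂ ⬝ᵥ z) E1
    simp only [dotProduct_add, dotProduct_smul, smul_eq_mul, dotProduct_zero, h21, h22,
      ← hB] at this
    linear_combination this
  have F3 : c₂ + D * C + C = 0 := by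
    have := congrArg (fun z => a₂ ⬝ᵥ z) E2
    simp only [dotProduct_add, dotProduct_smul, smul_eq_mul, dotProduct_zero, h21, h22,
      ← hC] at this
    linear_combination this
  have hcast : D + 1 = (d : k) := by
    rw [hD]
    have : (d - 1 + 1 : ℕ) = d := Nat.sub_add_cancel hd1
    exact_mod_cast congrArg (Nat.cast : ℕ → k) this
  have hBe : e * B = B ∧ (3 ≤ d → B = 0) := by
    rcases Nat.lt_or_ge d 3 with h3 | h3
    · have hd2 : d = 2 := by omega
      subst hd2
      have : e = 1 := by rw [he]; norm_num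
      rw [this, one_mul]
      exact ⟨rfl, fun h => absurd h (by omega)⟩
    · have : e = 0 := by
        rw [he, zero_pow (by omega : d - 1 - 1 ≠ 0), mul_zero]
      rw [this, zero_mul] at F2 ⊢
      have hB0 : B = 0 := by linear_combination F2
      exact ⟨by rw [hB0], fun _ => hB0⟩
  refine ⟨A, B, C, ?_, ?_, ?_, ?_, hBe.2⟩
  · show c₁ = -((d : k) * A)
    linear_combination F1 - A * hcast
  · show (w₁ : Fin (r + 1) → k) = A • v₁ + B • v₂
    funext j
    simp only [Pi.add_apply, Pi.smul_apply, smul_eq_mul]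
    linear_combination e1 j - v₁ j * F1 - v₂ j * F2
  · show c₂ = -((d : k) * C)
    linear_combination F3 - C * hcast
  · show (w₂ : Fin (r + 1) → k) = C • v₂ - B • v₁
    funext j
    simp only [Pi.sub_apply, Pi.smul_apply, smul_eq_mul]
    linear_combination e2 j - v₂ j * F3 - v₁ j * hBe.1

lemma ker_sup (A B C : k) (hB : B = 0 ∨ d = 2) (w1 : ↥W₁) (w2 : ↥W₂)
    (hw1 : (w1 : Fin (r + 1) → k) = A • v₁ + B • v₂)
    (hw2 : (w2 : Fin (r + 1) → k) = C • v₂ - B • v₁) :
    Psi W₁ W₂ v₁ v₂ (d := d) ((-((d : k) * A), w1), (-((d : k) * C), w2)) = 0 := by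
  rw [Psi_apply]
  simp only
  rw [hw1, hw2, map_add, map_sub, map_smul, map_smul, map_smul, map_smul, euler, euler]
  apply LinearMap.ext
  intro G
  simp only [LinearMap.add_apply, LinearMap.smul_apply, LinearMap.sub_apply, smul_eq_mul,
    LinearMap.zero_apply]
  rcases hB with hB | hB
  · rw [hB]
    ring
  · subst hB
    rw [symm2 k v₁ v₂ G]
    ring

variable (h₁ : v₁ ∈ W₁) (h₂ : v₂ ∈ W₂)

/-- parametrisation of the kernel, generic case -/
noncomputable def iota2 : (k × k) →ₗ[k] ((k × ↥W₁) × (k × ↥W₂)) where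
  toFun x := ((-((d : k) * x.1), x.1 • ⟨v₁, h₁⟩), (-((d : k) * x.2), x.2 • ⟨v₂, h₂⟩))
  map_add' x y := by
    refine Prod.ext (Prod.ext ?_ ?_) (Prod.ext ?_ ?_)
    · simp only [Prod.fst_add]; ring
    · simp only [Prod.fst_add, Prod.snd_add, add_smul]
    · simp only [Prod.snd_add, Prod.fst_add]; ring
    · simp only [Prod.snd_add, add_smul]
  map_smul' c x := by
    refine Prod.ext (Prod.ext ?_ ?_) (Prod.ext ?_ ?_)
    · simp only [Prod.smul_fst, Prod.smul_snd, smul_eq_mul, RingHom.id_apply]; ring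
    · simp only [Prod.smul_fst, Prod.smul_snd, smul_eq_mul, RingHom.id_apply, mul_smul]
    · simp only [Prod.smul_fst, Prod.smul_snd, smul_eq_mul, RingHom.id_apply]; ring
    · simp only [Prod.smul_fst, Prod.smul_snd, smul_eq_mul, RingHom.id_apply, mul_smul]

/-- parametrisation of the kernel, special case -/
noncomputable def iota3 (h21 : v₂ ∈ W₁) (h12 : v₁ ∈ W₂) :
    (k × k × k) →ₗ[k] ((k × ↥W₁) × (k × ↥W₂)) where
  toFun x := ((-((d : k) * x.1), x.1 • ⟨v₁, h₁⟩ + x.2.1 • ⟨v₂, h21⟩),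
    (-((d : k) * x.2.2), x.2.2 • ⟨v₂, h₂⟩ - x.2.1 • ⟨v₁, h12⟩))
  map_add' x y := by
    refine Prod.ext (Prod.ext ?_ ?_) (Prod.ext ?_ ?_)
    · simp only [Prod.fst_add]; ring
    · simp only [Prod.fst_add, Prod.snd_add, add_smul]; abel
    · simp only [Prod.snd_add, Prod.fst_add]; ring
    · simp only [Prod.snd_add, Prod.fst_add, add_smul]; abel
  map_smul' c x := by
    refine Prod.ext (Prod.ext ?_ ?_) (Prod.ext ?_ ?_)
    · simp only [Prod.smul_fst, Prod.smul_snd, smul_eq_mul, RingHom.id_apply]; ring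
    · simp only [Prod.smul_fst, Prod.smul_snd, smul_eq_mul, RingHom.id_apply, mul_smul, smul_add]
    · simp only [Prod.smul_fst, Prod.smul_snd, smul_eq_mul, RingHom.id_apply]; ring
    · simp only [Prod.smul_fst, Prod.smul_snd, smul_eq_mul, RingHom.id_apply, mul_smul, smul_sub]

include h₁ h₂ in
theorem main (hd : 2 ≤ d) (hv : LinearIndependent k ![v₁, v₂]) :
    ((3 ≤ d ∨ ¬ (v₂ ∈ W₁ ∧ v₁ ∈ W₂)) →
      Module.finrank k (LefPen.Form r k d) =
        Module.finrank k ↥(LefPen.tangentForms k d W₁ v₁ W₂ v₂)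
          + (Module.finrank k ↥W₁ + Module.finrank k ↥W₂)) ∧
    ((d = 2 ∧ v₂ ∈ W₁ ∧ v₁ ∈ W₂) →
      Module.finrank k (LefPen.Form r k d) + 1 =
        Module.finrank k ↥(LefPen.tangentForms k d W₁ v₁ W₂ v₂)
          + (Module.finrank k ↥W₁ + Module.finrank k ↥W₂)) := by
  haveI := finite_form k (r := r) (d := d)
  have hA := Subspace.finrank_add_finrank_dualCoannihilator_eq
    (LinearMap.range (Psi W₁ W₂ v₁ v₂ (d := d)))
  rw [← tangentForms_eq] at hA
  have hB := LinearMap.finrank_range_add_finrank_ker (Psi W₁ W₂ v₁ v₂ (d := d))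
  have hU : Module.finrank k ((k × ↥W₁) × (k × ↥W₂))
      = (1 + Module.finrank k ↥W₁) + (1 + Module.finrank k ↥W₂) := by
    simp only [Module.finrank_prod, Module.finrank_self]
  have hv1 : v₁ ≠ 0 := by
    have := hv.ne_zero 0
    simpa using this
  have hv2 : v₂ ≠ 0 := by
    have := hv.ne_zero 1
    simpa using this
  have hpair := LinearIndependent.pair_iff.mp hv
  constructor
  · intro hgen
    have hinj : Function.Injective (iota2 W₁ W₂ v₁ v₂ h₁ h₂ (d := d)) := by
      rw [injective_iff_map_eq_zero]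
      rintro ⟨A, C⟩ h0
      have hA0 : A • v₁ = 0 := congrArg (fun z => (z.1.2 : Fin (r + 1) → k)) h0
      have hC0 : C • v₂ = 0 := congrArg (fun z => (z.2.2 : Fin (r + 1) → k)) h0
      have hA' : A = 0 := (smul_eq_zero.mp hA0).resolve_right hv1
      have hC' : C = 0 := (smul_eq_zero.mp hC0).resolve_right hv2
      rw [hA', hC']
      rfl
    have hrange : LinearMap.range (iota2 W₁ W₂ v₁ v₂ h₁ h₂ (d := d))
        = LinearMap.ker (Psi W₁ W₂ v₁ v₂ (d := d)) := by
      ext u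
      rw [LinearMap.mem_range, LinearMap.mem_ker]
      constructor
      · rintro ⟨⟨A, C⟩, rfl⟩
        exact ker_sup W₁ W₂ v₁ v₂ A 0 C (Or.inl rfl) _ _ (by simp) (by simp)
      · intro hu
        obtain ⟨A, B, C, hc1, hw1, hc2, hw2, hB3⟩ := ker_sub W₁ W₂ v₁ v₂ hd hv u hu
        have hB0 : B = 0 := by
          rcases hgen with h3 | hnot
          · exact hB3 h3
          · by_contra hBne
            apply hnot
            constructor
            · have hmem : B • v₂ ∈ W₁ := by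
                have h' : B • v₂ = (u.1.2 : Fin (r + 1) → k) - A • v₁ := by rw [hw1]; abel
                rw [h']
                exact W₁.sub_mem u.1.2.2 (W₁.smul_mem A h₁)
              have := W₁.smul_mem B⁻¹ hmem
              rwa [smul_smul, inv_mul_cancel₀ hBne, one_smul] at this
            · have hmem : B • v₁ ∈ W₂ := by
                have h' : B • v₁ = C • v₂ - (u.2.2 : Fin (r + 1) → k) := by rw [hw2]; abel
                rw [h']
                exact W₂.sub_mem (W₂.smul_mem C h₂) u.2.2.2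
              have := W₂.smul_mem B⁻¹ hmem
              rwa [smul_smul, inv_mul_cancel₀ hBne, one_smul] at this
        refine ⟨(A, C), ?_⟩
        refine Prod.ext (Prod.ext ?_ (Subtype.ext ?_)) (Prod.ext ?_ (Subtype.ext ?_))
        · exact hc1.symm
        · show A • v₁ = (u.1.2 : Fin (r + 1) → k)
          rw [hw1, hB0, zero_smul, add_zero]
        · exact hc2.symm
        · show C • v₂ = (u.2.2 : Fin (r + 1) → k)
          rw [hw2, hB0, zero_smul, sub_zero]
    have hK : Module.finrank k (LinearMap.ker (Psi W₁ W₂ v₁ v₂ (d := d))) = 2 := by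
      rw [← hrange, LinearMap.finrank_range_of_inj hinj, Module.finrank_prod, Module.finrank_self]
    omega
  · rintro ⟨hd2, h21, h12⟩
    have hinj : Function.Injective (iota3 W₁ W₂ v₁ v₂ h₁ h₂ h21 h12 (d := d)) := by
      rw [injective_iff_map_eq_zero]
      rintro ⟨A, B, C⟩ h0
      have hAB : A • v₁ + B • v₂ = 0 := congrArg (fun z => (z.1.2 : Fin (r + 1) → k)) h0
      have hCB : C • v₂ - B • v₁ = 0 := congrArg (fun z => (z.2.2 : Fin (r + 1) → k)) h0
      obtain ⟨hA', hB'⟩ := hpair A B hAB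
      rw [hB', zero_smul, sub_zero] at hCB
      have hC' : C = 0 := (smul_eq_zero.mp hCB).resolve_right hv2
      rw [hA', hB', hC']
      rfl
    have hrange : LinearMap.range (iota3 W₁ W₂ v₁ v₂ h₁ h₂ h21 h12 (d := d))
        = LinearMap.ker (Psi W₁ W₂ v₁ v₂ (d := d)) := by
      ext u
      rw [LinearMap.mem_range, LinearMap.mem_ker]
      constructor
      · rintro ⟨⟨A, B, C⟩, rfl⟩
        exact ker_sup W₁ W₂ v₁ v₂ A B C (Or.inr hd2) _ _ (by simp) (by simp)
      · intro hu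
        obtain ⟨A, B, C, hc1, hw1, hc2, hw2, -⟩ := ker_sub W₁ W₂ v₁ v₂ hd hv u hu
        refine ⟨(A, B, C), ?_⟩
        refine Prod.ext (Prod.ext ?_ (Subtype.ext ?_)) (Prod.ext ?_ (Subtype.ext ?_))
        · exact hc1.symm
        · show A • v₁ + B • v₂ = (u.1.2 : Fin (r + 1) → k)
          rw [hw1]
        · exact hc2.symm
        · show C • v₂ - B • v₁ = (u.2.2 : Fin (r + 1) → k)
          rw [hw2]
    have hK : Module.finrank k (LinearMap.ker (Psi W₁ W₂ v₁ v₂ (d := d))) = 3 := by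
      rw [← hrange, LinearMap.finrank_range_of_inj hinj, Module.finrank_prod, Module.finrank_prod,
        Module.finrank_self]
    omega

end Main

end Groth.Agent.Lib.Helper6.TangForms
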