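import Groth.Agent.Lib.Helper6.TensorEmb

set_option autoImplicit false
universe u
open TensorProduct
namespace Groth.Agent.Lib.Helper6.TensorEmb

variable {k κ Ω : Type u} [Field k] [Field κ] [Algebra k κ] [Field Ω] [Algebra k Ω]
  [IsAlgClosed Ω] [Algebra.IsAlgebraic k Ω]

theorem exists_aut (φ φ' : κ →ₐ[k] Ω) : ∃ σ : Ω ≃ₐ[k] Ω, ∀ x, σ (φ x) = φ' x := by
  have : IsAlgClosure k Ω := ⟨inferInstance, inferInstance⟩
  let χ : φ.fieldRange ≃ₐ[k] φ'.fieldRange := φ.equivFieldRange.symm.trans φ'.equivFieldRange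
  refine ⟨χ.liftNormal Ω, fun x => ?_⟩
  have h := AlgEquiv.liftNormal_commutes χ Ω (φ.equivFieldRange x)
  have h1 : algebraMap φ.fieldRange Ω (φ.equivFieldRange x) = φ x := rfl
  have h2 : χ (φ.equivFieldRange x) = φ'.equivFieldRange x := by
    simp [χ]
  rw [h1, h2] at h
  exact h

/-- `σ ⊗ id` as a ring automorphism of `Ω ⊗[k] κ`. -/
noncomputable def tw (σ : Ω ≃ₐ[k] Ω) : (Ω ⊗[k] κ) ≃ₐ[k] (Ω ⊗[k] κ) :=
  Algebra.TensorProduct.congr σ (AlgEquiv.refl : κ ≃ₐ[k] κ)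

@[simp] lemma tw_tmul (σ : Ω ≃ₐ[k] Ω) (a : Ω) (x : κ) :
    tw σ (a ⊗ₜ[k] x) = σ a ⊗ₜ[k] x := by
  simp [tw]

lemma ev_tw (φ φ' : κ →ₐ[k] Ω) (σ : Ω ≃ₐ[k] Ω) (h : ∀ x, σ (φ x) = φ' x)
    (a : Ω ⊗[k] κ) : ev φ' (tw σ a) = σ (ev φ a) := by
  induction a using TensorProduct.induction_on with
  | zero => simp
  | tmul a x => simp [h]
  | add a b ha hb => simp [ha, hb]

lemma mem_ker_ev_iff (φ φ' : κ →ₐ[k] Ω) (σ : Ω ≃ₐ[k] Ω) (h : ∀ x, σ (φ x) = φ' x)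
    (a : Ω ⊗[k] κ) : a ∈ RingHom.ker (ev φ) ↔ tw σ a ∈ RingHom.ker (ev φ') := by
  rw [RingHom.mem_ker, RingHom.mem_ker, ev_tw φ φ' σ h]
  exact (EmbeddingLike.map_eq_zero_iff (f := σ)).symm

theorem nonempty_ringEquiv_of_ker (φ φ' : κ →ₐ[k] Ω) :
    Nonempty (Localization.AtPrime (RingHom.ker (ev φ)) ≃+*
      Localization.AtPrime (RingHom.ker (ev φ'))) := by
  obtain ⟨σ, hσ⟩ := exists_aut φ φ'
  refine ⟨IsLocalization.ringEquivOfRingEquiv (M := (RingHom.ker (ev φ)).primeCompl)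
    (T := (RingHom.ker (ev φ')).primeCompl) _ _ (tw σ).toRingEquiv ?_⟩
  ext y
  simp only [Submonoid.mem_map, Ideal.mem_primeCompl_iff]
  constructor
  · rintro ⟨x, hx, rfl⟩
    intro hy
    exact hx ((mem_ker_ev_iff φ φ' σ hσ x).mpr hy)
  · intro hy
    refine ⟨(tw σ).symm y, ?_, ?_⟩
    · intro hx
      apply hy
      have := (mem_ker_ev_iff φ φ' σ hσ _).mp hx
      simpa using this
    · simp

variable (k κ Ω) in
/-- (RF-a) all localizations of `Ω ⊗[k] κ` at primes are isomorphic rings. -/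
theorem localization_ringEquiv [FiniteDimensional k κ]
    (Q Q' : Ideal (Ω ⊗[k] κ)) [Q.IsPrime] [Q'.IsPrime] :
    Nonempty (Localization.AtPrime Q ≃+* Localization.AtPrime Q') := by
  obtain ⟨φ, rfl⟩ := exists_emb_of_isPrime (k := k) Q
  obtain ⟨φ', rfl⟩ := exists_emb_of_isPrime (k := k) Q'
  exact nonempty_ringEquiv_of_ker φ φ'

end Groth.Agent.Lib.Helper6.TensorEmb
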