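import Mathlib
import Groth.Agent.Lib.Helper14.LCF.Thickening
import Groth.Agent.Lib.Helper8.RelFiberSmoothSch
import Groth.Agent.Lib.Helper8.UnramDescentSch

/-!
Helper6: deformation of properties of a morphism `X' ⟶ Y'` over `S'` (with `X'` flat, l.f.p. over
`S'` and `Y'` l.f.t. over `S'`) from its restriction to a thickening `S ⊂ S'`:
smooth, étale, open immersion, isomorphism.
-/

set_option autoImplicit false
set_option linter.style.haveILetI false

universe u

open CategoryTheory CategoryTheory.Limits AlgebraicGeometry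

namespace Groth.Agent.Lib.Helper6.ThickDeform

variable {X X' Y Y' S S' : Scheme.{u}} (iX : X ⟶ X') (iY : Y ⟶ Y') (iS : S ⟶ S')
    (f : X ⟶ Y) (f' : X' ⟶ Y') (g : Y ⟶ S) (g' : Y' ⟶ S')

theorem exists_fibre_factor [IsClosedImmersion iS] (hcY : IsPullback iY g g' iS) (s : S) :
    ∃ m : g'.fiber (iS s) ⟶ Y, m ≫ iY = g'.fiberι (iS s) := by
  haveI := Groth.Agent.Lib.Helper14.LCF.isIso_residueFieldMap_of_isClosedImmersion iS s
  have hc : g'.fiberι (iS s) ≫ g' = (g'.fiberToSpecResidueField (iS s) ≫
      inv (Spec.map (iS.residueFieldMap s)) ≫ S.fromSpecResidueField s) ≫ iS := by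
    rw [Category.assoc, Category.assoc, ← Scheme.Hom.SpecMap_residueFieldMap_fromSpecResidueField,
      IsIso.inv_hom_id_assoc]
    exact pullback.condition
  exact ⟨hcY.lift _ _ hc, hcY.lift_fst _ _ hc⟩

theorem prop_fibre (P : MorphismProperty Scheme.{u}) [P.IsStableUnderBaseChange]
    [IsClosedImmersion iS]
    (hcX : IsPullback iX (f ≫ g) (f' ≫ g') iS) (hcY : IsPullback iY g g' iS)
    (w : iX ≫ f' = f ≫ iY) (hf : P f) (s : S) :
    P (pullback.snd f' (g'.fiberι (iS s))) := by
  have hpb : IsPullback iX f f' iY := IsPullback.of_bot hcX w hcY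
  obtain ⟨m, hm⟩ := exists_fibre_factor iY iS g g' hcY s
  have hbig : IsPullback (pullback.fst f' (g'.fiberι (iS s))) (pullback.snd f' (g'.fiberι (iS s)))
      f' (m ≫ iY) := by
    rw [hm]
    exact IsPullback.of_hasPullback _ _
  have hc : pullback.fst f' (g'.fiberι (iS s)) ≫ f' =
      (pullback.snd f' (g'.fiberι (iS s)) ≫ m) ≫ iY := by
    rw [Category.assoc, hm]
    exact pullback.condition
  have hsq : IsPullback (hpb.lift _ _ hc) (pullback.snd f' (g'.fiberι (iS s))) f m := by
    refine IsPullback.of_right ?_ (hpb.lift_snd _ _ hc) hpb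
    rw [hpb.lift_fst]
    exact hbig
  exact MorphismProperty.of_isPullback hsq hf

theorem prop_fibre' (P : MorphismProperty Scheme.{u}) [P.IsStableUnderBaseChange]
    [IsClosedImmersion iS] [Surjective iS]
    (hcX : IsPullback iX (f ≫ g) (f' ≫ g') iS) (hcY : IsPullback iY g g' iS)
    (w : iX ≫ f' = f ≫ iY) (hf : P f) (z : S') :
    P (pullback.snd f' (g'.fiberι z)) := by
  obtain ⟨s, rfl⟩ := iS.surjective z
  exact prop_fibre iX iY iS f f' g g' P hcX hcY w hf s

theorem smooth_of_thickening [IsClosedImmersion iS] [Surjective iS]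
    (hcX : IsPullback iX (f ≫ g) (f' ≫ g') iS) (hcY : IsPullback iY g g' iS)
    (w : iX ≫ f' = f ≫ iY) [Flat (f' ≫ g')] [LocallyOfFinitePresentation (f' ≫ g')]
    [LocallyOfFiniteType g'] [Smooth f] : Smooth f' := by
  haveI : LocallyOfFinitePresentation f' :=
    Groth.Agent.Lib.Helper8.RelFiberSmoothSch.locallyOfFinitePresentation_of_comp f' g'
  rw [← Scheme.Hom.smoothLocus_eq_top_iff, eq_top_iff]
  intro x _
  haveI : Smooth (pullback.snd f' (g'.fiberι (g' (f' x)))) :=
    prop_fibre' iX iY iS f f' g g' @Smooth hcX hcY w inferInstance _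
  exact Groth.Agent.Lib.Helper8.RelFiberSmoothSch.mem_smoothLocus_of_fibre g' f' x
    (Flat.stalkMap (f' ≫ g') x)

theorem etale_of_thickening [IsClosedImmersion iS] [Surjective iS]
    (hcX : IsPullback iX (f ≫ g) (f' ≫ g') iS) (hcY : IsPullback iY g g' iS)
    (w : iX ≫ f' = f ≫ iY) [Flat (f' ≫ g')] [LocallyOfFinitePresentation (f' ≫ g')]
    [LocallyOfFiniteType g'] [Etale f] : Etale f' := by
  haveI : LocallyOfFinitePresentation f' :=
    Groth.Agent.Lib.Helper8.RelFiberSmoothSch.locallyOfFinitePresentation_of_comp f' g'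
  haveI hsm : Smooth f' := smooth_of_thickening iX iY iS f f' g g' hcX hcY w
  haveI hun : FormallyUnramified f' := by
    apply Groth.Agent.Lib.Helper8.formallyUnramified_of_pointwise_cover
    intro x
    haveI : Etale (pullback.snd f' (g'.fiberι (g' (f' x)))) :=
      prop_fibre' iX iY iS f f' g g' @Etale hcX hcY w inferInstance _
    have hy' : g'.fiberι (g' (f' x)) (g'.asFiber (f' x)) = f' x := g'.fiberι_asFiber (f' x)
    obtain ⟨x', hx'1, -⟩ := Scheme.Pullback.exists_preimage_pullback (f := f')
      (g := g'.fiberι (g' (f' x))) x (g'.asFiber (f' x)) hy'.symm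
    refine ⟨g'.fiber (g' (f' x)), g'.fiberι (g' (f' x)), ⊤, ⟨x', trivial, hx'1⟩, ?_⟩
    infer_instance
  exact Etale.of_formallyUnramified_of_flat f'

theorem isPullback_diag_map (hpb : IsPullback iX f f' iY) (w : iX ≫ f' = f ≫ iY) :
    IsPullback (pullback.map f f f' f' iX iX iY w.symm w.symm) (pullback.fst f f) (pullback.fst f' f') iX := by
  have h1 : IsPullback (pullback.snd f f) (pullback.fst f f) f f :=
    (IsPullback.of_hasPullback f f).flip
  have hbig : IsPullback (pullback.snd f f ≫ iX) (pullback.fst f f) f' (f ≫ iY) :=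
    h1.paste_horiz hpb
  have h2 : IsPullback (pullback.snd f' f') (pullback.fst f' f') f' f' :=
    (IsPullback.of_hasPullback f' f').flip
  have e1 : pullback.map f f f' f' iX iX iY w.symm w.symm ≫ pullback.snd f' f' = pullback.snd f f ≫ iX :=
    pullback.lift_snd _ _ _
  have hbig' : IsPullback (pullback.map f f f' f' iX iX iY w.symm w.symm ≫ pullback.snd f' f')
      (pullback.fst f f) f' (iX ≫ f') := by
    rw [e1, w]
    exact hbig
  exact IsPullback.of_right hbig' (pullback.lift_fst _ _ _) h2

theorem isIso_diagonal_of_thickening [IsClosedImmersion iS] [Surjective iS]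
    (hcX : IsPullback iX (f ≫ g) (f' ≫ g') iS) (hcY : IsPullback iY g g' iS)
    (w : iX ≫ f' = f ≫ iY) [Flat (f' ≫ g')] [LocallyOfFinitePresentation (f' ≫ g')]
    [LocallyOfFiniteType g'] [IsIso (pullback.diagonal f)] : IsIso (pullback.diagonal f') := by
  have hpb : IsPullback iX f f' iY := IsPullback.of_bot hcX w hcY
  haveI : LocallyOfFinitePresentation f' :=
    Groth.Agent.Lib.Helper8.RelFiberSmoothSch.locallyOfFinitePresentation_of_comp f' g'
  have hT := isPullback_diag_map iX iY f f' hpb w
  have hcZ : IsPullback (pullback.map f f f' f' iX iX iY w.symm w.symm) (pullback.fst f f ≫ f ≫ g)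
      (pullback.fst f' f' ≫ f' ≫ g') iS := hT.paste_vert hcX
  have hΔ : pullback.diagonal f ≫ (pullback.fst f f ≫ f ≫ g) = f ≫ g := by
    rw [pullback.diagonal_fst_assoc]
  have hΔ' : pullback.diagonal f' ≫ (pullback.fst f' f' ≫ f' ≫ g') = f' ≫ g' := by
    rw [pullback.diagonal_fst_assoc]
  have hcX' : IsPullback iX (pullback.diagonal f ≫ (pullback.fst f f ≫ f ≫ g))
      (pullback.diagonal f' ≫ (pullback.fst f' f' ≫ f' ≫ g')) iS := by
    rw [hΔ, hΔ']
    exact hcX
  haveI : Flat (pullback.diagonal f' ≫ (pullback.fst f' f' ≫ f' ≫ g')) := by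
    rw [hΔ']
    infer_instance
  haveI : LocallyOfFinitePresentation (pullback.diagonal f' ≫ (pullback.fst f' f' ≫ f' ≫ g')) := by
    rw [hΔ']
    infer_instance
  haveI : LocallyOfFiniteType (pullback.fst f' f' ≫ f' ≫ g') := inferInstance
  have wΔ : iX ≫ pullback.diagonal f' =
      pullback.diagonal f ≫ pullback.map f f f' f' iX iX iY w.symm w.symm := by
    have e1 : pullback.map f f f' f' iX iX iY w.symm w.symm ≫ pullback.fst f' f' =
        pullback.fst f f ≫ iX := pullback.lift_fst _ _ _
    have e2 : pullback.map f f f' f' iX iX iY w.symm w.symm ≫ pullback.snd f' f' =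
        pullback.snd f f ≫ iX := pullback.lift_snd _ _ _
    apply pullback.hom_ext
    · rw [Category.assoc, Category.assoc, e1, pullback.diagonal_fst, Category.comp_id,
        pullback.diagonal_fst_assoc]
    · rw [Category.assoc, Category.assoc, e2, pullback.diagonal_snd, Category.comp_id,
        pullback.diagonal_snd_assoc]
  haveI hflat : Flat (pullback.diagonal f') :=
    (Groth.Agent.Lib.Helper14.LCF.flat_iff_of_thickening iX (pullback.map f f f' f' iX iX iY w.symm w.symm) iS
      (pullback.diagonal f) (pullback.diagonal f') (pullback.fst f f ≫ f ≫ g)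
      (pullback.fst f' f' ≫ f' ≫ g') hcX' hcZ wΔ).mp inferInstance
  haveI : LocallyOfFinitePresentation (pullback.diagonal f') :=
    Groth.Agent.Lib.Helper8.RelFiberSmoothSch.locallyOfFinitePresentation_of_comp
      (pullback.diagonal f') (pullback.fst f' f' ≫ f' ≫ g')
  haveI : IsOpenImmersion (pullback.diagonal f') := IsOpenImmersion.of_flat_of_mono _
  haveI : Surjective (pullback.map f f f' f' iX iX iY w.symm w.symm) :=
    MorphismProperty.of_isPullback (P := @Surjective) hcZ.flip inferInstance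
  apply isIso_of_isOpenImmersion_of_opensRange_eq_top
  rw [eq_top_iff]
  intro z' _
  obtain ⟨z, rfl⟩ := (pullback.map f f f' f' iX iX iY w.symm w.symm).surjective z'
  have hz : (pullback.diagonal f) ((inv (pullback.diagonal f)) z) = z := by
    rw [← Scheme.Hom.comp_apply, IsIso.inv_hom_id]
    rfl
  refine ⟨iX ((inv (pullback.diagonal f)) z), ?_⟩
  rw [← Scheme.Hom.comp_apply, wΔ, Scheme.Hom.comp_apply, hz]

theorem isOpenImmersion_of_thickening [IsClosedImmersion iS] [Surjective iS]
    (hcX : IsPullback iX (f ≫ g) (f' ≫ g') iS) (hcY : IsPullback iY g g' iS)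
    (w : iX ≫ f' = f ≫ iY) [Flat (f' ≫ g')] [LocallyOfFinitePresentation (f' ≫ g')]
    [LocallyOfFiniteType g'] [IsOpenImmersion f] : IsOpenImmersion f' := by
  haveI : LocallyOfFinitePresentation f' :=
    Groth.Agent.Lib.Helper8.RelFiberSmoothSch.locallyOfFinitePresentation_of_comp f' g'
  haveI := isIso_diagonal_of_thickening iX iY iS f f' g g' hcX hcY w
  haveI : Mono f' := (pullback.isIso_diagonal_iff f').mp inferInstance
  haveI : Flat f' :=
    (Groth.Agent.Lib.Helper14.LCF.flat_iff_of_thickening iX iY iS f f' g g' hcX hcY w).mp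
      inferInstance
  exact IsOpenImmersion.of_flat_of_mono f'

theorem isIso_of_thickening [IsClosedImmersion iS] [Surjective iS]
    (hcX : IsPullback iX (f ≫ g) (f' ≫ g') iS) (hcY : IsPullback iY g g' iS)
    (w : iX ≫ f' = f ≫ iY) [Flat (f' ≫ g')] [LocallyOfFinitePresentation (f' ≫ g')]
    [LocallyOfFiniteType g'] [IsIso f] : IsIso f' := by
  haveI := isOpenImmersion_of_thickening iX iY iS f f' g g' hcX hcY w
  haveI : Surjective iY := MorphismProperty.of_isPullback (P := @Surjective) hcY.flip inferInstance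
  apply isIso_of_isOpenImmersion_of_opensRange_eq_top
  rw [eq_top_iff]
  intro y' _
  obtain ⟨y, rfl⟩ := iY.surjective y'
  have hy : f ((inv f) y) = y := by
    rw [← Scheme.Hom.comp_apply, IsIso.inv_hom_id]
    rfl
  refine ⟨iX ((inv f) y), ?_⟩
  rw [← Scheme.Hom.comp_apply, w, Scheme.Hom.comp_apply, hy]

theorem base_change_of_thickening (P : MorphismProperty Scheme.{u}) [P.IsStableUnderBaseChange]
    (hcX : IsPullback iX (f ≫ g) (f' ≫ g') iS) (hcY : IsPullback iY g g' iS)
    (w : iX ≫ f' = f ≫ iY) (hf' : P f') : P f :=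
  MorphismProperty.of_isPullback (IsPullback.of_bot hcX w hcY) hf'

end Groth.Agent.Lib.Helper6.ThickDeform
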