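import Mathlib
import Groth.Agent.Lib.Helper6.ThickDeform
import Groth.Agent.Lib.Helper12.TopFibreDim

/-!
# Helper library (helper6): more properties of morphisms of thickenings of schemes

For a commutative square `iX ≫ f' = f ≫ iY` with `iX`, `iY` surjective closed immersions (thickenings):
fibre dimension, locally quasi-finite and (with the square cartesian) formally unramified pass from `f` to `f'`.
-/

set_option autoImplicit false
universe u
open AlgebraicGeometry CategoryTheory CategoryTheory.Limits

namespace Groth.Agent.Lib.Helper6.ThickDeform2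

open Groth.Agent.Lib.Helper12.TopFibreDim

variable {X X' Y Y' : Scheme.{u}} (iX : X ⟶ X') (iY : Y ⟶ Y') (f : X ⟶ Y) (f' : X' ⟶ Y')

theorem apply_comm (w : iX ≫ f' = f ≫ iY) (x : X) : f' (iX x) = iY (f x) := by
  have h := congrArg (fun φ : X ⟶ Y' => φ x) w
  exact h

theorem isOpenEmbedding_of_thick [IsClosedImmersion iX] [Surjective iX] :
    Topology.IsOpenEmbedding iX :=
  { toIsEmbedding := iX.isClosedEmbedding.isEmbedding
    isOpen_range := by
      rw [Set.range_eq_univ.mpr iX.surjective]
      exact isOpen_univ }

/-- The fibre dimension at a point is unchanged along a morphism of thickenings. -/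
theorem fibreDimAt_of_thickening [IsClosedImmersion iX] [Surjective iX] [IsClosedImmersion iY]
    (w : iX ≫ f' = f ≫ iY) (x : X) :
    FlatMor.fibreDimAt f' (iX x) = FlatMor.fibreDimAt f x := by
  have hcomp : (⇑f' ∘ ⇑iX) = (⇑iY ∘ ⇑f) := by
    funext z
    exact apply_comm iX iY f f' w z
  calc FlatMor.fibreDimAt f' (iX x) = topFibreDim (⇑f') (iX x) := fibreDimAt_eq_topFibreDim f' _
    _ = topFibreDim (⇑f' ∘ ⇑iX) x :=
        (topFibreDim_comp_isOpenEmbedding _ _ (isOpenEmbedding_of_thick iX) x).symm
    _ = topFibreDim (⇑iY ∘ ⇑f) x := topFibreDim_congr hcomp x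
    _ = topFibreDim (⇑f) x :=
        topFibreDim_comp_injective _ _ iY.isClosedEmbedding.injective x
    _ = FlatMor.fibreDimAt f x := (fibreDimAt_eq_topFibreDim f x).symm

/-- Locally quasi-finite passes to the thickened morphism (which is assumed locally of finite type). -/
theorem locallyQuasiFinite_of_thickening [IsClosedImmersion iX] [Surjective iX] [IsClosedImmersion iY]
    [Surjective iY] (w : iX ≫ f' = f ≫ iY) [LocallyOfFiniteType f'] [LocallyQuasiFinite f] :
    LocallyQuasiFinite f' := by
  rw [locallyQuasiFinite_iff_isDiscrete_preimage_singleton]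
  intro y'
  obtain ⟨y, rfl⟩ := iY.surjective y'
  have hd : _root_.IsDiscrete (⇑f ⁻¹' {y}) := f.isDiscrete_preimage_singleton y
  have himg : ⇑f' ⁻¹' {iY y} = ⇑iX '' (⇑f ⁻¹' {y}) := by
    ext x'
    constructor
    · intro hx'
      obtain ⟨x, rfl⟩ := iX.surjective x'
      refine ⟨x, ?_, rfl⟩
      have h1 : f' (iX x) = iY (f x) := apply_comm iX iY f f' w x
      have h2 : f' (iX x) = iY y := hx'
      have h3 : iY (f x) = iY y := h1.symm.trans h2
      exact iY.isClosedEmbedding.injective h3
    · rintro ⟨x, hx, rfl⟩
      have hx' : f x = y := hx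
      show f' (iX x) = iY y
      rw [apply_comm iX iY f f' w x, hx']
  rw [himg]
  exact hd.image iX.isClosedEmbedding.isEmbedding.isInducing

/-- Formally unramified passes to the thickened morphism (assumed locally of finite type) when the square is
cartesian. -/
theorem formallyUnramified_of_thickening [Surjective iX]
    (hpb : IsPullback iX f f' iY) [LocallyOfFiniteType f'] [FormallyUnramified f] :
    FormallyUnramified f' := by
  apply Groth.Agent.Lib.Helper8.formallyUnramified_of_pointwise_cover
  intro x'
  obtain ⟨x, rfl⟩ := iX.surjective x'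
  refine ⟨Y, iY, ⊤, ⟨hpb.isoPullback.hom x, trivial, ?_⟩, ?_⟩
  · rw [← Scheme.Hom.comp_apply, hpb.isoPullback_hom_fst]
  · have h2 : pullback.snd f' iY = hpb.isoPullback.inv ≫ f := (hpb.isoPullback_inv_snd).symm
    rw [h2]
    have h3 : FormallyUnramified (hpb.isoPullback.inv ≫ f) :=
      MorphismProperty.comp_mem @FormallyUnramified _ _ inferInstance inferInstance
    exact MorphismProperty.comp_mem @FormallyUnramified _ _ inferInstance h3

end Groth.Agent.Lib.Helper6.ThickDeform2
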