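import Groth.Agent.Lib.Helper16.WhereEngine
import Groth.Agent.Lib.Helper16.Thick
import Groth.Agent.Lib.Helper16.DimF5
import Groth.Agent.Lib.Helper16.SmoothEt
import Groth.Agent.Lib.Helper16.LocPInst
import Groth.Agent.Lib.Helper6.ThickDeform2

/-!
# Helper library (helper6): deformation of properties of morphisms of algebraic spaces along a thickening of the base

Setting: `iB : B ⟶ B'` a thickening, `f' : X' ⟶ Y'`, `g' : Y' ⟶ B'` with `Y'` locally of finite type and `X'` flat and
locally of finite presentation over `B'`, and `f`, `g` the base changes.  `ChartTower` packages compatible etale chart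
diagrams of `f` and `f'` whose underlying schemes form the same picture for schemes; the scheme-level results of
`Helper6.ThickDeform`, `Helper6.ThickDeform2` and `Helper14.LCF` then transfer.
-/

set_option autoImplicit false
universe u
open CategoryTheory CategoryTheory.Limits AlgebraicGeometry AlgSp

namespace Groth.Agent.Lib.Helper6.ThickAlgSp

open Groth.Agent.Lib.Helper16

variable {S : Scheme.{u}}

/-- Compatible chart diagrams for `f` and its thickening `f'`. -/
structure ChartTower {X X' Y Y' : Sp S} (iX : X ⟶ X') (iY : Y ⟶ Y') (f : X ⟶ Y) (f' : X' ⟶ Y') where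
  U : Over S
  U' : Over S
  V : Over S
  V' : Over S
  W : Over S
  W' : Over S
  pU : U ⟶ U'
  pV : V ⟶ V'
  n : W ⟶ W'
  m : U ⟶ V
  m' : U' ⟶ V'
  k : V ⟶ W
  k' : V' ⟶ W'
  a : (yon S).obj U ⟶ X
  a' : (yon S).obj U' ⟶ X'
  b : (yon S).obj V ⟶ Y
  b' : (yon S).obj V' ⟶ Y'
  ha : RepWith @Etale a
  ha' : RepWith @Etale a'
  hb : RepWith @Etale b
  hb' : RepWith @Etale b'
  has' : RepWith @Surjective a'
  hbs' : RepWith @Surjective b'
  surj_a : Function.Surjective (Points.ofPt a)
  comm : a ≫ f = (yon S).map m ≫ b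
  comm' : a' ≫ f' = (yon S).map m' ≫ b'
  commX : a ≫ iX = (yon S).map pU ≫ a'
  commY : b ≫ iY = (yon S).map pV ≫ b'
  sqU : IsPullback pU.left m.left m'.left pV.left
  sqV : IsPullback pV.left k.left k'.left n.left
  thick_n : IsClosedImmersion n.left ∧ Surjective n.left
  lft : LocallyOfFiniteType k'.left
  flat : Flat (m'.left ≫ k'.left)
  lfp : LocallyOfFinitePresentation (m'.left ≫ k'.left)

/-- Chart towers exist. -/
theorem nonempty_chartTower {X X' Y Y' B B' : Sp S} (hX' : IsAlgSpace X') (hY' : IsAlgSpace Y')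
    (hB' : IsAlgSpace B') (iX : X ⟶ X') (iY : Y ⟶ Y') (iB : B ⟶ B')
    (f : X ⟶ Y) (f' : X' ⟶ Y') (g : Y ⟶ B) (g' : Y' ⟶ B')
    (hcX : IsPullback iX (f ≫ g) (f' ≫ g') iB) (hcY : IsPullback iY g g' iB)
    (w : iX ≫ f' = f ≫ iY) (hB : IsThickMor iB)
    (hg' : LocP @LocallyOfFiniteType g')
    (hflat : LocP @Flat (f' ≫ g')) (hfp : LocP @LocallyOfFinitePresentation (f' ≫ g')) :
    Nonempty (ChartTower iX iY f f') := by
  have sqX : IsPullback iX f f' iY := IsPullback.of_bot hcX w hcY
  obtain ⟨W', c', hc'e, hc's⟩ := hB'.atlas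
  obtain ⟨V'₀, b'₀, hb'₀e, hb'₀s⟩ := hY'.atlas
  obtain ⟨U'₀, a'₀, ha'₀e, ha'₀s⟩ := hX'.atlas
  obtain ⟨V', k', cV, hb'e, hb'c, -, sqV'₀, hb's⟩ := exists_chart_diagram g' c' hc'e b'₀ hb'₀e
  obtain ⟨U', m', cU, ha'e, ha'c, -, sqU'₀, ha's⟩ := exists_chart_diagram f' _ hb'e a'₀ ha'₀e
  have hb's' := hb's hc's hb'₀s
  have ha's' := ha's hb's' ha'₀s
  obtain ⟨W, n, c, sqW⟩ := hB.rep c'
  have hn : thick n.left := hB.property _ _ _ sqW
  have hce : RepWith @Etale c := (RepWith @Etale).of_isPullback sqW.flip hc'e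
  have hcs : RepWith @Surjective c := (RepWith @Surjective).of_isPullback sqW.flip hc's
  obtain ⟨b, hb1, hb2, hbe, hbpt⟩ := FlatBC.chart_baseChange hcY c' b'₀ k' cV sqV'₀ c n sqW.w
      (pullback.fst k' n) (pullback.snd k' n) (IsPullback.of_hasPullback k' n) hb'₀e hce
  obtain ⟨a, ha1, ha2, hae, hapt⟩ := FlatBC.chart_baseChange sqX ((yon S).map cV ≫ b'₀) a'₀ m' cU sqU'₀
      b (pullback.fst k' n) hb1 (pullback.fst m' (pullback.fst k' n))
      (pullback.snd m' (pullback.fst k' n)) (IsPullback.of_hasPullback _ _) ha'₀e hbe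
  have hacc : ((yon S).map cU ≫ a'₀) ≫ (f' ≫ g') = (yon S).map (m' ≫ k') ≫ c' := by
    rw [← Category.assoc, ha'c, Category.assoc, hb'c, ← Category.assoc, ← Functor.map_comp]
  have hmk : Flat (m' ≫ k').left := hflat _ c' (m' ≫ k') ha'e hc'e hacc
  have hmkp : LocallyOfFinitePresentation (m' ≫ k').left := hfp _ c' (m' ≫ k') ha'e hc'e hacc
  rw [Over.comp_left] at hmk hmkp
  have hkt : LocallyOfFiniteType k'.left := hg' _ c' k' hb'e hc'e hb'c
  have sqVs : IsPullback (pullback.fst k' n).left (pullback.snd k' n).left k'.left n.left :=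
    (IsPullback.of_hasPullback k' n).map (Over.forget S)
  have sqUs : IsPullback (pullback.fst m' (pullback.fst k' n)).left
      (pullback.snd m' (pullback.fst k' n)).left m'.left (pullback.fst k' n).left :=
    (IsPullback.of_hasPullback m' (pullback.fst k' n)).map (Over.forget S)
  have hsurj : Function.Surjective (Points.ofPt a) := by
    intro x
    obtain ⟨w0, hw0⟩ := ofPt_surjective_of_surjective c hcs (Points.map g (Points.map f x))
    obtain ⟨v, hv1, -⟩ := hbpt hb'₀s (Points.map f x) w0 hw0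
    obtain ⟨u, hu1, -⟩ := hapt ha'₀s x v hv1
    exact ⟨u, hu1⟩
  exact ⟨{
    U := _, U' := U', V := _, V' := V', W := W, W' := W'
    pU := pullback.fst m' (pullback.fst k' n)
    pV := pullback.fst k' n
    n := n
    m := pullback.snd m' (pullback.fst k' n)
    m' := m'
    k := pullback.snd k' n
    k' := k'
    a := a
    a' := (yon S).map cU ≫ a'₀
    b := b
    b' := (yon S).map cV ≫ b'₀
    ha := hae
    ha' := ha'e
    hb := hbe
    hb' := hb'e
    has' := ha's'
    hbs' := hb's'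
    surj_a := hsurj
    comm := ha2
    comm' := ha'c
    commX := ha1
    commY := hb1
    sqU := sqUs
    sqV := sqVs
    thick_n := hn
    lft := hkt
    flat := hmk
    lfp := hmkp }⟩

namespace ChartTower

variable {X X' Y Y' : Sp S} {iX : X ⟶ X'} {iY : Y ⟶ Y'} {f : X ⟶ Y} {f' : X' ⟶ Y'}
  (T : ChartTower iX iY f f')

theorem isClosedImmersion_pV : IsClosedImmersion T.pV.left :=
  MorphismProperty.of_isPullback (P := @IsClosedImmersion) T.sqV.flip T.thick_n.1

theorem surjective_pV : Surjective T.pV.left :=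
  MorphismProperty.of_isPullback (P := @Surjective) T.sqV.flip T.thick_n.2

theorem isClosedImmersion_pU : IsClosedImmersion T.pU.left :=
  MorphismProperty.of_isPullback (P := @IsClosedImmersion) T.sqU.flip T.isClosedImmersion_pV

theorem surjective_pU : Surjective T.pU.left :=
  MorphismProperty.of_isPullback (P := @Surjective) T.sqU.flip T.surjective_pV

theorem hcX : IsPullback T.pU.left (T.m.left ≫ T.k.left) (T.m'.left ≫ T.k'.left) T.n.left :=
  T.sqU.paste_vert T.sqV

theorem lfp_m' : LocallyOfFinitePresentation T.m'.left := by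
  haveI := T.lfp
  haveI := T.lft
  exact Groth.Agent.Lib.Helper14.LCF.locallyOfFinitePresentation_of_comp T.m'.left T.k'.left

theorem lft_m' : LocallyOfFiniteType T.m'.left := by
  haveI := T.lfp_m'
  infer_instance

theorem flat_m' (h : Flat T.m.left) : Flat T.m'.left := by
  haveI := T.thick_n.1
  haveI := T.thick_n.2
  haveI := T.lft
  haveI := T.flat
  haveI := T.lfp
  exact (Groth.Agent.Lib.Helper14.LCF.flat_iff_of_thickening T.pU.left T.pV.left T.n.left T.m.left T.m'.left
    T.k.left T.k'.left T.hcX T.sqV T.sqU.w).mp h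

theorem smooth_m' (h : Smooth T.m.left) : Smooth T.m'.left := by
  haveI := T.thick_n.1
  haveI := T.thick_n.2
  haveI := T.lft
  haveI := T.flat
  haveI := T.lfp
  haveI := h
  exact ThickDeform.smooth_of_thickening T.pU.left T.pV.left T.n.left T.m.left T.m'.left
    T.k.left T.k'.left T.hcX T.sqV T.sqU.w

theorem etale_m' (h : Etale T.m.left) : Etale T.m'.left := by
  haveI := T.thick_n.1
  haveI := T.thick_n.2
  haveI := T.lft
  haveI := T.flat
  haveI := T.lfp
  haveI := h
  exact ThickDeform.etale_of_thickening T.pU.left T.pV.left T.n.left T.m.left T.m'.left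
    T.k.left T.k'.left T.hcX T.sqV T.sqU.w

theorem lqf_m' (h : (@LocallyQuasiFinite ⊓ @LocallyOfFiniteType : MorphismProperty Scheme.{u}) T.m.left) :
    (@LocallyQuasiFinite ⊓ @LocallyOfFiniteType : MorphismProperty Scheme.{u}) T.m'.left := by
  haveI := T.isClosedImmersion_pU
  haveI := T.surjective_pU
  haveI := T.isClosedImmersion_pV
  haveI := T.surjective_pV
  haveI := T.lft_m'
  haveI : LocallyQuasiFinite T.m.left := h.1
  exact ⟨ThickDeform2.locallyQuasiFinite_of_thickening T.pU.left T.pV.left T.m.left T.m'.left T.sqU.w,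
    T.lft_m'⟩

theorem unram_m' (h : (@LocallyOfFiniteType ⊓ @FormallyUnramified : MorphismProperty Scheme.{u}) T.m.left) :
    (@LocallyOfFiniteType ⊓ @FormallyUnramified : MorphismProperty Scheme.{u}) T.m'.left := by
  haveI := T.surjective_pU
  haveI := T.lft_m'
  haveI : FormallyUnramified T.m.left := h.2
  exact ⟨T.lft_m',
    ThickDeform2.formallyUnramified_of_thickening T.pU.left T.pV.left T.m.left T.m'.left T.sqU⟩

/-- Transfer of an etale-local property along the tower. -/
theorem locP_iff {P : MorphismProperty Scheme.{u}} (hP : EtLocalST P) (hX' : IsAlgSpace X')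
    (hY' : IsAlgSpace Y') (sqX : IsPullback iX f f' iY) (H : P T.m.left → P T.m'.left) :
    LocP P f ↔ LocP P f' :=
  ⟨fun hf => locP_of_chart hP f' T.a' T.b' T.m' T.ha' T.has' T.hb' T.comm'
      (H (hf T.a T.b T.m T.ha T.hb T.comm)),
    fun hf' => locP_of_isPullback hP hX' hY' sqX hf'⟩

theorem locP_lft' (T : ChartTower iX iY f f') : LocP @LocallyOfFiniteType f' :=
  locP_of_chart etLocalST_locallyOfFiniteType f' T.a' T.b' T.m' T.ha' T.has' T.hb' T.comm' T.lft_m'

theorem locP_lfp' (T : ChartTower iX iY f f') : LocP @LocallyOfFinitePresentation f' :=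
  locP_of_chart etLocalST_locallyOfFinitePresentation f' T.a' T.b' T.m' T.ha' T.has' T.hb' T.comm' T.lfp_m'

theorem map_ofPt_a (u : ↥T.U.left) :
    Points.map iX (Points.ofPt T.a u) = Points.ofPt T.a' (T.pU.left u) := by
  rw [Points.map_ofPt, T.commX, ofPt_yon_map_comp]

/-- Relative dimension `d`. -/
theorem relDim_iff (T : ChartTower iX iY f f') (hX' : IsAlgSpace X') (hY' : IsAlgSpace Y') (sqX : IsPullback iX f f' iY) (d : ℕ) :
    ((LocP @LocallyOfFiniteType f ∧
        ∀ x, HasAtMor (fun _ _ h u => FlatMor.fibreDimAt h u = (d : WithBot ℕ∞)) f x) ↔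
      (LocP @LocallyOfFiniteType f' ∧
        ∀ x', HasAtMor (fun _ _ h u => FlatMor.fibreDimAt h u = (d : WithBot ℕ∞)) f' x')) := by
  have hlft' : LocP @LocallyOfFiniteType f' := T.locP_lft'
  have hlft : LocP @LocallyOfFiniteType f :=
    locP_of_isPullback etLocalST_locallyOfFiniteType hX' hY' sqX hlft'
  haveI := T.isClosedImmersion_pU
  haveI := T.surjective_pU
  haveI := T.isClosedImmersion_pV
  have key : ∀ u : ↥T.U.left, FlatMor.fibreDimAt T.m'.left (T.pU.left u) = FlatMor.fibreDimAt T.m.left u :=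
    fun u => ThickDeform2.fibreDimAt_of_thickening T.pU.left T.pV.left T.m.left T.m'.left T.sqU.w u
  have iffU : ∀ u : ↥T.U.left,
      HasAtMor (fun _ _ h u => FlatMor.fibreDimAt h u = (d : WithBot ℕ∞)) f (Points.ofPt T.a u) ↔
      HasAtMor (fun _ _ h u => FlatMor.fibreDimAt h u = (d : WithBot ℕ∞)) f'
        (Points.ofPt T.a' (T.pU.left u)) := by
    intro u
    have h1 := DimF.hasAtMor_fibreDimAt_iff (fun t => t = (d : WithBot ℕ∞)) f hlft T.a T.b T.m T.ha T.hb
      T.comm u
    have h2 := DimF.hasAtMor_fibreDimAt_iff (fun t => t = (d : WithBot ℕ∞)) f' hlft' T.a' T.b' T.m' T.ha'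
      T.hb' T.comm' (T.pU.left u)
    constructor
    · intro h
      exact h2.mpr ((key u).trans (h1.mp h))
    · intro h
      exact h1.mpr ((key u).symm.trans (h2.mp h))
  constructor
  · rintro ⟨-, h⟩
    refine ⟨hlft', fun x' => ?_⟩
    obtain ⟨u', rfl⟩ := ofPt_surjective_of_surjective T.a' T.has' x'
    obtain ⟨u, rfl⟩ := T.pU.left.surjective u'
    exact (iffU u).mp (h _)
  · rintro ⟨-, h⟩
    refine ⟨hlft, fun x => ?_⟩
    obtain ⟨u, rfl⟩ := T.surj_a x
    exact (iffU u).mpr (h _)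

end ChartTower

/-- **S10599**: deformation of etale-local properties along a thickening of the base (fp over ft). -/
theorem main10599 {X X' Y Y' B B' : AlgSp.Space S} (iX : X ⟶ X') (iY : Y ⟶ Y') (iB : B ⟶ B')
    (f : X ⟶ Y) (f' : X' ⟶ Y') (g : Y ⟶ B) (g' : Y' ⟶ B')
    (hcX : IsPullback iX.hom (f ≫ g).hom (f' ≫ g').hom iB.hom) (hcY : IsPullback iY.hom g.hom g'.hom iB.hom)
    (w : iX ≫ f' = f ≫ iY)
    (hB : AlgSp.IsThickMor iB.hom)
    (hg' : AlgSp.LocP @LocallyOfFiniteType g'.hom)
    (hflat : AlgSp.LocP @Flat (f' ≫ g').hom) (hfp : AlgSp.LocP @LocallyOfFinitePresentation (f' ≫ g').hom) (d : ℕ) :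
    ((AlgSp.LocP @LocallyOfFiniteType f.hom ∧
        ∀ x, AlgSp.HasAtMor (fun _ _ h u => FlatMor.fibreDimAt h u = (d : WithBot ℕ∞)) f.hom x) ↔
      (AlgSp.LocP @LocallyOfFiniteType f'.hom ∧
        ∀ x', AlgSp.HasAtMor (fun _ _ h u => FlatMor.fibreDimAt h u = (d : WithBot ℕ∞)) f'.hom x')) ∧
    (AlgSp.LocP @Flat f.hom ↔ AlgSp.LocP @Flat f'.hom) ∧
    (AlgSp.LocP (@LocallyQuasiFinite ⊓ @LocallyOfFiniteType) f.hom ↔
      AlgSp.LocP (@LocallyQuasiFinite ⊓ @LocallyOfFiniteType) f'.hom) ∧
    (AlgSp.LocP @Smooth f.hom ↔ AlgSp.LocP @Smooth f'.hom) ∧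
    (AlgSp.LocP (@LocallyOfFiniteType ⊓ @FormallyUnramified) f.hom ↔
      AlgSp.LocP (@LocallyOfFiniteType ⊓ @FormallyUnramified) f'.hom) ∧
    (AlgSp.IsEtaleMor f.hom ↔ AlgSp.IsEtaleMor f'.hom) := by
  have hw : iX.hom ≫ f'.hom = f.hom ≫ iY.hom := congrArg (fun t => t.hom) w
  have sqX : IsPullback iX.hom f.hom f'.hom iY.hom := IsPullback.of_bot hcX hw hcY
  obtain ⟨T⟩ := nonempty_chartTower X'.property Y'.property B'.property iX.hom iY.hom iB.hom f.hom f'.hom
    g.hom g'.hom hcX hcY hw hB hg' hflat hfp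
  refine ⟨T.relDim_iff X'.property Y'.property sqX d,
    T.locP_iff etLocalST_flat X'.property Y'.property sqX T.flat_m',
    T.locP_iff etLocalST_locallyQuasiFinite X'.property Y'.property sqX T.lqf_m',
    T.locP_iff etLocalST_smooth X'.property Y'.property sqX T.smooth_m',
    T.locP_iff etLocalST_unramified X'.property Y'.property sqX T.unram_m', ?_⟩
  exact ((isEtaleMor_iff_locP_etale Y.property f.hom).trans
    (T.locP_iff etLocalST_etale X'.property Y'.property sqX T.etale_m')).trans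
    (isEtaleMor_iff_locP_etale Y'.property f'.hom).symm

end Groth.Agent.Lib.Helper6.ThickAlgSp
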