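import Groth.Agent.Lib.Helper6.ThickAlgSp
import Groth.Agent.Lib.Helper16.UnramMono
import Groth.Agent.Lib.Helper16.ZmtSp5
import Groth.Agent.Lib.Helper16.FpqcMono
import Groth.Agent.Lib.Helper16.UnivRep
import Groth.Agent.Lib.Helper16.QuasiCompactMor
import Groth.Agent.Lib.Helper16.Diagonal
import Groth.Agent.Lib.Helper16.ThickDiag
import Groth.Agent.Lib.Helper16.SchLocusField

/-!
# Helper library (helper6): deformation along a thickening of the base for algebraic spaces, II
(isomorphisms, open immersions, monomorphisms, finite locally free morphisms)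
-/

set_option autoImplicit false
universe u
open CategoryTheory CategoryTheory.Limits AlgebraicGeometry AlgSp

namespace Groth.Agent.Lib.Helper6.ThickAlgSp

open Groth.Agent.Lib.Helper16

variable {S : Scheme.{u}}

/-- A morphism all of whose represented pullbacks are separated morphisms of schemes is separated. -/
theorem isSeparatedMor_of_repWith {P : MorphismProperty Scheme.{u}} (hP : P ≤ @IsSeparated) {X Y : Sp S}
    (hX : IsAlgSpace X) (f : X ⟶ Y) (hf : RepWith P f) : IsSeparatedMor f := by
  show RepWith @IsClosedImmersion (pullback.diagonal f)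
  apply repWith_diagonal_of_affine hX.diag f
  intro Z _ g X'' fst snd sq
  obtain ⟨M, s, fst₀, sq₀⟩ := hf.rep g
  have hs : IsSeparated s.left := hP _ (hf.property _ _ _ sq₀)
  have hs' : IsSeparatedMor ((yon S).map s) := (isSeparatedMor_yon_map_iff s).2 hs
  obtain ⟨ε, hε⟩ : ∃ ε : X'' ≅ (yon S).obj M, ε.hom ≫ (yon S).map s = snd :=
    ⟨_, IsPullback.isoIsPullback_hom_snd _ _ sq sq₀⟩
  rw [← hε]
  exact ZmtSp.isSeparatedMor_comp ε.hom _ (ZmtSp.isSeparatedMor_of_mono ε.hom) hs'

/-- Locally quasi-finite, separated and universally closed implies representable and finite. -/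
theorem repWith_isFinite_of {X' Y' : Sp S} (hX' : IsAlgSpace X') (hY' : IsAlgSpace Y') (f' : X' ⟶ Y')
    (hlqf : LocP (@LocallyQuasiFinite ⊓ @LocallyOfFiniteType) f') (hsep : IsSeparatedMor f')
    (huc : IsUnivClosedMor f') : RepWith @IsFinite f' := by
  haveI : (RepWith (S := S) @IsClosedImmersion).RespectsIso :=
    MorphismProperty.IsStableUnderBaseChange.respectsIso
  have hrep : Representable f' := by
    intro T t
    have sqZ := IsPullback.of_hasPullback f' t
    have hZ : IsAlgSpace (pullback f' t) :=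
      isAlgSpace_of_isPullback hX' hY'.diag (IsAlgSpace.yon_obj T) sqZ
    have hq : LocP (@LocallyQuasiFinite ⊓ @LocallyOfFiniteType) (pullback.snd f' t) :=
      locP_of_isPullback etLocalST_locallyQuasiFinite hX' hY' sqZ hlqf
    have hqs : IsSeparatedMor (pullback.snd f' t) :=
      (RepWith (S := S) @IsClosedImmersion).diagonal.of_isPullback sqZ hsep
    have hr : (pullback f' t).obj.IsRepresentable :=
      SchLocus.isRepresentable_of_forall_mem_schLocus hZ
        (fun x => ZmtSp.mem_schLocus_of_lqf_separated hZ _ hq hqs x)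
    obtain ⟨M, ⟨r⟩⟩ := hr.has_representation
    obtain ⟨snd, hsnd⟩ := (yon S).map_surjective ((isoOfRepresentableBy r).hom ≫ pullback.snd f' t)
    refine ⟨M, snd, (isoOfRepresentableBy r).hom ≫ pullback.fst f' t, ?_⟩
    rw [hsnd]
    exact IsPullback.of_iso sqZ (isoOfRepresentableBy r).symm (Iso.refl _) (Iso.refl _) (Iso.refl _)
      (by simp) (by simp) (by simp) (by simp)
  refine ⟨hrep, fun T M t fst snd sq => ?_⟩
  have hl : (@LocallyQuasiFinite ⊓ @LocallyOfFiniteType : MorphismProperty Scheme.{u}) snd.left :=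
    locP_yon_map (locP_of_isPullback etLocalST_locallyQuasiFinite hX' hY' sq hlqf)
  have huc' : UniversallyClosed snd.left :=
    ((repWith_universallyClosed_iff f' hrep).2 huc).property t fst snd sq
  have hsp : IsSeparated snd.left :=
    (isSeparatedMor_yon_map_iff snd).1
      ((RepWith (S := S) @IsClosedImmersion).diagonal.of_isPullback sq hsep)
  have hp : IsProper snd.left := (isProper_iff _).2 ⟨hsp, huc', hl.2⟩
  show IsFinite snd.left
  exact (IsFinite.iff_isProper_and_locallyQuasiFinite _).2 ⟨hp, hl.1⟩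

/-- **S10600**. -/
theorem main10600 {X X' Y Y' B B' : AlgSp.Space S} (iX : X ⟶ X') (iY : Y ⟶ Y') (iB : B ⟶ B')
    (f : X ⟶ Y) (f' : X' ⟶ Y') (g : Y ⟶ B) (g' : Y' ⟶ B')
    (hcX : IsPullback iX.hom (f ≫ g).hom (f' ≫ g').hom iB.hom) (hcY : IsPullback iY.hom g.hom g'.hom iB.hom)
    (w : iX ≫ f' = f ≫ iY)
    (hB : AlgSp.IsThickMor iB.hom)
    (hg' : AlgSp.LocP @LocallyOfFiniteType g'.hom)
    (hflat : AlgSp.LocP @Flat (f' ≫ g').hom) (hfp : AlgSp.LocP @LocallyOfFinitePresentation (f' ≫ g').hom) :
    (IsIso f.hom ↔ IsIso f'.hom) ∧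
    (AlgSp.RepWith @IsOpenImmersion f.hom ↔ AlgSp.RepWith @IsOpenImmersion f'.hom) ∧
    (Mono f.hom ↔ Mono f'.hom) ∧
    (AlgSp.IsFinLocFreeMor f.hom ↔ AlgSp.IsFinLocFreeMor f'.hom) ∧
    (∀ d : ℕ, AlgSp.IsFinLocFreeOfDegMor d f.hom ↔ AlgSp.IsFinLocFreeOfDegMor d f'.hom) := by
  have hw : iX.hom ≫ f'.hom = f.hom ≫ iY.hom := congrArg (fun t => t.hom) w
  have sqX : IsPullback iX.hom f.hom f'.hom iY.hom := IsPullback.of_bot hcX hw hcY
  obtain ⟨T⟩ := nonempty_chartTower X'.property Y'.property B'.property iX.hom iY.hom iB.hom f.hom f'.hom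
    g.hom g'.hom hcX hcY hw hB hg' hflat hfp
  have hX := X.property
  have hX' := X'.property
  have hY := Y.property
  have hY' := Y'.property
  have hiX : IsThickMor iX.hom := (RepWith (S := S) thick).of_isPullback hcX.flip hB
  have hiY : IsThickMor iY.hom := (RepWith (S := S) thick).of_isPullback hcY.flip hB
  obtain ⟨tSurj, -, tUc, tInj, -⟩ :=
    Thick.topological_iff_of_thick hX hX' hY hY' iX.hom iY.hom f.hom f'.hom hiX hiY hw
  have tSep := (Thick.separated_iff_of_thick hX hX' hY hY' iX.hom iY.hom f.hom f'.hom hiX hiY hw).1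
  have hlft' : LocP @LocallyOfFiniteType f'.hom := T.locP_lft'
  have hlfp' : LocP @LocallyOfFinitePresentation f'.hom := T.locP_lfp'
  have hlft : LocP @LocallyOfFiniteType f.hom :=
    locP_of_isPullback etLocalST_locallyOfFiniteType hX' hY' sqX hlft'
  have iffE := T.locP_iff etLocalST_etale hX' hY' sqX T.etale_m'
  have iffU := T.locP_iff etLocalST_unramified hX' hY' sqX T.unram_m'
  have iffQ := T.locP_iff etLocalST_locallyQuasiFinite hX' hY' sqX T.lqf_m'
  have iffF := T.locP_iff etLocalST_flat hX' hY' sqX T.flat_m'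
  -- monomorphisms
  have hmono : Mono f.hom → Mono f'.hom := by
    intro hm
    haveI := hm
    exact UnramMono.mono_of_locP_unramified_of_univInjective hX' hY' f'.hom
      (iffU.1 (UnramMono.locP_unramified_of_mono_lft hX hY f.hom hlft))
      (tInj.1 (UnramMono.isUnivInjectiveMor_of_mono f.hom))
  -- open immersions
  have hmono_of_open : RepWith @IsOpenImmersion f.hom → Mono f.hom := fun ho =>
    mono_of_repWith (P := @IsOpenImmersion)
      (fun _ _ g hg => by
        have : IsOpenImmersion g := hg
        exact MorphismProperty.monomorphisms.infer_property g) f.hom ho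
  have hetale_of_open : RepWith @IsOpenImmersion f.hom → LocP @Etale f.hom := fun ho =>
    locP_of_repWith @Etale @IsOpenImmersion
      (fun A B C m i hm hi => by
        have : IsOpenImmersion i := hi
        exact etLocalST_etale.postcomp m i inferInstance hm) f.hom ho
  have hopen : RepWith @IsOpenImmersion f.hom → RepWith @IsOpenImmersion f'.hom := by
    intro ho
    haveI := hmono (hmono_of_open ho)
    exact repWith_isOpenImmersion_of_etale_mono hX' hY' f'.hom (iffE.1 (hetale_of_open ho))
  -- finite locally free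
  have hfin : RepWith finLocFree f.hom → RepWith finLocFree f'.hom := by
    intro hf
    have hF : RepWith @IsFinite f.hom := repWith_mono (fun _ _ g hg => by
      have hg' : IsFinite g ∧ Flat g ∧ LocallyOfFinitePresentation g := hg
      exact hg'.1) f.hom hf
    have hlq : LocP (@LocallyQuasiFinite ⊓ @LocallyOfFiniteType) f.hom :=
      locP_of_repWith _ @IsFinite (fun A B C m i hm hi => by
        have : IsFinite i := hi
        exact etLocalST_locallyQuasiFinite.precomp m i hm ⟨inferInstance, inferInstance⟩) f.hom hF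
    have hfl : LocP @Flat f.hom :=
      locP_of_repWith @Flat finLocFree (fun A B C m i hm hi => by
        have hi' : IsFinite i ∧ Flat i ∧ LocallyOfFinitePresentation i := hi
        exact etLocalST_flat.precomp m i hm hi'.2.1) f.hom hf
    have hsep : IsSeparatedMor f.hom := isSeparatedMor_of_repWith (P := @IsFinite)
      (fun _ _ g hg => by
        have : IsFinite g := hg
        exact (inferInstance : IsSeparated g)) hX f.hom hF
    have huc : IsUnivClosedMor f.hom := (repWith_universallyClosed_iff f.hom hF.rep).1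
      (repWith_mono (fun _ _ g hg => by
        have : IsFinite g := hg
        exact (inferInstance : UniversallyClosed g)) f.hom hF)
    have hF' : RepWith @IsFinite f'.hom :=
      repWith_isFinite_of hX' hY' f'.hom (iffQ.1 hlq) (tSep.1 hsep) (tUc.1 huc)
    refine ⟨hF'.rep, fun T₁ M t fst snd sq => ?_⟩
    show IsFinite snd.left ∧ Flat snd.left ∧ LocallyOfFinitePresentation snd.left
    exact ⟨hF'.property t fst snd sq,
      locP_yon_map (locP_of_isPullback etLocalST_flat hX' hY' sq (iffF.1 hfl)),
      locP_yon_map (locP_of_isPullback etLocalST_locallyOfFinitePresentation hX' hY' sq hlfp')⟩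
  -- degree
  have hdeg : ∀ d : ℕ, RepWith (finLocFreeOfDeg d) f.hom → RepWith (finLocFreeOfDeg d) f'.hom := by
    intro d hf
    have hf0 : RepWith finLocFree f.hom := repWith_mono (fun _ _ g hg => by
      have hg' : Mor2.IsFinLocFree g ∧ ∀ y, g.finrank y = d := hg
      exact hg'.1) f.hom hf
    have hf0' := hfin hf0
    refine ⟨hf0'.rep, fun T₁ M t fst snd sq => ?_⟩
    have hsnd : IsFinite snd.left ∧ Flat snd.left ∧ LocallyOfFinitePresentation snd.left :=
      hf0'.property t fst snd sq
    show Mor2.IsFinLocFreeOfDeg d snd.left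
    refine ⟨hsnd, fun y => ?_⟩
    obtain ⟨T₀, j, t₀, sqT⟩ := hiY.rep t
    have hj : thick j.left := hiY.property _ _ _ sqT
    obtain ⟨M₀, s₀, fst₀, sq₀⟩ := hf.rep t₀
    have hs₀ : Mor2.IsFinLocFree s₀.left ∧ ∀ y, s₀.left.finrank y = d := hf.property _ _ _ sq₀
    have hbig : IsPullback (fst₀ ≫ iX.hom) ((yon S).map s₀) f'.hom (t₀ ≫ iY.hom) := sq₀.paste_horiz sqX
    have hc : (fst₀ ≫ iX.hom) ≫ f'.hom = ((yon S).map s₀ ≫ (yon S).map j) ≫ t :=
      hbig.w.trans (by rw [sqT.w, Category.assoc])
    obtain ⟨r, hr⟩ := (yon S).map_surjective (sq.lift _ _ hc)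
    have hr1 : (yon S).map r ≫ fst = fst₀ ≫ iX.hom := by rw [hr]; exact sq.lift_fst _ _ _
    have hr2 : (yon S).map r ≫ (yon S).map snd = (yon S).map s₀ ≫ (yon S).map j := by
      rw [hr]; exact sq.lift_snd _ _ _
    have hbig' : IsPullback ((yon S).map r ≫ fst) ((yon S).map s₀) f'.hom ((yon S).map j ≫ t) := by
      rw [hr1, ← sqT.w]; exact hbig
    have hleft : IsPullback ((yon S).map r) ((yon S).map s₀) ((yon S).map snd) ((yon S).map j) :=
      IsPullback.of_right hbig' hr2 sq
    have hsch : IsPullback r.left s₀.left snd.left j.left := isPullback_left_of_yon hleft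
    haveI : Surjective j.left := hj.2
    obtain ⟨y₀, rfl⟩ := j.left.surjective y
    haveI : Flat snd.left := hsnd.2.1
    haveI : IsFinite snd.left := hsnd.1
    rw [← Scheme.Hom.finrank_of_isPullback r.left s₀.left snd.left j.left hsch y₀]
    exact hs₀.2 y₀
  refine ⟨⟨?_, ?_⟩, ⟨hopen, fun h => (RepWith (S := S) @IsOpenImmersion).of_isPullback sqX h⟩,
    ⟨hmono, fun h => by haveI := h; exact sqX.mono_snd_of_mono⟩,
    ⟨hfin, fun h => (RepWith (S := S) finLocFree).of_isPullback sqX h⟩,
    fun d => ⟨hdeg d, fun h => (RepWith (S := S) (finLocFreeOfDeg d)).of_isPullback sqX h⟩⟩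
  · intro hi
    haveI := hi
    have ho : RepWith @IsOpenImmersion f.hom := by
      haveI : (RepWith (S := S) @IsOpenImmersion).RespectsIso :=
        MorphismProperty.IsStableUnderBaseChange.respectsIso
      exact (RepWith (S := S) @IsOpenImmersion).of_isIso f.hom
    haveI : Mono f'.hom := hmono inferInstance
    have hE' : LocP @Etale f'.hom := iffE.1 (hetale_of_open ho)
    have hs : IsSurjectiveMor f.hom := by
      show Function.Surjective (Points.map f.hom)
      intro y
      refine ⟨Points.map (inv f.hom) y, ?_⟩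
      rw [← Points.map_comp, IsIso.inv_hom_id, Points.map_id]
    exact isIso_of_etale_mono_surjective hX' f'.hom ((isEtaleMor_iff_locP_etale hY' f'.hom).2 hE')
      (tSurj.1 hs)
  · intro hi
    haveI := hi
    exact sqX.isIso_snd_of_isIso

end Groth.Agent.Lib.Helper6.ThickAlgSp
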