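import Groth.Agent.Lib.Helper6.ThickAlgSp2
import Groth.Agent.Lib.Helper17.AlgSpAff
import Groth.Agent.Lib.Helper17.AlgSpLocP
import Groth.Agent.Lib.Helper16.Univ

/-!
# Helper library (helper6): deformation along a thickening of the base for algebraic spaces, III
(proper and finite morphisms)
-/

set_option autoImplicit false
universe u
open CategoryTheory CategoryTheory.Limits AlgebraicGeometry AlgSp

namespace Groth.Agent.Lib.Helper6.ThickAlgSp

open Groth.Agent.Lib.Helper16

variable {S : Scheme.{u}}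

/-- A finite morphism of sheaves (affine-base-change sense) is separated. -/
theorem isSeparatedMor_of_isFiniteMor {X Y : Sp S} (hX : IsAlgSpace X) (f : X ⟶ Y) (hf : IsFiniteMor f) :
    IsSeparatedMor f := by
  show RepWith @IsClosedImmersion (pullback.diagonal f)
  apply repWith_diagonal_of_affine hX.diag f
  intro Z hZ g X'' fst snd sq
  obtain ⟨M, s, fst₀, sq₀, -, hs0⟩ := hf hZ g
  have hs : IsSeparated s.left := by
    have : IsFinite s.left := hs0
    infer_instance
  have hs' : IsSeparatedMor ((yon S).map s) := (isSeparatedMor_yon_map_iff s).2 hs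
  obtain ⟨ε, hε⟩ : ∃ ε : X'' ≅ (yon S).obj M, ε.hom ≫ (yon S).map s = snd :=
    ⟨_, IsPullback.isoIsPullback_hom_snd _ _ sq sq₀⟩
  rw [← hε]
  exact ZmtSp.isSeparatedMor_comp ε.hom _ (ZmtSp.isSeparatedMor_of_mono ε.hom) hs'

/-- A finite morphism is universally closed. -/
theorem isUnivClosedMor_of_isFiniteMor {X Y : Sp S} (f : X ⟶ Y) (hf : IsFiniteMor f) :
    IsUnivClosedMor f := by
  refine (univSp_iff_affine isEtaleLocalOnBase_isClosedMor f).2 (fun Z hZ g P fst snd sq => ?_)
  obtain ⟨W, i, φ, sqW, -, hi⟩ := hf hZ g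
  have : IsFinite i.left := hi
  exact Groth.Agent.Lib.Helper17.isClosedMap_snd_of_isPullback_yon sqW i.left.isClosedMap sq

/-- A finite morphism is locally quasi-finite. -/
theorem locP_lqf_of_isFiniteMor {X Y : Sp S} (f : X ⟶ Y) (hf : IsFiniteMor f) :
    LocP (@LocallyQuasiFinite ⊓ @LocallyOfFiniteType) f := by
  haveI : (RepWith (S := S) @Etale).RespectsIso := MorphismProperty.IsStableUnderBaseChange.respectsIso
  apply Groth.Agent.Lib.Helper17.locP_of_affine_base_change etLocalST_locallyQuasiFinite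
  intro Z hZ g U a k ha hc
  obtain ⟨W, i, φ, sqW, -, hi⟩ := hf hZ g
  have sq := IsPullback.of_hasPullback f g
  have e : (sq.isoIsPullback _ _ sqW).hom ≫ (yon S).map i = pullback.snd f g :=
    IsPullback.isoIsPullback_hom_snd _ _ sq sqW
  obtain ⟨a', ha'⟩ := (yon S).map_surjective (a ≫ (sq.isoIsPullback _ _ sqW).hom)
  have hae : RepWith @Etale ((yon S).map a') := by
    rw [ha']
    exact ((RepWith (S := S) @Etale).cancel_right_of_respectsIso a
      (sq.isoIsPullback _ _ sqW).hom).2 ha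
  have hae' : Etale a'.left := (repWith_yon_map_iff _ _).1 hae
  have hk : a' ≫ i = k := by
    apply (yon S).map_injective
    rw [Functor.map_comp, ha', Category.assoc, e, hc]
  have : IsFinite i.left := hi
  rw [← hk, Over.comp_left]
  exact etLocalST_locallyQuasiFinite.precomp a'.left i.left hae' ⟨inferInstance, inferInstance⟩

/-- Representable with finite represented pullbacks implies finite (affine-base-change sense). -/
theorem isFiniteMor_of_repWith {X Y : Sp S} (f : X ⟶ Y) (hf : RepWith @IsFinite f) : IsFiniteMor f := by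
  intro Z hZ g
  obtain ⟨W, i, φ, sq⟩ := hf.rep g
  have hi : IsFinite i.left := hf.property g φ i sq
  refine ⟨W, i, φ, sq, ?_, hi⟩
  haveI : IsAffine Z.left := hZ
  exact isAffine_of_isAffineHom i.left

/-- **S10611**. -/
theorem main10611 {X X' Y Y' B B' : AlgSp.Space S} (iX : X ⟶ X') (iY : Y ⟶ Y') (iB : B ⟶ B')
    (f : X ⟶ Y) (f' : X' ⟶ Y') (g : Y ⟶ B) (g' : Y' ⟶ B')
    (hcX : IsPullback iX.hom (f ≫ g).hom (f' ≫ g').hom iB.hom) (hcY : IsPullback iY.hom g.hom g'.hom iB.hom)
    (w : iX ≫ f' = f ≫ iY)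
    (hB : AlgSp.IsThickMor iB.hom)
    (hg' : AlgSp.LocP @LocallyOfFiniteType g'.hom)
    (hflat : AlgSp.LocP @Flat (f' ≫ g').hom) (hfp : AlgSp.LocP @LocallyOfFinitePresentation (f' ≫ g').hom) :
    (AlgSp.IsProperMor f.hom ↔ AlgSp.IsProperMor f'.hom) ∧
    (AlgSp.IsFiniteMor f.hom ↔ AlgSp.IsFiniteMor f'.hom) := by
  have hw : iX.hom ≫ f'.hom = f.hom ≫ iY.hom := congrArg (fun t => t.hom) w
  have sqX : IsPullback iX.hom f.hom f'.hom iY.hom := IsPullback.of_bot hcX hw hcY
  obtain ⟨T⟩ := nonempty_chartTower X'.property Y'.property B'.property iX.hom iY.hom iB.hom f.hom f'.hom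
    g.hom g'.hom hcX hcY hw hB hg' hflat hfp
  have hX := X.property
  have hX' := X'.property
  have hY := Y.property
  have hY' := Y'.property
  have hiX : IsThickMor iX.hom := (RepWith (S := S) thick).of_isPullback hcX.flip hB
  have hiY : IsThickMor iY.hom := (RepWith (S := S) thick).of_isPullback hcY.flip hB
  obtain ⟨-, tQc, tUc, -, -⟩ :=
    Thick.topological_iff_of_thick hX hX' hY hY' iX.hom iY.hom f.hom f'.hom hiX hiY hw
  have tSep := (Thick.separated_iff_of_thick hX hX' hY hY' iX.hom iY.hom f.hom f'.hom hiX hiY hw).1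
  have hlft' : LocP @LocallyOfFiniteType f'.hom := T.locP_lft'
  have hlft : LocP @LocallyOfFiniteType f.hom :=
    locP_of_isPullback etLocalST_locallyOfFiniteType hX' hY' sqX hlft'
  have iffQ := T.locP_iff etLocalST_locallyQuasiFinite hX' hY' sqX T.lqf_m'
  refine ⟨⟨?_, ?_⟩, ⟨?_, ?_⟩⟩
  · rintro ⟨a, ⟨-, c⟩, d⟩
    exact ⟨tSep.1 a, ⟨hlft', tQc.1 c⟩, tUc.1 d⟩
  · rintro ⟨a, ⟨-, c⟩, d⟩
    exact ⟨tSep.2 a, ⟨hlft, tQc.2 c⟩, tUc.2 d⟩
  · intro hf
    exact isFiniteMor_of_repWith f'.hom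
      (repWith_isFinite_of hX' hY' f'.hom (iffQ.1 (locP_lqf_of_isFiniteMor f.hom hf))
        (tSep.1 (isSeparatedMor_of_isFiniteMor hX f.hom hf))
        (tUc.1 (isUnivClosedMor_of_isFiniteMor f.hom hf)))
  · intro hf'
    exact Groth.Agent.Lib.Helper17.affP_of_isPullback (Q := @IsFinite) sqX hf'

end Groth.Agent.Lib.Helper6.ThickAlgSp
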