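import Groth.Agent.Lib.Helper6.ThickAlgSp3
import Groth.Agent.Lib.Helper16.FlatBC3
import Groth.Agent.Lib.Helper1.Deform5
import Groth.Agent.Lib.Helper1.Deform4
import Groth.Agent.Lib.Helper1.Deform3

/-!
# Helper library (helper6): deformation of properties of morphisms of algebraic spaces along a FINITE ORDER
thickening of the base (source flat over the base, no finiteness hypotheses)

`ChartTowerN` is the analogue of `ChartTower` for finite order thickenings; the scheme-level inputs are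
helper1's `Deform` libraries.
-/

set_option autoImplicit false
universe u
open CategoryTheory CategoryTheory.Limits AlgebraicGeometry AlgSp

namespace Groth.Agent.Lib.Helper6.ThickAlgSp

open Groth.Agent.Lib.Helper16

variable {S : Scheme.{u}}

theorem ker_comp_iso {A B C : CommRingCat.{u}} (g : A ⟶ B) (e : B ⟶ C) [IsIso e] :
    RingHom.ker (g ≫ e).hom = RingHom.ker g.hom := by
  rw [CommRingCat.hom_comp]
  exact RingHom.ker_comp_of_injective _ (ConcreteCategory.bijective_of_isIso e).1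

/-- If the restriction of `f` to an affine open `U` has kernel ideal sheaf with vanishing `(N+1)`st power, then the
kernel of `f.app U` is nilpotent. -/
theorem isNilpotent_ker_app_of_restrict {X Y : Scheme.{u}} (f : X ⟶ Y) [QuasiCompact f] (U : Y.Opens)
    (hU : IsAffineOpen U) (N : ℕ) (h : (f ∣_ U).ker ^ (N + 1) = ⊥) :
    IsNilpotent (RingHom.ker (f.app U).hom) := by
  haveI : IsAffine (U : Scheme.{u}) := hU
  have h0 := Scheme.Hom.ker_apply (f ∣_ U) ⟨⊤, isAffineOpen_top _⟩
  have h1 : RingHom.ker ((f ∣_ U).app ⊤).hom ^ (N + 1) = ⊥ := by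
    have h' := congrArg
      (fun I : Scheme.IdealSheafData (U : Scheme.{u}) => I.ideal ⟨⊤, isAffineOpen_top _⟩) h
    simp only [Scheme.IdealSheafData.ideal_pow, Pi.pow_apply, Scheme.IdealSheafData.ideal_bot,
      Pi.bot_apply] at h'
    rw [h0] at h'
    exact h'
  rw [morphismRestrict_app] at h1
  have hk := ker_comp_iso (f.app (U.ι ''ᵁ ⊤))
    (X.presheaf.map (eqToHom (image_morphismRestrict_preimage f U ⊤)).op)
  have h2 : RingHom.ker (f.app (U.ι ''ᵁ ⊤)).hom ^ (N + 1) = ⊥ := by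
    rw [← hk]
    exact h1
  have key : ∀ V : Y.Opens, V = U → RingHom.ker (f.app V).hom ^ (N + 1) = ⊥ →
      IsNilpotent (RingHom.ker (f.app U).hom) := by
    rintro V rfl hV
    exact ⟨N + 1, hV⟩
  exact key _ (Scheme.Opens.ι_image_top U) h2

/-- Compatible chart diagrams for `f` and its thickening `f'`, finite order version. -/
structure ChartTowerN {X X' Y Y' : Sp S} (iX : X ⟶ X') (iY : Y ⟶ Y') (f : X ⟶ Y) (f' : X' ⟶ Y') where
  U : Over S
  U' : Over S
  V : Over S
  V' : Over S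
  W : Over S
  W' : Over S
  pU : U ⟶ U'
  pV : V ⟶ V'
  n : W ⟶ W'
  m : U ⟶ V
  m' : U' ⟶ V'
  k : V ⟶ W
  k' : V' ⟶ W'
  a : (yon S).obj U ⟶ X
  a' : (yon S).obj U' ⟶ X'
  b : (yon S).obj V ⟶ Y
  b' : (yon S).obj V' ⟶ Y'
  ha : RepWith @Etale a
  ha' : RepWith @Etale a'
  hb : RepWith @Etale b
  hb' : RepWith @Etale b'
  has' : RepWith @Surjective a'
  hbs' : RepWith @Surjective b'
  surj_a : Function.Surjective (Points.ofPt a)
  comm : a ≫ f = (yon S).map m ≫ b
  comm' : a' ≫ f' = (yon S).map m' ≫ b'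
  commX : a ≫ iX = (yon S).map pU ≫ a'
  commY : b ≫ iY = (yon S).map pV ≫ b'
  sqU : IsPullback pU.left m.left m'.left pV.left
  sqV : IsPullback pV.left k.left k'.left n.left
  thick_n : IsClosedImmersion n.left ∧ Surjective n.left
  flat : Flat (m'.left ≫ k'.left)
  hnil : ∀ O : W'.left.affineOpens, IsNilpotent (RingHom.ker (n.left.app O.1).hom)

/-- Chart towers exist (finite order thickenings). -/
theorem nonempty_chartTowerN {X X' Y Y' B B' : Sp S} (hX' : IsAlgSpace X') (hY' : IsAlgSpace Y')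
    (hB' : IsAlgSpace B') (iX : X ⟶ X') (iY : Y ⟶ Y') (iB : B ⟶ B')
    (f : X ⟶ Y) (f' : X' ⟶ Y') (g : Y ⟶ B) (g' : Y' ⟶ B')
    (hcX : IsPullback iX (f ≫ g) (f' ≫ g') iB) (hcY : IsPullback iY g g' iB)
    (w : iX ≫ f' = f ≫ iY) (hB : IsFinThickMor iB)
    (hflat : LocP @Flat (f' ≫ g')) :
    Nonempty (ChartTowerN iX iY f f') := by
  obtain ⟨N, hBt, hBa⟩ := hB
  have sqX : IsPullback iX f f' iY := IsPullback.of_bot hcX w hcY
  obtain ⟨W', c', hc'e, hc's⟩ := hB'.atlas
  obtain ⟨V'₀, b'₀, hb'₀e, hb'₀s⟩ := hY'.atlas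
  obtain ⟨U'₀, a'₀, ha'₀e, ha'₀s⟩ := hX'.atlas
  obtain ⟨V', k', cV, hb'e, hb'c, -, sqV'₀, hb's⟩ := exists_chart_diagram g' c' hc'e b'₀ hb'₀e
  obtain ⟨U', m', cU, ha'e, ha'c, -, sqU'₀, ha's⟩ := exists_chart_diagram f' _ hb'e a'₀ ha'₀e
  have hb's' := hb's hc's hb'₀s
  have ha's' := ha's hb's' ha'₀s
  obtain ⟨W, n, c, sqW⟩ := hBt.rep c'
  have hn : thick n.left := hBt.property _ _ _ sqW
  have hce : RepWith @Etale c := (RepWith @Etale).of_isPullback sqW.flip hc'e
  have hcs : RepWith @Surjective c := (RepWith @Surjective).of_isPullback sqW.flip hc's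
  obtain ⟨b, hb1, hb2, hbe, hbpt⟩ := FlatBC.chart_baseChange hcY c' b'₀ k' cV sqV'₀ c n sqW.w
      (pullback.fst k' n) (pullback.snd k' n) (IsPullback.of_hasPullback k' n) hb'₀e hce
  obtain ⟨a, ha1, ha2, hae, hapt⟩ := FlatBC.chart_baseChange sqX ((yon S).map cV ≫ b'₀) a'₀ m' cU sqU'₀
      b (pullback.fst k' n) hb1 (pullback.fst m' (pullback.fst k' n))
      (pullback.snd m' (pullback.fst k' n)) (IsPullback.of_hasPullback _ _) ha'₀e hbe
  have hacc : ((yon S).map cU ≫ a'₀) ≫ (f' ≫ g') = (yon S).map (m' ≫ k') ≫ c' := by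
    rw [← Category.assoc, ha'c, Category.assoc, hb'c, ← Category.assoc, ← Functor.map_comp]
  have hmk : Flat (m' ≫ k').left := hflat _ c' (m' ≫ k') ha'e hc'e hacc
  rw [Over.comp_left] at hmk
  have sqVs : IsPullback (pullback.fst k' n).left (pullback.snd k' n).left k'.left n.left :=
    (IsPullback.of_hasPullback k' n).map (Over.forget S)
  have sqUs : IsPullback (pullback.fst m' (pullback.fst k' n)).left
      (pullback.snd m' (pullback.fst k' n)).left m'.left (pullback.fst k' n).left :=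
    (IsPullback.of_hasPullback m' (pullback.fst k' n)).map (Over.forget S)
  have hsurj : Function.Surjective (Points.ofPt a) := by
    intro x
    obtain ⟨w0, hw0⟩ := ofPt_surjective_of_surjective c hcs (Points.map g (Points.map f x))
    obtain ⟨v, hv1, -⟩ := hbpt hb'₀s (Points.map f x) w0 hw0
    obtain ⟨u, hu1, -⟩ := hapt ha'₀s x v hv1
    exact ⟨u, hu1⟩
  haveI : IsClosedImmersion n.left := hn.1
  have hnil : ∀ O : W'.left.affineOpens, IsNilpotent (RingHom.ker (n.left.app O.1).hom) := by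
    intro O
    apply isNilpotent_ker_app_of_restrict n.left O.1 O.2 N
    let VO : Over S := Over.mk (O.1.ι ≫ W'.hom)
    let ιO : VO ⟶ W' := Over.homMk O.1.ι rfl
    let WO : Over S := Over.mk ((n.left ⁻¹ᵁ O.1).ι ≫ W.hom)
    let ιWO : WO ⟶ W := Over.homMk (n.left ⁻¹ᵁ O.1).ι rfl
    have hsnd : (n.left ∣_ O.1) ≫ VO.hom = WO.hom := by
      show (n.left ∣_ O.1) ≫ O.1.ι ≫ W'.hom = (n.left ⁻¹ᵁ O.1).ι ≫ W.hom
      rw [← Category.assoc, morphismRestrict_ι, Category.assoc, Over.w n]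
    let sndO : WO ⟶ VO := Over.homMk (n.left ∣_ O.1) hsnd
    have hcomm : ιWO ≫ n = sndO ≫ ιO := by
      apply Over.OverMorphism.ext
      exact (morphismRestrict_ι n.left O.1).symm
    have sq1 : IsPullback ιWO sndO n ιO :=
      IsPullback.of_map (Over.forget S) hcomm (isPullback_morphismRestrict n.left O.1).flip
    have sq3 : IsPullback ((yon S).map ιWO ≫ c) ((yon S).map sndO) iB ((yon S).map ιO ≫ c') :=
      (sq1.map (yon S)).paste_horiz sqW
    have hιe : Etale ιO.left := by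
      show Etale O.1.ι
      infer_instance
    have hbO : RepWith @Etale ((yon S).map ιO ≫ c') :=
      (RepWith @Etale).comp_mem _ _ ((repWith_yon_map_iff _ _).2 hιe) hc'e
    have hVO : IsAffine VO.left := O.2
    exact hBa ((yon S).map ιO ≫ c') ((yon S).map ιWO ≫ c) sndO hVO hbO sq3
  exact ⟨{
    U := _, U' := U', V := _, V' := V', W := W, W' := W'
    pU := pullback.fst m' (pullback.fst k' n)
    pV := pullback.fst k' n
    n := n
    m := pullback.snd m' (pullback.fst k' n)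
    m' := m'
    k := pullback.snd k' n
    k' := k'
    a := a
    a' := (yon S).map cU ≫ a'₀
    b := b
    b' := (yon S).map cV ≫ b'₀
    ha := hae
    ha' := ha'e
    hb := hbe
    hb' := hb'e
    has' := ha's'
    hbs' := hb's'
    surj_a := hsurj
    comm := ha2
    comm' := ha'c
    commX := ha1
    commY := hb1
    sqU := sqUs
    sqV := sqVs
    thick_n := hn
    flat := hmk
    hnil := hnil }⟩

namespace ChartTowerN

open Groth.Agent.Lib.Helper1

variable {X X' Y Y' : Sp S} {iX : X ⟶ X'} {iY : Y ⟶ Y'} {f : X ⟶ Y} {f' : X' ⟶ Y'}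
  (T : ChartTowerN iX iY f f')

theorem isClosedImmersion_pV : IsClosedImmersion T.pV.left :=
  MorphismProperty.of_isPullback (P := @IsClosedImmersion) T.sqV.flip T.thick_n.1

theorem surjective_pV : Surjective T.pV.left :=
  MorphismProperty.of_isPullback (P := @Surjective) T.sqV.flip T.thick_n.2

theorem isClosedImmersion_pU : IsClosedImmersion T.pU.left :=
  MorphismProperty.of_isPullback (P := @IsClosedImmersion) T.sqU.flip T.isClosedImmersion_pV

theorem surjective_pU : Surjective T.pU.left :=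
  MorphismProperty.of_isPullback (P := @Surjective) T.sqU.flip T.surjective_pV

theorem hcX : IsPullback T.pU.left (T.m.left ≫ T.k.left) (T.m'.left ≫ T.k'.left) T.n.left :=
  T.sqU.paste_vert T.sqV

theorem flat_m' (h : Flat T.m.left) : Flat T.m'.left := by
  haveI := T.thick_n.1
  haveI := T.flat
  haveI := h
  exact Deform.flat_of_deform T.hnil T.hcX T.sqV T.sqU.w

theorem lft_m' (h : LocallyOfFiniteType T.m.left) : LocallyOfFiniteType T.m'.left := by
  haveI := T.thick_n.1
  haveI := T.flat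
  haveI := h
  exact Deform.locallyOfFiniteType_of_deform T.hnil T.hcX T.sqV T.sqU.w

theorem lfp_m' (h : LocallyOfFinitePresentation T.m.left) : LocallyOfFinitePresentation T.m'.left := by
  haveI := T.thick_n.1
  haveI := T.flat
  haveI := h
  exact Deform.locallyOfFinitePresentation_of_deform T.hnil T.hcX T.sqV T.sqU.w

theorem smooth_m' (h : Smooth T.m.left) : Smooth T.m'.left := by
  haveI := T.flat
  haveI := h
  exact Deform.smooth_of_deform T.thick_n T.hnil T.hcX T.sqV T.sqU.w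

theorem etale_m' (h : Etale T.m.left) : Etale T.m'.left := by
  haveI := T.flat
  haveI := h
  exact Deform.etale_of_deform T.thick_n T.hnil T.hcX T.sqV T.sqU.w

theorem lqf_m' (h : (@LocallyQuasiFinite ⊓ @LocallyOfFiniteType : MorphismProperty Scheme.{u}) T.m.left) :
    (@LocallyQuasiFinite ⊓ @LocallyOfFiniteType : MorphismProperty Scheme.{u}) T.m'.left := by
  haveI := T.isClosedImmersion_pU
  haveI := T.surjective_pU
  haveI := T.isClosedImmersion_pV
  haveI := T.surjective_pV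
  haveI := T.lft_m' h.2
  haveI : LocallyQuasiFinite T.m.left := h.1
  exact ⟨ThickDeform2.locallyQuasiFinite_of_thickening T.pU.left T.pV.left T.m.left T.m'.left T.sqU.w,
    T.lft_m' h.2⟩

theorem unram_m' (h : (@LocallyOfFiniteType ⊓ @FormallyUnramified : MorphismProperty Scheme.{u}) T.m.left) :
    (@LocallyOfFiniteType ⊓ @FormallyUnramified : MorphismProperty Scheme.{u}) T.m'.left := by
  haveI := T.surjective_pU
  haveI := T.lft_m' h.1
  haveI : FormallyUnramified T.m.left := h.2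
  exact ⟨T.lft_m' h.1,
    ThickDeform2.formallyUnramified_of_thickening T.pU.left T.pV.left T.m.left T.m'.left T.sqU⟩

/-- Transfer of an etale-local property along the tower. -/
theorem locP_iff {P : MorphismProperty Scheme.{u}} (hP : EtLocalST P) (hX' : IsAlgSpace X')
    (hY' : IsAlgSpace Y') (sqX : IsPullback iX f f' iY) (H : P T.m.left → P T.m'.left) :
    LocP P f ↔ LocP P f' :=
  ⟨fun hf => locP_of_chart hP f' T.a' T.b' T.m' T.ha' T.has' T.hb' T.comm'
      (H (hf T.a T.b T.m T.ha T.hb T.comm)),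
    fun hf' => locP_of_isPullback hP hX' hY' sqX hf'⟩

theorem map_ofPt_a (u : ↥T.U.left) :
    Points.map iX (Points.ofPt T.a u) = Points.ofPt T.a' (T.pU.left u) := by
  rw [Points.map_ofPt, T.commX, ofPt_yon_map_comp]

/-- Relative dimension `d`. -/
theorem relDim_iff (T : ChartTowerN iX iY f f') (hX' : IsAlgSpace X') (hY' : IsAlgSpace Y')
    (sqX : IsPullback iX f f' iY) (d : ℕ) :
    ((LocP @LocallyOfFiniteType f ∧
        ∀ x, HasAtMor (fun _ _ h u => FlatMor.fibreDimAt h u = (d : WithBot ℕ∞)) f x) ↔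
      (LocP @LocallyOfFiniteType f' ∧
        ∀ x', HasAtMor (fun _ _ h u => FlatMor.fibreDimAt h u = (d : WithBot ℕ∞)) f' x')) := by
  have hiff := T.locP_iff etLocalST_locallyOfFiniteType hX' hY' sqX T.lft_m'
  haveI := T.isClosedImmersion_pU
  haveI := T.surjective_pU
  haveI := T.isClosedImmersion_pV
  have key : ∀ u : ↥T.U.left, FlatMor.fibreDimAt T.m'.left (T.pU.left u) = FlatMor.fibreDimAt T.m.left u :=
    fun u => ThickDeform2.fibreDimAt_of_thickening T.pU.left T.pV.left T.m.left T.m'.left T.sqU.w u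
  have iffU : ∀ (hlft : LocP @LocallyOfFiniteType f) (hlft' : LocP @LocallyOfFiniteType f') (u : ↥T.U.left),
      HasAtMor (fun _ _ h u => FlatMor.fibreDimAt h u = (d : WithBot ℕ∞)) f (Points.ofPt T.a u) ↔
      HasAtMor (fun _ _ h u => FlatMor.fibreDimAt h u = (d : WithBot ℕ∞)) f'
        (Points.ofPt T.a' (T.pU.left u)) := by
    intro hlft hlft' u
    have h1 := DimF.hasAtMor_fibreDimAt_iff (fun t => t = (d : WithBot ℕ∞)) f hlft T.a T.b T.m T.ha T.hb
      T.comm u
    have h2 := DimF.hasAtMor_fibreDimAt_iff (fun t => t = (d : WithBot ℕ∞)) f' hlft' T.a' T.b' T.m' T.ha'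
      T.hb' T.comm' (T.pU.left u)
    constructor
    · intro h
      exact h2.mpr ((key u).trans (h1.mp h))
    · intro h
      exact h1.mpr ((key u).symm.trans (h2.mp h))
  constructor
  · rintro ⟨hl, h⟩
    refine ⟨hiff.1 hl, fun x' => ?_⟩
    obtain ⟨u', rfl⟩ := ofPt_surjective_of_surjective T.a' T.has' x'
    obtain ⟨u, rfl⟩ := T.pU.left.surjective u'
    exact (iffU hl (hiff.1 hl) u).mp (h _)
  · rintro ⟨hl', h⟩
    refine ⟨hiff.2 hl', fun x => ?_⟩
    obtain ⟨u, rfl⟩ := T.surj_a x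
    exact (iffU (hiff.2 hl') hl' u).mpr (h _)

end ChartTowerN

/-- **S10595**. -/
theorem main10595 {X X' Y Y' B B' : AlgSp.Space S} (iX : X ⟶ X') (iY : Y ⟶ Y') (iB : B ⟶ B')
    (f : X ⟶ Y) (f' : X' ⟶ Y') (g : Y ⟶ B) (g' : Y' ⟶ B')
    (hcX : IsPullback iX.hom (f ≫ g).hom (f' ≫ g').hom iB.hom) (hcY : IsPullback iY.hom g.hom g'.hom iB.hom)
    (w : iX ≫ f' = f ≫ iY)
    (hB : AlgSp.IsFinThickMor iB.hom) (hflat : AlgSp.LocP @Flat (f' ≫ g').hom)
    (hf : AlgSp.LocP @Flat f.hom) :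
    AlgSp.LocP @Flat f'.hom ∧
    ∀ x' : AlgSp.Points X'.obj, AlgSp.IsFlatAtMor g'.hom (AlgSp.Points.map f'.hom x') := by
  have hw : iX.hom ≫ f'.hom = f.hom ≫ iY.hom := congrArg (fun t => t.hom) w
  have sqX : IsPullback iX.hom f.hom f'.hom iY.hom := IsPullback.of_bot hcX hw hcY
  obtain ⟨T⟩ := nonempty_chartTowerN X'.property Y'.property B'.property iX.hom iY.hom iB.hom f.hom f'.hom
    g.hom g'.hom hcX hcY hw hB hflat
  have hf' : LocP @Flat f'.hom := (T.locP_iff etLocalST_flat X'.property Y'.property sqX T.flat_m').1 hf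
  refine ⟨hf', fun x' => ?_⟩
  exact FlatBC.isFlatAtMor_of_comp X'.property Y'.property B'.property f'.hom g'.hom x'
    ((Where.locP_flat_iff_forall_isFlatAtMor (f' ≫ g').hom).1 hflat x')
    ((Where.locP_flat_iff_forall_isFlatAtMor f'.hom).1 hf' x')

/-- **S10596**. -/
theorem main10596 {X X' Y Y' B B' : AlgSp.Space S} (iX : X ⟶ X') (iY : Y ⟶ Y') (iB : B ⟶ B')
    (f : X ⟶ Y) (f' : X' ⟶ Y') (g : Y ⟶ B) (g' : Y' ⟶ B')
    (hcX : IsPullback iX.hom (f ≫ g).hom (f' ≫ g').hom iB.hom) (hcY : IsPullback iY.hom g.hom g'.hom iB.hom)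
    (w : iX ≫ f' = f ≫ iY)
    (hB : AlgSp.IsFinThickMor iB.hom) (hflat : AlgSp.LocP @Flat (f' ≫ g').hom) (d : ℕ) :
    ((AlgSp.LocP @LocallyOfFiniteType f.hom ∧
        ∀ x, AlgSp.HasAtMor (fun _ _ h u => FlatMor.fibreDimAt h u = (d : WithBot ℕ∞)) f.hom x) ↔
      (AlgSp.LocP @LocallyOfFiniteType f'.hom ∧
        ∀ x', AlgSp.HasAtMor (fun _ _ h u => FlatMor.fibreDimAt h u = (d : WithBot ℕ∞)) f'.hom x')) ∧
    (AlgSp.LocP @Flat f.hom ↔ AlgSp.LocP @Flat f'.hom) ∧
    (AlgSp.LocP @LocallyOfFiniteType f.hom ↔ AlgSp.LocP @LocallyOfFiniteType f'.hom) ∧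
    (AlgSp.LocP (@LocallyQuasiFinite ⊓ @LocallyOfFiniteType) f.hom ↔
      AlgSp.LocP (@LocallyQuasiFinite ⊓ @LocallyOfFiniteType) f'.hom) ∧
    (AlgSp.LocP @LocallyOfFinitePresentation f.hom ↔ AlgSp.LocP @LocallyOfFinitePresentation f'.hom) ∧
    (AlgSp.LocP @Smooth f.hom ↔ AlgSp.LocP @Smooth f'.hom) ∧
    (AlgSp.LocP (@LocallyOfFiniteType ⊓ @FormallyUnramified) f.hom ↔
      AlgSp.LocP (@LocallyOfFiniteType ⊓ @FormallyUnramified) f'.hom) ∧
    (AlgSp.IsEtaleMor f.hom ↔ AlgSp.IsEtaleMor f'.hom) := by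
  have hw : iX.hom ≫ f'.hom = f.hom ≫ iY.hom := congrArg (fun t => t.hom) w
  have sqX : IsPullback iX.hom f.hom f'.hom iY.hom := IsPullback.of_bot hcX hw hcY
  obtain ⟨T⟩ := nonempty_chartTowerN X'.property Y'.property B'.property iX.hom iY.hom iB.hom f.hom f'.hom
    g.hom g'.hom hcX hcY hw hB hflat
  refine ⟨T.relDim_iff X'.property Y'.property sqX d,
    T.locP_iff etLocalST_flat X'.property Y'.property sqX T.flat_m',
    T.locP_iff etLocalST_locallyOfFiniteType X'.property Y'.property sqX T.lft_m',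
    T.locP_iff etLocalST_locallyQuasiFinite X'.property Y'.property sqX T.lqf_m',
    T.locP_iff etLocalST_locallyOfFinitePresentation X'.property Y'.property sqX T.lfp_m',
    T.locP_iff etLocalST_smooth X'.property Y'.property sqX T.smooth_m',
    T.locP_iff etLocalST_unramified X'.property Y'.property sqX T.unram_m', ?_⟩
  exact ((isEtaleMor_iff_locP_etale Y.property f.hom).trans
    (T.locP_iff etLocalST_etale X'.property Y'.property sqX T.etale_m')).trans
    (isEtaleMor_iff_locP_etale Y'.property f'.hom).symm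

end Groth.Agent.Lib.Helper6.ThickAlgSp
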