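import Mathlib
import Groth.Agent.Lib.Helper1.ThickSq

/-!
# Helper library (helper6): cartesian squares over a thickening whose SOURCE thickening has nilpotent ideal

In a cartesian square `X = X' ×_{Y'} Y` with `Y ⟶ Y'` a closed immersion, if the closed immersion `X ⟶ X'` has
(affine locally) nilpotent ideal and `X ⟶ Y` is locally of finite type, then `X' ⟶ Y'` is locally of finite type.
-/

open CategoryTheory Limits AlgebraicGeometry TensorProduct

universe u
namespace Groth.Agent.Lib.Helper6.ThickSqSch

open Groth.Agent.Lib.Helper1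

/-- Nakayama for an ideal a power of which kills the module. -/
lemma eq_top_of_top_le_sup_smul_of_pow_smul {B M : Type*} [CommRing B] [AddCommGroup M]
    [Module B M] (N : Submodule B M) (J : Ideal B) (n : ℕ) (hJ : (J ^ n) • (⊤ : Submodule B M) = ⊥)
    (h : (⊤ : Submodule B M) ≤ N ⊔ J • ⊤) : N = ⊤ := by
  have key : ∀ k : ℕ, (⊤ : Submodule B M) ≤ N ⊔ (J ^ k) • ⊤ := by
    intro k
    induction k with
    | zero => simp
    | succ k ih =>
      calc (⊤ : Submodule B M) ≤ N ⊔ J • ⊤ := h
        _ ≤ N ⊔ J • (N ⊔ (J ^ k) • ⊤) := sup_le_sup_left (Submodule.smul_mono le_rfl ih) _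
        _ = N ⊔ (J • N ⊔ J • (J ^ k) • ⊤) := by rw [Submodule.smul_sup]
        _ ≤ N ⊔ (J ^ (k + 1)) • ⊤ := by
          refine sup_le le_sup_left (sup_le (le_sup_of_le_left Submodule.smul_le_right) ?_)
          rw [← Submodule.mul_smul, ← pow_succ']
          exact le_sup_right
  have := key n
  rw [hJ] at this
  simpa using this

/-- Variant of helper1's `eq_top_of_ker_eq_map`: only the extended ideal is assumed nilpotent. -/
lemma eq_top_of_ker_eq_map' {A' B' B : Type*} [CommRing A'] [CommRing B'] [CommRing B]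
    [Algebra A' B'] (π : B' →+* B) (J : Ideal A') (hJ : IsNilpotent (J.map (algebraMap A' B')))
    (hker : RingHom.ker π = J.map (algebraMap A' B')) (N : Submodule A' B')
    (hN : ∀ b : B', ∃ n ∈ N, π n = π b) : N = ⊤ := by
  obtain ⟨n, hn⟩ := hJ
  apply eq_top_of_top_le_sup_smul_of_pow_smul N J n
  · rw [Ideal.smul_top_eq_map, Ideal.map_pow, hn]
    rfl
  · intro b _
    obtain ⟨m, hm, hmb⟩ := hN b
    have : b = m + (b - m) := by ring
    rw [this]
    refine Submodule.add_mem_sup hm ?_
    rw [Ideal.smul_top_eq_map, Submodule.restrictScalars_mem, ← hker, RingHom.mem_ker, map_sub,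
      hmb, sub_self]

/-- `φ : A' → B'`, `π : B' → B` surjective with `ker π = J B'` nilpotent, and `π ∘ φ` of finite type: then `φ` is of
finite type. -/
theorem finiteType_of_ker_eq_map' {A' B' B : Type*} [CommRing A'] [CommRing B'] [CommRing B]
    (φ : A' →+* B') (π : B' →+* B) (hπ : Function.Surjective π) (J : Ideal A')
    (hJ : IsNilpotent (J.map φ)) (hker : RingHom.ker π = J.map φ)
    (h : (π.comp φ).FiniteType) : φ.FiniteType := by
  classical
  algebraize [φ, π.comp φ]
  obtain ⟨t, ht⟩ := (Algebra.FiniteType.out : (⊤ : Subalgebra A' B).FG)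
  choose l hl using hπ
  let T : Finset B' := t.image l
  let C : Subalgebra A' B' := Algebra.adjoin A' (T : Set B')
  suffices hC : C = ⊤ from ⟨⟨T, hC⟩⟩
  let πA : B' →ₐ[A'] B := { π with commutes' := fun a ↦ rfl }
  have hmap : C.map πA = ⊤ := by
    rw [eq_top_iff, ← ht, AlgHom.map_adjoin]
    apply Algebra.adjoin_mono
    intro x hx
    refine ⟨l x, ?_, hl x⟩
    simp only [T, Finset.coe_image, Set.mem_image]
    exact ⟨x, hx, rfl⟩
  have hN : Subalgebra.toSubmodule C = ⊤ := by
    apply eq_top_of_ker_eq_map' π J hJ hker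
    intro b
    have hb : π b ∈ C.map πA := by rw [hmap]; trivial
    obtain ⟨c, hc, hcb⟩ := hb
    exact ⟨c, hc, hcb⟩
  rw [eq_top_iff]
  intro b _
  have : b ∈ Subalgebra.toSubmodule C := by rw [hN]; trivial
  exact this

variable {A' B' A B : CommRingCat.{u}} {φ : A' ⟶ B'} {ψ : A' ⟶ A} {π : B' ⟶ B} {γ : A ⟶ B}

/-- In a pushout square of rings along a surjection `ψ` such that the kernel of the opposite map `π` is nilpotent,
finite type ascends. -/
theorem finiteType_of_isPushout_of_nil_ker (h : IsPushout φ ψ π γ) (hψ : Function.Surjective ψ)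
    (hnil : IsNilpotent (RingHom.ker π.hom)) (hγ : γ.hom.FiniteType) : φ.hom.FiniteType := by
  have hker := ThickSq.ker_eq_map_of_isPushout h hψ
  refine finiteType_of_ker_eq_map' φ.hom π.hom (ThickSq.surjective_of_isPushout h hψ) _ ?_ hker ?_
  · rw [← hker]
    exact hnil
  · have : π.hom.comp φ.hom = γ.hom.comp ψ.hom := congr($(h.w).hom)
    rw [this]
    exact hγ.comp (RingHom.FiniteType.of_surjective _ hψ)

variable {X X' Y Y' : Scheme.{u}} {iX : X ⟶ X'} {iY : Y ⟶ Y'} {f : X ⟶ Y} {f' : X' ⟶ Y'}

/-- Locally of finite type ascends along a cartesian square over a closed immersion whose pulled back closed immersion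
has affine locally nilpotent ideal. -/
theorem locallyOfFiniteType_of_isPullback_nil_source (hc : IsPullback iX f f' iY) [IsClosedImmersion iY]
    (hnil : ∀ V : X'.affineOpens, IsNilpotent (RingHom.ker (iX.app V.1).hom))
    [LocallyOfFiniteType f] : LocallyOfFiniteType f' := by
  haveI : IsClosedImmersion iX := MorphismProperty.of_isPullback hc.flip ‹_›
  rw [HasRingHomProperty.iff_appLE (P := @LocallyOfFiniteType)]
  intro U V e
  have e' := ThickSq.preimage_le_of_isPullback hc e
  have hpo := ThickSq.isPushout_appLE hc U.2 V.2 e e'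
  refine finiteType_of_isPushout_of_nil_ker hpo (iY.app_surjective U.1 U.2) (hnil V) ?_
  exact HasRingHomProperty.appLE (P := @LocallyOfFiniteType) f inferInstance
    ⟨_, U.2.preimage iY⟩ ⟨_, V.2.preimage iX⟩ e'

end Groth.Agent.Lib.Helper6.ThickSqSch
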