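import Groth.Agent.Lib.Helper6.ThickAlgSpN2
import Groth.Agent.Lib.Helper6.ThickSqSch
import Groth.Agent.Lib.Helper1.ThickImm
import Groth.Agent.Lib.Helper1.ThickFin
import Groth.Agent.Lib.Helper1.NilSurj

/-!
# Helper library (helper6): cartesian morphisms of thickenings of algebraic spaces

Setting: `iX : X ⟶ X'`, `iY : Y ⟶ Y'` thickenings of algebraic spaces, `f : X ⟶ Y`, `f' : X' ⟶ Y'` with
`X = X' ×_{Y'} Y`.  `ChartSq` packages compatible etale chart diagrams of `f` and `f'` whose underlying schemes form a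
cartesian square over a thickening of schemes; scheme-level results then transfer.
-/

set_option autoImplicit false
universe u
open CategoryTheory CategoryTheory.Limits AlgebraicGeometry AlgSp

namespace Groth.Agent.Lib.Helper6.ThickAlgSp

open Groth.Agent.Lib.Helper16

variable {S : Scheme.{u}}

/-- Finite order on affine etale charts gives nilpotent kernels on affine opens of any etale scheme chart. -/
theorem nil_of_affLocT {F G : Sp S} (i : F ⟶ G) (N : ℕ) (hBa : AffLocT (powZero N) i)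
    {W W' : Over S} (n : W ⟶ W') (c : (yon S).obj W ⟶ F) (c' : (yon S).obj W' ⟶ G)
    (hc'e : RepWith @Etale c') (sqW : IsPullback c ((yon S).map n) i c')
    (hn : IsClosedImmersion n.left) (O : W'.left.affineOpens) :
    IsNilpotent (RingHom.ker (n.left.app O.1).hom) := by
  haveI := hn
  apply isNilpotent_ker_app_of_restrict n.left O.1 O.2 N
  let VO : Over S := Over.mk (O.1.ι ≫ W'.hom)
  let ιO : VO ⟶ W' := Over.homMk O.1.ι rfl
  let WO : Over S := Over.mk ((n.left ⁻¹ᵁ O.1).ι ≫ W.hom)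
  let ιWO : WO ⟶ W := Over.homMk (n.left ⁻¹ᵁ O.1).ι rfl
  have hsnd : (n.left ∣_ O.1) ≫ VO.hom = WO.hom := by
    show (n.left ∣_ O.1) ≫ O.1.ι ≫ W'.hom = (n.left ⁻¹ᵁ O.1).ι ≫ W.hom
    rw [← Category.assoc, morphismRestrict_ι, Category.assoc, Over.w n]
  let sndO : WO ⟶ VO := Over.homMk (n.left ∣_ O.1) hsnd
  have hcomm : ιWO ≫ n = sndO ≫ ιO := by
    apply Over.OverMorphism.ext
    exact (morphismRestrict_ι n.left O.1).symm
  have sq1 : IsPullback ιWO sndO n ιO :=
    IsPullback.of_map (Over.forget S) hcomm (isPullback_morphismRestrict n.left O.1).flip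
  have sq3 : IsPullback ((yon S).map ιWO ≫ c) ((yon S).map sndO) i ((yon S).map ιO ≫ c') :=
    (sq1.map (yon S)).paste_horiz sqW
  have hιe : Etale ιO.left := by
    show Etale O.1.ι
    infer_instance
  have hbO : RepWith @Etale ((yon S).map ιO ≫ c') :=
    (RepWith @Etale).comp_mem _ _ ((repWith_yon_map_iff _ _).2 hιe) hc'e
  have hVO : IsAffine VO.left := O.2
  exact hBa ((yon S).map ιO ≫ c') ((yon S).map ιWO ≫ c) sndO hVO hbO sq3

/-- Compatible chart diagrams for `f` and `f'` in a cartesian morphism of thickenings. -/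
structure ChartSq {X X' Y Y' : Sp S} (iX : X ⟶ X') (iY : Y ⟶ Y') (f : X ⟶ Y) (f' : X' ⟶ Y') where
  U : Over S
  U' : Over S
  V : Over S
  V' : Over S
  pU : U ⟶ U'
  pV : V ⟶ V'
  m : U ⟶ V
  m' : U' ⟶ V'
  a : (yon S).obj U ⟶ X
  a' : (yon S).obj U' ⟶ X'
  b : (yon S).obj V ⟶ Y
  b' : (yon S).obj V' ⟶ Y'
  ha : RepWith @Etale a
  ha' : RepWith @Etale a'
  hb : RepWith @Etale b
  hb' : RepWith @Etale b'
  has' : RepWith @Surjective a'
  hbs' : RepWith @Surjective b'
  surj_a : Function.Surjective (Points.ofPt a)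
  comm : a ≫ f = (yon S).map m ≫ b
  comm' : a' ≫ f' = (yon S).map m' ≫ b'
  commX : a ≫ iX = (yon S).map pU ≫ a'
  commY : b ≫ iY = (yon S).map pV ≫ b'
  sqU : IsPullback pU.left m.left m'.left pV.left
  sqa : IsPullback a ((yon S).map pU) iX a'
  thick_pV : IsClosedImmersion pV.left ∧ Surjective pV.left

/-- Chart squares exist. -/
theorem nonempty_chartSq {X X' Y Y' : Sp S} (hX' : IsAlgSpace X') (hY' : IsAlgSpace Y')
    (iX : X ⟶ X') (iY : Y ⟶ Y') (f : X ⟶ Y) (f' : X' ⟶ Y')
    (sqX : IsPullback iX f f' iY) (hY : IsThickMor iY) : Nonempty (ChartSq iX iY f f') := by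
  obtain ⟨V', b', hb'e, hb's⟩ := hY'.atlas
  obtain ⟨U'₀, a'₀, ha'₀e, ha'₀s⟩ := hX'.atlas
  obtain ⟨U', m', cU, ha'e, ha'c, -, sqU'₀, ha's⟩ := exists_chart_diagram f' b' hb'e a'₀ ha'₀e
  have ha's' := ha's hb's ha'₀s
  obtain ⟨V, pV, b, sqV⟩ := hY.rep b'
  have hpV : thick pV.left := hY.property _ _ _ sqV
  have hbe : RepWith @Etale b := (RepWith @Etale).of_isPullback sqV.flip hb'e
  have hbs : RepWith @Surjective b := (RepWith @Surjective).of_isPullback sqV.flip hb's
  obtain ⟨a, ha1, ha2, hae, hapt⟩ := FlatBC.chart_baseChange sqX b' a'₀ m' cU sqU'₀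
      b pV sqV.w (pullback.fst m' pV) (pullback.snd m' pV) (IsPullback.of_hasPullback _ _) ha'₀e hbe
  have sqUs : IsPullback (pullback.fst m' pV).left (pullback.snd m' pV).left m'.left pV.left :=
    (IsPullback.of_hasPullback m' pV).map (Over.forget S)
  have hsurj : Function.Surjective (Points.ofPt a) := by
    intro x
    obtain ⟨v, hv⟩ := ofPt_surjective_of_surjective b hbs (Points.map f x)
    obtain ⟨u, hu1, -⟩ := hapt ha'₀s x v hv
    exact ⟨u, hu1⟩
  have sqyU : IsPullback ((yon S).map (pullback.snd m' pV)) ((yon S).map (pullback.fst m' pV))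
      ((yon S).map pV) ((yon S).map m') :=
    ((IsPullback.of_hasPullback m' pV).map (yon S)).flip
  have souter : IsPullback (a ≫ f) ((yon S).map (pullback.fst m' pV)) iY
      (((yon S).map cU ≫ a'₀) ≫ f') := by
    rw [ha2, ha'c]
    exact sqyU.paste_horiz sqV
  have sqa : IsPullback a ((yon S).map (pullback.fst m' pV)) iX ((yon S).map cU ≫ a'₀) :=
    IsPullback.of_right souter ha1 sqX.flip
  exact ⟨{
    U := _, U' := U', V := V, V' := V'
    pU := pullback.fst m' pV
    pV := pV
    m := pullback.snd m' pV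
    m' := m'
    a := a
    a' := (yon S).map cU ≫ a'₀
    b := b
    b' := b'
    ha := hae
    ha' := ha'e
    hb := hbe
    hb' := hb'e
    has' := ha's'
    hbs' := hb's
    surj_a := hsurj
    comm := ha2
    comm' := ha'c
    commX := ha1
    commY := sqV.w
    sqU := sqUs
    sqa := sqa
    thick_pV := hpV }⟩

namespace ChartSq

variable {X X' Y Y' : Sp S} {iX : X ⟶ X'} {iY : Y ⟶ Y'} {f : X ⟶ Y} {f' : X' ⟶ Y'}
  (T : ChartSq iX iY f f')

theorem isClosedImmersion_pU : IsClosedImmersion T.pU.left :=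
  MorphismProperty.of_isPullback (P := @IsClosedImmersion) T.sqU.flip T.thick_pV.1

theorem surjective_pU : Surjective T.pU.left :=
  MorphismProperty.of_isPullback (P := @Surjective) T.sqU.flip T.thick_pV.2

theorem hnil (T : ChartSq iX iY f f') (N : ℕ) (hN : AffLocT (powZero N) iX) (O : T.U'.left.affineOpens) :
    IsNilpotent (RingHom.ker (T.pU.left.app O.1).hom) :=
  nil_of_affLocT iX N hN T.pU T.a T.a' T.ha' T.sqa T.isClosedImmersion_pU O

theorem lft_m' (T : ChartSq iX iY f f')
    (hnil : ∀ O : T.U'.left.affineOpens, IsNilpotent (RingHom.ker (T.pU.left.app O.1).hom))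
    (h : LocallyOfFiniteType T.m.left) : LocallyOfFiniteType T.m'.left := by
  haveI := T.thick_pV.1
  haveI := h
  exact ThickSqSch.locallyOfFiniteType_of_isPullback_nil_source T.sqU hnil

theorem lqf_m' (T : ChartSq iX iY f f') (hl : LocallyOfFiniteType T.m'.left)
    (h : (@LocallyQuasiFinite ⊓ @LocallyOfFiniteType : MorphismProperty Scheme.{u}) T.m.left) :
    (@LocallyQuasiFinite ⊓ @LocallyOfFiniteType : MorphismProperty Scheme.{u}) T.m'.left := by
  haveI := T.isClosedImmersion_pU
  haveI := T.surjective_pU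
  haveI := T.thick_pV.1
  haveI := T.thick_pV.2
  haveI := hl
  haveI : LocallyQuasiFinite T.m.left := h.1
  exact ⟨ThickDeform2.locallyQuasiFinite_of_thickening T.pU.left T.pV.left T.m.left T.m'.left T.sqU.w, hl⟩

theorem unram_m' (T : ChartSq iX iY f f') (hl : LocallyOfFiniteType T.m'.left)
    (h : (@LocallyOfFiniteType ⊓ @FormallyUnramified : MorphismProperty Scheme.{u}) T.m.left) :
    (@LocallyOfFiniteType ⊓ @FormallyUnramified : MorphismProperty Scheme.{u}) T.m'.left := by
  haveI := T.surjective_pU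
  haveI := hl
  haveI : FormallyUnramified T.m.left := h.2
  exact ⟨hl,
    ThickDeform2.formallyUnramified_of_thickening T.pU.left T.pV.left T.m.left T.m'.left T.sqU⟩

theorem locP_imp (T : ChartSq iX iY f f') {P : MorphismProperty Scheme.{u}} (hP : EtLocalST P)
    (H : P T.m.left → P T.m'.left) (hf : LocP P f) : LocP P f' :=
  locP_of_chart hP f' T.a' T.b' T.m' T.ha' T.has' T.hb' T.comm' (H (hf T.a T.b T.m T.ha T.hb T.comm))

/-- Transfer of an etale-local property along the square. -/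
theorem locP_iff (T : ChartSq iX iY f f') {P : MorphismProperty Scheme.{u}} (hP : EtLocalST P)
    (hX' : IsAlgSpace X') (hY' : IsAlgSpace Y') (sqX : IsPullback iX f f' iY)
    (H : P T.m.left → P T.m'.left) : LocP P f ↔ LocP P f' :=
  ⟨T.locP_imp hP H, fun hf' => locP_of_isPullback hP hX' hY' sqX hf'⟩

/-- Relative dimension `d`. -/
theorem relDim_iff (T : ChartSq iX iY f f') (hX' : IsAlgSpace X') (hY' : IsAlgSpace Y')
    (sqX : IsPullback iX f f' iY) (d : ℕ) (hlft' : LocP @LocallyOfFiniteType f') :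
    ((LocP @LocallyOfFiniteType f ∧
        ∀ x, HasAtMor (fun _ _ h u => FlatMor.fibreDimAt h u = (d : WithBot ℕ∞)) f x) ↔
      (LocP @LocallyOfFiniteType f' ∧
        ∀ x', HasAtMor (fun _ _ h u => FlatMor.fibreDimAt h u = (d : WithBot ℕ∞)) f' x')) := by
  have hlft : LocP @LocallyOfFiniteType f :=
    locP_of_isPullback etLocalST_locallyOfFiniteType hX' hY' sqX hlft'
  haveI := T.isClosedImmersion_pU
  haveI := T.surjective_pU
  haveI := T.thick_pV.1
  have key : ∀ u : ↥T.U.left, FlatMor.fibreDimAt T.m'.left (T.pU.left u) = FlatMor.fibreDimAt T.m.left u :=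
    fun u => ThickDeform2.fibreDimAt_of_thickening T.pU.left T.pV.left T.m.left T.m'.left T.sqU.w u
  have iffU : ∀ u : ↥T.U.left,
      HasAtMor (fun _ _ h u => FlatMor.fibreDimAt h u = (d : WithBot ℕ∞)) f (Points.ofPt T.a u) ↔
      HasAtMor (fun _ _ h u => FlatMor.fibreDimAt h u = (d : WithBot ℕ∞)) f'
        (Points.ofPt T.a' (T.pU.left u)) := by
    intro u
    have h1 := DimF.hasAtMor_fibreDimAt_iff (fun t => t = (d : WithBot ℕ∞)) f hlft T.a T.b T.m T.ha T.hb
      T.comm u
    have h2 := DimF.hasAtMor_fibreDimAt_iff (fun t => t = (d : WithBot ℕ∞)) f' hlft' T.a' T.b' T.m' T.ha'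
      T.hb' T.comm' (T.pU.left u)
    constructor
    · intro h
      exact h2.mpr ((key u).trans (h1.mp h))
    · intro h
      exact h1.mpr ((key u).symm.trans (h2.mp h))
  constructor
  · rintro ⟨-, h⟩
    refine ⟨hlft', fun x' => ?_⟩
    obtain ⟨u', rfl⟩ := ofPt_surjective_of_surjective T.a' T.has' x'
    obtain ⟨u, rfl⟩ := T.pU.left.surjective u'
    exact (iffU u).mp (h _)
  · rintro ⟨-, h⟩
    refine ⟨hlft, fun x => ?_⟩
    obtain ⟨u, rfl⟩ := T.surj_a x
    exact (iffU u).mpr (h _)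

end ChartSq

/-- Locally quasi-finite and separated implies representable. -/
theorem representable_of_lqf_separated {X' Y' : Sp S} (hX' : IsAlgSpace X') (hY' : IsAlgSpace Y')
    (f' : X' ⟶ Y') (hlqf : LocP (@LocallyQuasiFinite ⊓ @LocallyOfFiniteType) f')
    (hsep : IsSeparatedMor f') : Representable f' := by
  haveI : (RepWith (S := S) @IsClosedImmersion).RespectsIso :=
    MorphismProperty.IsStableUnderBaseChange.respectsIso
  intro T t
  have sqZ := IsPullback.of_hasPullback f' t
  have hZ : IsAlgSpace (pullback f' t) :=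
    isAlgSpace_of_isPullback hX' hY'.diag (IsAlgSpace.yon_obj T) sqZ
  have hq : LocP (@LocallyQuasiFinite ⊓ @LocallyOfFiniteType) (pullback.snd f' t) :=
    locP_of_isPullback etLocalST_locallyQuasiFinite hX' hY' sqZ hlqf
  have hqs : IsSeparatedMor (pullback.snd f' t) :=
    (RepWith (S := S) @IsClosedImmersion).diagonal.of_isPullback sqZ hsep
  have hr : (pullback f' t).obj.IsRepresentable :=
    SchLocus.isRepresentable_of_forall_mem_schLocus hZ
      (fun x => ZmtSp.mem_schLocus_of_lqf_separated hZ _ hq hqs x)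
  obtain ⟨M, ⟨r⟩⟩ := hr.has_representation
  obtain ⟨snd, hsnd⟩ := (yon S).map_surjective ((isoOfRepresentableBy r).hom ≫ pullback.snd f' t)
  refine ⟨M, snd, (isoOfRepresentableBy r).hom ≫ pullback.fst f' t, ?_⟩
  rw [hsnd]
  exact IsPullback.of_iso sqZ (isoOfRepresentableBy r).symm (Iso.refl _) (Iso.refl _) (Iso.refl _)
    (by simp) (by simp) (by simp) (by simp)

/-- Ascent of a representable property along a cartesian square over a thickening, given representability with an
auxiliary property `Q` of the thickened morphism and the scheme-level ascent. -/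
theorem repWith_of_thick {P Q : MorphismProperty Scheme.{u}}
    (H : ∀ ⦃A A' B B' : Scheme.{u}⦄ (iA : A ⟶ A') (iB : B ⟶ B') (h : A ⟶ B) (h' : A' ⟶ B'),
      IsPullback iA h h' iB → thick iB → Q h' → P h → P h')
    {X X' Y Y' : Sp S} {i : X ⟶ X'} {j : Y ⟶ Y'} {f : X ⟶ Y} {f' : X' ⟶ Y'}
    (sqX : IsPullback i f f' j) (hj : IsThickMor j) (hQ : RepWith Q f') (hP : RepWith P f) :
    RepWith P f' := by
  refine ⟨hQ.rep, fun T W' g fst' snd' sq' => ?_⟩
  obtain ⟨T₀, pT, g₀, sqT⟩ := hj.rep g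
  have hpT : thick pT.left := hj.property _ _ _ sqT
  have e1 : ((yon S).map (pullback.fst snd' pT) ≫ fst') ≫ f' =
      ((yon S).map (pullback.snd snd' pT) ≫ g₀) ≫ j := by
    rw [Category.assoc, sq'.w, Category.assoc, sqT.w, ← Category.assoc, ← Category.assoc,
      ← Functor.map_comp, ← Functor.map_comp, pullback.condition]
  have sq0 : IsPullback ((yon S).map (pullback.fst snd' pT)) ((yon S).map (pullback.snd snd' pT))
      ((yon S).map snd') ((yon S).map pT) := (IsPullback.of_hasPullback snd' pT).map (yon S)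
  have hbig : IsPullback ((yon S).map (pullback.fst snd' pT) ≫ fst')
      ((yon S).map (pullback.snd snd' pT)) f' ((yon S).map pT ≫ g) := sq0.paste_horiz sq'
  have sql : IsPullback (sqX.lift _ _ e1) ((yon S).map (pullback.snd snd' pT)) f g₀ := by
    refine IsPullback.of_right ?_ (sqX.lift_snd _ _ e1) sqX
    rw [sqX.lift_fst, sqT.w]
    exact hbig
  have hP0 : P (pullback.snd snd' pT).left := hP.property _ _ _ sql
  have hQ' : Q snd'.left := hQ.property _ _ _ sq'
  show P snd'.left
  exact H _ _ _ _ ((IsPullback.of_hasPullback snd' pT).map (Over.forget S)) hpT hQ' hP0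

/-- The four global equivalences for a cartesian morphism of thickenings, given that locally of finite type ascends. -/
theorem ChartSq.global_iffs {X X' Y Y' : Sp S} {iX : X ⟶ X'} {iY : Y ⟶ Y'} {f : X ⟶ Y} {f' : X' ⟶ Y'}
    (T : ChartSq iX iY f f') (hX : IsAlgSpace X) (hX' : IsAlgSpace X') (hY : IsAlgSpace Y)
    (hY' : IsAlgSpace Y') (sqX : IsPullback iX f f' iY) (hi : IsThickMor iX) (hj : IsThickMor iY)
    (lftI : LocP @LocallyOfFiniteType f → LocP @LocallyOfFiniteType f') :
    (IsFiniteMor f ↔ IsFiniteMor f') ∧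
    (RepWith @IsClosedImmersion f ↔ RepWith @IsClosedImmersion f') ∧
    (RepWith @IsImmersion f ↔ RepWith @IsImmersion f') ∧
    (IsProperMor f ↔ IsProperMor f') := by
  have hw : iX ≫ f' = f ≫ iY := sqX.w
  obtain ⟨-, tQc, tUc, -, -⟩ := Thick.topological_iff_of_thick hX hX' hY hY' iX iY f f' hi hj hw
  have tSep := (Thick.separated_iff_of_thick hX hX' hY hY' iX iY f f' hi hj hw).1
  have lqfI : LocP (@LocallyQuasiFinite ⊓ @LocallyOfFiniteType) f →
      LocP (@LocallyQuasiFinite ⊓ @LocallyOfFiniteType) f' := by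
    intro h
    have hl' : LocP @LocallyOfFiniteType f' := lftI (locP_mono (fun _ _ _ hg => hg.2) h)
    have hlm' : LocallyOfFiniteType T.m'.left := hl' T.a' T.b' T.m' T.ha' T.hb' T.comm'
    exact T.locP_imp etLocalST_locallyQuasiFinite (T.lqf_m' hlm') h
  have finI : LocP (@LocallyQuasiFinite ⊓ @LocallyOfFiniteType) f → IsSeparatedMor f →
      IsUnivClosedMor f → RepWith @IsFinite f' :=
    fun hlq hsep huc => repWith_isFinite_of hX' hY' f' (lqfI hlq) (tSep.1 hsep) (tUc.1 huc)
  have finRep : RepWith @IsFinite f → RepWith @IsFinite f' := by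
    intro hF
    have hlq : LocP (@LocallyQuasiFinite ⊓ @LocallyOfFiniteType) f :=
      locP_of_repWith _ @IsFinite (fun A B C m i hm hi => by
        have : IsFinite i := hi
        exact etLocalST_locallyQuasiFinite.precomp m i hm ⟨inferInstance, inferInstance⟩) f hF
    have hsep : IsSeparatedMor f := isSeparatedMor_of_repWith (P := @IsFinite)
      (fun _ _ g hg => by
        have : IsFinite g := hg
        exact (inferInstance : IsSeparated g)) hX f hF
    have huc : IsUnivClosedMor f := (repWith_universallyClosed_iff f hF.rep).1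
      (repWith_mono (fun _ _ g hg => by
        have : IsFinite g := hg
        exact (inferInstance : UniversallyClosed g)) f hF)
    exact finI hlq hsep huc
  refine ⟨⟨?_, ?_⟩, ⟨?_, ?_⟩, ⟨?_, ?_⟩, ⟨?_, ?_⟩⟩
  · intro hf
    exact isFiniteMor_of_repWith f' (finI (locP_lqf_of_isFiniteMor f hf)
      (isSeparatedMor_of_isFiniteMor hX f hf) (isUnivClosedMor_of_isFiniteMor f hf))
  · intro hf'
    exact Groth.Agent.Lib.Helper17.affP_of_isPullback (Q := @IsFinite) sqX hf'
  · intro hf
    have hF : RepWith @IsFinite f := repWith_mono (fun _ _ g hg => by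
      have : IsClosedImmersion g := hg
      exact (inferInstance : IsFinite g)) f hf
    have hF' := finRep hF
    refine repWith_of_thick (Q := @IsFinite) (P := @IsClosedImmersion) ?_ sqX hj hF' hf
    intro A A' B B' iA iB h h' hc hB hQ hP
    haveI : IsClosedImmersion iB := hB.1
    haveI : IsFinite h' := hQ
    haveI : IsClosedImmersion h := hP
    haveI : IsClosedImmersion (pullback.snd h' iB) := by
      have : pullback.snd h' iB = hc.isoPullback.inv ≫ h := by
        rw [Iso.eq_inv_comp]; exact hc.isoPullback_hom_snd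
      rw [this]; infer_instance
    exact Groth.Agent.Lib.Helper1.NilSurj.isClosedImmersion_of_pullback h' iB hB.2.surj
  · intro hf'
    exact (RepWith (S := S) @IsClosedImmersion).of_isPullback sqX hf'
  · intro hf
    have hlq : LocP (@LocallyQuasiFinite ⊓ @LocallyOfFiniteType) f :=
      locP_of_repWith _ @IsImmersion (fun A B C m i hm hi => by
        have : IsImmersion i := hi
        exact etLocalST_locallyQuasiFinite.precomp m i hm ⟨inferInstance, inferInstance⟩) f hf
    have hsep : IsSeparatedMor f := isSeparatedMor_of_repWith (P := @IsImmersion)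
      (fun _ _ g hg => by
        have : IsImmersion g := hg
        exact (inferInstance : IsSeparated g)) hX f hf
    have hlq' := lqfI hlq
    have hl' : LocP @LocallyOfFiniteType f' := locP_mono (fun _ _ _ hg => hg.2) hlq'
    have hrep' : Representable f' := representable_of_lqf_separated hX' hY' f' hlq' (tSep.1 hsep)
    have hQ' : RepWith @LocallyOfFiniteType f' := by
      refine ⟨hrep', fun T₁ M t fst snd sq => ?_⟩
      show LocallyOfFiniteType snd.left
      exact locP_yon_map (locP_of_isPullback etLocalST_locallyOfFiniteType hX' hY' sq hl')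
    refine repWith_of_thick (Q := @LocallyOfFiniteType) (P := @IsImmersion) ?_ sqX hj hQ' hf
    intro A A' B B' iA iB h h' hc hB hQ hP
    haveI : LocallyOfFiniteType h' := hQ
    haveI : IsImmersion h := hP
    exact Groth.Agent.Lib.Helper1.ThickImm.isImmersion_of_isPullback hB hc
  · intro hf'
    exact (RepWith (S := S) @IsImmersion).of_isPullback sqX hf'
  · rintro ⟨a, ⟨l, c⟩, d⟩
    exact ⟨tSep.1 a, ⟨lftI l, tQc.1 c⟩, tUc.1 d⟩
  · rintro ⟨a, ⟨l, c⟩, d⟩
    exact ⟨tSep.2 a, ⟨locP_of_isPullback etLocalST_locallyOfFiniteType hX' hY' sqX l, tQc.2 c⟩, tUc.2 d⟩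

/-- **S10593**. -/
theorem main10593 {X X' Y Y' : AlgSp.Space S} (i : X ⟶ X') (j : Y ⟶ Y')
    (f : X ⟶ Y) (f' : X' ⟶ Y')
    (hi : AlgSp.IsThickMor i.hom)
    (hj : AlgSp.IsThickMor j.hom) (w : i ≫ f' = f ≫ j)
    (hcart : IsPullback i.hom f.hom f'.hom j.hom)
    (hft : AlgSp.LocP @LocallyOfFiniteType f.hom) (hft' : AlgSp.LocP @LocallyOfFiniteType f'.hom) :
    (AlgSp.LocP (@LocallyQuasiFinite ⊓ @LocallyOfFiniteType) f.hom ↔
      AlgSp.LocP (@LocallyQuasiFinite ⊓ @LocallyOfFiniteType) f'.hom) ∧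
    (AlgSp.LocP (@LocallyOfFiniteType ⊓ @FormallyUnramified) f.hom ↔
      AlgSp.LocP (@LocallyOfFiniteType ⊓ @FormallyUnramified) f'.hom) := by
  obtain ⟨T⟩ := nonempty_chartSq X'.property Y'.property i.hom j.hom f.hom f'.hom hcart hj
  have hlm' : LocallyOfFiniteType T.m'.left := hft' T.a' T.b' T.m' T.ha' T.hb' T.comm'
  exact ⟨T.locP_iff etLocalST_locallyQuasiFinite X'.property Y'.property hcart (T.lqf_m' hlm'),
    T.locP_iff etLocalST_unramified X'.property Y'.property hcart (T.unram_m' hlm')⟩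

/-- **S10594**. -/
theorem main10594 {X X' Y Y' : AlgSp.Space S} (i : X ⟶ X') (j : Y ⟶ Y')
    (f : X ⟶ Y) (f' : X' ⟶ Y')
    (hi : AlgSp.IsThickMor i.hom)
    (hj : AlgSp.IsThickMor j.hom) (w : i ≫ f' = f ≫ j)
    (hcart : IsPullback i.hom f.hom f'.hom j.hom)
    (hft : AlgSp.LocP @LocallyOfFiniteType f.hom) (hft' : AlgSp.LocP @LocallyOfFiniteType f'.hom) :
    (AlgSp.IsFiniteMor f.hom ↔ AlgSp.IsFiniteMor f'.hom) ∧
    (AlgSp.RepWith @IsClosedImmersion f.hom ↔ AlgSp.RepWith @IsClosedImmersion f'.hom) ∧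
    (AlgSp.RepWith @IsImmersion f.hom ↔ AlgSp.RepWith @IsImmersion f'.hom) ∧
    (AlgSp.IsProperMor f.hom ↔ AlgSp.IsProperMor f'.hom) := by
  obtain ⟨T⟩ := nonempty_chartSq X'.property Y'.property i.hom j.hom f.hom f'.hom hcart hj
  exact T.global_iffs X.property X'.property Y.property Y'.property hcart hi hj (fun _ => hft')

/-- **S10591**. -/
theorem main10591 {X X' Y Y' : AlgSp.Space S} (i : X ⟶ X') (j : Y ⟶ Y')
    (f : X ⟶ Y) (f' : X' ⟶ Y')
    (hi : AlgSp.IsThickMor i.hom)
    (hj : AlgSp.IsThickMor j.hom) (w : i ≫ f' = f ≫ j)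
    (hcart : IsPullback i.hom f.hom f'.hom j.hom)
    (hfo : AlgSp.IsFinThickMor i.hom) (d : ℕ) :
    ((AlgSp.LocP @LocallyOfFiniteType f.hom ∧
        ∀ x, AlgSp.HasAtMor (fun _ _ h u => FlatMor.fibreDimAt h u = (d : WithBot ℕ∞)) f.hom x) ↔
      (AlgSp.LocP @LocallyOfFiniteType f'.hom ∧
        ∀ x', AlgSp.HasAtMor (fun _ _ h u => FlatMor.fibreDimAt h u = (d : WithBot ℕ∞)) f'.hom x')) ∧
    (AlgSp.LocP @LocallyOfFiniteType f.hom ↔ AlgSp.LocP @LocallyOfFiniteType f'.hom) ∧
    (AlgSp.LocP (@LocallyQuasiFinite ⊓ @LocallyOfFiniteType) f.hom ↔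
      AlgSp.LocP (@LocallyQuasiFinite ⊓ @LocallyOfFiniteType) f'.hom) ∧
    (AlgSp.LocP (@LocallyOfFiniteType ⊓ @FormallyUnramified) f.hom ↔
      AlgSp.LocP (@LocallyOfFiniteType ⊓ @FormallyUnramified) f'.hom) := by
  obtain ⟨T⟩ := nonempty_chartSq X'.property Y'.property i.hom j.hom f.hom f'.hom hcart hj
  obtain ⟨N, -, hN⟩ := hfo
  have hnil := T.hnil N hN
  have lftIff := T.locP_iff etLocalST_locallyOfFiniteType X'.property Y'.property hcart (T.lft_m' hnil)
  exact ⟨⟨fun h => (T.relDim_iff X'.property Y'.property hcart d (lftIff.1 h.1)).1 h,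
      fun h => (T.relDim_iff X'.property Y'.property hcart d h.1).2 h⟩, lftIff,
    T.locP_iff etLocalST_locallyQuasiFinite X'.property Y'.property hcart
      (fun h => T.lqf_m' (T.lft_m' hnil h.2) h),
    T.locP_iff etLocalST_unramified X'.property Y'.property hcart
      (fun h => T.unram_m' (T.lft_m' hnil h.1) h)⟩

/-- **S10592**. -/
theorem main10592 {X X' Y Y' : AlgSp.Space S} (i : X ⟶ X') (j : Y ⟶ Y')
    (f : X ⟶ Y) (f' : X' ⟶ Y')
    (hi : AlgSp.IsThickMor i.hom)
    (hj : AlgSp.IsThickMor j.hom) (w : i ≫ f' = f ≫ j)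
    (hcart : IsPullback i.hom f.hom f'.hom j.hom)
    (hfo : AlgSp.IsFinThickMor i.hom) :
    (AlgSp.RepWith @IsClosedImmersion f.hom ↔ AlgSp.RepWith @IsClosedImmersion f'.hom) ∧
    (AlgSp.IsProperMor f.hom ↔ AlgSp.IsProperMor f'.hom) ∧
    (AlgSp.IsFiniteMor f.hom ↔ AlgSp.IsFiniteMor f'.hom) ∧
    (AlgSp.RepWith @IsImmersion f.hom ↔ AlgSp.RepWith @IsImmersion f'.hom) := by
  obtain ⟨T⟩ := nonempty_chartSq X'.property Y'.property i.hom j.hom f.hom f'.hom hcart hj
  obtain ⟨N, -, hN⟩ := hfo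
  have hnil := T.hnil N hN
  have lftIff := T.locP_iff etLocalST_locallyOfFiniteType X'.property Y'.property hcart (T.lft_m' hnil)
  obtain ⟨h1, h2, h3, h4⟩ :=
    T.global_iffs X.property X'.property Y.property Y'.property hcart hi hj lftIff.1
  exact ⟨h2, h4, h1, h3⟩

end Groth.Agent.Lib.Helper6.ThickAlgSp
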