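import Groth.Agent.Lib.Helper6.SysAdic
import Groth.Agent.Lib.Helper6.AdicHom
import Mathlib.RingTheory.Noetherian.OfPrime
import Mathlib.RingTheory.Finiteness.Ideal

/-!
# Thickenings with nilpotent finite type ideal of locally Noetherian schemes
-/

universe u

open CategoryTheory CategoryTheory.Limits AlgebraicGeometry

namespace Groth.Agent.Lib.Helper6.Thickening

open AlgebraicGeometry.Scheme AlgebraicGeometry.Scheme.IdealSheafData
open Groth.Agent.Lib.Helper6.IdealComap Groth.Agent.Lib.Helper6.SysAdic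
open Groth.Agent.Lib.Helper6.AdicHom

theorem isNoetherianRing_of_nilpotent_ker {R S : Type*} [CommRing R] [CommRing S] (φ : R →+* S)
    (hφ : Function.Surjective φ) [IsNoetherianRing S] (hI : (RingHom.ker φ).FG) (k : ℕ)
    (hk : (RingHom.ker φ) ^ k = ⊥) : IsNoetherianRing R := by
  apply IsNoetherianRing.of_prime
  intro P hP
  have hIP : RingHom.ker φ ≤ P := Ideal.IsPrime.le_of_pow_le (n := k) (hk ▸ bot_le)
  apply Ideal.fg_of_fg_map_of_fg_inf_ker_of_surjective (f := φ) _ _ hφ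
  · exact IsNoetherian.noetherian _
  · rw [inf_eq_right.mpr hIP]
    exact hI

theorem fg_comap_of_bijective {R S : Type*} [CommRing R] [CommRing S] (e : R →+* S)
    (he : Function.Bijective e) {I : Ideal S} (hI : I.FG) : (I.comap e).FG := by
  have h : I.comap e = Ideal.map (RingEquiv.ofBijective e he).symm I := by
    rw [Ideal.map_symm]
    rfl
  rw [h]
  exact hI.map ((RingEquiv.ofBijective e he).symm : S →+* R)

variable {X Y : Scheme.{u}}

theorem iSup_affine_pairs_eq_top (g : X ⟶ Y) :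
    ⨆ p : {p : X.affineOpens × Y.affineOpens // p.1.1 ≤ g ⁻¹ᵁ p.2.1}, p.1.1.1 = ⊤ := by
  rw [eq_top_iff]
  intro x _
  obtain ⟨V, hV, hxV, -⟩ := TopologicalSpace.Opens.isBasis_iff_nbhd.mp Y.isBasis_affineOpens
    (show g x ∈ (⊤ : Y.Opens) from trivial)
  obtain ⟨U, hU, hxU, hUV⟩ := TopologicalSpace.Opens.isBasis_iff_nbhd.mp X.isBasis_affineOpens
    (show x ∈ g ⁻¹ᵁ V from hxV)
  exact TopologicalSpace.Opens.mem_iSup.mpr ⟨⟨(⟨U, hU⟩, ⟨V, hV⟩), hUV⟩, hxU⟩

theorem fg_ideal_comap (g : X ⟶ Y) (K : Y.IdealSheafData) (U : X.affineOpens)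
    (V : Y.affineOpens) (hUV : U.1 ≤ g ⁻¹ᵁ V.1) (hK : (K.ideal V).FG) :
    ((K.comap g).ideal U).FG := by
  have : IsAffine (U.1 : Scheme) := U.2
  have : IsAffine (V.1 : Scheme) := V.2
  have key : (K.comap g).comap U.1.ι = (K.comap V.1.ι).comap (g.resLE V.1 U.1 hUV) := by
    rw [← comap_comp, ← comap_comp, Scheme.Hom.resLE_comp_ι]
  have auxV : ∀ W : Y.affineOpens, W = V → (K.ideal W).FG := by
    rintro W rfl
    exact hK
  have h1 : ((K.comap V.1.ι).ideal ⟨⊤, isAffineOpen_top _⟩).FG := by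
    rw [ideal_comap_of_isOpenImmersion]
    exact fg_comap_of_bijective _ (ConcreteCategory.bijective_of_isIso (V.1.ι.appIso ⊤).inv)
      (auxV _ (Subtype.ext V.1.ι_image_top))
  have h2 : (((K.comap g).comap U.1.ι).ideal ⟨⊤, isAffineOpen_top _⟩).FG := by
    rw [key, ideal_comap_of_isAffine]
    exact h1.map _
  rw [ideal_comap_of_isOpenImmersion] at h2
  have h3 := h2.map (U.1.ι.appIso ⊤).inv.hom
  rw [Ideal.map_comap_of_surjective _
    (ConcreteCategory.bijective_of_isIso (U.1.ι.appIso ⊤).inv).2] at h3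
  have auxU : ∀ W : X.affineOpens, W = U → ((K.comap g).ideal W).FG → ((K.comap g).ideal U).FG := by
    rintro W rfl h
    exact h
  exact auxU _ (Subtype.ext U.1.ι_image_top) h3

/-- A scheme containing a locally Noetherian closed subscheme whose ideal is nilpotent and is the
inverse image of an ideal sheaf on a locally Noetherian scheme is locally Noetherian. -/
theorem isLocallyNoetherian_of_thickening {X₀ X S : Scheme.{u}} (j : X₀ ⟶ X)
    [IsClosedImmersion j] (g : X ⟶ S) [IsLocallyNoetherian X₀] [IsLocallyNoetherian S]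
    (𝓙 : S.IdealSheafData) (h𝓘 : j.ker = 𝓙.comap g) (k : ℕ) (hk : j.ker ^ k = ⊥) :
    IsLocallyNoetherian X := by
  apply isLocallyNoetherian_of_affine_cover
    (S := fun p : {p : X.affineOpens × S.affineOpens // p.1.1 ≤ g ⁻¹ᵁ p.2.1} => p.1.1)
    (iSup_affine_pairs_eq_top g)
  rintro ⟨⟨U, V⟩, hUV⟩
  dsimp only
  have hN : IsNoetherianRing Γ(X₀, j ⁻¹ᵁ U.1) :=
    IsLocallyNoetherian.component_noetherian ⟨j ⁻¹ᵁ U.1, U.2.preimage j⟩
  have hNS : IsNoetherianRing Γ(S, V.1) := IsLocallyNoetherian.component_noetherian V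
  have hker : RingHom.ker (j.app U.1).hom = j.ker.ideal U := (Scheme.Hom.ker_apply j U).symm
  apply isNoetherianRing_of_nilpotent_ker (j.app U.1).hom (j.app_surjective U.1 U.2) _ k _
  · rw [hker, h𝓘]
    exact fg_ideal_comap g 𝓙 U V hUV (IsNoetherian.noetherian _)
  · rw [hker, ← Pi.pow_apply, ← ideal_pow, hk, ideal_bot]
    rfl

theorem comap_ker_self (f : X ⟶ Y) : f.ker.comap f = ⊥ := by
  rw [← le_bot_iff, ← map_bot]
  exact comap_map_le ⊥ f

theorem toX_ker_pow (𝔛 : FSch.Sys.{u}) (hF : 𝔛.IsFormal) (hA : 𝔛.IsAdic) (m : ℕ) :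
    (𝔛.toX m).ker ^ (m + 1) = ⊥ := by
  have := (hF m).1
  have := isClosedImmersion_toX 𝔛 hF (m + 1)
  rw [ker_eq_comap_of_comp_eq (𝔛.toX m) (𝔛.ι m) (𝔛.toX (m + 1)) rfl, ← comap_pow, ← hA m,
    comap_ker_self]

/-- A system adic over a locally Noetherian adic formal system, with locally Noetherian
level `0`, is a locally Noetherian adic formal system. -/
theorem isLocNoethFormal_of_isAdicHom {𝔛 𝔖 : FSch.Sys.{u}} (f : 𝔛 ⟶ 𝔖)
    (h𝔖 : 𝔖.IsLocNoethFormal) (hf : FSch.IsAdicHom f) [IsLocallyNoetherian (𝔛.X 0)] :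
    𝔛.IsLocNoethFormal := by
  obtain ⟨hF, hA⟩ := isFormal_isAdic_of_isAdicHom f hf h𝔖.1 h𝔖.2.1
  refine ⟨hF, hA, fun m => ?_⟩
  have := isClosedImmersion_toX 𝔛 hF m
  have := h𝔖.2.2 m
  have := isClosedImmersion_toX 𝔖 h𝔖.1 m
  exact isLocallyNoetherian_of_thickening (𝔛.toX m) ((f : FSch.Hom _ _).app m) ((𝔖.toX m).ker)
    (ker_eq_comap_of_isPullback (isPullback_toX f hf m)) (m + 1) (toX_ker_pow 𝔛 hF hA m)

/-- The base change of an adic morphism of systems is adic. -/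
theorem isAdicHom_pullbackSnd {𝔛 𝔖 𝔖' : FSch.Sys.{u}} (f : 𝔛 ⟶ 𝔖) (g : 𝔖' ⟶ 𝔖)
    (hf : FSch.IsAdicHom f) : FSch.IsAdicHom (FSch.pullbackSnd f g) := by
  intro n
  have C : ∀ n, IsPullback (pullback.fst ((f : FSch.Hom 𝔛 𝔖).app n) ((g : FSch.Hom 𝔖' 𝔖).app n))
      (pullback.snd ((f : FSch.Hom 𝔛 𝔖).app n) ((g : FSch.Hom 𝔖' 𝔖).app n))
      ((f : FSch.Hom 𝔛 𝔖).app n) ((g : FSch.Hom 𝔖' 𝔖).app n) :=
    fun n => IsPullback.of_hasPullback _ _
  have E := (C n).paste_horiz (hf n)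
  have e1 : pullback.fst ((f : FSch.Hom 𝔛 𝔖).app n) ((g : FSch.Hom 𝔖' 𝔖).app n) ≫ 𝔛.ι n =
      (FSch.pullbackSys f g).ι n ≫
        pullback.fst ((f : FSch.Hom 𝔛 𝔖).app (n + 1)) ((g : FSch.Hom 𝔖' 𝔖).app (n + 1)) :=
    (FSch.pullbackFst f g : FSch.Hom _ _).comm n
  rw [e1, (g : FSch.Hom 𝔖' 𝔖).comm n] at E
  exact IsPullback.of_right E ((FSch.pullbackSnd f g : FSch.Hom _ _).comm n).symm (C (n + 1))

end Groth.Agent.Lib.Helper6.Thickening
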