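import Mathlib
import Groth.Agent.Lib.Helper6.Thickening

/-!
# Levels of an adic system of thickenings over a locally Noetherian base level are locally Noetherian
-/

set_option autoImplicit false
universe u

open CategoryTheory CategoryTheory.Limits AlgebraicGeometry

namespace Groth.Agent.Lib.Helper6.ThickeningNoeth

open Groth.Agent.Lib.Helper6.Thickening

/-- If `R / I^(n+1)` is Noetherian, `n ≥ 1` and `I^(n+2) = 0`, then `R` is Noetherian. -/
theorem isNoetherianRing_of_pow_ker {R S : Type*} [CommRing R] [CommRing S] (ψ : R →+* S)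
    (hψ : Function.Surjective ψ) [IsNoetherianRing S] (I : Ideal R) (n : ℕ) (hn : 1 ≤ n)
    (hker : RingHom.ker ψ = I ^ (n + 1)) (hnil : I ^ (n + 2) = ⊥) : IsNoetherianRing R := by
  set J := I ^ (n + 1) with hJ
  have hJI : J ≤ I := Ideal.pow_le_self (by omega)
  have hJI0 : J * I = ⊥ := by rw [hJ, ← pow_succ, hnil]
  obtain ⟨𝔞, h𝔞fg, h𝔞I, hI𝔞⟩ : ∃ 𝔞 : Ideal R, 𝔞.FG ∧ 𝔞 ≤ I ∧ I ≤ 𝔞 ⊔ J := by
    have hfg : (I.map ψ).FG := IsNoetherian.noetherian _
    obtain ⟨s, hs⟩ := hfg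
    have hlift : ∀ y ∈ s, ∃ g ∈ I, ψ g = y := by
      intro y hy
      have : y ∈ I.map ψ := by rw [← hs]; exact Ideal.subset_span hy
      exact (Ideal.mem_map_iff_of_surjective ψ hψ).mp this
    choose! g hgI hgy using hlift
    classical
    refine ⟨Ideal.span (s.image g : Set R), ⟨s.image g, rfl⟩, ?_, ?_⟩
    · rw [Ideal.span_le]
      intro x hx
      rw [Finset.coe_image] at hx
      obtain ⟨y, hy, rfl⟩ := hx
      exact hgI y hy
    · intro x hx
      have hx' : ψ x ∈ Ideal.span (s : Set S) := by rw [hs]; exact Ideal.mem_map_of_mem ψ hx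
      have hmap : Ideal.span (s : Set S) = (Ideal.span (s.image g : Set R)).map ψ := by
        rw [Ideal.map_span, Finset.coe_image, ← Set.image_comp]
        congr 1
        ext y
        constructor
        · intro hy
          exact ⟨y, hy, hgy y hy⟩
        · rintro ⟨z, hz, rfl⟩
          rw [Function.comp_apply, hgy z hz]
          exact hz
      rw [hmap] at hx'
      obtain ⟨a, ha, hax⟩ := (Ideal.mem_map_iff_of_surjective ψ hψ).mp hx'
      have hk : x - a ∈ RingHom.ker ψ := by rw [RingHom.mem_ker, map_sub, hax, sub_self]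
      rw [hker] at hk
      have hxa : x = a + (x - a) := by ring
      rw [hxa]
      exact Ideal.add_mem _ (Ideal.mem_sup_left ha) (Ideal.mem_sup_right hk)
  have hIeq : I = 𝔞 ⊔ J := le_antisymm hI𝔞 (sup_le h𝔞I hJI)
  have hI𝔞pow : ∀ k : ℕ, 1 ≤ k → 𝔞 ^ k * I = 𝔞 ^ (k + 1) := by
    intro k hk
    have h1 : 𝔞 ^ k ≤ I := (Ideal.pow_le_self (by omega)).trans h𝔞I
    have h2 : 𝔞 ^ k * J = ⊥ := by
      rw [← le_bot_iff, ← hJI0, mul_comm J I]
      exact Ideal.mul_mono_left h1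
    calc 𝔞 ^ k * I = 𝔞 ^ k * (𝔞 ⊔ J) := by rw [← hIeq]
      _ = 𝔞 ^ k * 𝔞 ⊔ 𝔞 ^ k * J := Ideal.mul_sup _ _ _
      _ = 𝔞 ^ (k + 1) := by rw [h2, sup_bot_eq, pow_succ]
  have hII : I * I = 𝔞 * I := by
    calc I * I = (𝔞 ⊔ J) * I := by rw [← hIeq]
      _ = 𝔞 * I ⊔ J * I := Ideal.sup_mul _ _ _
      _ = 𝔞 * I := by rw [hJI0, sup_bot_eq]
  have hpow : ∀ k : ℕ, I ^ (k + 2) = 𝔞 ^ (k + 2) := by
    intro k
    induction k with
    | zero =>
      show I ^ 2 = 𝔞 ^ 2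
      have h := hI𝔞pow 1 le_rfl
      rw [pow_one] at h
      rw [pow_two, hII, h]
    | succ k ih =>
      show I ^ (k + 2 + 1) = 𝔞 ^ (k + 2 + 1)
      rw [pow_succ, ih, hI𝔞pow (k + 2) (by omega)]
  obtain ⟨m, rfl⟩ : ∃ m, n = m + 1 := ⟨n - 1, by omega⟩
  have hJ𝔞 : J = 𝔞 ^ (m + 2) := hpow m
  have hI𝔞' : I = 𝔞 := by
    rw [hIeq]
    apply sup_eq_left.mpr
    rw [hJ𝔞]
    exact Ideal.pow_le_self (by omega)
  have hIfg : I.FG := hI𝔞' ▸ h𝔞fg
  apply isNoetherianRing_of_nilpotent_ker ψ hψ _ 2 _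
  · rw [hker]
    exact hIfg.pow
  · rw [hker, ← pow_mul, ← le_bot_iff, ← hnil]
    exact Ideal.pow_le_pow_right (by omega)

theorem isLocallyNoetherian_level (𝔛 : FSch.Sys.{u}) (hF : 𝔛.IsFormal) (hA : 𝔛.IsAdic)
    [IsLocallyNoetherian (𝔛.X 0)] (hft : FSch.IdealFT (𝔛.ι 0).ker) (n : ℕ) :
    IsLocallyNoetherian (𝔛.X n) := by
  induction n with
  | zero => infer_instance
  | succ n ih =>
    haveI := ih
    haveI : IsClosedImmersion (𝔛.ι n) := (hF n).1
    refine ⟨fun U => ?_⟩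
    haveI hN : IsNoetherianRing Γ(𝔛.X n, 𝔛.ι n ⁻¹ᵁ U.1) :=
      IsLocallyNoetherian.component_noetherian ⟨𝔛.ι n ⁻¹ᵁ U.1, U.2.preimage (𝔛.ι n)⟩
    have hsurj : Function.Surjective ((𝔛.ι n).app U.1).hom := (𝔛.ι n).app_surjective U.1 U.2
    set I : Ideal Γ(𝔛.X (n + 1), U.1) := (𝔛.toX (n + 1)).ker.ideal U with hI
    have hker : RingHom.ker ((𝔛.ι n).app U.1).hom = I ^ (n + 1) := by
      rw [← Scheme.Hom.ker_apply (𝔛.ι n) U, hA n, Scheme.IdealSheafData.ideal_pow]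
      rfl
    have hnil : I ^ (n + 2) = ⊥ := by
      have h := toX_ker_pow 𝔛 hF hA (n + 1)
      have h2 : ((𝔛.toX (n + 1)).ker ^ (n + 1 + 1)).ideal U = ⊥ := by rw [h]; rfl
      rw [Scheme.IdealSheafData.ideal_pow] at h2
      exact h2
    rcases Nat.eq_zero_or_pos n with rfl | hn
    · apply isNoetherianRing_of_nilpotent_ker _ hsurj _ 2 _
      · rw [← Scheme.Hom.ker_apply (𝔛.ι 0) U]
        exact hft U
      · rw [hker, ← pow_mul]
        exact hnil
    · exact isNoetherianRing_of_pow_ker _ hsurj I n hn hker hnil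

end Groth.Agent.Lib.Helper6.ThickeningNoeth
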