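import Mathlib
import Groth.Prelude.Def_SiteCmp
import Groth.Prelude.Def_WeakSerre
import Groth.Prelude.Def_CohCx
import Groth.Prelude.Def_FreeSh
import Groth.Agent.Lib.Helper29.WS9074B

/-!
# The kernels of `m • γ` jointly cover the source of a map into a torsion sheaf (helper6, for S9063)
-/

set_option autoImplicit false
universe u
open CategoryTheory CategoryTheory.Limits Opposite

noncomputable section

namespace Groth.Agent.Lib.Helper6.TorsTC

open Groth.Agent.Lib.Helper29.WS9074A Groth.Agent.Lib.Helper29.WS9074B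

variable {C : Type u} [SmallCategory C] (J : GrothendieckTopology C)

theorem jointly_epi_kernel_nsmul {A H : Sheaf J AddCommGrpCat.{u}} (hH : SiteCmp.IsTorsionSh J H)
    (γ : A ⟶ H) {Z : Sheaf J AddCommGrpCat.{u}} (f g : A ⟶ Z)
    (h : ∀ m : ℕ, 0 < m → kernel.ι (m • γ) ≫ f = kernel.ι (m • γ) ≫ g) : f = g := by
  have key : ∀ (V : C) (a : A.obj.obj (op V)),
      IsOfFinAddOrder ((γ.hom.app (op V)).hom a) →
      (f.hom.app (op V)).hom a = (g.hom.app (op V)).hom a := by
    intro V a ha
    obtain ⟨m, hm, hma⟩ := isOfFinAddOrder_iff_nsmul_eq_zero.1 ha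
    have h1 : CohFree.ofSect J V A a ≫ (m • γ) = 0 := by
      rw [Preadditive.comp_nsmul, ofSect_comp]
      have h3 : m • CohFree.ofSect J V H ((γ.hom.app (op V)).hom a) =
          CohFree.ofSect J V H (m • (γ.hom.app (op V)).hom a) :=
        (map_nsmul (CohFree.homEquivSect J V H).symm m _).symm
      rw [h3, hma, ofSect_zero]
    have h2 : CohFree.ofSect J V A a ≫ f = CohFree.ofSect J V A a ≫ g := by
      rw [← kernel.lift_ι (m • γ) (CohFree.ofSect J V A a) h1, Category.assoc, Category.assoc,
        h m hm]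
    rw [ofSect_comp, ofSect_comp] at h2
    exact (CohFree.homEquivSect J V Z).symm.injective h2
  apply (sheafToPresheaf J AddCommGrpCat.{u}).map_injective
  apply NatTrans.ext
  funext U
  apply AddCommGrpCat.hom_ext
  apply AddMonoidHom.ext
  intro a
  rcases U with ⟨U'⟩
  show (f.hom.app (op U')).hom a = (g.hom.app (op U')).hom a
  obtain ⟨S, hS, hSt⟩ := hH U' ((γ.hom.app (op U')).hom a)
  have hZ' := (Presheaf.isSheaf_iff_isSheaf_forget J Z.obj (forget AddCommGrpCat.{u})).1 Z.property
  have hZs := (isSheaf_iff_isSheaf_of_type J _).1 hZ'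
  refine ((Presieve.IsSheaf.isSeparated hZs) S hS).ext ?_
  intro V k hk
  change rs Z.obj k ((f.hom.app (op U')).hom a) = rs Z.obj k ((g.hom.app (op U')).hom a)
  rw [← rs_nat f.hom, ← rs_nat g.hom]
  apply key
  rw [rs_nat γ.hom]
  exact hSt k hk

end Groth.Agent.Lib.Helper6.TorsTC
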