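import Mathlib

/-!
Trace modulo a maximal ideal for extensions of Dedekind domains:
`Tr(y) mod p = ∑_{Q | p} e(Q|p) • Tr_{(B/Q)/(A/p)} (y mod Q)`.

Strategy: `Tr(y) mod p` is the trace of `y` on `B/pB` (Mathlib).  Writing `pB` as a product of
maximal ideals and filtering `B/pB` accordingly, the trace is additive along the filtration, and
each graded piece `I/IQ` is isomorphic to `B/Q`.
-/

set_option autoImplicit false
universe u

namespace Groth.Agent.Lib.Helper6.TraceResidue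

attribute [local instance] Ideal.Quotient.field

section abstract

variable {κ : Type*} [Field κ] {V V₁ V₂ : Type*} [AddCommGroup V] [Module κ V]
  [AddCommGroup V₁] [Module κ V₁] [AddCommGroup V₂] [Module κ V₂]
  [FiniteDimensional κ V] [FiniteDimensional κ V₁] [FiniteDimensional κ V₂]

/-- additivity of the trace in a short exact sequence of vector spaces with compatible
endomorphisms -/
theorem trace_of_exact (f : V →ₗ[κ] V) (f₁ : V₁ →ₗ[κ] V₁) (f₂ : V₂ →ₗ[κ] V₂)
    (i : V₁ →ₗ[κ] V) (q : V →ₗ[κ] V₂) (hi : Function.Injective i) (hq : Function.Surjective q)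
    (hex : ∀ v, q v = 0 → ∃ u, i u = v) (hqi : ∀ u, q (i u) = 0)
    (h₁ : ∀ u, f (i u) = i (f₁ u)) (h₂ : ∀ v, q (f v) = f₂ (q v)) :
    LinearMap.trace κ V f = LinearMap.trace κ V₁ f₁ + LinearMap.trace κ V₂ f₂ := by
  obtain ⟨σ, hσ⟩ := LinearMap.exists_rightInverse_of_surjective q (LinearMap.range_eq_top.mpr hq)
  obtain ⟨r', hr'⟩ := LinearMap.exists_leftInverse_of_injective i (LinearMap.ker_eq_bot.mpr hi)
  have hσ' : ∀ v₂, q (σ v₂) = v₂ := fun v₂ => LinearMap.congr_fun hσ v₂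
  have hr'' : ∀ u, r' (i u) = u := fun u => LinearMap.congr_fun hr' u
  obtain ⟨ρ, hρ⟩ : ∃ ρ : V →ₗ[κ] V₁, ρ = r' ∘ₗ (LinearMap.id - σ ∘ₗ q) := ⟨_, rfl⟩
  have hdecomp : f = (f ∘ₗ σ) ∘ₗ q + (f ∘ₗ i) ∘ₗ ρ := by
    apply LinearMap.ext
    intro v
    have hv : q (v - σ (q v)) = 0 := by rw [map_sub, hσ', sub_self]
    obtain ⟨u, hu⟩ := hex _ hv
    rw [hρ]
    simp only [LinearMap.add_apply, LinearMap.comp_apply, LinearMap.sub_apply, LinearMap.id_apply]
    rw [← hu, hr'', hu, ← map_add]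
    congr 1
    abel
  have e1 : q ∘ₗ (f ∘ₗ σ) = f₂ := by
    apply LinearMap.ext
    intro v₂
    simp only [LinearMap.comp_apply]
    rw [h₂, hσ']
  have e2 : ρ ∘ₗ (f ∘ₗ i) = f₁ := by
    apply LinearMap.ext
    intro u
    rw [hρ]
    simp only [LinearMap.comp_apply, LinearMap.sub_apply, LinearMap.id_apply]
    rw [h₁, hqi, map_zero, sub_zero, hr'']
  have t1 : LinearMap.trace κ V ((f ∘ₗ σ) ∘ₗ q) = LinearMap.trace κ V₂ f₂ := by
    rw [LinearMap.trace_comp_comm', e1]
  have t2 : LinearMap.trace κ V ((f ∘ₗ i) ∘ₗ ρ) = LinearMap.trace κ V₁ f₁ := by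
    rw [LinearMap.trace_comp_comm', e2]
  rw [hdecomp, map_add, t1, t2, add_comm]

end abstract

section concrete

variable {A B : Type u} [CommRing A] [CommRing B] [IsDedekindDomain A] [IsDedekindDomain B]
  [Algebra A B] [Module.Finite A B] (p : Ideal A) [hpmax : p.IsMaximal] (y : B)

omit [IsDedekindDomain A] [IsDedekindDomain B] [Module.Finite A B] in
theorem liesOver_of_le (J : Ideal B) (h1 : p.map (algebraMap A B) ≤ J) (h2 : J ≠ ⊤) :
    J.LiesOver p := by
  constructor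
  apply Ideal.IsMaximal.eq_of_le hpmax
  · intro h
    apply h2
    rw [Ideal.eq_top_iff_one]
    have h1A : (1 : A) ∈ J.under A := by
      rw [h]
      exact Submodule.mem_top
    rw [Ideal.under_def, Ideal.mem_comap, map_one] at h1A
    exact h1A
  · exact Ideal.map_le_iff_le_comap.mp h1

instance finite_quot (J : Ideal B) [J.LiesOver p] : Module.Finite (A ⧸ p) (B ⧸ J) :=
  Module.Finite.of_restrictScalars_finite A (A ⧸ p) (B ⧸ J)

open Classical in
/-- the trace of `y` on `B ⧸ J` over `A ⧸ p` (zero if `J` does not lie over `p`) -/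
noncomputable def T (J : Ideal B) : A ⧸ p :=
  if h : J.LiesOver p then
    @Algebra.trace (A ⧸ p) (B ⧸ J) _ _ (@Ideal.Quotient.algebraOfLiesOver A B _ _ _ J p h)
      (Ideal.Quotient.mk J y)
  else 0

omit [IsDedekindDomain A] [IsDedekindDomain B] [Module.Finite A B] hpmax in
theorem T_eq (J : Ideal B) [h : J.LiesOver p] :
    T p y J = Algebra.trace (A ⧸ p) (B ⧸ J) (Ideal.Quotient.mk J y) := dif_pos h

/-- the Dedekind sandwich: no ideal strictly between `I * Q` and `I` -/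
theorem sup_eq (I Q : Ideal B) (hI0 : I ≠ ⊥) (hQ : Q.IsMaximal) (a : B) (haI : a ∈ I)
    (haIQ : a ∉ I * Q) : Ideal.span {a} ⊔ I * Q = I := by
  have hKI : Ideal.span {a} ⊔ I * Q ≤ I :=
    sup_le ((Ideal.span_singleton_le_iff_mem I).mpr haI) Ideal.mul_le_left
  obtain ⟨K', hK'⟩ := Ideal.dvd_iff_le.mpr hKI
  have hQK' : Q ≤ K' := by
    have h1 : I * Q ≤ I * K' := by
      rw [← hK']
      exact le_sup_right
    have h2 : I * K' ∣ I * Q := Ideal.dvd_iff_le.mpr h1
    exact Ideal.le_of_dvd ((mul_dvd_mul_iff_left hI0).mp h2)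
  by_cases hK'top : K' = ⊤
  · rw [hK', hK'top, Ideal.mul_top]
  · exfalso
    have : Q = K' := hQ.eq_of_le hK'top hQK'
    apply haIQ
    rw [this, ← hK']
    exact Ideal.mem_sup_left (Ideal.mem_span_singleton_self a)

theorem step (I Q : Ideal B) (hI0 : I ≠ ⊥) [hQ : Q.IsMaximal] [I.LiesOver p] [Q.LiesOver p]
    [(I * Q).LiesOver p] :
    Algebra.trace (A ⧸ p) (B ⧸ (I * Q)) (Ideal.Quotient.mk (I * Q) y) =
      Algebra.trace (A ⧸ p) (B ⧸ Q) (Ideal.Quotient.mk Q y) +
        Algebra.trace (A ⧸ p) (B ⧸ I) (Ideal.Quotient.mk I y) := by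
  have hlt : I * Q < I := by
    refine lt_of_le_of_ne Ideal.mul_le_left ?_
    intro h
    have h' : I * Q = I * ⊤ := by rw [Ideal.mul_top]; exact h
    exact hQ.ne_top (mul_left_cancel₀ hI0 h')
  obtain ⟨a, haI, haIQ⟩ := SetLike.exists_of_lt hlt
  have hsup := sup_eq I Q hI0 hQ a haI haIQ
  -- the B-linear maps
  let q₀ : (B ⧸ (I * Q)) →ₗ[B] (B ⧸ I) :=
    Submodule.mapQ (I * Q) I LinearMap.id (fun x hx => Ideal.mul_le_left hx)
  let i₀ : (B ⧸ Q) →ₗ[B] (B ⧸ (I * Q)) :=
    Submodule.liftQ Q ((Submodule.mkQ (I * Q)).comp (LinearMap.toSpanSingleton B B a))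
      (fun b hb => by
        rw [LinearMap.mem_ker, LinearMap.comp_apply, LinearMap.toSpanSingleton_apply,
          Submodule.mkQ_apply, Submodule.Quotient.mk_eq_zero, smul_eq_mul]
        have hba : b * a = a * b := mul_comm b a
        rw [hba]
        exact Ideal.mul_mem_mul haI hb)
  have hq₀ : ∀ b : B, q₀ (Ideal.Quotient.mk (I * Q) b) = Ideal.Quotient.mk I b := fun b => rfl
  have hi₀ : ∀ b : B, i₀ (Ideal.Quotient.mk Q b) = Ideal.Quotient.mk (I * Q) (b * a) :=
    fun b => rfl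
  have hsurjA : Function.Surjective (algebraMap A (A ⧸ p)) := Ideal.Quotient.mk_surjective
  let qκ : (B ⧸ (I * Q)) →ₗ[A ⧸ p] (B ⧸ I) :=
    LinearMap.extendScalarsOfSurjective hsurjA (q₀.restrictScalars A)
  let iκ : (B ⧸ Q) →ₗ[A ⧸ p] (B ⧸ (I * Q)) :=
    LinearMap.extendScalarsOfSurjective hsurjA (i₀.restrictScalars A)
  have hqκ : ∀ v, qκ v = q₀ v := fun v => rfl
  have hiκ : ∀ v, iκ v = i₀ v := fun v => rfl
  rw [Algebra.trace_apply, Algebra.trace_apply, Algebra.trace_apply]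
  refine trace_of_exact _ _ _ iκ qκ ?_ ?_ ?_ ?_ ?_ ?_
  · -- injective
    rw [injective_iff_map_eq_zero]
    intro u hu
    obtain ⟨b, rfl⟩ := Ideal.Quotient.mk_surjective u
    rw [hiκ, hi₀, Ideal.Quotient.eq_zero_iff_mem] at hu
    rw [Ideal.Quotient.eq_zero_iff_mem]
    by_contra hbQ
    obtain ⟨c, q', hq', hcq⟩ := hQ.exists_inv hbQ
    apply haIQ
    have : a = c * (b * a) + a * q' := by
      linear_combination (-a) * hcq
    rw [this]
    exact Ideal.add_mem _ (Ideal.mul_mem_left _ _ hu) (Ideal.mul_mem_mul haI hq')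
  · -- surjective
    intro v
    obtain ⟨b, rfl⟩ := Ideal.Quotient.mk_surjective v
    exact ⟨Ideal.Quotient.mk (I * Q) b, hq₀ b⟩
  · -- exact
    intro v hv
    obtain ⟨b', rfl⟩ := Ideal.Quotient.mk_surjective v
    rw [hqκ, hq₀, Ideal.Quotient.eq_zero_iff_mem] at hv
    rw [← hsup] at hv
    obtain ⟨s, hs, t, ht, hst⟩ := Submodule.mem_sup.mp hv
    obtain ⟨b, rfl⟩ := Ideal.mem_span_singleton'.mp hs
    refine ⟨Ideal.Quotient.mk Q b, ?_⟩
    rw [hiκ, hi₀, Ideal.Quotient.eq]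
    have : b * a - b' = -t := by rw [← hst]; ring
    rw [this]
    exact (I * Q).neg_mem ht
  · intro u
    obtain ⟨b, rfl⟩ := Ideal.Quotient.mk_surjective u
    rw [hiκ, hi₀, hqκ, hq₀, Ideal.Quotient.eq_zero_iff_mem]
    exact Ideal.mul_mem_left _ _ haI
  · intro u
    obtain ⟨b, rfl⟩ := Ideal.Quotient.mk_surjective u
    simp only [Algebra.coe_lmul_eq_mul, LinearMap.mul_apply']
    rw [← map_mul, hiκ, hiκ, hi₀, hi₀, ← map_mul, mul_assoc]
  · intro v
    obtain ⟨b, rfl⟩ := Ideal.Quotient.mk_surjective v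
    simp only [Algebra.coe_lmul_eq_mul, LinearMap.mul_apply']
    rw [← map_mul, hqκ, hqκ, hq₀, hq₀, map_mul]

theorem T_prod (hpB : p.map (algebraMap A B) ≠ ⊥) (s : Multiset (Ideal B))
    (hs : ∀ Q ∈ s, Q.IsMaximal) (hne : s ≠ 0) (hle : p.map (algebraMap A B) ≤ s.prod) :
    T p y s.prod = (s.map (T p y)).sum := by
  induction s using Multiset.induction_on with
  | empty => exact absurd rfl hne
  | cons Q s' ih =>
    have hQ : Q.IsMaximal := hs Q (Multiset.mem_cons_self Q s')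
    rw [Multiset.prod_cons] at hle
    rw [Multiset.prod_cons, Multiset.map_cons, Multiset.sum_cons]
    by_cases hs' : s' = 0
    · subst hs'
      simp
    · have hle' : p.map (algebraMap A B) ≤ s'.prod := hle.trans Ideal.mul_le_right
      have ih' := ih (fun Q' hQ' => hs Q' (Multiset.mem_cons_of_mem hQ')) hs' hle'
      obtain ⟨Q', hQ'⟩ := Multiset.exists_mem_of_ne_zero hs'
      have hQ'max : Q'.IsMaximal := hs Q' (Multiset.mem_cons_of_mem hQ')
      have hprod_le : s'.prod ≤ Q' := Ideal.le_of_dvd (Multiset.dvd_prod hQ')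
      have hprod_ne_top : s'.prod ≠ ⊤ := fun h => hQ'max.ne_top (top_le_iff.mp (h ▸ hprod_le))
      have hprod_ne_bot : s'.prod ≠ ⊥ := ne_bot_of_le_ne_bot hpB hle'
      haveI := liesOver_of_le p s'.prod hle' hprod_ne_top
      haveI := liesOver_of_le p Q (hle.trans Ideal.mul_le_left) hQ.ne_top
      haveI : (s'.prod * Q).LiesOver p :=
        liesOver_of_le p _ (by rw [mul_comm]; exact hle)
          (fun h => hQ.ne_top (top_le_iff.mp (h ▸ Ideal.mul_le_right)))
      rw [mul_comm Q, T_eq, step p y s'.prod Q hprod_ne_bot, ← T_eq, ← T_eq, ih']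

theorem main [Module.IsTorsionFree A B] (hp : p ≠ ⊥) :
    Ideal.Quotient.mk p (Algebra.intTrace A B y) =
      ∑ᶠ Q : p.primesOver B,
        Q.1.ramificationIdx A •
          Algebra.trace (A ⧸ p) (B ⧸ Q.1) (Ideal.Quotient.mk Q.1 y) := by
  classical
  have hpB : p.map (algebraMap A B) ≠ ⊥ := Ideal.map_ne_bot_of_ne_bot hp
  have hpBtop : p.map (algebraMap A B) ≠ ⊤ := by
    obtain ⟨Q⟩ := Ideal.nonempty_primesOver (S := B) p
    intro h
    have hle : p.map (algebraMap A B) ≤ Q.1 := by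
      rw [Ideal.map_le_iff_le_comap, ← Ideal.under_def, ← Q.1.over_def p]
    rw [h, top_le_iff] at hle
    exact Q.2.1.ne_top hle
  obtain ⟨F, hF⟩ : ∃ F, F = UniqueFactorizationMonoid.factors (p.map (algebraMap A B)) :=
    ⟨_, rfl⟩
  have hprod : F.prod = p.map (algebraMap A B) := by
    rw [hF]
    exact associated_iff_eq.mp (UniqueFactorizationMonoid.factors_prod hpB)
  have hFmax : ∀ Q ∈ F, Q.IsMaximal := by
    intro Q hQ
    rw [hF] at hQ
    have hprime := UniqueFactorizationMonoid.prime_of_factor Q hQ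
    exact (Ideal.isPrime_of_prime hprime).isMaximal hprime.ne_zero
  have hFne : F ≠ 0 := by
    intro h
    rw [h, Multiset.prod_zero, Ideal.one_eq_top] at hprod
    exact hpBtop hprod.symm
  haveI : (p.map (algebraMap A B)).LiesOver p := liesOver_of_le p _ le_rfl hpBtop
  have hL : Ideal.Quotient.mk p (Algebra.intTrace A B y) = T p y (p.map (algebraMap A B)) := by
    rw [T_eq, ← Algebra.trace_quotient_eq_of_isDedekindDomain]
  rw [hL, ← hprod, T_prod p y hpB F hFmax hFne (by rw [hprod]), Finset.sum_multiset_map_count]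
  have hR : ∀ Q : p.primesOver B, Q.1.ramificationIdx A •
      Algebra.trace (A ⧸ p) (B ⧸ Q.1) (Ideal.Quotient.mk Q.1 y) =
      Multiset.count Q.1 F • T p y Q.1 := by
    intro Q
    rw [T_eq, Ideal.IsDedekindDomain.ramificationIdx_eq_factors_count p Q.1 hpB, hF]
  rw [finsum_congr hR, finsum_set_coe_eq_finsum_mem (f := fun Q => Multiset.count Q F • T p y Q),
    ← IsDedekindDomain.coe_primesOverFinset hp B, finsum_mem_coe_finset, hF]

end concrete

end Groth.Agent.Lib.Helper6.TraceResidue
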