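import Mathlib
import Groth.Prelude.Def_W4c2brnrinvarInvFld
import Groth.Agent.Lib.Helper6.NoNameB

/-!
# Fixed field of a finite group acting on `E(y)`: abstract side lemma (helper6)
-/

set_option autoImplicit false

namespace Groth.Agent.Lib.Helper6.TwoReps

open Groth.Agent.Lib.Helper6.NoName

universe u

variable {k : Type u} [Field k]

/-- functoriality of `Fld` in the coefficient field. -/
noncomputable def fldCongr (σ : Type) {K₁ K₂ : Type u} [Field K₁] [Field K₂] [Algebra k K₁]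
    [Algebra k K₂] (e : K₁ ≃ₐ[k] K₂) : InvFld.Fld σ K₁ ≃ₐ[k] InvFld.Fld σ K₂ :=
  IsFractionRing.algEquivOfAlgEquiv (MvPolynomial.mapAlgEquiv σ e)

variable {L : Type u} [Field L] [Algebra k L]
  {K₀ : Type u} [Field K₀] [Algebra k K₀]

theorem sideLemma (Γ : Subgroup (L ≃ₐ[k] L)) [Finite Γ] (G₀ : Subgroup (K₀ ≃ₐ[k] K₀))
    (ι : K₀ →ₐ[k] L)
    (h1 : ∀ γ ∈ Γ, ∃ g ∈ G₀, ∀ a, γ (ι a) = ι (g a))
    (h2 : ∀ g ∈ G₀, ∃ γ ∈ Γ, ∀ a, γ (ι a) = ι (g a))
    (h3 : ∀ γ ∈ Γ, (∀ a, γ (ι a) = ι a) → γ = 1)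
    {m : ℕ} (y : Fin m → L) (h4 : AlgebraicIndependent ι.fieldRange y)
    (h5 : IntermediateField.adjoin ι.fieldRange (Set.range y) = ⊤)
    (h6 : ∀ γ ∈ Γ, ∀ j, γ (y j) ∈ Submodule.span ι.fieldRange (Set.range y)) :
    Nonempty (InvFld.Fld (Fin m) (IntermediateField.fixedField G₀) ≃ₐ[k]
      IntermediateField.fixedField Γ) := by
  classical
  haveI : Fintype Γ := Fintype.ofFinite Γ
  set E : IntermediateField k L := ι.fieldRange with hEdef
  have hE : ∀ γ ∈ Γ, ∀ a ∈ E, γ a ∈ E := by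
    rintro γ hγ _ ⟨a, rfl⟩
    obtain ⟨g, -, hg⟩ := h1 γ hγ
    exact ⟨g a, (hg a).symm⟩
  have hfaith : ∀ γ ∈ Γ, (∀ a ∈ E, γ a = a) → γ = 1 := fun γ hγ h =>
    h3 γ hγ (fun a => h _ ⟨a, rfl⟩)
  obtain ⟨t, hti, htop⟩ := noName E Γ hE y hfaith h6 h4 h5
  set F : IntermediateField k L := E ⊓ IntermediateField.fixedField Γ with hFdef
  -- the isomorphism `K₀^{G₀} ≃ F`
  have hmem : ∀ a : IntermediateField.fixedField G₀, ι (a : K₀) ∈ F := by
    intro a
    refine ⟨⟨a, rfl⟩, ?_⟩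
    rw [SetLike.mem_coe, IntermediateField.mem_fixedField_iff]
    intro γ hγ
    obtain ⟨g, hg, hga⟩ := h1 γ hγ
    rw [hga, (IntermediateField.mem_fixedField_iff _ _).mp a.2 g hg]
  let ε₀ : IntermediateField.fixedField G₀ →ₐ[k] F :=
    (ι.comp (IntermediateField.fixedField G₀).val).codRestrict F.toSubalgebra hmem
  have hε₀ : Function.Bijective ε₀ := by
    constructor
    · intro a b hab
      have h7 : ι (a : K₀) = ι (b : K₀) := congrArg Subtype.val hab
      exact Subtype.ext (ι.injective h7)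
    · rintro ⟨b, ⟨a, rfl⟩, hb⟩
      have ha : a ∈ IntermediateField.fixedField G₀ := by
        rw [IntermediateField.mem_fixedField_iff]
        intro g hg
        obtain ⟨γ, hγ, hγa⟩ := h2 g hg
        apply ι.injective
        have h8 : γ (ι a) = ι a := (IntermediateField.mem_fixedField_iff _ _).mp hb γ hγ
        exact (hγa a).symm.trans h8
      exact ⟨⟨a, ha⟩, rfl⟩
  let ε : IntermediateField.fixedField G₀ ≃ₐ[k] F := AlgEquiv.ofBijective ε₀ hε₀
  let e1 : InvFld.Fld (Fin m) (IntermediateField.fixedField G₀) ≃ₐ[k] InvFld.Fld (Fin m) F :=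
    fldCongr (Fin m) ε
  let e2 : InvFld.Fld (Fin m) F ≃ₐ[k] IntermediateField.adjoin F (Set.range t) :=
    (hti.aevalEquivField).restrictScalars k
  let e3 : IntermediateField.adjoin F (Set.range t) ≃ₐ[k]
      IntermediateField.restrictScalars k (IntermediateField.adjoin F (Set.range t)) :=
    { toFun := fun z => ⟨z.1, z.2⟩
      invFun := fun z => ⟨z.1, z.2⟩
      left_inv := fun _ => rfl
      right_inv := fun _ => rfl
      map_mul' := fun _ _ => rfl
      map_add' := fun _ _ => rfl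
      commutes' := fun _ => rfl }
  let e4 : IntermediateField.restrictScalars k (IntermediateField.adjoin F (Set.range t)) ≃ₐ[k]
      IntermediateField.fixedField Γ := IntermediateField.equivOfEq htop
  exact ⟨((e1.trans e2).trans e3).trans e4⟩

end Groth.Agent.Lib.Helper6.TwoReps
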