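import Mathlib
import Groth.Prelude.Def_W4c2brnrinvarInvFld
import Groth.Agent.Lib.Helper6.NoNameC

/-!
# Tools on rational function fields `InvFld.Fld σ k` (helper6)
-/

set_option autoImplicit false

namespace Groth.Agent.Lib.Helper6.TwoReps

open Groth.Agent.Lib.Helper6.NoName

universe u

variable (k : Type u) [Field k]

/-- alg homs out of `Fld σ k` are determined by the variables. -/
lemma fld_algHom_ext {σ : Type} {B : Type*} [CommRing B] [Algebra k B]
    (f f' : InvFld.Fld σ k →ₐ[k] B) (h : ∀ i, f (InvFld.X i) = f' (InvFld.X i)) : f = f' := by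
  have h1 : f.comp (IsScalarTower.toAlgHom k (MvPolynomial σ k) (InvFld.Fld σ k)) =
      f'.comp (IsScalarTower.toAlgHom k (MvPolynomial σ k) (InvFld.Fld σ k)) :=
    MvPolynomial.algHom_ext (fun i => h i)
  apply AlgHom.coe_ringHom_injective
  apply IsLocalization.ringHom_ext (nonZeroDivisors (MvPolynomial σ k))
  refine RingHom.ext fun x => ?_
  exact congrArg (fun g : MvPolynomial σ k →ₐ[k] B => g x) h1

/-- the variables generate `Fld σ k`. -/
lemma adjoin_X_eq_top (σ : Type) :
    IntermediateField.adjoin k (Set.range fun i : σ => (InvFld.X i : InvFld.Fld σ k)) = ⊤ := by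
  rw [eq_top_iff]
  intro g _
  obtain ⟨p, q, hq, rfl⟩ := IsFractionRing.div_surjective (A := MvPolynomial σ k) g
  have key : ∀ p : MvPolynomial σ k, algebraMap _ (InvFld.Fld σ k) p ∈
      IntermediateField.adjoin k (Set.range fun i : σ => (InvFld.X i : InvFld.Fld σ k)) := by
    intro p
    induction p using MvPolynomial.induction_on with
    | C a =>
      rw [← MvPolynomial.algebraMap_eq, ← IsScalarTower.algebraMap_apply]
      exact IntermediateField.algebraMap_mem _ _
    | add p q hp hq => rw [map_add]; exact add_mem hp hq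
    | mul_X p i hp =>
      rw [map_mul]
      exact mul_mem hp (IntermediateField.subset_adjoin _ _ ⟨i, rfl⟩)
  exact div_mem (key p) (key q)

variable {k}

/-- a family spanning the variables is algebraically independent. -/
lemma algebraicIndependent_of_X_mem_span {σ : Type} [Fintype σ] (z : σ → InvFld.Fld σ k)
    (hz : ∀ i, (InvFld.X i : InvFld.Fld σ k) ∈ Submodule.span k (Set.range z)) :
    AlgebraicIndependent k z := by
  classical
  haveI : Algebra.IsAlgebraic (MvPolynomial σ k) (InvFld.Fld σ k) :=
    IsLocalization.isAlgebraic (InvFld.Fld σ k) (nonZeroDivisors (MvPolynomial σ k))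
  set x : σ → InvFld.Fld σ k := fun i => InvFld.X i with hxdef
  have hx : IsTranscendenceBasis k x :=
    (IsTranscendenceBasis.mvPolynomial σ k).algebraMap_comp (A := InvFld.Fld σ k)
  have htr : Algebra.trdeg k (InvFld.Fld σ k) = Fintype.card σ := by
    have h4 := hx.lift_cardinalMk_eq_trdeg
    simpa using h4.symm
  have hle : Algebra.adjoin k (Set.range x) ≤ Algebra.adjoin k (Set.range z) :=
    Algebra.adjoin_le (by rintro _ ⟨j, rfl⟩; exact Algebra.span_le_adjoin k _ (hz j))
  letI : Algebra (Algebra.adjoin k (Set.range x)) (Algebra.adjoin k (Set.range z)) :=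
    (Subalgebra.inclusion hle).toAlgebra
  haveI : IsScalarTower (Algebra.adjoin k (Set.range x)) (Algebra.adjoin k (Set.range z))
      (InvFld.Fld σ k) := .of_algebraMap_eq fun _ => rfl
  haveI := hx.isAlgebraic
  haveI : Algebra.IsAlgebraic (Algebra.adjoin k (Set.range z)) (InvFld.Fld σ k) :=
    .extendScalars (Subalgebra.inclusion_injective hle)
  have hztb : IsTranscendenceBasis k z :=
    Algebra.IsAlgebraic.isTranscendenceBasis_of_lift_le_trdeg_of_finite k z
      (by rw [htr]; simp)
  exact hztb.1

/-- the embedding of `Fld τ k` given by an algebraically independent family. -/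
noncomputable def embed {τ : Type} {L : Type u} [Field L] [Algebra k L] (z : τ → L)
    (hz : AlgebraicIndependent k z) : InvFld.Fld τ k →ₐ[k] L :=
  IsFractionRing.liftAlgHom (g := MvPolynomial.aeval z)
    (algebraicIndependent_iff_injective_aeval.mp hz)

lemma embed_X {τ : Type} {L : Type u} [Field L] [Algebra k L] (z : τ → L)
    (hz : AlgebraicIndependent k z) (i : τ) : embed z hz (InvFld.X i) = z i := by
  unfold embed InvFld.X
  rw [IsFractionRing.liftAlgHom_apply, IsFractionRing.lift_algebraMap]
  exact MvPolynomial.aeval_X z i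

lemma fieldRange_embed {τ : Type} {L : Type u} [Field L] [Algebra k L] (z : τ → L)
    (hz : AlgebraicIndependent k z) :
    (embed z hz).fieldRange = IntermediateField.adjoin k (Set.range z) := by
  rw [AlgHom.fieldRange_eq_map, ← adjoin_X_eq_top k τ, IntermediateField.adjoin_map]
  congr 1
  ext w
  constructor
  · rintro ⟨_, ⟨i, rfl⟩, rfl⟩
    exact ⟨i, (embed_X z hz i).symm⟩
  · rintro ⟨i, rfl⟩
    exact ⟨_, ⟨i, rfl⟩, embed_X z hz i⟩

/-- splitting an algebraically independent generating family. -/
lemma split_family {α β : Type} {L : Type u} [Field L] [Algebra k L] (z : α ⊕ β → L)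
    (hz : AlgebraicIndependent k z) (htop : IntermediateField.adjoin k (Set.range z) = ⊤) :
    AlgebraicIndependent (IntermediateField.adjoin k (Set.range (z ∘ Sum.inl))) (z ∘ Sum.inr) ∧
      IntermediateField.adjoin (IntermediateField.adjoin k (Set.range (z ∘ Sum.inl)))
        (Set.range (z ∘ Sum.inr)) = ⊤ := by
  constructor
  · rw [IntermediateField.algebraicIndependent_adjoin_iff]
    have h1 : AlgebraicIndependent k (Sum.elim (z ∘ Sum.inr) (z ∘ Sum.inl)) := by
      have h2 := hz.comp (Equiv.sumComm β α) (Equiv.injective _)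
      convert h2 using 1
      ext (j | i) <;> rfl
    exact (AlgebraicIndependent.sumElim_iff.mp h1).2
  · apply IntermediateField.restrictScalars_injective k
    rw [IntermediateField.restrictScalars_top, IntermediateField.restrictScalars_adjoin,
      eq_top_iff, ← htop]
    apply IntermediateField.adjoin_le_iff.mpr
    rintro _ ⟨i | j, rfl⟩
    · exact IntermediateField.subset_adjoin _ _
        (Or.inl (IntermediateField.subset_adjoin _ _ ⟨i, rfl⟩))
    · exact IntermediateField.subset_adjoin _ _ (Or.inr ⟨j, rfl⟩)

end Groth.Agent.Lib.Helper6.TwoReps
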