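import Mathlib
import Groth.Prelude.Def_W4c2brnrinvarInvFld
import Groth.Agent.Lib.Helper6.TwoRepsA
import Groth.Agent.Lib.Helper6.TwoRepsB

/-!
# Two linear representations: the diagonal group on `k(x, y)` (helper6)
-/

set_option autoImplicit false

namespace Groth.Agent.Lib.Helper6.TwoReps

open Groth.Agent.Lib.Helper6.NoName

universe u

variable {k : Type u} [Field k]

lemma map_mem_span_of_mem_span {A B : Type*} [AddCommGroup A] [Module k A] [AddCommGroup B]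
    [Module k B] (f : A →ₗ[k] B) {ι : Type*} (x : ι → A) {v : A}
    (hv : v ∈ Submodule.span k (Set.range x)) :
    f v ∈ Submodule.span k (Set.range (f ∘ x)) := by
  rw [Set.range_comp, ← Submodule.map_span]
  exact Submodule.mem_map_of_mem hv

variable (k) in
/-- the `k`-span of the variables. -/
noncomputable def V (σ : Type) : Submodule k (InvFld.Fld σ k) :=
  Submodule.span k (Set.range fun i : σ => (InvFld.X i : InvFld.Fld σ k))

variable (k) in
/-- the big field `k(x, y)`. -/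
abbrev LL (n m : ℕ) : Type u := InvFld.Fld (Fin n ⊕ Fin m) k

variable {n m : ℕ}

/-- `k(x) → k(x, y)`. -/
noncomputable def ιx : InvFld.Fld (Fin n) k →ₐ[k] LL k n m :=
  embed (fun i : Fin n => (InvFld.X (Sum.inl i) : LL k n m))
    ((algebraicIndependent_X k (Fin n ⊕ Fin m)).comp Sum.inl Sum.inl_injective)

/-- `k(y) → k(x, y)`. -/
noncomputable def ιy : InvFld.Fld (Fin m) k →ₐ[k] LL k n m :=
  embed (fun j : Fin m => (InvFld.X (Sum.inr j) : LL k n m))
    ((algebraicIndependent_X k (Fin n ⊕ Fin m)).comp Sum.inr Sum.inr_injective)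

lemma ιx_X (i : Fin n) : (ιx (InvFld.X i) : LL k n m) = InvFld.X (Sum.inl i) := embed_X _ _ i

lemma ιy_X (j : Fin m) : (ιy (InvFld.X j) : LL k n m) = InvFld.X (Sum.inr j) := embed_X _ _ j

lemma fieldRange_ιx : (ιx : InvFld.Fld (Fin n) k →ₐ[k] LL k n m).fieldRange =
    IntermediateField.adjoin k (Set.range fun i : Fin n => (InvFld.X (Sum.inl i) : LL k n m)) :=
  fieldRange_embed _ _

lemma fieldRange_ιy : (ιy : InvFld.Fld (Fin m) k →ₐ[k] LL k n m).fieldRange =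
    IntermediateField.adjoin k (Set.range fun j : Fin m => (InvFld.X (Sum.inr j) : LL k n m)) :=
  fieldRange_embed _ _

section gamma

variable (g : InvFld.Fld (Fin n) k ≃ₐ[k] InvFld.Fld (Fin n) k)
  (h : InvFld.Fld (Fin m) k ≃ₐ[k] InvFld.Fld (Fin m) k)

/-- the images of the variables. -/
noncomputable def zfam : Fin n ⊕ Fin m → LL k n m :=
  Sum.elim (fun i => ιx (g (InvFld.X i))) (fun j => ιy (h (InvFld.X j)))

lemma zfam_indep (Hg' : ∀ i, g.symm (InvFld.X i) ∈ V k (Fin n))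
    (Hh' : ∀ j, h.symm (InvFld.X j) ∈ V k (Fin m)) : AlgebraicIndependent k (zfam g h) := by
  apply algebraicIndependent_of_X_mem_span
  rintro (i | j)
  · let f : InvFld.Fld (Fin n) k →ₗ[k] LL k n m :=
      (ιx : InvFld.Fld (Fin n) k →ₐ[k] LL k n m).toLinearMap ∘ₗ g.toLinearMap
    have h1 := map_mem_span_of_mem_span f _ (Hg' i)
    have h2 : f (g.symm (InvFld.X i)) = (InvFld.X (Sum.inl i) : LL k n m) := by
      change ιx (g (g.symm (InvFld.X i))) = _
      rw [AlgEquiv.apply_symm_apply, ιx_X]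
    rw [h2] at h1
    refine Submodule.span_mono ?_ h1
    rintro _ ⟨i', rfl⟩
    exact ⟨Sum.inl i', rfl⟩
  · let f : InvFld.Fld (Fin m) k →ₗ[k] LL k n m :=
      (ιy : InvFld.Fld (Fin m) k →ₐ[k] LL k n m).toLinearMap ∘ₗ h.toLinearMap
    have h1 := map_mem_span_of_mem_span f _ (Hh' j)
    have h2 : f (h.symm (InvFld.X j)) = (InvFld.X (Sum.inr j) : LL k n m) := by
      change ιy (h (h.symm (InvFld.X j))) = _
      rw [AlgEquiv.apply_symm_apply, ιy_X]
    rw [h2] at h1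
    refine Submodule.span_mono ?_ h1
    rintro _ ⟨j', rfl⟩
    exact ⟨Sum.inr j', rfl⟩

/-- the endomorphism of `k(x, y)` induced by `(g, h)`. -/
noncomputable def γ₀ (Hg' : ∀ i, g.symm (InvFld.X i) ∈ V k (Fin n))
    (Hh' : ∀ j, h.symm (InvFld.X j) ∈ V k (Fin m)) : LL k n m →ₐ[k] LL k n m :=
  embed (zfam g h) (zfam_indep g h Hg' Hh')

lemma γ₀_inl (Hg' : ∀ i, g.symm (InvFld.X i) ∈ V k (Fin n))
    (Hh' : ∀ j, h.symm (InvFld.X j) ∈ V k (Fin m)) (i : Fin n) :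
    γ₀ g h Hg' Hh' (InvFld.X (Sum.inl i)) = ιx (g (InvFld.X i)) := embed_X _ _ _

lemma γ₀_inr (Hg' : ∀ i, g.symm (InvFld.X i) ∈ V k (Fin n))
    (Hh' : ∀ j, h.symm (InvFld.X j) ∈ V k (Fin m)) (j : Fin m) :
    γ₀ g h Hg' Hh' (InvFld.X (Sum.inr j)) = ιy (h (InvFld.X j)) := embed_X _ _ _

lemma γ₀_ιx (Hg' : ∀ i, g.symm (InvFld.X i) ∈ V k (Fin n))
    (Hh' : ∀ j, h.symm (InvFld.X j) ∈ V k (Fin m)) (a : InvFld.Fld (Fin n) k) :
    γ₀ g h Hg' Hh' (ιx a) = ιx (g a) := by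
  have h1 := fld_algHom_ext k ((γ₀ g h Hg' Hh').comp ιx) (ιx.comp (g : _ →ₐ[k] _))
    (fun i => by
      simp only [AlgHom.comp_apply, ιx_X, γ₀_inl]
      rfl)
  exact AlgHom.congr_fun h1 a

lemma γ₀_ιy (Hg' : ∀ i, g.symm (InvFld.X i) ∈ V k (Fin n))
    (Hh' : ∀ j, h.symm (InvFld.X j) ∈ V k (Fin m)) (a : InvFld.Fld (Fin m) k) :
    γ₀ g h Hg' Hh' (ιy a) = ιy (h a) := by
  have h1 := fld_algHom_ext k ((γ₀ g h Hg' Hh').comp ιy) (ιy.comp (h : _ →ₐ[k] _))
    (fun j => by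
      simp only [AlgHom.comp_apply, ιy_X, γ₀_inr]
      rfl)
  exact AlgHom.congr_fun h1 a

end gamma

lemma γ₀_comp (g g' : InvFld.Fld (Fin n) k ≃ₐ[k] InvFld.Fld (Fin n) k)
    (h h' : InvFld.Fld (Fin m) k ≃ₐ[k] InvFld.Fld (Fin m) k)
    (Hg Hg' Hgg' Hh Hh' Hhh') :
    (γ₀ g h Hg Hh).comp (γ₀ g' h' Hg' Hh') = γ₀ (g * g') (h * h') Hgg' Hhh' := by
  apply fld_algHom_ext
  rintro (i | j)
  · rw [AlgHom.comp_apply, γ₀_inl, γ₀_ιx, γ₀_inl]
    rfl
  · rw [AlgHom.comp_apply, γ₀_inr, γ₀_ιy, γ₀_inr]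
    rfl

lemma γ₀_one (H1 H2) :
    γ₀ (1 : InvFld.Fld (Fin n) k ≃ₐ[k] InvFld.Fld (Fin n) k)
      (1 : InvFld.Fld (Fin m) k ≃ₐ[k] InvFld.Fld (Fin m) k) H1 H2 = AlgHom.id k _ := by
  apply fld_algHom_ext
  rintro (i | j)
  · rw [γ₀_inl, AlgHom.id_apply]
    exact ιx_X i
  · rw [γ₀_inr, AlgHom.id_apply]
    exact ιy_X j

lemma γ₀_congr {g g' : InvFld.Fld (Fin n) k ≃ₐ[k] InvFld.Fld (Fin n) k}
    {h h' : InvFld.Fld (Fin m) k ≃ₐ[k] InvFld.Fld (Fin m) k} (hg : g = g') (hh : h = h')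
    (Hg Hh Hg' Hh') : γ₀ g h Hg Hh = γ₀ g' h' Hg' Hh' := by
  subst hg hh
  rfl

lemma one_symm_mem (σ : Type) (i : σ) :
    (1 : InvFld.Fld σ k ≃ₐ[k] InvFld.Fld σ k).symm (InvFld.X i) ∈ V k σ :=
  Submodule.subset_span ⟨i, rfl⟩

lemma symm_mem {σ : Type} (G : Subgroup (InvFld.Fld σ k ≃ₐ[k] InvFld.Fld σ k))
    (hG : ∀ τ ∈ G, ∀ i : σ, τ (InvFld.X i) ∈ V k σ) (g : G) (i : σ) :
    g.1.symm (InvFld.X i) ∈ V k σ :=
  hG (g⁻¹ : G).1 (g⁻¹ : G).2 i

section main

variable (G : Subgroup (InvFld.Fld (Fin n) k ≃ₐ[k] InvFld.Fld (Fin n) k))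
  (H : Subgroup (InvFld.Fld (Fin m) k ≃ₐ[k] InvFld.Fld (Fin m) k)) (e : G ≃* H)
  (hG : ∀ τ ∈ G, ∀ i : Fin n, τ (InvFld.X i) ∈ V k (Fin n))
  (hH : ∀ τ ∈ H, ∀ i : Fin m, τ (InvFld.X i) ∈ V k (Fin m))

/-- the diagonal action, as endomorphisms. -/
noncomputable def θ₀ : G →* (LL k n m →ₐ[k] LL k n m) where
  toFun g := γ₀ g.1 (e g).1 (symm_mem G hG g) (symm_mem H hH (e g))
  map_one' :=
    (γ₀_congr rfl (by rw [map_one]; rfl) _ _ (one_symm_mem _) (one_symm_mem _)).trans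
      (γ₀_one _ _)
  map_mul' g g' :=
    (γ₀_congr rfl (by rw [map_mul]) _ _ (symm_mem G hG (g * g'))
      (symm_mem H hH (e g * e g'))).trans
      (γ₀_comp g.1 g'.1 (e g).1 (e g').1 _ _ _ _ _ _).symm

/-- the diagonal action, as automorphisms. -/
noncomputable def θ : G →* (LL k n m ≃ₐ[k] LL k n m) :=
  (AlgEquiv.algHomUnitsEquiv k (LL k n m)).toMonoidHom.comp (θ₀ G H e hG hH).toHomUnits

lemma θ_apply (g : G) (a : LL k n m) :
    θ G H e hG hH g a = γ₀ g.1 (e g).1 (symm_mem G hG g) (symm_mem H hH (e g)) a := rfl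

lemma θ_ιx (g : G) (a : InvFld.Fld (Fin n) k) : θ G H e hG hH g (ιx a) = ιx (g.1 a) :=
  (θ_apply G H e hG hH g _).trans (γ₀_ιx _ _ _ _ a)

lemma θ_ιy (g : G) (a : InvFld.Fld (Fin m) k) : θ G H e hG hH g (ιy a) = ιy ((e g).1 a) :=
  (θ_apply G H e hG hH g _).trans (γ₀_ιy _ _ _ _ a)

lemma θ_inl (g : G) (i : Fin n) :
    θ G H e hG hH g (InvFld.X (Sum.inl i)) = ιx (g.1 (InvFld.X i)) :=
  (θ_apply G H e hG hH g _).trans (γ₀_inl _ _ _ _ i)

lemma θ_inr (g : G) (j : Fin m) :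
    θ G H e hG hH g (InvFld.X (Sum.inr j)) = ιy ((e g).1 (InvFld.X j)) :=
  (θ_apply G H e hG hH g _).trans (γ₀_inr _ _ _ _ j)

include e hG hH in
/-- two faithful linear representations have stably equivalent invariant fields. -/
theorem twoReps [Finite G] :
    Nonempty (InvFld.Fld (Fin m) (IntermediateField.fixedField G) ≃ₐ[k]
      InvFld.Fld (Fin n) (IntermediateField.fixedField H)) := by
  classical
  set Θ := θ G H e hG hH with hΘ
  let Γ : Subgroup (LL k n m ≃ₐ[k] LL k n m) := Θ.range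
  haveI : Finite Γ := Finite.of_surjective Θ.rangeRestrict Θ.rangeRestrict_surjective
  have hzX : AlgebraicIndependent k (fun s : Fin n ⊕ Fin m => (InvFld.X s : LL k n m)) :=
    algebraicIndependent_X k _
  have htopX := adjoin_X_eq_top k (Fin n ⊕ Fin m)
  obtain ⟨hx4, hx5⟩ := split_family _ hzX htopX
  have A1 : Nonempty (InvFld.Fld (Fin m) (IntermediateField.fixedField G) ≃ₐ[k]
      IntermediateField.fixedField Γ) := by
    refine sideLemma Γ G ιx ?_ ?_ ?_ (fun j : Fin m => (InvFld.X (Sum.inr j) : LL k n m))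
      ?_ ?_ ?_
    · rintro _ ⟨g, rfl⟩
      exact ⟨g.1, g.2, fun a => θ_ιx G H e hG hH g a⟩
    · intro g hg
      exact ⟨Θ ⟨g, hg⟩, ⟨_, rfl⟩, fun a => θ_ιx G H e hG hH ⟨g, hg⟩ a⟩
    · rintro _ ⟨g, rfl⟩ hfix
      have hg1 : g = 1 := by
        apply Subtype.ext
        apply AlgEquiv.ext
        intro a
        have h9 : (ιx (g.1 a) : LL k n m) = ιx a := by
          rw [← θ_ιx G H e hG hH g a]
          exact hfix a
        exact (ιx : InvFld.Fld (Fin n) k →ₐ[k] LL k n m).injective h9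
      rw [hg1, map_one]
    · rw [fieldRange_ιx]
      exact hx4
    · rw [fieldRange_ιx]
      exact hx5
    · rintro _ ⟨g, rfl⟩ j
      rw [θ_inr]
      have h1 := map_mem_span_of_mem_span
        (ιy : InvFld.Fld (Fin m) k →ₐ[k] LL k n m).toLinearMap _ (hH (e g).1 (e g).2 j)
      have h2 : Set.range ((ιy : InvFld.Fld (Fin m) k →ₐ[k] LL k n m).toLinearMap ∘
          fun j : Fin m => (InvFld.X j : InvFld.Fld (Fin m) k)) =
          Set.range (fun j : Fin m => (InvFld.X (Sum.inr j) : LL k n m)) := by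
        congr 1
        funext j
        exact ιy_X j
      rw [h2] at h1
      exact Submodule.span_le_restrictScalars k _ _ h1
  have hz' : AlgebraicIndependent k
      ((fun s : Fin n ⊕ Fin m => (InvFld.X s : LL k n m)) ∘ (Equiv.sumComm (Fin m) (Fin n))) :=
    hzX.comp _ (Equiv.injective _)
  have htop' : IntermediateField.adjoin k (Set.range
      ((fun s : Fin n ⊕ Fin m => (InvFld.X s : LL k n m)) ∘ (Equiv.sumComm (Fin m) (Fin n))))
      = ⊤ := by
    rw [(Equiv.sumComm (Fin m) (Fin n)).surjective.range_comp]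
    exact htopX
  obtain ⟨hy4, hy5⟩ := split_family _ hz' htop'
  have A2 : Nonempty (InvFld.Fld (Fin n) (IntermediateField.fixedField H) ≃ₐ[k]
      IntermediateField.fixedField Γ) := by
    refine sideLemma Γ H ιy ?_ ?_ ?_ (fun i : Fin n => (InvFld.X (Sum.inl i) : LL k n m))
      ?_ ?_ ?_
    · rintro _ ⟨g, rfl⟩
      exact ⟨(e g).1, (e g).2, fun a => θ_ιy G H e hG hH g a⟩
    · intro h hh
      refine ⟨Θ (e.symm ⟨h, hh⟩), ⟨_, rfl⟩, fun a => ?_⟩
      rw [hΘ, θ_ιy G H e hG hH (e.symm ⟨h, hh⟩) a, MulEquiv.apply_symm_apply]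
    · rintro _ ⟨g, rfl⟩ hfix
      have hg1 : e g = 1 := by
        apply Subtype.ext
        apply AlgEquiv.ext
        intro a
        have h9 : (ιy ((e g).1 a) : LL k n m) = ιy a := by
          rw [← θ_ιy G H e hG hH g a]
          exact hfix a
        exact (ιy : InvFld.Fld (Fin m) k →ₐ[k] LL k n m).injective h9
      have hg2 : g = 1 := by
        rw [← e.symm_apply_apply g, hg1, map_one]
      rw [hg2, map_one]
    · rw [fieldRange_ιy]
      exact hy4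
    · rw [fieldRange_ιy]
      exact hy5
    · rintro _ ⟨g, rfl⟩ i
      rw [θ_inl]
      have h1 := map_mem_span_of_mem_span
        (ιx : InvFld.Fld (Fin n) k →ₐ[k] LL k n m).toLinearMap _ (hG g.1 g.2 i)
      have h2 : Set.range ((ιx : InvFld.Fld (Fin n) k →ₐ[k] LL k n m).toLinearMap ∘
          fun i : Fin n => (InvFld.X i : InvFld.Fld (Fin n) k)) =
          Set.range (fun i : Fin n => (InvFld.X (Sum.inl i) : LL k n m)) := by
        congr 1
        funext i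
        exact ιx_X i
      rw [h2] at h1
      exact Submodule.span_le_restrictScalars k _ _ h1
  obtain ⟨φ1⟩ := A1
  obtain ⟨φ2⟩ := A2
  exact ⟨φ1.trans φ2.symm⟩

end main

end Groth.Agent.Lib.Helper6.TwoReps
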