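import Mathlib
import Groth.Prelude.Def_W4c2brnrinvarInvFld
import Groth.Agent.Lib.Helper6.TwoRepsB

/-!
# A rational function field over a purely transcendental field is purely transcendental (helper6)
-/

set_option autoImplicit false

namespace Groth.Agent.Lib.Helper6.TwoReps

open Groth.Agent.Lib.Helper6.NoName

universe u

variable {k : Type u} [Field k]

theorem pure_of_pure {K : Type u} [Field K] [Algebra k K] {n : ℕ} (s : Fin n → K)
    (hs : AlgebraicIndependent k s) (htop : IntermediateField.adjoin k (Set.range s) = ⊤)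
    (m : ℕ) :
    ∃ (N : ℕ) (t : Fin N → InvFld.Fld (Fin m) K),
      AlgebraicIndependent k t ∧ IntermediateField.adjoin k (Set.range t) = ⊤ := by
  classical
  set M := InvFld.Fld (Fin m) K with hM
  let f : K →ₐ[k] M := IsScalarTower.toAlgHom k K M
  let t₀ : Fin m ⊕ Fin n → M :=
    Sum.elim (fun j : Fin m => (InvFld.X j : M)) (algebraMap K M ∘ s)
  have ht₀ : AlgebraicIndependent k t₀ := hs.sumElim_comp (algebraicIndependent_X K (Fin m))
  refine ⟨m + n, t₀ ∘ finSumFinEquiv.symm, ht₀.comp _ (Equiv.injective _), ?_⟩
  rw [finSumFinEquiv.symm.surjective.range_comp]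
  set F : IntermediateField k M := IntermediateField.adjoin k (Set.range t₀) with hF
  have h1 : ∀ a : K, algebraMap K M a ∈ F := by
    have h2 : IntermediateField.adjoin k (Set.range s) ≤ F.comap f := by
      rw [IntermediateField.adjoin_le_iff]
      rintro _ ⟨i, rfl⟩
      change f (s i) ∈ F
      exact IntermediateField.subset_adjoin _ _ ⟨Sum.inr i, rfl⟩
    intro a
    have h3 : a ∈ F.comap f := h2 (htop ▸ IntermediateField.mem_top)
    exact h3
  have key : ∀ p : MvPolynomial (Fin m) K, algebraMap _ M p ∈ F := by
    intro p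
    induction p using MvPolynomial.induction_on with
    | C a =>
      rw [← MvPolynomial.algebraMap_eq, ← IsScalarTower.algebraMap_apply]
      exact h1 a
    | add p q hp hq => rw [map_add]; exact add_mem hp hq
    | mul_X p i hp =>
      rw [map_mul]
      exact mul_mem hp (IntermediateField.subset_adjoin _ _ ⟨Sum.inl i, rfl⟩)
  rw [eq_top_iff]
  intro g _
  obtain ⟨p, q, hq, rfl⟩ := IsFractionRing.div_surjective (A := MvPolynomial (Fin m) K) g
  exact div_mem (key p) (key q)

end Groth.Agent.Lib.Helper6.TwoReps
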