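import Mathlib
import Groth.Prelude.Def_W4c2brnrinvarInvFld
import Groth.Agent.Lib.Helper6.TwoRepsC
import Groth.Agent.Lib.Helper6.TwoRepsD

/-!
# The permutation representation of the symmetric group and its invariant field (helper6)
-/

set_option autoImplicit false

namespace Groth.Agent.Lib.Helper6.TwoReps

open Groth.Agent.Lib.Helper6.NoName MvPolynomial

universe u

variable (k : Type u) [Field k] (n : ℕ)

/-- the permutation action on `k(x₁, …, xₙ)`. -/
noncomputable def permAut (π : Equiv.Perm (Fin n)) :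
    InvFld.Fld (Fin n) k ≃ₐ[k] InvFld.Fld (Fin n) k :=
  IsFractionRing.algEquivOfAlgEquiv (MvPolynomial.renameEquiv k π)

lemma permAut_algebraMap (π : Equiv.Perm (Fin n)) (p : MvPolynomial (Fin n) k) :
    permAut k n π (algebraMap _ _ p) = algebraMap _ _ (rename π p) :=
  IsFractionRing.algEquivOfAlgEquiv_algebraMap _ p

lemma permAut_X (π : Equiv.Perm (Fin n)) (i : Fin n) :
    permAut k n π (InvFld.X i) = InvFld.X (π i) := by
  change permAut k n π (algebraMap _ _ (X i)) = _
  rw [permAut_algebraMap, rename_X]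

/-- the permutation representation. -/
noncomputable def permHom : Equiv.Perm (Fin n) →* (InvFld.Fld (Fin n) k ≃ₐ[k] InvFld.Fld (Fin n) k)
    where
  toFun := permAut k n
  map_one' := by
    apply AlgEquiv.coe_toAlgHom_injective
    apply fld_algHom_ext
    intro i
    change permAut k n 1 (InvFld.X i) = InvFld.X i
    rw [permAut_X]
    rfl
  map_mul' π π' := by
    apply AlgEquiv.coe_toAlgHom_injective
    apply fld_algHom_ext
    intro i
    change permAut k n (π * π') (InvFld.X i) = permAut k n π (permAut k n π' (InvFld.X i))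
    rw [permAut_X, permAut_X, permAut_X]
    rfl

lemma permHom_apply (π : Equiv.Perm (Fin n)) : permHom k n π = permAut k n π := rfl

lemma X_injective' : Function.Injective (fun i : Fin n => (InvFld.X i : InvFld.Fld (Fin n) k)) :=
  (IsFractionRing.injective (MvPolynomial (Fin n) k) (InvFld.Fld (Fin n) k)).comp
    MvPolynomial.X_injective

lemma permHom_injective : Function.Injective (permHom k n) := by
  intro π π' h
  ext i
  have h1 : permAut k n π (InvFld.X i) = permAut k n π' (InvFld.X i) := by
    rw [← permHom_apply, ← permHom_apply, h]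
  rw [permAut_X, permAut_X] at h1
  exact congrArg Fin.val (X_injective' k n h1)

variable {k n}

/-- the norm of a polynomial under the symmetric group. -/
noncomputable def nrm (q : MvPolynomial (Fin n) k) : MvPolynomial (Fin n) k :=
  ∏ π : Equiv.Perm (Fin n), rename π q

lemma nrm_isSymmetric (q : MvPolynomial (Fin n) k) : (nrm q).IsSymmetric := by
  intro τ
  unfold nrm
  rw [map_prod]
  simp_rw [rename_rename]
  exact Fintype.prod_equiv (Equiv.mulLeft τ) _ _ (fun π => rfl)

lemma nrm_eq (q : MvPolynomial (Fin n) k) :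
    nrm q = q * ∏ π ∈ (Finset.univ : Finset (Equiv.Perm (Fin n))).erase 1, rename π q := by
  unfold nrm
  rw [← Finset.mul_prod_erase Finset.univ _ (Finset.mem_univ (1 : Equiv.Perm (Fin n)))]
  congr 1
  exact rename_id_apply q

lemma nrm_ne_zero {q : MvPolynomial (Fin n) k} (hq : q ≠ 0) : nrm q ≠ 0 := by
  unfold nrm
  rw [Finset.prod_ne_zero_iff]
  intro π _
  exact (map_ne_zero_iff _ (rename_injective π π.injective)).mpr hq

/-- the elementary symmetric functions in `k(x)`. -/
noncomputable def sL (i : Fin n) : InvFld.Fld (Fin n) k :=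
  algebraMap (MvPolynomial (Fin n) k) _ (esymm (Fin n) k (i + 1))

lemma permAut_sL (π : Equiv.Perm (Fin n)) (i : Fin n) : permAut k n π (sL i) = sL i := by
  unfold sL
  rw [permAut_algebraMap, rename_esymm]

lemma algebraMap_mem_of_isSymmetric {P : MvPolynomial (Fin n) k} (hP : P.IsSymmetric) :
    algebraMap (MvPolynomial (Fin n) k) (InvFld.Fld (Fin n) k) P ∈
      IntermediateField.adjoin k (Set.range (sL : Fin n → InvFld.Fld (Fin n) k)) := by
  obtain ⟨P₀, hP₀⟩ := (esymmAlgHom_fin_bijective k n).2 ⟨P, hP⟩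
  have h1 : P = aeval (fun i : Fin n => esymm (Fin n) k (i + 1)) P₀ := by
    rw [← esymmAlgHom_apply, hP₀]
  have h2 : algebraMap (MvPolynomial (Fin n) k) (InvFld.Fld (Fin n) k) P =
      aeval (sL : Fin n → InvFld.Fld (Fin n) k) P₀ := by
    rw [h1]
    have h3 := comp_aeval (R := k) (fun i : Fin n => esymm (Fin n) k (i + 1))
      (IsScalarTower.toAlgHom k (MvPolynomial (Fin n) k) (InvFld.Fld (Fin n) k))
    exact AlgHom.congr_fun h3 P₀
  rw [h2]
  apply IntermediateField.algebra_adjoin_le_adjoin
  rw [Algebra.adjoin_range_eq_range_aeval]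
  exact ⟨P₀, rfl⟩

theorem mem_adjoin_of_fixed (f : InvFld.Fld (Fin n) k) (hf : ∀ π, permAut k n π f = f) :
    f ∈ IntermediateField.adjoin k (Set.range (sL : Fin n → InvFld.Fld (Fin n) k)) := by
  classical
  obtain ⟨p, q, hq, rfl⟩ := IsFractionRing.div_surjective (A := MvPolynomial (Fin n) k) f
  have hq0 : q ≠ 0 := nonZeroDivisors.ne_zero hq
  set φ := algebraMap (MvPolynomial (Fin n) k) (InvFld.Fld (Fin n) k) with hφ
  have hφinj : Function.Injective φ := IsFractionRing.injective _ _
  set q' : MvPolynomial (Fin n) k :=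
    ∏ π ∈ (Finset.univ : Finset (Equiv.Perm (Fin n))).erase 1, rename π q with hq'
  have hN : nrm q = q * q' := nrm_eq q
  have hN0 : nrm q ≠ 0 := nrm_ne_zero hq0
  have hq'0 : q' ≠ 0 := by
    intro h0
    rw [h0, mul_zero] at hN
    exact hN0 hN
  have hφq' : φ q' ≠ 0 := (map_ne_zero_iff _ hφinj).mpr hq'0
  have hφN : φ (nrm q) ≠ 0 := (map_ne_zero_iff _ hφinj).mpr hN0
  have h1 : φ p / φ q = φ (p * q') / φ (nrm q) := by
    rw [hN, map_mul, map_mul, mul_div_mul_right _ _ hφq']
  have h2 : φ (p * q') = φ p / φ q * φ (nrm q) := by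
    rw [h1, div_mul_cancel₀ _ hφN]
  have hP : (p * q').IsSymmetric := by
    intro π
    apply hφinj
    have h3 : permAut k n π (φ (nrm q)) = φ (nrm q) := by
      rw [hφ, permAut_algebraMap, nrm_isSymmetric q π]
    have h4 : φ (rename π (p * q')) = permAut k n π (φ (p * q')) := by
      rw [hφ, permAut_algebraMap]
    rw [h4, h2, map_mul, hf π, h3]
  rw [h1]
  exact div_mem (algebraMap_mem_of_isSymmetric hP) (algebraMap_mem_of_isSymmetric (nrm_isSymmetric q))

end Groth.Agent.Lib.Helper6.TwoReps
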