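import Mathlib
import Groth.Prelude.Def_W4c2brnrinvarInvFld
import Groth.Agent.Lib.Helper6.TwoRepsE

/-!
# Invariants of a faithful linear representation of the symmetric group are stably pure (helper6)
-/

set_option autoImplicit false

namespace Groth.Agent.Lib.Helper6.TwoReps

open Groth.Agent.Lib.Helper6.NoName MvPolynomial

universe u

variable (k : Type u) [Field k] (n : ℕ)

/-- the image of the permutation representation. -/
noncomputable abbrev permGrp : Subgroup (InvFld.Fld (Fin n) k ≃ₐ[k] InvFld.Fld (Fin n) k) :=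
  (permHom k n).range

variable {k n}

lemma sL_mem (i : Fin n) :
    (sL i : InvFld.Fld (Fin n) k) ∈ IntermediateField.fixedField (permGrp k n) := by
  rw [IntermediateField.mem_fixedField_iff]
  rintro _ ⟨π, rfl⟩
  exact permAut_sL π i

/-- the elementary symmetric functions in the invariant field. -/
noncomputable def sK (i : Fin n) : IntermediateField.fixedField (permGrp k n) := ⟨sL i, sL_mem i⟩

lemma sK_indep :
    AlgebraicIndependent k (sK : Fin n → IntermediateField.fixedField (permGrp k n)) := by
  have h0 : AlgebraicIndependent k (fun i : Fin n => esymm (Fin n) k (i + 1)) := by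
    have h00 : (aeval (fun i : Fin n => esymm (Fin n) k (i + 1)) :
        MvPolynomial (Fin n) k →ₐ[k] MvPolynomial (Fin n) k) =
        (symmetricSubalgebra (Fin n) k).val.comp (esymmAlgHom (Fin n) k n) := by
      apply AlgHom.ext
      intro p
      exact (esymmAlgHom_apply p).symm
    rw [algebraicIndependent_iff_injective_aeval, h00]
    exact Subtype.val_injective.comp (esymmAlgHom_fin_bijective k n).1
  have h1 : AlgebraicIndependent k (sL : Fin n → InvFld.Fld (Fin n) k) :=
    h0.map' (f := IsScalarTower.toAlgHom k (MvPolynomial (Fin n) k) (InvFld.Fld (Fin n) k))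
      (IsFractionRing.injective _ _)
  exact AlgebraicIndependent.of_comp (IntermediateField.fixedField (permGrp k n)).val h1

lemma sK_top : IntermediateField.adjoin k
    (Set.range (sK : Fin n → IntermediateField.fixedField (permGrp k n))) = ⊤ := by
  rw [eq_top_iff]
  rintro ⟨f, hf⟩ _
  have h1 : f ∈ IntermediateField.adjoin k (Set.range (sL : Fin n → InvFld.Fld (Fin n) k)) :=
    mem_adjoin_of_fixed f
      (fun π => (IntermediateField.mem_fixedField_iff _ _).mp hf _ ⟨π, rfl⟩)
  have h2 : Set.range (sL : Fin n → InvFld.Fld (Fin n) k) =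
      (IntermediateField.fixedField (permGrp k n)).val '' Set.range sK := by
    rw [← Set.range_comp]
    rfl
  rw [h2, ← IntermediateField.adjoin_map] at h1
  obtain ⟨y, hy, hyf⟩ := h1
  have h3 : y = ⟨f, hf⟩ := Subtype.ext hyf
  rw [← h3]
  exact hy

/-- transport of a purely transcendental presentation along an isomorphism. -/
lemma pure_transport {A B : Type u} [Field A] [Field B] [Algebra k A] [Algebra k B]
    (φ : B ≃ₐ[k] A) {N : ℕ} (t' : Fin N → B) (ht' : AlgebraicIndependent k t')
    (htop' : IntermediateField.adjoin k (Set.range t') = ⊤) :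
    AlgebraicIndependent k (φ ∘ t') ∧ IntermediateField.adjoin k (Set.range (φ ∘ t')) = ⊤ := by
  refine ⟨ht'.map' (f := (φ : B →ₐ[k] A)) φ.injective, ?_⟩
  have h1 := IntermediateField.adjoin_map k (Set.range t') (φ : B →ₐ[k] A)
  rw [Set.range_comp]
  refine Eq.trans h1.symm ?_
  rw [htop', ← AlgHom.fieldRange_eq_map, AlgHom.fieldRange_eq_top]
  exact φ.surjective

lemma permGrp_linear : ∀ τ ∈ permGrp k n, ∀ i : Fin n, τ (InvFld.X i) ∈ V k (Fin n) := by
  rintro _ ⟨π, rfl⟩ i
  rw [permHom_apply, permAut_X]
  exact Submodule.subset_span ⟨π i, rfl⟩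

theorem permCase {m : ℕ} (G : Subgroup (InvFld.Fld (Fin m) k ≃ₐ[k] InvFld.Fld (Fin m) k))
    [Finite G] (e : G ≃* Equiv.Perm (Fin n))
    (hG : ∀ σ ∈ G, ∀ i : Fin m, σ (InvFld.X i) ∈ V k (Fin m)) :
    ∃ (r N : ℕ) (t : Fin N → InvFld.Fld (Fin r) (IntermediateField.fixedField G)),
      AlgebraicIndependent k t ∧ IntermediateField.adjoin k (Set.range t) = ⊤ := by
  let e' : G ≃* permGrp k n := e.trans (MonoidHom.ofInjective (permHom_injective k n))
  obtain ⟨φ⟩ := twoReps G (permGrp k n) e' hG permGrp_linear
  obtain ⟨N, t', ht', htop'⟩ := pure_of_pure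
    (sK : Fin n → IntermediateField.fixedField (permGrp k n)) sK_indep sK_top m
  exact ⟨n, N, φ.symm ∘ t', pure_transport φ.symm t' ht' htop'⟩

end Groth.Agent.Lib.Helper6.TwoReps
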