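import Mathlib
import Groth.Prelude.Def_W4c5m1nsnscurvesU

set_option autoImplicit false
universe u
open W4c5m1nsnscurves MvPolynomial

namespace Groth.Agent.Lib.Helper6.UnCot

noncomputable section

section general
variable (R : Type u) [CommRing R] (m : ℕ)

theorem rel1 (i j : Fin m) (h : i ≠ j) :
    ugen R m (.cij i j h) + ugen R m (.cij j i h.symm) =
      ugen R m .a + ugen R m (.ci i) + ugen R m (.cbi i) + ugen R m (.ci j) + ugen R m (.cbi j) := by
  have hmem : (X (.cij i j h) + X (.cij j i h.symm) -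
      (X .a + X (.ci i) + X (.cbi i) + X (.ci j) + X (.cbi j)) : MvPolynomial (UGen m) R) ∈
      Ideal.span (URel R m) :=
    Ideal.subset_span (Or.inl (Or.inl (Or.inl ⟨⟨(i, j), h⟩, rfl⟩)))
  have h0 := Ideal.Quotient.eq_zero_iff_mem.2 hmem
  rw [map_sub, sub_eq_zero] at h0
  simp only [ugen]
  simpa only [map_add] using h0

theorem rel2 (i j : Fin m) (h : i ≠ j) :
    ugen R m .c = ugen R m (.cij j i h.symm) * ugen R m (.ci j) +
      ugen R m (.cij i j h) * ugen R m (.ci i) - ugen R m (.ci i) * ugen R m (.ci j) := by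
  have hmem : (X (.cij j i h.symm) * X (.ci j) + X (.cij i j h) * X (.ci i) -
      X (.ci i) * X (.ci j) - X .c : MvPolynomial (UGen m) R) ∈ Ideal.span (URel R m) :=
    Ideal.subset_span (Or.inl (Or.inl (Or.inr ⟨⟨(i, j), h⟩, rfl⟩)))
  have h0 := Ideal.Quotient.eq_zero_iff_mem.2 hmem
  rw [map_sub, sub_eq_zero] at h0
  simp only [ugen]
  rw [← h0]
  simp only [map_sub, map_add, map_mul]

theorem rel3 (i j : Fin m) (h : i ≠ j) :
    ugen R m .cb = ugen R m (.cij j i h.symm) * ugen R m (.cbi i) +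
      ugen R m (.cij i j h) * ugen R m (.cbi j) - ugen R m (.cbi i) * ugen R m (.cbi j) := by
  have hmem : (X (.cij j i h.symm) * X (.cbi i) + X (.cij i j h) * X (.cbi j) -
      X (.cbi i) * X (.cbi j) - X .cb : MvPolynomial (UGen m) R) ∈ Ideal.span (URel R m) :=
    Ideal.subset_span (Or.inl (Or.inr ⟨⟨(i, j), h⟩, rfl⟩))
  have h0 := Ideal.Quotient.eq_zero_iff_mem.2 hmem
  rw [map_sub, sub_eq_zero] at h0
  simp only [ugen]
  rw [← h0]
  simp only [map_sub, map_add, map_mul]

/-- the generator as an element of the origin ideal -/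
def G (g : UGen m) : uorigin R m := ⟨ugen R m g, Ideal.subset_span ⟨g, rfl⟩⟩

theorem G_val (g : UGen m) : ((G R m g : uorigin R m) : URing R m) = ugen R m g := rfl

theorem exists_pair (hm : 2 ≤ m) : ∃ i j : Fin m, i ≠ j :=
  ⟨⟨0, by omega⟩, ⟨1, by omega⟩, by
    intro h
    have := congrArg Fin.val h
    simp at this⟩

theorem mem_sq_c (hm : 2 ≤ m) : ugen R m .c ∈ (uorigin R m) ^ 2 := by
  obtain ⟨i, j, h⟩ := exists_pair m hm
  rw [rel2 R m i j h, pow_two]
  exact Ideal.sub_mem _ (Ideal.add_mem _ (Ideal.mul_mem_mul (G R m _).2 (G R m _).2)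
    (Ideal.mul_mem_mul (G R m _).2 (G R m _).2)) (Ideal.mul_mem_mul (G R m _).2 (G R m _).2)

theorem mem_sq_cb (hm : 2 ≤ m) : ugen R m .cb ∈ (uorigin R m) ^ 2 := by
  obtain ⟨i, j, h⟩ := exists_pair m hm
  rw [rel3 R m i j h, pow_two]
  exact Ideal.sub_mem _ (Ideal.add_mem _ (Ideal.mul_mem_mul (G R m _).2 (G R m _).2)
    (Ideal.mul_mem_mul (G R m _).2 (G R m _).2)) (Ideal.mul_mem_mul (G R m _).2 (G R m _).2)

theorem exists_const (a : URing R m) :
    ∃ r : R, a - algebraMap R (URing R m) r ∈ uorigin R m := by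
  obtain ⟨p, rfl⟩ := Ideal.Quotient.mk_surjective a
  induction p using MvPolynomial.induction_on with
  | C r =>
    refine ⟨r, ?_⟩
    rw [show algebraMap R (URing R m) r = Ideal.Quotient.mk _ (C r) from rfl, sub_self]
    exact zero_mem _
  | add p q hp hq =>
    obtain ⟨r1, h1⟩ := hp
    obtain ⟨r2, h2⟩ := hq
    refine ⟨r1 + r2, ?_⟩
    have := (uorigin R m).add_mem h1 h2
    rw [map_add, map_add]
    convert this using 1
    ring
  | mul_X p g _ =>
    refine ⟨0, ?_⟩
    rw [map_zero, sub_zero, map_mul]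
    exact Ideal.mul_mem_left _ _ (G R m g).2

end general

section adjoin

def gset (m : ℕ) : Set (URing ℤ m) :=
  {ugen ℤ m .a} ∪ Set.range (fun i : Fin m => ugen ℤ m (.ci i)) ∪
    Set.range (fun i : Fin m => ugen ℤ m (.cbi i)) ∪
    Set.range (fun q : {q : Fin m × Fin m // q.1 < q.2} =>
      ugen ℤ m (.cij q.1.1 q.1.2 (ne_of_lt q.2)))

theorem adjoin_gset_top (m : ℕ) (hm : 2 ≤ m) : Algebra.adjoin ℤ (gset m) = ⊤ := by
  have ha : ugen ℤ m .a ∈ Algebra.adjoin ℤ (gset m) :=
    Algebra.subset_adjoin (Or.inl (Or.inl (Or.inl rfl)))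
  have hci : ∀ i, ugen ℤ m (.ci i) ∈ Algebra.adjoin ℤ (gset m) :=
    fun i => Algebra.subset_adjoin (Or.inl (Or.inl (Or.inr ⟨i, rfl⟩)))
  have hcbi : ∀ i, ugen ℤ m (.cbi i) ∈ Algebra.adjoin ℤ (gset m) :=
    fun i => Algebra.subset_adjoin (Or.inl (Or.inr ⟨i, rfl⟩))
  have hlt : ∀ i j (h : i < j), ugen ℤ m (.cij i j (ne_of_lt h)) ∈ Algebra.adjoin ℤ (gset m) :=
    fun i j h => Algebra.subset_adjoin (Or.inr ⟨⟨(i, j), h⟩, rfl⟩)
  have hcij : ∀ i j (h : i ≠ j), ugen ℤ m (.cij i j h) ∈ Algebra.adjoin ℤ (gset m) := by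
    intro i j h
    rcases lt_or_gt_of_ne h with hlt' | hgt
    · exact hlt i j hlt'
    · have e := rel1 ℤ m j i h.symm
      have e2 : ugen ℤ m (.cij i j h) = ugen ℤ m .a + ugen ℤ m (.ci j) + ugen ℤ m (.cbi j) +
          ugen ℤ m (.ci i) + ugen ℤ m (.cbi i) - ugen ℤ m (.cij j i h.symm) :=
        eq_sub_of_add_eq' e
      rw [e2]
      exact Subalgebra.sub_mem _ (Subalgebra.add_mem _ (Subalgebra.add_mem _ (Subalgebra.add_mem _
        (Subalgebra.add_mem _ ha (hci j)) (hcbi j)) (hci i)) (hcbi i)) (hlt j i hgt)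
  obtain ⟨i0, j0, h0⟩ := exists_pair m hm
  have hc : ugen ℤ m .c ∈ Algebra.adjoin ℤ (gset m) := by
    rw [rel2 ℤ m i0 j0 h0]
    exact Subalgebra.sub_mem _ (Subalgebra.add_mem _ (Subalgebra.mul_mem _ (hcij _ _ _) (hci _))
      (Subalgebra.mul_mem _ (hcij _ _ _) (hci _))) (Subalgebra.mul_mem _ (hci _) (hci _))
  have hcb : ugen ℤ m .cb ∈ Algebra.adjoin ℤ (gset m) := by
    rw [rel3 ℤ m i0 j0 h0]
    exact Subalgebra.sub_mem _ (Subalgebra.add_mem _ (Subalgebra.mul_mem _ (hcij _ _ _) (hcbi _))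
      (Subalgebra.mul_mem _ (hcij _ _ _) (hcbi _))) (Subalgebra.mul_mem _ (hcbi _) (hcbi _))
  have hall : ∀ g : UGen m, ugen ℤ m g ∈ Algebra.adjoin ℤ (gset m) := by
    intro g
    cases g with
    | a => exact ha
    | c => exact hc
    | cb => exact hcb
    | ci i => exact hci i
    | cbi i => exact hcbi i
    | cij i j h => exact hcij i j h
  rw [eq_top_iff]
  rintro x -
  obtain ⟨p, rfl⟩ := Ideal.Quotient.mk_surjective x
  induction p using MvPolynomial.induction_on with
  | C n =>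
    have : Ideal.Quotient.mk (Ideal.span (URel ℤ m)) (C n) = ((n : ℤ) : URing ℤ m) :=
      eq_intCast ((Ideal.Quotient.mk (Ideal.span (URel ℤ m))).comp
        (C : ℤ →+* MvPolynomial (UGen m) ℤ)) n
    rw [this]
    exact Subalgebra.intCast_mem _ n
  | add p q hp hq =>
    rw [map_add]
    exact Subalgebra.add_mem _ hp hq
  | mul_X p g hp =>
    rw [map_mul]
    exact Subalgebra.mul_mem _ hp (hall g)

end adjoin

section cot

abbrev TT (m : ℕ) : Type := Unit ⊕ (Fin m ⊕ (Fin m ⊕ {q : Fin m × Fin m // q.1 < q.2}))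

def tgen {m : ℕ} : TT m → UGen m
  | Sum.inl _ => .a
  | Sum.inr (Sum.inl i) => .ci i
  | Sum.inr (Sum.inr (Sum.inl i)) => .cbi i
  | Sum.inr (Sum.inr (Sum.inr q)) => .cij q.1.1 q.1.2 (ne_of_lt q.2)

variable (k : Type u) [Field k] (m : ℕ)

def vv {m : ℕ} : UGen m → (TT m → k)
  | .a => Pi.single (Sum.inl ()) 1
  | .c => 0
  | .cb => 0
  | .ci i => Pi.single (Sum.inr (Sum.inl i)) 1
  | .cbi i => Pi.single (Sum.inr (Sum.inr (Sum.inl i))) 1
  | .cij i j _ =>
      if h : i < j then Pi.single (Sum.inr (Sum.inr (Sum.inr ⟨(i, j), h⟩))) 1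
      else if h' : j < i then
        Pi.single (Sum.inl ()) 1 + Pi.single (Sum.inr (Sum.inl i)) 1 +
          Pi.single (Sum.inr (Sum.inr (Sum.inl i))) 1 + Pi.single (Sum.inr (Sum.inl j)) 1 +
          Pi.single (Sum.inr (Sum.inr (Sum.inl j))) 1 -
          Pi.single (Sum.inr (Sum.inr (Sum.inr ⟨(j, i), h'⟩))) 1
      else 0

theorem vv_tgen (t : TT m) : vv k (tgen t) = Pi.single t 1 := by
  rcases t with u | i | i | q
  · rfl
  · rfl
  · rfl
  · simp only [tgen, vv]
    rw [dif_pos q.2]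

theorem vv_rel (i j : Fin m) (h : i ≠ j) :
    vv k (.cij i j h) + vv k (.cij j i h.symm) =
      vv k (.a : UGen m) + vv k (.ci i) + vv k (.cbi i) + vv k (.ci j) + vv k (.cbi j) := by
  rcases lt_or_gt_of_ne h with hlt | hgt
  · have hn : ¬ j < i := not_lt.2 hlt.le
    simp only [vv, dif_pos hlt, dif_neg hn]
    abel
  · have hn : ¬ i < j := not_lt.2 hgt.le
    simp only [vv, dif_pos hgt, dif_neg hn]
    abel

def Phi : MvPolynomial (UGen m) k →ₐ[k] TrivSqZeroExt k (TT m → k) :=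
  MvPolynomial.aeval (fun g => TrivSqZeroExt.inr (vv k g))

theorem Phi_X (g : UGen m) : Phi k m (X g) = TrivSqZeroExt.inr (vv k g) :=
  MvPolynomial.aeval_X _ g

theorem Phi_rel : ∀ r ∈ URel k m, Phi k m r = 0 := by
  rintro _ (((⟨q, rfl⟩ | ⟨q, rfl⟩) | ⟨q, rfl⟩) | ⟨q, rfl⟩)
  · obtain ⟨⟨i, j⟩, h⟩ := q
    dsimp only
    simp only [map_sub, map_add, Phi_X, ← TrivSqZeroExt.inr_add, ← TrivSqZeroExt.inr_sub]
    rw [vv_rel k m i j h, sub_self, TrivSqZeroExt.inr_zero]
  · simp only [map_sub, map_add, map_mul, Phi_X, TrivSqZeroExt.inr_mul_inr]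
    simp [vv]
  · simp only [map_sub, map_add, map_mul, Phi_X, TrivSqZeroExt.inr_mul_inr]
    simp [vv]
  · simp only [map_sub, map_add, map_mul, Phi_X, add_mul, TrivSqZeroExt.inr_mul_inr]
    simp [vv]

theorem Phi_span : ∀ p ∈ Ideal.span (URel k m), Phi k m p = 0 := by
  intro p hp
  have hle : Ideal.span (URel k m) ≤ RingHom.ker (Phi k m).toRingHom :=
    Ideal.span_le.2 (fun r hr => (RingHom.mem_ker).2 (Phi_rel k m r hr))
  exact RingHom.mem_ker.1 (hle hp)

def Phib : URing k m →ₐ[k] TrivSqZeroExt k (TT m → k) :=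
  Ideal.Quotient.liftₐ (Ideal.span (URel k m)) (Phi k m) (Phi_span k m)

theorem Phib_ugen (g : UGen m) : Phib k m (ugen k m g) = TrivSqZeroExt.inr (vv k g) :=
  Phi_X k m g

theorem fst_Phib_eq_zero (x : URing k m) (hx : x ∈ uorigin k m) :
    (Phib k m x).fst = 0 := by
  refine Submodule.span_induction (p := fun x _ => (Phib k m x).fst = 0) ?_ ?_ ?_ ?_ hx
  · rintro _ ⟨g, rfl⟩
    rw [Phib_ugen, TrivSqZeroExt.fst_inr]
  · rw [map_zero, TrivSqZeroExt.fst_zero]
  · intro x y _ _ hx hy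
    rw [map_add, TrivSqZeroExt.fst_add, hx, hy, add_zero]
  · intro a x _ hx
    rw [smul_eq_mul, map_mul, TrivSqZeroExt.fst_mul, hx, mul_zero]

def Lam0 : uorigin k m →ₗ[k] (TT m → k) :=
  (TrivSqZeroExt.sndHom k (TT m → k)) ∘ₗ (Phib k m).toLinearMap ∘ₗ
    ((uorigin k m).subtype.restrictScalars k)

theorem Lam0_apply (x : uorigin k m) : Lam0 k m x = (Phib k m x.1).snd := rfl

theorem Lam0_le : ((uorigin k m) • (⊤ : Submodule (URing k m) (uorigin k m))).restrictScalars k ≤
    LinearMap.ker (Lam0 k m) := by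
  intro x hx
  rw [Submodule.restrictScalars_mem] at hx
  rw [LinearMap.mem_ker]
  refine Submodule.smul_induction_on hx ?_ ?_
  · intro r hr n _
    rw [Lam0_apply]
    show (Phib k m (r • (n : URing k m))).snd = 0
    rw [smul_eq_mul, map_mul, TrivSqZeroExt.snd_mul, fst_Phib_eq_zero k m r hr,
      fst_Phib_eq_zero k m n.1 n.2, MulOpposite.op_zero, zero_smul, zero_smul, add_zero]
  · intro x y hx hy
    rw [map_add, hx, hy, add_zero]

def Lam : (uorigin k m).Cotangent →ₗ[k] (TT m → k) :=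
  (Submodule.liftQ _ (Lam0 k m) (Lam0_le k m)) ∘ₗ
    (Submodule.Quotient.restrictScalarsEquiv k
      ((uorigin k m) • (⊤ : Submodule (URing k m) (uorigin k m)))).symm.toLinearMap

theorem Lam_toCotangent (x : uorigin k m) :
    Lam k m ((uorigin k m).toCotangent x) = (Phib k m x.1).snd := rfl

def cls (t : TT m) : (uorigin k m).Cotangent := (uorigin k m).toCotangent (G k m (tgen t))

theorem Lam_cls (t : TT m) : Lam k m (cls k m t) = Pi.single t 1 := by
  rw [cls, Lam_toCotangent, G_val, Phib_ugen, TrivSqZeroExt.snd_inr, vv_tgen]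

theorem cls_li : LinearIndependent k (cls k m) := by
  refine LinearIndependent.of_comp (Lam k m) ?_
  have h := (Pi.basisFun k (TT m)).linearIndependent
  have e : ⇑(Lam k m) ∘ cls k m = ⇑(Pi.basisFun k (TT m)) := by
    funext t
    rw [Function.comp_apply, Lam_cls, Pi.basisFun_apply]
  rw [e]
  exact h

theorem span_cls (hm : 2 ≤ m) : Submodule.span k (Set.range (cls k m)) = ⊤ := by
  have hT : ∀ t : TT m, cls k m t ∈ Submodule.span k (Set.range (cls k m)) :=
    fun t => Submodule.subset_span ⟨t, rfl⟩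
  have hgen : ∀ g : UGen m,
      (uorigin k m).toCotangent (G k m g) ∈ Submodule.span k (Set.range (cls k m)) := by
    intro g
    cases g with
    | a => exact hT (Sum.inl ())
    | c =>
      rw [(Ideal.toCotangent_eq_zero _ _).2 (mem_sq_c k m hm)]
      exact Submodule.zero_mem _
    | cb =>
      rw [(Ideal.toCotangent_eq_zero _ _).2 (mem_sq_cb k m hm)]
      exact Submodule.zero_mem _
    | ci i => exact hT (Sum.inr (Sum.inl i))
    | cbi i => exact hT (Sum.inr (Sum.inr (Sum.inl i)))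
    | cij i j h =>
      rcases lt_or_gt_of_ne h with hlt | hgt
      · exact hT (Sum.inr (Sum.inr (Sum.inr ⟨(i, j), hlt⟩)))
      · have e := rel1 k m j i h.symm
        have hx : G k m (.cij i j h) = G k m .a + G k m (.ci j) + G k m (.cbi j) + G k m (.ci i) +
            G k m (.cbi i) - G k m (.cij j i h.symm) :=
          Subtype.ext (eq_sub_of_add_eq' e)
        rw [hx, map_sub, map_add, map_add, map_add, map_add]
        exact Submodule.sub_mem _ (Submodule.add_mem _ (Submodule.add_mem _ (Submodule.add_mem _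
          (Submodule.add_mem _ (hT (Sum.inl ())) (hT (Sum.inr (Sum.inl j))))
          (hT (Sum.inr (Sum.inr (Sum.inl j))))) (hT (Sum.inr (Sum.inl i))))
          (hT (Sum.inr (Sum.inr (Sum.inl i))))) (hT (Sum.inr (Sum.inr (Sum.inr ⟨(j, i), hgt⟩))))
  have hall : ∀ x (hx : x ∈ uorigin k m),
      (uorigin k m).toCotangent ⟨x, hx⟩ ∈ Submodule.span k (Set.range (cls k m)) := by
    intro x hx
    refine Submodule.span_induction
      (p := fun x hx => (uorigin k m).toCotangent ⟨x, hx⟩ ∈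
        Submodule.span k (Set.range (cls k m))) ?_ ?_ ?_ ?_ hx
    · rintro _ ⟨g, rfl⟩
      exact hgen g
    · show (uorigin k m).toCotangent (0 : uorigin k m) ∈ _
      rw [map_zero]
      exact Submodule.zero_mem _
    · intro x y hx hy h1 h2
      show (uorigin k m).toCotangent ((⟨x, hx⟩ : uorigin k m) + ⟨y, hy⟩) ∈ _
      rw [map_add]
      exact Submodule.add_mem _ h1 h2
    · intro a x hx h1
      obtain ⟨r, hr⟩ := exists_const k m a
      have hx' : x ∈ uorigin k m := hx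
      have hmem : (a - algebraMap k (URing k m) r) * x ∈ uorigin k m :=
        Ideal.mul_mem_left _ _ hx'
      have e : (⟨a • x, Submodule.smul_mem _ a hx⟩ : uorigin k m) =
          r • (⟨x, hx'⟩ : uorigin k m) + ⟨(a - algebraMap k (URing k m) r) * x, hmem⟩ :=
        Subtype.ext (by
          show a • x = r • x + (a - algebraMap k (URing k m) r) * x
          rw [Algebra.smul_def r x, smul_eq_mul]
          ring)
      show (uorigin k m).toCotangent (⟨a • x, Submodule.smul_mem _ a hx⟩ : uorigin k m) ∈ _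
      have hsm : (uorigin k m).toCotangent (r • (⟨x, hx'⟩ : uorigin k m)) =
          r • (uorigin k m).toCotangent ⟨x, hx'⟩ := rfl
      rw [e, map_add, hsm,
        (Ideal.toCotangent_eq_zero _ ⟨_, hmem⟩).2 (by
          rw [pow_two]
          exact Ideal.mul_mem_mul hr hx'), add_zero]
      exact Submodule.smul_mem _ r h1
  rw [eq_top_iff]
  rintro y -
  obtain ⟨x, rfl⟩ := Ideal.toCotangent_surjective _ y
  exact hall x.1 x.2

theorem card_Q (m : ℕ) : Fintype.card {q : Fin m × Fin m // q.1 < q.2} * 2 = m * (m - 1) := by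
  rw [Fintype.card_subtype]
  have h1 : (Finset.univ.filter (fun q : Fin m × Fin m => q.1 < q.2)).card =
      ∑ j : Fin m, (j : ℕ) := by
    rw [Finset.card_filter, ← Finset.univ_product_univ, Finset.sum_product_right]
    refine Finset.sum_congr rfl (fun j _ => ?_)
    rw [← Finset.card_filter, Finset.filter_gt_eq_Iio, Fin.card_Iio]
  rw [h1, Fin.sum_univ_eq_sum_range (fun j => j) m, Finset.sum_range_id_mul_two]

theorem card_TT (m : ℕ) : Fintype.card (TT m) = (m + 2) * (m + 1) / 2 := by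
  have h := card_Q m
  simp only [Fintype.card_sum, Fintype.card_unit, Fintype.card_fin]
  set N := Fintype.card {q : Fin m × Fin m // q.1 < q.2} with hN
  have h2 : (m + 2) * (m + 1) = 2 * (1 + (m + (m + N))) := by
    rcases m with _ | m'
    · simp at h
      omega
    · simp only [Nat.add_sub_cancel] at h
      nlinarith [h]
  rw [h2, Nat.mul_div_cancel_left _ (by norm_num : 0 < 2)]

theorem finrank_cot (hm : 2 ≤ m) :
    Module.finrank k (uorigin k m).Cotangent = (m + 2) * (m + 1) / 2 := by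
  have b : Module.Basis (TT m) k (uorigin k m).Cotangent :=
    Module.Basis.mk (cls_li k m) (span_cls k m hm).ge
  rw [Module.finrank_eq_card_basis b, card_TT]

end cot

theorem main248 (m : ℕ) (hm : 2 ≤ m) :
    (∀ (k : Type u) [Field k], Module.finrank k (uorigin k m).Cotangent = (m + 2) * (m + 1) / 2) ∧
    Algebra.adjoin ℤ ({ugen ℤ m .a} ∪ Set.range (fun i : Fin m => ugen ℤ m (.ci i)) ∪
        Set.range (fun i : Fin m => ugen ℤ m (.cbi i)) ∪
        Set.range (fun q : {q : Fin m × Fin m // q.1 < q.2} => ugen ℤ m (.cij q.1.1 q.1.2 (ne_of_lt q.2)))) = ⊤ :=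
  ⟨fun k _ => finrank_cot k m hm, adjoin_gset_top m hm⟩

end

end Groth.Agent.Lib.Helper6.UnCot
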