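import Mathlib

/-! Adic formal unramifiedness deduced from the reduction modulo the ideal of definition. -/

namespace Groth.Agent.Lib.Helper6.Unram

universe u

theorem unram_ext {R₀ S₀ T : Type u} [CommRing R₀] [CommRing S₀] [Algebra R₀ S₀]
    [Algebra.FormallyUnramified R₀ S₀] [CommRing T] [Algebra R₀ T] (K' : Ideal T)
    (h : K' * K' = ⊥) (g₁ g₂ : S₀ →ₐ[R₀] T) (H : ∀ x, g₁ x - g₂ x ∈ K') : g₁ = g₂ := by
  have h2 : K' ^ 2 = ⊥ := by rw [pow_two, h]
  apply Algebra.FormallyUnramified.comp_injective K' h2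
  refine AlgHom.ext fun x => ?_
  show Ideal.Quotient.mk K' (g₁ x) = Ideal.Quotient.mk K' (g₂ x)
  rw [Ideal.Quotient.eq]
  exact H x

variable {A B : Type u} [CommRing A] [CommRing B] [Algebra A B]

theorem step (𝔪 : Ideal A)
    [hunr : Algebra.FormallyUnramified (A ⧸ 𝔪) (B ⧸ 𝔪.map (algebraMap A B))]
    {E : Type u} [CommRing E] [Algebra A E] (I : Ideal E) (hI : I ^ 2 = ⊥)
    (hmI : 𝔪.map (algebraMap A E) * I = ⊥) (v₁ v₂ : B →ₐ[A] E)
    (h : ∀ b, v₁ b - v₂ b ∈ I) : v₁ = v₂ := by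
  classical
  let φ : (E × E) →ₐ[A] E ⧸ I := (Ideal.Quotient.mkₐ A I).comp (AlgHom.fst A E E)
  let ψ : (E × E) →ₐ[A] E ⧸ I := (Ideal.Quotient.mkₐ A I).comp (AlgHom.snd A E E)
  let F : Subalgebra A (E × E) := AlgHom.equalizer φ ψ
  have hF : ∀ p : F, p.1.1 - p.1.2 ∈ I := fun p => Ideal.Quotient.eq.mp p.2
  let G₁ : B →ₐ[A] F := (v₁.prod v₂).codRestrict F (fun b => Ideal.Quotient.eq.mpr (h b))
  let G₂ : B →ₐ[A] F := (v₁.prod v₁).codRestrict F (fun b => rfl)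
  have hN : ∀ p : F, p ∈ Submodule.span F (algebraMap A F '' (𝔪 : Set A)) →
      (p.1.1 = p.1.2 ∧ p.1.1 ∈ 𝔪.map (algebraMap A E)) := by
    intro p hp
    induction hp using Submodule.span_induction with
    | mem x hx =>
      obtain ⟨a, ha, rfl⟩ := hx
      exact ⟨rfl, Ideal.mem_map_of_mem _ ha⟩
    | zero => exact ⟨rfl, Submodule.zero_mem _⟩
    | add x y _ _ hx hy =>
      refine ⟨?_, Ideal.add_mem _ hx.2 hy.2⟩
      show x.1.1 + y.1.1 = x.1.2 + y.1.2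
      rw [hx.1, hy.1]
    | smul q x _ hx =>
      refine ⟨?_, Ideal.mul_mem_left _ _ hx.2⟩
      show q.1.1 * x.1.1 = q.1.2 * x.1.2
      rw [← hx.1, ← sub_eq_zero, ← sub_mul]
      have h1 : x.1.1 * (q.1.1 - q.1.2) ∈ 𝔪.map (algebraMap A E) * I :=
        Ideal.mul_mem_mul hx.2 (hF q)
      rw [hmI, Ideal.mem_bot] at h1
      rw [mul_comm]; exact h1
  -- the maps on the reductions
  have hle : ∀ G : B →ₐ[A] F, 𝔪.map (algebraMap A B) ≤
      (𝔪.map (algebraMap A F)).comap (G : B →+* F) := by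
    intro G
    rw [Ideal.map_le_iff_le_comap]
    intro a ha
    rw [Ideal.mem_comap, Ideal.mem_comap]
    have : (G : B →+* F) (algebraMap A B a) = algebraMap A F a := G.commutes a
    rw [this]
    exact Ideal.mem_map_of_mem _ ha
  let mkbar : (G : B →ₐ[A] F) → ((B ⧸ 𝔪.map (algebraMap A B)) →ₐ[A ⧸ 𝔪]
      (F ⧸ 𝔪.map (algebraMap A F))) := fun G =>
    { Ideal.quotientMap (𝔪.map (algebraMap A F)) (G : B →+* F) (hle G) with
      commutes' := fun r => by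
        obtain ⟨a, rfl⟩ := Ideal.Quotient.mk_surjective r
        show Ideal.Quotient.mk _ ((G : B →+* F) (algebraMap A B a)) =
          Ideal.Quotient.mk _ (algebraMap A F a)
        have : (G : B →+* F) (algebraMap A B a) = algebraMap A F a := G.commutes a
        rw [this] }
  have hmkbar : ∀ G b, mkbar G (Ideal.Quotient.mk _ b) = Ideal.Quotient.mk _ (G b) :=
    fun G b => rfl
  let K : Ideal F := RingHom.ker ((AlgHom.fst A E E).comp F.val)
  have hK : ∀ p : F, p ∈ K ↔ p.1.1 = 0 := fun p => Iff.rfl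
  have hK2 : K * K = ⊥ := by
    rw [eq_bot_iff, Ideal.mul_le]
    intro p hp q hq
    rw [hK] at hp hq
    rw [Ideal.mem_bot]
    apply Subtype.ext
    refine Prod.ext ?_ ?_
    · show p.1.1 * q.1.1 = 0
      rw [hp, zero_mul]
    · show p.1.2 * q.1.2 = 0
      have hp2 : p.1.2 ∈ I := by
        have := hF p
        rw [hp, zero_sub] at this
        simpa using I.neg_mem this
      have hq2 : q.1.2 ∈ I := by
        have := hF q
        rw [hq, zero_sub] at this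
        simpa using I.neg_mem this
      have h1 : p.1.2 * q.1.2 ∈ I ^ 2 := by rw [pow_two]; exact Ideal.mul_mem_mul hp2 hq2
      rw [hI] at h1
      exact h1
  have heq : mkbar G₁ = mkbar G₂ := by
    apply unram_ext (K.map (Ideal.Quotient.mk (𝔪.map (algebraMap A F))))
      (by rw [← Ideal.map_mul, hK2, Ideal.map_bot])
    intro x
    obtain ⟨b, rfl⟩ := Ideal.Quotient.mk_surjective x
    rw [hmkbar, hmkbar, ← map_sub]
    apply Ideal.mem_map_of_mem
    rw [hK]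
    show v₁ b - v₁ b = 0
    exact sub_self _
  ext b
  have h1 := AlgHom.congr_fun heq (Ideal.Quotient.mk _ b)
  rw [hmkbar, hmkbar, Ideal.Quotient.eq] at h1
  have h2 := (hN _ h1).1
  have h3 : v₁ b - v₁ b = v₂ b - v₁ b := h2
  rw [sub_self] at h3
  exact (sub_eq_zero.mp h3.symm).symm

theorem unique_of_reduction (𝔪 : Ideal A)
    [Algebra.FormallyUnramified (A ⧸ 𝔪) (B ⧸ 𝔪.map (algebraMap A B))]
    (E : Type u) [CommRing E] [Algebra A E]
    (hE : ∃ k : ℕ, (𝔪 ^ k).map (algebraMap A E) = ⊥) (J : Ideal E) (hJ : IsNilpotent J)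
    (v₁ v₂ : B →ₐ[A] E)
    (h : ∀ b, Ideal.Quotient.mk J (v₁ b) = Ideal.Quotient.mk J (v₂ b)) : v₁ = v₂ := by
  obtain ⟨k, hk⟩ := hE
  obtain ⟨N, hN⟩ := hJ
  have hJ'nil : (J ⊔ 𝔪.map (algebraMap A E)) ^ (N + k) = ⊥ := by
    rw [eq_bot_iff]
    refine Ideal.sup_pow_add_le_pow_sup_pow.trans ?_
    rw [hN, ← Ideal.map_pow, hk]
    simp
  have key : ∀ j : ℕ, ∀ b, v₁ b - v₂ b ∈ (J ⊔ 𝔪.map (algebraMap A E)) ^ (j + 1) := by
    intro j
    induction j with
    | zero =>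
      intro b
      rw [zero_add, pow_one]
      exact Ideal.mem_sup_left (Ideal.Quotient.eq.mp (h b))
    | succ j ih =>
      intro b
      have hI : ((J ⊔ 𝔪.map (algebraMap A E)) ^ (j + 1)).map
          (Ideal.Quotient.mk ((J ⊔ 𝔪.map (algebraMap A E)) ^ (j + 1 + 1))) ^ 2 = ⊥ := by
        rw [← Ideal.map_pow, ← pow_mul, eq_bot_iff]
        calc _ ≤ ((J ⊔ 𝔪.map (algebraMap A E)) ^ (j + 1 + 1)).map (Ideal.Quotient.mk _) :=
              Ideal.map_mono (Ideal.pow_le_pow_right (by omega))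
          _ = ⊥ := Ideal.map_quotient_self _
      have hmI : 𝔪.map (algebraMap A (E ⧸ (J ⊔ 𝔪.map (algebraMap A E)) ^ (j + 1 + 1))) *
          ((J ⊔ 𝔪.map (algebraMap A E)) ^ (j + 1)).map
            (Ideal.Quotient.mk ((J ⊔ 𝔪.map (algebraMap A E)) ^ (j + 1 + 1))) = ⊥ := by
        have h1 : algebraMap A (E ⧸ (J ⊔ 𝔪.map (algebraMap A E)) ^ (j + 1 + 1)) =
            (Ideal.Quotient.mk _).comp (algebraMap A E) := rfl
        rw [h1, ← Ideal.map_map, ← Ideal.map_mul, eq_bot_iff]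
        calc _ ≤ ((J ⊔ 𝔪.map (algebraMap A E)) ^ (j + 1 + 1)).map (Ideal.Quotient.mk _) := by
              apply Ideal.map_mono
              rw [pow_succ' _ (j + 1)]
              exact Ideal.mul_mono_left le_sup_right
          _ = ⊥ := Ideal.map_quotient_self _
      have h2 := step 𝔪 _ hI hmI
        ((Ideal.Quotient.mkₐ A ((J ⊔ 𝔪.map (algebraMap A E)) ^ (j + 1 + 1))).comp v₁)
        ((Ideal.Quotient.mkₐ A ((J ⊔ 𝔪.map (algebraMap A E)) ^ (j + 1 + 1))).comp v₂)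
        (fun b => by
          show Ideal.Quotient.mk _ (v₁ b) - Ideal.Quotient.mk _ (v₂ b) ∈ _
          rw [← map_sub]
          exact Ideal.mem_map_of_mem _ (ih b))
      have h3 := AlgHom.congr_fun h2 b
      exact Ideal.Quotient.eq.mp h3
  ext b
  have h1 := key (N + k) b
  have h2 : (J ⊔ 𝔪.map (algebraMap A E)) ^ (N + k + 1) ≤ ⊥ := by
    rw [← hJ'nil]; exact Ideal.pow_le_pow_right (Nat.le_succ _)
  have h3 := h2 h1
  rw [Ideal.mem_bot] at h3
  exact sub_eq_zero.mp h3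

theorem formallyUnramified_of_unique (𝔪 : Ideal A)
    (hU : ∀ (E : Type u) [CommRing E] [Algebra A E],
      (∃ k : ℕ, (𝔪 ^ k).map (algebraMap A E) = ⊥) →
      ∀ J : Ideal E, IsNilpotent J → ∀ v₁ v₂ : B →ₐ[A] E,
        (∀ b : B, Ideal.Quotient.mk J (v₁ b) = Ideal.Quotient.mk J (v₂ b)) → v₁ = v₂) :
    Algebra.FormallyUnramified (A ⧸ 𝔪) (B ⧸ 𝔪.map (algebraMap A B)) := by
  rw [Algebra.FormallyUnramified.iff_comp_injective]
  intro E₀ _ _ I hI g₁ g₂ hg
  letI : Algebra A E₀ := ((algebraMap (A ⧸ 𝔪) E₀).comp (Ideal.Quotient.mk 𝔪)).toAlgebra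
  have hdisc : ∃ k : ℕ, (𝔪 ^ k).map (algebraMap A E₀) = ⊥ := ⟨1, by
    rw [pow_one, eq_bot_iff, Ideal.map_le_iff_le_comap]
    intro a ha
    rw [Ideal.mem_comap, Ideal.mem_bot]
    show algebraMap (A ⧸ 𝔪) E₀ (Ideal.Quotient.mk 𝔪 a) = 0
    rw [Ideal.Quotient.eq_zero_iff_mem.mpr ha, map_zero]⟩
  let v : ((B ⧸ 𝔪.map (algebraMap A B)) →ₐ[A ⧸ 𝔪] E₀) → (B →ₐ[A] E₀) := fun g =>
    { toRingHom := g.toRingHom.comp (Ideal.Quotient.mk _)
      commutes' := fun a => g.commutes (Ideal.Quotient.mk 𝔪 a) }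
  have h1 := hU E₀ hdisc I ⟨2, hI⟩ (v g₁) (v g₂)
    (fun b => AlgHom.congr_fun hg (Ideal.Quotient.mk _ b))
  ext x
  obtain ⟨b, rfl⟩ := Ideal.Quotient.mk_surjective x
  exact AlgHom.congr_fun h1 b

end Groth.Agent.Lib.Helper6.Unram
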