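import Mathlib

/-! Adic formal unramifiedness and the completed module of differentials. -/

namespace Groth.Agent.Lib.Helper6.UnramAdic

universe u

open TensorProduct

variable {A B : Type u} [CommRing A] [CommRing B] [Algebra A B]

theorem pow_smul_top_eq_top {M : Type*} [AddCommGroup M] [Module B M] (𝔟 : Ideal B)
    (h : (𝔟 • ⊤ : Submodule B M) = ⊤) (m : ℕ) : (𝔟 ^ m • ⊤ : Submodule B M) = ⊤ := by
  induction m with
  | zero => simp
  | succ m ih => rw [pow_succ, mul_smul, h, ih]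

theorem subsingleton_adicCompletion_iff {M : Type*} [AddCommGroup M] [Module B M]
    (𝔟 : Ideal B) : Subsingleton (AdicCompletion 𝔟 M) ↔ (𝔟 • ⊤ : Submodule B M) = ⊤ := by
  constructor
  · intro hs
    have h1 : Subsingleton (M ⧸ (𝔟 ^ 1 • ⊤ : Submodule B M)) :=
      (AdicCompletion.eval_surjective 𝔟 M 1).subsingleton
    rw [Submodule.Quotient.subsingleton_iff, pow_one] at h1
    exact h1
  · intro h
    refine ⟨fun x y => AdicCompletion.ext fun n => ?_⟩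
    have h1 : Subsingleton (M ⧸ (𝔟 ^ n • ⊤ : Submodule B M)) := by
      rw [Submodule.Quotient.subsingleton_iff]
      exact pow_smul_top_eq_top 𝔟 h n
    exact Subsingleton.elim _ _

/-- Square-zero step. -/
theorem sq_step (𝔟 : Ideal B) (hΩ : (𝔟 • ⊤ : Submodule B Ω[B⁄A]) = ⊤)
    {E : Type u} [CommRing E] [Algebra A E] (I : Ideal E) (hI : I ^ 2 = ⊥)
    (v₁ v₂ : B →ₐ[A] E) (m : ℕ) (hm : ∀ x ∈ 𝔟 ^ m, v₁ x = 0)
    (e : (Ideal.Quotient.mkₐ A I).comp v₁ = (Ideal.Quotient.mkₐ A I).comp v₂) : v₁ = v₂ := by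
  letI := v₁.toRingHom.toAlgebra
  haveI := IsScalarTower.of_algebraMap_eq' v₁.comp_algebraMap.symm
  have hsub : Subsingleton (Ω[B⁄A] →ₗ[B] I) := by
    refine ⟨fun φ ψ => ?_⟩
    have hzero : ∀ χ : Ω[B⁄A] →ₗ[B] I, χ = 0 := by
      intro χ
      refine LinearMap.ext fun ω => ?_
      have hω : ω ∈ (𝔟 ^ m • ⊤ : Submodule B Ω[B⁄A]) := by
        rw [pow_smul_top_eq_top 𝔟 hΩ m]; trivial
      refine Submodule.smul_induction_on hω ?_ ?_
      · intro β hβ ω' _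
        rw [map_smul]
        apply Subtype.ext
        show (algebraMap B E β) * (χ ω' : E) = 0
        have : algebraMap B E β = v₁ β := rfl
        rw [this, hm β hβ, zero_mul]
      · intro x y hx hy
        rw [map_add, hx, hy]; simp
    rw [hzero φ, hzero ψ]
  have :=
    ((KaehlerDifferential.linearMapEquivDerivation A B).toEquiv.trans
          (derivationToSquareZeroEquivLift I hI)).surjective.subsingleton
  exact Subtype.ext_iff.mp (@Subsingleton.elim _ this ⟨v₁, rfl⟩ ⟨v₂, e.symm⟩)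

theorem unique_of_smul_top (𝔟 : Ideal B) (hΩ : (𝔟 • ⊤ : Submodule B Ω[B⁄A]) = ⊤)
    (E : Type u) [CommRing E] [Algebra A E] (J : Ideal E) (hJ : IsNilpotent J)
    (v₁ v₂ : B →ₐ[A] E) (hv₁ : ∃ m : ℕ, ∀ x ∈ 𝔟 ^ m, v₁ x = 0)
    (h : ∀ b, Ideal.Quotient.mk J (v₁ b) = Ideal.Quotient.mk J (v₂ b)) : v₁ = v₂ := by
  obtain ⟨N, hN⟩ := hJ
  obtain ⟨m, hm⟩ := hv₁
  have key : ∀ j : ℕ, ∀ b, v₁ b - v₂ b ∈ J ^ (j + 1) := by
    intro j
    induction j with
    | zero =>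
      intro b
      rw [zero_add, pow_one]
      exact Ideal.Quotient.eq.mp (h b)
    | succ j ih =>
      intro b
      have hI : (J ^ (j + 1)).map (Ideal.Quotient.mk (J ^ (j + 1 + 1))) ^ 2 = ⊥ := by
        rw [← Ideal.map_pow, ← pow_mul, eq_bot_iff]
        calc _ ≤ (J ^ (j + 1 + 1)).map (Ideal.Quotient.mk _) :=
              Ideal.map_mono (Ideal.pow_le_pow_right (by omega))
          _ = ⊥ := Ideal.map_quotient_self _
      have h2 := sq_step 𝔟 hΩ _ hI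
        ((Ideal.Quotient.mkₐ A (J ^ (j + 1 + 1))).comp v₁)
        ((Ideal.Quotient.mkₐ A (J ^ (j + 1 + 1))).comp v₂) m
        (fun x hx => by
          show Ideal.Quotient.mk _ (v₁ x) = 0
          rw [hm x hx, map_zero])
        (by
          refine AlgHom.ext fun b => ?_
          show Ideal.Quotient.mk _ (Ideal.Quotient.mk _ (v₁ b)) =
            Ideal.Quotient.mk _ (Ideal.Quotient.mk _ (v₂ b))
          rw [Ideal.Quotient.eq, ← map_sub]
          exact Ideal.mem_map_of_mem _ (ih b))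
      have h3 := AlgHom.congr_fun h2 b
      exact Ideal.Quotient.eq.mp h3
  ext b
  have h1 := key N b
  have h2 : J ^ (N + 1) ≤ ⊥ := by
    rw [← Ideal.zero_eq_bot, ← hN]; exact Ideal.pow_le_pow_right (Nat.le_succ _)
  have h3 := h2 h1
  rw [Ideal.mem_bot] at h3
  exact sub_eq_zero.mp h3

theorem D_mem_smul_top_of_mem_sq (𝔟 : Ideal B) (x : B) (hx : x ∈ 𝔟 ^ 2) :
    KaehlerDifferential.D A B x ∈ (𝔟 • ⊤ : Submodule B Ω[B⁄A]) := by
  rw [pow_two] at hx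
  refine Submodule.mul_induction_on hx ?_ ?_
  · intro y hy z hz
    rw [Derivation.leibniz]
    exact Submodule.add_mem _ (Submodule.smul_mem_smul hy Submodule.mem_top)
      (Submodule.smul_mem_smul hz Submodule.mem_top)
  · intro y z hy hz
    rw [map_add]
    exact Submodule.add_mem _ hy hz

theorem smul_top_of_unique (𝔞 : Ideal A) (𝔟 : Ideal B)
    (hAB : ∃ k : ℕ, (𝔞 ^ k).map (algebraMap A B) ≤ 𝔟)
    (hU : ∀ (E : Type u) [CommRing E] [Algebra A E],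
      (∃ k : ℕ, (𝔞 ^ k).map (algebraMap A E) = ⊥) →
      ∀ J : Ideal E, IsNilpotent J → ∀ v₁ v₂ : B →ₐ[A] E,
        (∃ m : ℕ, ∀ x ∈ 𝔟 ^ m, v₁ x = 0) → (∃ m : ℕ, ∀ x ∈ 𝔟 ^ m, v₂ x = 0) →
        (∀ b : B, Ideal.Quotient.mk J (v₁ b) = Ideal.Quotient.mk J (v₂ b)) → v₁ = v₂) :
    (𝔟 • ⊤ : Submodule B Ω[B⁄A]) = ⊤ := by
  obtain ⟨k₀, hk₀⟩ := hAB
  have hunr : Algebra.FormallyUnramified A (B ⧸ 𝔟 ^ 2) := by
    rw [Algebra.FormallyUnramified.iff_comp_injective]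
    intro E' _ _ I hI g₁ g₂ hg
    let v : ((B ⧸ 𝔟 ^ 2) →ₐ[A] E') → (B →ₐ[A] E') := fun g =>
      g.comp (Ideal.Quotient.mkₐ A (𝔟 ^ 2))
    have hv : ∀ g, ∃ m : ℕ, ∀ x ∈ 𝔟 ^ m, v g x = 0 := fun g => ⟨2, fun x hx => by
      show g (Ideal.Quotient.mk _ x) = 0
      rw [Ideal.Quotient.eq_zero_iff_mem.mpr hx, map_zero]⟩
    have hdisc : ∃ k : ℕ, (𝔞 ^ k).map (algebraMap A E') = ⊥ := by
      refine ⟨k₀ * 2, ?_⟩
      rw [eq_bot_iff, Ideal.map_le_iff_le_comap]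
      intro a ha
      rw [Ideal.mem_comap, Ideal.mem_bot]
      have h1 : algebraMap A B a ∈ 𝔟 ^ 2 := by
        have h2 : (𝔞 ^ (k₀ * 2)).map (algebraMap A B) ≤ 𝔟 ^ 2 := by
          rw [pow_mul, Ideal.map_pow]; exact Ideal.pow_right_mono hk₀ 2
        exact h2 (Ideal.mem_map_of_mem _ ha)
      have h3 : v g₁ (algebraMap A B a) = algebraMap A E' a := (v g₁).commutes a
      rw [← h3]
      obtain ⟨m, hm⟩ := hv g₁
      show g₁ (Ideal.Quotient.mk _ (algebraMap A B a)) = 0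
      rw [Ideal.Quotient.eq_zero_iff_mem.mpr h1, map_zero]
    have h1 := hU E' hdisc I ⟨2, hI⟩ (v g₁) (v g₂) (hv g₁) (hv g₂)
      (fun b => AlgHom.congr_fun hg (Ideal.Quotient.mk _ b))
    ext x
    obtain ⟨b, rfl⟩ := Ideal.Quotient.mk_surjective x
    exact AlgHom.congr_fun h1 b
  have hsurj : Function.Surjective (algebraMap B (B ⧸ 𝔟 ^ 2)) := Ideal.Quotient.mk_surjective
  have hexact := KaehlerDifferential.exact_kerCotangentToTensor_mapBaseChange A B (B ⧸ 𝔟 ^ 2) hsurj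
  rw [eq_top_iff]
  intro ω _
  have h0 : KaehlerDifferential.mapBaseChange A B (B ⧸ 𝔟 ^ 2) ((1 : B ⧸ 𝔟 ^ 2) ⊗ₜ[B] ω) = 0 :=
    Subsingleton.elim _ _
  obtain ⟨ξ, hξ⟩ := (hexact _).mp h0
  obtain ⟨x, rfl⟩ := Ideal.toCotangent_surjective _ ξ
  rw [KaehlerDifferential.kerCotangentToTensor_toCotangent] at hξ
  have hx2 : x.1 ∈ 𝔟 ^ 2 := Ideal.Quotient.eq_zero_iff_mem.mp (RingHom.mem_ker.mp x.2)
  have h2 := congrArg (TensorProduct.quotTensorEquivQuotSMul Ω[B⁄A] (𝔟 ^ 2)) hξ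
  rw [TensorProduct.quotTensorEquivQuotSMul_mk_one_tmul,
    TensorProduct.quotTensorEquivQuotSMul_mk_one_tmul, Submodule.Quotient.eq] at h2
  have h3 : (𝔟 ^ 2 • ⊤ : Submodule B Ω[B⁄A]) ≤ 𝔟 • ⊤ :=
    Submodule.smul_mono (Ideal.pow_le_self two_ne_zero) le_rfl
  have h4 := D_mem_smul_top_of_mem_sq (A := A) 𝔟 x.1 hx2
  have : ω = KaehlerDifferential.D A B x.1 - (KaehlerDifferential.D A B x.1 - ω) := by abel
  rw [this]
  exact Submodule.sub_mem _ h4 (h3 h2)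

end Groth.Agent.Lib.Helper6.UnramAdic
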