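import Groth.Agent.Lib.Helper16.QfLocus
import Groth.Agent.Lib.Helper16.WhereEngine
import Groth.Agent.Lib.Helper16.LocP
import Groth.Agent.Lib.Helper17.UnramLocus

/-!
# Helper library (helper6): the unramified locus of a morphism of algebraic spaces

`URAt h u`: the morphism of schemes `h` is unramified (locally of finite type and formally unramified) on an open
neighbourhood of `u`.  This is etale local on source and target and compatible with base change; hence the locus of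
points of an algebraic space where a morphism is unramified is open and commutes with base change.
-/

set_option autoImplicit false
universe u
open CategoryTheory CategoryTheory.Limits AlgebraicGeometry Opposite Topology

namespace Groth.Agent.Lib.Helper6.UrLocus

open AlgSp Groth.Agent.Lib.Helper16 Groth.Agent.Lib.Helper16.QfAt Groth.Agent.Lib.Helper15

/-- The property "unramified" of morphisms of schemes. -/
abbrev UR : MorphismProperty Scheme.{u} := @LocallyOfFiniteType ⊓ @FormallyUnramified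

/-- `h` is unramified on an open neighbourhood of `u`. -/
def URAt {U V : Scheme.{u}} (h : U ⟶ V) (u : U) : Prop :=
  ∃ W : U.Opens, u ∈ W ∧ LocallyOfFiniteType (W.ι ≫ h) ∧ FormallyUnramified (W.ι ≫ h)

theorem urAt_precomp_etale {A U V : Scheme.{u}} (e : A ⟶ U) [Etale e] (h : U ⟶ V) (a : A)
    (H : URAt h (e a)) : URAt (e ≫ h) a := by
  obtain ⟨W, haW, h1, h2⟩ := H
  refine ⟨e ⁻¹ᵁ W, haW, ?_⟩
  have hEt : Etale (e ∣_ W) :=
    MorphismProperty.of_isPullback (P := @Etale) (isPullback_morphismRestrict e W).flip inferInstance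
  have heq : (e ⁻¹ᵁ W).ι ≫ e ≫ h = (e ∣_ W) ≫ W.ι ≫ h := by
    rw [← Category.assoc, ← morphismRestrict_ι, Category.assoc]
  have hP : UR ((e ∣_ W) ≫ W.ι ≫ h) :=
    etLocalST_unramified.precomp (e ∣_ W) (W.ι ≫ h) hEt ⟨h1, h2⟩
  rw [heq]
  exact hP

theorem mem_of_ι {A : Scheme.{u}} (W : A.Opens) (x : W.toScheme) : W.ι x ∈ W := by
  have h := Set.mem_range_self (f := W.ι) x
  rw [Scheme.Opens.range_ι] at h
  exact h

theorem exists_ι_eq' {A : Scheme.{u}} (O : A.Opens) {x : A} (hx : x ∈ O) : ∃ z : O.toScheme, O.ι z = x := by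
  have h : x ∈ Set.range O.ι := by rw [Scheme.Opens.range_ι]; exact hx
  exact h

theorem urAt_of_precomp_etale {A U V : Scheme.{u}} (e : A ⟶ U) [Etale e] (h : U ⟶ V) (a : A)
    (H : URAt (e ≫ h) a) : URAt h (e a) := by
  obtain ⟨W₁, haW, h1, h2⟩ := H
  let W : U.Opens := ⟨e '' (W₁ : Set A), e.isOpenMap _ W₁.2⟩
  have hmemW : ∀ x : U, x ∈ W ↔ x ∈ e '' (W₁ : Set A) := fun x => Iff.rfl
  have hr : Set.range (W₁.ι ≫ e) ⊆ Set.range W.ι := by
    rintro _ ⟨x, rfl⟩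
    rw [Scheme.Opens.range_ι]
    exact ⟨W₁.ι x, mem_of_ι W₁ x, (Scheme.Hom.comp_apply _ _ _).symm⟩
  let k : W₁.toScheme ⟶ W.toScheme := IsOpenImmersion.lift W.ι (W₁.ι ≫ e) hr
  have hk : k ≫ W.ι = W₁.ι ≫ e := IsOpenImmersion.lift_fac _ _ _
  have hkEt : Etale k := by
    have h0 : Etale (k ≫ W.ι) := by rw [hk]; infer_instance
    exact etLocalST_etale.cancel k W.ι inferInstance h0
  have hkS : Surjective k := by
    refine ⟨fun w => ?_⟩
    obtain ⟨x, hx, hxw⟩ := (hmemW _).1 (mem_of_ι W w)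
    obtain ⟨x', rfl⟩ := exists_ι_eq' W₁ hx
    refine ⟨x', ?_⟩
    apply W.ι.isOpenEmbedding.injective
    rw [← Scheme.Hom.comp_apply, hk, Scheme.Hom.comp_apply]
    exact hxw
  have hP : UR (k ≫ W.ι ≫ h) := by
    have e0 : k ≫ W.ι ≫ h = W₁.ι ≫ e ≫ h := by rw [← Category.assoc, hk, Category.assoc]
    rw [e0]
    exact ⟨h1, h2⟩
  have hW : UR (W.ι ≫ h) := etLocalST_unramified.ofCover' k (W.ι ≫ h) hkEt hkS hP
  exact ⟨W, (hmemW _).2 ⟨a, haW, rfl⟩, hW.1, hW.2⟩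

theorem urAt_postcomp_etale_iff {U V V' : Scheme.{u}} (h : U ⟶ V) (g : V ⟶ V') [Etale g] (u : U) :
    URAt (h ≫ g) u ↔ URAt h u := by
  constructor
  · rintro ⟨W, hu, h1, h2⟩
    have hP : UR ((W.ι ≫ h) ≫ g) := by
      rw [Category.assoc]
      exact ⟨h1, h2⟩
    have h3 := etLocalST_unramified.cancel (W.ι ≫ h) g inferInstance hP
    exact ⟨W, hu, h3.1, h3.2⟩
  · rintro ⟨W, hu, h1, h2⟩
    have h3 := etLocalST_unramified.postcomp (W.ι ≫ h) g inferInstance ⟨h1, h2⟩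
    rw [Category.assoc] at h3
    exact ⟨W, hu, h3.1, h3.2⟩

theorem urAt_snd_of_isPullback {U V U'' V'' : Scheme.{u}} {β : U'' ⟶ U} {h'' : U'' ⟶ V''} {h : U ⟶ V}
    {γ : V'' ⟶ V} (sq : IsPullback β h'' h γ) (u'' : U'') (H : URAt h (β u'')) : URAt h'' u'' := by
  obtain ⟨W, hu, h1, h2⟩ := H
  have sq' : IsPullback (β ∣_ W) ((β ⁻¹ᵁ W).ι ≫ h'') (W.ι ≫ h) γ :=
    (isPullback_morphismRestrict β W).paste_vert sq
  have h3 := etLocalST_unramified.of_isPullback sq' ⟨h1, h2⟩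
  exact ⟨β ⁻¹ᵁ W, hu, h3.1, h3.2⟩

theorem urAt_fst_of_isPullback {U V U'' V'' : Scheme.{u}} {β : U'' ⟶ U} {h'' : U'' ⟶ V''} {h : U ⟶ V}
    {γ : V'' ⟶ V} (sq : IsPullback β h'' h γ) [LocallyOfFiniteType h] (u'' : U'')
    (H : URAt h'' u'') : URAt h (β u'') := by
  obtain ⟨W'', hu, h1, h2⟩ := H
  have e1 : sq.isoPullback.hom ≫ pullback.fst h γ = β := sq.isoPullback_hom_fst
  have e3 : (sq.isoPullback.inv ∣_ W'') ≫ W''.ι ≫ h'' =
      (sq.isoPullback.inv ⁻¹ᵁ W'').ι ≫ pullback.snd h γ := by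
    rw [← Category.assoc, morphismRestrict_ι, Category.assoc, sq.isoPullback_inv_snd]
  have hFU : FormallyUnramified ((sq.isoPullback.inv ⁻¹ᵁ W'').ι ≫ pullback.snd h γ) := by
    rw [← e3]
    exact MorphismProperty.comp_mem @FormallyUnramified _ _ inferInstance h2
  have hmem : sq.isoPullback.hom u'' ∈ sq.isoPullback.inv ⁻¹ᵁ W'' := by
    show sq.isoPullback.inv (sq.isoPullback.hom u'') ∈ W''
    have e4 : sq.isoPullback.inv (sq.isoPullback.hom u'') = u'' := by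
      rw [← Scheme.Hom.comp_apply, Iso.hom_inv_id]
      rfl
    rw [e4]
    exact hu
  obtain ⟨U₀, hz, hU₀⟩ := Groth.Agent.Lib.Helper17.UnramLocus.exists_formallyUnramified_nhd_of_baseChange
    h γ (sq.isoPullback.inv ⁻¹ᵁ W'') (sq.isoPullback.hom u'') hmem hFU
  refine ⟨U₀, ?_, inferInstance, hU₀⟩
  rw [← Scheme.Hom.comp_apply, e1] at hz
  exact hz

variable {S : Scheme.{u}}

/-- Unramifiedness at a point does not depend on the chart diagram. -/
theorem urAt_transfer {X Y : Sp S} (f : X ⟶ Y) {U V U₁ V₁ : Over S}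
    (a : (yon S).obj U ⟶ X) (b : (yon S).obj V ⟶ Y) (h : U ⟶ V)
    (a₁ : (yon S).obj U₁ ⟶ X) (b₁ : (yon S).obj V₁ ⟶ Y) (m : U₁ ⟶ V₁)
    (ha : RepWith @Etale a) (hb : RepWith @Etale b) (ha₁ : RepWith @Etale a₁) (hb₁ : RepWith @Etale b₁)
    (hc : a ≫ f = (yon S).map h ≫ b) (hc₁ : a₁ ≫ f = (yon S).map m ≫ b₁)
    (u : ↥U.left) (u₁ : ↥U₁.left) (hu : Points.ofPt a u = Points.ofPt a₁ u₁)
    (hq : URAt h.left u) : URAt m.left u₁ := by
  obtain ⟨W, p, q₀, sqW⟩ := ha₁.rep a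
  obtain ⟨q, rfl⟩ := (yon S).map_surjective q₀
  have hp : Etale p.left := ha₁.property _ _ _ sqW
  have hq' : Etale q.left := ha.property _ _ _ sqW.flip
  obtain ⟨w, hw1, hw2⟩ := exists_point_of_isPullback_yon_yon sqW u₁ u hu.symm
  obtain ⟨V'', π, π₁₀, sqV⟩ := hb₁.rep b
  obtain ⟨π₁, rfl⟩ := (yon S).map_surjective π₁₀
  have hπ : Etale π.left := hb₁.property _ _ _ sqV
  have hπ₁ : Etale π₁.left := hb.property _ _ _ sqV.flip
  have hcomm : (yon S).map (q ≫ m) ≫ b₁ = (yon S).map (p ≫ h) ≫ b := by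
    rw [Functor.map_comp, Functor.map_comp, Category.assoc, Category.assoc, ← hc₁, ← hc,
      ← Category.assoc, ← Category.assoc, sqW.w]
  obtain ⟨g, hg⟩ := (yon S).map_surjective (sqV.lift _ _ hcomm)
  have hg1 : g ≫ π₁ = q ≫ m := by
    apply (yon S).map_injective
    rw [Functor.map_comp, hg, sqV.lift_fst]
  have hg2 : g ≫ π = p ≫ h := by
    apply (yon S).map_injective
    rw [Functor.map_comp, hg, sqV.lift_snd]
  have hg1' : g.left ≫ π₁.left = q.left ≫ m.left := by rw [← Over.comp_left, hg1, Over.comp_left]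
  have hg2' : g.left ≫ π.left = p.left ≫ h.left := by rw [← Over.comp_left, hg2, Over.comp_left]
  subst hw1 hw2
  have s1 : URAt (p.left ≫ h.left) w := urAt_precomp_etale p.left h.left w hq
  rw [← hg2'] at s1
  have s2 : URAt g.left w := (urAt_postcomp_etale_iff g.left π.left w).1 s1
  have s3 : URAt (g.left ≫ π₁.left) w := (urAt_postcomp_etale_iff g.left π₁.left w).2 s2
  rw [hg1'] at s3
  exact urAt_of_precomp_etale q.left m.left w s3

/-- The unramified locus of a morphism of sheaves. -/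
def urLocus {X Y : Sp S} (f : X ⟶ Y) : Set (Points X) :=
  {x | HasAtMor (fun _ _ h u => URAt h u) f x}

theorem mem_urLocus_iff {X Y : Sp S} (f : X ⟶ Y) {U₁ V₁ : Over S}
    (a₁ : (yon S).obj U₁ ⟶ X) (b₁ : (yon S).obj V₁ ⟶ Y) (m : U₁ ⟶ V₁) (ha₁ : RepWith @Etale a₁)
    (hb₁ : RepWith @Etale b₁) (hc₁ : a₁ ≫ f = (yon S).map m ≫ b₁) (u₁ : ↥U₁.left) :
    Points.ofPt a₁ u₁ ∈ urLocus f ↔ URAt m.left u₁ := by
  constructor
  · rintro ⟨U, V, a, b, h, u, ha, hb, hc, hu, hq⟩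
    exact urAt_transfer f a b h a₁ b₁ m ha hb ha₁ hb₁ hc hc₁ u u₁ hu hq
  · intro hq
    exact ⟨U₁, V₁, a₁, b₁, m, u₁, ha₁, hb₁, hc₁, rfl, hq⟩

theorem isOpen_urLocus {X Y : Sp S} (f : X ⟶ Y) : IsOpen (urLocus f) := by
  rw [isOpen_iff_forall_mem_open]
  rintro x ⟨U, V, a, b, h, u, ha, hb, hc, hu, W, huW, h1, h2⟩
  refine ⟨Points.ofPt a '' (W : Set ↥U.left), ?_, isOpenMap_ofPt_of_etale a ha _ W.isOpen, ⟨u, huW, hu⟩⟩
  rintro _ ⟨u', hu', rfl⟩
  exact ⟨U, V, a, b, h, u', ha, hb, hc, rfl, W, hu', h1, h2⟩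

theorem urLocus_baseChange {X Y X'' Y'' : Sp S} (hX : IsAlgSpace X) (hY : IsAlgSpace Y)
    (hY'' : IsAlgSpace Y'') {f : X ⟶ Y} {g : Y'' ⟶ Y} {b : X'' ⟶ X} {f'' : X'' ⟶ Y''}
    (sq : IsPullback b f'' f g) (hf : LocP @LocallyOfFiniteType f) (x'' : Points X'') :
    x'' ∈ urLocus f'' ↔ Points.map b x'' ∈ urLocus f := by
  obtain ⟨U, V, U'', V'', a, bV, h, a'', b'', h'', β, γ, hae, hbVe, ha''e, hb''e, ha''s, hc, hc'', hcb, sqS⟩ :=
    exists_chart_diagram_baseChange hX hY hY'' sq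
  obtain ⟨u'', rfl⟩ := ofPt_surjective_of_surjective a'' ha''s x''
  have hpt : Points.map b (Points.ofPt a'' u'') = Points.ofPt a (β.left u'') := by
    rw [Points.map_ofPt, hcb, ofPt_yon_map_comp]
  haveI : LocallyOfFiniteType h.left := hf _ _ h hae hbVe hc
  rw [hpt, mem_urLocus_iff f'' a'' b'' h'' ha''e hb''e hc'' u'', mem_urLocus_iff f a bV h hae hbVe hc]
  exact ⟨urAt_fst_of_isPullback sqS u'', urAt_snd_of_isPullback sqS u''⟩

theorem locP_unram_iff_forall_mem_urLocus {X Y : Sp S} (hX : IsAlgSpace X) (hY : IsAlgSpace Y) (f : X ⟶ Y) :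
    LocP (@LocallyOfFiniteType ⊓ @FormallyUnramified) f ↔ ∀ x : Points X, x ∈ urLocus f := by
  obtain ⟨U₀, a₀, hae, has⟩ := hX.atlas
  obtain ⟨V, b, hbe, hbs⟩ := hY.atlas
  obtain ⟨U, h, c, h1, h2, -, -, h3⟩ := exists_chart_diagram f b hbe a₀ hae
  have has' := h3 hbs has
  constructor
  · intro H x
    obtain ⟨u, rfl⟩ := ofPt_surjective_of_surjective _ has' x
    rw [mem_urLocus_iff f _ b h h1 hbe h2 u]
    have hP : UR h.left := H _ _ h h1 hbe h2
    have hP' : UR ((⊤ : U.left.Opens).ι ≫ h.left) :=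
      etLocalST_unramified.precomp _ _ inferInstance hP
    exact ⟨⊤, trivial, hP'.1, hP'.2⟩
  · intro H
    refine locP_of_chart etLocalST_unramified f _ b h h1 has' hbe h2 ?_
    apply etLocalST_unramified.ofCover
    intro x
    obtain ⟨W, hxW, hW1, hW2⟩ := (mem_urLocus_iff f _ b h h1 hbe h2 x).1 (H _)
    refine ⟨W.toScheme, W.ι, inferInstance, ?_, hW1, hW2⟩
    rw [Scheme.Opens.range_ι]
    exact hxW

/-- **S10312**. -/
theorem main10312 {X Y Z Z' Y' X' : AlgSp.Space S} (f : X ⟶ Y)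
    (p : X ⟶ Z) (q : Y ⟶ Z) (comm : f ≫ q = p) (hp : AlgSp.LocP @LocallyOfFiniteType p.hom) (g : Z' ⟶ Z)
    (a : Y' ⟶ Y) (q' : Y' ⟶ Z') (sq1 : IsPullback a.hom q'.hom q.hom g.hom)
    (b : X' ⟶ X) (f' : X' ⟶ Y') (sq2 : IsPullback b.hom f'.hom f.hom a.hom) :
    IsOpen {x : AlgSp.Points X.obj | AlgSp.HasAtMor (fun U _ h u => ∃ W : U.Opens, u ∈ W ∧ LocallyOfFiniteType (W.ι ≫ h) ∧ FormallyUnramified (W.ι ≫ h)) f.hom x} ∧
    {x' : AlgSp.Points X'.obj | AlgSp.HasAtMor (fun U _ h u => ∃ W : U.Opens, u ∈ W ∧ LocallyOfFiniteType (W.ι ≫ h) ∧ FormallyUnramified (W.ι ≫ h)) f'.hom x'} =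
      AlgSp.Points.map b.hom ⁻¹' {x : AlgSp.Points X.obj | AlgSp.HasAtMor (fun U _ h u => ∃ W : U.Opens, u ∈ W ∧ LocallyOfFiniteType (W.ι ≫ h) ∧ FormallyUnramified (W.ι ≫ h)) f.hom x} := by
  have hlft : LocP @LocallyOfFiniteType f.hom := by
    apply locP_lft_of_comp Z.property f.hom q.hom
    have e : f.hom ≫ q.hom = p.hom := congrArg (fun t => t.hom) comm
    rw [e]
    exact hp
  refine ⟨isOpen_urLocus f.hom, ?_⟩
  ext x'
  exact urLocus_baseChange X.property Y.property Y'.property sq2 hlft x'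

/-- **S10639**. -/
theorem main10639 {X Y Z : AlgSp.Space S}
    (f : X ⟶ Y) (p : X ⟶ Z) (q : Y ⟶ Z) (hc : f ≫ q = p)
    (hp1 : AlgSp.LocP @LocallyOfFiniteType p.hom) (hp2 : AlgSp.IsClosedMor p.hom) :
    ∃ (W : AlgSp.Space S) (w : W ⟶ Z), AlgSp.RepWith @IsOpenImmersion w.hom ∧
      ∀ (Z' : AlgSp.Space S) (g : Z' ⟶ Z),
        (∃ k : Z' ⟶ W, k ≫ w = g) ↔
          ∀ (Y' : AlgSp.Space S) (gY : Y' ⟶ Y) (q' : Y' ⟶ Z'),
            IsPullback gY.hom q'.hom q.hom g.hom →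
            ∀ (X' : AlgSp.Space S) (gX : X' ⟶ X) (f' : X' ⟶ Y'),
              IsPullback gX.hom f'.hom f.hom gY.hom →
                AlgSp.LocP (@LocallyOfFiniteType ⊓ @FormallyUnramified) f'.hom := by
  have hlft : LocP @LocallyOfFiniteType f.hom := by
    apply locP_lft_of_comp Z.property f.hom q.hom
    have e : f.hom ≫ q.hom = p.hom := congrArg (fun t => t.hom) hc
    rw [e]
    exact hp1
  refine Where.where_engine f p q hc (urLocus f.hom) ∅ (hp2 _ (isOpen_urLocus f.hom).isClosed_compl) ?_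
    (fun X' Y' f' => LocP (@LocallyOfFiniteType ⊓ @FormallyUnramified) f'.hom) ?_
  · rw [Set.image_empty]
    exact isClosed_empty
  · intro Z' g Y' gY q' sqY X' gX f' sqX
    show LocP (@LocallyOfFiniteType ⊓ @FormallyUnramified) f'.hom ↔ _
    rw [locP_unram_iff_forall_mem_urLocus X'.property Y'.property]
    constructor
    · intro H
      refine ⟨fun x' => ?_, fun _ h => h⟩
      exact (urLocus_baseChange X.property Y.property Y'.property sqX hlft x').1 (H x')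
    · rintro ⟨H, -⟩ x'
      exact (urLocus_baseChange X.property Y.property Y'.property sqX hlft x').2 (H x')

end Groth.Agent.Lib.Helper6.UrLocus
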