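import Mathlib
import Groth.Agent.Lib.Helper6.Glue
import Groth.Agent.Lib.Helper6.PConeGlue
import Groth.Agent.Lib.Helper6.ProjMap
import Groth.Agent.Lib.Helper6.FibreChart

/-!
# The Veronese isomorphism `Proj 𝒜 ≅ Proj 𝒜^{(d)}` (helper6)
-/

set_option autoImplicit false
universe u
open CategoryTheory CategoryTheory.Limits AlgebraicGeometry HomogeneousLocalization

namespace Groth.Agent.Lib.Helper6.Veronese

/-- Factor a ring hom through an injective one, given that its range is contained. -/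
lemma exists_ringHom_of_range_subset {S S' T : Type*} [CommRing S] [CommRing S'] [CommRing T]
    (ι : S →+* T) (hι : Function.Injective ι) (v : S' →+* T) (hv : ∀ x, ∃ y, ι y = v x) :
    ∃ θ : S' →+* S, ι.comp θ = v := by
  choose θ hθ using hv
  refine ⟨{ toFun := θ
            map_one' := hι (by rw [hθ, map_one, map_one])
            map_mul' := fun x y => hι (by rw [hθ, map_mul, map_mul, hθ, hθ])
            map_zero' := hι (by rw [hθ, map_zero, map_zero])
            map_add' := fun x y => hι (by rw [hθ, map_add, map_add, hθ, hθ]) }, ?_⟩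
  ext x
  exact hθ x

variable {R A B : Type u} [CommRing R] [CommRing A] [Algebra R A] {𝒜 : ℕ → Submodule R A}
  [GradedAlgebra 𝒜] [CommRing B] [Algebra R B] {ℬ : ℕ → Submodule R B} [GradedAlgebra ℬ]
  {d : ℕ} {φ : B →ₐ[R] A}

lemma locAwayMap_mk (g b : B) (k : ℕ) :
    Localization.awayMap φ.toRingHom g
        (Localization.mk b (⟨g ^ k, ⟨k, rfl⟩⟩ : Submonoid.powers g)) =
      Localization.mk (φ b) (⟨φ g ^ k, ⟨k, rfl⟩⟩ : Submonoid.powers (φ g)) := by
  rw [Localization.mk_eq_mk', Localization.mk_eq_mk']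
  simp only [Localization.awayMap, IsLocalization.Away.map]
  rw [IsLocalization.map_mk']
  congr 1
  exact Subtype.ext (map_pow φ g k)

section
variable (hdeg : ∀ n : ℕ, Submodule.map φ.toLinearMap (ℬ n) = 𝒜 (n * d))
include hdeg

lemma map_mem {n : ℕ} {b : B} (hb : b ∈ ℬ n) : φ b ∈ 𝒜 (n * d) :=
  (hdeg n).le (Submodule.mem_map_of_mem hb)

lemma map_mem_smul {n k : ℕ} {b : B} (hb : b ∈ ℬ (k • n)) : φ b ∈ 𝒜 (k • (n * d)) := by
  have := map_mem hdeg hb
  rwa [smul_eq_mul, mul_assoc] at this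

lemma exists_preimage {n : ℕ} {a : A} (ha : a ∈ 𝒜 (n * d)) : ∃ b ∈ ℬ n, φ b = a := by
  obtain ⟨y, hy, rfl⟩ := Submodule.mem_map.1 ((hdeg n).ge ha)
  exact ⟨y, hy, rfl⟩

lemma awayMap_mk_val {n k : ℕ} {g b : B} (hg : g ∈ ℬ n) (hb : b ∈ ℬ (k • n)) :
    Localization.awayMap φ.toRingHom g (Away.mk ℬ hg k b hb).val =
      (Away.mk 𝒜 (map_mem hdeg hg) k (φ b) (map_mem_smul hdeg hb)).val := by
  rw [Away.val_mk, Away.val_mk]
  exact locAwayMap_mk g b k

lemma exists_theta {n : ℕ} {g : B} (hg : g ∈ ℬ n) :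
    ∃ θ : Away ℬ g →+* Away 𝒜 (φ g),
      (algebraMap (Away 𝒜 (φ g)) (Localization.Away (φ g))).comp θ =
        (Localization.awayMap φ.toRingHom g).comp
          (algebraMap (Away ℬ g) (Localization.Away g)) := by
  refine exists_ringHom_of_range_subset _ (fun a b h => val_injective _ h) _ fun x => ?_
  obtain ⟨k, b, hb, rfl⟩ := Away.mk_surjective ℬ hg x
  exact ⟨Away.mk 𝒜 (map_mem hdeg hg) k (φ b) (map_mem_smul hdeg hb),
    (awayMap_mk_val hdeg hg hb).symm⟩

/-- The ring homomorphism `ℬ_(g) → 𝒜_(φ g)`, `b / g ^ k ↦ φ b / φ g ^ k`. -/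
noncomputable def theta {n : ℕ} {g : B} (hg : g ∈ ℬ n) : Away ℬ g →+* Away 𝒜 (φ g) :=
  Classical.choose (exists_theta hdeg hg)

lemma val_theta {n : ℕ} {g : B} (hg : g ∈ ℬ n) (x : Away ℬ g) :
    (theta hdeg hg x).val = Localization.awayMap φ.toRingHom g x.val :=
  RingHom.congr_fun (Classical.choose_spec (exists_theta hdeg hg)) x

lemma theta_mk {n k : ℕ} {g b : B} (hg : g ∈ ℬ n) (hb : b ∈ ℬ (k • n)) :
    theta hdeg hg (Away.mk ℬ hg k b hb) =
      Away.mk 𝒜 (map_mem hdeg hg) k (φ b) (map_mem_smul hdeg hb) := by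
  ext
  rw [val_theta, awayMap_mk_val hdeg hg hb]

lemma theta_unique {n : ℕ} {g : B} (hg : g ∈ ℬ n) (θ' : Away ℬ g →+* Away 𝒜 (φ g))
    (h : (algebraMap (Away 𝒜 (φ g)) (Localization.Away (φ g))).comp θ' =
        (Localization.awayMap φ.toRingHom g).comp
          (algebraMap (Away ℬ g) (Localization.Away g))) : θ' = theta hdeg hg := by
  ext x : 1
  apply val_injective
  exact (RingHom.congr_fun h x).trans (val_theta hdeg hg x).symm

lemma theta_bijective (hφ : Function.Injective φ) {n : ℕ} {g : B} (hg : g ∈ ℬ n) :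
    Function.Bijective (theta hdeg hg) := by
  constructor
  · intro x y hxy
    apply val_injective
    have hinj : Function.Injective (Localization.awayMap φ.toRingHom g) := by
      rw [Localization.awayMap_injective_iff]
      intro a ha
      refine ⟨0, ?_⟩
      have : a = 0 := hφ (by rw [map_zero]; exact ha)
      rw [this, mul_zero]
    apply hinj
    rw [← val_theta hdeg hg, ← val_theta hdeg hg, hxy]
  · intro y
    obtain ⟨k, a, ha, rfl⟩ := Away.mk_surjective 𝒜 (map_mem hdeg hg) y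
    have ha' : a ∈ 𝒜 ((k • n) * d) := by
      rwa [smul_eq_mul, mul_assoc, ← smul_eq_mul]
    obtain ⟨b, hb, rfl⟩ := exists_preimage hdeg ha'
    exact ⟨Away.mk ℬ hg k b hb, theta_mk hdeg hg hb⟩

lemma theta_elem {n m : ℕ} {g b : B} (hg : g ∈ ℬ n) (hb : b ∈ ℬ m) :
    Away.isLocalizationElem (map_mem hdeg hg) (map_mem hdeg hb) =
      (theta hdeg hg (Away.isLocalizationElem hg hb)) ^ d := by
  rw [theta_mk]
  ext
  rw [val_pow, Away.val_mk, Away.val_mk, Localization.mk_pow]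
  congr 1
  · rw [map_pow, ← pow_mul]
  · exact Subtype.ext (by simp [pow_mul])

lemma theta_natural {n n' : ℕ} {g g' x : B} (hg : g ∈ ℬ n) (hg' : g' ∈ ℬ n') (hx : x = g * g')
    (hxm : x ∈ ℬ (n + n')) (hx' : φ x = φ g * φ g') :
    (awayMap 𝒜 (map_mem hdeg hg') hx').comp (theta hdeg hg) =
      (theta hdeg hxm).comp (awayMap ℬ hg' hx) := by
  subst hx
  ext z : 1
  obtain ⟨k, b, hb, rfl⟩ := Away.mk_surjective ℬ hg z
  simp only [RingHom.comp_apply, theta_mk hdeg, awayMap_mk]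
  ext
  simp [Away.val_mk, map_mul, map_pow]

lemma map_decompose (hd : 0 < d) (b : B) (i : ℕ) :
    φ (DirectSum.decompose ℬ b i) = DirectSum.decompose 𝒜 (φ b) (i * d) := by
  induction b using DirectSum.Decomposition.inductionOn ℬ with
  | zero => simp
  | @homogeneous j m =>
    by_cases hji : j = i
    · subst hji
      rw [DirectSum.decompose_of_mem_same ℬ m.2,
        DirectSum.decompose_of_mem_same 𝒜 (map_mem hdeg m.2)]
    · rw [DirectSum.decompose_of_mem_ne ℬ m.2 hji,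
        DirectSum.decompose_of_mem_ne 𝒜 (map_mem hdeg m.2)
          (fun h => hji (Nat.eq_of_mul_eq_mul_right hd h)), map_zero]
  | add a b ha hb =>
    simp only [DirectSum.decompose_add, DirectSum.add_apply, Submodule.coe_add, map_add, ha, hb]

lemma exists_chart (hd : 0 < d) (p : Proj 𝒜) :
    ∃ (n : ℕ) (g : B) (_ : 0 < n) (_ : g ∈ ℬ n), p ∈ Proj.basicOpen 𝒜 (φ g) := by
  obtain ⟨i, hi, s, hs, hxs⟩ := exists_homogeneous_mem_basicOpen 𝒜 p
  have hsd : s ^ d ∈ 𝒜 (i * d) := by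
    have := SetLike.pow_mem_graded d hs
    rwa [smul_eq_mul, mul_comm] at this
  obtain ⟨b, hb, hbs⟩ := exists_preimage hdeg hsd
  refine ⟨i, b, hi, hb, ?_⟩
  rw [hbs, Proj.basicOpen_pow 𝒜 s d hd]
  exact hxs


/-- The glued morphism `Proj 𝒜 ⟶ Proj ℬ`. -/
theorem exists_hom (hd : 0 < d) :
    ∃ F : Proj 𝒜 ⟶ Proj ℬ, ∀ (n : ℕ) (g : B) (hn : 0 < n) (hg : g ∈ ℬ n),
      Proj.awayι 𝒜 (φ g) (map_mem hdeg hg) (Nat.mul_pos hn hd) ≫ F =
        Spec.map (CommRingCat.ofHom (theta hdeg hg)) ≫ Proj.awayι ℬ g hg hn := by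
  have hcov : ∀ x ∈ (⊤ : (Proj 𝒜).Opens), ∃ i : ChartIdx ℬ,
      x ∈ Set.range (Proj.awayι 𝒜 (φ i.2.1) (map_mem hdeg i.2.2.2)
        (Nat.mul_pos i.2.2.1 hd)).base := by
    intro x _
    obtain ⟨n, g, hn, hg, hx⟩ := exists_chart hdeg hd x
    refine ⟨⟨n, g, hn, hg⟩, ?_⟩
    have : x ∈ (Proj.awayι 𝒜 (φ g) (map_mem hdeg hg) (Nat.mul_pos hn hd)).opensRange := by
      rw [Proj.opensRange_awayι]; exact hx
    exact this
  have hjU : ∀ i : ChartIdx ℬ, Set.range (Proj.awayι 𝒜 (φ i.2.1) (map_mem hdeg i.2.2.2)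
        (Nat.mul_pos i.2.2.1 hd)).base ⊆ Set.range (⊤ : (Proj 𝒜).Opens).ι.base := by
    intro i
    rw [Scheme.Opens.range_ι]
    exact fun _ _ => trivial
  have key := existsUnique_hom_of_charts (X := Proj 𝒜) (Y := Proj ℬ) ⊤
    (J := ChartIdx ℬ)
    (fun i => Spec (.of (Away 𝒜 (φ i.2.1))))
    (fun i => Proj.awayι 𝒜 (φ i.2.1) (map_mem hdeg i.2.2.2) (Nat.mul_pos i.2.2.1 hd))
    hjU hcov
    (fun i => Spec.map (CommRingCat.ofHom (theta hdeg i.2.2.2)) ≫
      Proj.awayι ℬ i.2.1 i.2.2.2 i.2.2.1)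
    (by
      rintro ⟨n, g, hn, hg⟩ ⟨n', g', hn', hg'⟩
      refine ⟨Spec (.of (Away 𝒜 (φ (g * g')))),
        Spec.map (CommRingCat.ofHom (awayMap 𝒜 (map_mem hdeg hg') (map_mul φ g g'))),
        Spec.map (CommRingCat.ofHom (awayMap 𝒜 (map_mem hdeg hg)
          ((map_mul φ g g').trans (mul_comm _ _)))), ?_, ?_⟩
      · exact IsPullback.of_iso_pullback
          ⟨by rw [Proj.SpecMap_awayMap_awayι, Proj.SpecMap_awayMap_awayι]; exact awayι_congr ..⟩
          (Proj.pullbackAwayιIso 𝒜 (map_mem hdeg hg) (Nat.mul_pos hn hd) (map_mem hdeg hg')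
            (Nat.mul_pos hn' hd) (map_mul φ g g')).symm
          (Proj.pullbackAwayιIso_inv_fst 𝒜 (map_mem hdeg hg) (Nat.mul_pos hn hd)
            (map_mem hdeg hg') (Nat.mul_pos hn' hd) (map_mul φ g g'))
          (Proj.pullbackAwayιIso_inv_snd 𝒜 (map_mem hdeg hg) (Nat.mul_pos hn hd)
            (map_mem hdeg hg') (Nat.mul_pos hn' hd) (map_mul φ g g'))
      · dsimp only
        rw [← Spec.map_comp_assoc, ← CommRingCat.ofHom_comp,
          theta_natural hdeg hg hg' rfl (SetLike.mul_mem_graded hg hg') (map_mul φ g g'),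
          CommRingCat.ofHom_comp, Spec.map_comp_assoc, Proj.SpecMap_awayMap_awayι,
          ← Spec.map_comp_assoc, ← CommRingCat.ofHom_comp,
          theta_natural hdeg hg' hg (mul_comm g g')
            (by rw [mul_comm]; exact SetLike.mul_mem_graded hg' hg)
            ((map_mul φ g g').trans (mul_comm _ _)),
          CommRingCat.ofHom_comp, Spec.map_comp_assoc, Proj.SpecMap_awayMap_awayι]
        congr 1)
  obtain ⟨π, hπ, -⟩ := key
  refine ⟨(Scheme.topIso (Proj 𝒜)).inv ≫ π, fun n g hn hg => ?_⟩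
  have h1 : Proj.awayι 𝒜 (φ g) (map_mem hdeg hg) (Nat.mul_pos hn hd) ≫
      (Scheme.topIso (Proj 𝒜)).inv =
      IsOpenImmersion.lift (⊤ : (Proj 𝒜).Opens).ι
        (Proj.awayι 𝒜 (φ g) (map_mem hdeg hg) (Nat.mul_pos hn hd)) (hjU ⟨n, g, hn, hg⟩) := by
    rw [← cancel_mono (⊤ : (Proj 𝒜).Opens).ι, IsOpenImmersion.lift_fac, Category.assoc,
      ← Scheme.topIso_hom, Iso.inv_hom_id, Category.comp_id]
  rw [← Category.assoc, h1]
  exact hπ ⟨n, g, hn, hg⟩


section
variable (hd : 0 < d) (F : Proj 𝒜 ⟶ Proj ℬ)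
  (hF : ∀ (n : ℕ) (g : B) (hn : 0 < n) (hg : g ∈ ℬ n),
      Proj.awayι 𝒜 (φ g) (map_mem hdeg hg) (Nat.mul_pos hn hd) ≫ F =
        Spec.map (CommRingCat.ofHom (theta hdeg hg)) ≫ Proj.awayι ℬ g hg hn)
include hF

lemma mem_basicOpen_iff {n : ℕ} {g : B} (hn : 0 < n) (hg : g ∈ ℬ n) {m : ℕ} {b : B}
    (hm : 0 < m) (hb : b ∈ ℬ m) {p : Proj 𝒜} (hp : p ∈ Proj.basicOpen 𝒜 (φ g)) :
    F.base p ∈ Proj.basicOpen ℬ b ↔ p ∈ Proj.basicOpen 𝒜 (φ b) := by
  have hp' : p ∈ (Proj.awayι 𝒜 (φ g) (map_mem hdeg hg) (Nat.mul_pos hn hd)).opensRange := by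
    rw [Proj.opensRange_awayι]; exact hp
  obtain ⟨q, rfl⟩ := hp'
  have h1 : F.base ((Proj.awayι 𝒜 (φ g) (map_mem hdeg hg) (Nat.mul_pos hn hd)).base q) =
      (Proj.awayι ℬ g hg hn).base
        ((Spec.map (CommRingCat.ofHom (theta hdeg hg))).base q) := by
    rw [← Scheme.Hom.comp_apply, ← Scheme.Hom.comp_apply, hF]
  rw [h1]
  have h2 : ∀ y, (Proj.awayι ℬ g hg hn).base y ∈ Proj.basicOpen ℬ b ↔
      y ∈ PrimeSpectrum.basicOpen (Away.isLocalizationElem hg hb) := by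
    intro y
    rw [← Proj.awayι_preimage_basicOpen ℬ hg hn hb hm]
    exact Iff.rfl
  have h3 : ∀ y, (Proj.awayι 𝒜 (φ g) (map_mem hdeg hg) (Nat.mul_pos hn hd)).base y ∈
      Proj.basicOpen 𝒜 (φ b) ↔ y ∈ PrimeSpectrum.basicOpen
        (Away.isLocalizationElem (map_mem hdeg hg) (map_mem hdeg hb)) := by
    intro y
    rw [← Proj.awayι_preimage_basicOpen 𝒜 (map_mem hdeg hg) (Nat.mul_pos hn hd)
      (map_mem hdeg hb) (Nat.mul_pos hm hd)]
    exact Iff.rfl
  rw [h2, h3, theta_elem hdeg hg hb, PrimeSpectrum.basicOpen_pow _ _ hd]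
  exact Iff.rfl

lemma mem_iff_of_homogeneous (p : Proj 𝒜) {i : ℕ} {c : B} (hc : c ∈ ℬ i) :
    c ∈ (F.base p).asHomogeneousIdeal.toIdeal ↔ φ c ∈ p.asHomogeneousIdeal.toIdeal := by
  obtain ⟨n, g, hn, hg, hgp⟩ := exists_chart hdeg hd p
  have hgF : F.base p ∈ Proj.basicOpen ℬ g :=
    (mem_basicOpen_iff hdeg hd F hF hn hg hn hg hgp).2 hgp
  have hcg := mem_basicOpen_iff hdeg hd F hF hn hg (Nat.add_pos_right i hn)
    (SetLike.mul_mem_graded hc hg) hgp
  rw [Proj.mem_basicOpen] at hgp hgF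
  rw [Proj.mem_basicOpen, Proj.mem_basicOpen, not_iff_not, map_mul] at hcg
  have e1 : c * g ∈ (F.base p).asHomogeneousIdeal.toIdeal ↔
      c ∈ (F.base p).asHomogeneousIdeal.toIdeal :=
    ((F.base p).isPrime.mul_mem_iff_mem_or_mem).trans (or_iff_left hgF)
  have e2 : φ c * φ g ∈ p.asHomogeneousIdeal.toIdeal ↔ φ c ∈ p.asHomogeneousIdeal.toIdeal :=
    (p.isPrime.mul_mem_iff_mem_or_mem).trans (or_iff_left hgp)
  exact e1.symm.trans (hcg.trans e2)

lemma toIdeal_eq_comap (p : Proj 𝒜) :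
    (F.base p).asHomogeneousIdeal.toIdeal = Ideal.comap φ p.asHomogeneousIdeal.toIdeal := by
  classical
  ext b
  rw [Ideal.mem_comap]
  constructor
  · intro hb
    rw [← DirectSum.sum_support_decompose ℬ b, map_sum]
    refine Ideal.sum_mem _ fun i _ => ?_
    exact (mem_iff_of_homogeneous hdeg hd F hF p (SetLike.coe_mem _)).1
      ((F.base p).asHomogeneousIdeal.isHomogeneous i hb)
  · intro hb
    rw [← DirectSum.sum_support_decompose ℬ b]
    refine Ideal.sum_mem _ fun i _ => ?_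
    refine (mem_iff_of_homogeneous hdeg hd F hF p (SetLike.coe_mem _)).2 ?_
    rw [map_decompose hdeg hd]
    exact p.asHomogeneousIdeal.isHomogeneous (i * d) hb

theorem isIso_of_charts (hφ : Function.Injective φ) : IsIso F := by
  refine FibreChart.of_forall_exists_isPullback (MorphismProperty.isomorphisms Scheme.{u}) F
    fun y => ?_
  obtain ⟨n, hn, g, hg, hy⟩ := exists_homogeneous_mem_basicOpen ℬ y
  refine ⟨_, _, Proj.awayι ℬ g hg hn, inferInstance,
    Proj.awayι 𝒜 (φ g) (map_mem hdeg hg) (Nat.mul_pos hn hd),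
    Spec.map (CommRingCat.ofHom (theta hdeg hg)), ?_, ?_, ?_⟩
  · rw [Proj.opensRange_awayι]; exact hy
  · refine (IsOpenImmersion.isPullback _ _ _ _ (hF n g hn hg) ?_).flip
    rw [Proj.opensRange_awayι, Proj.opensRange_awayι]
    ext p
    show F.base p ∈ Proj.basicOpen ℬ g ↔ p ∈ Proj.basicOpen 𝒜 (φ g)
    rw [Proj.mem_basicOpen, Proj.mem_basicOpen, not_iff_not]
    exact mem_iff_of_homogeneous hdeg hd F hF p hg
  · have hiso : IsIso (CommRingCat.ofHom (theta hdeg hg)) := by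
      have : CommRingCat.ofHom (theta hdeg hg) =
          (RingEquiv.ofBijective _ (theta_bijective hdeg hφ hg)).toCommRingCatIso.hom := by
        ext x; rfl
      rw [this]; infer_instance
    show IsIso (Spec.map _)
    infer_instance

end

end

end Groth.Agent.Lib.Helper6.Veronese
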