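import Mathlib

/-!
# Weighted Gaussian maps on projective space: monomial computations (helper6)
-/

set_option autoImplicit false

namespace Groth.Agent.Lib.Helper6.WGauss

open MvPolynomial Finsupp

universe u

variable {k : Type u} [Field k] {n : ℕ}

/-- the weighted Gauss tuple of `σ, τ`. -/
noncomputable def W (a b : ℕ) (σ τ : MvPolynomial (Fin (n + 1)) k) :
    Fin (n + 1) → MvPolynomial (Fin (n + 1)) k :=
  fun i => (b : k) • (τ * pderiv i σ) - (a : k) • (σ * pderiv i τ)

lemma monomial_aux (α β : Fin (n + 1) →₀ ℕ) (l : Fin (n + 1)) (c : k) :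
    monomial (β + (α - single l 1)) (c * (α l : k)) =
      monomial (α + β - single l 1) (c * (α l : k)) := by
  by_cases h : α l = 0
  · rw [h, Nat.cast_zero, mul_zero, map_zero, map_zero]
  · have h1 : β + (α - single l 1) = α + β - single l 1 := by
      ext m
      simp only [Finsupp.coe_add, Finsupp.coe_tsub, Pi.add_apply, Pi.sub_apply, single_apply]
      split_ifs with hm
      · subst hm
        omega
      · omega
    rw [h1]

lemma W_monomial (a b : ℕ) (α β : Fin (n + 1) →₀ ℕ) (l : Fin (n + 1)) :
    W a b (monomial α (1 : k)) (monomial β 1) l =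
      monomial (α + β - single l 1) ((b : k) * α l - (a : k) * β l) := by
  unfold W
  rw [pderiv_monomial, pderiv_monomial, monomial_mul, monomial_mul, smul_monomial, smul_monomial]
  simp only [one_mul, smul_eq_mul]
  rw [monomial_aux α β l, monomial_aux β α l, add_comm β α, ← map_sub]

/-- the Koszul-type generator. -/
noncomputable def Dt (γ : Fin (n + 1) →₀ ℕ) (i j : Fin (n + 1)) :
    Fin (n + 1) → MvPolynomial (Fin (n + 1)) k :=
  fun l => monomial (γ - single l 1) ((if i = l then (1 : k) else 0) - (if j = l then 1 else 0))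

/-- the generating set of the statement. -/
def Sset (k : Type u) [Field k] (n a b e : ℕ) : Set (Fin (n + 1) → MvPolynomial (Fin (n + 1)) k) :=
  {g | ∃ σ τ : MvPolynomial (Fin (n + 1)) k, σ.IsHomogeneous (a * e) ∧ τ.IsHomogeneous (b * e) ∧
    g = fun i => (b : k) • (τ * pderiv i σ) - (a : k) • (σ * pderiv i τ)}

lemma W_mem (a b e : ℕ) (α β : Fin (n + 1) →₀ ℕ) (hα : α.degree = a * e) (hβ : β.degree = b * e) :
    W a b (monomial α (1 : k)) (monomial β 1) ∈ Submodule.span k (Sset k n a b e) :=
  Submodule.subset_span ⟨monomial α 1, monomial β 1, isHomogeneous_monomial _ hα,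
    isHomogeneous_monomial _ hβ, rfl⟩

lemma Dt_mem [CharZero k] (a b e : ℕ) (ha : 0 < a) (α ρ : Fin (n + 1) →₀ ℕ)
    (hα : α.degree + 1 = a * e) (hρ : ρ.degree + 1 = b * e) (i j : Fin (n + 1)) :
    Dt (k := k) (α + ρ + single i 1 + single j 1) i j ∈ Submodule.span k (Sset k n a b e) := by
  set γ := α + ρ + single i 1 + single j 1 with hγ
  have e1 : α + single i 1 + (ρ + single j 1) = γ := by
    rw [hγ]; abel
  have e2 : α + single j 1 + (ρ + single i 1) = γ := by
    rw [hγ]; abel
  have key : ((a : k) + (b : k)) • Dt (k := k) γ i j =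
      W a b (monomial (α + single i 1) (1 : k)) (monomial (ρ + single j 1) 1) -
        W a b (monomial (α + single j 1) (1 : k)) (monomial (ρ + single i 1) 1) := by
    funext l
    rw [Pi.smul_apply, Pi.sub_apply, W_monomial, W_monomial, e1, e2, ← map_sub]
    unfold Dt
    rw [smul_monomial]
    congr 1
    simp only [Finsupp.coe_add, Pi.add_apply, single_apply, smul_eq_mul]
    split_ifs <;> push_cast <;> ring
  have hab : ((a : k) + (b : k)) ≠ 0 := by
    have h1 : ((a + b : ℕ) : k) ≠ 0 := Nat.cast_ne_zero.mpr (by omega)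
    rwa [Nat.cast_add] at h1
  have h2 : Dt (k := k) γ i j = ((a : k) + (b : k))⁻¹ • (((a : k) + (b : k)) • Dt (k := k) γ i j) := by
    rw [smul_smul, inv_mul_cancel₀ hab, one_smul]
  rw [h2, key]
  refine Submodule.smul_mem _ _ (Submodule.sub_mem _ ?_ ?_)
  · apply W_mem
    · rw [map_add, degree_single]; exact hα
    · rw [map_add, degree_single]; exact hρ
  · apply W_mem
    · rw [map_add, degree_single]; exact hα
    · rw [map_add, degree_single]; exact hρ

/-- splitting a multi-index. -/
lemma exists_split {ι : Type*} [DecidableEq ι] : ∀ (p q : ℕ) (δ : ι →₀ ℕ), δ.degree = p + q →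
    ∃ α ρ : ι →₀ ℕ, α + ρ = δ ∧ α.degree = p ∧ ρ.degree = q := by
  intro p
  induction p with
  | zero =>
    intro q δ h
    exact ⟨0, δ, zero_add _, map_zero _, by rw [h, zero_add]⟩
  | succ p ih =>
    intro q δ h
    have hne : δ ≠ 0 := by
      rintro rfl
      rw [map_zero] at h
      omega
    obtain ⟨l, hl⟩ : ∃ l, δ l ≠ 0 := by
      by_contra hcon
      push Not at hcon
      exact hne (Finsupp.ext hcon)
    have hle : single l 1 ≤ δ := by
      rw [Finsupp.single_le_iff]
      omega
    have hδ : δ - single l 1 + single l 1 = δ := tsub_add_cancel_of_le hle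
    have hdeg : (δ - single l 1).degree = p + q := by
      have h1 := congrArg Finsupp.degree hδ
      rw [map_add, degree_single, h] at h1
      omega
    obtain ⟨α, ρ, h1, h2, h3⟩ := ih q _ hdeg
    refine ⟨α + single l 1, ρ, ?_, ?_, h3⟩
    · rw [add_right_comm, h1, hδ]
    · rw [map_add, degree_single, h2]

end Groth.Agent.Lib.Helper6.WGauss
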