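import Mathlib
import Groth.Agent.Lib.Helper6.WGaussA

/-!
# Weighted Gaussian maps on projective space: the Koszul peeling argument (helper6)
-/

set_option autoImplicit false

namespace Groth.Agent.Lib.Helper6.WGauss

open MvPolynomial Finsupp

universe u

variable {k : Type u} [Field k] {n : ℕ}

/-- the Koszul generating set. -/
def Kset (k : Type u) [Field k] (n N : ℕ) : Set (Fin (n + 1) → MvPolynomial (Fin (n + 1)) k) :=
  {g | ∃ (γ : Fin (n + 1) →₀ ℕ) (i j : Fin (n + 1)), γ.degree = N ∧ i ≠ j ∧ γ i ≠ 0 ∧ γ j ≠ 0 ∧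
    g = Dt γ i j}

lemma degree_sub_single {γ : Fin (n + 1) →₀ ℕ} {l : Fin (n + 1)} (hl : γ l ≠ 0) :
    γ - single l 1 + single l 1 = γ := by
  apply tsub_add_cancel_of_le
  rw [Finsupp.single_le_iff]
  omega

lemma degree_sub_single' {γ : Fin (n + 1) →₀ ℕ} {l : Fin (n + 1)} {N : ℕ} (hγ : γ.degree = N)
    (hl : γ l ≠ 0) : (γ - single l 1).degree = N - 1 := by
  have h1 := congrArg Finsupp.degree (degree_sub_single hl)
  rw [map_add, degree_single, hγ] at h1
  omega

lemma Dt_homog {γ : Fin (n + 1) →₀ ℕ} {i j : Fin (n + 1)} {N : ℕ} (hγ : γ.degree = N)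
    (hi : γ i ≠ 0) (hj : γ j ≠ 0) (l : Fin (n + 1)) :
    (Dt (k := k) γ i j l).IsHomogeneous (N - 1) := by
  unfold Dt
  by_cases h1 : i = l
  · subst h1
    exact isHomogeneous_monomial _ (degree_sub_single' hγ hi)
  · by_cases h2 : j = l
    · subst h2
      exact isHomogeneous_monomial _ (degree_sub_single' hγ hj)
    · rw [if_neg h1, if_neg h2, sub_zero, map_zero]
      exact isHomogeneous_zero _ _ _

lemma X_mul_Dt {γ : Fin (n + 1) →₀ ℕ} {i j : Fin (n + 1)} (hi : γ i ≠ 0) (hj : γ j ≠ 0)
    (l : Fin (n + 1)) :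
    X l * Dt (k := k) γ i j l =
      monomial γ ((if i = l then (1 : k) else 0) - (if j = l then 1 else 0)) := by
  unfold Dt
  rw [X, monomial_mul, one_mul]
  by_cases h1 : i = l
  · subst h1
    rw [add_comm (single i 1) _, degree_sub_single hi]
  · by_cases h2 : j = l
    · subst h2
      rw [add_comm (single j 1) _, degree_sub_single hj]
    · rw [if_neg h1, if_neg h2, sub_zero, map_zero, map_zero]

lemma Dt_euler {γ : Fin (n + 1) →₀ ℕ} {i j : Fin (n + 1)} (hi : γ i ≠ 0) (hj : γ j ≠ 0) :
    ∑ l, X l * Dt (k := k) γ i j l = 0 := by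
  simp_rw [X_mul_Dt hi hj]
  rw [← map_sum, Finset.sum_sub_distrib, Finset.sum_ite_eq, Finset.sum_ite_eq]
  simp

theorem mem_span_Kset (N : ℕ) (hN : 0 < N) :
    ∀ (s : ℕ) (f : Fin (n + 1) → MvPolynomial (Fin (n + 1)) k),
      (∑ l, (f l).support.card) ≤ s → (∀ l, (f l).IsHomogeneous (N - 1)) →
      (∑ l, X l * f l = 0) → f ∈ Submodule.span k (Kset k n N) := by
  classical
  intro s
  induction s with
  | zero =>
    intro f hs _ _
    have h0 : f = 0 := by
      funext l
      have h1 : (f l).support.card = 0 := by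
        have h2 := Finset.single_le_sum (f := fun l => (f l).support.card)
          (fun _ _ => Nat.zero_le _) (Finset.mem_univ l)
        omega
      rw [Finset.card_eq_zero, MvPolynomial.support_eq_empty] at h1
      exact h1
    rw [h0]
    exact zero_mem _
  | succ s ih =>
    intro f hs hhom heul
    by_cases hf0 : f = 0
    · rw [hf0]
      exact zero_mem _
    obtain ⟨i, hi⟩ : ∃ i, f i ≠ 0 := by
      by_contra h
      push Not at h
      exact hf0 (funext h)
    obtain ⟨μ, hμ⟩ := MvPolynomial.ne_zero_iff.mp hi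
    set c := coeff μ (f i) with hc
    set γ := μ + single i 1 with hγ
    have hμdeg : μ.degree = N - 1 := by
      by_contra hne
      exact hμ ((hhom i).coeff_eq_zero hne)
    have hγdeg : γ.degree = N := by
      rw [hγ, map_add, degree_single, hμdeg]
      omega
    have hγi : γ i ≠ 0 := by
      rw [hγ, Finsupp.add_apply, single_eq_same]
      omega
    have hγμ : γ - single i 1 = μ := by
      rw [hγ, add_tsub_cancel_right]
    -- the Euler relation at `γ`
    have hE := congrArg (coeff γ) heul
    rw [coeff_sum, coeff_zero] at hE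
    simp_rw [coeff_X_mul'] at hE
    obtain ⟨j, hji, hj⟩ : ∃ j, j ≠ i ∧
        (if j ∈ γ.support then coeff (γ - single j 1) (f j) else 0) ≠ 0 := by
      by_contra hcon
      push Not at hcon
      rw [Finset.sum_eq_single i (fun l _ hl => hcon l hl) (by simp)] at hE
      rw [if_pos (Finsupp.mem_support_iff.mpr hγi), hγμ] at hE
      exact hμ hE
    have hγj : γ j ≠ 0 := by
      by_contra h0
      apply hj
      rw [if_neg]
      rw [Finsupp.mem_support_iff]
      exact fun h => h h0
    have hcj : coeff (γ - single j 1) (f j) ≠ 0 := by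
      rw [if_pos (Finsupp.mem_support_iff.mpr hγj)] at hj
      exact hj
    have hD : Dt (k := k) γ i j ∈ Kset k n N := ⟨γ, i, j, hγdeg, hji.symm, hγi, hγj, rfl⟩
    have hf'eq : f = (f - c • Dt (k := k) γ i j) + c • Dt (k := k) γ i j := by
      rw [sub_add_cancel]
    have hsupp : ∀ l ν, coeff ν ((f - c • Dt (k := k) γ i j) l) ≠ 0 → coeff ν (f l) ≠ 0 := by
      intro l ν h h0
      apply h
      rw [Pi.sub_apply, Pi.smul_apply, coeff_sub, coeff_smul, h0, zero_sub, neg_eq_zero,
        smul_eq_mul]
      unfold Dt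
      rw [coeff_monomial]
      by_cases hν : γ - single l 1 = ν
      · rw [if_pos hν]
        by_cases h1 : i = l
        · exfalso
          subst h1
          rw [hγμ] at hν
          rw [← hν] at h0
          exact hμ h0
        · by_cases h2 : j = l
          · exfalso
            subst h2
            rw [← hν] at h0
            exact hcj h0
          · rw [if_neg h1, if_neg h2, sub_zero, mul_zero]
      · rw [if_neg hν, mul_zero]
    have hsub : ∀ l, ((f - c • Dt (k := k) γ i j) l).support ⊆ (f l).support := by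
      intro l ν hν
      rw [MvPolynomial.mem_support_iff] at hν ⊢
      exact hsupp l ν hν
    have hμnot : μ ∉ ((f - c • Dt (k := k) γ i j) i).support := by
      rw [MvPolynomial.mem_support_iff, not_not, Pi.sub_apply, Pi.smul_apply, coeff_sub,
        coeff_smul]
      unfold Dt
      rw [coeff_monomial, if_pos hγμ, if_pos rfl, if_neg hji, sub_zero, smul_eq_mul, mul_one,
        sub_self]
    have hcard : ∑ l, ((f - c • Dt (k := k) γ i j) l).support.card < ∑ l, (f l).support.card := by
      apply Finset.sum_lt_sum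
      · intro l _
        exact Finset.card_le_card (hsub l)
      · refine ⟨i, Finset.mem_univ _, Finset.card_lt_card ?_⟩
        refine ⟨hsub i, fun h => hμnot (h (MvPolynomial.mem_support_iff.mpr hμ))⟩
    have hf' : (f - c • Dt (k := k) γ i j) ∈ Submodule.span k (Kset k n N) := by
      apply ih
      · omega
      · intro l
        rw [Pi.sub_apply, Pi.smul_apply]
        have h1 : f l ∈ homogeneousSubmodule (Fin (n + 1)) k (N - 1) := hhom l
        have h2 : Dt (k := k) γ i j l ∈ homogeneousSubmodule (Fin (n + 1)) k (N - 1) :=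
          Dt_homog hγdeg hγi hγj l
        exact Submodule.sub_mem _ h1 (Submodule.smul_mem _ c h2)
      · simp_rw [Pi.sub_apply, Pi.smul_apply, mul_sub, mul_smul_comm]
        rw [Finset.sum_sub_distrib, heul, ← Finset.smul_sum, Dt_euler hγi hγj, smul_zero,
          sub_zero]
    rw [hf'eq]
    exact add_mem hf' (Submodule.smul_mem _ _ (Submodule.subset_span hD))

end Groth.Agent.Lib.Helper6.WGauss
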