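import Mathlib
import Groth.Agent.Lib.Helper6.WGaussB

/-!
# Weighted Gaussian maps on projective space are surjective (helper6)
-/

set_option autoImplicit false

namespace Groth.Agent.Lib.Helper6.WGauss

open MvPolynomial Finsupp

universe u

theorem main (k : Type u) [Field k] [CharZero k] (n e a b : ℕ) (he : 0 < e) (ha : 0 < a)
    (hab : a < b) (f : Fin (n + 1) → MvPolynomial (Fin (n + 1)) k)
    (hf : ∀ i, (f i).IsHomogeneous ((a + b) * e - 1))
    (hEuler : ∑ i, X i * f i = 0) :
    f ∈ Submodule.span k (Sset k n a b e) := by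
  classical
  have hae : 0 < a * e := Nat.mul_pos ha he
  have hbe : 0 < b * e := Nat.mul_pos (by omega) he
  have hN : (a + b) * e = a * e + b * e := by ring
  have h1 := mem_span_Kset (k := k) (n := n) ((a + b) * e) (by omega) _ f le_rfl hf hEuler
  refine Submodule.span_le.mpr ?_ h1
  rintro _ ⟨γ, i, j, hγ, hij, hi, hj, rfl⟩
  have hj' : (γ - single i 1 : Fin (n + 1) →₀ ℕ) j ≠ 0 := by
    rw [Finsupp.tsub_apply, single_apply, if_neg hij]
    exact hj
  have e1 : γ - single i 1 - single j 1 + single j 1 + single i 1 = γ := by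
    rw [degree_sub_single hj', degree_sub_single hi]
  have hdeg : (γ - single i 1 - single j 1).degree = (a * e - 1) + (b * e - 1) := by
    have h2 := congrArg Finsupp.degree e1
    rw [map_add, map_add, degree_single, degree_single, hγ] at h2
    omega
  obtain ⟨α, ρ, h3, h4, h5⟩ := exists_split _ _ _ hdeg
  have h6 := Dt_mem (k := k) (n := n) a b e ha α ρ (by omega) (by omega) i j
  have e2 : α + ρ + single i 1 + single j 1 = γ := by
    rw [h3, add_right_comm]
    exact e1
  rw [e2] at h6
  exact h6

end Groth.Agent.Lib.Helper6.WGauss
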