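import Mathlib
import Groth.Agent.Lib.Helper6.WeilA
import Groth.Agent.Lib.Helper6.WeilB
import Groth.Agent.Lib.Helper6.WeilC

/-!
# Modules over the minimal central order
-/

set_option autoImplicit false

noncomputable section

namespace Groth.Agent.Lib.Helper6.WeilD

open MvPolynomial Groth.Agent.Lib.Helper6.PermReg Groth.Agent.Lib.Helper6.GrassA
  Groth.Agent.Lib.Helper6.WeilA Groth.Agent.Lib.Helper6.WeilB Groth.Agent.Lib.Helper6.WeilC

/-- a ring map from `ℤ[F, V]` to a (noncommutative) ring with prescribed commuting images -/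
theorem exists_Theta {E : Type*} [Ring E] (a b : E) (hc : Commute a b) :
    ∃ Θ : P2 →+* E, Θ (X 0) = a ∧ Θ (X 1) = b := by
  have hc0 : ∀ n : ℤ, Commute ((Int.castRingHom E) n) a := fun n => Int.cast_commute n a
  obtain ⟨f1, hf1⟩ : ∃ f1 : Polynomial ℤ →+* E,
      ∀ G, f1 G = Polynomial.eval₂ (Int.castRingHom E) a G :=
    ⟨Polynomial.eval₂RingHom' (Int.castRingHom E) a hc0, fun G => rfl⟩
  have hc1 : ∀ G : Polynomial ℤ, Commute (f1 G) b := by
    intro G
    refine Polynomial.induction_on' G ?_ ?_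
    · intro p q hp hq
      rw [map_add]
      exact hp.add_left hq
    · intro n r
      rw [hf1, Polynomial.eval₂_monomial]
      exact (Int.cast_commute r b).mul_left (hc.pow_left n)
  obtain ⟨f2, hf2⟩ : ∃ f2 : Polynomial (Polynomial ℤ) →+* E,
      ∀ G, f2 G = Polynomial.eval₂ f1 b G :=
    ⟨Polynomial.eval₂RingHom' f1 b hc1, fun G => rfl⟩
  refine ⟨f2.comp (theta (Polynomial.C Polynomial.X) Polynomial.X), ?_, ?_⟩
  · rw [RingHom.comp_apply, theta_X0, hf2, Polynomial.eval₂_C, hf1, Polynomial.eval₂_X]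
  · rw [RingHom.comp_apply, theta_X1, hf2, Polynomial.eval₂_X]

theorem tf {T : Type*} [AddCommGroup T] [Module.Finite ℤ T] [Module.Free ℤ T] (n : ℤ) (t : T)
    (hn : n ≠ 0) (h : n • t = 0) : t = 0 := by
  rcases smul_eq_zero.1 h with h | h
  · exact absurd h hn
  · exact h

theorem fwd {R : Type*} [Ring R] {T : Type*} [AddCommGroup T] [Module R T] (φr : P2 →+* R)
    (q : ℤ) (hr0 : φr (r0 q) = 0) (P : Polynomial ℤ)
    (hP : φr (Polynomial.aeval (X 0 : P2) P) = 0) (FT : T →ₗ[ℤ] T)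
    (hF : ∀ t, φr (X 0) • t = FT t) :
    Polynomial.aeval FT P = 0 ∧ ∃ VT : T →ₗ[ℤ] T, FT ∘ₗ VT = q • LinearMap.id := by
  obtain ⟨ρ, hρ⟩ : ∃ ρ : R →+* Module.End ℤ T, ∀ r t, ρ r t = r • t :=
    ⟨(addMonoidEndRingEquivInt T).toRingHom.comp (Module.toAddMonoidEnd R T), fun r t => rfl⟩
  have hρ0 : ρ (φr (X 0)) = FT := LinearMap.ext (fun t => (hρ _ t).trans (hF t))
  constructor
  · have h1 := hom_aeval0 (ρ.comp φr) P
    rw [RingHom.comp_apply, hP, map_zero, RingHom.comp_apply, hρ0] at h1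
    rw [← eval2_eq_aeval]
    exact h1.symm
  · refine ⟨ρ (φr (X 1)), ?_⟩
    apply LinearMap.ext
    intro t
    rw [LinearMap.comp_apply, LinearMap.smul_apply, LinearMap.id_apply, ← hF, hρ, ← mul_smul,
      ← map_mul]
    have e : (X 0 * X 1 : P2) = r0 q + C q := by
      unfold r0
      ring
    have e2 : (C q : P2) = ((q:ℤ) : P2) := eq_intCast C q
    rw [e, map_add, hr0, zero_add, e2, map_intCast, Int.cast_smul_eq_zsmul]

theorem bwd {T : Type*} [AddCommGroup T] [Module.Finite ℤ T] [Module.Free ℤ T] (q : ℤ)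
    (hq : q ≠ 0) (P : Polynomial ℤ) (ha0 : P.coeff 0 ≠ 0) (FT VT : T →ₗ[ℤ] T)
    (hP : Polynomial.aeval FT P = 0) (hFV : FT ∘ₗ VT = q • LinearMap.id) :
    ∃ Θ : P2 →+* Module.End ℤ T, Θ (X 0) = FT ∧ Θ (r0 q) = 0 ∧
      (∀ (A : Module.End ℤ T) (N : ℕ), A * FT ^ N = 0 → A = 0) := by
  have hFVt : ∀ t, FT (VT t) = q • t := by
    intro t
    have h1 := LinearMap.congr_fun hFV t
    rw [LinearMap.comp_apply, LinearMap.smul_apply, LinearMap.id_apply] at h1
    exact h1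
  have hinjF : ∀ t, FT t = 0 → t = 0 := by
    intro t ht
    have h1 : Polynomial.aeval FT (P.divX * Polynomial.X + Polynomial.C (P.coeff 0)) = 0 := by
      rw [Polynomial.divX_mul_X_add]
      exact hP
    rw [map_add, map_mul, Polynomial.aeval_X, Polynomial.aeval_C] at h1
    have h2 := LinearMap.congr_fun h1 t
    rw [LinearMap.add_apply, Module.End.mul_apply, ht, map_zero, zero_add,
      Module.algebraMap_end_apply, LinearMap.zero_apply] at h2
    exact tf _ t ha0 h2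
  have hVFt : ∀ t, VT (FT t) = q • t := by
    intro t
    have h1 : FT (VT (FT t) - q • t) = 0 := by
      rw [map_sub, hFVt, LinearMap.map_smul, sub_self]
    exact sub_eq_zero.1 (hinjF _ h1)
  have hcomm : Commute FT VT := by
    show FT * VT = VT * FT
    apply LinearMap.ext
    intro t
    rw [Module.End.mul_apply, Module.End.mul_apply, hFVt, hVFt]
  obtain ⟨Θ, hΘ0, hΘ1⟩ := exists_Theta (E := Module.End ℤ T) FT VT hcomm
  refine ⟨Θ, hΘ0, ?_, ?_⟩
  · unfold r0
    have e2 : (C q : P2) = ((q:ℤ) : P2) := eq_intCast C q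
    rw [map_sub, map_mul, hΘ0, hΘ1, e2, map_intCast, sub_eq_zero]
    apply LinearMap.ext
    intro t
    rw [Module.End.mul_apply, hFVt, Module.End.intCast_apply]
  · intro A N hA
    have hpow : ∀ (N : ℕ) (t : T), (FT ^ N) ((VT ^ N) t) = q ^ N • t := by
      intro N
      induction N with
      | zero =>
        intro t
        rw [pow_zero, pow_zero, pow_zero, Module.End.one_apply, Module.End.one_apply, one_smul]
      | succ N ih =>
        intro t
        rw [pow_succ FT, pow_succ' VT, Module.End.mul_apply, Module.End.mul_apply, hFVt,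
          LinearMap.map_smul, ih, smul_smul, pow_succ']
    apply LinearMap.ext
    intro t
    have h1 := LinearMap.congr_fun hA ((VT ^ N) t)
    rw [Module.End.mul_apply, hpow, LinearMap.map_smul, LinearMap.zero_apply] at h1
    rw [LinearMap.zero_apply]
    exact tf _ _ (pow_ne_zero N hq) h1

universe u

theorem hcomp_of {ι : Type} {K : ι → Type u} [∀ i, CommRing (K i)]
    [Algebra ℤ ((i : ι) → K i)] (φ : P2 →ₐ[ℤ] ((i : ι) → K i)) (a b : ∀ i, K i)
    (hX0 : φ (X 0) = a) (hX1 : φ (X 1) = b) (g : P2) (i : ι) :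
    φ g i = theta (a i) (b i) g := by
  have h1 := comp_eq (K := K) φ.toRingHom i g
  have e0 : φ.toRingHom (X 0) i = a i := congrFun hX0 i
  have e1 : φ.toRingHom (X 1) i = b i := congrFun hX1 i
  rw [e0, e1] at h1
  exact h1

theorem main003' (p e : ℕ) [Fact p.Prime] (he : 0 < e)
    (ι : Type) [Fintype ι] (K : ι → Type u) [∀ i, Field (K i)] [∀ i, CharZero (K i)] (π : ∀ i, K i)
    (hint : ∀ i, IsIntegral ℤ (π i))
    (hweil : ∀ i, ∀ z ∈ (minpoly ℤ (π i)).aroots ℂ, ‖z‖ = Real.sqrt ((p : ℝ) ^ e))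
    (hinj : ∀ i j, minpoly ℤ (π i) = minpoly ℤ (π j) → i = j)
    (D : ℕ) (hD : ∑ i, (minpoly ℤ (π i)).natDegree = 2 * D)
    (φ : MvPolynomial (Fin 2) ℤ →ₐ[ℤ] ((i : ι) → K i))
    (hX0 : φ (X 0) = fun i => π i) (hX1 : φ (X 1) = fun i => ((p : K i) ^ e) / π i)
    (T : Type) [AddCommGroup T] [Module.Finite ℤ T] [Module.Free ℤ T] (FT : T →ₗ[ℤ] T) :
    (∃ _ : Module φ.range T,
        ∀ t : T, (⟨φ (X 0), AlgHom.mem_range_self _ _⟩ : φ.range) • t = FT t) ↔
      (Polynomial.aeval FT (∏ i, minpoly ℤ (π i)) = 0 ∧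
        ∃ VT : T →ₗ[ℤ] T, FT ∘ₗ VT = ((p : ℤ) ^ e) • LinearMap.id) := by
  classical
  obtain ⟨q, hqdef⟩ : ∃ q : ℤ, q = (p : ℤ) ^ e := ⟨_, rfl⟩
  rw [← hqdef]
  have hqpos : 0 < q := by
    rw [hqdef]
    exact pow_pos (by exact_mod_cast (Fact.out : p.Prime).pos) e
  have hq : q ≠ 0 := hqpos.ne'
  have hcast : ((q:ℤ):ℝ) = (p:ℝ)^e := by rw [hqdef]; simp
  have hweil' : ∀ i, ∀ z ∈ (minpoly ℤ (π i)).aroots ℂ, ‖z‖ = Real.sqrt ((q:ℤ):ℝ) := by
    intro i z hz
    rw [hweil i z hz, hcast]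
  obtain ⟨P, hPdef⟩ : ∃ P, P = Pw π := ⟨_, rfl⟩
  have hmonic : P.Monic := hPdef ▸ Pw_monic π hint
  have hFE := Pw_FE π hint hinj q hqpos hweil'
  rw [← hPdef] at hFE
  have ha0 : P.coeff 0 ≠ 0 := by
    intro h0
    have h1 := hFE 0 (Nat.zero_le _)
    rw [Nat.sub_zero, hmonic.coeff_natDegree, one_mul, h0, zero_mul] at h1
    exact pow_ne_zero _ hq h1
  have hpi : ∀ i, π i ≠ 0 :=
    pi_ne_zero π hint _ (by rw [hcast.symm]; exact_mod_cast hqpos) hweil
  have hts : ∀ i, π i * (((p : K i) ^ e) / π i) = ((q:ℤ) : K i) := by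
    intro i
    rw [mul_div_cancel₀ _ (hpi i), hqdef]
    push_cast
    rfl
  have hcomp : ∀ g i, φ g i = theta (π i) (((p : K i) ^ e) / π i) g :=
    fun g i => hcomp_of φ _ _ hX0 hX1 g i
  have hφr0 : φ (r0 q) = 0 := by
    funext i
    rw [hcomp, Pi.zero_apply]
    exact theta_I0 q _ _ (hts i) _ (r0_mem q)
  have hφP : φ (Polynomial.aeval (X 0 : P2) P) = 0 := by
    funext i
    rw [hcomp, Pi.zero_apply, theta_aeval0, hPdef]
    exact Pw_root π i
  obtain ⟨φr, hφr⟩ : ∃ φr : P2 →+* φ.range, ∀ g, ((φr g : φ.range) : (i : ι) → K i) = φ g :=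
    ⟨φ.rangeRestrict.toRingHom, fun g => rfl⟩
  have hφr0' : φr (X 0) = (⟨φ (X 0), AlgHom.mem_range_self _ _⟩ : φ.range) :=
    Subtype.ext (hφr _)
  constructor
  · rintro ⟨inst, hF⟩
    letI : Module φ.range T := inst
    have h1 := fwd (R := φ.range) (T := T) φr q (Subtype.ext ((hφr _).trans hφr0)) P
      (Subtype.ext ((hφr _).trans hφP)) FT (by
        intro t
        rw [hφr0']
        exact hF t)
    rw [hPdef] at h1
    exact h1
  · rintro ⟨hP, VT, hFV⟩
    have hP' : Polynomial.aeval FT P = 0 := by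
      rw [hPdef]
      exact hP
    obtain ⟨Θ, hΘ0, hΘr0, hcancel⟩ := bwd q hq P ha0 FT VT hP' hFV
    have hΘI0 : ∀ x ∈ I0 q, Θ x = 0 := by
      intro x hx
      obtain ⟨y, rfl⟩ := Ideal.mem_span_singleton'.1 hx
      rw [map_mul, hΘr0, mul_zero]
    have hkerΘ : ∀ g, φ g = 0 → Θ g = 0 := by
      intro g hg
      obtain ⟨N, G, hNG⟩ := clearV q g
      have hG : ∀ i, Polynomial.eval₂ (Int.castRingHom (K i)) (π i) G = 0 := by
        intro i
        have h1 := theta_I0 q (π i) (((p : K i) ^ e) / π i) (hts i) _ hNG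
        rw [map_sub, map_mul, ← hcomp g i, hg, Pi.zero_apply, zero_mul, zero_sub, neg_eq_zero,
          theta_aeval0] at h1
        exact h1
      obtain ⟨G1, hG1⟩ := B2 π hint hinj G hG
      have h1 := hΘI0 _ hNG
      rw [map_sub, map_mul, map_pow, hΘ0, hom_aeval0 Θ G, hΘ0, eval2_eq_aeval, hG1, ← hPdef,
        map_mul, hP', zero_mul, sub_zero] at h1
      exact hcancel (Θ g) N h1
    have hsurj : Function.Surjective φr := by
      intro y
      obtain ⟨g, hg⟩ := y.2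
      exact ⟨g, Subtype.ext ((hφr g).trans hg)⟩
    have hle : RingHom.ker φr ≤ RingHom.ker Θ := by
      intro g hg
      rw [RingHom.mem_ker] at hg ⊢
      apply hkerΘ g
      rw [← hφr g, hg]
      rfl
    obtain ⟨ψ, hψ⟩ : ∃ ψ : φ.range →+* Module.End ℤ T, ∀ g, ψ (φr g) = Θ g :=
      ⟨φr.liftOfRightInverse (Function.surjInv hsurj) (Function.rightInverse_surjInv hsurj)
        ⟨Θ, hle⟩, fun g => RingHom.liftOfRightInverse_comp_apply _ _ _ _ g⟩
    refine ⟨Module.compHom T ψ, ?_⟩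
    intro t
    rw [← hφr0']
    show (ψ (φr (X 0))) t = FT t
    rw [hψ, hΘ0]

end Groth.Agent.Lib.Helper6.WeilD
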