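import Mathlib

set_option backward.isDefEq.respectTransparency false

/-!
# Weil divisors on the spectrum of a Noetherian UFD are principal
-/

namespace Groth.Agent.Lib.Helper6.WeilUFD

open AlgebraicGeometry CategoryTheory Order

universe u

section OrdAPI

variable {X : Scheme.{u}} [IsIntegral X] [IsLocallyNoetherian X]

theorem ord_one (x : X) : Scheme.ord (1 : X.functionField) x = 0 := by
  by_cases hco : Order.coheight x = 1
  · rw [Scheme.ord_eq_iff hco one_ne_zero]
    simp
  · exact Scheme.ord_eq_zero_of_coheight_neq_one hco _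

theorem ord_inv (x : X) {f : X.functionField} (hf : f ≠ 0) :
    Scheme.ord f⁻¹ x = - Scheme.ord f x := by
  have hmul := Scheme.ord_mul (x := x) hf (inv_ne_zero hf)
  rw [mul_inv_cancel₀ hf, ord_one] at hmul
  linarith

theorem ord_zpow (x : X) {f : X.functionField} (hf : f ≠ 0) (n : ℤ) :
    Scheme.ord (f ^ n) x = n * Scheme.ord f x := by
  refine Int.induction_on n ?_ ?_ ?_
  · simp [ord_one]
  · intro i ih
    rw [zpow_add_one₀ hf, Scheme.ord_mul (zpow_ne_zero _ hf) hf, ih]
    ring
  · intro i ih
    rw [zpow_sub_one₀ hf, Scheme.ord_mul (zpow_ne_zero _ hf) (inv_ne_zero hf), ih, ord_inv x hf]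
    ring

theorem ord_prod {ι : Type*} (x : X) (s : Finset ι) (g : ι → X.functionField)
    (hg : ∀ i ∈ s, g i ≠ 0) :
    Scheme.ord (∏ i ∈ s, g i) x = ∑ i ∈ s, Scheme.ord (g i) x := by
  classical
  induction s using Finset.induction_on with
  | empty => simp [ord_one]
  | insert a s ha ih =>
    rw [Finset.prod_insert ha, Finset.sum_insert ha,
      Scheme.ord_mul (hg a (Finset.mem_insert_self a s))
        (Finset.prod_ne_zero_iff.mpr fun i hi => hg i (Finset.mem_insert_of_mem hi)),
      ih fun i hi => hg i (Finset.mem_insert_of_mem hi)]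

end OrdAPI

section RingLevel

variable {A : Type*} [CommRing A] [IsDomain A]
  {S : Type*} [CommRing S] [IsDomain S] [IsNoetherianRing S] [IsLocalRing S] [Algebra A S]
  {K : Type*} [Field K] [Algebra S K] [IsFractionRing S K]

theorem isDVR_of_span (P : Ideal A) [P.IsPrime] [IsLocalization.AtPrime S P] {p : A}
    (hp : p ≠ 0) (hP : P = Ideal.span {p}) :
    IsDiscreteValuationRing S ∧ Irreducible (algebraMap A S p) := by
  have hmax : IsLocalRing.maximalIdeal S = Ideal.span {algebraMap A S p} := by
    rw [← IsLocalization.AtPrime.map_eq_maximalIdeal P S, hP, Ideal.map_span, Set.image_singleton]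
  have hinj : Function.Injective (algebraMap A S) :=
    IsLocalization.injective S (P.primeCompl_le_nonZeroDivisors)
  have hne : algebraMap A S p ≠ 0 := fun h => hp (hinj (by rw [h, map_zero]))
  have hnf : ¬ IsField S := by
    rw [IsLocalRing.isField_iff_maximalIdeal_eq, hmax, Ideal.span_singleton_eq_bot]
    exact hne
  have hprin : (IsLocalRing.maximalIdeal S).IsPrincipal := ⟨⟨algebraMap A S p, hmax⟩⟩
  have hdvr : IsDiscreteValuationRing S :=
    ((IsDiscreteValuationRing.TFAE S hnf).out 4 0).mp hprin
  exact ⟨hdvr, (IsDiscreteValuationRing.irreducible_iff_uniformizer _).mpr hmax⟩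

theorem ordFrac_uniformizer (P : Ideal A) [P.IsPrime] [IsLocalization.AtPrime S P]
    [Ring.KrullDimLE 1 S] {p : A} (hp : p ≠ 0) (hP : P = Ideal.span {p}) :
    Ring.ordFrac S (algebraMap S K (algebraMap A S p)) = WithZero.exp (1 : ℤ) := by
  obtain ⟨hdvr, hirr⟩ := isDVR_of_span (S := S) P hp hP
  exact Ring.ordFrac_irreducible hirr

theorem ordFrac_unit (P : Ideal A) [P.IsPrime] [IsLocalization.AtPrime S P]
    [Ring.KrullDimLE 1 S] {a : A} (ha : a ∉ P) :
    Ring.ordFrac S (algebraMap S K (algebraMap A S a)) = 1 :=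
  Ring.ordFrac_of_isUnit (IsLocalization.map_units S (⟨a, ha⟩ : P.primeCompl))

end RingLevel

section SpecLevel

variable (A : Type u) [CommRing A] [IsDomain A] [IsNoetherianRing A]

/-- The algebra structure of the function field of `Spec A` over `A`. -/
noncomputable def algK : Algebra A (Spec (CommRingCat.of A)).functionField :=
  AlgebraicGeometry.instAlgebraCarrierFunctionFieldSpec (CommRingCat.of A)

attribute [local instance] algK

theorem fracK : IsFractionRing A (Spec (CommRingCat.of A)).functionField :=
  AlgebraicGeometry.functionField_isFractionRing_of_affine (CommRingCat.of A)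

theorem key (x : ↥(Spec (CommRingCat.of A))) (a : A) :
    algebraMap A (Spec (CommRingCat.of A)).functionField a =
      algebraMap ((Spec (CommRingCat.of A)).presheaf.stalk x)
        (Spec (CommRingCat.of A)).functionField ((StructureSheaf.toStalk A x).hom a) := by
  exact (StructureSheaf.toStalk_stalkSpecializes_apply _ a).symm

theorem ordHom_of_span (x : ↥(Spec (CommRingCat.of A))) (hx : Order.coheight x = 1) {p : A}
    (hp : p ≠ 0) (hP : x.asIdeal = Ideal.span {p}) :
    (Spec (CommRingCat.of A)).ordHom x hx
      (algebraMap A (Spec (CommRingCat.of A)).functionField p) =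
        WithZero.exp (1 : ℤ) := by
  let k : Algebra A ((Spec (CommRingCat.of A)).presheaf.stalk x) :=
    StructureSheaf.stalkAlgebra A x
  have hloc : IsLocalization.AtPrime ((Spec (CommRingCat.of A)).presheaf.stalk x) x.asIdeal :=
    StructureSheaf.IsLocalization.to_stalk A x
  have : Ring.KrullDimLE 1 ((Spec (CommRingCat.of A)).presheaf.stalk x) :=
    krullDimLE_of_coheight_le hx.le
  rw [key A x p]
  exact ordFrac_uniformizer x.asIdeal hp hP

theorem ordHom_of_notMem (x : ↥(Spec (CommRingCat.of A))) (hx : Order.coheight x = 1) {a : A}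
    (ha : a ∉ x.asIdeal) :
    (Spec (CommRingCat.of A)).ordHom x hx
      (algebraMap A (Spec (CommRingCat.of A)).functionField a) = 1 := by
  let k : Algebra A ((Spec (CommRingCat.of A)).presheaf.stalk x) :=
    StructureSheaf.stalkAlgebra A x
  have hloc : IsLocalization.AtPrime ((Spec (CommRingCat.of A)).presheaf.stalk x) x.asIdeal :=
    StructureSheaf.IsLocalization.to_stalk A x
  have : Ring.KrullDimLE 1 ((Spec (CommRingCat.of A)).presheaf.stalk x) :=
    krullDimLE_of_coheight_le hx.le
  rw [key A x a]
  exact ordFrac_unit x.asIdeal ha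

theorem main [UniqueFactorizationMonoid A]
    (D : ↥(Spec (CommRingCat.of A)) → ℤ) (hD : ∀ x, Order.coheight x ≠ 1 → D x = 0)
    (hfin : {x | D x ≠ 0}.Finite) :
    ∃ f : ↑(Spec (CommRingCat.of A)).functionField, f ≠ 0 ∧
      ∀ x : ↥(Spec (CommRingCat.of A)), Order.coheight x = 1 → Scheme.ord f x = D x := by
  classical
  have hht : ∀ x : ↥(Spec (CommRingCat.of A)), Order.coheight x = 1 → x.asIdeal.height = 1 := by
    intro x hx
    rw [idealHeight_eq_coheight]
    exact hx
  have hgen : ∀ x : ↥(Spec (CommRingCat.of A)), Order.coheight x = 1 →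
      ∃ p : A, p ≠ 0 ∧ x.asIdeal = Ideal.span {p} := by
    intro x hx
    have hh := hht x hx
    have hne : x.asIdeal ≠ ⊥ := Ideal.ne_bot_of_height_eq_one hh
    obtain ⟨p, hpm, hpp⟩ := Ideal.IsPrime.exists_mem_prime_of_ne_bot x.isPrime hne
    exact ⟨p, hpp.ne_zero, Ideal.eq_span_singleton_of_height_eq_one hh hpm hpp⟩
  choose! gen hgen using hgen
  have hinj : Function.Injective
      (algebraMap A (Spec (CommRingCat.of A)).functionField) :=
    (fracK A).injective
  have hsupp : ∀ x ∈ hfin.toFinset, Order.coheight x = 1 := by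
    intro x hx
    by_contra hco
    have h1 : D x ≠ 0 := by simpa using hx
    exact h1 (hD x hco)
  have hφne : ∀ x ∈ hfin.toFinset,
      algebraMap A (Spec (CommRingCat.of A)).functionField (gen x) ≠ 0 := by
    intro x hx
    exact (map_ne_zero_iff _ hinj).mpr (hgen x (hsupp x hx)).1
  refine ⟨∏ x ∈ hfin.toFinset,
    (algebraMap A (Spec (CommRingCat.of A)).functionField (gen x)) ^ (D x),
    Finset.prod_ne_zero_iff.mpr fun x hx => zpow_ne_zero _ (hφne x hx), fun z hz => ?_⟩
  rw [ord_prod z _ _ (fun x hx => zpow_ne_zero _ (hφne x hx))]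
  have hterm : ∀ x ∈ hfin.toFinset,
      Scheme.ord ((algebraMap A (Spec (CommRingCat.of A)).functionField
        (gen x)) ^ (D x)) z = if x = z then D x else 0 := by
    intro x hx
    have hx1 := hsupp x hx
    rw [ord_zpow z (hφne x hx)]
    split_ifs with hxz
    · subst hxz
      have h1 : Scheme.ord (algebraMap (CommRingCat.of A)
          (Spec (CommRingCat.of A)).functionField (gen x)) x = 1 := by
        rw [Scheme.ord_eq_iff hx1 (hφne x hx)]
        exact ordHom_of_span A x hx1 (hgen x hx1).1 (hgen x hx1).2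
      rw [h1]; ring
    · have hnm : gen x ∉ z.asIdeal := by
        intro hmem
        apply hxz
        have hle : x.asIdeal ≤ z.asIdeal := by
          rw [(hgen x hx1).2, Ideal.span_singleton_le_iff_mem]
          exact hmem
        haveI : x.asIdeal.FiniteHeight := by simp [Ideal.finiteHeight_iff, hht x hx1]
        have heq : x.asIdeal = z.asIdeal :=
          Ideal.eq_of_le_of_height_le (I := x.asIdeal) hle (by rw [hht x hx1, hht z hz])
        exact PrimeSpectrum.ext heq
      have h0 : Scheme.ord (algebraMap (CommRingCat.of A)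
          (Spec (CommRingCat.of A)).functionField (gen x)) z = 0 := by
        rw [Scheme.ord_eq_iff hz (hφne x hx)]
        rw [ordHom_of_notMem A z hz hnm]
        rfl
      rw [h0]; ring
  rw [Finset.sum_congr rfl hterm, Finset.sum_ite_eq']
  split_ifs with hzs
  · rfl
  · have h0 : D z = 0 := by simpa using hzs
    exact h0.symm

end SpecLevel

end Groth.Agent.Lib.Helper6.WeilUFD
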