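import Mathlib

set_option autoImplicit false

namespace Groth.Agent.Lib.Helper6.WeylQuad

open Module

universe u v w x

theorem main012 {ι : Type u} {K : Type v} {M : Type w} {N : Type x} [Field K] [CharZero K]
    [AddCommGroup M] [Module K M] [AddCommGroup N] [Module K N] (P : RootPairing ι K M N)
    [P.IsIrreducible]
    (Q : QuadraticMap K N K) (hQ : ∀ (i : ι) (y : N), Q (P.coreflection i y) = Q y)
    (i₀ : ι) (h0 : Q (P.coroot i₀) = 0) : Q = 0 := by
  have hpol : ∀ i x y, QuadraticMap.polar Q (P.coreflection i x) (P.coreflection i y)
      = QuadraticMap.polar Q x y := by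
    intro i x y
    unfold QuadraticMap.polar
    rw [← map_add, hQ, hQ, hQ]
  obtain ⟨rad, hrad⟩ : ∃ rad : Submodule K N, rad = LinearMap.ker (QuadraticMap.polarBilin Q) :=
    ⟨_, rfl⟩
  have hmem : ∀ x, x ∈ rad ↔ ∀ y, QuadraticMap.polar Q x y = 0 := by
    intro x
    rw [hrad, LinearMap.mem_ker]
    constructor
    · intro h y
      have := LinearMap.congr_fun h y
      simpa using this
    · intro h
      ext y
      simpa using h y
  have hinv : ∀ i, rad ∈ Module.End.invtSubmodule (P.coreflection i) := by
    intro i
    rw [Module.End.mem_invtSubmodule]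
    intro x hx
    rw [Submodule.mem_comap, LinearEquiv.coe_coe, hmem]
    intro y
    have h1 := hpol i x (P.coreflection i y)
    rw [P.coreflection_same] at h1
    rw [h1]
    exact (hmem x).1 hx _
  have hcor : P.coroot i₀ ∈ rad := by
    rw [hmem]
    intro y
    have h1 := hpol i₀ (P.coroot i₀) y
    rw [P.coreflection_apply_self, P.coreflection_apply, QuadraticMap.polar_neg_left,
      QuadraticMap.polar_sub_right, QuadraticMap.polar_smul_right, QuadraticMap.polar_self, h0,
      smul_zero, smul_zero, sub_zero] at h1
    have h2 : (2 : K) * QuadraticMap.polar Q (P.coroot i₀) y = 0 := by linear_combination -h1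
    rcases mul_eq_zero.1 h2 with h | h
    · exact absurd h two_ne_zero
    · exact h
  have hne : rad ≠ ⊥ := by
    intro h
    rw [h, Submodule.mem_bot] at hcor
    exact P.flip.ne_zero i₀ hcor
  have htop := RootPairing.IsIrreducible.eq_top_of_invtSubmodule_coreflection (P := P) rad hinv hne
  ext x
  have hx : x ∈ rad := by rw [htop]; trivial
  have h1 := (hmem x).1 hx x
  rw [QuadraticMap.polar_self] at h1
  rw [zero_apply]
  rw [two_smul] at h1
  have h2 : (2 : K) * Q x = 0 := by linear_combination h1
  rcases mul_eq_zero.1 h2 with h | h
  · exact absurd h two_ne_zero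
  · exact h

theorem main007 {ι : Type u} {R : Type v} {M : Type w} {N : Type x} [CommRing R] [IsDomain R]
    [CharZero R]
    [AddCommGroup M] [Module R M] [AddCommGroup N] [Module R N] (P : RootPairing ι R M N)
    [Finite ι] [P.IsCrystallographic] [P.IsReduced] (b : P.Base) (Q : QuadraticMap R N R) :
    (∀ i : ι, ∀ y ∈ Submodule.span R (Set.range P.coroot), Q (P.coreflection i y) = Q y) ↔
      ∀ i ∈ b.support, ∀ j ∈ b.support, i ≠ j →
        QuadraticMap.polar Q (P.coroot i) (P.coroot j) = P.pairing j i * Q (P.coroot j) := by
  have hsp_inv : ∀ i, ∀ y ∈ Submodule.span R (Set.range P.coroot),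
      P.coreflection i y ∈ Submodule.span R (Set.range P.coroot) := by
    intro i y hy
    have := P.corootSpan_mem_invtSubmodule_coreflection (R := R) i
    rw [Module.End.mem_invtSubmodule] at this
    exact this hy
  have hexp : ∀ (x y : N) (c : R), Q (x - c • y) = Q x + c * c * Q y - c * QuadraticMap.polar Q x y := by
    intro x y c
    have h1 : QuadraticMap.polar Q x (-(c • y)) = Q (x + -(c • y)) - Q x - Q (-(c • y)) := rfl
    rw [QuadraticMap.polar_neg_right, QuadraticMap.polar_smul_right, QuadraticMap.map_neg,
      QuadraticMap.map_smul, ← sub_eq_add_neg] at h1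
    simp only [smul_eq_mul] at h1
    linear_combination -h1
  constructor
  · intro hinv i hi j hj hij
    have hci : P.coroot i ∈ Submodule.span R (Set.range P.coroot) :=
      Submodule.subset_span ⟨i, rfl⟩
    have hcj : P.coroot j ∈ Submodule.span R (Set.range P.coroot) :=
      Submodule.subset_span ⟨j, rfl⟩
    have h1 := hinv j (P.coroot i) hci
    rw [P.coreflection_apply_coroot, hexp] at h1
    have h2 : P.pairing j i * (P.pairing j i * Q (P.coroot j)
        - QuadraticMap.polar Q (P.coroot i) (P.coroot j)) = 0 := by linear_combination h1
    rcases mul_eq_zero.1 h2 with h | h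
    · -- orthogonal case
      rw [h, zero_mul]
      have h3 : QuadraticMap.polar Q (P.coreflection j (P.coroot i)) (P.coreflection j (P.coroot j))
          = QuadraticMap.polar Q (P.coroot i) (P.coroot j) := by
        unfold QuadraticMap.polar
        rw [← map_add, hinv j _ (Submodule.add_mem _ hci hcj), hinv j _ hci, hinv j _ hcj]
      rw [P.coreflection_apply_self, P.coreflection_apply_coroot, h, zero_smul, sub_zero,
        QuadraticMap.polar_neg_right] at h3
      have h4 : (2 : R) * QuadraticMap.polar Q (P.coroot i) (P.coroot j) = 0 := by
        linear_combination -h3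
      rcases mul_eq_zero.1 h4 with h5 | h5
      · exact absurd h5 two_ne_zero
      · exact h5
    · exact (sub_eq_zero.1 h).symm
  · intro hS
    -- Step 1: simple reflections
    have hkey : ∀ i ∈ b.support, ∀ y ∈ Submodule.span R (Set.range P.coroot),
        QuadraticMap.polar Q y (P.coroot i) = P.root' i y * Q (P.coroot i) := by
      intro i hi y hy
      have hsp := b.span_coroot_support
      change Submodule.span R (P.coroot '' (b.support : Set ι)) = Submodule.span R (Set.range P.coroot)
        at hsp
      rw [← hsp] at hy
      induction hy using Submodule.span_induction with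
      | mem y hy =>
        obtain ⟨j, hj, rfl⟩ := hy
        by_cases hji : j = i
        · rw [hji, QuadraticMap.polar_self]
          have : P.root' i (P.coroot i) = 2 := P.root_coroot_two i
          rw [this, two_smul, two_mul]
        · exact hS j hj i hi hji
      | zero => simp [QuadraticMap.polar]
      | add y z _ _ hy hz => rw [QuadraticMap.polar_add_left, hy, hz, map_add]; ring
      | smul a y _ hy => rw [QuadraticMap.polar_smul_left, hy, map_smul]; simp only [smul_eq_mul]; ring
    have hstep1 : ∀ i ∈ b.support, ∀ y ∈ Submodule.span R (Set.range P.coroot),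
        Q (P.coreflection i y) = Q y := by
      intro i hi y hy
      rw [P.coreflection_apply, hexp, hkey i hi y hy]
      ring
    have hcomp : ∀ i j : ι, (∀ y ∈ Submodule.span R (Set.range P.coroot), Q (P.coreflection i y) = Q y) →
        (∀ y ∈ Submodule.span R (Set.range P.coroot), Q (P.coreflection j y) = Q y) →
        ∀ y ∈ Submodule.span R (Set.range P.coroot), Q (P.coreflection (P.reflectionPerm j i) y) = Q y := by
      intro i j hi hj y hy
      have h1 : P.coreflection (P.reflectionPerm j i)
          = P.coreflection j * P.coreflection i * P.coreflection j :=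
        P.flip.reflection_reflectionPerm
      rw [h1]
      show Q (P.coreflection j (P.coreflection i (P.coreflection j y))) = Q y
      rw [hj _ (hsp_inv i _ (hsp_inv j _ hy)), hi _ (hsp_inv j _ hy), hj _ hy]
    intro i
    refine b.induction_reflect i
      (p := fun i => ∀ y ∈ Submodule.span R (Set.range P.coroot), Q (P.coreflection i y) = Q y)
      ?_ ?_ ?_
    · intro i hi
      exact hcomp i i hi hi
    · intro i hi
      exact hstep1 i hi
    · intro i j hi hj
      exact hcomp i j hi (hstep1 j hj)

end Groth.Agent.Lib.Helper6.WeylQuad
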