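import Groth.Agent.Lib.Helper6.GrpLocus
import Groth.Agent.Lib.Helper6.ProperSub
import Groth.Agent.Lib.Helper16.WhereEngine
import Groth.Agent.Lib.Helper16.UnramMono
import Groth.Agent.Lib.Helper16.Diagonal
import Groth.Agent.Lib.Helper17.AlgSpUnram

/-!
# Helper library (helper6): the locus over which a base change is a monomorphism

`main10640` (unramified and universally injective) and `main10641` (closed immersion).
-/

set_option autoImplicit false
universe u
open CategoryTheory CategoryTheory.Limits AlgebraicGeometry Opposite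

namespace Groth.Agent.Lib.Helper6.WhereMono

open AlgSp Groth.Agent.Lib.Helper15 Groth.Agent.Lib.Helper16 Groth.Agent.Lib.Helper17
  Groth.Agent.Lib.Helper6.UrLocus Groth.Agent.Lib.Helper16.QfAt Groth.Agent.Lib.Helper16.QuotOpen
  Groth.Agent.Lib.Helper16.UnramMono

variable {S : Scheme.{u}}

/-- The unramified locus under precomposition with an etale morphism. -/
theorem mem_urLocus_precomp {X₁ X Y : Sp S} (hX₁ : IsAlgSpace X₁) (hY : IsAlgSpace Y) (j : X₁ ⟶ X)
    (hj : RepWith @Etale j) (f : X ⟶ Y) (x₁ : Points X₁) :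
    x₁ ∈ urLocus (j ≫ f) ↔ Points.map j x₁ ∈ urLocus f := by
  obtain ⟨U₀, a₀, hae, has⟩ := hX₁.atlas
  obtain ⟨V, b, hbe, hbs⟩ := hY.atlas
  obtain ⟨U, h, c, h1, h2, -, -, h3⟩ := exists_chart_diagram (j ≫ f) b hbe a₀ hae
  have has' := h3 hbs has
  obtain ⟨u, rfl⟩ := ofPt_surjective_of_surjective _ has' x₁
  have h1' : RepWith @Etale (((yon S).map c ≫ a₀) ≫ j) := (RepWith (S := S) @Etale).comp_mem _ _ h1 hj
  have h2' : (((yon S).map c ≫ a₀) ≫ j) ≫ f = (yon S).map h ≫ b := by
    rw [Category.assoc]; exact h2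
  rw [mem_urLocus_iff (j ≫ f) _ b h h1 hbe h2 u, Points.map_ofPt,
    mem_urLocus_iff f _ b h h1' hbe h2' u]

/-- A representable etale morphism from an algebraic space is open on points. -/
theorem isOpenMap_points_of_repWith_etale {X Y : Sp S} (hX : IsAlgSpace X) (f : X ⟶ Y)
    (hf : RepWith @Etale f) : IsOpenMap (Points.map f) := by
  obtain ⟨A, a, hae, has⟩ := hX.atlas
  have hsurj := ofPt_surjective_of_surjective a has
  have hopen := isOpenMap_ofPt_of_etale (a ≫ f) ((RepWith (S := S) @Etale).comp_mem _ _ hae hf)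
  intro O hO
  have : Points.map f '' O = Points.ofPt (a ≫ f) '' (Points.ofPt a ⁻¹' O) := by
    ext y
    constructor
    · rintro ⟨x, hx, rfl⟩
      obtain ⟨t, rfl⟩ := hsurj x
      exact ⟨t, hx, (Points.map_ofPt a f t).symm⟩
    · rintro ⟨t, ht, rfl⟩
      exact ⟨Points.ofPt a t, ht, Points.map_ofPt a f t⟩
  rw [this]
  exact hopen _ (hO.preimage (Points.continuous_ofPt a))

/-- The diagonal is open on the unramified locus. -/
theorem isOpen_diag_image {X Y : Sp S} (hX : IsAlgSpace X) (hY : IsAlgSpace Y) (f : X ⟶ Y)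
    (V₁ : Set (Points X)) (hV₁ : IsOpen V₁) (hVU : V₁ ⊆ urLocus f) :
    IsOpen (Points.map (pullback.diagonal f) '' V₁) := by
  have hι : RepWith @IsOpenImmersion (openSubι X V₁) := repWith_isOpenImmersion_openSubι V₁ hV₁
  have hιe : RepWith @Etale (openSubι X V₁) := repWith_mono isOpenImmersion_le_etale _ hι
  have hX₁ : IsAlgSpace (openSub X V₁) := isAlgSpace_openSub hX V₁ hV₁
  have hr : Set.range (Points.map (openSubι X V₁)) = V₁ := range_map_openSubι V₁
  have hUR : LocP (@LocallyOfFiniteType ⊓ @FormallyUnramified) (openSubι X V₁ ≫ f) := by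
    rw [locP_unram_iff_forall_mem_urLocus hX₁ hY]
    intro x₁
    rw [mem_urLocus_precomp hX₁ hY _ hιe f]
    apply hVU
    have hmem : Points.map (openSubι X V₁) x₁ ∈ Set.range (Points.map (openSubι X V₁)) :=
      ⟨x₁, rfl⟩
    rw [hr] at hmem
    exact hmem
  have hΔ₁ := repWith_isOpenImmersion_diagonal_of_locP_unramified hX₁ hY (openSubι X V₁ ≫ f) hUR
  have hk : RepWith @IsOpenImmersion (pullback.map (openSubι X V₁ ≫ f) (openSubι X V₁ ≫ f) f f
      (openSubι X V₁) (openSubι X V₁) (𝟙 Y) ((Category.comp_id _).trans rfl)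
      ((Category.comp_id _).trans rfl)) :=
    MorphismProperty.pullbackMap (P := RepWith (S := S) @IsOpenImmersion) hι hι rfl rfl
  have hcomp : RepWith @Etale (pullback.diagonal (openSubι X V₁ ≫ f) ≫
      pullback.map (openSubι X V₁ ≫ f) (openSubι X V₁ ≫ f) f f
      (openSubι X V₁) (openSubι X V₁) (𝟙 Y) ((Category.comp_id _).trans rfl)
      ((Category.comp_id _).trans rfl)) :=
    (RepWith (S := S) @Etale).comp_mem _ _ (repWith_mono isOpenImmersion_le_etale _ hΔ₁)
      (repWith_mono isOpenImmersion_le_etale _ hk)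
  have heq : pullback.diagonal (openSubι X V₁ ≫ f) ≫
      pullback.map (openSubι X V₁ ≫ f) (openSubι X V₁ ≫ f) f f
      (openSubι X V₁) (openSubι X V₁) (𝟙 Y) ((Category.comp_id _).trans rfl)
      ((Category.comp_id _).trans rfl) = openSubι X V₁ ≫ pullback.diagonal f := by
    have hm1 : pullback.map (openSubι X V₁ ≫ f) (openSubι X V₁ ≫ f) f f
        (openSubι X V₁) (openSubι X V₁) (𝟙 Y) ((Category.comp_id _).trans rfl)
        ((Category.comp_id _).trans rfl) ≫ pullback.fst f f =
        pullback.fst (openSubι X V₁ ≫ f) (openSubι X V₁ ≫ f) ≫ openSubι X V₁ :=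
      pullback.lift_fst _ _ _
    have hm2 : pullback.map (openSubι X V₁ ≫ f) (openSubι X V₁ ≫ f) f f
        (openSubι X V₁) (openSubι X V₁) (𝟙 Y) ((Category.comp_id _).trans rfl)
        ((Category.comp_id _).trans rfl) ≫ pullback.snd f f =
        pullback.snd (openSubι X V₁ ≫ f) (openSubι X V₁ ≫ f) ≫ openSubι X V₁ :=
      pullback.lift_snd _ _ _
    apply pullback.hom_ext
    · simp only [Category.assoc, hm1, pullback.diagonal_fst, pullback.diagonal_fst_assoc,
        Category.comp_id]
    · simp only [Category.assoc, hm2, pullback.diagonal_snd, pullback.diagonal_snd_assoc,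
        Category.comp_id]
  have hopen := isOpenMap_points_of_repWith_etale hX₁ _ hcomp
  have himg : Points.map (pullback.diagonal f) '' V₁ =
      Set.range (Points.map (openSubι X V₁ ≫ pullback.diagonal f)) := by
    ext y
    constructor
    · rintro ⟨x, hx, rfl⟩
      have hx' : x ∈ Set.range (Points.map (openSubι X V₁)) := by rw [hr]; exact hx
      obtain ⟨x₁, rfl⟩ := hx'
      exact ⟨x₁, Points.map_comp _ _ _⟩
    · rintro ⟨x₁, rfl⟩
      refine ⟨Points.map (openSubι X V₁) x₁, ?_, (Points.map_comp _ _ _).symm⟩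
      have hmem : Points.map (openSubι X V₁) x₁ ∈ Set.range (Points.map (openSubι X V₁)) :=
        ⟨x₁, rfl⟩
      rw [hr] at hmem
      exact hmem
  rw [himg, ← heq]
  exact hopen.isOpen_range

/-- The core: the open locus of the base over which base changes of `f` are monomorphisms. -/
theorem mono_locus_core {X Y Z : Sp S} (hX : IsAlgSpace X) (hY : IsAlgSpace Y) (hZ : IsAlgSpace Z)
    (f : X ⟶ Y) (p : X ⟶ Z) (q : Y ⟶ Z) (hc : f ≫ q = p)
    (hp1 : LocP @LocallyOfFiniteType p) (hp2 : IsClosedMap (Points.map p))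
    (hp3 : IsClosedMap (Points.map (pullback.snd f f ≫ p))) :
    ∃ W₀ : Set (Points Z), IsOpen W₀ ∧ ∀ {Z' Y' X' : Sp S}, IsAlgSpace Z' → IsAlgSpace Y' →
      IsAlgSpace X' → ∀ (g : Z' ⟶ Z) (gY : Y' ⟶ Y) (q' : Y' ⟶ Z'), IsPullback gY q' q g →
      ∀ (gX : X' ⟶ X) (f' : X' ⟶ Y'), IsPullback gX f' f gY →
      ((∀ z' : Points Z', Points.map g z' ∈ W₀) ↔ Mono f') := by
  have hf : LocP @LocallyOfFiniteType f := by
    apply locP_lft_of_comp hZ f q
    rw [hc]
    exact hp1
  have hUo : IsOpen (urLocus f) := isOpen_urLocus f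
  have hW₁o : IsOpen (Points.map p '' (urLocus f)ᶜ)ᶜ := (hp2 _ hUo.isClosed_compl).isOpen_compl
  have hV₁o : IsOpen (Points.map p ⁻¹' (Points.map p '' (urLocus f)ᶜ)ᶜ) :=
    hW₁o.preimage (Points.continuous_map p)
  have hV₁U : Points.map p ⁻¹' (Points.map p '' (urLocus f)ᶜ)ᶜ ⊆ urLocus f := by
    intro x hx
    by_contra hxU
    exact hx ⟨x, hxU, rfl⟩
  have hA₂o := isOpen_diag_image hX hY f _ hV₁o hV₁U
  have hW₀o : IsOpen ((Points.map p '' (urLocus f)ᶜ)ᶜ ∩
      (Points.map (pullback.snd f f ≫ p) '' (Points.map (pullback.diagonal f) ''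
        (Points.map p ⁻¹' (Points.map p '' (urLocus f)ᶜ)ᶜ))ᶜ)ᶜ) :=
    hW₁o.inter (hp3 _ hA₂o.isClosed_compl).isOpen_compl
  refine ⟨_, hW₀o, ?_⟩
  intro Z' Y' X' hZ' hY' hX' g gY q' sqY gX f' sqX
  have hlft' : LocP @LocallyOfFiniteType f' :=
    locP_of_isPullback etLocalST_locallyOfFiniteType hX hY sqX hf
  have e1 : gX ≫ p = (f' ≫ q') ≫ g := by
    rw [← hc, ← Category.assoc, sqX.w, Category.assoc, sqY.w, Category.assoc]
  have hpg : ∀ x' : Points X', Points.map p (Points.map gX x') =
      Points.map g (Points.map q' (Points.map f' x')) := by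
    intro x'
    rw [← Points.map_comp, e1, Points.map_comp, Points.map_comp]
  have E := isPullback_diagonal_of_isPullback sqX
  have hm1 : pullback.map f' f' f f gX gX gY sqX.w.symm sqX.w.symm ≫ pullback.fst f f =
      pullback.fst f' f' ≫ gX := pullback.lift_fst _ _ _
  have hm2 : pullback.map f' f' f f gX gX gY sqX.w.symm sqX.w.symm ≫ pullback.snd f f =
      pullback.snd f' f' ≫ gX := pullback.lift_snd _ _ _
  constructor
  · intro H
    have hU' : ∀ x' : Points X', Points.map gX x' ∈ urLocus f := by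
      intro x'
      by_contra hx
      have h1 := (H (Points.map q' (Points.map f' x'))).1
      rw [← hpg x'] at h1
      exact h1 ⟨_, hx, rfl⟩
    have hUR : LocP (@LocallyOfFiniteType ⊓ @FormallyUnramified) f' := by
      rw [locP_unram_iff_forall_mem_urLocus hX' hY']
      intro x'
      rw [urLocus_baseChange hX hY hY' sqX hf]
      exact hU' x'
    have hΔ := repWith_isOpenImmersion_diagonal_of_locP_unramified hX' hY' f' hUR
    have hΔe : IsEtaleMor (pullback.diagonal f') := fun T φ hφ =>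
      (RepWith (S := S) @Etale).comp_mem _ _ hφ (repWith_mono isOpenImmersion_le_etale _ hΔ)
    have e2 : pullback.map f' f' f f gX gX gY sqX.w.symm sqX.w.symm ≫ (pullback.snd f f ≫ p) =
        pullback.snd f' f' ≫ gX ≫ p := by
      rw [← Category.assoc, hm2, Category.assoc]
    have hsurj : IsSurjectiveMor (pullback.diagonal f') := by
      intro ξ'
      have hπ : Points.map (pullback.snd f f ≫ p)
          (Points.map (pullback.map f' f' f f gX gX gY sqX.w.symm sqX.w.symm) ξ') =
          Points.map g (Points.map q' (Points.map f' (Points.map (pullback.snd f' f') ξ'))) := by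
        rw [← Points.map_comp, e2, Points.map_comp, Points.map_comp, hpg]
      have h2 := (H (Points.map q' (Points.map f' (Points.map (pullback.snd f' f') ξ')))).2
      rw [← hπ] at h2
      have hmem : Points.map (pullback.map f' f' f f gX gX gY sqX.w.symm sqX.w.symm) ξ' ∈
          Points.map (pullback.diagonal f) '' (Points.map p ⁻¹' (Points.map p '' (urLocus f)ᶜ)ᶜ) := by
        by_contra hne
        exact h2 ⟨_, hne, rfl⟩
      obtain ⟨x, -, hx⟩ := hmem
      obtain ⟨x'', -, hx''⟩ := exists_point_of_isPullback E x ξ' hx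
      exact ⟨x'', hx''⟩
    haveI : IsIso (pullback.diagonal f') := isIso_of_etale_mono_surjective hX' _ hΔe hsurj
    have h1 : IsIso (pullback.diagonal f' ≫ pullback.fst f' f') := by
      rw [pullback.diagonal_fst]; infer_instance
    have h2 : IsIso (pullback.fst f' f') := IsIso.of_isIso_comp_left (pullback.diagonal f') _
    exact IsKernelPair.mono_of_isIso_fst (IsPullback.of_hasPullback f' f')
  · intro hmono z'
    have hUR : LocP (@LocallyOfFiniteType ⊓ @FormallyUnramified) f' :=
      locP_unramified_of_mono_lft hX' hY' f' hlft'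
    have hU' : ∀ x' : Points X', Points.map gX x' ∈ urLocus f := fun x' =>
      (urLocus_baseChange hX hY hY' sqX hf x').1
        ((locP_unram_iff_forall_mem_urLocus hX' hY' f').1 hUR x')
    have lift_pt : ∀ x₀ : Points X, Points.map p x₀ = Points.map g z' →
        ∃ x' : Points X', Points.map gX x' = x₀ := by
      intro x₀ h0
      have h1 : Points.map q (Points.map f x₀) = Points.map g z' := by
        rw [← Points.map_comp, hc]; exact h0
      obtain ⟨y', hy1, -⟩ := exists_point_of_isPullback sqY (Points.map f x₀) z' h1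
      obtain ⟨x', hx1, -⟩ := exists_point_of_isPullback sqX x₀ y' hy1.symm
      exact ⟨x', hx1⟩
    have hW₁ : Points.map g z' ∈ (Points.map p '' (urLocus f)ᶜ)ᶜ := by
      rintro ⟨x₀, hx₀, h0⟩
      obtain ⟨x', rfl⟩ := lift_pt x₀ h0
      exact hx₀ (hU' x')
    refine ⟨hW₁, ?_⟩
    rintro ⟨ξ, hξ, h0⟩
    have h0' : Points.map p (Points.map (pullback.snd f f) ξ) = Points.map g z' := by
      rw [← Points.map_comp]; exact h0
    obtain ⟨x', hx'⟩ := lift_pt _ h0'
    have Dsq : IsPullback (pullback.map f' f' f f gX gX gY sqX.w.symm sqX.w.symm)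
        (pullback.snd f' f') (pullback.snd f f) gX := by
      have big := (IsPullback.of_hasPullback f' f').paste_horiz sqX
      refine IsPullback.of_right ?_ hm2 (IsPullback.of_hasPullback f f)
      rw [hm1, sqX.w]
      exact big
    obtain ⟨ξ', hξ'1, -⟩ := exists_point_of_isPullback Dsq ξ x' hx'.symm
    have hpr : pullback.fst f' f' = pullback.snd f' f' := by
      rw [← cancel_mono f']; exact pullback.condition
    have hid : pullback.fst f' f' ≫ pullback.diagonal f' = 𝟙 _ := by
      apply pullback.hom_ext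
      · rw [Category.assoc, pullback.diagonal_fst, Category.comp_id, Category.id_comp]
      · rw [Category.assoc, pullback.diagonal_snd, Category.comp_id, Category.id_comp, hpr]
    have e3 : Points.map (pullback.diagonal f') (Points.map (pullback.fst f' f') ξ') = ξ' := by
      rw [← Points.map_comp, hid, Points.map_id]
    have e4 : Points.map (pullback.diagonal f)
        (Points.map gX (Points.map (pullback.fst f' f') ξ')) = ξ := by
      rw [← Points.map_comp, E.w, Points.map_comp, e3, hξ'1]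
    have e5 : Points.map (pullback.snd f f) ξ =
        Points.map gX (Points.map (pullback.fst f' f') ξ') := by
      rw [← e4, ← Points.map_comp, pullback.diagonal_snd, Points.map_id]
    apply hξ
    refine ⟨Points.map gX (Points.map (pullback.fst f' f') ξ'), ?_, e4⟩
    show Points.map p _ ∈ (Points.map p '' (urLocus f)ᶜ)ᶜ
    rw [← e5, h0']
    exact hW₁

/-- From the core to the "where" statement. -/
theorem where_of_core {X Y Z : AlgSp.Space S} (f : X ⟶ Y) (q : Y ⟶ Z) (W₀ : Set (Points Z.obj))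
    (hW₀o : IsOpen W₀) (Q : ∀ ⦃X' Y' : AlgSp.Space S⦄, (X' ⟶ Y') → Prop)
    (hcore : ∀ (Z' : AlgSp.Space S) (g : Z' ⟶ Z) (Y' : AlgSp.Space S) (gY : Y' ⟶ Y) (q' : Y' ⟶ Z'),
      IsPullback gY.hom q'.hom q.hom g.hom → ∀ (X' : AlgSp.Space S) (gX : X' ⟶ X) (f' : X' ⟶ Y'),
      IsPullback gX.hom f'.hom f.hom gY.hom →
      ((∀ z' : Points Z'.obj, Points.map g.hom z' ∈ W₀) ↔ Q f')) :
    ∃ (W : AlgSp.Space S) (w : W ⟶ Z), RepWith @IsOpenImmersion w.hom ∧
      ∀ (Z' : AlgSp.Space S) (g : Z' ⟶ Z),
        (∃ k : Z' ⟶ W, k ≫ w = g) ↔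
          ∀ (Y' : AlgSp.Space S) (gY : Y' ⟶ Y) (q' : Y' ⟶ Z'),
            IsPullback gY.hom q'.hom q.hom g.hom →
            ∀ (X' : AlgSp.Space S) (gX : X' ⟶ X) (f' : X' ⟶ Y'),
              IsPullback gX.hom f'.hom f.hom gY.hom → Q f' := by
  let W : AlgSp.Space S := ⟨openSub Z.obj W₀, isAlgSpace_openSub Z.property W₀ hW₀o⟩
  let w : W ⟶ Z := ObjectProperty.homMk (openSubι Z.obj W₀)
  refine ⟨W, w, repWith_isOpenImmersion_openSubι W₀ hW₀o, fun Z' g => ⟨?_, ?_⟩⟩
  · rintro ⟨k, rfl⟩ Y' gY q' sqY X' gX f' sqX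
    refine (hcore Z' (k ≫ w) Y' gY q' sqY X' gX f' sqX).1 ?_
    intro z'
    have h1 : Points.map (k ≫ w).hom z' = Points.map (openSubι Z.obj W₀) (Points.map k.hom z') :=
      Points.map_comp k.hom w.hom z'
    have h2 : Points.map (openSubι Z.obj W₀) (Points.map k.hom z') ∈
        Set.range (Points.map (openSubι Z.obj W₀)) := ⟨_, rfl⟩
    rw [range_map_openSubι W₀] at h2
    rw [h1]
    exact h2
  · intro H
    have sqY := IsPullback.of_hasPullback q.hom g.hom
    let Y' : AlgSp.Space S := ⟨pullback q.hom g.hom,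
      isAlgSpace_of_isPullback Y.property Z.property.diag Z'.property sqY⟩
    let gY : Y' ⟶ Y := ObjectProperty.homMk (pullback.fst q.hom g.hom)
    let q' : Y' ⟶ Z' := ObjectProperty.homMk (pullback.snd q.hom g.hom)
    have sqY' : IsPullback gY.hom q'.hom q.hom g.hom := sqY
    have sqX := IsPullback.of_hasPullback f.hom gY.hom
    let X' : AlgSp.Space S := ⟨pullback f.hom gY.hom,
      isAlgSpace_of_isPullback X.property Y.property.diag Y'.property sqX⟩
    let gX : X' ⟶ X := ObjectProperty.homMk (pullback.fst f.hom gY.hom)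
    let f' : X' ⟶ Y' := ObjectProperty.homMk (pullback.snd f.hom gY.hom)
    have sqX' : IsPullback gX.hom f'.hom f.hom gY.hom := sqX
    have hQ := H Y' gY q' sqY' X' gX f' sqX'
    have hsub : Set.range (Points.map g.hom) ⊆ W₀ := by
      rintro _ ⟨z', rfl⟩
      exact (hcore Z' g Y' gY q' sqY' X' gX f' sqX').2 hQ z'
    obtain ⟨k₀, hk₀⟩ := exists_factor_openSub_of_range_subset W₀ g.hom hsub
    refine ⟨ObjectProperty.homMk k₀, ?_⟩
    apply ObjectProperty.hom_ext
    exact hk₀

/-- transfer of closedness to the standard fibre product -/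
theorem isClosedMap_snd_comp {X Y Z XX : Sp S} (f : X ⟶ Y) (p : X ⟶ Z) (pr0 pr1 : XX ⟶ X)
    (hXX : IsPullback pr0 pr1 f f) (h : IsClosedMap (Points.map (pr1 ≫ p))) :
    IsClosedMap (Points.map (pullback.snd f f ≫ p)) := by
  have e : pullback.snd f f ≫ p = hXX.isoPullback.inv ≫ (pr1 ≫ p) := by
    rw [← Category.assoc, hXX.isoPullback_inv_snd]
  rw [e]
  intro C hC
  have h1 : Points.map (hXX.isoPullback.inv ≫ (pr1 ≫ p)) '' C =
      Points.map (pr1 ≫ p) '' (Points.map hXX.isoPullback.hom ⁻¹' C) := by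
    ext y
    constructor
    · rintro ⟨c, hcC, rfl⟩
      refine ⟨Points.map hXX.isoPullback.inv c, ?_, (Points.map_comp _ _ c).symm⟩
      show Points.map hXX.isoPullback.hom (Points.map hXX.isoPullback.inv c) ∈ C
      rw [← Points.map_comp, Iso.inv_hom_id, Points.map_id]
      exact hcC
    · rintro ⟨d, hd, rfl⟩
      refine ⟨Points.map hXX.isoPullback.hom d, hd, ?_⟩
      rw [Points.map_comp, ← Points.map_comp hXX.isoPullback.hom, Iso.hom_inv_id, Points.map_id]
  rw [h1]
  exact h _ (hC.preimage (Points.continuous_map _))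

/-- **S10640**. -/
theorem main10640 {X Y Z : AlgSp.Space S}
    (f : X ⟶ Y) (p : X ⟶ Z) (q : Y ⟶ Z) (hc : f ≫ q = p)
    (XX : AlgSp.Space S) (pr0 pr1 : XX ⟶ X) (hXX : IsPullback pr0.hom pr1.hom f.hom f.hom)
    (hp1 : AlgSp.LocP @LocallyOfFiniteType p.hom) (hp2 : AlgSp.IsClosedMor p.hom)
    (hp3 : AlgSp.IsClosedMor (pr1 ≫ p).hom) :
    ∃ (W : AlgSp.Space S) (w : W ⟶ Z), AlgSp.RepWith @IsOpenImmersion w.hom ∧
      ∀ (Z' : AlgSp.Space S) (g : Z' ⟶ Z),
        (∃ k : Z' ⟶ W, k ≫ w = g) ↔
          ∀ (Y' : AlgSp.Space S) (gY : Y' ⟶ Y) (q' : Y' ⟶ Z'),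
            IsPullback gY.hom q'.hom q.hom g.hom →
            ∀ (X' : AlgSp.Space S) (gX : X' ⟶ X) (f' : X' ⟶ Y'),
              IsPullback gX.hom f'.hom f.hom gY.hom →
                (AlgSp.LocP (@LocallyOfFiniteType ⊓ @FormallyUnramified) f'.hom ∧ AlgSp.IsUnivInjectiveMor f'.hom) := by
  have hc' : f.hom ≫ q.hom = p.hom := congrArg (fun t => t.hom) hc
  have hf : LocP @LocallyOfFiniteType f.hom := by
    apply locP_lft_of_comp Z.property f.hom q.hom
    rw [hc']
    exact hp1
  have hp3' : IsClosedMap (Points.map (pullback.snd f.hom f.hom ≫ p.hom)) :=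
    isClosedMap_snd_comp f.hom p.hom pr0.hom pr1.hom hXX hp3
  obtain ⟨W₀, hW₀o, hcore⟩ := mono_locus_core X.property Y.property Z.property f.hom p.hom q.hom hc'
    hp1 hp2 hp3'
  refine where_of_core f q W₀ hW₀o
    (fun X' Y' f' => AlgSp.LocP (@LocallyOfFiniteType ⊓ @FormallyUnramified) f'.hom ∧
      AlgSp.IsUnivInjectiveMor f'.hom) ?_
  intro Z' g Y' gY q' sqY X' gX f' sqX
  rw [hcore Z'.property Y'.property X'.property g.hom gY.hom q'.hom sqY gX.hom f'.hom sqX]
  have hlft' : LocP @LocallyOfFiniteType f'.hom :=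
    locP_of_isPullback etLocalST_locallyOfFiniteType X.property Y.property sqX hf
  constructor
  · intro hmono
    exact ⟨locP_unramified_of_mono_lft X'.property Y'.property f'.hom hlft',
      isUnivInjectiveMor_of_mono f'.hom⟩
  · rintro ⟨hu, hinj⟩
    exact mono_of_locP_unramified_of_univInjective X'.property Y'.property f'.hom hu hinj

/-- **S10641**. -/
theorem main10641 {X Y Z : AlgSp.Space S}
    (f : X ⟶ Y) (p : X ⟶ Z) (q : Y ⟶ Z) (hc : f ≫ q = p)
    (hp1 : AlgSp.LocP @LocallyOfFiniteType p.hom) (hp2 : AlgSp.IsUnivClosedMor p.hom)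
    (hq : AlgSp.IsSeparatedMor q.hom) :
    ∃ (W : AlgSp.Space S) (w : W ⟶ Z), AlgSp.RepWith @IsOpenImmersion w.hom ∧
      ∀ (Z' : AlgSp.Space S) (g : Z' ⟶ Z),
        (∃ k : Z' ⟶ W, k ≫ w = g) ↔
          ∀ (Y' : AlgSp.Space S) (gY : Y' ⟶ Y) (q' : Y' ⟶ Z'),
            IsPullback gY.hom q'.hom q.hom g.hom →
            ∀ (X' : AlgSp.Space S) (gX : X' ⟶ X) (f' : X' ⟶ Y'),
              IsPullback gX.hom f'.hom f.hom gY.hom →
                AlgSp.RepWith @IsClosedImmersion f'.hom := by
  have hc' : f.hom ≫ q.hom = p.hom := congrArg (fun t => t.hom) hc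
  have hf : LocP @LocallyOfFiniteType f.hom := by
    apply locP_lft_of_comp Z.property f.hom q.hom
    rw [hc']
    exact hp1
  have hfuc : IsUnivClosedMor f.hom := by
    apply isUnivClosedMor_of_comp_of_separated X.property Y.property Z.property.diag f.hom q.hom hq
    rw [hc']
    exact hp2
  have hpc : IsClosedMap (Points.map p.hom) := isClosedMor_of_isUnivClosedMor Z.property hp2
  have hsc : IsClosedMap (Points.map (pullback.snd f.hom f.hom)) :=
    hfuc X.property f.hom _ _ (IsPullback.of_hasPullback f.hom f.hom)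
  have hp3' : IsClosedMap (Points.map (pullback.snd f.hom f.hom ≫ p.hom)) := by
    have e : Points.map (pullback.snd f.hom f.hom ≫ p.hom) =
        Points.map p.hom ∘ Points.map (pullback.snd f.hom f.hom) :=
      funext fun x => Points.map_comp _ _ x
    rw [e]
    exact hpc.comp hsc
  obtain ⟨W₀, hW₀o, hcore⟩ := mono_locus_core X.property Y.property Z.property f.hom p.hom q.hom hc'
    hp1 hpc hp3'
  refine where_of_core f q W₀ hW₀o
    (fun X' Y' f' => AlgSp.RepWith @IsClosedImmersion f'.hom) ?_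
  intro Z' g Y' gY q' sqY X' gX f' sqX
  rw [hcore Z'.property Y'.property X'.property g.hom gY.hom q'.hom sqY gX.hom f'.hom sqX]
  have hlft' : LocP @LocallyOfFiniteType f'.hom :=
    locP_of_isPullback etLocalST_locallyOfFiniteType X.property Y.property sqX hf
  constructor
  · intro hmono
    have hrep : Representable f'.hom :=
      representable_of_mono_lft X'.property Y'.property f'.hom hlft'
    have huc' : IsUnivClosedMor f'.hom := univSp_of_isPullback sqX hfuc
    have h1 : RepWith @LocallyOfFiniteType f'.hom :=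
      (locP_iff_repWith etLocalST_locallyOfFiniteType X'.property Y'.property f'.hom hrep).1 hlft'
    have h2 : RepWith (MorphismProperty.monomorphisms Scheme.{u}) f'.hom :=
      repWith_monomorphisms_of_mono f'.hom hrep
    have h3 : RepWith @UniversallyClosed f'.hom := (repWith_universallyClosed_iff _ hrep).2 huc'
    refine ⟨hrep, fun T E t ε e sq => ?_⟩
    have i1 : LocallyOfFiniteType e.left := h1.property _ _ _ sq
    have i2 : Mono e.left := h2.property _ _ _ sq
    have i4 : UniversallyClosed e.left := h3.property _ _ _ sq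
    have i3 : IsSeparated e.left := inferInstance
    have i5 : IsProper e.left := ⟨⟩
    exact (IsClosedImmersion.iff_isProper_and_mono e.left).2 ⟨i5, i2⟩
  · intro hci
    exact SchImg.mono_of_repWith_isClosedImmersion f'.hom hci

end Groth.Agent.Lib.Helper6.WhereMono
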