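import Mathlib

set_option autoImplicit false

namespace Groth.Agent.Lib.Helper6.WronskA

open Polynomial

variable {k : Type*} [Field k]

/-- The operator `T(h) = X (X-1) h' - (a (X-1) + b X) h`; `T(h)/(X^(a+1) (X-1)^(b+1))` is the
derivative of `h / (X^a (X-1)^b)`. -/
noncomputable def T (a b : ℕ) (h : k[X]) : k[X] :=
  X * (X - 1) * derivative h - ((a : k[X]) * (X - 1) + (b : k[X]) * X) * h

lemma T_zero (a b : ℕ) : T a b (0 : k[X]) = 0 := by simp [T]

lemma T_add (a b : ℕ) (f g : k[X]) : T a b (f + g) = T a b f + T a b g := by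
  simp only [T, derivative_add]; ring

lemma T_sub (a b : ℕ) (f g : k[X]) : T a b (f - g) = T a b f - T a b g := by
  simp only [T, derivative_sub]; ring

lemma T_C_mul (a b : ℕ) (c : k) (f : k[X]) : T a b (C c * f) = C c * T a b f := by
  simp only [T, derivative_C_mul]; ring

lemma T_mul (a b : ℕ) (f h : k[X]) :
    T a b (f * h) = X * (X - 1) * derivative f * h + f * T a b h := by
  simp only [T, derivative_mul]; ring

lemma X_sub_C_mul_deriv_pow (c : k) (n : ℕ) :
    (X - C c) * derivative ((X - C c) ^ n) = (n : k[X]) * (X - C c) ^ n := by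
  cases n with
  | zero => simp
  | succ n =>
    rw [derivative_X_sub_C_pow, Nat.add_sub_cancel, C_eq_natCast]
    ring

lemma X_mul_deriv_pow (n : ℕ) :
    (X : k[X]) * derivative (X ^ n) = (n : k[X]) * X ^ n := by
  have := X_sub_C_mul_deriv_pow (0 : k) n
  simpa using this

lemma X_sub_one_mul_deriv_pow (n : ℕ) :
    ((X : k[X]) - 1) * derivative ((X - 1) ^ n) = (n : k[X]) * (X - 1) ^ n := by
  have := X_sub_C_mul_deriv_pow (1 : k) n
  simpa using this

/-- `X^a (X-1)^b`, the kernel of `T`. -/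
noncomputable def D0 (a b : ℕ) : k[X] := X ^ a * (X - 1) ^ b

lemma T_D0 (a b : ℕ) : T a b (D0 a b : k[X]) = 0 := by
  have h1 := X_mul_deriv_pow (k := k) a
  have h2 := X_sub_one_mul_deriv_pow (k := k) b
  unfold T D0
  rw [derivative_mul]
  linear_combination ((X - 1) * (X - 1) ^ b) * h1 + (X * X ^ a) * h2

lemma monic_X_sub_one : ((X : k[X]) - 1).Monic := by
  have := monic_X_sub_C (1 : k); simpa using this

lemma natDegree_X_sub_one : ((X : k[X]) - 1).natDegree = 1 := by
  have := natDegree_X_sub_C (1 : k); simpa using this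

lemma monic_D0 (a b : ℕ) : (D0 a b : k[X]).Monic :=
  (monic_X_pow a).mul (monic_X_sub_one.pow b)

lemma natDegree_D0 (a b : ℕ) : (D0 a b : k[X]).natDegree = a + b := by
  unfold D0
  rw [(monic_X_pow a).natDegree_mul (monic_X_sub_one.pow b), natDegree_X_pow,
    monic_X_sub_one.natDegree_pow, natDegree_X_sub_one, mul_one]

lemma eval_D0 (a b : ℕ) (p : k) : (D0 a b : k[X]).eval p = p ^ a * (p - 1) ^ b := by
  simp [D0]

lemma coeff_T (a b : ℕ) (h : k[X]) (n : ℕ) :
    (T a b h).coeff (n + 2) =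
      ((n : k) + 1 - ((a : k) + b)) * h.coeff (n + 1) - ((n : k) + 2 - a) * h.coeff (n + 2) := by
  have e : T a b h = X ^ 2 * derivative h - X * derivative h
      - C ((a : k) + b) * (X * h) + C (a : k) * h := by
    unfold T; simp only [C_add, C_eq_natCast]; ring
  have e1 : (X ^ 2 * derivative h).coeff (n + 2) = (derivative h).coeff n := coeff_X_pow_mul _ 2 n
  have e2 : (X * derivative h).coeff (n + 2) = (derivative h).coeff (n + 1) :=
    coeff_X_mul _ (n + 1)
  have e3 : (X * h).coeff (n + 2) = h.coeff (n + 1) := coeff_X_mul _ (n + 1)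
  rw [e]
  simp only [coeff_add, coeff_sub, coeff_C_mul, e1, e2, e3, coeff_derivative]
  push_cast
  ring

lemma natDegree_T_le (a b : ℕ) (h : k[X]) : (T a b h).natDegree ≤ h.natDegree + 1 := by
  rw [natDegree_le_iff_coeff_eq_zero]
  intro m hm
  obtain ⟨n, rfl⟩ : ∃ n, m = n + 2 := ⟨m - 2, by omega⟩
  rw [coeff_T, coeff_eq_zero_of_natDegree_lt (by omega), coeff_eq_zero_of_natDegree_lt (by omega)]
  simp

lemma coeff_T_top (a b : ℕ) (h : k[X]) (hd : h.natDegree ≤ a + b + 1) :
    (T a b h).coeff (a + b + 2) = h.coeff (a + b + 1) := by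
  have h0 : h.coeff (a + b + 2) = 0 := coeff_eq_zero_of_natDegree_lt (by omega)
  rw [coeff_T, h0]
  push_cast
  ring

lemma coeff_T_next (a b : ℕ) (hab : 0 < a + b) (h : k[X]) :
    (T a b h).coeff (a + b + 1) = -((b : k) + 1) * h.coeff (a + b + 1) := by
  obtain ⟨n, hn⟩ : ∃ n, a + b = n + 1 := ⟨a + b - 1, by omega⟩
  have hn' : (n : k) + 1 = (a : k) + b := by exact_mod_cast congrArg (Nat.cast : ℕ → k) hn.symm
  have e : a + b + 1 = n + 2 := by omega
  rw [e, coeff_T]
  linear_combination (h.coeff (n + 1) - h.coeff (n + 2)) * hn'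

/-- the relation between the two top coefficients of a member of the image of `T` -/
lemma coeff_T_rel (a b : ℕ) (hab : 0 < a + b) (h : k[X]) (hd : h.natDegree ≤ a + b + 1) :
    (T a b h).coeff (a + b + 1) = -((b : k) + 1) * (T a b h).coeff (a + b + 2) := by
  rw [coeff_T_next a b hab, coeff_T_top a b h hd]

lemma T_X_pow_mul (a b : ℕ) (n : k[X]) :
    T a b (X ^ a * n) = X ^ (a + 1) * ((X - 1) * derivative n - (b : k[X]) * n) := by
  have h1 := X_mul_deriv_pow (k := k) a
  rw [T_mul]; unfold T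
  linear_combination ((X - 1) * n) * h1

lemma T_X_sub_one_pow_mul (a b : ℕ) (n : k[X]) :
    T a b ((X - 1) ^ b * n) = (X - 1) ^ (b + 1) * (X * derivative n - (a : k[X]) * n) := by
  have h2 := X_sub_one_mul_deriv_pow (k := k) b
  rw [T_mul]; unfold T
  linear_combination (X * n) * h2

lemma solve [CharZero k] (c : k) (b : ℕ) (m : k[X]) (hm : m.natDegree < b) :
    ∃ n : k[X], n.natDegree < b ∧ (X - C c) * derivative n - (b : k[X]) * n = m := by
  set t := taylor c m with ht
  refine ⟨∑ r ∈ Finset.range b, C (t.coeff r / ((r : k) - b)) * (X - C c) ^ r, ?_, ?_⟩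
  · have : (∑ r ∈ Finset.range b, C (t.coeff r / ((r : k) - b)) * (X - C c) ^ r).natDegree
        ≤ b - 1 := by
      refine natDegree_sum_le_of_forall_le _ _ fun r hr => ?_
      have hr' := Finset.mem_range.1 hr
      calc (C (t.coeff r / ((r : k) - b)) * (X - C c) ^ r).natDegree
          ≤ ((X - C c) ^ r).natDegree := natDegree_C_mul_le _ _
        _ ≤ r * (X - C c).natDegree := natDegree_pow_le
        _ = r := by rw [natDegree_X_sub_C, mul_one]
        _ ≤ b - 1 := by omega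
    omega
  · rw [derivative_sum, Finset.mul_sum, Finset.mul_sum, ← Finset.sum_sub_distrib]
    have key : ∀ r ∈ Finset.range b,
        (X - C c) * derivative (C (t.coeff r / ((r : k) - b)) * (X - C c) ^ r)
          - (b : k[X]) * (C (t.coeff r / ((r : k) - b)) * (X - C c) ^ r)
        = C (t.coeff r) * (X - C c) ^ r := by
      intro r hr
      rw [derivative_C_mul]
      have h3 := X_sub_C_mul_deriv_pow c r
      have hne : (r : k) - b ≠ 0 := by
        have : (r : k) ≠ b := by exact_mod_cast (Finset.mem_range.1 hr).ne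
        exact sub_ne_zero.2 this
      have h4 : C (t.coeff r / ((r : k) - b)) * ((r : k[X]) - (b : k[X])) = C (t.coeff r) := by
        rw [← C_eq_natCast, ← C_eq_natCast, ← C_sub, ← C_mul, div_mul_cancel₀ _ hne]
      linear_combination (C (t.coeff r / ((r : k) - b))) * h3 + ((X - C c) ^ r) * h4
    rw [Finset.sum_congr rfl key]
    have h5 : t.sum (fun i a => C a * (X - C c) ^ i)
        = ∑ r ∈ Finset.range b, C (t.coeff r) * (X - C c) ^ r :=
      sum_over_range' t (fun n => by simp) b (by rwa [ht, natDegree_taylor])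
    rw [← h5]
    exact sum_taylor_eq m c

theorem exists_of_mem_V [CharZero k] (a b : ℕ) (V : Submodule k k[X])
    (hV : V = ((Ideal.span {(X : k[X]) ^ (a + 1)}).restrictScalars k ⊓ degreeLE k ↑(a + b)) ⊔
      ((Ideal.span {((X : k[X]) - 1) ^ (b + 1)}).restrictScalars k ⊓ degreeLE k ↑(a + b)) ⊔
      Submodule.span k {(X : k[X]) ^ (a + 1) * (X - 1) ^ (b + 1)})
    (f : k[X]) (hf : f ∈ V) : ∃ h : k[X], h.natDegree ≤ a + b + 1 ∧ T a b h = f := by
  rw [hV] at hf
  obtain ⟨y, hy, z, hz, rfl⟩ := Submodule.mem_sup.1 hf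
  obtain ⟨u, hu, v, hv, rfl⟩ := Submodule.mem_sup.1 hy
  -- piece 1
  obtain ⟨h1, hd1, e1⟩ : ∃ h : k[X], h.natDegree ≤ a + b + 1 ∧ T a b h = u := by
    obtain ⟨hu1, hu2⟩ := Submodule.mem_inf.1 hu
    rw [Submodule.restrictScalars_mem, Ideal.mem_span_singleton] at hu1
    obtain ⟨m, rfl⟩ := hu1
    by_cases hm0 : m = 0
    · exact ⟨0, by simp, by rw [T_zero, hm0, mul_zero]⟩
    have hdeg : (X ^ (a + 1) * m : k[X]).natDegree ≤ a + b :=
      natDegree_le_of_degree_le (mem_degreeLE.1 hu2)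
    rw [natDegree_mul (pow_ne_zero _ X_ne_zero) hm0, natDegree_X_pow] at hdeg
    obtain ⟨n, hn, en⟩ := solve (1 : k) b m (by omega)
    rw [C_1] at en
    refine ⟨X ^ a * n, ?_, by rw [T_X_pow_mul, en]⟩
    calc (X ^ a * n : k[X]).natDegree ≤ (X ^ a : k[X]).natDegree + n.natDegree := natDegree_mul_le
      _ ≤ a + b + 1 := by rw [natDegree_X_pow]; omega
  -- piece 2
  obtain ⟨h2, hd2, e2⟩ : ∃ h : k[X], h.natDegree ≤ a + b + 1 ∧ T a b h = v := by
    obtain ⟨hv1, hv2⟩ := Submodule.mem_inf.1 hv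
    rw [Submodule.restrictScalars_mem, Ideal.mem_span_singleton] at hv1
    obtain ⟨m, rfl⟩ := hv1
    by_cases hm0 : m = 0
    · exact ⟨0, by simp, by rw [T_zero, hm0, mul_zero]⟩
    have hdeg : ((X - 1) ^ (b + 1) * m : k[X]).natDegree ≤ a + b :=
      natDegree_le_of_degree_le (mem_degreeLE.1 hv2)
    rw [natDegree_mul (pow_ne_zero _ monic_X_sub_one.ne_zero) hm0,
      monic_X_sub_one.natDegree_pow, natDegree_X_sub_one, mul_one] at hdeg
    obtain ⟨n, hn, en⟩ := solve (0 : k) a m (by omega)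
    rw [C_0, sub_zero] at en
    refine ⟨(X - 1) ^ b * n, ?_, by rw [T_X_sub_one_pow_mul, en]⟩
    calc ((X - 1) ^ b * n : k[X]).natDegree
        ≤ ((X - 1) ^ b : k[X]).natDegree + n.natDegree := natDegree_mul_le
      _ ≤ a + b + 1 := by
        rw [monic_X_sub_one.natDegree_pow, natDegree_X_sub_one, mul_one]; omega
  -- piece 3
  obtain ⟨h3, hd3, e3⟩ : ∃ h : k[X], h.natDegree ≤ a + b + 1 ∧ T a b h = z := by
    obtain ⟨c, rfl⟩ := Submodule.mem_span_singleton.1 hz
    refine ⟨C c * ((X - 1) * D0 a b), ?_, ?_⟩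
    · calc (C c * ((X - 1) * D0 a b) : k[X]).natDegree
          ≤ ((X - 1) * D0 a b : k[X]).natDegree := natDegree_C_mul_le _ _
        _ ≤ ((X : k[X]) - 1).natDegree + (D0 a b : k[X]).natDegree := natDegree_mul_le
        _ = a + b + 1 := by rw [natDegree_X_sub_one, natDegree_D0]; ring
    · rw [T_C_mul, T_mul, T_D0, smul_eq_C_mul]
      simp only [derivative_sub, derivative_X, derivative_one, D0]
      ring
  refine ⟨h1 + h2 + h3, ?_, by rw [T_add, T_add, e1, e2, e3]⟩
  exact (natDegree_add_le _ _).trans (max_le ((natDegree_add_le _ _).trans (max_le hd1 hd2)) hd3)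

/-- order lifting at a point `p ≠ 0, 1` -/
lemma lift_at [CharZero k] (a b : ℕ) (p : k) (hp0 : p ≠ 0) (hp1 : p ≠ 1) (h : k[X]) (m : ℕ)
    (hT : (X - C p) ^ m ∣ T a b h) (hh : (X - C p) ∣ h) : (X - C p) ^ (m + 1) ∣ h := by
  induction m with
  | zero => simpa using hh
  | succ m ih =>
    obtain ⟨r, hr⟩ := ih (dvd_trans (pow_dvd_pow _ (Nat.le_succ m)) hT)
    rw [hr, T_mul, derivative_X_sub_C_pow, Nat.add_sub_cancel] at hT
    have h1 : (X - C p) ^ (m + 1) ∣
        X * (X - 1) * (C ((m + 1 : ℕ) : k) * (X - C p) ^ m) * r :=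
      (dvd_add_left (dvd_mul_right ((X - C p) ^ (m + 1)) (T a b r))).1 hT
    have h2 : (X - C p) ∣ X * (X - 1) * C ((m + 1 : ℕ) : k) * r := by
      have e : X * (X - 1) * (C ((m + 1 : ℕ) : k) * (X - C p) ^ m) * r
          = (X - C p) ^ m * (X * (X - 1) * C ((m + 1 : ℕ) : k) * r) := by ring
      rw [e, pow_succ] at h1
      exact (mul_dvd_mul_iff_left (pow_ne_zero m (X_sub_C_ne_zero p))).1 h1
    rw [dvd_iff_isRoot] at h2
    simp only [IsRoot.def, eval_mul, eval_X, eval_sub, eval_one, eval_C] at h2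
    have hr0 : r.eval p = 0 := by
      have hm : ((m + 1 : ℕ) : k) ≠ 0 := Nat.cast_ne_zero.2 (Nat.succ_ne_zero m)
      have : p * (p - 1) * ((m + 1 : ℕ) : k) ≠ 0 :=
        mul_ne_zero (mul_ne_zero hp0 (sub_ne_zero.2 hp1)) hm
      exact (mul_eq_zero.1 h2).resolve_left this
    obtain ⟨r', hr'⟩ := dvd_iff_isRoot.2 hr0
    exact ⟨r', by rw [hr, hr']; ring⟩

/-- order lifting at `0`, below order `a` -/
lemma lift_zero [CharZero k] (a b : ℕ) (h : k[X]) (m : ℕ) (hm : m ≤ a)
    (hT : X ^ m ∣ T a b h) : X ^ m ∣ h := by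
  induction m with
  | zero => simp
  | succ m ih =>
    obtain ⟨r, hr⟩ := ih (by omega) (dvd_trans (pow_dvd_pow _ (Nat.le_succ m)) hT)
    have h1 := X_mul_deriv_pow (k := k) m
    have e : T a b h = X ^ m * ((X - 1) * (m : k[X]) * r + T a b r) := by
      rw [hr, T_mul]; linear_combination ((X - 1) * r) * h1
    rw [e, pow_succ] at hT
    have h2 : X ∣ (X - 1) * (m : k[X]) * r + T a b r :=
      (mul_dvd_mul_iff_left (pow_ne_zero m X_ne_zero)).1 hT
    rw [X_dvd_iff, coeff_zero_eq_eval_zero] at h2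
    simp only [T, eval_add, eval_mul, eval_sub, eval_X, eval_one, eval_natCast] at h2
    have h3 : ((a : k) - m) * r.eval 0 = 0 := by linear_combination h2
    have hne : (a : k) - m ≠ 0 := sub_ne_zero.2 (by exact_mod_cast (by omega : a ≠ m))
    have hr0 := (mul_eq_zero.1 h3).resolve_left hne
    have hXr : X ∣ r := X_dvd_iff.2 (by rwa [coeff_zero_eq_eval_zero])
    obtain ⟨r', hr'⟩ := hXr
    exact ⟨r', by rw [hr, hr']; ring⟩

/-- after subtracting a multiple of `D0`, `h` vanishes at `p` to order one more than `T h` -/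
lemma lift_sub [CharZero k] (a b : ℕ) (p : k) (hp0 : p ≠ 0) (hp1 : p ≠ 1) (h : k[X]) (m : ℕ)
    (hT : (X - C p) ^ m ∣ T a b h) : ∃ s : k, (X - C p) ^ (m + 1) ∣ h - C s * D0 a b := by
  have hD : (D0 a b : k[X]).eval p ≠ 0 := by
    rw [eval_D0]; exact mul_ne_zero (pow_ne_zero _ hp0) (pow_ne_zero _ (sub_ne_zero.2 hp1))
  refine ⟨h.eval p / (D0 a b : k[X]).eval p, lift_at a b p hp0 hp1 _ m ?_ ?_⟩
  · rwa [T_sub, T_C_mul, T_D0, mul_zero, sub_zero]
  · rw [dvd_iff_isRoot, IsRoot.def, eval_sub, eval_mul, eval_C, div_mul_cancel₀ _ hD, sub_self]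

lemma T_sub_D0 (a b : ℕ) (h : k[X]) (s : k) : T a b (h - C s * D0 a b) = T a b h := by
  rw [T_sub, T_C_mul, T_D0, mul_zero, sub_zero]

lemma natDegree_sub_D0_le (a b : ℕ) (h : k[X]) (s : k) (hd : h.natDegree ≤ a + b + 1) :
    (h - C s * D0 a b).natDegree ≤ a + b + 1 := by
  refine (natDegree_sub_le _ _).trans (max_le hd ?_)
  calc (C s * D0 a b : k[X]).natDegree ≤ (D0 a b : k[X]).natDegree := natDegree_C_mul_le _ _
    _ ≤ a + b + 1 := by rw [natDegree_D0]; omega

/-- from a nonzero multiple (of the same degree bound) of a monic `g` in the image of `T` -/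
lemma exists_T_eq_of_dvd (a b : ℕ) (g f h : k[X]) (hg : g.Monic) (hf0 : f ≠ 0) (hgf : g ∣ f)
    (hfd : f.natDegree ≤ g.natDegree) (hh : h.natDegree ≤ a + b + 1) (hT : T a b h = f) :
    ∃ h' : k[X], h'.natDegree ≤ a + b + 1 ∧ T a b h' = g := by
  obtain ⟨r, rfl⟩ := hgf
  have hr0 : r ≠ 0 := by rintro rfl; exact hf0 (mul_zero _)
  rw [natDegree_mul hg.ne_zero hr0] at hfd
  have hr : r.natDegree = 0 := by omega
  obtain ⟨c, rfl⟩ : ∃ c, r = C c := ⟨r.coeff 0, eq_C_of_natDegree_eq_zero hr⟩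
  have hc : c ≠ 0 := by rintro rfl; exact hr0 C_0
  refine ⟨C c⁻¹ * h, (natDegree_C_mul_le _ _).trans hh, ?_⟩
  rw [T_C_mul, hT, mul_comm g, ← mul_assoc, ← C_mul, inv_mul_cancel₀ hc, C_1, one_mul]

end Groth.Agent.Lib.Helper6.WronskA
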