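import Mathlib
import Groth.Agent.Lib.Helper6.WronskA

set_option autoImplicit false

namespace Groth.Agent.Lib.Helper6.WronskB

open Polynomial Groth.Agent.Lib.Helper6.WronskA

variable {k : Type*} [Field k]

lemma monic_gpq (p q : k) (i j : ℕ) : ((X - C p) ^ i * (X - C q) ^ j).Monic :=
  ((monic_X_sub_C p).pow i).mul ((monic_X_sub_C q).pow j)

lemma natDegree_gpq (p q : k) (i j : ℕ) : ((X - C p) ^ i * (X - C q) ^ j).natDegree = i + j := by
  rw [((monic_X_sub_C p).pow i).natDegree_mul ((monic_X_sub_C q).pow j),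
    (monic_X_sub_C p).natDegree_pow, (monic_X_sub_C q).natDegree_pow, natDegree_X_sub_C,
    natDegree_X_sub_C, mul_one, mul_one]

/-- existence of a nonzero element from `1 ≤ finrank` -/
lemma exists_ne_zero_of_finrank_pos (M : Submodule k k[X]) (h : 1 ≤ Module.finrank k ↥M) :
    ∃ f ∈ M, f ≠ 0 := by
  have : M ≠ ⊥ := by
    rintro rfl
    rw [finrank_bot] at h
    omega
  exact Submodule.exists_mem_ne_zero_of_ne_bot this

/-- from `2 ≤ finrank`, a nonzero element killed by a given functional -/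
lemma exists_ne_zero_of_two_le_finrank (M : Submodule k k[X]) (h : 2 ≤ Module.finrank k ↥M)
    (φ : k[X] →ₗ[k] k) : ∃ f ∈ M, f ≠ 0 ∧ φ f = 0 := by
  by_contra hcon
  push Not at hcon
  have hinj : Function.Injective (φ.comp M.subtype) := by
    rw [injective_iff_map_eq_zero]
    intro x hx
    by_contra hx0
    exact hcon x.1 x.2 (fun h0 => hx0 (Subtype.ext h0)) hx
  have := LinearMap.finrank_le_finrank_of_injective hinj
  rw [Module.finrank_self] at this
  omega

theorem main (k : Type*) [Field k] [CharZero k] (a b i j : ℕ) (ha : 0 < a) (hb : 0 < b)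
    (hi : 0 < i) (hiab : i ≤ a + b) (hj : i + j = a + b + 2)
    (V : Submodule k (Polynomial k))
    (hV : V = ((Ideal.span {(X : Polynomial k) ^ (a + 1)}).restrictScalars k ⊓
        Polynomial.degreeLE k ↑(a + b)) ⊔
      ((Ideal.span {((X : Polynomial k) - 1) ^ (b + 1)}).restrictScalars k ⊓
        Polynomial.degreeLE k ↑(a + b)) ⊔
      Submodule.span k {(X : Polynomial k) ^ (a + 1) * (X - 1) ^ (b + 1)})
    (p q : k) (hp0 : p ≠ 0) (hp1 : p ≠ 1) (hq0 : q ≠ 0) (hq1 : q ≠ 1) :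
    ¬ (1 ≤ Module.finrank k
          ↥(V ⊓ (Ideal.span {(X - C p) ^ i * (X - C q) ^ j}).restrictScalars k) ∧
       2 ≤ Module.finrank k
          ↥(V ⊓ (Ideal.span {(X - C p) ^ (i - 1) * (X - C q) ^ (j - 1)}).restrictScalars k)) := by
  rintro ⟨c1, c2⟩
  obtain ⟨i', rfl⟩ : ∃ i', i = i' + 1 := ⟨i - 1, by omega⟩
  obtain ⟨j', rfl⟩ : ∃ j', j = j' + 1 := ⟨j - 1, by omega⟩
  have hi1 : i' + 1 - 1 = i' := by omega
  have hj1 : j' + 1 - 1 = j' := by omega
  rw [hi1, hj1] at c2
  set g1 : k[X] := (X - C p) ^ (i' + 1) * (X - C q) ^ (j' + 1) with hg1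
  set g0 : k[X] := (X - C p) ^ i' * (X - C q) ^ j' with hg0
  have hg1m : g1.Monic := monic_gpq p q _ _
  have hg0m : g0.Monic := monic_gpq p q _ _
  have hg1d : g1.natDegree = a + b + 2 := by rw [hg1, natDegree_gpq]; omega
  have hg0d : g0.natDegree = a + b := by rw [hg0, natDegree_gpq]; omega
  -- cond 1 : g1 is in the image of T
  obtain ⟨h1, hd1, e1⟩ : ∃ h : k[X], h.natDegree ≤ a + b + 1 ∧ T a b h = g1 := by
    obtain ⟨f, hfM, hf0⟩ := exists_ne_zero_of_finrank_pos _ c1
    obtain ⟨hfV, hfI⟩ := Submodule.mem_inf.1 hfM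
    rw [Submodule.restrictScalars_mem, Ideal.mem_span_singleton] at hfI
    obtain ⟨h, hd, e⟩ := exists_of_mem_V a b V hV f hfV
    refine exists_T_eq_of_dvd a b g1 f h hg1m hf0 hfI ?_ hd e
    rw [← e, hg1d]
    exact (natDegree_T_le a b h).trans (by omega)
  -- cond 2 : g0 is in the image of T
  obtain ⟨h0, hd0, e0⟩ : ∃ h : k[X], h.natDegree ≤ a + b + 1 ∧ T a b h = g0 := by
    obtain ⟨f, hfM, hf0, hfc⟩ := exists_ne_zero_of_two_le_finrank _ c2 (lcoeff k (a + b + 2))
    obtain ⟨hfV, hfI⟩ := Submodule.mem_inf.1 hfM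
    rw [Submodule.restrictScalars_mem, Ideal.mem_span_singleton] at hfI
    obtain ⟨h, hd, e⟩ := exists_of_mem_V a b V hV f hfV
    refine exists_T_eq_of_dvd a b g0 f h hg0m hf0 hfI ?_ hd e
    rw [hg0d, natDegree_le_iff_coeff_eq_zero]
    intro m hm
    rw [lcoeff_apply] at hfc
    have hrel := coeff_T_rel (k := k) a b (by omega) h hd
    rw [e, hfc, mul_zero] at hrel
    by_cases hm1 : m = a + b + 1
    · rw [hm1, hrel]
    by_cases hm2 : m = a + b + 2
    · rw [hm2, hfc]
    · apply coeff_eq_zero_of_natDegree_lt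
      rw [← e]
      exact lt_of_le_of_lt (natDegree_T_le a b h) (by omega)
  have hg0ne : g0 ≠ 0 := hg0m.ne_zero
  have hg1ne : g1 ≠ 0 := hg1m.ne_zero
  by_cases hpq : p = q
  · -- p = q : cond 1 alone is contradictory
    subst hpq
    have e : g1 = (X - C p) ^ (i' + 1 + (j' + 1)) := by rw [hg1, ← pow_add]
    obtain ⟨s, hs⟩ := lift_sub a b p hp0 hp1 h1 (i' + 1 + (j' + 1)) (by rw [e1, e])
    have hz : h1 - C s * D0 a b = 0 := by
      refine eq_zero_of_dvd_of_natDegree_lt hs ?_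
      rw [(monic_X_sub_C p).natDegree_pow, natDegree_X_sub_C, mul_one]
      exact lt_of_le_of_lt (natDegree_sub_D0_le a b h1 s hd1) (by omega)
    have := T_sub_D0 a b h1 s
    rw [hz, T_zero, e1] at this
    exact hg1ne this.symm
  · -- p ≠ q
    have hcop : ∀ m n : ℕ, IsCoprime ((X - C p) ^ m) ((X - C q) ^ n) := fun m n =>
      (isCoprime_X_sub_C_of_isUnit_sub (sub_ne_zero.2 hpq).isUnit).pow
    obtain ⟨s0, hs0⟩ := lift_sub a b p hp0 hp1 h0 i' (by rw [e0, hg0]; exact Dvd.intro _ rfl)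
    obtain ⟨t0, ht0⟩ := lift_sub a b q hq0 hq1 h0 j' (by rw [e0, hg0]; exact Dvd.intro_left _ rfl)
    obtain ⟨s1, hs1⟩ := lift_sub a b p hp0 hp1 h1 (i' + 1)
      (by rw [e1, hg1]; exact Dvd.intro _ rfl)
    obtain ⟨t1, ht1⟩ := lift_sub a b q hq0 hq1 h1 (j' + 1)
      (by rw [e1, hg1]; exact Dvd.intro_left _ rfl)
    set H0 := h0 - C s0 * D0 a b with hH0
    set K0 := h0 - C t0 * D0 a b with hK0
    set H1 := h1 - C s1 * D0 a b with hH1
    set K1 := h1 - C t1 * D0 a b with hK1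
    have hH0d : H0.natDegree ≤ a + b + 1 := natDegree_sub_D0_le a b h0 s0 hd0
    have hH1d : H1.natDegree ≤ a + b + 1 := natDegree_sub_D0_le a b h1 s1 hd1
    have hTH0 : T a b H0 = g0 := by rw [hH0, T_sub_D0, e0]
    have hTH1 : T a b H1 = g1 := by rw [hH1, T_sub_D0, e1]
    set E := C (t1 - s1) * H0 - C (t0 - s0) * H1 with hE
    have hE2 : E = C (t1 - s1) * K0 - C (t0 - s0) * K1 := by
      rw [hE, hH0, hK0, hH1, hK1]; simp only [C_sub]; ring
    have hEp : (X - C p) ^ (i' + 1) ∣ E :=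
      dvd_sub (dvd_mul_of_dvd_right hs0 _)
        (dvd_mul_of_dvd_right (dvd_trans (pow_dvd_pow _ (Nat.le_succ _)) hs1) _)
    have hEq : (X - C q) ^ (j' + 1) ∣ E := by
      rw [hE2]
      exact dvd_sub (dvd_mul_of_dvd_right ht0 _)
        (dvd_mul_of_dvd_right (dvd_trans (pow_dvd_pow _ (Nat.le_succ _)) ht1) _)
    have hEd : E.natDegree ≤ a + b + 1 :=
      (natDegree_sub_le _ _).trans (max_le ((natDegree_C_mul_le _ _).trans hH0d)
        ((natDegree_C_mul_le _ _).trans hH1d))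
    have hE0 : E = 0 := by
      refine eq_zero_of_dvd_of_natDegree_lt ((hcop _ _).mul_dvd hEp hEq) ?_
      rw [natDegree_gpq]; omega
    -- apply T
    have hTE : C (t1 - s1) * g0 - C (t0 - s0) * g1 = 0 := by
      have := congrArg (T a b) hE0
      rwa [hE, T_sub, T_C_mul, T_C_mul, hTH0, hTH1, T_zero] at this
    have hg10 : g1 = g0 * ((X - C p) * (X - C q)) := by rw [hg1, hg0]; ring
    have hu : C (t1 - s1) = C (t0 - s0) * ((X - C p) * (X - C q)) := by
      have : g0 * (C (t1 - s1) - C (t0 - s0) * ((X - C p) * (X - C q))) = 0 := by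
        rw [← hTE, hg10]; ring
      exact sub_eq_zero.1 ((mul_eq_zero.1 this).resolve_left hg0ne)
    have hum : ((X - C p) * (X - C q)).Monic := (monic_X_sub_C p).mul (monic_X_sub_C q)
    have hud : ((X - C p) * (X - C q)).natDegree = 2 := by
      rw [(monic_X_sub_C p).natDegree_mul (monic_X_sub_C q), natDegree_X_sub_C,
        natDegree_X_sub_C]
    have hst : t0 - s0 = 0 := by
      have := congrArg (fun f : k[X] => f.coeff 2) hu
      simp only [coeff_C_mul] at this
      have h2 : ((X - C p) * (X - C q)).coeff 2 = 1 := by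
        have := hum.coeff_natDegree; rwa [hud] at this
      rw [h2, mul_one, coeff_C, if_neg (by norm_num)] at this
      exact this.symm
    have hHK : H0 = K0 := by
      have : s0 = t0 := (sub_eq_zero.1 hst).symm
      rw [hH0, hK0, this]
    have hH00 : H0 = 0 := by
      refine eq_zero_of_dvd_of_natDegree_lt
        ((hcop _ _).mul_dvd hs0 (by rw [hHK]; exact ht0)) ?_
      rw [natDegree_gpq]; omega
    rw [hH00, T_zero] at hTH0
    exact hg0ne hTH0.symm

end Groth.Agent.Lib.Helper6.WronskB
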