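import Mathlib
import Groth.Agent.Lib.Helper6.WronskB

set_option autoImplicit false

namespace Groth.Agent.Lib.Helper6.WronskC

open Polynomial Groth.Agent.Lib.Helper6.WronskA Groth.Agent.Lib.Helper6.WronskB

variable {k : Type*} [Field k]

lemma monic_g (q : k) (i j : ℕ) : ((X : k[X]) ^ i * (X - C q) ^ j).Monic :=
  (monic_X_pow i).mul ((monic_X_sub_C q).pow j)

lemma natDegree_g (q : k) (i j : ℕ) : ((X : k[X]) ^ i * (X - C q) ^ j).natDegree = i + j := by
  rw [(monic_X_pow i).natDegree_mul ((monic_X_sub_C q).pow j), natDegree_X_pow,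
    (monic_X_sub_C q).natDegree_pow, natDegree_X_sub_C, mul_one]

lemma nextCoeff_g (q : k) (i j : ℕ) :
    ((X : k[X]) ^ i * (X - C q) ^ j).nextCoeff = -((j : k) * q) := by
  have e : (X : k[X]) ^ i * (X - C q) ^ j = (X - C 0) ^ i * (X - C q) ^ j := by simp
  rw [e, ((monic_X_sub_C (0 : k)).pow i).nextCoeff_mul ((monic_X_sub_C q).pow j),
    (monic_X_sub_C (0 : k)).nextCoeff_pow, (monic_X_sub_C q).nextCoeff_pow,
    nextCoeff_X_sub_C, nextCoeff_X_sub_C]
  simp

theorem main (k : Type*) [Field k] [CharZero k] (a b i j : ℕ) (ha : 0 < a) (hb : 0 < b)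
    (hi : 0 < i) (hiab : i ≤ a + b) (hj : i + j = a + b + 2)
    (V : Submodule k (Polynomial k))
    (hV : V = ((Ideal.span {(X : Polynomial k) ^ (a + 1)}).restrictScalars k ⊓
        Polynomial.degreeLE k ↑(a + b)) ⊔
      ((Ideal.span {((X : Polynomial k) - 1) ^ (b + 1)}).restrictScalars k ⊓
        Polynomial.degreeLE k ↑(a + b)) ⊔
      Submodule.span k {(X : Polynomial k) ^ (a + 1) * (X - 1) ^ (b + 1)})
    (q : k)
    (h1 : 1 ≤ Module.finrank k
      ↥(V ⊓ (Ideal.span {(X : Polynomial k) ^ i * (X - C q) ^ j}).restrictScalars k)) :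
    a + 1 ≤ i := by
  by_contra hcon
  have hia : i ≤ a := by omega
  set g : k[X] := X ^ i * (X - C q) ^ j with hg
  have hgm : g.Monic := monic_g q i j
  have hgd : g.natDegree = a + b + 2 := by rw [hg, natDegree_g]; omega
  have hgne : g ≠ 0 := hgm.ne_zero
  obtain ⟨h, hd, e⟩ : ∃ h : k[X], h.natDegree ≤ a + b + 1 ∧ T a b h = g := by
    obtain ⟨f, hfM, hf0⟩ := exists_ne_zero_of_finrank_pos _ h1
    obtain ⟨hfV, hfI⟩ := Submodule.mem_inf.1 hfM
    rw [Submodule.restrictScalars_mem, Ideal.mem_span_singleton] at hfI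
    obtain ⟨h, hd, e⟩ := exists_of_mem_V a b V hV f hfV
    refine exists_T_eq_of_dvd a b g f h hgm hf0 hfI ?_ hd e
    rw [← e, hgd]
    exact (natDegree_T_le a b h).trans (by omega)
  -- the relation between the two top coefficients
  have hrel := coeff_T_rel (k := k) a b (by omega) h hd
  rw [e] at hrel
  have htop : g.coeff (a + b + 2) = 1 := by
    have := hgm.coeff_natDegree; rwa [hgd] at this
  have hnext : g.coeff (a + b + 1) = -((j : k) * q) := by
    have h2 := nextCoeff_g q i j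
    rw [nextCoeff_of_natDegree_pos (by rw [natDegree_g]; omega), natDegree_g] at h2
    rw [hg, ← h2]
    congr 1
    omega
  rw [htop, hnext, mul_one] at hrel
  have hjq : (j : k) * q = (b : k) + 1 := by linear_combination -hrel
  by_cases hq0 : q = 0
  · rw [hq0, mul_zero] at hjq
    exact Nat.cast_add_one_ne_zero b hjq.symm
  by_cases hq1 : q = 1
  · rw [hq1, mul_one] at hjq
    have : j = b + 1 := by exact_mod_cast hjq
    omega
  -- q ≠ 0, 1
  have hXi : X ^ i ∣ h := lift_zero a b h i hia (by rw [e, hg]; exact Dvd.intro _ rfl)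
  obtain ⟨s, hs⟩ := lift_sub a b q hq0 hq1 h j (by rw [e, hg]; exact Dvd.intro_left _ rfl)
  have hXi' : X ^ i ∣ h - C s * D0 a b := by
    refine dvd_sub hXi (dvd_mul_of_dvd_right ?_ _)
    unfold D0
    exact dvd_mul_of_dvd_left (pow_dvd_pow X hia) _
  have hcop : IsCoprime ((X : k[X]) ^ i) ((X - C q) ^ (j + 1)) := by
    have : IsCoprime (X - C (0 : k)) (X - C q) :=
      isCoprime_X_sub_C_of_isUnit_sub (sub_ne_zero.2 (Ne.symm hq0)).isUnit
    rw [C_0, sub_zero] at this
    exact this.pow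
  have hz : h - C s * D0 a b = 0 := by
    refine eq_zero_of_dvd_of_natDegree_lt (hcop.mul_dvd hXi' hs) ?_
    rw [natDegree_g]
    exact lt_of_le_of_lt (natDegree_sub_D0_le a b h s hd) (by omega)
  have := T_sub_D0 a b h s
  rw [hz, T_zero, e] at this
  exact hgne this.symm

end Groth.Agent.Lib.Helper6.WronskC
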