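import Mathlib
import Groth.Agent.Lib.Helper6.WronskB

set_option autoImplicit false

namespace Groth.Agent.Lib.Helper6.WronskD

open Polynomial Groth.Agent.Lib.Helper6.WronskA Groth.Agent.Lib.Helper6.WronskB

variable {k : Type*} [Field k]

lemma coeff_X_mul_derivative (p : k[X]) (m : ℕ) :
    (X * derivative p).coeff m = (m : k) * p.coeff m := by
  cases m with
  | zero => simp
  | succ m => rw [coeff_X_mul, coeff_derivative]; push_cast; ring

/-- the polynomial `(X+1)^i (X-q)^e` -/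
noncomputable def Phi (q : k) (i e : ℕ) : k[X] := (X + 1) ^ i * (X - C q) ^ e

lemma monic_X_add_one : ((X : k[X]) + 1).Monic := by
  have := monic_X_add_C (1 : k); simpa using this

lemma natDegree_X_add_one : ((X : k[X]) + 1).natDegree = 1 := by
  have := natDegree_X_add_C (1 : k); simpa using this

lemma monic_Phi (q : k) (i e : ℕ) : (Phi q i e).Monic :=
  (monic_X_add_one.pow i).mul ((monic_X_sub_C q).pow e)

lemma natDegree_Phi (q : k) (i e : ℕ) : (Phi q i e).natDegree = i + e := by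
  unfold Phi
  rw [(monic_X_add_one.pow i).natDegree_mul ((monic_X_sub_C q).pow e),
    monic_X_add_one.natDegree_pow, (monic_X_sub_C q).natDegree_pow, natDegree_X_add_one,
    natDegree_X_sub_C, mul_one, mul_one]

lemma ode_Phi (q : k) (i e : ℕ) :
    (X + 1) * (X - C q) * derivative (Phi q i e)
      = ((i : k[X]) * (X - C q) + (e : k[X]) * (X + 1)) * Phi q i e := by
  have hA : ((X : k[X]) + 1) * derivative ((X + 1) ^ i) = (i : k[X]) * (X + 1) ^ i := by
    have := X_sub_C_mul_deriv_pow (-1 : k) i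
    simpa using this
  have hB := X_sub_C_mul_deriv_pow q e
  unfold Phi
  rw [derivative_mul]
  linear_combination ((X - C q) * (X - C q) ^ e) * hA + ((X + 1) * (X + 1) ^ i) * hB

lemma rec_Phi (q : k) (i e m : ℕ) :
    q * ((m : k) + 2) * (Phi q i e).coeff (m + 2)
      = ((m : k) - i - e) * (Phi q i e).coeff m
        + ((1 - q) * ((m : k) + 1) - e + i * q) * (Phi q i e).coeff (m + 1) := by
  set P := Phi q i e with hP
  have h := ode_Phi q i e
  rw [← hP] at h
  have e1 : (X + 1) * (X - C q) * derivative P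
      = X * (X * derivative P) + C (1 - q) * (X * derivative P) - C q * derivative P := by
    simp only [C_sub, C_1]; ring
  have e2 : ((i : k[X]) * (X - C q) + (e : k[X]) * (X + 1)) * P
      = C ((i : k) + e) * (X * P) + C ((e : k) - i * q) * P := by
    simp only [C_sub, C_add, C_mul, C_eq_natCast]; ring
  rw [e1, e2] at h
  have h' := congrArg (fun f : k[X] => f.coeff (m + 1)) h
  simp only [coeff_add, coeff_sub, coeff_C_mul, coeff_X_mul, coeff_X_mul_derivative,
    coeff_derivative] at h'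
  push_cast at h'
  linear_combination -h'

lemma coeff_Phi_eq_zero [CharZero k] (q : k) (hq : q ≠ 0) (i e m : ℕ)
    (h0 : (Phi q i e).coeff m = 0) (h1 : (Phi q i e).coeff (m + 1) = 0) (n : ℕ) :
    (Phi q i e).coeff (m + n) = 0 ∧ (Phi q i e).coeff (m + n + 1) = 0 := by
  induction n with
  | zero => exact ⟨h0, h1⟩
  | succ n ih =>
    refine ⟨ih.2, ?_⟩
    have h := rec_Phi q i e (m + n)
    rw [ih.1, ih.2, mul_zero, mul_zero, add_zero] at h
    have hne : q * (((m + n : ℕ) : k) + 2) ≠ 0 := by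
      refine mul_ne_zero hq ?_
      have : (((m + n : ℕ) : k) + 2) = ((m + n + 2 : ℕ) : k) := by push_cast; ring
      rw [this]
      exact Nat.cast_ne_zero.2 (by omega)
    exact (mul_eq_zero.1 h).resolve_left hne

theorem main (k : Type*) [Field k] [CharZero k] (a b i : ℕ) (ha : 0 < a) (hb : 0 < b)
    (hi : 0 < i) (hiab : i < a + b)
    (V : Submodule k (Polynomial k))
    (hV : V = Polynomial.degreeLE k ↑(a + b - i) ⊓
      LinearMap.ker ((Polynomial.lcoeff k a).comp
        (LinearMap.mulLeft k (((X : Polynomial k) + 1) ^ i))))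
    (q : k) (hq : q ≠ 0) :
    Module.finrank k
      ↥(V ⊓ (Ideal.span {(X - C q) ^ (a + b - i - 1)}).restrictScalars k) ≤ 1 := by
  by_contra hcon
  have c2 : 2 ≤ Module.finrank k
      ↥(V ⊓ (Ideal.span {(X - C q) ^ (a + b - i - 1)}).restrictScalars k) := by omega
  obtain ⟨e, he⟩ : ∃ e, a + b - i = e + 1 := ⟨a + b - i - 1, by omega⟩
  have he' : a + b - i - 1 = e := by omega
  rw [he'] at c2
  obtain ⟨a', rfl⟩ : ∃ a', a = a' + 1 := ⟨a - 1, by omega⟩
  have hBne : ((X - C q) ^ e : k[X]) ≠ 0 := pow_ne_zero _ (X_sub_C_ne_zero q)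
  have hBd : ((X - C q) ^ e : k[X]).natDegree = e := by
    rw [(monic_X_sub_C q).natDegree_pow, natDegree_X_sub_C, mul_one]
  -- membership in V unfolded
  have hmemV : ∀ f : k[X], f ∈ V → f.natDegree ≤ e + 1 ∧ ((X + 1) ^ i * f).coeff (a' + 1) = 0 := by
    intro f hf
    rw [hV, Submodule.mem_inf, mem_degreeLE, LinearMap.mem_ker, he] at hf
    exact ⟨natDegree_le_of_degree_le hf.1, by simpa using hf.2⟩
  -- Step A
  have hA : (Phi q i e).coeff (a' + 1) = 0 := by
    obtain ⟨f, hfM, hf0, hfc⟩ := exists_ne_zero_of_two_le_finrank _ c2 (lcoeff k (e + 1))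
    obtain ⟨hfV, hfI⟩ := Submodule.mem_inf.1 hfM
    rw [Submodule.restrictScalars_mem, Ideal.mem_span_singleton] at hfI
    obtain ⟨hfd, hfk⟩ := hmemV f hfV
    rw [lcoeff_apply] at hfc
    have hfd' : f.natDegree ≤ e := by
      rw [natDegree_le_iff_coeff_eq_zero]
      intro m hm
      by_cases hm1 : m = e + 1
      · rw [hm1, hfc]
      · exact coeff_eq_zero_of_natDegree_lt (by omega)
    obtain ⟨r, rfl⟩ := hfI
    have hr0 : r ≠ 0 := by rintro rfl; exact hf0 (mul_zero _)
    rw [natDegree_mul hBne hr0, hBd] at hfd'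
    obtain ⟨c, rfl⟩ : ∃ c, r = C c := ⟨r.coeff 0, eq_C_of_natDegree_eq_zero (by omega)⟩
    have hc : c ≠ 0 := by rintro rfl; exact hr0 C_0
    have e3 : (X + 1) ^ i * ((X - C q) ^ e * C c) = C c * Phi q i e := by unfold Phi; ring
    rw [e3, coeff_C_mul] at hfk
    exact (mul_eq_zero.1 hfk).resolve_left hc
  -- Step B
  have hB : (Phi q i e).coeff a' = 0 := by
    obtain ⟨f, hfM, hf0, hfc⟩ := exists_ne_zero_of_two_le_finrank _ c2 (lcoeff k 0)
    obtain ⟨hfV, hfI⟩ := Submodule.mem_inf.1 hfM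
    rw [Submodule.restrictScalars_mem, Ideal.mem_span_singleton] at hfI
    obtain ⟨hfd, hfk⟩ := hmemV f hfV
    rw [lcoeff_apply] at hfc
    obtain ⟨r, rfl⟩ := hfI
    have hr0 : r ≠ 0 := by rintro rfl; exact hf0 (mul_zero _)
    rw [coeff_zero_eq_eval_zero, eval_mul, eval_pow, eval_sub, eval_X, eval_C, zero_sub] at hfc
    have hr00 : r.eval 0 = 0 :=
      (mul_eq_zero.1 hfc).resolve_left (pow_ne_zero _ (neg_ne_zero.2 hq))
    have hXr : X ∣ r := X_dvd_iff.2 (by rwa [coeff_zero_eq_eval_zero])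
    obtain ⟨r', rfl⟩ := hXr
    have hr'0 : r' ≠ 0 := by rintro rfl; exact hr0 (mul_zero _)
    rw [natDegree_mul hBne hr0, hBd, natDegree_mul X_ne_zero hr'0, natDegree_X] at hfd
    obtain ⟨c, rfl⟩ : ∃ c, r' = C c := ⟨r'.coeff 0, eq_C_of_natDegree_eq_zero (by omega)⟩
    have hc : c ≠ 0 := by rintro rfl; exact hr'0 C_0
    have e3 : (X + 1) ^ i * ((X - C q) ^ e * (X * C c)) = C c * (X * Phi q i e) := by
      unfold Phi; ring
    rw [e3, coeff_C_mul, coeff_X_mul] at hfk
    exact (mul_eq_zero.1 hfk).resolve_left hc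
  -- Step C
  have hle : a' ≤ i + e := by omega
  obtain ⟨n, hn⟩ : ∃ n, i + e = a' + n := ⟨i + e - a', by omega⟩
  have h0 := (coeff_Phi_eq_zero q hq i e a' hB hA n).1
  rw [← hn] at h0
  have h1 := (monic_Phi q i e).coeff_natDegree
  rw [natDegree_Phi, h0] at h1
  exact zero_ne_one h1

end Groth.Agent.Lib.Helper6.WronskD
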