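import Mathlib

set_option autoImplicit false

namespace Groth.Agent.Lib.Helper6.WronskE

open Polynomial

variable {k : Type*} [Field k]

/-- the coefficient sequence -/
def cf (k : Type*) [Field k] (i j n m : ℕ) : k :=
  if m ≤ n then (((i.choose (n - m)) * (j.choose m) : ℕ) : k) else 0

/-- the polynomial of the statement -/
noncomputable def hpoly (k : Type*) [Field k] (i j n : ℕ) : k[X] :=
  ∑ l ∈ Finset.range (n + 1),
    C (((i.choose l) * (j.choose (n - l)) : ℕ) : k) * X ^ (n - l)

lemma coeff_hpoly (i j n m : ℕ) : (hpoly k i j n).coeff m = cf k i j n m := by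
  unfold hpoly cf
  rw [finsetSum_coeff]
  simp only [coeff_C_mul_X_pow]
  by_cases hm : m ≤ n
  · rw [if_pos hm, Finset.sum_eq_single (n - m)]
    · rw [if_pos (by omega)]
      have : n - (n - m) = m := by omega
      rw [this]
    · intro l hl hne
      rw [Finset.mem_range] at hl
      rw [if_neg (by omega)]
    · intro h
      exact absurd (Finset.mem_range.2 (by omega)) h
  · rw [if_neg hm]
    refine Finset.sum_eq_zero fun l hl => ?_
    rw [if_neg (by omega)]

lemma choose_cast [CharZero k] (N t : ℕ) :
    ((N.choose (t + 1) : ℕ) : k) * ((t : k) + 1) = ((N.choose t : ℕ) : k) * ((N : k) - t) := by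
  by_cases h : t ≤ N
  · have := Nat.choose_succ_right_eq N t
    have h2 : ((N - t : ℕ) : k) = (N : k) - t := Nat.cast_sub h
    rw [← h2]
    exact_mod_cast this
  · rw [Nat.choose_eq_zero_of_lt (by omega), Nat.choose_eq_zero_of_lt (by omega)]
    simp

lemma cf_rec [CharZero k] (i j n m : ℕ) :
    ((m : k) + 1) * ((m : k) + 1 + i - n) * cf k i j n (m + 1)
      = ((m : k) - n) * ((m : k) - j) * cf k i j n m := by
  unfold cf
  by_cases h1 : m + 1 ≤ n
  · rw [if_pos h1, if_pos (by omega)]
    obtain ⟨t, ht⟩ : ∃ t, n = m + 1 + t := ⟨n - (m + 1), by omega⟩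
    have e1 : n - (m + 1) = t := by omega
    have e2 : n - m = t + 1 := by omega
    rw [e1, e2]
    have c1 := choose_cast (k := k) i t
    have c2 := choose_cast (k := k) j m
    have hn : (n : k) = (m : k) + 1 + t := by rw [ht]; push_cast; ring
    rw [hn]
    push_cast
    linear_combination (-((j.choose (m + 1) : ℕ) : k) * ((m : k) + 1)) * c1
      + (((i.choose (t + 1) : ℕ) : k) * ((t : k) + 1)) * c2
  · rw [if_neg h1]
    by_cases h2 : m ≤ n
    · have : m = n := by omega
      rw [this]; simp
    · rw [if_neg h2]; simp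

lemma coeff_X_mul_derivative (p : k[X]) (m : ℕ) :
    (X * derivative p).coeff m = (m : k) * p.coeff m := by
  cases m with
  | zero => simp
  | succ m => rw [coeff_X_mul, coeff_derivative]; push_cast; ring

/-- the hypergeometric differential equation -/
lemma ode [CharZero k] (i j n : ℕ) :
    X * (1 - X) * derivative (derivative (hpoly k i j n))
      + (C ((1 : k) + i - n) - C ((1 : k) - n - j) * X) * derivative (hpoly k i j n)
      - C ((n : k) * j) * hpoly k i j n = 0 := by
  set h := hpoly k i j n with hh
  have e : X * (1 - X) * derivative (derivative h)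
      + (C ((1 : k) + i - n) - C ((1 : k) - n - j) * X) * derivative h
      - C ((n : k) * j) * h
      = derivative (X * derivative h) - X * derivative (X * derivative h)
        + C ((i : k) - n) * derivative h + C ((n : k) + j) * (X * derivative h)
        - C ((n : k) * j) * h := by
    simp only [derivative_mul, derivative_X, C_sub, C_add, C_1]
    ring
  rw [e]
  ext m
  simp only [coeff_add, coeff_sub, coeff_C_mul, coeff_X_mul_derivative, coeff_derivative,
    coeff_zero]
  rw [hh, coeff_hpoly, coeff_hpoly]
  have := cf_rec (k := k) i j n m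
  push_cast
  linear_combination this

theorem main (k : Type*) [Field k] [CharZero k] (i j n : ℕ) (hi : 0 < i) (hj : 0 < j) (c : k)
    (hc0 : c ≠ 0) (hc1 : c ≠ 1) :
    Polynomial.rootMultiplicity c
      (∑ l ∈ Finset.range (n + 1),
        Polynomial.C (((i.choose l) * (j.choose (n - l)) : ℕ) : k) * Polynomial.X ^ (n - l)) ≤ 1 := by
  change rootMultiplicity c (hpoly k i j n) ≤ 1
  set h := hpoly k i j n with hh
  by_contra hcon
  have hmu : 2 ≤ rootMultiplicity c h := by omega
  have hh0 : h ≠ 0 := by
    rintro h0; rw [h0, rootMultiplicity_zero] at hmu; omega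
  have hroot : h.IsRoot c := (rootMultiplicity_pos hh0).1 (by omega)
  have hd1 := derivative_rootMultiplicity_of_root hroot
  have hh'0 : derivative h ≠ 0 := by
    intro h0; rw [h0, rootMultiplicity_zero] at hd1; omega
  have hroot' : (derivative h).IsRoot c := (rootMultiplicity_pos hh'0).1 (by omega)
  have hd2 := derivative_rootMultiplicity_of_root hroot'
  have hh''0 : derivative (derivative h) ≠ 0 := by
    intro h0
    have hdeg := Polynomial.derivative_eq_zero.1 h0
    obtain ⟨x, hx⟩ : ∃ x, derivative h = C x := ⟨_, eq_C_of_natDegree_eq_zero hdeg⟩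
    rw [hx, IsRoot.def, eval_C] at hroot'
    rw [hx, hroot', C_0] at hh'0
    exact hh'0 rfl
  set μ := rootMultiplicity c h with hμ
  have hode := ode (k := k) i j n
  rw [← hh] at hode
  have hdvd : (X - C c) ^ (μ - 1) ∣ X * (1 - X) * derivative (derivative h) := by
    have e : X * (1 - X) * derivative (derivative h)
        = C ((n : k) * j) * h - (C ((1 : k) + i - n) - C ((1 : k) - n - j) * X) * derivative h := by
      linear_combination hode
    rw [e]
    refine dvd_sub (dvd_mul_of_dvd_right ?_ _) (dvd_mul_of_dvd_right ?_ _)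
    · exact dvd_trans (pow_dvd_pow _ (Nat.sub_le _ _)) (pow_rootMultiplicity_dvd h c)
    · rw [← hd1]; exact pow_rootMultiplicity_dvd _ c
  have hX : rootMultiplicity c (X : k[X]) = 0 := by
    apply rootMultiplicity_eq_zero
    rw [IsRoot.def, eval_X]; exact hc0
  have h1X : rootMultiplicity c (1 - X : k[X]) = 0 := by
    apply rootMultiplicity_eq_zero
    rw [IsRoot.def, eval_sub, eval_one, eval_X]
    exact sub_ne_zero.2 (Ne.symm hc1)
  have hXne : (X : k[X]) ≠ 0 := X_ne_zero
  have h1Xne : (1 - X : k[X]) ≠ 0 := by
    intro h0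
    have := congrArg (eval (0 : k)) h0
    simp at this
  have hprod : X * (1 - X) * derivative (derivative h) ≠ 0 :=
    mul_ne_zero (mul_ne_zero hXne h1Xne) hh''0
  have hle := (le_rootMultiplicity_iff hprod).2 hdvd
  rw [rootMultiplicity_mul hprod, rootMultiplicity_mul (mul_ne_zero hXne h1Xne), hX, h1X,
    hd2, hd1] at hle
  omega

end Groth.Agent.Lib.Helper6.WronskE
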