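import Mathlib

set_option autoImplicit false

namespace Groth.Agent.Lib.Helper6.WronskF

open Polynomial

variable {k : Type*} [Field k] {m : ℕ}

/-- `A = ∏ (X - r_j)^(a_j)` -/
noncomputable def A (r : Fin m → k) (a : Fin m → ℕ) : k[X] := ∏ j, (X - C (r j)) ^ (a j)

/-- `B = ∏ (X - r_j)` -/
noncomputable def B (r : Fin m → k) : k[X] := ∏ j, (X - C (r j))

/-- `L = ∑ a_j ∏_{l ≠ j} (X - r_l)`, so that `A' B = A L` -/
noncomputable def L (r : Fin m → k) (a : Fin m → ℕ) : k[X] :=
  ∑ j, (a j : k[X]) * ∏ l ∈ Finset.univ.erase j, (X - C (r l))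

/-- the operator `T(h) = B h' - L h`; `T(h)/(A B) = (h/A)'` -/
noncomputable def Tl (r : Fin m → k) (a : Fin m → ℕ) : k[X] →ₗ[k] k[X] where
  toFun h := B r * derivative h - L r a * h
  map_add' f g := by simp only [derivative_add]; ring
  map_smul' c f := by
    simp only [RingHom.id_apply, smul_eq_C_mul, derivative_C_mul]; ring

lemma Tl_apply (r : Fin m → k) (a : Fin m → ℕ) (h : k[X]) :
    Tl r a h = B r * derivative h - L r a * h := rfl

lemma Tl_mul (r : Fin m → k) (a : Fin m → ℕ) (f h : k[X]) :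
    Tl r a (f * h) = B r * derivative f * h + f * Tl r a h := by
  simp only [Tl_apply, derivative_mul]; ring

lemma Tl_C_mul (r : Fin m → k) (a : Fin m → ℕ) (c : k) (h : k[X]) :
    Tl r a (C c * h) = C c * Tl r a h := by
  rw [← smul_eq_C_mul, map_smul, smul_eq_C_mul]

lemma euler (q : k) (t : ℕ) :
    (X - C q) * derivative ((X - C q) ^ t) = C (t : k) * (X - C q) ^ t := by
  cases t with
  | zero => simp
  | succ n =>
    rw [derivative_X_sub_C_pow, Nat.add_sub_cancel]
    ring

lemma key (r : Fin m → k) (a : Fin m → ℕ) : derivative (A r a) * B r = A r a * L r a := by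
  classical
  unfold A L
  rw [derivative_prod_finset, Finset.sum_mul, Finset.mul_sum]
  refine Finset.sum_congr rfl fun i _ => ?_
  have hA : (∏ j, (X - C (r j)) ^ (a j)) =
      (X - C (r i)) ^ (a i) * ∏ j ∈ Finset.univ.erase i, (X - C (r j)) ^ (a j) :=
    (Finset.mul_prod_erase Finset.univ (fun j => (X - C (r j)) ^ (a j)) (Finset.mem_univ i)).symm
  have hB : B r = (X - C (r i)) * ∏ j ∈ Finset.univ.erase i, (X - C (r j)) := by
    unfold B
    exact (Finset.mul_prod_erase Finset.univ (fun j => (X - C (r j))) (Finset.mem_univ i)).symm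
  have e := euler (r i) (a i)
  rw [hA, hB, ← C_eq_natCast]
  linear_combination ((∏ j ∈ Finset.univ.erase i, (X - C (r j)) ^ (a j)) *
    ∏ j ∈ Finset.univ.erase i, (X - C (r j))) * e

lemma Tl_A (r : Fin m → k) (a : Fin m → ℕ) : Tl r a (A r a) = 0 := by
  rw [Tl_apply]; linear_combination key r a

lemma monic_A (r : Fin m → k) (a : Fin m → ℕ) : (A r a).Monic :=
  monic_prod_of_monic _ _ fun j _ => (monic_X_sub_C _).pow _

lemma A_ne_zero (r : Fin m → k) (a : Fin m → ℕ) : A r a ≠ 0 := (monic_A r a).ne_zero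

lemma natDegree_A (r : Fin m → k) (a : Fin m → ℕ) : (A r a).natDegree = ∑ j, a j := by
  unfold A
  rw [natDegree_prod_of_monic _ _ fun j _ => (monic_X_sub_C _).pow _]
  refine Finset.sum_congr rfl fun j _ => ?_
  rw [(monic_X_sub_C _).natDegree_pow, natDegree_X_sub_C, mul_one]

lemma eval_A_ne_zero (r : Fin m → k) (a : Fin m → ℕ) (q : k) (hq : ∀ j, q ≠ r j) :
    (A r a).eval q ≠ 0 := by
  unfold A
  rw [eval_prod]
  refine Finset.prod_ne_zero_iff.2 fun j _ => ?_
  rw [eval_pow, eval_sub, eval_X, eval_C]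
  exact pow_ne_zero _ (sub_ne_zero.2 (hq j))

lemma eval_B_ne_zero (r : Fin m → k) (q : k) (hq : ∀ j, q ≠ r j) : (B r).eval q ≠ 0 := by
  unfold B
  rw [eval_prod]
  refine Finset.prod_ne_zero_iff.2 fun j _ => ?_
  rw [eval_sub, eval_X, eval_C]
  exact sub_ne_zero.2 (hq j)

/-- the relation of `T` with the quotient rule -/
lemma Tl_rel (r : Fin m → k) (a : Fin m → ℕ) (E : k[X]) :
    Tl r a E * A r a = B r * (derivative E * A r a - E * derivative (A r a)) := by
  rw [Tl_apply]; linear_combination E * key r a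

lemma Tl_eq_of_rel (r : Fin m → k) (a : Fin m → ℕ) (E f : k[X])
    (h : f * A r a = B r * (derivative E * A r a - E * derivative (A r a))) : Tl r a E = f := by
  apply mul_right_cancel₀ (A_ne_zero r a)
  rw [Tl_rel, h]

/-- the span of the polar parts, with pole order `b + 1` at infinity -/
noncomputable def Vsp (r : Fin m → k) (a : Fin m → ℕ) (b : ℕ) : Submodule k k[X] :=
  (degreeLT k b).map (LinearMap.mulLeft k (∏ j, (X - C (r j)) ^ (a j + 1))) ⊔
    ⨆ i, (degreeLT k (a i)).map
      (LinearMap.mulLeft k (∏ j ∈ Finset.univ.erase i, (X - C (r j)) ^ (a j + 1)))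

lemma D_eq (r : Fin m → k) (a : Fin m → ℕ) :
    (∏ j, (X - C (r j)) ^ (a j + 1)) = A r a * B r := by
  unfold A B
  rw [← Finset.prod_mul_distrib]
  exact Finset.prod_congr rfl fun j _ => pow_succ _ _

theorem finrank_degreeLT (n : ℕ) : Module.finrank k (degreeLT k n) = n := by
  rw [(degreeLTEquiv k n).finrank_eq, Module.finrank_fin_fun]

instance finite_degreeLT (n : ℕ) : Module.Finite k (degreeLT k n) :=
  Module.Finite.equiv (degreeLTEquiv k n).symm

lemma mem_degreeLT_of_natDegree_lt {p : k[X]} {n : ℕ} (h : p.natDegree < n) :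
    p ∈ degreeLT k n := by
  rw [mem_degreeLT]
  by_cases h0 : p = 0
  · rw [h0, degree_zero]; exact WithBot.bot_lt_coe _
  · exact (natDegree_lt_iff_degree_lt h0).1 h

lemma natDegree_lt_of_mem_degreeLT {p : k[X]} {n : ℕ} (hn : 0 < n) (h : p ∈ degreeLT k n) :
    p.natDegree < n := by
  by_cases h0 : p = 0
  · rw [h0, natDegree_zero]; exact hn
  · exact (natDegree_lt_iff_degree_lt h0).2 (mem_degreeLT.1 h)

/-- forward inclusion -/
theorem Vsp_le [CharZero k] (r : Fin m → k) (a : Fin m → ℕ) (ha : ∀ j, 1 ≤ a j) (b : ℕ) :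
    Vsp r a b ≤ (degreeLT k ((∑ j, a j) + b + 1)).map (Tl r a) := by
  classical
  have hdegs : ∀ s : Finset (Fin m),
      (∏ j ∈ s, (X - C (r j)) ^ (a j)).natDegree ≤ ∑ j ∈ s, a j := by
    intro s
    refine (natDegree_prod_le _ _).trans (Finset.sum_le_sum fun j _ => ?_)
    refine natDegree_pow_le.trans ?_
    rw [natDegree_X_sub_C, mul_one]
  unfold Vsp
  refine sup_le ?_ (iSup_le fun i => ?_)
  · rw [Submodule.map_le_iff_le_comap, degreeLT_eq_span_X_pow, Submodule.span_le]
    intro p hp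
    rw [Finset.mem_coe, Finset.mem_image] at hp
    obtain ⟨n, hn, rfl⟩ := hp
    rw [Finset.mem_range] at hn
    show LinearMap.mulLeft k (∏ j, (X - C (r j)) ^ (a j + 1)) (X ^ n) ∈
      (degreeLT k ((∑ j, a j) + b + 1)).map (Tl r a)
    rw [LinearMap.mulLeft_apply, D_eq]
    have hn1 : ((n + 1 : ℕ) : k) ≠ 0 := Nat.cast_ne_zero.2 (Nat.succ_ne_zero n)
    refine Submodule.mem_map.2 ⟨C ((n + 1 : ℕ) : k)⁻¹ * (X ^ (n + 1) * A r a), ?_, ?_⟩
    · apply mem_degreeLT_of_natDegree_lt
      calc (C ((n + 1 : ℕ) : k)⁻¹ * (X ^ (n + 1) * A r a)).natDegree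
          ≤ (X ^ (n + 1) * A r a).natDegree := natDegree_C_mul_le _ _
        _ ≤ (X ^ (n + 1) : k[X]).natDegree + (A r a).natDegree := natDegree_mul_le
        _ < (∑ j, a j) + b + 1 := by rw [natDegree_X_pow, natDegree_A]; omega
    · rw [Tl_C_mul, Tl_mul, Tl_A, derivative_X_pow, Nat.add_sub_cancel, mul_zero, add_zero]
      have : C ((n + 1 : ℕ) : k)⁻¹ * C ((n + 1 : ℕ) : k) = 1 := by
        rw [← C_mul, inv_mul_cancel₀ hn1, C_1]
      linear_combination (B r * X ^ n * A r a) * this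
  · rw [Submodule.map_le_iff_le_comap]
    intro Q hQ
    show LinearMap.mulLeft k (∏ j ∈ Finset.univ.erase i, (X - C (r j)) ^ (a j + 1)) Q ∈
      (degreeLT k ((∑ j, a j) + b + 1)).map (Tl r a)
    rw [LinearMap.mulLeft_apply]
    have hQn : Q.natDegree < a i := natDegree_lt_of_mem_degreeLT (ha i) hQ
    set Ai := ∏ j ∈ Finset.univ.erase i, (X - C (r j)) ^ (a j) with hAi'
    set Bi := ∏ j ∈ Finset.univ.erase i, (X - C (r j)) with hBi'
    have hAi : A r a = (X - C (r i)) ^ (a i) * Ai :=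
      (Finset.mul_prod_erase Finset.univ (fun j => (X - C (r j)) ^ (a j))
        (Finset.mem_univ i)).symm
    have hBi : B r = (X - C (r i)) * Bi :=
      (Finset.mul_prod_erase Finset.univ (fun j => (X - C (r j))) (Finset.mem_univ i)).symm
    have hDi : (∏ j ∈ Finset.univ.erase i, (X - C (r j)) ^ (a j + 1)) = Ai * Bi := by
      rw [hAi', hBi', ← Finset.prod_mul_distrib]
      exact Finset.prod_congr rfl fun j _ => pow_succ _ _
    have hsum := sum_taylor_eq Q (r i)
    rw [← hsum, Polynomial.sum_def, Finset.mul_sum]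
    refine Submodule.sum_mem _ fun l hl => ?_
    have hl' : l < a i := lt_of_le_of_lt
      ((le_natDegree_of_mem_supp l hl).trans (natDegree_taylor Q (r i)).le) hQn
    have hu : ((l : k) - (a i : k)) ≠ 0 :=
      sub_ne_zero.2 (fun h => hl'.ne (Nat.cast_injective h))
    have hT : Tl r a (Ai * (X - C (r i)) ^ l)
        = C ((l : k) - (a i : k)) * (Ai * Bi * (X - C (r i)) ^ l) := by
      apply Tl_eq_of_rel
      have e1 := euler (r i) l
      have e2 := euler (r i) (a i)
      rw [hAi, hBi, derivative_mul, derivative_mul, C_sub]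
      linear_combination (-(Bi * Ai ^ 2 * (X - C (r i)) ^ (a i))) * e1
        + (Bi * Ai ^ 2 * (X - C (r i)) ^ l) * e2
    refine Submodule.mem_map.2
      ⟨C ((taylor (r i) Q).coeff l / ((l : k) - (a i : k))) * (Ai * (X - C (r i)) ^ l), ?_, ?_⟩
    · apply mem_degreeLT_of_natDegree_lt
      have h1 := hdegs (Finset.univ.erase i)
      have h2 : a i + ∑ j ∈ Finset.univ.erase i, a j = ∑ j, a j :=
        Finset.add_sum_erase Finset.univ a (Finset.mem_univ i)
      calc (C ((taylor (r i) Q).coeff l / ((l : k) - (a i : k))) *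
            (Ai * (X - C (r i)) ^ l)).natDegree
          ≤ (Ai * (X - C (r i)) ^ l).natDegree := natDegree_C_mul_le _ _
        _ ≤ Ai.natDegree + ((X - C (r i)) ^ l).natDegree := natDegree_mul_le
        _ ≤ (∑ j ∈ Finset.univ.erase i, a j) + l := by
            refine add_le_add h1 (natDegree_pow_le.trans ?_)
            rw [natDegree_X_sub_C, mul_one]
        _ < (∑ j, a j) + b + 1 := by omega
    · rw [Tl_C_mul, hT, hDi, ← mul_assoc, ← C_mul, div_mul_cancel₀ _ hu]
      ring

theorem finrank_ge (r : Fin m → k) (hr : Function.Injective r) (a : Fin m → ℕ) (b : ℕ)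
    [FiniteDimensional k (Vsp r a b)] :
    (∑ j, a j) + b ≤ Module.finrank k (Vsp r a b) := by
  classical
  obtain ⟨D, hD⟩ : ∃ D : k[X], D = ∏ j, (X - C (r j)) ^ (a j + 1) := ⟨_, rfl⟩
  obtain ⟨Di, hDi⟩ : ∃ Di : Fin m → k[X], ∀ i, Di i =
      ∏ j ∈ Finset.univ.erase i, (X - C (r j)) ^ (a j + 1) := ⟨_, fun _ => rfl⟩
  let Φ : (degreeLT k b × (∀ i : Fin m, degreeLT k (a i))) →ₗ[k] k[X] :=
    { toFun := fun x => D * (x.1 : k[X]) + ∑ i, Di i * ((x.2 i : degreeLT k (a i)) : k[X])
      map_add' := by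
        intro x y
        simp only [Prod.fst_add, Prod.snd_add, Pi.add_apply, Submodule.coe_add, mul_add,
          Finset.sum_add_distrib]
        ring
      map_smul' := by
        intro c x
        simp only [Prod.smul_fst, Prod.smul_snd, Pi.smul_apply, Submodule.coe_smul,
          RingHom.id_apply, mul_smul_comm, Finset.smul_sum, smul_add] }
  have hΦ : ∀ x, Φ x = D * (x.1 : k[X]) +
      ∑ i, Di i * ((x.2 i : degreeLT k (a i)) : k[X]) := fun x => rfl
  have hrange : LinearMap.range Φ ≤ Vsp r a b := by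
    rintro _ ⟨x, rfl⟩
    rw [hΦ]
    unfold Vsp
    refine Submodule.add_mem _ (Submodule.mem_sup_left ?_) (Submodule.mem_sup_right ?_)
    · refine Submodule.mem_map.2 ⟨x.1, x.1.2, ?_⟩
      rw [LinearMap.mulLeft_apply, hD]
    · refine Submodule.sum_mem _ fun i _ => ?_
      refine Submodule.mem_iSup_of_mem i (Submodule.mem_map.2 ⟨x.2 i, (x.2 i).2, ?_⟩)
      rw [LinearMap.mulLeft_apply, hDi]
  have hcop : ∀ i, IsCoprime ((X - C (r i)) ^ (a i + 1)) (Di i) := by
    intro i
    rw [hDi]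
    refine IsCoprime.prod_right fun j hj => ?_
    refine IsCoprime.pow (isCoprime_X_sub_C_of_isUnit_sub ?_)
    have hij : j ≠ i := (Finset.mem_erase.1 hj).1
    exact (sub_ne_zero.2 (fun h => hij (hr h).symm)).isUnit
  have hDsplit : ∀ i, D = (X - C (r i)) ^ (a i + 1) * Di i := by
    intro i
    rw [hD, hDi]
    exact (Finset.mul_prod_erase Finset.univ (fun j => (X - C (r j)) ^ (a j + 1))
      (Finset.mem_univ i)).symm
  have hdvdDj : ∀ i j, j ≠ i → (X - C (r i)) ^ (a i + 1) ∣ Di j := by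
    intro i j hji
    rw [hDi]
    exact Finset.dvd_prod_of_mem (fun l => (X - C (r l)) ^ (a l + 1))
      (Finset.mem_erase.2 ⟨hji.symm, Finset.mem_univ i⟩)
  have hD0 : D ≠ 0 := by
    rw [hD]
    exact (monic_prod_of_monic _ _ fun j _ => (monic_X_sub_C _).pow _).ne_zero
  have hinj : Function.Injective Φ := by
    rw [injective_iff_map_eq_zero]
    intro x hx
    rw [hΦ] at hx
    have hQ : ∀ i, ((x.2 i : degreeLT k (a i)) : k[X]) = 0 := by
      intro i
      have h1 : (X - C (r i)) ^ (a i + 1) ∣ Di i * ((x.2 i : degreeLT k (a i)) : k[X]) := by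
        have h2 : Di i * ((x.2 i : degreeLT k (a i)) : k[X]) =
            -(D * (x.1 : k[X]) + ∑ j ∈ Finset.univ.erase i,
              Di j * ((x.2 j : degreeLT k (a j)) : k[X])) := by
          rw [← Finset.add_sum_erase Finset.univ
            (fun j => Di j * ((x.2 j : degreeLT k (a j)) : k[X])) (Finset.mem_univ i)] at hx
          linear_combination hx
        rw [h2, dvd_neg]
        refine dvd_add ?_ (Finset.dvd_sum fun j hj => ?_)
        · rw [hDsplit i, mul_assoc]; exact dvd_mul_right _ _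
        · exact dvd_mul_of_dvd_left (hdvdDj i j (Finset.mem_erase.1 hj).1) _
      have h3 : (X - C (r i)) ^ (a i + 1) ∣ ((x.2 i : degreeLT k (a i)) : k[X]) :=
        (hcop i).dvd_of_dvd_mul_left h1
      by_contra hne0
      have h4 : (((x.2 i : degreeLT k (a i)) : k[X])).natDegree < a i :=
        (natDegree_lt_iff_degree_lt hne0).2 (mem_degreeLT.1 (x.2 i).2)
      have h5 := natDegree_le_of_dvd h3 hne0
      rw [(monic_X_sub_C (r i)).natDegree_pow, natDegree_X_sub_C, mul_one] at h5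
      omega
    simp only [hQ, mul_zero, Finset.sum_const_zero, add_zero] at hx
    have hp : ((x.1 : degreeLT k b) : k[X]) = 0 := by
      rcases mul_eq_zero.1 hx with h | h
      · exact absurd h hD0
      · exact h
    exact Prod.ext (Subtype.ext hp) (funext fun i => Subtype.ext (hQ i))
  have h1 := LinearMap.finrank_range_of_inj hinj
  have h2 := Submodule.finrank_mono hrange
  have h3 : Module.finrank k (degreeLT k b × (∀ i : Fin m, degreeLT k (a i))) =
      b + ∑ i, a i := by
    rw [Module.finrank_prod, Module.finrank_pi_fintype k]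
    simp only [finrank_degreeLT]
  omega

/-- upper bound for the dimension of the image of `T` -/
theorem finrank_map_le (r : Fin m → k) (a : Fin m → ℕ) (n : ℕ) (hn : (∑ j, a j) < n + 1) :
    Module.finrank k ((degreeLT k (n + 1)).map (Tl r a)) ≤ n := by
  set f := (Tl r a).domRestrict (degreeLT k (n + 1)) with hf
  have hrange : LinearMap.range f = (degreeLT k (n + 1)).map (Tl r a) := by
    rw [hf, LinearMap.range_domRestrict]
  have h1 := LinearMap.finrank_range_add_finrank_ker f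
  rw [finrank_degreeLT, hrange] at h1
  have hA : A r a ∈ degreeLT k (n + 1) :=
    mem_degreeLT_of_natDegree_lt (by rw [natDegree_A]; exact hn)
  have hker : 0 < Module.finrank k (LinearMap.ker f) := by
    refine Nat.pos_of_ne_zero fun h0 => ?_
    have hbot : LinearMap.ker f = ⊥ := Submodule.finrank_eq_zero.1 h0
    have hinj := LinearMap.ker_eq_bot.1 hbot
    have h2 : f ⟨A r a, hA⟩ = f 0 := by
      rw [map_zero, hf, LinearMap.domRestrict_apply]
      exact Tl_A r a
    have h3 := congrArg (fun x : degreeLT k (n + 1) => (x : k[X])) (hinj h2)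
    exact A_ne_zero r a h3
  omega

/-- the exact description: the span of polar parts is the image under `T` of `k[X]_{≤ N}` -/
theorem Vsp_eq [CharZero k] (r : Fin m → k) (hr : Function.Injective r) (a : Fin m → ℕ)
    (ha : ∀ j, 1 ≤ a j) (b : ℕ) :
    Vsp r a b = (degreeLT k ((∑ j, a j) + b + 1)).map (Tl r a) ∧
      Module.finrank k (Vsp r a b) = (∑ j, a j) + b := by
  have hle := Vsp_le r a ha b
  haveI : FiniteDimensional k ((degreeLT k ((∑ j, a j) + b + 1)).map (Tl r a)) := by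
    infer_instance
  haveI : FiniteDimensional k (Vsp r a b) := Submodule.finiteDimensional_of_le hle
  have h1 := finrank_ge r hr a b
  have h2 := finrank_map_le r a ((∑ j, a j) + b) (by omega)
  have h3 := Submodule.finrank_mono hle
  refine ⟨Submodule.eq_of_le_of_finrank_le hle (by omega), by omega⟩

/-- order lifting at an unmarked point -/
lemma lift_at [CharZero k] (r : Fin m → k) (a : Fin m → ℕ) (q : k) (hq : ∀ j, q ≠ r j)
    (h : k[X]) (n : ℕ) (hT : (X - C q) ^ n ∣ Tl r a h) (hh : (X - C q) ∣ h) :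
    (X - C q) ^ (n + 1) ∣ h := by
  induction n with
  | zero => simpa using hh
  | succ n ih =>
    obtain ⟨g, hg⟩ := ih (dvd_trans (pow_dvd_pow _ (Nat.le_succ n)) hT)
    rw [hg, Tl_mul, derivative_X_sub_C_pow, Nat.add_sub_cancel] at hT
    have h1 : (X - C q) ^ (n + 1) ∣ B r * (C ((n + 1 : ℕ) : k) * (X - C q) ^ n) * g :=
      (dvd_add_left (dvd_mul_right ((X - C q) ^ (n + 1)) (Tl r a g))).1 hT
    have h2 : (X - C q) ∣ B r * C ((n + 1 : ℕ) : k) * g := by
      have e : B r * (C ((n + 1 : ℕ) : k) * (X - C q) ^ n) * g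
          = (X - C q) ^ n * (B r * C ((n + 1 : ℕ) : k) * g) := by ring
      rw [e, pow_succ] at h1
      exact (mul_dvd_mul_iff_left (pow_ne_zero n (X_sub_C_ne_zero q))).1 h1
    rw [dvd_iff_isRoot] at h2
    simp only [IsRoot.def, eval_mul, eval_C] at h2
    have hg0 : g.eval q = 0 := by
      have hm : ((n + 1 : ℕ) : k) ≠ 0 := Nat.cast_ne_zero.2 (Nat.succ_ne_zero n)
      exact (mul_eq_zero.1 h2).resolve_left (mul_ne_zero (eval_B_ne_zero r q hq) hm)
    obtain ⟨g', hg'⟩ := dvd_iff_isRoot.2 hg0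
    exact ⟨g', by rw [hg, hg']; ring⟩

lemma Tl_sub_A (r : Fin m → k) (a : Fin m → ℕ) (h : k[X]) (s : k) :
    Tl r a (h - C s * A r a) = Tl r a h := by
  rw [map_sub, Tl_C_mul, Tl_A, mul_zero, sub_zero]

lemma lift_sub [CharZero k] (r : Fin m → k) (a : Fin m → ℕ) (q : k) (hq : ∀ j, q ≠ r j)
    (h : k[X]) (n : ℕ) (hT : (X - C q) ^ n ∣ Tl r a h) :
    ∃ s : k, (X - C q) ^ (n + 1) ∣ h - C s * A r a := by
  have hD := eval_A_ne_zero r a q hq
  refine ⟨h.eval q / (A r a).eval q, lift_at r a q hq _ n ?_ ?_⟩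
  · rwa [Tl_sub_A]
  · rw [dvd_iff_isRoot, IsRoot.def, eval_sub, eval_mul, eval_C, div_mul_cancel₀ _ hD, sub_self]

lemma natDegree_sub_A_le (r : Fin m → k) (a : Fin m → ℕ) (h : k[X]) (s : k) (N : ℕ)
    (hN : (∑ j, a j) ≤ N) (hd : h.natDegree ≤ N) : (h - C s * A r a).natDegree ≤ N := by
  refine (natDegree_sub_le _ _).trans (max_le hd ?_)
  calc (C s * A r a).natDegree ≤ (A r a).natDegree := natDegree_C_mul_le _ _
    _ ≤ N := by rw [natDegree_A]; exact hN

/-- every member of `Vsp` divisible by `(X - q)^n` is `T` of a multiple of `(X-q)^(n+1)` of degree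
at most `N` -/
theorem exists_lift [CharZero k] (r : Fin m → k) (a : Fin m → ℕ) (ha : ∀ j, 1 ≤ a j) (b : ℕ)
    (q : k) (hq : ∀ j, q ≠ r j) (f : k[X]) (hf : f ∈ Vsp r a b) (n : ℕ)
    (hdvd : (X - C q) ^ n ∣ f) :
    ∃ H : k[X], H.natDegree ≤ (∑ j, a j) + b ∧ (X - C q) ^ (n + 1) ∣ H ∧ Tl r a H = f := by
  obtain ⟨h, hh, rfl⟩ := Submodule.mem_map.1 (Vsp_le r a ha b hf)
  have hhd : h.natDegree ≤ (∑ j, a j) + b := by
    by_cases h0 : h = 0
    · rw [h0, natDegree_zero]; exact Nat.zero_le _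
    · exact Nat.lt_succ_iff.1 ((natDegree_lt_iff_degree_lt h0).2 (mem_degreeLT.1 hh))
  obtain ⟨s, hs⟩ := lift_sub r a q hq h n hdvd
  exact ⟨h - C s * A r a, natDegree_sub_A_le r a h s _ (by omega) hhd, hs, Tl_sub_A r a h s⟩

/-- no nonzero member of `Vsp` is divisible by `(X - q)^N` at an unmarked point -/
theorem inf_eq_bot [CharZero k] (r : Fin m → k) (a : Fin m → ℕ) (ha : ∀ j, 1 ≤ a j) (b : ℕ)
    (q : k) (hq : ∀ j, q ≠ r j) (N : ℕ) (hN : N = (∑ j, a j) + b) :
    Vsp r a b ⊓ (Ideal.span {(X - C q) ^ N}).restrictScalars k = ⊥ := by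
  rw [eq_bot_iff]
  intro f hf
  obtain ⟨hfV, hfI⟩ := Submodule.mem_inf.1 hf
  rw [Submodule.restrictScalars_mem, Ideal.mem_span_singleton] at hfI
  obtain ⟨H, hHd, hHdvd, rfl⟩ := exists_lift r a ha b q hq f hfV N hfI
  have hH0 : H = 0 := by
    refine eq_zero_of_dvd_of_natDegree_lt hHdvd ?_
    rw [(monic_X_sub_C q).natDegree_pow, natDegree_X_sub_C, mul_one]
    omega
  rw [hH0, map_zero]
  exact Submodule.zero_mem _

end Groth.Agent.Lib.Helper6.WronskF
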