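import Mathlib
import Groth.Agent.Lib.Helper6.WronskF

set_option autoImplicit false

namespace Groth.Agent.Lib.Helper6.WronskG

open Polynomial Groth.Agent.Lib.Helper6.WronskF

variable {k : Type*} [Field k] {m : ℕ}

lemma natDegree_le_of_mem_degreeLT_succ {p : k[X]} {n : ℕ} (h : p ∈ degreeLT k (n + 1)) :
    p.natDegree ≤ n := by
  by_cases h0 : p = 0
  · rw [h0, natDegree_zero]; exact Nat.zero_le _
  · exact Nat.lt_succ_iff.1 ((natDegree_lt_iff_degree_lt h0).2 (mem_degreeLT.1 h))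

/-- degree reduction by a polynomial with nonzero `n`-th coefficient -/
lemma reduce (g h : k[X]) (n : ℕ) (hg : g.natDegree ≤ n) (hc : g.coeff n ≠ 0)
    (hh : h.natDegree ≤ n) : (h - C (h.coeff n / g.coeff n) * g).natDegree ≤ n - 1 := by
  rw [natDegree_le_iff_coeff_eq_zero]
  intro j hj
  rw [coeff_sub, coeff_C_mul]
  by_cases hjn : j = n
  · rw [hjn, div_mul_cancel₀ _ hc, sub_self]
  · rw [coeff_eq_zero_of_natDegree_lt (show h.natDegree < j by omega),
      coeff_eq_zero_of_natDegree_lt (show g.natDegree < j by omega), mul_zero, sub_zero]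

lemma natDegree_X_sub_C_pow (q : k) (n : ℕ) : ((X - C q) ^ n).natDegree = n := by
  rw [(monic_X_sub_C q).natDegree_pow, natDegree_X_sub_C, mul_one]

lemma coeff_pred (q : k) (n : ℕ) :
    ((X - C q) ^ (n + 1)).coeff n = -q * ((n + 1 : ℕ) : k) := by
  rw [sub_eq_add_neg, ← C_neg, coeff_X_add_C_pow, Nat.add_sub_cancel_left, pow_one,
    Nat.choose_succ_self_right]

/-- if `V₁ ⊆ T(k[X]_{≤N})` contains `T(k[X]_{≤N-2})` and `T` of polynomials of exact degrees `N-1`
and `N`, then it contains everything -/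
lemma full (r : Fin m → k) (a : Fin m → ℕ) (V₁ : Submodule k k[X]) (N : ℕ)
    (hK : ∀ h : k[X], h.natDegree ≤ N - 2 → Tl r a h ∈ V₁)
    (G₁ G₂ : k[X]) (h1 : G₁.natDegree ≤ N - 1) (c1 : G₁.coeff (N - 1) ≠ 0)
    (h2 : G₂.natDegree ≤ N) (c2 : G₂.coeff N ≠ 0) (t1 : Tl r a G₁ ∈ V₁) (t2 : Tl r a G₂ ∈ V₁) :
    (degreeLT k (N + 1)).map (Tl r a) ≤ V₁ := by
  rintro _ ⟨h, hh, rfl⟩
  have hhd : h.natDegree ≤ N := natDegree_le_of_mem_degreeLT_succ hh
  set h₁ := h - C (h.coeff N / G₂.coeff N) * G₂ with hh₁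
  have hd₁ : h₁.natDegree ≤ N - 1 := reduce G₂ h N h2 c2 hhd
  set h₂ := h₁ - C (h₁.coeff (N - 1) / G₁.coeff (N - 1)) * G₁ with hh₂
  have hd₂ : h₂.natDegree ≤ N - 1 - 1 := reduce G₁ h₁ (N - 1) h1 c1 hd₁
  have e : h = h₂ + C (h₁.coeff (N - 1) / G₁.coeff (N - 1)) * G₁
      + C (h.coeff N / G₂.coeff N) * G₂ := by rw [hh₂, hh₁]; ring
  have : Tl r a h = Tl r a h₂ + C (h₁.coeff (N - 1) / G₁.coeff (N - 1)) * Tl r a G₁
      + C (h.coeff N / G₂.coeff N) * Tl r a G₂ := by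
    conv_lhs => rw [e]
    rw [map_add, map_add, Tl_C_mul, Tl_C_mul]
  show Tl r a h ∈ V₁
  rw [this]
  refine Submodule.add_mem _ (Submodule.add_mem _ (hK h₂ (by omega)) ?_) ?_
  · rw [← smul_eq_C_mul]; exact Submodule.smul_mem _ _ t1
  · rw [← smul_eq_C_mul]; exact Submodule.smul_mem _ _ t2

/-- from a nonzero member of `V₁ ∩ Vsp` divisible by `(X-q)^(N-1)`: `T((X-q)^N) ∈ V₁` -/
lemma pow_mem [CharZero k] (r : Fin m → k) (a : Fin m → ℕ) (ha : ∀ j, 1 ≤ a j) (b : ℕ)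
    (V₁ : Submodule k k[X]) (hV₁ : V₁ ≤ Vsp r a b) (N : ℕ) (hN : N = (∑ j, a j) + b)
    (hN1 : 1 ≤ N) (q : k) (hq : ∀ j, q ≠ r j)
    (hne : V₁ ⊓ (Ideal.span {(X - C q) ^ (N - 1)}).restrictScalars k ≠ ⊥) :
    Tl r a ((X - C q) ^ N) ∈ V₁ := by
  obtain ⟨f, hfM, hf0⟩ := Submodule.exists_mem_ne_zero_of_ne_bot hne
  obtain ⟨hfV, hfI⟩ := Submodule.mem_inf.1 hfM
  rw [Submodule.restrictScalars_mem, Ideal.mem_span_singleton] at hfI
  obtain ⟨H, hHd, hHdvd, hTH⟩ := exists_lift r a ha b q hq f (hV₁ hfV) (N - 1) hfI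
  rw [Nat.sub_add_cancel hN1] at hHdvd
  have hH0 : H ≠ 0 := by
    rintro rfl; rw [map_zero] at hTH; exact hf0 hTH.symm
  obtain ⟨g, rfl⟩ := hHdvd
  have hg0 : g ≠ 0 := by rintro rfl; exact hH0 (mul_zero _)
  rw [natDegree_mul (pow_ne_zero _ (X_sub_C_ne_zero q)) hg0, natDegree_X_sub_C_pow] at hHd
  obtain ⟨c, rfl⟩ : ∃ c, g = C c := ⟨g.coeff 0, eq_C_of_natDegree_eq_zero (by omega)⟩
  have hc : c ≠ 0 := by rintro rfl; exact hg0 C_0
  have e : Tl r a ((X - C q) ^ N) = c⁻¹ • f := by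
    rw [← hTH, mul_comm, Tl_C_mul, smul_eq_C_mul, ← mul_assoc, ← C_mul, inv_mul_cancel₀ hc, C_1,
      one_mul]
  rw [e]
  exact Submodule.smul_mem _ _ hfV

theorem main (k : Type*) [Field k] [CharZero k] (m : ℕ) (r : Fin m → k)
    (hr : Function.Injective r)
    (a : Fin m → ℕ) (ha : ∀ j, 1 ≤ a j) (b : ℕ) (hb : 1 ≤ b) (N d : ℕ)
    (hN : N = (∑ j, a j) + b) (hd : d + 1 = (∑ j, (a j + 1)) + b)
    (V : Submodule k (Polynomial k))
    (hV : V = (Polynomial.degreeLT k b).map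
        (LinearMap.mulLeft k (∏ j, (X - C (r j)) ^ (a j + 1))) ⊔
      ⨆ i, (Polynomial.degreeLT k (a i)).map
        (LinearMap.mulLeft k (∏ j ∈ Finset.univ.erase i, (X - C (r j)) ^ (a j + 1))))
    (V₁ : Submodule k (Polynomial k)) (hV₁ : V₁ ≤ V) (hfin : Module.finrank k ↥V₁ + 1 = N)
    (hU : (Polynomial.degreeLT k (b - 2)).map
        (LinearMap.mulLeft k (∏ j, (X - C (r j)) ^ (a j + 1))) ⊔
      (⨆ i, (Polynomial.degreeLT k (a i)).map
        (LinearMap.mulLeft k (∏ j ∈ Finset.univ.erase i, (X - C (r j)) ^ (a j + 1)))) ≤ V₁) :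
    (∀ q : k, (∀ j, q ≠ r j) →
      (V₁ ⊓ (Ideal.span {(X - C q) ^ N}).restrictScalars k) = ⊥ ∧
      Module.finrank k ↥(V₁ ⊓ (Ideal.span {(X - C q) ^ (N - 2)}).restrictScalars k) ≤ 1) ∧
    (∀ q q' : k, (∀ j, q ≠ r j) → (∀ j, q' ≠ r j) →
      (V₁ ⊓ (Ideal.span {(X - C q) ^ (N - 1)}).restrictScalars k) ≠ ⊥ →
      (V₁ ⊓ (Ideal.span {(X - C q') ^ (N - 1)}).restrictScalars k) ≠ ⊥ → q = q') := by
  have hV' : V = Vsp r a b := hV
  have hU' : Vsp r a (b - 2) ≤ V₁ := hU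
  subst hV'
  obtain ⟨hVeq, hVfin⟩ := Vsp_eq r hr a ha b
  obtain ⟨hUeq, -⟩ := Vsp_eq r hr a ha (b - 2)
  rw [← hN] at hVeq hVfin
  have hN1 : 1 ≤ N := by omega
  haveI : FiniteDimensional k (Vsp r a b) := by rw [hVeq]; infer_instance
  haveI : FiniteDimensional k V₁ := Submodule.finiteDimensional_of_le hV₁
  -- T(k[X]_{≤ N-2}) ⊆ V₁
  have hK : ∀ h : k[X], h.natDegree ≤ N - 2 → Tl r a h ∈ V₁ := by
    intro h hh
    apply hU'
    rw [hUeq]
    exact Submodule.mem_map.2 ⟨h, mem_degreeLT_of_natDegree_lt (by omega), rfl⟩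
  -- V₁ cannot contain everything
  have hnot : ¬ (degreeLT k (N + 1)).map (Tl r a) ≤ V₁ := by
    intro hle
    rw [← hVeq] at hle
    have := Submodule.finrank_mono hle
    omega
  refine ⟨fun q hq => ⟨?_, ?_⟩, ?_⟩
  · rw [eq_bot_iff, ← inf_eq_bot r a ha b q hq N hN]
    exact inf_le_inf_right _ hV₁
  · by_contra hcon
    have c2 : 2 ≤ Module.finrank k
        ↥(V₁ ⊓ (Ideal.span {(X - C q) ^ (N - 2)}).restrictScalars k) := by omega
    have hN2 : 3 ≤ N := by
      by_contra hlt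
      have := Submodule.finrank_mono
        (inf_le_left : V₁ ⊓ (Ideal.span {(X - C q) ^ (N - 2)}).restrictScalars k ≤ V₁)
      omega
    set G : k[X] := (X - C q) ^ (N - 1) with hG
    set S : Submodule k k[X] :=
      (degreeLT k 2).map ((Tl r a).comp (LinearMap.mulLeft k G)) with hS
    have hMS : V₁ ⊓ (Ideal.span {(X - C q) ^ (N - 2)}).restrictScalars k ≤ S := by
      intro f hfM
      obtain ⟨hfV, hfI⟩ := Submodule.mem_inf.1 hfM
      rw [Submodule.restrictScalars_mem, Ideal.mem_span_singleton] at hfI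
      obtain ⟨H, hHd, hHdvd, hTH⟩ := exists_lift r a ha b q hq f (hV₁ hfV) (N - 2) hfI
      rw [show N - 2 + 1 = N - 1 by omega] at hHdvd
      obtain ⟨g, rfl⟩ := hHdvd
      refine Submodule.mem_map.2 ⟨g, ?_, ?_⟩
      · by_cases hg0 : g = 0
        · rw [hg0]; exact Submodule.zero_mem _
        · apply mem_degreeLT_of_natDegree_lt
          rw [natDegree_mul (pow_ne_zero _ (X_sub_C_ne_zero q)) hg0,
            natDegree_X_sub_C_pow] at hHd
          omega
      · rw [LinearMap.comp_apply, LinearMap.mulLeft_apply, hG, hTH]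
    have hSfin : Module.finrank k S ≤ 2 := by
      have := Submodule.finrank_map_le ((Tl r a).comp (LinearMap.mulLeft k G)) (degreeLT k 2)
      rwa [finrank_degreeLT] at this
    have hMeq := Submodule.eq_of_le_of_finrank_le hMS (by omega)
    have hS1 : Tl r a G ∈ V₁ := by
      have : Tl r a G ∈ S := by
        refine Submodule.mem_map.2 ⟨1, mem_degreeLT_of_natDegree_lt (by simp), ?_⟩
        rw [LinearMap.comp_apply, LinearMap.mulLeft_apply, mul_one]
      rw [← hMeq] at this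
      exact (Submodule.mem_inf.1 this).1
    have hS2 : Tl r a (G * X) ∈ V₁ := by
      have : Tl r a (G * X) ∈ S := by
        refine Submodule.mem_map.2 ⟨X, mem_degreeLT_of_natDegree_lt (by simp), ?_⟩
        rw [LinearMap.comp_apply, LinearMap.mulLeft_apply]
      rw [← hMeq] at this
      exact (Submodule.mem_inf.1 this).1
    have hGm : G.Monic := (monic_X_sub_C q).pow _
    have hGd : G.natDegree = N - 1 := natDegree_X_sub_C_pow q _
    have hGXm : (G * X).Monic := hGm.mul monic_X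
    have hGXd : (G * X).natDegree = N := by
      rw [hGm.natDegree_mul monic_X, hGd, natDegree_X]; omega
    refine hnot (full r a V₁ N hK G (G * X) hGd.le ?_ hGXd.le ?_ hS1 hS2)
    · have := hGm.coeff_natDegree; rw [hGd] at this; rw [this]; exact one_ne_zero
    · have := hGXm.coeff_natDegree; rw [hGXd] at this; rw [this]; exact one_ne_zero
  · intro q q' hq hq' hne hne'
    by_contra hqq
    have t1 := pow_mem r a ha b V₁ hV₁ N hN hN1 q hq hne
    have t2 := pow_mem r a ha b V₁ hV₁ N hN hN1 q' hq' hne'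
    set G₂ : k[X] := (X - C q) ^ N with hG₂
    set G₁ : k[X] := (X - C q) ^ N - (X - C q') ^ N with hG₁
    have hm2 : G₂.Monic := (monic_X_sub_C q).pow _
    have hd2 : G₂.natDegree = N := natDegree_X_sub_C_pow q _
    have hm2' : ((X - C q') ^ N).Monic := (monic_X_sub_C q').pow _
    have hd2' : ((X - C q') ^ N).natDegree = N := natDegree_X_sub_C_pow q' _
    have hd1 : G₁.natDegree ≤ N - 1 := by
      rw [natDegree_le_iff_coeff_eq_zero]
      intro j hj
      rw [hG₁, coeff_sub]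
      by_cases hjN : j = N
      · have e1 := hm2.coeff_natDegree
        have e2 := hm2'.coeff_natDegree
        rw [hd2] at e1; rw [hd2'] at e2
        rw [hjN, e1, e2, sub_self]
      · rw [coeff_eq_zero_of_natDegree_lt (show ((X - C q) ^ N).natDegree < j by
            rw [natDegree_X_sub_C_pow]; omega),
          coeff_eq_zero_of_natDegree_lt (show ((X - C q') ^ N).natDegree < j by
            rw [natDegree_X_sub_C_pow]; omega), sub_self]
    have hc1 : G₁.coeff (N - 1) ≠ 0 := by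
      obtain ⟨n, rfl⟩ : ∃ n, N = n + 1 := ⟨N - 1, by omega⟩
      rw [hG₁, coeff_sub, Nat.add_sub_cancel, coeff_pred, coeff_pred]
      have hn : ((n + 1 : ℕ) : k) ≠ 0 := Nat.cast_ne_zero.2 (Nat.succ_ne_zero n)
      intro h0
      have : (q' - q) * ((n + 1 : ℕ) : k) = 0 := by linear_combination h0
      rcases mul_eq_zero.1 this with h | h
      · exact hqq (sub_eq_zero.1 h).symm
      · exact hn h
    have hc2 : G₂.coeff N ≠ 0 := by
      have := hm2.coeff_natDegree; rw [hd2] at this; rw [this]; exact one_ne_zero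
    have t1' : Tl r a G₁ ∈ V₁ := by
      rw [hG₁, map_sub]; exact Submodule.sub_mem _ t1 t2
    exact hnot (full r a V₁ N hK G₁ G₂ hd1 hc1 hd2.le hc2 t1' t1)

end Groth.Agent.Lib.Helper6.WronskG
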