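import Mathlib
import Groth.Agent.Lib.Helper6.WronskG

set_option autoImplicit false

namespace Groth.Agent.Lib.Helper6.WronskH

open Polynomial Groth.Agent.Lib.Helper6.WronskF Groth.Agent.Lib.Helper6.WronskG

variable {k : Type*} [Field k] {m : ℕ}

lemma eq_of_natDegree_le_one (g : k[X]) (hg : g.natDegree ≤ 1) (p : k) :
    g = C (g.coeff 1) * (X - C p) + C (g.eval p) := by
  have h := eq_X_add_C_of_natDegree_le_one hg
  have e : g.eval p = g.coeff 1 * p + g.coeff 0 := by
    conv_lhs => rw [h]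
    simp
  rw [e, C_add, C_mul]
  conv_lhs => rw [h]
  ring

/-- evaluation of `T((X-q)^(n+1))` at `p` -/
lemma eval_Tl_pow (r : Fin m → k) (a : Fin m → ℕ) (q p : k) (n : ℕ) :
    (Tl r a ((X - C q) ^ (n + 1))).eval p
      = (p - q) ^ n * (((n + 1 : ℕ) : k) * (B r).eval p - (p - q) * (L r a).eval p) := by
  rw [Tl_apply, derivative_X_sub_C_pow, Nat.add_sub_cancel]
  simp only [eval_sub, eval_mul, eval_pow, eval_X, eval_C]
  ring

theorem main (k : Type*) [Field k] [CharZero k] (m : ℕ) (r : Fin m → k)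
    (hr : Function.Injective r)
    (a : Fin m → ℕ) (ha : ∀ j, 1 ≤ a j) (b : ℕ) (hb : 1 ≤ b) (N d : ℕ)
    (hN : N = (∑ j, a j) + b) (hd : d + 1 = (∑ j, (a j + 1)) + b)
    (V : Submodule k (Polynomial k))
    (hV : V = (Polynomial.degreeLT k b).map
        (LinearMap.mulLeft k (∏ j, (X - C (r j)) ^ (a j + 1))) ⊔
      ⨆ i, (Polynomial.degreeLT k (a i)).map
        (LinearMap.mulLeft k (∏ j ∈ Finset.univ.erase i, (X - C (r j)) ^ (a j + 1))))
    (p : k) (hp : ∀ j, p ≠ r j) (V₁ : Submodule k (Polynomial k))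
    (hV₁ : V₁ = V ⊓ (Ideal.span {X - C p}).restrictScalars k) :
    Module.finrank k ↥V₁ + 1 = N ∧
    (V₁ ⊓ (Ideal.span {(X - C p) ^ N}).restrictScalars k) = ⊥ ∧
    (∀ q : k, (∀ j, q ≠ r j) → q ≠ p →
      (V₁ ⊓ (Ideal.span {(X - C q) ^ N}).restrictScalars k) = ⊥ ∧
      Module.finrank k ↥(V₁ ⊓ (Ideal.span {(X - C q) ^ (N - 2)}).restrictScalars k) ≤ 1) ∧
    (∀ q q' : k, (∀ j, q ≠ r j) → q ≠ p → (∀ j, q' ≠ r j) → q' ≠ p →
      (V₁ ⊓ (Ideal.span {(X - C q) ^ (N - 1)}).restrictScalars k) ≠ ⊥ →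
      (V₁ ⊓ (Ideal.span {(X - C q') ^ (N - 1)}).restrictScalars k) ≠ ⊥ → q = q') := by
  have hV' : V = Vsp r a b := hV
  subst hV'
  obtain ⟨hVeq, hVfin⟩ := Vsp_eq r hr a ha b
  rw [← hN] at hVeq hVfin
  have hN1 : 1 ≤ N := by omega
  haveI : FiniteDimensional k (Vsp r a b) := by rw [hVeq]; infer_instance
  have hle : V₁ ≤ Vsp r a b := by rw [hV₁]; exact inf_le_left
  haveI : FiniteDimensional k V₁ := Submodule.finiteDimensional_of_le hle
  have hmem1 : ∀ f, f ∈ V₁ → f.eval p = 0 := by
    intro f hf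
    rw [hV₁] at hf
    have := (Submodule.mem_inf.1 hf).2
    rw [Submodule.restrictScalars_mem, Ideal.mem_span_singleton, dvd_iff_isRoot] at this
    exact this
  -- (a)
  have hdim : Module.finrank k ↥V₁ + 1 = N := by
    set φ : Vsp r a b →ₗ[k] k := (leval p).domRestrict (Vsp r a b) with hφ
    have hker : LinearMap.ker φ = Submodule.comap (Vsp r a b).subtype V₁ := by
      ext ⟨x, hx⟩
      rw [LinearMap.mem_ker, Submodule.mem_comap, hV₁, Submodule.mem_inf,
        Submodule.restrictScalars_mem, Ideal.mem_span_singleton, dvd_iff_isRoot]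
      show x.eval p = 0 ↔ _
      exact ⟨fun h => ⟨hx, h⟩, fun h => h.2⟩
    have hsurj : Function.Surjective φ := by
      intro c
      have hD : (∏ j, (X - C (r j)) ^ (a j + 1)) ∈ Vsp r a b := by
        unfold Vsp
        refine Submodule.mem_sup_left (Submodule.mem_map.2 ⟨1, ?_, ?_⟩)
        · apply mem_degreeLT_of_natDegree_lt; rw [natDegree_one]; omega
        · rw [LinearMap.mulLeft_apply, mul_one]
      have hDp : (∏ j, (X - C (r j)) ^ (a j + 1)).eval p ≠ 0 := by
        rw [D_eq, eval_mul]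
        exact mul_ne_zero (eval_A_ne_zero r a p hp) (eval_B_ne_zero r p hp)
      refine ⟨⟨(c / (∏ j, (X - C (r j)) ^ (a j + 1)).eval p) •
        (∏ j, (X - C (r j)) ^ (a j + 1)), Submodule.smul_mem _ _ hD⟩, ?_⟩
      show ((c / (∏ j, (X - C (r j)) ^ (a j + 1)).eval p) •
        (∏ j, (X - C (r j)) ^ (a j + 1))).eval p = c
      rw [eval_smul, smul_eq_mul, div_mul_cancel₀ _ hDp]
    have h1 := LinearMap.finrank_range_add_finrank_ker φ
    rw [LinearMap.range_eq_top.2 hsurj, finrank_top, Module.finrank_self, hker,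
      (Submodule.comapSubtypeEquivOfLe hle).finrank_eq, hVfin] at h1
    omega
  refine ⟨hdim, ?_, fun q hq hqp => ⟨?_, ?_⟩, ?_⟩
  · rw [eq_bot_iff, ← inf_eq_bot r a ha b p hp N hN]
    exact inf_le_inf_right _ hle
  · rw [eq_bot_iff, ← inf_eq_bot r a ha b q hq N hN]
    exact inf_le_inf_right _ hle
  · by_cases hN2 : N ≤ 2
    · have := Submodule.finrank_mono
        (inf_le_left : V₁ ⊓ (Ideal.span {(X - C q) ^ (N - 2)}).restrictScalars k ≤ V₁)
      omega
    set G : k[X] := (X - C q) ^ (N - 1) with hG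
    have hGp : G.eval p ≠ 0 := by
      rw [hG, eval_pow, eval_sub, eval_X, eval_C]
      exact pow_ne_zero _ (sub_ne_zero.2 (Ne.symm hqp))
    have hBp := eval_B_ne_zero r p hp
    set u : k := (Tl r a G).eval p with hu
    set v : k := -((B r).eval p * G.eval p) with hv
    have hv0 : v ≠ 0 := neg_ne_zero.2 (mul_ne_zero hBp hGp)
    have hTX : (Tl r a (G * (X - C p))).eval p = -v := by
      rw [mul_comm, Tl_mul]
      simp only [derivative_sub, derivative_X, derivative_C, sub_zero, mul_one, eval_add,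
        eval_mul, eval_sub, eval_X, eval_C, sub_self, zero_mul, add_zero, hv, neg_neg]
    have hMS : V₁ ⊓ (Ideal.span {(X - C q) ^ (N - 2)}).restrictScalars k
        ≤ Submodule.span k (({Tl r a (G * (C u * (X - C p) + C v))} : Finset k[X]) : Set k[X]) := by
      intro f hfM
      obtain ⟨hfV, hfI⟩ := Submodule.mem_inf.1 hfM
      rw [Submodule.restrictScalars_mem, Ideal.mem_span_singleton] at hfI
      obtain ⟨H, hHd, hHdvd, hTH⟩ := exists_lift r a ha b q hq f (hle hfV) (N - 2) hfI
      rw [show N - 2 + 1 = N - 1 by omega] at hHdvd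
      obtain ⟨g, rfl⟩ := hHdvd
      have hgd : g.natDegree ≤ 1 := by
        by_cases hg0 : g = 0
        · rw [hg0, natDegree_zero]; exact Nat.zero_le _
        · rw [natDegree_mul (pow_ne_zero _ (X_sub_C_ne_zero q)) hg0,
            natDegree_X_sub_C_pow] at hHd
          omega
      have hg := eq_of_natDegree_le_one g hgd p
      set u' := g.coeff 1 with hu'
      set v' := g.eval p with hv'
      have hf0 := hmem1 f hfV
      have e1 : Tl r a (G * g) = C u' * Tl r a (G * (X - C p)) + C v' * Tl r a G := by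
        conv_lhs => rw [hg]
        rw [mul_add, map_add, ← mul_assoc, mul_comm G (C u'), mul_assoc, Tl_C_mul,
          mul_comm G (C v'), Tl_C_mul]
      rw [← hTH, ← hG, e1, eval_add, eval_mul, eval_mul, eval_C, eval_C, hTX, ← hu] at hf0
      -- hf0 : u' * -v + v' * u = 0
      have hrel : u' = v' / v * u := by
        field_simp
        linear_combination -hf0
      have e2 : g = C (v' / v) * (C u * (X - C p) + C v) := by
        conv_lhs => rw [hg, hrel]
        have : C (v' / v) * C v = C v' := by rw [← C_mul, div_mul_cancel₀ _ hv0]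
        rw [C_mul]
        linear_combination -this
      have e3 : f = (v' / v) • Tl r a (G * (C u * (X - C p) + C v)) := by
        rw [← hTH, ← hG]
        conv_lhs => rw [e2]
        rw [← mul_assoc, mul_comm G (C (v' / v)), mul_assoc, Tl_C_mul, smul_eq_C_mul]
      rw [e3]
      exact Submodule.smul_mem _ _ (Submodule.subset_span (by simp))
    have h1 := Submodule.finrank_mono hMS
    have h2 : Module.finrank k (Submodule.span k
        (({Tl r a (G * (C u * (X - C p) + C v))} : Finset k[X]) : Set k[X])) ≤ 1 := by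
      have := finrank_span_finset_le_card
        (R := k) ({Tl r a (G * (C u * (X - C p) + C v))} : Finset k[X])
      rwa [Finset.card_singleton] at this
    exact h1.trans h2
  · intro q q' hq hqp hq' hqp' hne hne'
    have t1 := hmem1 _ (pow_mem r a ha b V₁ hle N hN hN1 q hq hne)
    have t2 := hmem1 _ (pow_mem r a ha b V₁ hle N hN hN1 q' hq' hne')
    obtain ⟨n, rfl⟩ : ∃ n, N = n + 1 := ⟨N - 1, by omega⟩
    rw [eval_Tl_pow] at t1 t2
    have hpq : (p - q) ^ n ≠ 0 := pow_ne_zero _ (sub_ne_zero.2 (Ne.symm hqp))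
    have hpq' : (p - q') ^ n ≠ 0 := pow_ne_zero _ (sub_ne_zero.2 (Ne.symm hqp'))
    have s1 := (mul_eq_zero.1 t1).resolve_left hpq
    have s2 := (mul_eq_zero.1 t2).resolve_left hpq'
    have hBp := eval_B_ne_zero r p hp
    have hn : ((n + 1 : ℕ) : k) ≠ 0 := Nat.cast_ne_zero.2 (Nat.succ_ne_zero n)
    have hL : (L r a).eval p ≠ 0 := by
      intro h0
      rw [h0, mul_zero, sub_zero] at s1
      exact (mul_ne_zero hn hBp) s1
    have : (q - q') * (L r a).eval p = 0 := by linear_combination s1 - s2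
    exact sub_eq_zero.1 ((mul_eq_zero.1 this).resolve_right hL)

end Groth.Agent.Lib.Helper6.WronskH
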