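import Mathlib
import Groth.Agent.Lib.Helper12.ChevalleyCor
import Groth.Agent.Lib.Helper14.FlatOpen.Stalk
import Groth.Agent.Lib.Helper28.GenFlatScheme
import Groth.Agent.Lib.Helper3.QProj

/-! Flat locus and finite-fibre locus of a proper morphism `Z ⟶ W` of integral schemes of the same
dimension, of finite type over a field. -/

set_option autoImplicit false
set_option linter.style.haveILetI false

namespace Groth.Agent.Lib.Helper6.ZCorrLoci

open AlgebraicGeometry CategoryTheory CategoryTheory.Limits TopologicalSpace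

universe u

/-- A quasi-compact scheme locally of finite type over a Noetherian ring, of dimension `≤ 0`,
has finitely many points. -/
theorem finite_of_dim_le_zero {F : Scheme.{u}} (R : CommRingCat.{u}) [IsNoetherianRing R]
    (p : F ⟶ Spec R) [LocallyOfFiniteType p] [CompactSpace F]
    (h : topologicalKrullDim F ≤ 0) : Finite F := by
  obtain ⟨s, hs, hcover⟩ := isCompact_iff_finite_and_eq_biUnion_affineOpens.mp
    (show IsCompact (X := F) ((⊤ : F.Opens) : Set F) from isCompact_univ)
  have hfin : ∀ U : F.affineOpens, ((U : F.Opens) : Set F).Finite := by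
    intro U
    have hU : IsAffineOpen (U : F.Opens) := U.2
    have e : (U : F.Opens) ≤ p ⁻¹ᵁ ⊤ := by simp
    have hft : (p.appLE ⊤ U e).hom.FiniteType :=
      p.finiteType_appLE (isAffineOpen_top _) hU e
    haveI : IsNoetherianRing Γ(Spec R, ⊤) :=
      isNoetherianRing_of_ringEquiv R (Scheme.ΓSpecIso R).symm.commRingCatIsoToRingEquiv
    algebraize [(p.appLE ⊤ U e).hom]
    haveI : IsNoetherianRing Γ(F, U) := Algebra.FiniteType.isNoetherianRing Γ(Spec R, ⊤) _
    have hdim : ringKrullDim Γ(F, U) ≤ 0 := by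
      rw [← PrimeSpectrum.topologicalKrullDim_eq_ringKrullDim]
      exact (hU.fromSpec.isOpenEmbedding.isInducing.topologicalKrullDim_le).trans h
    haveI : Ring.KrullDimLE 0 Γ(F, U) := Ring.krullDimLE_iff.mpr (by simpa using hdim)
    haveI : IsArtinianRing Γ(F, U) := isArtinianRing_iff_krullDimLE_zero.mpr inferInstance
    haveI : Finite ↥(Spec Γ(F, U)) := inferInstanceAs (Finite (PrimeSpectrum Γ(F, U)))
    have : ((U : F.Opens) : Set F) = Set.range hU.fromSpec := hU.range_fromSpec.symm
    rw [this]
    exact Set.finite_range _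
  have huniv : (Set.univ : Set F) = ⋃ i ∈ s, ((i : F.Opens) : Set F) := by
    have := congrArg (fun V : F.Opens => (V : Set F)) hcover
    simpa using this
  have : (Set.univ : Set F).Finite := by
    rw [huniv]
    exact hs.biUnion (fun U _ => hfin U)
  exact Set.finite_univ_iff.mp this

/-- A morphism locally of finite type to a locally Noetherian scheme is locally of finite
presentation. -/
theorem locallyOfFinitePresentation_of_isLocallyNoetherian {X Y : Scheme.{u}} (f : X ⟶ Y)
    [IsLocallyNoetherian Y] [LocallyOfFiniteType f] : LocallyOfFinitePresentation f := by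
  rw [HasRingHomProperty.iff_appLE (P := @LocallyOfFinitePresentation)]
  intro V U e
  haveI : IsNoetherianRing Γ(Y, V.1) := IsLocallyNoetherian.component_noetherian V
  exact RingHom.FinitePresentation.of_finiteType.mp
    (HasRingHomProperty.appLE (P := @LocallyOfFiniteType) f inferInstance V U e)

set_option backward.isDefEq.respectTransparency.types false in
/-- A surjective finite type morphism from an irreducible scheme to a scheme of the same dimension
(both locally of finite type over a field) has a finite fibre. -/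
theorem exists_finite_fibre (k : Type u) [Field k] {Z W : Scheme.{u}}
    (q : W ⟶ Spec (CommRingCat.of k)) [LocallyOfFiniteType q] (π : Z ⟶ W)
    [LocallyOfFiniteType π] [QuasiCompact π] [IrreducibleSpace Z] (n : ℕ)
    (hZ : topologicalKrullDim Z = n) (hW : topologicalKrullDim W = n)
    (hs : Set.range π.base = Set.univ) : ∃ w : W, (π ⁻¹' {w}).Finite := by
  haveI : LocallyOfFiniteType (π ≫ q) := inferInstance
  have hb : topologicalKrullDim (closure (Set.range π.base)) = n := by
    rw [hs, closure_univ]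
    exact (IsHomeomorph.topologicalKrullDim_eq _ (Homeomorph.Set.univ W).isHomeomorph).trans hW
  obtain ⟨-, h2, h3⟩ := Groth.Agent.Lib.Helper12.ChevalleyCor.fibreDimAt_of_irreducible_over_field
    k (π ≫ q) q π rfl n n hZ hb
  obtain ⟨z, hz⟩ := h3.nonempty
  have hξ : FlatMor.fibreDimAt π (genericPoint Z) = ((n - n : ℕ) : WithBot ℕ∞) :=
    ((genericPoint_spec Z).specializes (Set.mem_univ z)).mem_open h2 hz
  obtain ⟨m, hm1, hm2⟩ := Groth.Agent.Lib.Helper12.ChevalleyCor.exists_dim_generic_fiber π
  have hm : FlatMor.fibreDimAt π (genericPoint Z) = m := hm2 _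
  have hdim : topologicalKrullDim (π.fiber (π.base (genericPoint Z))) ≤ 0 := by
    rw [hm1, ← hm, hξ, Nat.sub_self]
    simp
  refine ⟨π.base (genericPoint Z), ?_⟩
  haveI : LocallyOfFiniteType (π.fiberToSpecResidueField (π.base (genericPoint Z))) :=
    MorphismProperty.pullback_snd _ _ inferInstance
  haveI : Finite (π.fiber (π.base (genericPoint Z))) :=
    finite_of_dim_le_zero (W.residueField (π.base (genericPoint Z)))
      (π.fiberToSpecResidueField (π.base (genericPoint Z))) hdim
  have := (π.fiberHomeo (π.base (genericPoint Z))).finite_iff.mp inferInstance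
  exact Set.toFinite _

set_option backward.isDefEq.respectTransparency.types false in
theorem main (k : Type u) [Field k] {W X Z : Scheme.{u}} (pW : W ⟶ Spec (CommRingCat.of k))
    (pX : X ⟶ Spec (CommRingCat.of k)) [IsIntegral W] [LocallyOfFiniteType pW]
    (n : ℕ) (hdimW : topologicalKrullDim W = n) [IsProper pX]
    (i : Z ⟶ pullback pX pW) [IsClosedImmersion i] [IsIntegral Z]
    (hdimZ : topologicalKrullDim Z = n) :
    (IsOpen {w : W | ∀ z : Z, (i ≫ pullback.snd pX pW) z = w →
        ((i ≫ pullback.snd pX pW).stalkMap z).hom.Flat} ∧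
      {w : W | ∀ z : Z, (i ≫ pullback.snd pX pW) z = w →
        ((i ≫ pullback.snd pX pW).stalkMap z).hom.Flat}.Nonempty) ∧
    ∃ U : W.Opens, (U : Set W) = {w : W | ((i ≫ pullback.snd pX pW) ⁻¹' {w}).Finite} ∧
      (U : Set W).Nonempty ∧ IsFinite ((i ≫ pullback.snd pX pW) ∣_ U) := by
  obtain ⟨π, hπ⟩ : ∃ π : Z ⟶ W, π = i ≫ pullback.snd pX pW := ⟨_, rfl⟩
  haveI : IsProper (pullback.snd pX pW) := MorphismProperty.pullback_snd _ _ inferInstance
  haveI : IsProper π := by rw [hπ]; infer_instance
  rw [← hπ]
  haveI : IsLocallyNoetherian W := LocallyOfFiniteType.isLocallyNoetherian pW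
  haveI : LocallyOfFinitePresentation π := locallyOfFinitePresentation_of_isLocallyNoetherian π
  refine ⟨⟨?_, ?_⟩, ?_⟩
  · -- the flat locus is open
    have hNF : IsClosed ({z : Z | (π.stalkMap z).hom.Flat}ᶜ) :=
      (Groth.Agent.Lib.Helper14.FlatOpen.isOpen_flat_stalkMap π).isClosed_compl
    have hcl := π.isClosedMap _ hNF
    have : {w : W | ∀ z : Z, π z = w → (π.stalkMap z).hom.Flat} =
        (π '' ({z : Z | (π.stalkMap z).hom.Flat}ᶜ))ᶜ := by
      ext w
      constructor
      · rintro h ⟨z, hz, hzw⟩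
        exact hz (h z hzw)
      · intro h z hzw
        by_contra hz
        exact h ⟨z, hz, hzw⟩
    rw [this]
    exact hcl.isOpen_compl
  · -- the flat locus is nonempty
    obtain ⟨U, hUd, hUf, -⟩ := Groth.Agent.Lib.Helper28.GenFlat.generic_flat π
    obtain ⟨w, hw⟩ := hUd.nonempty
    refine ⟨w, fun z hz => ?_⟩
    have hzU : z ∈ π ⁻¹ᵁ U := by simpa [Scheme.Hom.mem_preimage, hz] using hw
    have h1 := Flat.stalkMap (π ∣_ U) ⟨z, hzU⟩
    exact (RingHom.Flat.respectsIso.arrow_mk_iso_iff
      (morphismRestrictStalkMap π U ⟨z, hzU⟩)).mp h1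
  · -- the finite locus
    have hfib : ∀ (V : W.Opens) (w : W) (hw : w ∈ V), ((π ∣_ V) ⁻¹' {⟨w, hw⟩}).Finite →
        (π ⁻¹' {w}).Finite := by
      intro V w hw hfin
      refine (hfin.image (π ⁻¹ᵁ V).ι).subset ?_
      intro z hz
      have hz' : π z = w := hz
      have hzV : z ∈ π ⁻¹ᵁ V := by simpa [Scheme.Hom.mem_preimage, hz'] using hw
      refine ⟨⟨z, hzV⟩, ?_, rfl⟩
      show (π ∣_ V) ⟨z, hzV⟩ = ⟨w, hw⟩
      apply Subtype.ext
      exact (morphismRestrict_base_coe π V ⟨z, hzV⟩).trans hz'
    have hT : IsOpen {w : W | (π ⁻¹' {w}).Finite} := by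
      refine isOpen_iff_forall_mem_open.mpr fun w hw => ?_
      obtain ⟨V, hwV, hV⟩ := exists_isFinite_morphismRestrict_of_finite_preimage_singleton π w hw
      refine ⟨V, fun w' hw' => ?_, V.2, hwV⟩
      exact hfib V w' hw' ((π ∣_ V).finite_preimage_singleton ⟨w', hw'⟩)
    refine ⟨⟨_, hT⟩, rfl, ?_, ?_⟩
    · by_cases hs : Set.range π.base = Set.univ
      · obtain ⟨w, hw⟩ := exists_finite_fibre k pW π n hdimZ hdimW hs
        exact ⟨w, hw⟩
      · obtain ⟨w, hw⟩ := (Set.ne_univ_iff_exists_notMem _).mp hs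
        refine ⟨w, ?_⟩
        show (π ⁻¹' {w}).Finite
        convert Set.finite_empty
        ext z
        simp only [Set.mem_preimage, Set.mem_singleton_iff, Set.mem_empty_iff_false, iff_false]
        intro hz
        exact hw ⟨z, hz⟩
    · haveI : LocallyQuasiFinite (π ∣_ (⟨_, hT⟩ : W.Opens)) := by
        refine LocallyQuasiFinite.of_finite_preimage_singleton _ fun x => ?_
        have hx : (π ⁻¹' {x.1}).Finite := x.2
        refine (hx.preimage
          ((π ⁻¹ᵁ (⟨_, hT⟩ : W.Opens)).ι.isOpenEmbedding.injective.injOn)).subset ?_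
        intro z hz
        have h1 := morphismRestrict_base_coe π (⟨_, hT⟩ : W.Opens) z
        have h2 : (π ∣_ (⟨_, hT⟩ : W.Opens)) z = x := hz
        rw [h2] at h1
        exact h1.symm
      exact IsFinite.of_isProper_of_locallyQuasiFinite _

end Groth.Agent.Lib.Helper6.ZCorrLoci
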